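import Cfsg.Agent.Nodes.Chart
import Cfsg.Agent.TitsThree.CharExport

/-!
# A simple group with a chart of rank at least 3 is of Lie type (project CIT, end of S1310)

* `Chart.n_mem`, `Chart.rgd` : the root group datum of a chart lives inside `L`;
* `Chart.bn` : the (B,N)-pair of `L`;
* `isLieTypeChar_of_chart` : `L` simple with a chart of rank `≥ 3` is of Lie type in characteristic `p`.
-/

set_option autoImplicit false
set_option linter.unusedSectionVars false

namespace Cfsg.Agent.Cit.ChartEnd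

open CoxeterSystem Cfsg.Agent.ChevalleyStructure.CoxeterGeom Cfsg.Agent.Tits.Roots Cfsg.Agent.Tits.Core
  Cfsg.Agent.Tits.RootComb Cfsg.Agent.Nodes.Comb Cfsg.Agent.Nodes.Reps Cfsg.Agent.Nodes.BNOf
  Cfsg.Agent.Nodes.RGDLib Cfsg.Agent.Nodes.Chart

section

variable {I W Y : Type*} [Fintype I] [DecidableEq I] [Group W] [Group Y] {M : CoxeterMatrix I}
  {cs : CoxeterSystem M W} {A : I → I → ℤ} {h : IsCartan M A} {p : ℕ} {T : Subgroup Y} {n : I → Y}
  {X : (I → ℤ) → Subgroup Y}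

/-- `n i` lies in every subgroup containing the root groups and `T`. -/
theorem n_mem (R : RGD cs h p T n X) {K : Subgroup Y} (hT : T ≤ K)
    (hX : ∀ x, IsRoot cs h x → X x ≤ K) (i : I) : n i ∈ K := by
  have h1 : ∃ u ∈ X (-sr i), u ≠ 1 := by
    by_contra hcon
    push Not at hcon
    apply R.notp i
    have h2 : X (-sr i) = ⊥ := (Subgroup.eq_bot_iff_forall _).2 hcon
    rw [h2, sup_bot_eq]
    exact R.pgrp i
  obtain ⟨u, hu, hne⟩ := h1
  obtain ⟨a, ha, t, ht, b, hb, e⟩ := R.rk1 i u hu hne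
  have huK : u ∈ K := hX _ (isRoot_sr cs h i).neg hu
  have haK : a ∈ K := hX _ (isRoot_sr cs h i) ha
  have hbK : b ∈ K := hX _ (isRoot_sr cs h i) hb
  have : n i = t⁻¹ * a⁻¹ * u * b⁻¹ := by rw [e]; group
  rw [this]
  exact mul_mem (mul_mem (mul_mem (inv_mem (hT ht)) (inv_mem haK)) huK) (inv_mem hbK)

/-- A simple group with a root group datum of rank at least 3 is of Lie type. -/
theorem isLieTypeChar_of_rgd {L : Type*} [Group L] [Finite L] [IsSimpleGroup L] [Finite W]
    {T : Subgroup L} {n : I → L} {X : (I → ℤ) → Subgroup L} (hp : p.Prime)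
    (R : RGD cs h p T n X) (hG : G1 cs h X = ⊤)
    (hconn : ∀ J : Set I, J.Nonempty → J ≠ Set.univ → ∃ a ∈ J, ∃ b, b ∉ J ∧ M a b ≠ 2)
    (h3 : 3 ≤ Fintype.card I) : Cfsg.IsLieTypeChar p L := by
  have hgen := rgd_gen_of_G1 R hG
  refine TitsThree.CharExport.main_char (R.bnPair hgen) (by rw [R.bnPair_rank hgen]; exact h3)
    (R.bnPair_irreducible hgen hconn) hp (RGD.Sup X (RGD.Pos cs h)) R.isPGroup_Upos RGD.U_le_B ?_
  intro b hb
  obtain ⟨t, ht, u, hu, e⟩ := R.mem_B.1 (inv_mem (show b ∈ RGD.B cs h T X from hb))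
  have h2 : t ∈ RGD.B cs h T X ⊓ NN cs R.nsys := by rw [R.B_inf_NN]; exact ht
  refine ⟨u⁻¹, Subgroup.inv_mem _ hu, t⁻¹, Subgroup.inv_mem _ h2, ?_⟩
  rw [← inv_inv b, e]; group

end

variable {G : Type*} [Group G] {Om : Set (Subgroup G)} {p : ℕ} {L : Subgroup G}

theorem Chart.X_le (C : Chart Om p L) {x : C.I → ℤ} (hx : IsRoot C.cs C.h x) : C.X x ≤ L := by
  have := X_le_G1 (X := C.X) hx
  rwa [C.gen] at this

theorem Chart.n_mem (C : Chart Om p L) (i : C.I) : C.n i ∈ L :=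
  ChartEnd.n_mem C.cls.rgd C.T_le (fun _ hx => Chart.X_le C hx) i

/-- the root group datum of a chart as a root group datum of `↥L` -/
theorem Chart.rgd (C : Chart Om p L) :
    RGD C.cs C.h p (C.T.subgroupOf L) (fun i => ⟨C.n i, Chart.n_mem C i⟩)
      (fun x => (C.X x).subgroupOf L) :=
  rgd_restrict C.cls.rgd L (fun _ hx => Chart.X_le C hx) (Chart.n_mem C)

theorem Chart.gen_top (C : Chart Om p L) : G1 C.cs C.h (fun x => (C.X x).subgroupOf L) = ⊤ := by
  have h1 : G1 C.cs C.h (fun x => (C.X x).subgroupOf L) = (G1 C.cs C.h C.X).subgroupOf L := by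
    unfold G1 RGD.Sup
    rw [iSup_subgroupOf _ (fun z : {x | IsRoot C.cs C.h x} => Chart.X_le C z.2)]
  rw [h1, C.gen, Subgroup.subgroupOf_self]

/-- **A simple group with a chart of rank at least 3 is of Lie type** (S1143 with the characteristic). -/
theorem isLieTypeChar_of_chart [Finite G] (C : Chart Om p L) (hs : IsSimpleGroup ↥L)
    (h3 : 3 ≤ Fintype.card C.I) : Cfsg.IsLieTypeChar p ↥L :=
  isLieTypeChar_of_rgd C.prime (Chart.rgd C) (Chart.gen_top C) C.irr h3

end Cfsg.Agent.Cit.ChartEnd
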