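import Cfsg.Agent.Cit.Defs
import Cfsg.Agent.Lib.GenFitting
import Cfsg.Agent.SignalizersComponents.QuasisimpleQuotient

/-!
# End of S1310: `F*(G)` simple and a normal central product (group theory)

* `centralizer_fstar`, `fstar_le_of_normal` : `F*(G)` non-abelian simple;
* `odd_core_eq_bot` ;
* `exists_piece` : a non-trivial normal subgroup which is a central product of normal pieces has one piece;
* `eq_fstar_of_quasisimple` : if the piece is quasisimple it is `F*(G)`;
* `not_le_centralizer` : it is not contained in the centraliser of one of its non-trivial elements.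
-/

set_option autoImplicit false

namespace Cfsg.Agent.Cit.PieceEnd

open Subgroup Cfsg

variable {G : Type*} [Group G] [Finite G]

theorem centralizer_fstar (hs : IsSimpleGroup ↥(generalizedFittingSubgroup G))
    (hna : ¬ IsMulCommutative ↥(generalizedFittingSubgroup G)) :
    centralizer (generalizedFittingSubgroup G : Set G) = ⊥ := by
  have h1 := Lib.GenFitting.centralizer_genFitting_le (G := G)
  have h2 : (centralizer (generalizedFittingSubgroup G : Set G)).subgroupOf
      (generalizedFittingSubgroup G) ≤ center ↥(generalizedFittingSubgroup G) := by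
    intro x hx
    rw [mem_center_iff]
    intro y
    exact Subtype.ext (mem_centralizer_iff.1 hx (y : G) y.2)
  have h3 : center ↥(generalizedFittingSubgroup G) = ⊥ := by
    rcases hs.eq_bot_or_eq_top_of_normal (center ↥(generalizedFittingSubgroup G)) inferInstance
      with h | h
    · exact h
    · exact absurd ⟨⟨fun x y => (mem_center_iff.1 (h.symm ▸ mem_top x) y).symm ▸ rfl⟩⟩ hna
  rw [h3, le_bot_iff] at h2
  rw [Subgroup.eq_bot_iff_forall]
  intro x hx
  have h4 : (⟨x, h1 hx⟩ : ↥(generalizedFittingSubgroup G)) ∈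
      (centralizer (generalizedFittingSubgroup G : Set G)).subgroupOf
        (generalizedFittingSubgroup G) := hx
  rw [h2, mem_bot] at h4
  exact congrArg Subtype.val h4

/-- a subgroup normalised by `F*(G)` is trivial or contains `F*(G)` if it is normal in a subgroup that contains
`F*(G)`; form with normalisers -/
theorem fstar_le_of_normalized (hs : IsSimpleGroup ↥(generalizedFittingSubgroup G))
    (hna : ¬ IsMulCommutative ↥(generalizedFittingSubgroup G)) {N : Subgroup G}
    (hN : generalizedFittingSubgroup G ≤ normalizer (N : Set G)) (hne : N ≠ ⊥) :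
    generalizedFittingSubgroup G ≤ N := by
  have := Lib.GenFitting.genFitting_normal (G := G)
  have h1 : (N.subgroupOf (generalizedFittingSubgroup G)).Normal := by
    refine ⟨fun x hx g => ?_⟩
    exact (mem_normalizer_iff.1 (hN g.2) _).1 hx
  rcases hs.eq_bot_or_eq_top_of_normal _ h1 with h | h
  · exfalso
    apply hne
    rw [eq_bot_iff, ← centralizer_fstar hs hna]
    intro x hx
    rw [mem_centralizer_iff]
    intro y hy
    have h2 : y * x * y⁻¹ * x⁻¹ ∈ N :=
      mul_mem ((mem_normalizer_iff.1 (hN hy) _).1 hx) (inv_mem hx)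
    have h3 : y * x * y⁻¹ * x⁻¹ ∈ generalizedFittingSubgroup G := by
      have : y * x * y⁻¹ * x⁻¹ = y * (x * y⁻¹ * x⁻¹) := by group
      rw [this]
      exact mul_mem hy (Lib.GenFitting.genFitting_normal.conj_mem _ (inv_mem hy) x)
    have h4 : (⟨_, h3⟩ : ↥(generalizedFittingSubgroup G)) ∈
        N.subgroupOf (generalizedFittingSubgroup G) := h2
    rw [h, mem_bot] at h4
    have h5 : y * x * y⁻¹ * x⁻¹ = 1 := congrArg Subtype.val h4
    have h6 : y * x = x * y := by
      calc y * x = (y * x * y⁻¹ * x⁻¹) * (x * y) := by group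
        _ = x * y := by rw [h5, one_mul]
    exact h6
  · exact Subgroup.subgroupOf_eq_top.1 h

theorem fstar_le_of_normal (hs : IsSimpleGroup ↥(generalizedFittingSubgroup G))
    (hna : ¬ IsMulCommutative ↥(generalizedFittingSubgroup G)) {N : Subgroup G} [hN : N.Normal]
    (hne : N ≠ ⊥) : generalizedFittingSubgroup G ≤ N :=
  fstar_le_of_normalized hs hna (by rw [normalizer_eq_top]; exact le_top) hne

/-- the pieces -/
theorem exists_piece (hs : IsSimpleGroup ↥(generalizedFittingSubgroup G))
    (hna : ¬ IsMulCommutative ↥(generalizedFittingSubgroup G)) {X : Subgroup G} [hX : X.Normal]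
    (hne : X ≠ ⊥) (P : Set (Subgroup G)) (hP : sSup P = X)
    (hn : ∀ D ∈ P, X ≤ normalizer (D : Set G)) (h1 : ∀ D ∈ P, D ≠ ⊥)
    (hc : ∀ D ∈ P, ∀ E ∈ P, D ≠ E → ∀ x ∈ D, ∀ y ∈ E, x * y = y * x) : P = {X} := by
  have hF : generalizedFittingSubgroup G ≤ X := fstar_le_of_normal hs hna hne
  have hFD : ∀ D ∈ P, generalizedFittingSubgroup G ≤ D := fun D hD =>
    fstar_le_of_normalized hs hna (hF.trans (hn D hD)) (h1 D hD)
  have huniq : ∀ D ∈ P, ∀ E ∈ P, D = E := by
    intro D hD E hE
    by_contra hDE
    apply hna
    exact ⟨⟨fun x y => Subtype.ext (hc D hD E hE hDE x (hFD D hD x.2) y (hFD E hE y.2))⟩⟩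
  have hPne : P.Nonempty := by
    rw [Set.nonempty_iff_ne_empty]
    rintro rfl
    apply hne
    rw [← hP, sSup_empty]
  obtain ⟨D, hD⟩ := hPne
  have h2 : P = {D} := Set.eq_singleton_iff_unique_mem.2 ⟨hD, fun E hE => huniq E hE D hD⟩
  rw [h2, sSup_singleton] at hP
  rw [h2, hP]

/-- a normal quasisimple subgroup is `F*(G)` -/
theorem eq_fstar_of_quasisimple (hs : IsSimpleGroup ↥(generalizedFittingSubgroup G))
    (hna : ¬ IsMulCommutative ↥(generalizedFittingSubgroup G)) {X : Subgroup G} [hX : X.Normal]
    (hq : IsQuasisimple ↥X) : X = generalizedFittingSubgroup G := by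
  have hne : X ≠ ⊥ := by
    rintro rfl
    have := SignalizersComponents.Components.quasisimple_nontrivial hq
    exact (not_nontrivial_iff_subsingleton.2 inferInstance) this
  exact le_antisymm (Lib.GenFitting.component_le_genFitting ⟨Normal.isSubnormal hX, hq⟩)
    (fstar_le_of_normal hs hna hne)

/-- a non-trivial normal subgroup does not centralise a non-trivial element -/
theorem not_le_centralizer (hs : IsSimpleGroup ↥(generalizedFittingSubgroup G))
    (hna : ¬ IsMulCommutative ↥(generalizedFittingSubgroup G)) {X : Subgroup G} [hX : X.Normal]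
    (hne : X ≠ ⊥) {z : G} (hz : z ≠ 1) : ¬ X ≤ centralizer {z} := by
  intro h
  have hF : generalizedFittingSubgroup G ≤ X := fstar_le_of_normal hs hna hne
  have h1 : z ∈ centralizer (generalizedFittingSubgroup G : Set G) := by
    rw [mem_centralizer_iff]
    intro y hy
    exact mem_centralizer_singleton_iff.1 (h (hF hy))
  rw [centralizer_fstar hs hna, mem_bot] at h1
  exact hz h1

/-- a normal simple subgroup is `F*(G)` -/
theorem eq_fstar_of_simple (hs : IsSimpleGroup ↥(generalizedFittingSubgroup G))
    (hna : ¬ IsMulCommutative ↥(generalizedFittingSubgroup G)) {X : Subgroup G} [hX : X.Normal]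
    (hq : IsSimpleGroup ↥X) : X = generalizedFittingSubgroup G := by
  have hne : X ≠ ⊥ := by
    rintro rfl
    have := hq.toNontrivial
    exact (not_nontrivial_iff_subsingleton.2 inferInstance) this
  have hF : generalizedFittingSubgroup G ≤ X := fstar_le_of_normal hs hna hne
  have := Lib.GenFitting.genFitting_normal (G := G)
  have h1 : ((generalizedFittingSubgroup G).subgroupOf X).Normal := inferInstance
  rcases hq.eq_bot_or_eq_top_of_normal _ h1 with h | h
  · exfalso
    rw [Subgroup.subgroupOf_eq_bot, disjoint_iff, inf_eq_left.2 hF] at h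
    have h2 := hs.toNontrivial
    rw [h] at h2
    exact (not_nontrivial_iff_subsingleton.2 inferInstance) h2
  · exact le_antisymm (Subgroup.subgroupOf_eq_top.1 h) hF

/-- a normal subgroup of odd order is trivial as soon as `G` has no non-abelian simple subgroup of odd order -/
theorem eq_bot_of_odd (hs : IsSimpleGroup ↥(generalizedFittingSubgroup G))
    (hna : ¬ IsMulCommutative ↥(generalizedFittingSubgroup G))
    (hev : 2 ∣ Nat.card ↥(generalizedFittingSubgroup G)) {X : Subgroup G} [hX : X.Normal]
    (ho : ¬ 2 ∣ Nat.card ↥X) : X = ⊥ := by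
  by_contra hne
  exact ho (hev.trans (card_dvd_of_le (fstar_le_of_normal hs hna hne)))

end Cfsg.Agent.Cit.PieceEnd
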