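import Cfsg.Agent.Cit.SLThreeHThree
import Cfsg.Agent.Transfer.SL23Recog
import Cfsg.Agent.Lib.DihedralRecog

/-!
# S1310, hypotheses (2), (3) for `J / O(J) = SL(2,3)`

`exists_hyp` : in the situation of S1310 with `|F| = 3` the group `J O(C(z))` satisfies the hypotheses of S1309.
-/

set_option autoImplicit false
set_option linter.style.haveILetI false

namespace Cfsg.Agent.Cit.SLThreeMain

open Subgroup Cfsg Cfsg.Agent.Cit Cfsg.Agent.Cit.SLThree
open Cfsg.Agent.Transfer.SL23Recog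

local notation "SL23" => Matrix.SpecialLinearGroup (Fin 2) (ZMod 3)

/-! ### `SL(2,3)` in coordinates -/

theorem sl_closure : Sl (Subgroup.closure {mi, mt}) (-1 : SL23) mi mj mt where
  q := by
    refine ⟨?_, ?_, ?_, ?_, ?_⟩ <;> decide +kernel
  di := by decide +kernel
  dj := by decide +kernel
  d3 := by decide +kernel
  gen := rfl

theorem sl_top : Sl (⊤ : Subgroup SL23) (-1 : SL23) mi mj mt := by
  have h := sl_closure
  have h1 : Subgroup.closure {mi, mt} = (⊤ : Subgroup SL23) := by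
    apply Subgroup.eq_top_of_card_eq
    rw [h.card, card_sl23]
  rwa [h1] at h

theorem sq_sl23 : ∀ x : SL23, x * x = 1 → x = 1 ∨ x = -1 := by decide +kernel

/-- a field with three elements -/
theorem equiv_sl23 {F : Type} [Field F] [Fintype F] (hF : Fintype.card F = 3) :
    Nonempty (SL23 ≃* Matrix.SpecialLinearGroup (Fin 2) F) := by
  let f : ZMod 3 ≃+* F := ZMod.ringEquivOfPrime F Nat.prime_three hF
  refine ⟨MulEquiv.ofBijective (Matrix.SpecialLinearGroup.map (f : ZMod 3 →+* F)) ⟨?_, ?_⟩⟩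
  · intro a b hab
    apply Matrix.SpecialLinearGroup.ext
    intro i j
    have h := congrArg (fun m : Matrix.SpecialLinearGroup (Fin 2) F => (m : Matrix (Fin 2) (Fin 2) F) i j) hab
    exact f.injective (by simpa using h)
  · intro a
    refine ⟨Matrix.SpecialLinearGroup.map (f.symm : F →+* ZMod 3) a, ?_⟩
    apply Matrix.SpecialLinearGroup.ext
    intro i j
    simp

variable {G : Type*} [Group G] [Finite G]

/-! ### quotients -/

theorem mem_oddCore_iff {M : Subgroup G} {s : G} (hM : M ≤ centralizer {s})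
    (hsn : (M.subgroupOf (centralizer {s})).IsSubnormal) (x : M) : x ∈ oddCore M ↔ (x : G) ∈ O s := by
  have h1 := SignalizersComponents.CompBasic.map_subtype_pPrimeCore_of_subnormal 2 hsn
  have h2 := Lib.Cores.map_equiv_pPrimeCore (subgroupOfEquivOfLe hM) 2
  constructor
  · intro hx
    have hx' : x ∈ pPrimeCore 2 M := hx
    rw [← h2] at hx'
    obtain ⟨y, hy, hyx⟩ := hx'
    have h3 : (y : centralizer ({s} : Set G)) ∈ M.subgroupOf (centralizer {s}) ⊓ pPrimeCore 2 (centralizer ({s} : Set G)) := by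
      rw [← h1]; exact ⟨y, hy, rfl⟩
    have h4 : ((y : centralizer ({s} : Set G)) : G) ∈ O s := mem_O.2 h3.2
    have h5 : ((y : centralizer ({s} : Set G)) : G) = x := congrArg Subtype.val hyx
    rwa [h5] at h4
  · intro hx
    have h3 : (⟨x, hM x.2⟩ : centralizer ({s} : Set G)) ∈
        M.subgroupOf (centralizer {s}) ⊓ pPrimeCore 2 (centralizer ({s} : Set G)) := ⟨x.2, mem_O.1 hx⟩
    rw [← h1] at h3
    obtain ⟨y, hy, hyx⟩ := h3
    show x ∈ pPrimeCore 2 M
    rw [← h2]
    have h5 : ((y : centralizer ({s} : Set G)) : G) = x := congrArg Subtype.val hyx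
    refine ⟨y, hy, Subtype.ext ?_⟩
    exact h5

theorem quotEquiv {M : Subgroup G} {s : G} (hM : M ≤ centralizer {s})
    (hsn : (M.subgroupOf (centralizer {s})).IsSubnormal) :
    Nonempty ((↥M ⧸ oddCore ↥M) ≃* ↥((M.subgroupOf (centralizer {s})).map (pr s))) := by
  let f : M →* ((centralizer ({s} : Set G)) ⧸ oddCore (centralizer ({s} : Set G))) := (pr s).comp (inclusion hM)
  have hk : f.ker = oddCore M := by
    ext x
    rw [mem_oddCore_iff hM hsn]
    exact pr_eq_one (s := s) (x := inclusion hM x)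
  have hr : f.range = (M.subgroupOf (centralizer {s})).map (pr s) := by
    ext y
    constructor
    · rintro ⟨x, rfl⟩
      exact ⟨inclusion hM x, x.2, rfl⟩
    · rintro ⟨x, hx, rfl⟩
      exact ⟨⟨x, hx⟩, rfl⟩
  exact ⟨(QuotientGroup.quotientMulEquivOfEq hk.symm).trans
    ((QuotientGroup.quotientKerEquivRange f).trans (MulEquiv.subgroupCongr hr))⟩

section

variable {z : G} {J : Subgroup G}

theorem map_sup_eq (hJz : J ≤ centralizer {z}) :
    ((J ⊔ O z).subgroupOf (centralizer {z})).map (pr z) = (J.subgroupOf (centralizer {z})).map (pr z) := by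
  apply le_antisymm
  · rintro _ ⟨x, hx, rfl⟩
    have hx' : (x : G) ∈ J ⊔ O z := hx
    have h1 : J ⊔ O z = (J.subgroupOf (centralizer {z}) ⊔ oddCore (centralizer ({z} : Set G))).map
        (centralizer ({z} : Set G)).subtype := by
      rw [Subgroup.map_sup, map_subgroupOf_eq_of_le hJz]; rfl
    rw [h1] at hx'
    obtain ⟨y, hy, hyx⟩ := hx'
    have h2 : y = x := Subtype.ext hyx
    subst h2
    have h3 : pr z y ∈ (J.subgroupOf (centralizer {z}) ⊔ oddCore (centralizer ({z} : Set G))).map (pr z) := ⟨y, hy, rfl⟩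
    rw [Subgroup.map_sup] at h3
    have h4 : (oddCore (centralizer ({z} : Set G))).map (pr z) = ⊥ := by
      rw [eq_bot_iff]
      rintro _ ⟨x, hx, rfl⟩
      exact pr_eq_one.2 (mem_O.2 hx)
    rw [h4, sup_bot_eq] at h3
    exact h3
  · exact Subgroup.map_mono (fun x hx => (le_sup_left : J ≤ J ⊔ O z) hx)

theorem subnormal_sup (hJz : J ≤ centralizer {z})
    (hsn : (J.subgroupOf (centralizer ({z} : Set G))).IsSubnormal) :
    ((J ⊔ O z).subgroupOf (centralizer ({z} : Set G))).IsSubnormal := by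
  have h1 := hsn.map (pr_surj z)
  rw [← map_sup_eq hJz] at h1
  have h2 := h1.comap (pr z)
  rwa [SLThree.comap_map_eq le_sup_right] at h2

theorem mem_sup (hz : orderOf z = 2) (hJz : J ≤ centralizer {z}) (hzJ : z ∈ J)
    (hsn : (J.subgroupOf (centralizer ({z} : Set G))).IsSubnormal)
    {F : Type} [Field F] [Fintype F] (hF : Fintype.card F = 3)
    (e : Nonempty (↥J ⧸ oddCore ↥J ≃* Matrix.SpecialLinearGroup (Fin 2) F)) : Mem (J ⊔ O z) z := by
  have hz2 : z * z = 1 := by rw [← pow_two, ← hz, pow_orderOf_eq_one]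
  have hz1 : z ≠ 1 := by rintro rfl; rw [orderOf_one] at hz; omega
  have hzC : z ∈ centralizer ({z} : Set G) := hJz hzJ
  refine exists_slG hz2 hzC (sup_le hJz (O_le z)) le_sup_right (subnormal_sup hJz hsn) ?_
  rw [map_sup_eq hJz]
  obtain ⟨e⟩ := e
  obtain ⟨e1⟩ := equiv_sl23 hF
  obtain ⟨e2⟩ := quotEquiv hJz hsn
  let φ : SL23 →* ((centralizer ({z} : Set G)) ⧸ oddCore (centralizer ({z} : Set G))) :=
    ((J.subgroupOf (centralizer {z})).map (pr z)).subtype.comp ((e1.trans (e.symm.trans e2)).toMonoidHom)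
  have hφ : Function.Injective φ :=
    (Subgroup.subtype_injective _).comp (e1.trans (e.symm.trans e2)).injective
  have hrange : (⊤ : Subgroup SL23).map φ = (J.subgroupOf (centralizer {z})).map (pr z) := by
    rw [← MonoidHom.range_eq_map]
    ext y
    constructor
    · rintro ⟨x, rfl⟩
      exact ((e1.trans (e.symm.trans e2)) x).2
    · intro hy
      refine ⟨(e1.trans (e.symm.trans e2)).symm ⟨y, hy⟩, ?_⟩
      show (((e1.trans (e.symm.trans e2)) ((e1.trans (e.symm.trans e2)).symm ⟨y, hy⟩) :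
        ↥((J.subgroupOf (centralizer {z})).map (pr z))) : _) = y
      rw [MulEquiv.apply_symm_apply]
  have hneg : φ (-1) ≠ 1 := by
    intro h
    have : (-1 : SL23) = 1 := hφ (by rw [h, map_one])
    revert this; decide +kernel
  have h := sl_top.map φ hneg
  rw [hrange] at h
  have hzim : φ (-1) = pr z ⟨z, hzC⟩ := by
    have h1 : pr z ⟨z, hzC⟩ ∈ (⊤ : Subgroup SL23).map φ := by
      rw [hrange]; exact ⟨_, hzJ, rfl⟩
    obtain ⟨w, -, hw⟩ := h1
    have h2 : w * w = 1 := hφ (by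
      rw [map_mul, hw, map_one, ← map_mul]
      have : (⟨z, hzC⟩ * ⟨z, hzC⟩ : centralizer ({z} : Set G)) = 1 := Subtype.ext hz2
      rw [this, map_one])
    rcases sq_sl23 w h2 with h3 | h3
    · exfalso
      rw [h3, map_one] at hw
      have h4 := pr_eq_one.1 hw.symm
      have h5 : IsPGroup 2 (zpowers z) := by
        rintro ⟨_, n, rfl⟩
        refine ⟨1, Subtype.ext ?_⟩
        show (z ^ n) ^ 2 ^ 1 = 1
        rw [← zpow_natCast, ← zpow_mul, mul_comm, zpow_mul, zpow_natCast, pow_one, pow_two, hz2, one_zpow]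
      exact hz1 (eq_one_of_mem_O h4 h5 (mem_zpowers z))
    · rw [← h3, hw]
  rw [hzim] at h
  exact ⟨_, _, _, h⟩

end

/-! ### the hypotheses of S1309 for a member -/

theorem qt_quaternion {z i j : G} (h : Qt z i j) :
    Nonempty (Subgroup.closure ({i, j} : Set G) ≃* QuaternionGroup (2 ^ (0 + 1))) := by
  refine Lib.DihedralRecog.closure_quaternion (m := 2) i j ?_ ?_ ?_ ?_
  · rw [h.orderOf_i]
  · rw [h.j2, pow_two, h.i2]
  · rw [h.ji, h.j_inv, h.i_inv]
    simp only [mul_assoc, h.jzx, h.j2, h.z2, mul_one]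
  · intro h1
    obtain ⟨n, hn⟩ := mem_zpowers_iff.1 h1
    apply h.not_comm
    rw [← hn]
    exact (Commute.self_zpow i n)

variable {z : G} {M : Subgroup G}

theorem uniq (h : Mem M z) {t : G} (ht : t ∈ M) (ht2 : orderOf t = 2) : t = z := by
  have h1 : t * t = 1 := by rw [← pow_two, ← ht2, pow_orderOf_eq_one]
  have hp : IsPGroup 2 (zpowers t) := by
    rintro ⟨_, n, rfl⟩
    refine ⟨1, Subtype.ext ?_⟩
    show (t ^ n) ^ 2 ^ 1 = 1
    rw [← zpow_natCast, ← zpow_mul, mul_comm, zpow_mul, zpow_natCast, pow_one, pow_two, h1, one_zpow]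
  obtain ⟨T, hT, htT⟩ := exists_syl_ge hp (zpowers_le.2 (h.le ht))
  rcases h.sq_eq_one hT ht (htT (mem_zpowers t)) h1 with h2 | h2
  · rw [h2, orderOf_one] at ht2; omega
  · exact h2

theorem sq_of_four (h : Mem M z) {y : G} (hy : y ∈ M) (hy2 : IsPGroup 2 (zpowers y)) (hy4 : 4 ≤ orderOf y) :
    y * y = z := by
  obtain ⟨T, hT, hyT⟩ := exists_syl_ge hy2 (zpowers_le.2 (h.le hy))
  rcases h.sq hT hy (hyT (mem_zpowers y)) with h2 | h2
  · exfalso
    have h3 : orderOf y ∣ 2 := orderOf_dvd_of_pow_eq_one (by rw [pow_two]; exact h2)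
    have := Nat.le_of_dvd (by norm_num) h3
    omega
  · exact h2

theorem hyp_of_mem (hz : orderOf z = 2) (h : Mem M z) : Hyp (cls M) ∧ zz M = z := by
  haveI : Fact (Nat.Prime 2) := ⟨Nat.prime_two⟩
  have hO : ∀ L : Subgroup G, Mem L z → O z ≤ OO L := by
    intro L hL
    apply le_OO hL.hO
    · exact hL.le.trans (cent_le z)
    · exact odd_O z
  refine hyp_of_class z hz M h.s_mem ?_ ?_ (fun t ht ht2 => uniq h ht ht2) ?_ ?_
  · obtain ⟨i, j, d, h⟩ := h; exact h.sub
  · obtain ⟨i, j, d, h⟩ := h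
    obtain ⟨S, hS⟩ := h.syl.exists_sylow
    obtain ⟨f⟩ := qt_quaternion h.q
    refine ⟨S, 0, ⟨?_⟩⟩
    exact ((MulEquiv.subgroupCongr hS).trans (subgroupOfEquivOfLe h.Qle)).trans f
  · intro u hu
    have huz : u * z = z * u := mem_centralizer_singleton_iff.1 hu
    have h' : Mem (cj u M) z := h.cj_of_comm huz
    rcases h.eq_or_comm h' with h1 | h1
    · left; exact h1.symm
    · right
      have h2 : ⁅M, cj u M⁆ ≤ O z := by
        rw [Subgroup.commutator_le]
        intro x hx y hy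
        exact h1 x hx y hy
      exact le_inf (h2.trans (hO M h)) (h2.trans (hO _ h'))
  · intro y hy g hy2 hy4 hgy
    have hsq := sq_of_four h hy hy2 hy4
    rw [mem_normalizer_iff_cj]
    have hsq' : (g * y * g⁻¹) * (g * y * g⁻¹) = g * z * g⁻¹ := by
      rw [← hsq]; group
    exact h.cj_eq_of_sq (h.cj g) (conj_mem_cj hy) hsq' (mem_centralizer_singleton_iff.1 hgy)

/-- **(7), `q = 3`**: the literal hypotheses of S1310 with `|F| = 3` imply the hypotheses of S1309 for `J O(C(z))` -/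
theorem exists_hyp (z : G) (hz : orderOf z = 2) (J : Subgroup G) (hJz : J ≤ centralizer ({z} : Set G)) (hzJ : z ∈ J)
    (hsn : (J.subgroupOf (centralizer ({z} : Set G))).IsSubnormal)
    {F : Type} [Field F] [Fintype F] (hF : Fintype.card F = 3)
    (e : Nonempty (↥J ⧸ oddCore ↥J ≃* Matrix.SpecialLinearGroup (Fin 2) F)) :
    Hyp (cls (J ⊔ OO (centralizer ({z} : Set G)))) ∧ zz (J ⊔ OO (centralizer ({z} : Set G))) = z ∧
      Nonempty (↥(J ⊔ OO (centralizer ({z} : Set G))) ⧸ oddCore ↥(J ⊔ OO (centralizer ({z} : Set G))) ≃*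
        Matrix.SpecialLinearGroup (Fin 2) F) := by
  have h : Mem (J ⊔ OO (centralizer ({z} : Set G))) z := mem_sup hz hJz hzJ hsn hF e
  obtain ⟨h1, h2⟩ := hyp_of_mem hz h
  refine ⟨h1, h2, ?_⟩
  obtain ⟨e⟩ := e
  obtain ⟨e1⟩ := quotEquiv hJz hsn
  obtain ⟨e2⟩ := quotEquiv h.le (subnormal_sup hJz hsn)
  have h3 := map_sup_eq hJz
  exact ⟨(e2.trans (MulEquiv.subgroupCongr h3)).trans (e1.symm.trans e)⟩

end Cfsg.Agent.Cit.SLThreeMain
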