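import Cfsg.Agent.Cit.Defs
import Cfsg.Agent.S1315
import Cfsg.Agent.Lib.PComponents
import Cfsg.Agent.SignalizersComponents.PCompQuot
import Cfsg.Agent.SignalizersComponents.IntrinsicDiag
import Cfsg.Agent.SignalizersComponents.SLQuasisimple
import Cfsg.Agent.Intrinsic.Bridge
import Cfsg.Agent.TwoFusion.QuatQuotient
import Cfsg.Agent.LieClassical.SLTwoSylowTwo

/-!
# S1310: the hypotheses (2), (3) for `J / O(J) = SL₂(q)`, `q > 3`, and `2.A₇`

`IsBig X`: `X ≃ SL₂(F)`, `|F| > 3` odd, or `X` is the double cover of `A₇`.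

`exists_hyp`: in the situation of S1310 with `IsBig (J / O(J))` there is a 2-component `K ≤ J` of `C(z)`,
`z ∈ K`, with `K / O(K) ≃ J / O(J)` and `Hyp (cls K)`, `zz K = z`.
-/

set_option autoImplicit false

namespace Cfsg.Agent.Cit.Seven

open Subgroup Cfsg Cfsg.Agent.Cit
open Cfsg.Agent.Lib.PComponents
open Cfsg.Agent.SignalizersComponents Cfsg.Agent.SignalizersComponents.PLayerAut

/-! ### the types -/

/-- `SL₂(F)`, `|F| > 3` odd, or `2.A₇` -/
def IsBig (X : Type*) [Group X] : Prop :=
  (∃ (F : Type) (_ : Field F) (_ : Fintype F), Odd (Fintype.card F) ∧ 3 < Fintype.card F ∧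
    Nonempty (X ≃* Matrix.SpecialLinearGroup (Fin 2) F)) ∨
  IsNonsplitDoubleCover X ↥(alternatingGroup (Fin 7))

theorem IsBig.congr {X Y : Type*} [Group X] [Group Y] (e : X ≃* Y) (h : IsBig X) : IsBig Y := by
  rcases h with ⟨F, i1, i2, h1, h2, ⟨f⟩⟩ | h
  · exact Or.inl ⟨F, i1, i2, h1, h2, ⟨e.symm.trans f⟩⟩
  · exact Or.inr (Intrinsic.Basic.cover_congr e h)

theorem isPerfect_congr {X Y : Type*} [Group X] [Group Y] (e : X ≃* Y) (h : Group.IsPerfect X) :
    Group.IsPerfect Y := by
  refine ⟨?_⟩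
  have h1 : (commutator X).map e.toMonoidHom = commutator Y := by
    rw [commutator_def, commutator_def, Subgroup.map_commutator, ← MonoidHom.range_eq_map,
      MonoidHom.range_eq_top.mpr e.surjective]
  rw [← h1, h.commutator_eq_top, ← MonoidHom.range_eq_map, MonoidHom.range_eq_top.mpr e.surjective]

theorem IsBig.quasisimple {X : Type*} [Group X] (h : IsBig X) : IsQuasisimple X := by
  rcases h with ⟨F, i1, i2, h1, h2, ⟨f⟩⟩ | h
  · exact PCompQuot.quasisimple_congr f.symm
      (SLQuasisimple.isQuasisimple_two (by rw [Nat.card_eq_fintype_card]; omega))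
  · refine ⟨Intrinsic.Bridge.perfect_of_cover (by norm_num) h, ?_⟩
    obtain ⟨e⟩ := h.2.1
    have : IsSimpleGroup ↥(alternatingGroup (Fin 7)) := alternatingGroup.isSimpleGroup (by simp)
    exact IntrinsicDiag.isSimpleGroup_congr e.symm this

/-- a group of this type has exactly one involution -/
theorem IsBig.unique {X : Type*} [Group X] (h : IsBig X) :
    ∃ z : X, orderOf z = 2 ∧ ∀ t : X, orderOf t = 2 → t = z := by
  rcases h with ⟨F, i1, i2, h1, h2, ⟨f⟩⟩ | h
  · have h2' := SLQuasisimple.two_ne_zero_of_odd h1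
    have hne : (-1 : Matrix.SpecialLinearGroup (Fin 2) F) ≠ 1 := by
      intro h
      have h3 := congrArg (fun g : Matrix.SpecialLinearGroup (Fin 2) F =>
        (g : Matrix (Fin 2) (Fin 2) F) 0 0) h
      simp at h3
      apply h2'
      have h4 : (1 : F) + 1 = 0 := by
        nth_rewrite 1 [← h3]
        ring
      rw [← h4]
      norm_num
    have ho : orderOf (-1 : Matrix.SpecialLinearGroup (Fin 2) F) = 2 :=
      orderOf_eq_prime (by simp) hne
    refine ⟨f.symm (-1), ?_, ?_⟩
    · rw [f.symm.orderOf_eq, ho]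
    · intro t ht
      apply f.injective
      rw [MulEquiv.apply_symm_apply]
      have h3 : orderOf (f t) = 2 := by rw [f.orderOf_eq, ht]
      apply LieClassical.SLTwoSylowTwo.eq_neg_one_of_sq h2'
      · intro h
        rw [h, orderOf_one] at h3
        omega
      · have h4 := pow_orderOf_eq_one (f t)
        rwa [h3] at h4
  · obtain ⟨π, z0, hcov, -⟩ := SporadicRecognition.AltCover.exists_isCover h
    let K := SporRec.TwoAn.ofIsCover (by norm_num) hcov
    refine ⟨K.z, K.orderOf_z, fun t ht => ?_⟩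
    have h2 : t * t = 1 := by rw [← pow_two, ← ht, pow_orderOf_eq_one]
    rcases K.eq_one_or_eq_z_of_card_lt (by simp) h2 with h3 | h3
    · rw [h3, orderOf_one] at ht
      omega
    · exact h3

section main

variable {G : Type*} [Group G] [Finite G]

/-- the only involution of `K` when `K / O(K)` has only one and `z ∈ K` is central -/
theorem uniq_of_quotient {K : Subgroup G} {z : G} (hz : orderOf z = 2) (hzK : z ∈ K)
    (hc : ∀ k ∈ K, k * z = z * k)
    (hu : ∃ w : ↥K ⧸ oddCore ↥K, orderOf w = 2 ∧ ∀ t, orderOf t = 2 → t = w) :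
    ∀ t ∈ K, orderOf t = 2 → t = z := by
  obtain ⟨w, -, hw⟩ := hu
  have hodd : Odd (Nat.card (oddCore ↥K)) :=
    Nat.coprime_two_right.mp (Lib.Cores.pPrimeCore_coprime 2)
  have key : ∀ t : K, orderOf t = 2 → (QuotientGroup.mk' (oddCore ↥K)) t = w := by
    intro t ht
    apply hw
    have h2 : t * t = 1 := by rw [← pow_two, ← ht, pow_orderOf_eq_one]
    apply orderOf_eq_prime
    · rw [pow_two, ← map_mul, h2, map_one]
    · intro h1
      have h3 : t ∈ oddCore ↥K := (QuotientGroup.eq_one_iff t).1 h1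
      have h4 := IntrinsicBasic.eq_one_of_mem_odd hodd h3 (n := 1) (by rw [pow_one, pow_two]; exact h2)
      rw [h4, orderOf_one] at ht
      omega
  intro t ht ht2
  have h1 := key ⟨t, ht⟩ (by rw [← Subgroup.orderOf_coe]; exact ht2)
  have h2 := key ⟨z, hzK⟩ (by rw [← Subgroup.orderOf_coe]; exact hz)
  have h3 : (⟨t, ht⟩ : K)⁻¹ * ⟨z, hzK⟩ ∈ oddCore ↥K := by
    rw [← QuotientGroup.eq]
    exact h1.trans h2.symm
  have ht1 : t * t = 1 := by rw [← pow_two, ← ht2, pow_orderOf_eq_one]
  have hz1 : z * z = 1 := by rw [← pow_two, ← hz, pow_orderOf_eq_one]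
  have h4 := IntrinsicBasic.eq_one_of_mem_odd hodd h3 (n := 1) (by
    rw [pow_one]
    apply Subtype.ext
    change (t⁻¹ * z) ^ 2 = 1
    have h5 : t⁻¹ = t := inv_eq_of_mul_eq_one_left ht1
    rw [h5, pow_two]
    calc t * z * (t * z) = t * (z * t) * z := by group
      _ = t * (t * z) * z := by rw [← hc t ht]
      _ = (t * t) * (z * z) := by group
      _ = 1 := by rw [ht1, hz1, one_mul])
  have h5 := congrArg Subtype.val h4
  change t⁻¹ * z = 1 at h5
  exact inv_mul_eq_one.1 h5

/-- a 2-component of `C(z)` containing `z`, of the right type: `Hyp (cls K)` -/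
theorem hyp_of_comp (z : G) (hz : orderOf z = 2) (K : Subgroup G) (hKz : K ≤ centralizer ({z} : Set G))
    (hzK : z ∈ K) (hK : IsPComponent 2 (K.subgroupOf (centralizer ({z} : Set G))))
    (hT : IsBig (↥K ⧸ oddCore ↥K)) : Hyp (cls K) ∧ zz K = z := by
  have hp2 : Fact (Nat.Prime 2) := ⟨Nat.prime_two⟩
  set X := centralizer ({z} : Set G) with hX
  have hTC : IntrinsicBasic.TC X K := ⟨hKz, hK⟩
  have huniq : ∀ t ∈ K, orderOf t = 2 → t = z :=
    uniq_of_quotient hz hzK (fun k hk => mem_centralizer_singleton_iff.1 (hKz hk)) hT.unique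
  have hperf : ⁅K, K⁆ = K := by
    have h1 := congrArg (Subgroup.map X.subtype) (pcomp_perfect hK)
    rwa [Subgroup.map_commutator, subgroupOf_map_subtype, inf_eq_left.2 hKz] at h1
  have hperf' : commutator ↥K = ⊤ := (Subgroup.isPerfect_iff.mpr hperf).commutator_eq_top
  refine hyp_of_class z hz K hzK hK.1 ?_ huniq ?_ ?_
  · let P : Sylow 2 ↥K := default
    obtain ⟨m, hm, he⟩ := TwoFusion.QuatQuotient.exists_quaternion_sylow hperf' (⟨z, hzK⟩ : K)
      (by rw [← Subgroup.orderOf_coe]; exact hz)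
      (fun x hx => Subtype.ext (huniq x x.2 (by rw [← Subgroup.orderOf_coe] at hx; exact hx))) P
    refine ⟨P, m - 1, ?_⟩
    rwa [Nat.sub_add_cancel hm]
  · intro u hu
    by_cases hne : K.map (MulAut.conj u).toMonoidHom = K
    · exact Or.inl hne
    · right
      have hux : u ∈ normalizer (X : Set G) := le_normalizer hu
      have hTL : IntrinsicBasic.TC X (cj u K) := hTC.cj_of_mem hux
      have hne' : K.subgroupOf X ≠ (cj u K).subgroupOf X := by
        intro h
        apply hne
        have h1 := congrArg (Subgroup.map X.subtype) h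
        rw [subgroupOf_map_subtype, subgroupOf_map_subtype, inf_eq_left.2 hKz, inf_eq_left.2 hTL.le] at h1
        exact h1.symm
      -- the commutator lies in the core of `X`
      have hcore : ⁅K, cj u K⁆ ≤ relCore 2 X := by
        have h1 := commutator_pcomp_le_core hK hTL.comp hne'
        have h2 := Subgroup.map_mono (f := X.subtype) h1
        rwa [Subgroup.map_commutator, subgroupOf_map_subtype, subgroupOf_map_subtype,
          inf_eq_left.2 hKz, inf_eq_left.2 hTL.le] at h2
      have hn1 : K ≤ normalizer (cj u K : Set G) := by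
        have h1 := pcomp_le_normalizer hK hTL.comp
        intro k hk
        have h2 := h1 (show (⟨k, hKz hk⟩ : X) ∈ K.subgroupOf X from hk)
        rw [mem_normalizer_iff] at h2 ⊢
        intro x
        constructor
        · intro hx
          exact (h2 ⟨x, hTL.le hx⟩).1 hx
        · intro hx
          have hxX : x ∈ X := by
            have h3 := hTL.le hx
            have h4 := X.mul_mem (X.mul_mem (X.inv_mem (hKz hk)) h3) (hKz hk)
            have h5 : k⁻¹ * (k * x * k⁻¹) * k = x := by group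
            rwa [h5] at h4
          exact (h2 ⟨x, hxX⟩).2 hx
      have hn2 : cj u K ≤ normalizer (K : Set G) := by
        have h1 := pcomp_le_normalizer hTL.comp hK
        intro k hk
        have h2 := h1 (show (⟨k, hTL.le hk⟩ : X) ∈ (cj u K).subgroupOf X from hk)
        rw [mem_normalizer_iff] at h2 ⊢
        intro x
        constructor
        · intro hx
          exact (h2 ⟨x, hKz hx⟩).1 hx
        · intro hx
          have hxX : x ∈ X := by
            have h3 := hKz hx
            have h4 := X.mul_mem (X.mul_mem (X.inv_mem (hTL.le hk)) h3) (hTL.le hk)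
            have h5 : k⁻¹ * (k * x * k⁻¹) * k = x := by group
            rwa [h5] at h4
          exact (h2 ⟨x, hxX⟩).2 hx
      have hodd : Odd (Nat.card (relCore 2 X)) := IntrinsicBasic.odd_card_relCore X
      have hnX : X ≤ normalizer (relCore 2 X : Set G) :=
        le_normalizer.trans (normalizer_le_normalizer_relCore 2 X)
      have key : ∀ L : Subgroup G, L ≤ X → L ⊓ relCore 2 X ≤ OO L := by
        intro L hL
        apply le_OO inf_le_left
        · intro x hx
          have h1 : x ∈ normalizer (relCore 2 X : Set G) := hnX (hL hx)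
          rw [Cit.mem_normalizer_iff_cj] at h1 ⊢
          rw [cj_inf, h1, Cit.mem_normalizer_iff_cj.1 (le_normalizer hx)]
        · intro h2
          have h3 : 2 ∣ Nat.card (relCore 2 X) := h2.trans (Subgroup.card_dvd_of_le inf_le_right)
          exact (Nat.not_even_iff_odd.2 hodd) (even_iff_two_dvd.2 h3)
      have hl : ⁅K, cj u K⁆ ≤ K := by
        rw [← Subgroup.le_normalizer_iff_commutator_le_left]
        exact hn2
      have hr : ⁅K, cj u K⁆ ≤ cj u K := by
        rw [Subgroup.commutator_comm, ← Subgroup.le_normalizer_iff_commutator_le_left]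
        exact hn1
      exact le_inf ((le_inf hl hcore).trans (key K hKz)) ((le_inf hr hcore).trans (key _ hTL.le))
  · intro y hy g hy2 hy4 hgy
    by_cases hne : cj g K = K
    · have h1 : g * y * g⁻¹ ∈ cj g K := conj_mem_cj hy
      rw [hne] at h1
      exact le_normalizer h1
    · have hL := hTC.cj g
      have hgz : IntrinsicBasic.cj g X = centralizer ({g * z * g⁻¹} : Set G) :=
        IntrinsicBasic.cj_centralizer g z
      have hLz : cj g K ≤ centralizer ({g * z * g⁻¹} : Set G) := by
        have := hL.le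
        rwa [hgz] at this
      have hLc : IsPComponent 2 ((cj g K).subgroupOf (centralizer ({g * z * g⁻¹} : Set G))) := by
        have := hL.comp
        rwa [hgz] at this
      have e : (↥K ⧸ oddCore ↥K) ≃* (↥(cj g K) ⧸ oddCore ↥(cj g K)) := Intrinsic.Basic.cjQuot g K
      refine (S1315.result K (cj g K) (fun h => hne h.symm) z (g * z * g⁻¹) ⟨hzK, hz, huniq⟩
        ⟨conj_mem_cj hzK, ?_, ?_⟩ ⟨hKz, hK⟩ ⟨hLz, hLc⟩ ?_).1 (g * y * g⁻¹) (conj_mem_cj hy) ?_ ?_ ?_
      · rw [← hz]; exact (MulAut.conj g).orderOf_eq z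
      · intro t ht ht2
        have h5 := huniq _ (Cit.mem_cj.1 ht) (by
          rw [← ht2]
          have := (MulAut.conj g⁻¹).orderOf_eq t
          simpa using this)
        rw [← h5]; group
      · rcases hT with ⟨F, i1, i2, h1, h2, ⟨f⟩⟩ | h
        · exact Or.inl ⟨F, i1, i2, h1, ⟨f⟩, ⟨e.symm.trans f⟩⟩
        · exact Or.inr ⟨h, Intrinsic.Basic.cover_congr e h⟩
      · have h6 : zpowers (g * y * g⁻¹) = cj g (zpowers y) := by
          rw [cj_def, MonoidHom.map_zpowers]; simp
        rw [h6]
        exact isPGroup_cj hy2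
      · have := (MulAut.conj g).orderOf_eq y
        simp only [MulAut.conj_apply] at this
        rw [this]; exact hy4
      · exact mem_centralizer_singleton_iff.1 hgy

/-- **(7), `q > 3` and `2.A₇`**: the 2-component inside `J`. -/
theorem exists_hyp (z : G) (hz : orderOf z = 2) (J : Subgroup G)
    (hJz : J ≤ centralizer ({z} : Set G)) (hzJ : z ∈ J)
    (hsn : (J.subgroupOf (centralizer ({z} : Set G))).IsSubnormal) (hJ : IsBig (↥J ⧸ oddCore ↥J)) :
    ∃ K : Subgroup G, K ≤ J ∧ z ∈ K ∧ K ≤ centralizer ({z} : Set G) ∧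
      IsPComponent 2 (K.subgroupOf (centralizer ({z} : Set G))) ∧
      Nonempty ((↥K ⧸ oddCore ↥K) ≃* (↥J ⧸ oddCore ↥J)) ∧ Hyp (cls K) ∧ zz K = z := by
  have hp2 : Fact (Nat.Prime 2) := ⟨Nat.prime_two⟩
  set X := centralizer ({z} : Set G) with hX
  set π := QuotientGroup.mk' (pPrimeCore 2 ↥X) with hπ
  set C := (J.subgroupOf X).map π with hC
  obtain ⟨e, -⟩ := PCompQuot.exists_quotient_equiv 2 hsn
  have eJ : (↥J ⧸ oddCore ↥J) ≃* ↥C := (IntrinsicDiag.quotSubgroupOf hJz).symm.trans e
  have hcomp : IsComponent C :=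
    ⟨hsn.map (QuotientGroup.mk'_surjective _), PCompQuot.quasisimple_congr eJ hJ.quasisimple⟩
  obtain ⟨hK', hmap⟩ := isPComponent_pElem_comap hcomp
  set K' := pElem 2 (C.comap π) with hK'def
  have hK'J : K' ≤ J.subgroupOf X := pElem_comap_le hsn rfl
  set K := K'.map X.subtype with hKdef
  have hKX : K ≤ X := map_subtype_le _
  have hKsub : K.subgroupOf X = K' := comap_map_eq_self_of_injective X.subtype_injective K'
  have hKJ : K ≤ J := by
    rintro _ ⟨y, hy, rfl⟩
    exact hK'J hy
  have hzK : z ∈ K := by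
    refine ⟨⟨z, hJz hzJ⟩, ?_, rfl⟩
    refine mem_pElem (n := 1) ?_ ?_
    · exact ⟨⟨z, hJz hzJ⟩, hzJ, rfl⟩
    · apply Subtype.ext
      change z ^ 2 ^ 1 = 1
      rw [pow_one, ← hz, pow_orderOf_eq_one]
  have hKc : IsPComponent 2 (K.subgroupOf X) := by rw [hKsub]; exact hK'
  obtain ⟨e', -⟩ := PCompQuot.exists_quotient_equiv 2 hKc.1
  have hmap' : (K.subgroupOf X).map π = C := by rw [hKsub]; exact hmap
  have eK : (↥K ⧸ oddCore ↥K) ≃* (↥J ⧸ oddCore ↥J) :=
    ((IntrinsicDiag.quotSubgroupOf hKX).symm.trans e').trans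
      ((MulEquiv.subgroupCongr hmap').trans eJ.symm)
  exact ⟨K, hKJ, hzK, hKX, hKc, ⟨eK⟩, hyp_of_comp z hz K hKX hzK hKc (hJ.congr eK.symm)⟩

end main

end Cfsg.Agent.Cit.Seven
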