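import Cfsg.Agent.Cit.Defs
import Cfsg.Agent.Lib.ThompsonPQ
import Cfsg.Agent.Lib.CoprimeCommutator
import Cfsg.Agent.Lib.PComponents

/-!
# Members of `SL₂(3)`-type when `F*(G) = O₂(G)`

Lemma A of helper193's note (6a) for the classical involution theorem (bb #4650): if `HYP(G, Om)`, every
`K ∈ Om` satisfies `K/O(K) ≅ SL₂(3)` and `P` is a normal 2-subgroup of `G` with `C_G(P) ≤ P`, then
every `K ∈ Om` is isomorphic to `SL₂(3)`, its Sylow 2-subgroup lies in `P`, and different members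
of `Om` commute.
-/

set_option autoImplicit false
set_option linter.style.haveILetI false

namespace Cfsg.Agent.Cit.SolvTwo

open Subgroup Cfsg Cfsg.Agent.Cit

/-! ### Facts about `SL₂(3)` -/

section SL

/-- the group `SL₂(3)` -/
abbrev X := Matrix.SpecialLinearGroup (Fin 2) (ZMod 3)

/-- `-1` -/
def zX : X := ⟨!![-1, 0; 0, -1], by decide⟩
/-- an element of order 4 -/
def iX : X := ⟨!![0, 1; -1, 0], by decide⟩
/-- another one -/
def jX : X := ⟨!![1, 1; 1, -1], by decide⟩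
/-- an element of order 3 -/
def cX : X := ⟨!![1, 1; 0, 1], by decide⟩

set_option maxRecDepth 100000 in
theorem X_cases : ∀ x : X, x * x = zX ∨ x = 1 ∨ x = zX ∨ x * x * x = 1 ∨ x * x * x = zX := by
  decide +kernel

set_option maxRecDepth 100000 in
theorem X_cen : ∀ x : X, x * iX = iX * x → x * jX = jX * x → x = 1 ∨ x = zX := by
  decide +kernel

set_option maxRecDepth 100000 in
theorem X_conj : ∀ x : X, x * x = zX → ∃ g : X, g * x = iX * g := by
  decide +kernel

theorem X_rel : iX * iX = zX ∧ jX * jX = zX ∧ cX * cX * cX = 1 ∧ cX ≠ 1 ∧ zX * zX = 1 ∧ zX ≠ 1 ∧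
    iX * jX ≠ jX * iX := by
  decide +kernel

end SL

variable {G : Type*} [Group G]

/-- `K` is isomorphic to `SL₂(3)`, with involution `z` -/
structure T3 (K : Subgroup G) (z : G) : Prop where
  z_mem : z ∈ K
  z_sq : z * z = 1
  z_ne : z ≠ 1
  cases : ∀ x ∈ K, x * x = z ∨ x = 1 ∨ x = z ∨ x * x * x = 1 ∨ x * x * x = z
  conj : ∀ x ∈ K, ∀ y ∈ K, x * x = z → y * y = z → ∃ g ∈ K, g * x * g⁻¹ = y
  cen : ∀ x ∈ K, (∀ y ∈ K, y * y = z → x * y = y * x) → x = 1 ∨ x = z
  ex3 : ∃ c ∈ K, c * c * c = 1 ∧ c ≠ 1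
  ex4 : ∃ x ∈ K, ∃ y ∈ K, x * x = z ∧ y * y = z ∧ x * y ≠ y * x

/-- transport from the model -/
theorem T3.of_equiv {K : Subgroup G} (e : K ≃* X) : T3 K ((e.symm zX : K) : G) := by
  obtain ⟨hi, hj, hc, hc1, hz, hz1, hij⟩ := X_rel
  have hm : ∀ x y : X, ((e.symm x : K) : G) * ((e.symm y : K) : G) = ((e.symm (x * y) : K) : G) := by
    intro x y; rw [map_mul]; rfl
  have h1 : ((e.symm 1 : K) : G) = 1 := by rw [map_one]; rfl
  have hinj : ∀ x y : X, ((e.symm x : K) : G) = ((e.symm y : K) : G) ↔ x = y := by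
    intro x y
    rw [← Subtype.ext_iff, e.symm.injective.eq_iff]
  have hex : ∀ x ∈ K, ∃ y : X, ((e.symm y : K) : G) = x := by
    intro x hx
    exact ⟨e ⟨x, hx⟩, by rw [e.symm_apply_apply]⟩
  have hmem : ∀ x : X, ((e.symm x : K) : G) ∈ K := fun x => (e.symm x).2
  refine ⟨hmem _, ?_, ?_, ?_, ?_, ?_, ?_, ?_⟩
  · rw [hm, hz, h1]
  · rw [← h1, Ne, hinj]; exact hz1
  · intro x hx
    obtain ⟨y, rfl⟩ := hex x hx
    simp only [hm]
    simp only [← h1, hinj]
    exact X_cases y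
  · intro x hx y hy hxx hyy
    obtain ⟨x, rfl⟩ := hex x hx
    obtain ⟨y, rfl⟩ := hex y hy
    rw [hm, hinj] at hxx hyy
    obtain ⟨g, hg⟩ := X_conj x hxx
    obtain ⟨k, hk⟩ := X_conj y hyy
    refine ⟨_, hmem (k⁻¹ * g), ?_⟩
    rw [mul_inv_eq_iff_eq_mul, hm, hm, hinj]
    calc k⁻¹ * g * x = k⁻¹ * (g * x) := by group
      _ = k⁻¹ * (iX * k) * k⁻¹ * g := by rw [hg]; group
      _ = y * (k⁻¹ * g) := by rw [← hk]; group
  · intro x hx hall
    obtain ⟨x, rfl⟩ := hex x hx
    have h2 := hall _ (hmem iX) (by rw [hm, hi])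
    have h3 := hall _ (hmem jX) (by rw [hm, hj])
    rw [hm, hm, hinj] at h2 h3
    rw [← h1, hinj, hinj]
    exact X_cen x h2 h3
  · refine ⟨_, hmem cX, ?_, ?_⟩
    · rw [hm, hm, hc, h1]
    · rw [← h1, Ne, hinj]; exact hc1
  · refine ⟨_, hmem iX, _, hmem jX, ?_, ?_, ?_⟩
    · rw [hm, hi]
    · rw [hm, hj]
    · rw [hm, hm, Ne, hinj]; exact hij

namespace T3

variable {K : Subgroup G} {z : G}

/-- a 2-element of `K` -/
theorem cases_two (h : T3 K z) {x : G} (hx : x ∈ K) {n : ℕ} (h2 : x ^ 2 ^ n = 1) :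
    x * x = z ∨ x = 1 ∨ x = z := by
  have hco : ∀ y : G, y ^ 2 ^ n = 1 → y ^ 3 = 1 → y = 1 := by
    intro y h4 h3
    have h5 := Nat.dvd_gcd (orderOf_dvd_of_pow_eq_one h4) (orderOf_dvd_of_pow_eq_one h3)
    have h6 : Nat.gcd (2 ^ n) 3 = 1 := Nat.Coprime.pow_left n (by norm_num)
    rw [h6, Nat.dvd_one, orderOf_eq_one_iff] at h5
    exact h5
  rcases h.cases x hx with h1 | h1 | h1 | h1 | h1
  · exact Or.inl h1
  · exact Or.inr (Or.inl h1)
  · exact Or.inr (Or.inr h1)
  · right; left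
    exact hco x h2 (by rw [pow_succ, pow_two, h1])
  · right; right
    have h3 : x * x = 1 := by
      refine hco _ ?_ ?_
      · rw [← pow_two, ← pow_mul, mul_comm, pow_mul, h2, one_pow]
      · calc (x * x) ^ 3 = (x * x * x) * (x * x * x) := by simp only [pow_succ, pow_zero, one_mul, mul_assoc]
          _ = 1 := by rw [h1, h.z_sq]
    rw [h3, one_mul] at h1
    exact h1

/-- an element normalising `K ≅ SL₂(3)` and centralising its Sylow 2-subgroup centralises `K` -/
theorem comm (h : T3 K z) (hzK : ∀ x ∈ K, x * z = z * x) {n : G} (hn : n ∈ normalizer (K : Set G))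
    (hc : ∀ y ∈ K, y * y = z → n * y = y * n) : ∀ x ∈ K, n * x = x * n := by
  have hnz : n * z = z * n := by
    obtain ⟨x, hx, y, hy, hxx, hyy, _⟩ := h.ex4
    rw [← hxx, ← mul_assoc, hc x hx hxx, mul_assoc, hc x hx hxx, mul_assoc]
  have h3 : ∀ c ∈ K, c * c * c = 1 → n * c = c * n := by
    intro c hcK hc3
    have hd : n * c * n⁻¹ ∈ K := (mem_normalizer_iff.1 hn c).1 hcK
    have hd3 : (n * c * n⁻¹) * (n * c * n⁻¹) * (n * c * n⁻¹) = 1 := by
      calc _ = n * (c * c * c) * n⁻¹ := by group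
        _ = 1 := by rw [hc3]; group
    have hx : c⁻¹ * (n * c * n⁻¹) = 1 ∨ c⁻¹ * (n * c * n⁻¹) = z := by
      refine h.cen _ (K.mul_mem (K.inv_mem hcK) hd) ?_
      intro y hy hyy
      have h1 : n * y * n⁻¹ = y := by rw [hc y hy hyy]; group
      have h2 : n * (c * y * c⁻¹) * n⁻¹ = c * y * c⁻¹ := by
        have h3 : (c * y * c⁻¹) * (c * y * c⁻¹) = z := by
          calc (c * y * c⁻¹) * (c * y * c⁻¹) = c * (y * y) * c⁻¹ := by group
            _ = z := by rw [hyy, hzK c hcK]; group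
        rw [hc _ (K.mul_mem (K.mul_mem hcK hy) (K.inv_mem hcK)) h3]; group
      have h4 : (n * c * n⁻¹) * y * (n * c * n⁻¹)⁻¹ = c * y * c⁻¹ := by
        calc (n * c * n⁻¹) * y * (n * c * n⁻¹)⁻¹
            = (n * c * n⁻¹) * (n * y * n⁻¹) * (n * c * n⁻¹)⁻¹ := by rw [h1]
          _ = n * (c * y * c⁻¹) * n⁻¹ := by group
          _ = _ := h2
      calc c⁻¹ * (n * c * n⁻¹) * y
          = c⁻¹ * ((n * c * n⁻¹) * y * (n * c * n⁻¹)⁻¹) * (n * c * n⁻¹) := by group
        _ = c⁻¹ * (c * y * c⁻¹) * (n * c * n⁻¹) := by rw [h4]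
        _ = y * (c⁻¹ * (n * c * n⁻¹)) := by group
    rcases hx with hx | hx
    · have : n * c * n⁻¹ = c := by
        calc n * c * n⁻¹ = c * (c⁻¹ * (n * c * n⁻¹)) := by group
          _ = c := by rw [hx, mul_one]
      calc n * c = (n * c * n⁻¹) * n := by group
        _ = c * n := by rw [this]
    · exfalso
      have h5 : n * c * n⁻¹ = c * z := by
        calc n * c * n⁻¹ = c * (c⁻¹ * (n * c * n⁻¹)) := by group
          _ = c * z := by rw [hx]
      rw [h5] at hd3
      apply h.z_ne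
      calc z = (c * c * c) * (z * z) * z := by rw [hc3, h.z_sq]; group
        _ = (c * z) * (c * z) * (c * z) := by
            have h6 : c * z = z * c := hzK c hcK
            calc (c * c * c) * (z * z) * z = c * (c * (c * z) * z) * z := by group
              _ = c * (c * (z * c) * z) * z := by rw [h6]
              _ = c * ((c * z) * (c * z)) * z := by group
              _ = c * ((z * c) * (c * z)) * z := by nth_rw 1 [h6]
              _ = (c * z) * c * (c * z) * z := by group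
              _ = (c * z) * c * (z * c) * z := by rw [← h6]
              _ = (c * z) * (c * z) * (c * z) := by group
        _ = 1 := hd3
  intro x hx
  rcases h.cases x hx with h1 | h1 | h1 | h1 | h1
  · exact hc x hx h1
  · rw [h1, mul_one, one_mul]
  · rw [h1]; exact hnz
  · exact h3 x hx h1
  · have h4 : (x * z) * (x * z) * (x * z) = 1 := by
      have h6 : x * z = z * x := hzK x hx
      calc (x * z) * (x * z) * (x * z) = x * (z * x) * (z * x) * z := by group
        _ = x * (x * z) * (x * z) * z := by rw [← h6]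
        _ = x * x * (z * x) * (z * z) := by group
        _ = x * x * (x * z) * (z * z) := by rw [← h6]
        _ = (x * x * x) * z * (z * z) := by group
        _ = 1 := by rw [h1, h.z_sq, mul_one]
    have h5 := h3 _ (K.mul_mem hx h.z_mem) h4
    have h7 : x = x * z * z := by rw [mul_assoc, h.z_sq, mul_one]
    rw [h7]
    calc n * (x * z * z) = (n * (x * z)) * z := by group
      _ = x * z * (n * z) := by rw [h5]; group
      _ = x * z * z * n := by rw [hnz]; group

end T3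

/-! ### Subnormal subgroups -/

/-- `D = [D,A]`, `A ≤ H` subnormal in `C ≥ D` implies `D ≤ H` -/
theorem le_of_isSubnormal {C A D : Subgroup G} (hD : D ≤ C) (hDA : D ≤ ⁅D, A⁆) {H : Subgroup C}
    (hH : H.IsSubnormal) : A ≤ H.map C.subtype → D ≤ H.map C.subtype := by
  induction hH with
  | top =>
    intro _
    rw [← MonoidHom.range_eq_map, range_subtype]
    exact hD
  | step H K h_le hSubn hN ih =>
    intro hA
    have h1 := ih (hA.trans (Subgroup.map_mono h_le))
    refine hDA.trans ?_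
    refine (Subgroup.commutator_mono h1 hA).trans ?_
    rw [← Subgroup.map_commutator]
    apply Subgroup.map_mono
    rw [Subgroup.commutator_le]
    intro a ha b hb
    have hn := (normal_subgroupOf_iff_le_normalizer h_le).1 hN
    exact H.mul_mem ((mem_normalizer_iff.1 (hn ha) b).1 hb) (H.inv_mem hb)

/-- the type of the members: `K/O(K) ≅ SL₂(3)` -/
def IsT (K : Subgroup G) : Prop := Nonempty (↥K ⧸ oddCore ↥K ≃* X)

variable {Om : Set (Subgroup G)}

theorem T3_of_isT [Finite G] (h : Hyp Om) {K : Subgroup G} (hK : K ∈ Om) (hT : IsT K)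
    (hO : OO K = ⊥) : T3 K (zz K) := by
  obtain ⟨e⟩ := hT
  have h1 : oddCore K = ⊥ := by
    rw [OO, Subgroup.map_eq_bot_iff, ker_subtype] at hO
    exact le_bot_iff.1 hO
  have e1 : K ≃* X := (QuotientGroup.quotientBot.symm.trans (QuotientGroup.quotientMulEquivOfEq h1.symm)).trans e
  have h2 := T3.of_equiv e1
  have h3 := h.eq_zz hK h2.z_mem h2.z_sq h2.z_ne
  rwa [h3] at h2

/-- elements of a 2-group which lie in a group of odd order -/
theorem eq_one_of_coprime [Finite G] {P W : Subgroup G} (hP : IsPGroup 2 P)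
    (hW : (Nat.card W).Coprime 2) {x : G} (hx : x ∈ P) (hxW : x ∈ W) : x = 1 := by
  obtain ⟨n, hn⟩ := hP ⟨x, hx⟩
  have hn' : x ^ 2 ^ n = 1 := by simpa [Subtype.ext_iff] using hn
  have h1 : orderOf x ∣ Nat.card W := by
    rw [← Subgroup.orderOf_mk x hxW]
    exact orderOf_dvd_natCard _
  have h2 := Nat.dvd_gcd h1 (orderOf_dvd_of_pow_eq_one hn')
  rw [Nat.Coprime.pow_right n hW, Nat.dvd_one, orderOf_eq_one_iff] at h2
  exact h2

/-- the `A × B`-lemma for `⟨z⟩ × W` acting on the normal 2-subgroup `P` -/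
theorem le_cent [Finite G] {z : G} (hz : z * z = 1) {W P : Subgroup G} [hPn : P.Normal]
    (hP : IsPGroup 2 P) (hWc : (Nat.card W).Coprime 2) (hW : ∀ w ∈ W, w * z = z * w)
    (hC : ∀ x ∈ P, x * z = z * x → ∀ w ∈ W, x * w = w * x) : W ≤ centralizer (P : Set G) := by
  haveI : Fact (Nat.Prime 2) := ⟨Nat.prime_two⟩
  refine Lib.ThompsonPQ.thompson_p_times_q 2 (zpowers z) W P ?_ hWc hP ?_ ?_ ?_ ?_
  · rintro ⟨x, k, rfl⟩
    refine ⟨1, ?_⟩
    apply Subtype.ext
    change (z ^ k) ^ (2 ^ 1) = 1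
    rw [pow_one, ← zpow_natCast, ← zpow_mul, mul_comm, zpow_mul, zpow_natCast, pow_two, hz, one_zpow]
  · rw [zpowers_le, mem_centralizer_iff]
    exact hW
  · rw [normalizer_eq_top]; exact le_top
  · rw [normalizer_eq_top]; exact le_top
  · rintro x ⟨hxP, hxz⟩
    rw [mem_centralizer_iff]
    intro w hw
    exact (hC x hxP (mem_centralizer_iff.1 hxz z (mem_zpowers z)).symm w hw).symm

/-- Step 0: `O(C(z_K)) = 1` and hence `O(K) = 1` -/
theorem OO_eq_bot [Finite G] (h : Hyp Om) {K : Subgroup G} (hK : K ∈ Om) (P : Subgroup G) [hPn : P.Normal]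
    (hP : IsPGroup 2 P) (hC : centralizer (P : Set G) ≤ P) : OO K = ⊥ := by
  set z := zz K with hz
  set C := centralizer ({z} : Set G) with hCdef
  set W : Subgroup G := (pPrimeCore 2 C).map C.subtype with hW
  have hWC : W ≤ C := map_subtype_le _
  have hWcop : (Nat.card W).Coprime 2 := by
    rw [hW, card_map_of_injective C.subtype_injective]
    exact Lib.Cores.pPrimeCore_coprime 2
  have hWn : ∀ x ∈ C, ∀ w ∈ W, x * w * x⁻¹ ∈ W := by
    rintro x hx _ ⟨w, hw, rfl⟩
    have hn : (pPrimeCore 2 C).Normal := Lib.Cores.pPrimeCore_normal 2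
    exact ⟨_, hn.conj_mem w hw ⟨x, hx⟩, rfl⟩
  have hWP : W ≤ centralizer (P : Set G) := by
    refine le_cent (z := z) (h.zz_mul hK) hP hWcop ?_ ?_
    · intro w hw
      exact mem_centralizer_singleton_iff.1 (hWC hw)
    · intro x hxP hxz w hw
      have hxC : x ∈ C := mem_centralizer_singleton_iff.2 hxz
      have h1 : x * w * x⁻¹ * w⁻¹ = 1 := by
        refine eq_one_of_coprime hP hWcop ?_ ?_
        · have h2 := P.mul_mem hxP (hPn.conj_mem _ (P.inv_mem hxP) w)
          simpa [mul_assoc] using h2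
        · exact W.mul_mem (hWn x hxC w hw) (W.inv_mem hw)
      rw [mul_inv_eq_one, mul_inv_eq_iff_eq_mul] at h1
      exact h1
  have hWbot : W = ⊥ := by
    rw [eq_bot_iff]
    intro x hx
    exact mem_bot.2 (eq_one_of_coprime hP hWcop (hC (hWP hx)) hx)
  have hcore : pPrimeCore 2 C = ⊥ := by
    rw [hW, Subgroup.map_eq_bot_iff, ker_subtype] at hWbot
    exact le_bot_iff.1 hWbot
  have hKC : K ≤ C := h.le_centralizer hK
  have h1 := Lib.PComponents.map_pPrimeCore_le_of_isSubnormal (p := 2) (h.sub K hK)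
  rw [← hz, ← hCdef, hcore, le_bot_iff, Subgroup.map_eq_bot_iff, ker_subtype, le_bot_iff] at h1
  have h2 := Lib.Cores.map_equiv_pPrimeCore (subgroupOfEquivOfLe hKC) 2
  rw [h1, Subgroup.map_bot] at h2
  rw [OO, oddCore, ← h2, Subgroup.map_bot]

/-- the elements of order 4 of `K` lie in `P` -/
theorem mem_P [Finite G] (h : Hyp Om) {K : Subgroup G} (hK : K ∈ Om) (P : Subgroup G) [hPn : P.Normal]
    (hP : IsPGroup 2 P) (hC : centralizer (P : Set G) ≤ P) (hT : T3 K (zz K)) :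
    ∀ y ∈ K, y * y = zz K → y ∈ P := by
  set z := zz K with hz
  set C := centralizer ({z} : Set G) with hCdef
  have hKC : K ≤ C := h.le_centralizer hK
  obtain ⟨c, hc, hc3, hc1⟩ := hT.ex3
  have hcC : c * z = z * c := mem_centralizer_singleton_iff.1 (hKC hc)
  have hco : orderOf c = 3 := orderOf_eq_prime (by rw [← hc3]; simp only [pow_succ, pow_zero, one_mul]) hc1
  have hAcop : (Nat.card (zpowers c)).Coprime 2 := by
    rw [Nat.card_zpowers, hco]; norm_num
  set A := zpowers c with hA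
  have hAK : A ≤ K := by rwa [hA, zpowers_le]
  set D := ⁅P ⊓ C, A⁆ with hD
  have hAC : A ≤ C := hAK.trans hKC
  have hAn : A ≤ normalizer ((P ⊓ C : Subgroup G) : Set G) := by
    intro a ha
    rw [mem_normalizer_iff_cj, cj_inf]
    have h1 : cj a P = P := by
      rw [← mem_normalizer_iff_cj, normalizer_eq_top]; trivial
    have h2 : cj a C = C := by
      rw [← mem_normalizer_iff_cj]; exact le_normalizer (hAC ha)
    rw [h1, h2]
  have hDD : ⁅D, A⁆ = D := by
    refine Lib.CoprimeCommutator.commutator_commutator_eq A (P ⊓ C) hAn ?_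
    obtain ⟨n, hn⟩ := (IsPGroup.iff_card (p := 2)).1 (hP.to_le (inf_le_left : P ⊓ C ≤ P))
    rw [hn]
    exact Nat.Coprime.pow_right n hAcop
  have hDC : D ≤ C := (Subgroup.commutator_mono inf_le_right hAC).trans (Subgroup.commutator_le_self C)
  have hDP : D ≤ P := (Subgroup.commutator_mono inf_le_left (le_refl A)).trans (Subgroup.commutator_le_left P A)
  have hDK : D ≤ K := by
    have h1 := le_of_isSubnormal (C := C) (A := A) (D := D) hDC hDD.ge (h.sub K hK)
    rw [map_subgroupOf_eq_of_le hKC] at h1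
    exact h1 hAK
  -- an element of `K ⊓ P` of order 4
  have hex : ∃ x ∈ K, x ∈ P ∧ x ≠ 1 ∧ x ≠ z := by
    by_contra hcon
    push Not at hcon
    have h1 : ∀ x ∈ D, x = 1 ∨ x = z := by
      intro x hx
      by_cases hx1 : x = 1
      · exact Or.inl hx1
      · exact Or.inr (hcon x (hDK hx) (hDP hx) hx1)
    have h2 : D = ⊥ := by
      rw [← hDD, Subgroup.commutator_eq_bot_iff_le_centralizer]
      intro x hx
      rw [mem_centralizer_iff]
      intro a ha
      rcases h1 x hx with rfl | rfl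
      · rw [mul_one, one_mul]
      · exact mem_centralizer_singleton_iff.1 (hAC ha)
    rw [hD, Subgroup.commutator_eq_bot_iff_le_centralizer] at h2
    have h3 : A ≤ centralizer (P : Set G) := by
      refine le_cent (z := z) hT.z_sq hP hAcop ?_ ?_
      · intro a ha; exact mem_centralizer_singleton_iff.1 (hAC ha)
      · intro x hx hxz a ha
        exact (mem_centralizer_iff.1 (h2 ⟨hx, mem_centralizer_singleton_iff.2 hxz⟩) a ha).symm
    exact hc1 (eq_one_of_coprime hP hAcop (hC (h3 (mem_zpowers c))) (mem_zpowers c))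
  obtain ⟨x, hxK, hxP, hx1, hxz⟩ := hex
  obtain ⟨n, hn⟩ := hP ⟨x, hxP⟩
  have hn' : x ^ 2 ^ n = 1 := by simpa [Subtype.ext_iff] using hn
  have hxx : x * x = z := by
    rcases hT.cases_two hxK hn' with h1 | h1 | h1
    · exact h1
    · exact absurd h1 hx1
    · exact absurd h1 hxz
  intro y hy hyy
  obtain ⟨g, hg, rfl⟩ := hT.conj x hxK y hy hxx hyy
  exact hPn.conj_mem x hxP g

/-- every 2-element of `K` lies in `P` -/
theorem two_le [Finite G] (h : Hyp Om) {K : Subgroup G} (hK : K ∈ Om) (P : Subgroup G) [hPn : P.Normal]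
    (hP : IsPGroup 2 P) (hC : centralizer (P : Set G) ≤ P) (hT : T3 K (zz K)) {Q : Subgroup G}
    (hQK : Q ≤ K) (hQ : IsPGroup 2 Q) : Q ≤ P := by
  intro x hx
  obtain ⟨n, hn⟩ := hQ ⟨x, hx⟩
  have hn' : x ^ 2 ^ n = 1 := by simpa [Subtype.ext_iff] using hn
  have h4 := mem_P h hK P hP hC hT
  rcases hT.cases_two (hQK hx) hn' with h1 | h1 | h1
  · exact h4 x (hQK hx) h1
  · rw [h1]; exact P.one_mem
  · obtain ⟨y, hy, _, _, hyy, _, _⟩ := hT.ex4
    rw [h1, ← hyy]
    exact P.mul_mem (h4 y hy hyy) (h4 y hy hyy)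

/-- two members whose elements of order 4 commute -/
theorem comm_of_four [Finite G] (h : Hyp Om) {K L : Subgroup G} (hK : K ∈ Om) (hL : L ∈ Om)
    (hKL : K ≠ L) (hTK : T3 K (zz K)) (hTL : T3 L (zz L)) (hOK : OO K = ⊥) (hOL : OO L = ⊥)
    (hc : ∀ x ∈ K, ∀ y ∈ L, x * x = zz K → y * y = zz L → x * y = y * x) :
    ∀ x ∈ K, ∀ y ∈ L, x * y = y * x := by
  have hbot : ⁅K, L⁆ ≤ OO K ⊓ OO L → ∀ x ∈ K, ∀ y ∈ L, x * y = y * x := by
    intro h1 x hx y hy
    rw [hOK, bot_inf_eq, le_bot_iff, Subgroup.commutator_eq_bot_iff_le_centralizer] at h1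
    exact (mem_centralizer_iff.1 (h1 hx) y hy).symm
  by_cases hz : zz K = zz L
  · rcases h.h2 K hK L hL hz with h1 | h1
    · exact absurd h1 hKL
    · exact hbot h1
  have hzK : ∀ x ∈ K, x * zz K = zz K * x := fun x hx =>
    mem_centralizer_singleton_iff.1 (h.le_centralizer hK hx)
  have hzL : ∀ x ∈ L, x * zz L = zz L * x := fun x hx =>
    mem_centralizer_singleton_iff.1 (h.le_centralizer hL hx)
  -- elements of order 4 of `L` normalise and centralise `K`
  have key : ∀ {K L : Subgroup G}, K ∈ Om → L ∈ Om → T3 K (zz K) → T3 L (zz L) →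
      (∀ x ∈ K, ∀ y ∈ L, x * x = zz K → y * y = zz L → x * y = y * x) →
      ∀ y ∈ L, y * y = zz L → ∀ x ∈ K, y * x = x * y := by
    intro K L hK hL hTK hTL hc y hy hyy
    have hzK : ∀ x ∈ K, x * zz K = zz K * x := fun x hx =>
      mem_centralizer_singleton_iff.1 (h.le_centralizer hK hx)
    have hyo : orderOf y = 4 := GQ.orderOf_of_sq hyy hTL.z_sq hTL.z_ne
    refine hTK.comm hzK ?_ (fun x hx hxx => (hc x hx y hy hxx hyy).symm)
    refine h.h3 L hL K hK y hy ?_ hyo.ge ?_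
    · exact IsPGroup.of_card (n := 2) (by rw [Nat.card_zpowers, hyo]; norm_num)
    · obtain ⟨x, hx, _, _, hxx, _, _⟩ := hTK.ex4
      rw [← hxx, ← mul_assoc, ← hc x hx y hy hxx hyy, mul_assoc, ← hc x hx y hy hxx hyy, mul_assoc]
  have hLK := key hK hL hTK hTL hc
  have hKL' := key hL hK hTL hTK (fun x hx y hy h1 h2 => (hc y hy x hx h2 h1).symm)
  -- now `x ∈ K` fixes `L`
  intro x hx
  refine hTL.comm hzL ?_ (fun y hy hyy => (hLK y hy hyy x hx).symm)
  rw [mem_normalizer_iff_cj]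
  have hxz : x * zz L = zz L * x := by
    obtain ⟨y, hy, _, _, hyy, _, _⟩ := hTL.ex4
    have h4 : x * y = y * x := (hLK y hy hyy x hx).symm
    rw [← hyy, ← mul_assoc, h4, mul_assoc, h4, ← mul_assoc]
  have h1 : zz (cj x L) = zz L := by
    rw [h.zz_cj hL, hxz]; group
  rcases h.h2 _ (h.conj L hL x) L hL h1 with h2 | h2
  · exact h2
  · exfalso
    obtain ⟨y, hy, y', hy', hyy, hyy', hne⟩ := hTL.ex4
    rw [hOL, inf_bot_eq, le_bot_iff, Subgroup.commutator_eq_bot_iff_le_centralizer] at h2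
    have h3 : y ∈ cj x L := by
      have : x * y * x⁻¹ = y := by rw [← hLK y hy hyy x hx]; group
      rw [← this]
      exact conj_mem_cj hy
    exact hne (mem_centralizer_iff.1 (h2 h3) y' hy').symm

/-- **Lemma A** (members of `SL₂(3)`-type, `F*(G) = O₂(G)`) -/
theorem lemmaA [Finite G] (h : Hyp Om) (hT : ∀ K ∈ Om, IsT K) (P : Subgroup G) [P.Normal]
    (hP : IsPGroup 2 P) (hC : centralizer (P : Set G) ≤ P)
    (hcomm : ∀ S : Sylow 2 G, ∀ K ∈ OmS Om (S : Subgroup G), ∀ L ∈ OmS Om (S : Subgroup G), K ≠ L →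
      ∀ x ∈ K ⊓ (S : Subgroup G), ∀ y ∈ L ⊓ (S : Subgroup G), x * y = y * x) :
    (∀ K ∈ Om, OO K = ⊥ ∧ T3 K (zz K) ∧ ∀ Q : Subgroup G, Q ≤ K → IsPGroup 2 Q → Q ≤ P) ∧
      ∀ K ∈ Om, ∀ L ∈ Om, K ≠ L → ∀ x ∈ K, ∀ y ∈ L, x * y = y * x := by
  haveI : Fact (Nat.Prime 2) := ⟨Nat.prime_two⟩
  have h1 : ∀ K ∈ Om, OO K = ⊥ ∧ T3 K (zz K) ∧ ∀ Q : Subgroup G, Q ≤ K → IsPGroup 2 Q → Q ≤ P := by
    intro K hK
    have h2 := OO_eq_bot h hK P hP hC
    have h3 := T3_of_isT h hK (hT K hK) h2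
    exact ⟨h2, h3, fun Q hQ hQ2 => two_le h hK P hP hC h3 hQ hQ2⟩
  refine ⟨h1, ?_⟩
  intro K hK L hL hKL
  obtain ⟨S, hS⟩ := hP.exists_le_sylow
  refine comm_of_four h hK hL hKL (h1 K hK).2.1 (h1 L hL).2.1 (h1 K hK).1 (h1 L hL).1 ?_
  have hmem : ∀ K ∈ Om, K ∈ OmS Om (S : Subgroup G) := by
    intro K hK
    obtain ⟨Q, hQ⟩ := Hyp.exists_syl K
    exact mem_OmS_of_le hK hQ (((h1 K hK).2.2 Q hQ.1 hQ.2.1).trans hS)
  intro x hx y hy hxx hyy
  refine hcomm S K (hmem K hK) L (hmem L hL) hKL x ⟨hx, hS ?_⟩ y ⟨hy, hS ?_⟩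
  · exact mem_P h hK P hP hC (h1 K hK).2.1 x hx hxx
  · exact mem_P h hL P hP hC (h1 L hL).2.1 y hy hyy

end Cfsg.Agent.Cit.SolvTwo
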