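import Cfsg.Agent.Cit.Comp
import Cfsg.Agent.SignalizersComponents.CompBasic
import Cfsg.Agent.Lib.CoprimeCommutator
import Cfsg.Agent.Lib.CoprimeStab
import Cfsg.Agent.Lib.GenFitting
import Cfsg.Agent.SignalizersComponents.PConstrained
import Cfsg.Agent.Cit.SolvTwo

/-!
# THEOREM R (helper149, bb #5989): reduction to one component

`(b)`: if `zz K` does not centralise the component `L` then `K` normalises `L` and the Sylow 2-subgroups of
`K` lie in `L`; there is at most one such component.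
-/

set_option autoImplicit false
set_option linter.style.haveILetI false
set_option linter.unusedSectionVars false

namespace Cfsg.Agent.Cit.OneComp

open Subgroup Cfsg Cfsg.Agent.Cit Cfsg.Agent.Cit.Comp
open Cfsg.Agent.SignalizersComponents.Components
open scoped commutatorElement

variable {G : Type*} [Group G]

/-- a 2-subgroup of a commuting product lies in a product of 2-subgroups of the factors -/
theorem exists_factors [Finite G] {L R Q : Subgroup G} (hc : ∀ x ∈ L, ∀ y ∈ R, x * y = y * x)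
    (hQ : IsPGroup 2 Q) (hQM : Q ≤ L ⊔ R) :
    ∃ T₁ T₂ : Subgroup G, T₁ ≤ L ∧ T₂ ≤ R ∧ Q ≤ T₁ ⊔ T₂ ∧ IsPGroup 2 (T₁ ⊔ T₂ : Subgroup G) := by
  haveI : Fact (Nat.Prime 2) := ⟨Nat.prime_two⟩
  obtain ⟨A, hA⟩ := Hyp.exists_syl L
  obtain ⟨B, hB⟩ := Hyp.exists_syl R
  let f : L × R →* G :=
    { toFun := fun x => (x.1 : G) * x.2
      map_one' := by simp
      map_mul' := fun x y => by
        have h1 := hc y.1 y.1.2 x.2 x.2.2
        simp only [Prod.fst_mul, Prod.snd_mul, Subgroup.coe_mul]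
        calc (x.1 : G) * y.1 * (x.2 * y.2) = x.1 * (y.1 * x.2) * y.2 := by group
          _ = x.1 * x.2 * (y.1 * y.2) := by rw [h1]; group }
  have hf : ∀ x, f x = (x.1 : G) * x.2 := fun x => rfl
  have hrange : (⊤ : Subgroup (L × R)).map f = L ⊔ R := by
    apply le_antisymm
    · rintro _ ⟨x, -, rfl⟩
      exact (L ⊔ R).mul_mem (mem_sup_left x.1.2) (mem_sup_right x.2.2)
    · rw [sup_le_iff]
      constructor
      · intro x hx
        exact ⟨(⟨x, hx⟩, 1), mem_top _, by simp [hf]⟩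
      · intro x hx
        exact ⟨(1, ⟨x, hx⟩), mem_top _, by simp [hf]⟩
  have hAB : ((A.subgroupOf L).prod (B.subgroupOf R)).map f = A ⊔ B := by
    apply le_antisymm
    · rintro _ ⟨x, hx, rfl⟩
      exact (A ⊔ B).mul_mem (mem_sup_left hx.1) (mem_sup_right hx.2)
    · rw [sup_le_iff]
      constructor
      · intro x hx
        exact ⟨(⟨x, hA.1 hx⟩, 1), ⟨hx, one_mem _⟩, by simp [hf]⟩
      · intro x hx
        exact ⟨(1, ⟨x, hB.1 hx⟩), ⟨one_mem _, hx⟩, by simp [hf]⟩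
  have h1 : ¬ 2 ∣ (A ⊔ B).relIndex (L ⊔ R) := by
    rw [← hrange, ← hAB]
    intro h2
    have h3 := h2.trans (relIndex_map_dvd f _ _)
    rw [relIndex_top_right, index_prod] at h3
    rcases (Nat.Prime.dvd_mul Nat.prime_two).1 h3 with h4 | h4
    · exact hA.2.2 h4
    · exact hB.2.2 h4
  have h2 : IsPGroup 2 (A ⊔ B : Subgroup G) := by
    intro x
    obtain ⟨a, ha, b, hb, hab⟩ := mem_sup_comm
      (fun x hx y hy => hc x (hA.1 hx) y (hB.1 hy)) x.2
    obtain ⟨k, hk⟩ := hA.2.1 ⟨a, ha⟩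
    obtain ⟨l, hl⟩ := hB.2.1 ⟨b, hb⟩
    have hk' : a ^ 2 ^ k = 1 := congrArg Subtype.val hk
    have hl' : b ^ 2 ^ l = 1 := congrArg Subtype.val hl
    refine ⟨k + l, Subtype.ext ?_⟩
    have hab2 : Commute a b := hc a (hA.1 ha) b (hB.1 hb)
    rw [Subgroup.coe_pow, ← hab, hab2.mul_pow, pow_add, pow_mul, hk', one_pow, one_mul, mul_comm (2 ^ k),
      pow_mul, hl', one_pow]
    rfl
  have hS : Syl (A ⊔ B) (L ⊔ R) := ⟨sup_le_sup hA.1 hB.1, h2, h1⟩
  obtain ⟨T, hT, hQT⟩ := exists_syl_ge hQ hQM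
  obtain ⟨m, hm, hmT⟩ := hS.exists_conj hT
  obtain ⟨l, hl, r, hr, rfl⟩ := mem_sup_comm hc hm
  have hL : cj (l * r) L = L := by
    rw [cj_mul]
    have h3 : cj r L = L := by
      rw [← mem_normalizer_iff_cj]
      apply centralizer_le_normalizer
      rw [mem_centralizer_iff]
      exact fun x hx => hc x hx r hr
    rw [h3]
    exact mem_normalizer_iff_cj.1 (le_normalizer hl)
  have hR : cj (l * r) R = R := by
    rw [cj_mul, mem_normalizer_iff_cj.1 (le_normalizer hr), ← mem_normalizer_iff_cj]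
    apply centralizer_le_normalizer
    rw [mem_centralizer_iff]
    exact fun x hx => (hc l hl x hx).symm
  refine ⟨cj (l * r) A, cj (l * r) B, ?_, ?_, ?_, ?_⟩
  · rw [← hL]; exact cj_mono _ hA.1
  · rw [← hR]; exact cj_mono _ hB.1
  · rw [← cj_sup, hmT]; exact hQT
  · rw [← cj_sup]; exact isPGroup_cj h2

/-- the key computation of THEOREM R (b) -/
theorem false_of_two [Finite G] {Om : Set (Subgroup G)} (h : Hyp Om) {K Q L R : Subgroup G}
    (hK : K ∈ Om) (hQ : Syl Q K) (hc : ∀ x ∈ L, ∀ y ∈ R, x * y = y * x) (hQM : Q ≤ L ⊔ R)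
    (hL : ¬ L ≤ centralizer {zz K}) (hR : ¬ R ≤ centralizer {zz K}) (hz : zz K ∈ L → zz K ∈ R) :
    False := by
  obtain ⟨T₁, T₂, hT₁, hT₂, hQT, hT⟩ := exists_factors hc hQ.2.1 hQM
  have hcT : ∀ x ∈ T₁, ∀ y ∈ T₂, x * y = y * x := fun x hx y hy => hc x (hT₁ hx) y (hT₂ hy)
  obtain ⟨c, v, n, hq⟩ := h.exists_gq hK hQ
  obtain ⟨q₁, hq₁, q₂, hq₂, -, -, -, hqq⟩ := hq.exists_pair
  obtain ⟨a₁, ha₁, r₁, hr₁, e₁⟩ := mem_sup_comm hcT (hQT hq₁)
  obtain ⟨a₂, ha₂, r₂, hr₂, e₂⟩ := mem_sup_comm hcT (hQT hq₂)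
  set z := zz K with hzdef
  -- `z = u u'`
  set u := (a₁ * a₂)⁻¹ * (a₂ * a₁) with hu
  set u' := (r₁ * r₂)⁻¹ * (r₂ * r₁) with hu'
  have huT : u ∈ T₁ := T₁.mul_mem (T₁.inv_mem (T₁.mul_mem ha₁ ha₂)) (T₁.mul_mem ha₂ ha₁)
  have huT' : u' ∈ T₂ := T₂.mul_mem (T₂.inv_mem (T₂.mul_mem hr₁ hr₂)) (T₂.mul_mem hr₂ hr₁)
  have c21 : r₂ * a₁ = a₁ * r₂ := (hcT a₁ ha₁ r₂ hr₂).symm
  have c12 : r₁ * a₂ = a₂ * r₁ := (hcT a₂ ha₂ r₁ hr₁).symm
  have f1 : q₂ * q₁ = (a₂ * a₁) * (r₂ * r₁) := by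
    rw [← e₁, ← e₂]
    calc a₂ * r₂ * (a₁ * r₁) = a₂ * (r₂ * a₁) * r₁ := by group
      _ = a₂ * a₁ * (r₂ * r₁) := by rw [c21]; group
  have f2 : q₁ * q₂ = (a₁ * a₂) * (r₁ * r₂) := by
    rw [← e₁, ← e₂]
    calc a₁ * r₁ * (a₂ * r₂) = a₁ * (r₁ * a₂) * r₂ := by group
      _ = a₁ * a₂ * (r₁ * r₂) := by rw [c12]; group
  have hzu : z = u * u' := by
    have h1 : z = (q₁ * q₂)⁻¹ * (q₂ * q₁) := by rw [hqq]; group
    have h2 : (r₁ * r₂)⁻¹ * ((a₁ * a₂)⁻¹ * (a₂ * a₁)) = ((a₁ * a₂)⁻¹ * (a₂ * a₁)) * (r₁ * r₂)⁻¹ :=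
      (hcT _ huT _ (T₂.inv_mem (T₂.mul_mem hr₁ hr₂))).symm
    rw [h1, f1, f2, mul_inv_rev]
    calc (r₁ * r₂)⁻¹ * (a₁ * a₂)⁻¹ * (a₂ * a₁ * (r₂ * r₁))
        = ((r₁ * r₂)⁻¹ * ((a₁ * a₂)⁻¹ * (a₂ * a₁))) * (r₂ * r₁) := by group
      _ = u * u' := by rw [h2, hu, hu', mul_assoc]
  -- `z` acts on `L` as `u`, on `R` as `u'`
  have hLu : ¬ ∀ l ∈ L, l * u = u * l := by
    intro h1
    apply hL
    intro l hl
    rw [mem_centralizer_singleton_iff, hzu]
    have h2 := hc l hl u' (hT₂ huT')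
    calc l * (u * u') = (l * u) * u' := by group
      _ = u * (l * u') := by rw [h1 l hl]; group
      _ = u * u' * l := by rw [h2]; group
  have hRu : ¬ ∀ l ∈ R, l * u' = u' * l := by
    intro h1
    apply hR
    intro l hl
    rw [mem_centralizer_singleton_iff, hzu]
    have h2 := hc u (hT₁ huT) l hl
    calc l * (u * u') = (l * u) * u' := by group
      _ = u * (l * u') := by rw [← h2]; group
      _ = u * u' * l := by rw [h1 l hl]; group
  have hQS : Q ≤ T₁ ⊔ T₂ := hQT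
  by_cases hKa : cj a₁ K = K
  · -- `u ∈ K`
    have h1 : a₁⁻¹ * q₂ * a₁ ∈ K := by
      rw [← mem_cj, hKa]; exact hQ.1 hq₂
    have h2 : u = q₂⁻¹ * (a₁⁻¹ * q₂ * a₁) := by
      rw [← e₂, hu, mul_inv_rev, mul_inv_rev]
      have h3 : a₁⁻¹ * (a₂ * r₂) * a₁ = a₁⁻¹ * a₂ * a₁ * r₂ := by
        calc a₁⁻¹ * (a₂ * r₂) * a₁ = a₁⁻¹ * a₂ * (r₂ * a₁) := by group
          _ = a₁⁻¹ * a₂ * a₁ * r₂ := by rw [c21]; group
      rw [h3]
      have h4 : r₂⁻¹ * (a₂⁻¹ * (a₁⁻¹ * a₂ * a₁)) = (a₂⁻¹ * (a₁⁻¹ * a₂ * a₁)) * r₂⁻¹ :=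
        (hcT _ (T₁.mul_mem (T₁.inv_mem ha₂) (T₁.mul_mem (T₁.mul_mem (T₁.inv_mem ha₁) ha₂) ha₁)) _
          (T₂.inv_mem hr₂)).symm
      calc a₂⁻¹ * a₁⁻¹ * (a₂ * a₁) = ((a₂⁻¹ * (a₁⁻¹ * a₂ * a₁)) * r₂⁻¹) * r₂ := by group
        _ = r₂⁻¹ * (a₂⁻¹ * (a₁⁻¹ * a₂ * a₁)) * r₂ := by rw [h4]
        _ = r₂⁻¹ * a₂⁻¹ * (a₁⁻¹ * a₂ * a₁ * r₂) := by group
    have h3 : u ∈ K := by
      rw [h2]; exact K.mul_mem (K.inv_mem (hQ.1 hq₂)) h1
    have h4 : u ≠ 1 := by
      intro h5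
      apply hLu
      intro l _
      rw [h5, mul_one, one_mul]
    -- `z` is a power of `u`
    have h5 : z ∈ zpowers u := by
      obtain ⟨k, hk⟩ := hT ⟨u, mem_sup_left huT⟩
      have hk' : u ^ 2 ^ k = 1 := congrArg Subtype.val hk
      have h6 : ∃ j, u ^ 2 ^ j ≠ 1 ∧ u ^ 2 ^ (j + 1) = 1 := by
        by_contra hcon
        push Not at hcon
        have : ∀ j, u ^ 2 ^ j ≠ 1 := by
          intro j
          induction j with
          | zero => simpa using h4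
          | succ j ih => exact hcon j ih
        exact this k hk'
      obtain ⟨j, hj1, hj2⟩ := h6
      have h7 : u ^ 2 ^ j = z := by
        refine h.eq_zz hK (K.pow_mem h3 _) ?_ hj1
        rw [← pow_add, ← two_mul, ← pow_succ']
        exact hj2
      rw [← h7]
      exact pow_mem (mem_zpowers u) _
    have h6 : z ∈ L := (zpowers_le.2 (hT₁ huT)) h5
    have h7 := hz h6
    apply hL
    intro l hl
    rw [mem_centralizer_singleton_iff]
    exact hc l hl z h7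
  · -- LEMMA 1
    have h1 : K ∈ OmS Om (T₁ ⊔ T₂) := mem_OmS_of_le hK hQ hQS
    have h2 : cj a₁ K ∈ OmS Om (T₁ ⊔ T₂) := by
      refine mem_OmS_of_le (h.conj K hK a₁) (hQ.cj a₁) ?_
      have h3 : cj a₁ (T₁ ⊔ T₂) = T₁ ⊔ T₂ :=
        mem_normalizer_iff_cj.1 (le_normalizer (mem_sup_left ha₁))
      rw [← h3]
      exact cj_mono _ hQS
    have h3 := h.comm hT h1 h2 (Ne.symm hKa) (a := q₁) (b := a₁ * q₂ * a₁⁻¹)
      ⟨hQ.1 hq₁, hQS hq₁⟩ ⟨conj_mem_cj (hQ.1 hq₂), by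
        exact (T₁ ⊔ T₂).mul_mem ((T₁ ⊔ T₂).mul_mem (mem_sup_left ha₁) (hQS hq₂))
          ((T₁ ⊔ T₂).inv_mem (mem_sup_left ha₁))⟩
    -- so `u' ∈ L`
    have h4 : u' = (a₁ * a₂)⁻¹ * (a₁ * (a₁ * a₂ * a₁⁻¹)) := by
      rw [← e₁, ← e₂] at h3
      have h5 : a₁ * (a₂ * r₂) * a₁⁻¹ = (a₁ * a₂ * a₁⁻¹) * r₂ := by
        have h6 : r₂ * a₁⁻¹ = a₁⁻¹ * r₂ := (hcT _ (T₁.inv_mem ha₁) _ hr₂).symm
        calc a₁ * (a₂ * r₂) * a₁⁻¹ = a₁ * a₂ * (r₂ * a₁⁻¹) := by group
          _ = (a₁ * a₂ * a₁⁻¹) * r₂ := by rw [h6]; group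
      rw [h5] at h3
      have h6 : r₁ * (a₁ * a₂ * a₁⁻¹) = (a₁ * a₂ * a₁⁻¹) * r₁ :=
        (hcT _ (T₁.mul_mem (T₁.mul_mem ha₁ ha₂) (T₁.inv_mem ha₁)) _ hr₁).symm
      have h7 : a₁ * r₁ * (a₁ * a₂ * a₁⁻¹ * r₂) = (a₁ * (a₁ * a₂ * a₁⁻¹)) * (r₁ * r₂) := by
        calc a₁ * r₁ * (a₁ * a₂ * a₁⁻¹ * r₂) = a₁ * (r₁ * (a₁ * a₂ * a₁⁻¹)) * r₂ := by group
          _ = (a₁ * (a₁ * a₂ * a₁⁻¹)) * (r₁ * r₂) := by rw [h6]; group
      have h8 : a₁ * a₂ * a₁⁻¹ * r₂ * (a₁ * r₁) = (a₁ * a₂) * (r₂ * r₁) := by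
        calc a₁ * a₂ * a₁⁻¹ * r₂ * (a₁ * r₁) = a₁ * a₂ * a₁⁻¹ * (r₂ * a₁) * r₁ := by group
          _ = (a₁ * a₂) * (r₂ * r₁) := by rw [c21]; group
      rw [h7, h8] at h3
      have h9 : (a₁ * (a₁ * a₂ * a₁⁻¹)) * (r₁ * r₂) = (r₁ * r₂) * (a₁ * (a₁ * a₂ * a₁⁻¹)) :=
        hcT _ (T₁.mul_mem ha₁ (T₁.mul_mem (T₁.mul_mem ha₁ ha₂) (T₁.inv_mem ha₁))) _
          (T₂.mul_mem hr₁ hr₂)
      have h10 : (a₁ * a₂) * (r₁ * r₂)⁻¹ = (r₁ * r₂)⁻¹ * (a₁ * a₂) :=
        hcT _ (T₁.mul_mem ha₁ ha₂) _ (T₂.inv_mem (T₂.mul_mem hr₁ hr₂))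
      rw [h9] at h3
      rw [hu', eq_inv_mul_iff_mul_eq, ← mul_assoc, h10, mul_assoc, ← h3, ← mul_assoc]
      group
    apply hRu
    intro l hl
    have h5 : u' ∈ L := by
      rw [h4]
      exact L.mul_mem (L.inv_mem (L.mul_mem (hT₁ ha₁) (hT₁ ha₂)))
        (L.mul_mem (hT₁ ha₁) (L.mul_mem (L.mul_mem (hT₁ ha₁) (hT₁ ha₂)) (L.inv_mem (hT₁ ha₁))))
    exact (hc u' h5 l hl).symm

/-! ### (b) -/

/-- LEMMA B of helper149 for the member `K` -/
def LemB (K : Subgroup G) : Prop := ∀ Q M : Subgroup G, Syl Q K → K ≤ normalizer (M : Set G) →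
  OO M = ⊥ → ¬ M ≤ centralizer {zz K} → Q ≤ M

theorem OO_eq_bot_of_isSubnormal [Finite G] (hO : pPrimeCore 2 G = ⊥) {M : Subgroup G}
    (hM : M.IsSubnormal) : OO M = ⊥ := by
  rw [OO, oddCore, SignalizersComponents.CompBasic.map_subtype_pPrimeCore_of_subnormal 2 hM, hO,
    inf_bot_eq]

theorem le_normalizer_of_cj_le {M H : Subgroup G} (h : ∀ g ∈ H, cj g M ≤ M) :
    H ≤ normalizer (M : Set G) := by
  intro g hg
  rw [mem_normalizer_iff_cj]
  refine le_antisymm (h g hg) ?_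
  have h1 := h g⁻¹ (H.inv_mem hg)
  rw [cj_le_iff, inv_inv] at h1
  exact h1

theorem layer_le_normalizer_sSup {𝓢 : Set (Subgroup G)} (h𝓢 : ∀ F ∈ 𝓢, IsComponent F) :
    layer G ≤ normalizer ((sSup 𝓢 : Subgroup G) : Set G) := by
  refine le_normalizer_of_cj_le fun g hg => ?_
  rw [cj_le_iff]
  refine sSup_le fun F hF => ?_
  have h1 : cj g F = F := mem_normalizer_iff_cj.1 (layer_le_normalizer_component (h𝓢 F hF) hg)
  rw [← cj_le_iff, h1]
  exact le_sSup hF

theorem isSubnormal_sSup {𝓢 : Set (Subgroup G)} (h𝓢 : ∀ F ∈ 𝓢, IsComponent F) :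
    (sSup 𝓢).IsSubnormal := by
  have h1 : sSup 𝓢 ≤ layer G := sSup_le fun F hF => component_le_layer (h𝓢 F hF)
  exact IsSubnormal.step _ _ h1 (layer_normal (G := G)).isSubnormal
    (normal_subgroupOf_of_le_normalizer (layer_le_normalizer_sSup h𝓢))

/-- **THEOREM R (b)** -/
theorem syl_le_component [Finite G] {Om : Set (Subgroup G)} (h : Hyp Om) (hO : pPrimeCore 2 G = ⊥)
    {K L : Subgroup G} (hK : K ∈ Om) (hB : LemB K) (hL : IsComponent L)
    (hLz : ¬ L ≤ centralizer {zz K}) :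
    K ≤ normalizer (L : Set G) ∧ ∀ Q, Syl Q K → Q ≤ L := by
  set 𝓛 : Set (Subgroup G) := {F | ∃ k ∈ K, F = cj k L} with h𝓛
  have hcomp : ∀ F ∈ 𝓛, IsComponent F := by
    rintro F ⟨k, -, rfl⟩
    exact isComponent_cj hL k
  have hself : L ∈ 𝓛 := ⟨1, K.one_mem, by simp⟩
  set R : Subgroup G := sSup (𝓛 \ {L}) with hR
  have hM : sSup 𝓛 = L ⊔ R := by
    apply le_antisymm
    · refine sSup_le fun F hF => ?_
      by_cases hFL : F = L
      · rw [hFL]; exact le_sup_left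
      · exact (le_sSup (show F ∈ 𝓛 \ {L} from ⟨hF, hFL⟩)).trans le_sup_right
    · exact sup_le (le_sSup hself) (sSup_le_sSup Set.sdiff_subset)
  have hcomm : ∀ x ∈ L, ∀ y ∈ R, x * y = y * x := by
    have h1 : R ≤ centralizer (L : Set G) :=
      sSup_le fun F hF => component_le_centralizer_of_ne (hcomp F hF.1) hL hF.2
    intro x hx y hy
    exact mem_centralizer_iff.1 (h1 hy) x hx
  have hnorm : K ≤ normalizer ((sSup 𝓛 : Subgroup G) : Set G) := by
    refine le_normalizer_of_cj_le fun k hk => ?_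
    rw [cj_le_iff]
    refine sSup_le ?_
    rintro F ⟨l, hl, rfl⟩
    rw [← cj_le_iff, ← cj_mul]
    exact le_sSup ⟨k * l, K.mul_mem hk hl, rfl⟩
  have hOO : OO (sSup 𝓛) = ⊥ := OO_eq_bot_of_isSubnormal hO (isSubnormal_sSup hcomp)
  have hnz : ¬ sSup 𝓛 ≤ centralizer {zz K} := fun h1 => hLz ((le_sSup hself).trans h1)
  have hQM : ∀ Q, Syl Q K → Q ≤ L ⊔ R := by
    intro Q hQ
    rw [← hM]
    exact hB Q _ hQ hnorm hOO hnz
  by_cases hall : ∀ F ∈ 𝓛, F = L
  · have hR0 : R = ⊥ := by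
      rw [hR, sSup_eq_bot]
      intro F hF
      exact absurd (hall F hF.1) hF.2
    refine ⟨fun k hk => ?_, fun Q hQ => ?_⟩
    · rw [mem_normalizer_iff_cj]
      exact hall _ ⟨k, hk, rfl⟩
    · have := hQM Q hQ
      rwa [hR0, sup_bot_eq] at this
  · exfalso
    push Not at hall
    obtain ⟨F, hF, hFL⟩ := hall
    have hFR : F ≤ R := le_sSup ⟨hF, hFL⟩
    obtain ⟨Q, hQ⟩ := Hyp.exists_syl K
    obtain ⟨k, hk, rfl⟩ := hF
    have hkz : k * zz K * k⁻¹ = zz K := by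
      rw [h.comm_zz hK (le_normalizer hk)]; group
    refine false_of_two h hK hQ hcomm (hQM Q hQ) hLz ?_ ?_
    · intro h1
      apply hLz
      have h2 := hFR.trans h1
      rw [← cj_le_cj (g := k), cj_centralizer, hkz]
      exact h2
    · intro h1
      apply hFR
      rw [← hkz]
      exact conj_mem_cj h1

/-- **THEOREM R (b)**, uniqueness -/
theorem component_unique [Finite G] {Om : Set (Subgroup G)} (h : Hyp Om) (hO : pPrimeCore 2 G = ⊥)
    {K L L' : Subgroup G} (hK : K ∈ Om) (hB : LemB K) (hL : IsComponent L)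
    (hLz : ¬ L ≤ centralizer {zz K}) (hL' : IsComponent L') (hLz' : ¬ L' ≤ centralizer {zz K}) :
    L = L' := by
  by_contra hne
  obtain ⟨Q, hQ⟩ := Hyp.exists_syl K
  obtain ⟨c, v, n, hq⟩ := h.exists_gq hK hQ
  have h1 := (syl_le_component h hO hK hB hL' hLz').2 Q hQ hq.z_mem
  apply hLz
  intro x hx
  rw [mem_centralizer_singleton_iff]
  exact comm_of_ne hL hL' hne hx h1

/-! ### (c) -/

/-- a 2-subgroup normalised by `K`, centralised by `zz K`, and meeting `K` trivially is centralised by `K` -/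
theorem le_centralizer_of_inf_eq_bot [Finite G] {Om : Set (Subgroup G)} (h : Hyp Om)
    {K P : Subgroup G} (hK : K ∈ Om) (hT2 : K ≤ closure {c | c ∈ K ∧ Odd (orderOf c)})
    (hP : IsPGroup 2 P) (hPz : P ≤ centralizer {zz K}) (hKP : K ≤ normalizer (P : Set G))
    (hinf : K ⊓ P = ⊥) : K ≤ centralizer (P : Set G) := by
  haveI : Fact (Nat.Prime 2) := ⟨Nat.prime_two⟩
  refine hT2.trans ((closure_le _).2 ?_)
  rintro k ⟨hk, hk2⟩
  have hkK : zpowers k ≤ K := zpowers_le.2 hk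
  have hcop : (Nat.card (zpowers k)).Coprime (Nat.card P) := by
    rw [Nat.card_zpowers]
    obtain ⟨n, hn⟩ := IsPGroup.iff_card.1 hP
    rw [hn]
    exact (Nat.coprime_two_right.2 hk2).pow_right n
  have h1 := Lib.CoprimeCommutator.commutator_commutator_eq (zpowers k) P (hkK.trans hKP) hcop
  have h2 : ⁅P, zpowers k⁆ ≤ P :=
    Lib.CoprimeCommutator.commutator_le_left (hkK.trans hKP)
  have h3 : ⁅P, zpowers k⁆ ≤ (K.subgroupOf (centralizer {zz K})).map (centralizer {zz K}).subtype := by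
    refine SolvTwo.le_of_isSubnormal (A := zpowers k) (h2.trans hPz) h1.ge (h.sub K hK) ?_
    rw [map_subgroupOf_eq_of_le (h.le_centralizer hK)]
    exact hkK
  rw [map_subgroupOf_eq_of_le (h.le_centralizer hK)] at h3
  have h4 : ⁅P, zpowers k⁆ = ⊥ := le_bot_iff.1 ((le_inf h3 h2).trans hinf.le)
  rw [commutator_comm, commutator_eq_bot_iff_le_centralizer, zpowers_le] at h4
  exact h4

/-- a 2-element `x ≠ 1` of a member has `zz K` as a power -/
theorem zz_mem_zpowers [Finite G] {Om : Set (Subgroup G)} (h : Hyp Om) {K : Subgroup G} (hK : K ∈ Om)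
    {x : G} (hx : x ∈ K) {k : ℕ} (hk : x ^ 2 ^ k = 1) (hx1 : x ≠ 1) : zz K ∈ zpowers x := by
  have h6 : ∃ j, x ^ 2 ^ j ≠ 1 ∧ x ^ 2 ^ (j + 1) = 1 := by
    by_contra hcon
    push Not at hcon
    have : ∀ j, x ^ 2 ^ j ≠ 1 := by
      intro j
      induction j with
      | zero => simpa using hx1
      | succ j ih => exact hcon j ih
    exact this k hk
  obtain ⟨j, hj1, hj2⟩ := h6
  have h7 : x ^ 2 ^ j = zz K := by
    refine h.eq_zz hK (K.pow_mem hx _) ?_ hj1
    rw [← pow_add, ← two_mul, ← pow_succ']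
    exact hj2
  rw [← h7]
  exact pow_mem (mem_zpowers x) _

/-- a 2-subgroup not containing `zz K` meets `K` trivially -/
theorem inf_eq_bot_of_not_mem [Finite G] {Om : Set (Subgroup G)} (h : Hyp Om) {K P : Subgroup G}
    (hK : K ∈ Om) (hP : IsPGroup 2 P) (hz : zz K ∉ P) : K ⊓ P = ⊥ := by
  rw [eq_bot_iff]
  rintro x ⟨hxK, hxP⟩
  rw [mem_bot]
  by_contra hx1
  obtain ⟨k, hk⟩ := hP ⟨x, hxP⟩
  exact hz ((zpowers_le.2 hxP) (zz_mem_zpowers h hK hxK (congrArg Subtype.val hk) hx1))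

/-- membership in the centraliser of `F*(G)`, for `O(G) = 1` -/
theorem mem_centralizer_genFit [Finite G] (hO : pPrimeCore 2 G = ⊥) {x : G}
    (h1 : ∀ L : Subgroup G, IsComponent L → x ∈ centralizer (L : Set G))
    (h2 : x ∈ centralizer (pCore 2 G : Set G)) :
    x ∈ centralizer (generalizedFittingSubgroup G : Set G) := by
  haveI : Fact (Nat.Prime 2) := ⟨Nat.prime_two⟩
  have h3 : generalizedFittingSubgroup G ≤ centralizer (zpowers x : Set G) := by
    have h4 : ∀ A : Subgroup G, x ∈ centralizer (A : Set G) → A ≤ centralizer (zpowers x : Set G) := by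
      intro A hA
      rw [le_centralizer_iff, zpowers_le]
      exact hA
    refine sup_le ?_ ?_
    · exact layer_le_iff.2 fun L hL => h4 L (h1 L hL)
    · rw [SignalizersComponents.PConstrained.fittingSubgroup_eq_pCore_of_pPrimeCore_eq_bot 2 hO]
      exact h4 _ h2
  rw [le_centralizer_iff, zpowers_le] at h3
  exact h3

/-- `C(F*(G)) ≤ O_2(G)` for `O(G) = 1` -/
theorem centralizer_genFit_le [Finite G] (hO : pPrimeCore 2 G = ⊥) :
    centralizer (generalizedFittingSubgroup G : Set G) ≤ pCore 2 G := by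
  haveI : Fact (Nat.Prime 2) := ⟨Nat.prime_two⟩
  rw [← SignalizersComponents.PConstrained.fittingSubgroup_eq_pCore_of_pPrimeCore_eq_bot 2 hO]
  have h1 := Lib.GenFitting.centralizer_genFitting_le (G := G)
  haveI hn : (generalizedFittingSubgroup G).Normal := by
    haveI := layer_normal (G := G)
    haveI := Lib.Cores.fittingSubgroup_normal (G := G)
    exact sup_normal _ _
  haveI hc : IsMulCommutative (centralizer (generalizedFittingSubgroup G : Set G)) := by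
    refine ⟨⟨fun a b => Subtype.ext ?_⟩⟩
    exact (mem_centralizer_iff.1 b.2 a (h1 a.2))
  refine Lib.Cores.le_fittingSubgroup inferInstance ?_
  open scoped IsMulCommutative in
  exact CommGroup.isNilpotent

section

variable [Finite G] {Om : Set (Subgroup G)} (h : Hyp Om) (hO : pPrimeCore 2 G = ⊥) (hev : EvQ G)
  {K L : Subgroup G} (hK : K ∈ Om) (hB : LemB K) (hT2 : K ≤ closure {c | c ∈ K ∧ Odd (orderOf c)})
  (hL : IsComponent L) (hLz : ¬ L ≤ centralizer {zz K})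

include h hO hK hB hL hLz

theorem zz_mem_component : zz K ∈ L := by
  obtain ⟨Q, hQ⟩ := Hyp.exists_syl K
  obtain ⟨c, v, n, hq⟩ := h.exists_gq hK hQ
  exact (syl_le_component h hO hK hB hL hLz).2 Q hQ hq.z_mem

theorem zz_not_mem_pCore : zz K ∉ pCore 2 G := by
  haveI : Fact (Nat.Prime 2) := ⟨Nat.prime_two⟩
  intro h1
  apply hLz
  have h2 := (component_le_layer hL).trans (layer_le_centralizer_fitting (G := G))
  intro x hx
  rw [mem_centralizer_singleton_iff]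
  exact (mem_centralizer_iff.1 (h2 hx) _ (Lib.Cores.pCore_le_fittingSubgroup 2 h1)).symm

include hev in
/-- **THEOREM R (c)**: `K` centralises the other components -/
theorem comm_other {L' : Subgroup G} (hL' : IsComponent L') (hne : L' ≠ L) :
    K ≤ centralizer (L' : Set G) := by
  have h1 : L' ≤ centralizer {zz K} := by
    by_contra h2
    exact hne (component_unique h hO hK hB hL' h2 hL hLz)
  rcases le_or_comm_of_le_centralizer h hK hL' h1 with h2 | h2
  · exfalso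
    haveI : Fact (Nat.Prime 2) := ⟨Nat.prime_two⟩
    obtain ⟨t, ht⟩ := exists_prime_orderOf_dvd_card' 2 (hev L' hL'.2)
    have h3 : (t : G) = zz K := h.uniq K hK t (h2 t.2) (by rw [orderOf_coe]; exact ht)
    apply hLz
    intro x hx
    rw [mem_centralizer_singleton_iff, ← h3]
    exact comm_of_ne hL hL' (Ne.symm hne) hx t.2
  · intro y hy
    rw [mem_centralizer_iff]
    exact fun x hx => h2 x hx y hy

include hT2 in
/-- **THEOREM R (c)**: `K` centralises `O_2(G)` -/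
theorem comm_pCore : K ≤ centralizer (pCore 2 G : Set G) := by
  haveI : Fact (Nat.Prime 2) := ⟨Nat.prime_two⟩
  haveI := Lib.Cores.pCore_normal (G := G) 2
  refine le_centralizer_of_inf_eq_bot h hK hT2 (Lib.Cores.pCore_isPGroup 2) ?_ ?_ ?_
  · have h1 := zz_mem_component h hO hK hB hL hLz
    have h2 := (component_le_layer hL).trans (layer_le_centralizer_fitting (G := G)) h1
    intro x hx
    rw [mem_centralizer_singleton_iff]
    exact mem_centralizer_iff.1 h2 x (Lib.Cores.pCore_le_fittingSubgroup 2 hx)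
  · rw [normalizer_eq_top]; exact le_top
  · exact inf_eq_bot_of_not_mem h hK (Lib.Cores.pCore_isPGroup 2)
      (zz_not_mem_pCore h hO hK hB hL hLz)

include hev hT2 in
/-- **THEOREM R (c)**: `C_K(L) = 1` -/
theorem inf_centralizer_eq_bot : K ⊓ centralizer (L : Set G) = ⊥ := by
  rw [eq_bot_iff]
  rintro x ⟨hxK, hxL⟩
  have h1 : x ∈ centralizer (generalizedFittingSubgroup G : Set G) := by
    refine mem_centralizer_genFit hO (fun L' hL' => ?_) (comm_pCore h hO hK hB hT2 hL hLz hxK)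
    by_cases hne : L' = L
    · rw [hne]; exact hxL
    · exact comm_other h hO hev hK hB hL hLz hL' hne hxK
  have h2 := centralizer_genFit_le hO h1
  rw [← inf_eq_bot_of_not_mem h hK (Lib.Cores.pCore_isPGroup 2)
      (zz_not_mem_pCore h hO hK hB hL hLz)]
  exact ⟨hxK, h2⟩

include hev hT2 in
/-- **THEOREM R (c)**: members belonging to different components commute -/
theorem comm_of_component_ne {J L' : Subgroup G} (hJ : J ∈ Om) (hBJ : LemB J)
    (hT2J : J ≤ closure {c | c ∈ J ∧ Odd (orderOf c)}) (hL' : IsComponent L')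
    (hLz' : ¬ L' ≤ centralizer {zz J}) (hne : L ≠ L') : ∀ x ∈ K, ∀ y ∈ J, x * y = y * x := by
  haveI : Fact (Nat.Prime 2) := ⟨Nat.prime_two⟩
  have hKP := comm_pCore h hO hK hB hT2 hL hLz
  have hJP := comm_pCore h hO hJ hBJ hT2J hL' hLz'
  -- the commutators lie in `O_2(G)`
  have key : ∀ x ∈ K, ∀ y ∈ J, ⁅x, y⁆ ∈ pCore 2 G := by
    intro x hx y hy
    apply centralizer_genFit_le hO
    refine mem_centralizer_genFit hO (fun F hF => ?_) ?_
    · by_cases h1 : F = L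
      · -- `y` centralises `L`, `x` normalises it
        subst h1
        have h2 := comm_other h hO hev hJ hBJ hL' hLz' hF hne hy
        have h3 := (syl_le_component h hO hK hB hF hLz).1 hx
        have h4 : x * y⁻¹ * x⁻¹ ∈ centralizer (F : Set G) := by
          rw [mem_centralizer_iff]
          intro f hf
          have h5 : x⁻¹ * f * x ∈ F := by
            rw [← mem_cj, mem_normalizer_iff_cj.1 h3]; exact hf
          have h6 := mem_centralizer_iff.1 (inv_mem h2) _ h5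
          calc f * (x * y⁻¹ * x⁻¹) = x * ((x⁻¹ * f * x) * y⁻¹) * x⁻¹ := by group
            _ = x * (y⁻¹ * (x⁻¹ * f * x)) * x⁻¹ := by rw [h6]
            _ = x * y⁻¹ * x⁻¹ * f := by group
        rw [commutatorElement_def]
        have h7 : x * y * x⁻¹ * y⁻¹ = (x * y⁻¹ * x⁻¹)⁻¹ * y⁻¹ := by group
        rw [h7]
        exact mul_mem (inv_mem h4) (inv_mem h2)
      · by_cases h1' : F = L'
        · subst h1'
          have h2 := comm_other h hO hev hK hB hL hLz hF (Ne.symm hne) hx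
          have h3 := (syl_le_component h hO hJ hBJ hF hLz').1 hy
          have h4 : y * x⁻¹ * y⁻¹ ∈ centralizer (F : Set G) := by
            rw [mem_centralizer_iff]
            intro f hf
            have h5 : y⁻¹ * f * y ∈ F := by
              rw [← mem_cj, mem_normalizer_iff_cj.1 h3]; exact hf
            have h6 := mem_centralizer_iff.1 (inv_mem h2) _ h5
            calc f * (y * x⁻¹ * y⁻¹) = y * ((y⁻¹ * f * y) * x⁻¹) * y⁻¹ := by group
              _ = y * (x⁻¹ * (y⁻¹ * f * y)) * y⁻¹ := by rw [h6]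
              _ = y * x⁻¹ * y⁻¹ * f := by group
          rw [commutatorElement_def]
          have h7 : x * y * x⁻¹ * y⁻¹ = x * (y * x⁻¹ * y⁻¹) := by group
          rw [h7]
          exact mul_mem h2 h4
        · have h2 := comm_other h hO hev hK hB hL hLz hF h1 hx
          have h3 := comm_other h hO hev hJ hBJ hL' hLz' hF h1' hy
          rw [commutatorElement_def]
          exact mul_mem (mul_mem (mul_mem h2 h3) (inv_mem h2)) (inv_mem h3)
    · have h2 := hKP hx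
      have h3 := hJP hy
      rw [commutatorElement_def]
      exact mul_mem (mul_mem (mul_mem h2 h3) (inv_mem h2)) (inv_mem h3)
  intro x hx y hy
  -- `K` is generated by elements of odd order
  have h1 : K ≤ centralizer {y} := by
    refine hT2.trans ((closure_le _).2 ?_)
    rintro k ⟨hk, hk2⟩
    rw [SetLike.mem_coe, mem_centralizer_singleton_iff]
    have h2 := key k hk y hy
    have h3 : Commute ⁅k, y⁆ k := by
      have := mem_centralizer_iff.1 (hKP hk) _ h2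
      exact this
    have hcop : (orderOf k).Coprime (Nat.card (pCore 2 G)) := by
      obtain ⟨n, hn⟩ := IsPGroup.iff_card.1 (Lib.Cores.pCore_isPGroup (G := G) 2)
      rw [hn]
      exact (Nat.coprime_two_right.2 hk2).pow_right n
    have h4 := Lib.CoprimeStab.commute_of_commutator_commute (H := pCore 2 G) (x := y) (a := k) hcop
      (by
        have := (pCore 2 G).inv_mem h2
        rwa [commutatorElement_inv] at this)
      (by
        rw [← commutatorElement_inv]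
        exact h3.inv_left)
    exact h4.eq.symm
  exact mem_centralizer_singleton_iff.1 (h1 hx)

end

end Cfsg.Agent.Cit.OneComp
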