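import Mathlib



/-!
# Generalised quaternion subgroups: elementary facts used for classical involutions

`IsGQ Q` : the subgroup `Q` is generalised quaternion.  `GQ Q c v z` : coordinates.
The main result is `step0` (helper443's Step 0): a generalised quaternion group normalising another one,
with different involutions, centralises it as soon as the elements of order at least four of the second
group commuting with the involution of the first normalise the first.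
-/

set_option autoImplicit false

namespace Cfsg.Agent.Cit

open Subgroup

variable {G : Type*} [Group G]

/-- `Q` is a generalised quaternion group (of order at least `8`) -/
def IsGQ (Q : Subgroup G) : Prop := ∃ n : ℕ, Nonempty (Q ≃* QuaternionGroup (2 ^ (n + 1)))

/-- coordinates of a generalised quaternion group -/
structure GQ (Q : Subgroup G) (c v z : G) (n : ℕ) : Prop where
  c_mem : c ∈ Q
  v_mem : v ∈ Q
  ord : orderOf c = 2 ^ (n + 2)
  z_eq : c ^ 2 ^ (n + 1) = z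
  v_sq : v * v = z
  conj : v * c * v⁻¹ = c⁻¹
  cov : ∀ x ∈ Q, (∃ i : ℕ, x = c ^ i) ∨ (∃ i : ℕ, x = v * c ^ i)

theorem exists_gq {Q : Subgroup G} (h : IsGQ Q) : ∃ c v z n, GQ Q c v z n := by
  obtain ⟨n, ⟨e⟩⟩ := h
  have : NeZero (2 ^ (n + 1)) := ⟨by positivity⟩
  have hinj : Function.Injective (fun x : QuaternionGroup (2 ^ (n + 1)) => ((e.symm x : Q) : G)) :=
    fun x y hxy => e.symm.injective (Subtype.ext hxy)
  refine ⟨(e.symm (QuaternionGroup.a 1) : Q), (e.symm (QuaternionGroup.xa 0) : Q), _, n, (e.symm _).2,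
    (e.symm _).2, ?_, rfl, ?_, ?_, ?_⟩
  · rw [Subgroup.orderOf_coe, MulEquiv.orderOf_eq, QuaternionGroup.orderOf_a_one]
    ring
  · rw [← Subgroup.coe_mul, ← map_mul, ← Subgroup.coe_pow, ← map_pow, QuaternionGroup.xa_mul_xa,
      QuaternionGroup.a_one_pow]
    congr 3
    push_cast
    ring
  · rw [← Subgroup.coe_mul, ← map_mul, ← Subgroup.coe_inv, ← Subgroup.coe_inv, ← map_inv, ← map_inv,
      ← Subgroup.coe_mul, ← map_mul]
    congr 2
    rw [mul_inv_eq_iff_eq_mul, eq_inv_mul_iff_mul_eq, QuaternionGroup.xa_mul_a, QuaternionGroup.a_mul_xa]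
    simp
  · intro x hx
    obtain ⟨g, hg⟩ : ∃ g, e.symm g = ⟨x, hx⟩ := ⟨e ⟨x, hx⟩, by simp⟩
    have hx' : x = ((e.symm g : Q) : G) := by rw [hg]
    rcases g with i | i
    · left
      refine ⟨i.val, ?_⟩
      rw [hx', ← Subgroup.coe_pow, ← map_pow, QuaternionGroup.a_one_pow]
      simp
    · right
      refine ⟨i.val, ?_⟩
      rw [hx', ← Subgroup.coe_pow, ← map_pow, ← Subgroup.coe_mul, ← map_mul, QuaternionGroup.a_one_pow,
        QuaternionGroup.xa_mul_a]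
      simp

namespace GQ

variable {Q : Subgroup G} {c v z : G} {n : ℕ}

theorem z_mul (h : GQ Q c v z n) : z * z = 1 := by
  rw [← h.z_eq, ← pow_two, ← pow_mul, ← pow_succ, ← h.ord, pow_orderOf_eq_one]

theorem z_ne (h : GQ Q c v z n) : z ≠ 1 := by
  rw [← h.z_eq]
  intro hc
  have h1 := Nat.le_of_dvd (by positivity) (orderOf_dvd_of_pow_eq_one hc)
  rw [h.ord] at h1
  have h2 : 2 ^ (n + 1) < 2 ^ (n + 2) := Nat.pow_lt_pow_right (by norm_num) (by omega)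
  omega

theorem z_inv (h : GQ Q c v z n) : z⁻¹ = z := inv_eq_of_mul_eq_one_right h.z_mul

theorem z_mem (h : GQ Q c v z n) : z ∈ Q := by rw [← h.z_eq]; exact Q.pow_mem h.c_mem _

theorem conj_pow (h : GQ Q c v z n) (i : ℕ) : v * c ^ i = (c ^ i)⁻¹ * v := by
  have h1 : v * c ^ i * v⁻¹ = (c ^ i)⁻¹ := by
    rw [← _root_.conj_pow, h.conj, inv_pow]
  rw [← h1]; group

theorem orderOf_z (h : GQ Q c v z n) : orderOf z = 2 :=
  orderOf_eq_prime (by rw [pow_two]; exact h.z_mul) h.z_ne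

/-- elements outside `⟨c⟩` square to `z` -/
theorem sq_out (h : GQ Q c v z n) (i : ℕ) : (v * c ^ i) * (v * c ^ i) = z := by
  calc (v * c ^ i) * (v * c ^ i) = (v * c ^ i) * ((c ^ i)⁻¹ * v) := by rw [h.conj_pow]
    _ = v * v := by group
    _ = z := h.v_sq

theorem orderOf_of_sq {g z : G} (hg : g * g = z) (hz : z * z = 1) (hz1 : z ≠ 1) : orderOf g = 4 := by
  have h1 : g ^ 2 = z := by rw [pow_two, hg]
  have := orderOf_eq_prime_pow (p := 2) (n := 1) (x := g) (by rw [pow_one, h1]; exact hz1)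
    (by rw [show 2 ^ (1 + 1) = 2 * 2 by norm_num, pow_mul, h1, pow_two, hz])
  simpa using this

theorem orderOf_out (h : GQ Q c v z n) (i : ℕ) : orderOf (v * c ^ i) = 4 :=
  orderOf_of_sq (h.sq_out i) h.z_mul h.z_ne

theorem orderOf_v (h : GQ Q c v z n) : orderOf v = 4 := by
  simpa using h.orderOf_out 0

theorem c_sq_ne (h : GQ Q c v z n) : c * c ≠ 1 := by
  intro hc
  have h1 := Nat.le_of_dvd (by norm_num) (orderOf_dvd_of_pow_eq_one (by rw [pow_two]; exact hc : c ^ 2 = 1))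
  rw [h.ord] at h1
  have h2 : 2 ^ 2 ≤ 2 ^ (n + 2) := Nat.pow_le_pow_right (by norm_num) (by omega)
  omega

theorem not_comm (h : GQ Q c v z n) : v * c ≠ c * v := by
  intro hc
  apply h.c_sq_ne
  have h1 : c = c⁻¹ := by
    conv_rhs => rw [← h.conj, hc]
    group
  nth_rw 2 [h1]
  group

/-- the unique involution -/
theorem eq_z (h : GQ Q c v z n) {t : G} (ht : t ∈ Q) (h2 : t * t = 1) (h1 : t ≠ 1) : t = z := by
  rcases h.cov t ht with ⟨i, rfl⟩ | ⟨i, rfl⟩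
  · have h3 : orderOf c ∣ i + i := orderOf_dvd_of_pow_eq_one (by rw [pow_add, h2])
    rw [h.ord, pow_succ, Nat.mul_comm] at h3
    have h4 : 2 ^ (n + 1) ∣ i := by
      apply Nat.dvd_of_mul_dvd_mul_left (by norm_num : 0 < 2)
      rw [two_mul i]; exact h3
    obtain ⟨k, rfl⟩ := h4
    rw [pow_mul, h.z_eq] at h1 ⊢
    rcases Nat.even_or_odd k with ⟨m, rfl⟩ | ⟨m, rfl⟩
    · exfalso; apply h1
      rw [← two_mul, pow_mul, pow_two, h.z_mul, one_pow]
    · rw [pow_add, pow_mul, pow_two, h.z_mul, one_pow, pow_one, one_mul]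
  · rw [h.sq_out] at h2
    exact absurd h2 h.z_ne

/-- `Q` is generated by its elements of order four -/
theorem le_of_four (h : GQ Q c v z n) {H : Subgroup G} (hH : ∀ y ∈ Q, orderOf y = 4 → y ∈ H) : Q ≤ H := by
  have hout : ∀ i : ℕ, v * c ^ i ∈ H := fun i =>
    hH _ (Q.mul_mem h.v_mem (Q.pow_mem h.c_mem i)) (h.orderOf_out i)
  have hv : v ∈ H := by simpa using hout 0
  intro x hx
  rcases h.cov x hx with ⟨i, rfl⟩ | ⟨i, rfl⟩
  · have := H.mul_mem (H.inv_mem hv) (hout i)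
    simpa using this
  · exact hout i

/-- every element of order four is inverted by an element of order four -/
theorem exists_inverting (h : GQ Q c v z n) {y : G} (hy : y ∈ Q) (hy4 : orderOf y = 4) :
    ∃ y₁ ∈ Q, orderOf y₁ = 4 ∧ y₁ * y * y₁⁻¹ = y⁻¹ := by
  rcases h.cov y hy with ⟨i, rfl⟩ | ⟨i, rfl⟩
  · refine ⟨v, h.v_mem, h.orderOf_v, ?_⟩
    rw [h.conj_pow]; group
  · -- `y = v c^i`, take `y₁ = c^(2^n)`
    have hc4 : (c ^ 2 ^ n) * (c ^ 2 ^ n) = z := by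
      rw [← pow_add, ← two_mul, ← pow_succ', h.z_eq]
    refine ⟨c ^ 2 ^ n, Q.pow_mem h.c_mem _, orderOf_of_sq hc4 h.z_mul h.z_ne, ?_⟩
    have h1 : (v * c ^ i)⁻¹ = v * c ^ i * z := by
      rw [inv_eq_iff_mul_eq_one, ← mul_assoc, h.sq_out, h.z_mul]
    rw [h1]
    have h2 : c ^ 2 ^ n * v = v * (c ^ 2 ^ n)⁻¹ := by
      calc c ^ 2 ^ n * v = c ^ 2 ^ n * (v * c ^ 2 ^ n) * (c ^ 2 ^ n)⁻¹ := by group
        _ = c ^ 2 ^ n * ((c ^ 2 ^ n)⁻¹ * v) * (c ^ 2 ^ n)⁻¹ := by rw [h.conj_pow]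
        _ = v * (c ^ 2 ^ n)⁻¹ := by group
    have h3 : (c ^ 2 ^ n)⁻¹ * (c ^ 2 ^ n)⁻¹ = z := by
      rw [← mul_inv_rev, hc4, h.z_inv]
    calc c ^ 2 ^ n * (v * c ^ i) * (c ^ 2 ^ n)⁻¹ = (c ^ 2 ^ n * v) * (c ^ i * (c ^ 2 ^ n)⁻¹) := by group
      _ = v * (c ^ 2 ^ n)⁻¹ * (c ^ i * (c ^ 2 ^ n)⁻¹) := by rw [h2]
      _ = v * c ^ i * ((c ^ 2 ^ n)⁻¹ * (c ^ 2 ^ n)⁻¹) := by
          have : (c ^ 2 ^ n)⁻¹ * c ^ i = c ^ i * (c ^ 2 ^ n)⁻¹ :=
            ((Commute.refl c).pow_pow _ _).inv_left.eq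
          simp only [mul_assoc]
          rw [← mul_assoc (c ^ 2 ^ n)⁻¹ (c ^ i), this, mul_assoc]
      _ = v * c ^ i * z := by rw [h3]

/-- two elements of order four generating a quaternion group of order eight -/
theorem exists_pair (h : GQ Q c v z n) : ∃ q₁ ∈ Q, ∃ q₂ ∈ Q, orderOf q₁ = 4 ∧ orderOf q₂ = 4 ∧
    orderOf (q₁ * q₂) = 4 ∧ q₂ * q₁ = q₁ * q₂ * z := by
  have hc4 : (c ^ 2 ^ n) * (c ^ 2 ^ n) = z := by
    rw [← pow_add, ← two_mul, ← pow_succ', h.z_eq]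
  have hcz : c ^ 2 ^ n * z = z * c ^ 2 ^ n := by
    rw [← h.z_eq]; exact ((Commute.refl c).pow_pow _ _).eq
  refine ⟨v, h.v_mem, c ^ 2 ^ n, Q.pow_mem h.c_mem _, h.orderOf_v,
    orderOf_of_sq hc4 h.z_mul h.z_ne, h.orderOf_out _, ?_⟩
  have h1 : (c ^ 2 ^ n)⁻¹ = c ^ 2 ^ n * z := by
    rw [inv_eq_iff_mul_eq_one, ← mul_assoc, hc4, h.z_mul]
  calc c ^ 2 ^ n * v = c ^ 2 ^ n * (v * c ^ 2 ^ n) * (c ^ 2 ^ n)⁻¹ := by group
    _ = c ^ 2 ^ n * ((c ^ 2 ^ n)⁻¹ * v) * (c ^ 2 ^ n)⁻¹ := by rw [h.conj_pow]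
    _ = v * (c ^ 2 ^ n)⁻¹ := by group
    _ = v * c ^ 2 ^ n * z := by rw [h1, mul_assoc]

end GQ

end Cfsg.Agent.Cit
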