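import Cfsg.Prelude.Def_Balance
import Cfsg.Agent.Lib.Cores
import Cfsg.Agent.Cit.Quat

/-!
# The hypothesis of the classical involution theorem, class free

`Hyp Om` : helper443's HYP(G,Om) (bb #4221): `Om` is an invariant set of subgroups `K` with generalised
quaternion Sylow 2-subgroups and exactly one involution `zz K`, `K` subnormal in the centraliser of `zz K`,
and the two conditions `(H2)`, `(H3)` of Aschbacher's theorem.

`OmS Om S` is the set of `K ∈ Om` such that `K ⊓ S` contains a Sylow 2-subgroup of `K` (for a 2-subgroup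
`S`: is one).
-/

set_option autoImplicit false
set_option linter.style.haveILetI false

namespace Cfsg.Agent.Cit

open Subgroup Cfsg

variable {G : Type*} [Group G]

/-! ### Conjugate subgroups -/

/-- the conjugate `g K g⁻¹` -/
def cj (g : G) (K : Subgroup G) : Subgroup G := K.map (MulAut.conj g).toMonoidHom

theorem cj_def (g : G) (K : Subgroup G) : cj g K = K.map (MulAut.conj g).toMonoidHom := rfl

theorem mem_cj {g x : G} {K : Subgroup G} : x ∈ cj g K ↔ g⁻¹ * x * g ∈ K := by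
  constructor
  · rintro ⟨k, hk, rfl⟩
    simpa [mul_assoc] using hk
  · intro h
    exact ⟨g⁻¹ * x * g, h, by simp [mul_assoc]⟩

theorem conj_mem_cj {g x : G} {K : Subgroup G} (hx : x ∈ K) : g * x * g⁻¹ ∈ cj g K :=
  ⟨x, hx, rfl⟩

theorem conj_mem_cj_iff {g x : G} {K : Subgroup G} : g * x * g⁻¹ ∈ cj g K ↔ x ∈ K := by
  rw [mem_cj]; simp [mul_assoc]

@[simp] theorem cj_one (K : Subgroup G) : cj 1 K = K := by
  ext x; rw [mem_cj]; simp

theorem cj_mul (g h : G) (K : Subgroup G) : cj (g * h) K = cj g (cj h K) := by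
  ext x; rw [mem_cj, mem_cj, mem_cj]; simp [mul_assoc]

theorem cj_inv_cj (g : G) (K : Subgroup G) : cj g⁻¹ (cj g K) = K := by
  rw [← cj_mul]; simp

theorem cj_cj_inv (g : G) (K : Subgroup G) : cj g (cj g⁻¹ K) = K := by
  rw [← cj_mul]; simp

theorem cj_mono (g : G) {K L : Subgroup G} (h : K ≤ L) : cj g K ≤ cj g L := Subgroup.map_mono h

theorem cj_le_cj {g : G} {K L : Subgroup G} : cj g K ≤ cj g L ↔ K ≤ L :=
  ⟨fun h => by simpa [cj_inv_cj] using cj_mono g⁻¹ h, cj_mono g⟩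

theorem cj_inj {g : G} {K L : Subgroup G} : cj g K = cj g L ↔ K = L :=
  ⟨fun h => by rw [← cj_inv_cj g K, h, cj_inv_cj], fun h => by rw [h]⟩

theorem cj_inf (g : G) (K L : Subgroup G) : cj g (K ⊓ L) = cj g K ⊓ cj g L := by
  ext x; simp only [mem_inf, mem_cj]

theorem cj_sup (g : G) (K L : Subgroup G) : cj g (K ⊔ L) = cj g K ⊔ cj g L := Subgroup.map_sup _ _ _

theorem cj_commutator (g : G) (K L : Subgroup G) : cj g ⁅K, L⁆ = ⁅cj g K, cj g L⁆ :=
  Subgroup.map_commutator _ _ _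

theorem cj_centralizer (g t : G) :
    cj g (centralizer {t}) = centralizer {g * t * g⁻¹} := by
  ext x
  rw [mem_cj, mem_centralizer_singleton_iff, mem_centralizer_singleton_iff]
  constructor
  · intro h
    calc x * (g * t * g⁻¹) = g * ((g⁻¹ * x * g) * t) * g⁻¹ := by group
      _ = g * (t * (g⁻¹ * x * g)) * g⁻¹ := by rw [h]
      _ = g * t * g⁻¹ * x := by group
  · intro h
    calc (g⁻¹ * x * g) * t = g⁻¹ * (x * (g * t * g⁻¹)) * g := by group
      _ = g⁻¹ * (g * t * g⁻¹ * x) * g := by rw [h]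
      _ = t * (g⁻¹ * x * g) := by group

theorem mem_normalizer_iff_cj {g : G} {K : Subgroup G} :
    g ∈ normalizer (K : Set G) ↔ cj g K = K := by
  rw [mem_normalizer_iff]
  constructor
  · intro h
    ext x
    rw [mem_cj, h]
    simp [mul_assoc]
  · intro h x
    have h1 : g * x * g⁻¹ ∈ cj g K ↔ g * x * g⁻¹ ∈ K := by rw [h]
    exact conj_mem_cj_iff.symm.trans h1

theorem card_cj (g : G) (K : Subgroup G) : Nat.card (cj g K) = Nat.card K :=
  card_map_of_injective (MulAut.conj g).injective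

theorem relIndex_cj (g : G) (K L : Subgroup G) : (cj g K).relIndex (cj g L) = K.relIndex L :=
  relIndex_map_map_of_injective K L (MulAut.conj g).injective

theorem isPGroup_cj {p : ℕ} {g : G} {K : Subgroup G} (h : IsPGroup p K) : IsPGroup p (cj g K) :=
  h.map _

/-- restriction of conjugation by `g` to an isomorphism `K ≃ g K g⁻¹` -/
noncomputable def cjEquiv (g : G) (K : Subgroup G) : K ≃* cj g K :=
  K.equivMapOfInjective (MulAut.conj g).toMonoidHom (MulAut.conj g).injective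

@[simp] theorem coe_cjEquiv (g : G) (K : Subgroup G) (x : K) : (cjEquiv g K x : G) = g * x * g⁻¹ := rfl

/-! ### The involution and the odd core of `K` -/

open Classical in
/-- an involution of `K` (`1` if there is none) -/
noncomputable def zz (K : Subgroup G) : G :=
  if h : ∃ t ∈ K, orderOf t = 2 then h.choose else 1

theorem zz_spec {K : Subgroup G} (h : ∃ t ∈ K, orderOf t = 2) : zz K ∈ K ∧ orderOf (zz K) = 2 := by
  rw [zz, dif_pos h]
  exact h.choose_spec

/-- `O(K)` as a subgroup of `G` -/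
def OO (K : Subgroup G) : Subgroup G := (oddCore K).map K.subtype

theorem OO_def (K : Subgroup G) : OO K = (oddCore K).map K.subtype := rfl

theorem OO_le (K : Subgroup G) : OO K ≤ K := map_subtype_le _

theorem OO_cj (g : G) (K : Subgroup G) : OO (cj g K) = cj g (OO K) := by
  rw [OO, OO, oddCore, ← Lib.Cores.map_equiv_pPrimeCore (cjEquiv g K), Subgroup.map_map]
  ext x
  rw [mem_cj]
  constructor
  · rintro ⟨y, hy, rfl⟩
    refine ⟨y, hy, ?_⟩
    simp [mul_assoc]
  · rintro ⟨y, hy, hyx⟩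
    refine ⟨y, hy, ?_⟩
    simp only [coe_subtype] at hyx
    simp [hyx, mul_assoc]

theorem le_normalizer_OO (K : Subgroup G) : K ≤ normalizer (OO K : Set G) := by
  intro g hg
  rw [mem_normalizer_iff_cj, ← OO_cj]
  congr 1
  rw [← mem_normalizer_iff_cj]
  exact le_normalizer hg

theorem odd_OO [Finite G] (K : Subgroup G) : ¬ 2 ∣ Nat.card (OO K) := by
  rw [OO, card_map_of_injective K.subtype_injective]
  have h := Lib.Cores.pPrimeCore_coprime (G := K) 2
  intro h2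
  have := Nat.dvd_gcd h2 (dvd_refl 2)
  rw [h] at this
  omega

/-- a subgroup of odd order normalised by `K` and contained in `K` lies in `O(K)` -/
theorem le_OO {K N : Subgroup G} (hN : N ≤ K) (hn : K ≤ normalizer (N : Set G))
    (ho : ¬ 2 ∣ Nat.card N) : N ≤ OO K := by
  have h1 : (N.subgroupOf K).Normal := (normal_subgroupOf_iff_le_normalizer hN).2 hn
  have h2 : N.subgroupOf K ≤ oddCore K := by
    refine Lib.Cores.le_pPrimeCore h1 ?_
    rw [Nat.card_congr (subgroupOfEquivOfLe hN).toEquiv, Nat.coprime_comm]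
    exact (Nat.Prime.coprime_iff_not_dvd Nat.prime_two).2 ho
  rw [← map_subgroupOf_eq_of_le hN]
  exact Subgroup.map_mono h2

/-! ### The hypothesis -/

/-- **HYP(G,Om)** -/
structure Hyp (Om : Set (Subgroup G)) : Prop where
  conj : ∀ K ∈ Om, ∀ g, cj g K ∈ Om
  quat : ∀ K ∈ Om, ∃ S : Sylow 2 K, ∃ n : ℕ,
    Nonempty (↥(S : Subgroup K) ≃* QuaternionGroup (2 ^ (n + 1)))
  uniq : ∀ K ∈ Om, ∀ t ∈ K, orderOf t = 2 → t = zz K
  sub : ∀ K ∈ Om, (K.subgroupOf (centralizer {zz K})).IsSubnormal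
  h2 : ∀ K ∈ Om, ∀ L ∈ Om, zz K = zz L → K = L ∨ ⁅K, L⁆ ≤ OO K ⊓ OO L
  h3 : ∀ K ∈ Om, ∀ L ∈ Om, ∀ y ∈ K, IsPGroup 2 (zpowers y) → 4 ≤ orderOf y → y * zz L = zz L * y →
    y ∈ normalizer (L : Set G)

/-- `Q` is a Sylow 2-subgroup of `K` (both subgroups of `G`) -/
def Syl (Q K : Subgroup G) : Prop := Q ≤ K ∧ IsPGroup 2 Q ∧ ¬ 2 ∣ Q.relIndex K

/-- the members `K` of `Om` such that `S ⊓ K` contains a Sylow 2-subgroup of `K` -/
def OmS (Om : Set (Subgroup G)) (S : Subgroup G) : Set (Subgroup G) :=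
  {K | K ∈ Om ∧ ¬ 2 ∣ S.relIndex K}

theorem Syl.cj {Q K : Subgroup G} (h : Syl Q K) (g : G) : Syl (cj g Q) (Cit.cj g K) :=
  ⟨cj_mono g h.1, isPGroup_cj h.2.1, by rw [relIndex_cj]; exact h.2.2⟩

/-- a Sylow 2-subgroup in the sense of `Syl` comes from Mathlib's `Sylow 2 K` -/
theorem Syl.exists_sylow [Finite G] {Q K : Subgroup G} (h : Syl Q K) :
    ∃ S : Sylow 2 K, (S : Subgroup K) = Q.subgroupOf K := by
  haveI : Fact (Nat.Prime 2) := ⟨Nat.prime_two⟩
  have h1 : IsPGroup 2 (Q.subgroupOf K) := h.2.1.comap_subtype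
  exact ⟨h1.toSylow h.2.2, rfl⟩

/-- all Sylow 2-subgroups of `K` are conjugate in `K` -/
theorem Syl.exists_conj [Finite G] {Q R K : Subgroup G} (h : Syl Q K) (h' : Syl R K) :
    ∃ k ∈ K, Cit.cj k Q = R := by
  haveI : Fact (Nat.Prime 2) := ⟨Nat.prime_two⟩
  obtain ⟨S, hS⟩ := h.exists_sylow
  obtain ⟨T, hT⟩ := h'.exists_sylow
  obtain ⟨k, hk⟩ := MulAction.exists_smul_eq K S T
  refine ⟨k, k.2, ?_⟩
  have h2 := congrArg (fun X : Sylow 2 K => (X : Subgroup K).map K.subtype) hk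
  simp only [Sylow.coe_subgroup_smul, hS, hT] at h2
  rw [map_subgroupOf_eq_of_le h'.1] at h2
  rw [← h2]
  ext x
  simp only [mem_cj, mem_map, Subgroup.mem_pointwise_smul_iff_inv_smul_mem, mem_subgroupOf]
  constructor
  · intro hx
    have hxK : x ∈ K := by
      have := K.mul_mem (K.mul_mem k.2 (h.1 hx)) (K.inv_mem k.2)
      simpa [mul_assoc] using this
    refine ⟨⟨x, hxK⟩, ?_, rfl⟩
    simpa [MulAut.smul_def] using hx
  · rintro ⟨y, hy, rfl⟩
    simpa [MulAut.smul_def] using hy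

namespace Hyp

variable {Om : Set (Subgroup G)}

/-- every Sylow 2-subgroup of a member is generalised quaternion -/
theorem isGQ [Finite G] (h : Hyp Om) {K Q : Subgroup G} (hK : K ∈ Om) (hQ : Syl Q K) : IsGQ Q := by
  haveI : Fact (Nat.Prime 2) := ⟨Nat.prime_two⟩
  obtain ⟨S, n, ⟨e⟩⟩ := h.quat K hK
  obtain ⟨T, hT⟩ := hQ.exists_sylow
  obtain ⟨f⟩ : Nonempty (↥(T : Subgroup K) ≃* ↥(S : Subgroup K)) := ⟨T.equiv S⟩
  refine ⟨n, ⟨?_⟩⟩
  refine ((subgroupOfEquivOfLe hQ.1).symm.trans ?_).trans (f.trans e)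
  exact MulEquiv.subgroupCongr hT.symm

theorem exists_syl [Finite G] (K : Subgroup G) : ∃ Q, Syl Q K := by
  haveI : Fact (Nat.Prime 2) := ⟨Nat.prime_two⟩
  obtain ⟨S⟩ : Nonempty (Sylow 2 K) := inferInstance
  refine ⟨(S : Subgroup K).map K.subtype, map_subtype_le _, S.isPGroup'.map _, ?_⟩
  have h1 : ((S : Subgroup K).map K.subtype).subgroupOf K = S := by
    rw [subgroupOf, comap_map_eq_self_of_injective K.subtype_injective]
  rw [relIndex, h1]
  exact S.not_dvd_index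

theorem zz_spec [Finite G] (h : Hyp Om) {K : Subgroup G} (hK : K ∈ Om) :
    zz K ∈ K ∧ orderOf (zz K) = 2 := by
  apply Cit.zz_spec
  obtain ⟨Q, hQ⟩ := exists_syl K
  obtain ⟨c, v, z, n, hc⟩ := exists_gq (h.isGQ hK hQ)
  exact ⟨z, hQ.1 hc.z_mem, hc.orderOf_z⟩

theorem zz_mem [Finite G] (h : Hyp Om) {K : Subgroup G} (hK : K ∈ Om) : zz K ∈ K := (h.zz_spec hK).1

theorem orderOf_zz [Finite G] (h : Hyp Om) {K : Subgroup G} (hK : K ∈ Om) : orderOf (zz K) = 2 :=
  (h.zz_spec hK).2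

theorem zz_mul [Finite G] (h : Hyp Om) {K : Subgroup G} (hK : K ∈ Om) : zz K * zz K = 1 := by
  rw [← pow_two, ← h.orderOf_zz hK, pow_orderOf_eq_one]

theorem zz_inv [Finite G] (h : Hyp Om) {K : Subgroup G} (hK : K ∈ Om) : (zz K)⁻¹ = zz K :=
  inv_eq_of_mul_eq_one_right (h.zz_mul hK)

theorem zz_ne [Finite G] (h : Hyp Om) {K : Subgroup G} (hK : K ∈ Om) : zz K ≠ 1 := by
  intro h1
  have := h.orderOf_zz hK
  rw [h1, orderOf_one] at this
  omega

/-- an element of a member with square `1` -/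
theorem eq_zz (h : Hyp Om) {K : Subgroup G} (hK : K ∈ Om) {t : G} (ht : t ∈ K)
    (h2 : t * t = 1) (h1 : t ≠ 1) : t = zz K :=
  h.uniq K hK t ht (orderOf_eq_prime (by rw [pow_two]; exact h2) h1)

theorem zz_cj [Finite G] (h : Hyp Om) {K : Subgroup G} (hK : K ∈ Om) (g : G) :
    zz (cj g K) = g * zz K * g⁻¹ := by
  symm
  refine h.uniq _ (h.conj K hK g) _ (conj_mem_cj (h.zz_mem hK)) ?_
  rw [← h.orderOf_zz hK]
  exact (MulAut.conj g).orderOf_eq (zz K)

/-- the normaliser of a member centralises its involution -/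
theorem normalizer_le [Finite G] (h : Hyp Om) {K : Subgroup G} (hK : K ∈ Om) :
    normalizer (K : Set G) ≤ centralizer {zz K} := by
  intro g hg
  have h1 := h.zz_cj hK g
  rw [mem_normalizer_iff_cj.1 hg] at h1
  rw [mem_centralizer_singleton_iff]
  calc g * zz K = (g * zz K * g⁻¹) * g := by group
    _ = zz K * g := by rw [← h1]

theorem le_centralizer [Finite G] (h : Hyp Om) {K : Subgroup G} (hK : K ∈ Om) :
    K ≤ centralizer {zz K} := le_normalizer.trans (h.normalizer_le hK)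

theorem comm_zz [Finite G] (h : Hyp Om) {K : Subgroup G} (hK : K ∈ Om) {x : G}
    (hx : x ∈ normalizer (K : Set G)) : x * zz K = zz K * x :=
  mem_centralizer_singleton_iff.1 (h.normalizer_le hK hx)

/-- coordinates for a Sylow 2-subgroup of a member -/
theorem exists_gq [Finite G] (h : Hyp Om) {K Q : Subgroup G} (hK : K ∈ Om) (hQ : Syl Q K) :
    ∃ c v n, GQ Q c v (zz K) n := by
  obtain ⟨c, v, z, n, hc⟩ := Cit.exists_gq (h.isGQ hK hQ)
  have h1 := h.uniq K hK z (hQ.1 hc.z_mem) hc.orderOf_z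
  subst h1
  exact ⟨c, v, n, hc⟩

end Hyp

/-! ### `Om(S)` -/

section OmS

variable {Om : Set (Subgroup G)} {S : Subgroup G}

theorem mem_OmS {K : Subgroup G} : K ∈ OmS Om S ↔ K ∈ Om ∧ ¬ 2 ∣ S.relIndex K := Iff.rfl

/-- for a 2-subgroup `S`, `Om(S)` consists of the `K` with `K ⊓ S` Sylow in `K` -/
theorem syl_inf {K : Subgroup G} (hS : IsPGroup 2 S) (hK : K ∈ OmS Om S) : Syl (K ⊓ S) K := by
  refine ⟨inf_le_left, hS.to_le inf_le_right, ?_⟩
  rw [inf_comm, inf_relIndex_right]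
  exact hK.2

theorem mem_OmS_of_le [Finite G] {K Q : Subgroup G} (hK : K ∈ Om) (hQ : Syl Q K) (hQS : Q ≤ S) :
    K ∈ OmS Om S :=
  ⟨hK, fun h => hQ.2.2 (h.trans (relIndex_dvd_of_le_left K hQS))⟩

theorem OmS_mono {S T : Subgroup G} (h : S ≤ T) : OmS Om S ⊆ OmS Om T :=
  fun K hK => ⟨hK.1, fun h2 => hK.2 (h2.trans (relIndex_dvd_of_le_left K h))⟩

theorem cj_mem_OmS (hO : ∀ K ∈ Om, ∀ g, cj g K ∈ Om) {K : Subgroup G} (g : G) (hK : K ∈ OmS Om S) :
    cj g K ∈ OmS Om (cj g S) :=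
  ⟨hO K hK.1 g, by rw [relIndex_cj]; exact hK.2⟩

/-- the normaliser of `S` acts on `Om(S)` -/
theorem cj_mem_OmS' (hO : ∀ K ∈ Om, ∀ g, cj g K ∈ Om) {K : Subgroup G} {g : G}
    (hg : g ∈ normalizer (S : Set G)) (hK : K ∈ OmS Om S) : cj g K ∈ OmS Om S := by
  have := cj_mem_OmS hO g hK
  rwa [mem_normalizer_iff_cj.1 hg] at this

end OmS

/-! ### The literal hypothesis of Aschbacher's theorem (S1309) -/

/-- the conjugacy class of the subgroup `J` -/
def cls (J : Subgroup G) : Set (Subgroup G) := {K | ∃ g : G, K = cj g J}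

theorem self_mem_cls (J : Subgroup G) : J ∈ cls J := ⟨1, by simp⟩

theorem hyp_of_class [Finite G] (z : G) (hz : orderOf z = 2) (J : Subgroup G)
    (hzJ : z ∈ J)
    (hsn : (J.subgroupOf (centralizer ({z} : Set G))).IsSubnormal)
    (hQ : ∃ S : Sylow 2 ↥J, ∃ n : ℕ, Nonempty (↥(S : Subgroup ↥J) ≃* QuaternionGroup (2 ^ (n + 1))))
    (huniq : ∀ t ∈ J, orderOf t = 2 → t = z)
    (h2 : ∀ u ∈ centralizer ({z} : Set G), J.map (MulAut.conj u).toMonoidHom = J ∨
      ⁅J, J.map (MulAut.conj u).toMonoidHom⁆ ≤ (oddCore ↥J).map J.subtype ⊓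
        (oddCore ↥(J.map (MulAut.conj u).toMonoidHom)).map (J.map (MulAut.conj u).toMonoidHom).subtype)
    (h3 : ∀ y ∈ J, ∀ g : G, IsPGroup 2 ↥(zpowers y) → 4 ≤ orderOf y →
      g * y * g⁻¹ ∈ centralizer ({z} : Set G) → g * y * g⁻¹ ∈ normalizer (J : Set G)) :
    Hyp (cls J) ∧ zz J = z := by
  have hzz : ∀ g, zz (cj g J) = g * z * g⁻¹ := by
    intro g
    have h1 : ∃ t ∈ cj g J, orderOf t = 2 :=
      ⟨g * z * g⁻¹, conj_mem_cj hzJ, by rw [← hz]; exact (MulAut.conj g).orderOf_eq z⟩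
    obtain ⟨h3, h4⟩ := zz_spec h1
    have h5 := huniq _ (mem_cj.1 h3) (by
      rw [← h4]
      have := (MulAut.conj g⁻¹).orderOf_eq (zz (cj g J))
      simpa using this)
    rw [← h5]; group
  have hz1 : zz J = z := by simpa using hzz 1
  refine ⟨⟨?_, ?_, ?_, ?_, ?_, ?_⟩, hz1⟩
  · rintro K ⟨g, rfl⟩ h
    exact ⟨h * g, by rw [cj_mul]⟩
  · rintro K ⟨g, rfl⟩
    obtain ⟨S, n, ⟨e⟩⟩ := hQ
    haveI : Fact (Nat.Prime 2) := ⟨Nat.prime_two⟩
    refine ⟨(S.isPGroup'.map (cjEquiv g J).toMonoidHom).toSylow ?_, n, ⟨?_⟩⟩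
    · have h5 : ((S : Subgroup J).map (cjEquiv g J).toMonoidHom).index = (S : Subgroup J).index :=
        Subgroup.index_map_equiv _ (cjEquiv g J)
      rw [h5]
      exact S.not_dvd_index
    · exact (((S : Subgroup J).equivMapOfInjective _ (cjEquiv g J).injective).symm).trans e
  · rintro K ⟨g, rfl⟩ t ht ht2
    rw [hzz]
    have h5 := huniq _ (mem_cj.1 ht) (by
      rw [← ht2]
      have := (MulAut.conj g⁻¹).orderOf_eq t
      simpa using this)
    rw [← h5]; group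
  · rintro K ⟨g, rfl⟩
    rw [hzz, ← cj_centralizer]
    have h5 := hsn.map (f := (cjEquiv g (centralizer {z})).toMonoidHom) (cjEquiv g _).surjective
    convert h5 using 1
    ext x
    simp only [mem_subgroupOf, mem_cj, mem_map]
    constructor
    · intro hx
      refine ⟨(cjEquiv g _).symm x, ?_, ?_⟩
      · have h6 : (((cjEquiv g (centralizer {z})).symm x : centralizer {z}) : G) = g⁻¹ * x * g := by
          have h7 := coe_cjEquiv g (centralizer {z}) ((cjEquiv g (centralizer {z})).symm x)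
          rw [MulEquiv.apply_symm_apply] at h7
          rw [h7]; group
        rw [h6]; exact hx
      · simp
    · rintro ⟨y, hy, rfl⟩
      simpa [mul_assoc] using hy
  · rintro K ⟨g, rfl⟩ L ⟨h, rfl⟩ hKL
    rw [hzz, hzz] at hKL
    have hu : g⁻¹ * h ∈ centralizer ({z} : Set G) := by
      rw [mem_centralizer_singleton_iff]
      calc g⁻¹ * h * z = g⁻¹ * (h * z * h⁻¹) * h := by group
        _ = g⁻¹ * (g * z * g⁻¹) * h := by rw [hKL]
        _ = z * (g⁻¹ * h) := by group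
    have h5 : cj h J = cj g (cj (g⁻¹ * h) J) := by rw [← cj_mul]; simp
    rcases h2 _ hu with h6 | h6
    · left
      rw [← cj_def] at h6
      rw [h5, h6]
    · right
      rw [h5, ← cj_commutator, OO_cj, OO_cj g (cj (g⁻¹ * h) J), ← cj_inf]
      exact cj_mono g h6
  · rintro K ⟨g, rfl⟩ L ⟨h, rfl⟩ y hy hy2 hy4 hyz
    rw [hzz] at hyz
    have h5 := h3 (g⁻¹ * y * g) (mem_cj.1 hy) (h⁻¹ * g) (by
      have h6 : zpowers (g⁻¹ * y * g) = cj g⁻¹ (zpowers y) := by
        rw [cj_def, MonoidHom.map_zpowers]; simp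
      rw [h6]
      exact isPGroup_cj hy2) (by
      have := (MulAut.conj g⁻¹).orderOf_eq y
      simp only [MulAut.conj_apply, inv_inv] at this
      rw [this]; exact hy4)
    have h6 : h⁻¹ * g * (g⁻¹ * y * g) * (h⁻¹ * g)⁻¹ = h⁻¹ * y * h := by group
    rw [h6] at h5
    have h7 := h5 (by
      rw [mem_centralizer_singleton_iff]
      calc h⁻¹ * y * h * z = h⁻¹ * (y * (h * z * h⁻¹)) * h := by group
        _ = h⁻¹ * (h * z * h⁻¹ * y) * h := by rw [hyz]
        _ = z * (h⁻¹ * y * h) := by group)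
    rw [mem_normalizer_iff_cj] at h7 ⊢
    have h8 := congrArg (cj h) h7
    rw [← cj_mul] at h8
    rw [← cj_mul]
    rw [show h * (h⁻¹ * y * h) = y * h by group] at h8
    exact h8

end Cfsg.Agent.Cit
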