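import Cfsg.Agent.Cit.TBasic
import Cfsg.Agent.Cit.TypeDet.Group
import Cfsg.Agent.Lib.ComponentSolvable
import Cfsg.Agent.Cit.OneComp

/-!
# THEOREM T: the pieces

* `tt_iff_hasPieces`, `TT.img` : `TT` for groups with trivial odd core, and for arbitrary odd quotients;
* `pc Om K` : the intrinsic piece of `K`: the join of all members joined to `K` by a chain of non-commuting members;
  `HasPieces.piece`, `hasPieces_iff`, `cj_pc`, `pc_comm`, ...
-/

set_option autoImplicit false
set_option linter.dupNamespace false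
set_option linter.style.haveILetI false

namespace Cfsg.Agent.Cit

open Subgroup Cfsg Cfsg.Agent.Nodes.Chart Relation

open scoped commutatorElement

universe u

section

variable {G G' : Type*} [Group G] [Group G']

/-! ### `HasPieces` under injective maps -/

theorem mem_img_iff {f : G →* G'} (hf : Function.Injective f) {Om : Set (Subgroup G)} {K : Subgroup G} :
    K.map f ∈ img f Om ↔ K ∈ Om := by
  constructor
  · rintro ⟨J, hJ, e⟩
    rwa [← Subgroup.map_injective hf e]
  · exact fun h => ⟨K, h, rfl⟩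

theorem HasPieces.img_of_injective [Finite G] {Om : Set (Subgroup G)} (hOm : Hyp Om) (h : HasPieces Om)
    (f : G →* G') (hf : Function.Injective f) : HasPieces (Cit.img f Om) := by
  obtain ⟨hc, 𝒟, h1, h2, h3⟩ := h
  refine ⟨?_, (Subgroup.map f) '' 𝒟, ?_, ?_, ?_⟩
  · rintro _ ⟨K, hK, rfl⟩
    rw [OO_map f hf, hc K hK, Subgroup.map_bot]
  · rintro _ ⟨D, hD, rfl⟩
    exact (h1 D hD).map' hOm f hf fun K _ => (mem_img_iff hf).symm
  · rintro _ ⟨D, hD, rfl⟩ _ ⟨E, hE, rfl⟩ hne
    exact (map_le_centralizer_map hf).2 (h2 D hD E hE fun h => hne (by rw [h]))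
  · rintro _ ⟨K, hK, rfl⟩
    obtain ⟨D, hD, hKD⟩ := h3 K hK
    exact ⟨_, ⟨D, hD, rfl⟩, Subgroup.map_mono hKD⟩

theorem img_img {G'' : Type*} [Group G''] (f : G →* G') (g : G' →* G'') (Om : Set (Subgroup G)) :
    img g (img f Om) = img (g.comp f) Om := by
  ext K
  constructor
  · rintro ⟨_, ⟨J, hJ, rfl⟩, rfl⟩
    exact ⟨J, hJ, (Subgroup.map_map J g f).symm⟩
  · rintro ⟨J, hJ, rfl⟩
    exact ⟨_, ⟨J, hJ, rfl⟩, Subgroup.map_map J g f⟩

theorem img_id (Om : Set (Subgroup G)) : img (MonoidHom.id G) Om = Om := by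
  ext K
  constructor
  · rintro ⟨J, hJ, rfl⟩
    rwa [Subgroup.map_id]
  · exact fun h => ⟨K, h, Subgroup.map_id K⟩

theorem img_restr {Om : Set (Subgroup G)} {H : Subgroup G} (h : ∀ K ∈ Om, K ≤ H) :
    img H.subtype (restr Om H) = Om := by
  ext K
  constructor
  · rintro ⟨J, hJ, rfl⟩
    exact hJ
  · intro hK
    exact ⟨K.subgroupOf H, subgroupOf_mem_restr hK (h K hK), map_subgroupOf_eq_of_le (h K hK)⟩

/-- pieces of a subgroup containing all members -/
theorem HasPieces.of_restr [Finite G] {Om : Set (Subgroup G)} (hOm : Hyp Om) {H : Subgroup G}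
    (h : ∀ K ∈ Om, K ≤ H) (hp : HasPieces (restr Om H)) : HasPieces Om := by
  have h1 := hp.img_of_injective (hOm.restr H) H.subtype H.subtype_injective
  rwa [img_restr h] at h1

/-! ### `TT` -/

theorem Hyp.img_mk [Finite G] {Om : Set (Subgroup G)} (hOm : Hyp Om) :
    Hyp (Cit.img (QuotientGroup.mk' (pPrimeCore 2 G)) Om) := by
  haveI : (pPrimeCore 2 G).Normal := Lib.Cores.pPrimeCore_normal 2
  refine hOm.img (QuotientGroup.mk'_surjective _) ?_
  rw [QuotientGroup.ker_mk']
  exact not_two_dvd_oddCore G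

theorem ker_eq_oddCore [Finite G] {f : G →* G'} (hf : Function.Surjective f) (hk : ¬ 2 ∣ Nat.card f.ker)
    (hO : pPrimeCore 2 G' = ⊥) : f.ker = pPrimeCore 2 G := by
  have h1 := comap_oddCore f hf hk
  change (pPrimeCore 2 G').comap f = pPrimeCore 2 G at h1
  rw [← h1, hO, MonoidHom.comap_bot]

/-- THEOREM T for `G` gives the pieces of every quotient of `G` by a normal subgroup of odd order with trivial
odd core -/
theorem TT.img [Finite G] {Om : Set (Subgroup G)} (hOm : Hyp Om) (h : TT Om) (f : G →* G')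
    (hf : Function.Surjective f) (hk : ¬ 2 ∣ Nat.card f.ker) (hO : pPrimeCore 2 G' = ⊥) :
    HasPieces (Cit.img f Om) := by
  haveI : (pPrimeCore 2 G).Normal := Lib.Cores.pPrimeCore_normal 2
  have hker := ker_eq_oddCore hf hk hO
  let e : G ⧸ pPrimeCore 2 G ≃* G' :=
    (QuotientGroup.quotientMulEquivOfEq hker.symm).trans (QuotientGroup.quotientKerEquivOfSurjective f hf)
  have h1 : e.toMonoidHom.comp (QuotientGroup.mk' (pPrimeCore 2 G)) = f := by
    ext x; rfl
  have h2 := HasPieces.img_of_injective hOm.img_mk h e.toMonoidHom e.injective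
  rwa [img_img, h1] at h2

theorem tt_iff_hasPieces [Finite G] {Om : Set (Subgroup G)} (hOm : Hyp Om) (hO : pPrimeCore 2 G = ⊥) :
    TT Om ↔ HasPieces Om := by
  haveI : (pPrimeCore 2 G).Normal := Lib.Cores.pPrimeCore_normal 2
  constructor
  · intro h
    have h1 := h.img hOm (MonoidHom.id G) Function.surjective_id
      (not_two_dvd_ker_of_injective _ Function.injective_id) hO
    rwa [img_id] at h1
  · intro h
    refine h.img_of_injective hOm _ ?_
    rw [← MonoidHom.ker_eq_bot_iff, QuotientGroup.ker_mk', hO]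

/-! ### Members and pieces -/

variable {Om : Set (Subgroup G)}

theorem Piece.exists_mem {D : Subgroup G} (h : Piece Om D) : ∃ K ∈ Om, K ≤ D := by
  cases h with
  | single mem => exact ⟨D, mem, le_rfl⟩
  | chart nmem qs two p c τ kind ok small sl zx =>
    obtain ⟨r, hr⟩ := c.Rne
    exact ⟨_, c.om r hr, le_chart c hr⟩
  | exc qs two p prime odd iso ne => exact ne
  | mathieu qs two iso ne mem => exact ne

theorem Piece.quasisimple {D : Subgroup G} (h : Piece Om D) (hD : D ∉ Om) :
    IsQuasisimple D ∧ IsPGroup 2 (center D) := by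
  cases h with
  | single mem => exact absurd mem hD
  | chart nmem qs two p c τ kind ok small sl zx => exact ⟨qs, two⟩
  | exc qs two p prime odd iso ne => exact ⟨qs, two⟩
  | mathieu qs two iso ne mem => exact ⟨qs, two⟩

theorem Hyp.not_le_centralizer_self [Finite G] (h : Hyp Om) {K : Subgroup G} (hK : K ∈ Om) :
    ¬ K ≤ centralizer (K : Set G) := by
  intro hc
  obtain ⟨Q, hQ⟩ := Hyp.exists_syl K
  obtain ⟨c, v, n, hq⟩ := h.exists_gq hK hQ
  exact hq.not_comm (hc (hQ.1 hq.c_mem) v (hQ.1 hq.v_mem))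

/-- a quasisimple group containing a member is generated by its members -/
theorem Hyp.eq_sSup_of_quasisimple [Finite G] (h : Hyp Om) {D : Subgroup G} (hD : IsQuasisimple D)
    {C : Set (Subgroup G)} (hC : ∀ K ∈ C, K ∈ Om ∧ K ≤ D) (hne : C.Nonempty)
    (hcj : ∀ K ∈ C, ∀ g ∈ D, cj g K ∈ C) : sSup C = D := by
  have hle : sSup C ≤ D := sSup_le fun K hK => (hC K hK).2
  have hn : D ≤ normalizer ((sSup C : Subgroup G) : Set G) := by
    refine OneComp.le_normalizer_of_cj_le fun g hg => ?_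
    rw [Cit.cj_le_iff]
    refine sSup_le fun K hK => ?_
    rw [← Cit.cj_le_iff]
    exact le_sSup (hcj K hK g hg)
  have hN : ((sSup C).subgroupOf D).Normal := (normal_subgroupOf_iff_le_normalizer hle).2 hn
  rcases SignalizersComponents.LayerBasic.quasisimple_normal hD _ hN with h1 | h1
  · exact le_antisymm hle (subgroupOf_eq_top.1 h1)
  · exfalso
    obtain ⟨K, hK⟩ := hne
    refine h.not_le_centralizer_self (hC K hK).1 fun x hx y hy => ?_
    have hxD := (hC K hK).2 hx
    have hyD := (hC K hK).2 hy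
    have h2 : (⟨x, hxD⟩ : D) ∈ center D := h1 (le_sSup hK hx : x ∈ sSup C)
    exact congrArg Subtype.val ((mem_center_iff.1 h2) ⟨y, hyD⟩)

/-! ### Intrinsic pieces -/

open TypeDet

/-- the piece of `K`: the join of all members joined to `K` by a chain of non-commuting members -/
def pc (Om : Set (Subgroup G)) (K : Subgroup G) : Subgroup G := sSup {J | chn Om K J}

theorem chn_mem {K J : Subgroup G} (hK : K ∈ Om) (h : chn Om K J) : J ∈ Om := by
  induction h with
  | refl => exact hK
  | tail _ h2 _ => exact h2.2.1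

theorem le_pc {K : Subgroup G} : K ≤ pc Om K := le_sSup ReflTransGen.refl

theorem le_pc_of_chn {K J : Subgroup G} (h : chn Om K J) : J ≤ pc Om K := le_sSup h

theorem pc_eq_of_chn {K J : Subgroup G} (h : chn Om K J) : pc Om K = pc Om J := by
  refine le_antisymm (sSup_le fun M hM => le_pc_of_chn ((chn_symm h).trans hM))
    (sSup_le fun M hM => le_pc_of_chn (h.trans hM))

theorem stp_cj {K J : Subgroup G} (hOm : ∀ K ∈ Om, ∀ g, cj g K ∈ Om) (g : G) (h : stp Om K J) :
    stp Om (cj g K) (cj g J) :=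
  ⟨hOm _ h.1 g, hOm _ h.2.1 g, fun hc => h.2.2 (cm_cj.1 hc)⟩

theorem chn_cj {K J : Subgroup G} (hOm : ∀ K ∈ Om, ∀ g, cj g K ∈ Om) (g : G) (h : chn Om K J) :
    chn Om (cj g K) (cj g J) := by
  induction h with
  | refl => exact ReflTransGen.refl
  | tail _ h2 ih => exact ih.tail (stp_cj hOm g h2)

theorem cj_pc (hOm : ∀ K ∈ Om, ∀ g, cj g K ∈ Om) (g : G) (K : Subgroup G) :
    cj g (pc Om K) = pc Om (cj g K) := by
  have key : ∀ (g : G) (K : Subgroup G), cj g (pc Om K) ≤ pc Om (cj g K) := by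
    intro g K
    rw [Cit.cj_le_iff]
    refine sSup_le fun J hJ => ?_
    rw [← Cit.cj_le_iff]
    exact le_pc_of_chn (chn_cj hOm g hJ)
  refine le_antisymm (key g K) ?_
  have h1 := key g⁻¹ (cj g K)
  rw [cj_inv_cj] at h1
  have h2 := cj_mono g h1
  rwa [cj_cj_inv] at h2

/-- members in different pieces commute -/
theorem pc_comm {K J : Subgroup G} (hK : K ∈ Om) (hJ : J ∈ Om) (h : pc Om K ≠ pc Om J) :
    pc Om K ≤ centralizer (pc Om J : Set G) := by
  rw [← cm_iff_le_centralizer]
  refine cm_sSup fun K' hK' => cm_symm (cm_sSup fun J' hJ' => ?_)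
  by_contra hc
  apply h
  rw [pc_eq_of_chn hK', pc_eq_of_chn hJ']
  exact pc_eq_of_chn (ReflTransGen.single ⟨chn_mem hK hK', chn_mem hJ hJ', fun h => hc (cm_symm h)⟩)

/-- the members of the piece of `K` normalise it -/
theorem le_normalizer_pc {K J : Subgroup G} (hK : K ∈ Om) (hJ : J ∈ Om) :
    J ≤ normalizer (pc Om K : Set G) := by
  by_cases h : pc Om K = pc Om J
  · rw [h]; exact le_pc.trans le_normalizer
  · exact (le_pc.trans (pc_comm hJ hK (Ne.symm h))).trans (centralizer_le_normalizer _)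

/-- two commuting families cannot both be contained in a quasisimple group -/
theorem HasPieces.pc_eq [Finite G] (hOm : Hyp Om) {D K : Subgroup G} (hD : IsQuasisimple D) (hK : K ∈ Om)
    (hKD : K ≤ D) (hcl : ∀ J ∈ Om, ¬ J ≤ D → J ≤ centralizer (D : Set G)) : pc Om K = D := by
  -- the chain class of `K` stays in `D`
  have h1 : ∀ J, chn Om K J → J ≤ D := by
    intro J hJ
    induction hJ with
    | refl => exact hKD
    | @tail L M h3 h4 ih =>
      by_contra hM
      apply h4.2.2
      have h5 := hcl M h4.2.1 hM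
      exact cm_symm (cm_iff_le_centralizer.2 (h5.trans (centralizer_le ih)))
  -- conjugation by members of `D` preserves the class
  set C : Set (Subgroup G) := {J | chn Om K J} with hC
  set C' : Set (Subgroup G) := {J | J ∈ Om ∧ J ≤ D ∧ ¬ chn Om K J} with hC'
  have hcomm : sSup C ≤ centralizer ((sSup C' : Subgroup G) : Set G) := by
    rw [← cm_iff_le_centralizer]
    refine cm_sSup fun K' hK' => cm_symm (cm_sSup fun J' hJ' => ?_)
    by_contra hc
    exact hJ'.2.2 (ReflTransGen.tail hK' ⟨chn_mem hK hK', hJ'.1, fun h => hc (cm_symm h)⟩)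
  have hgen : sSup C ⊔ sSup C' = D := by
    have h2 : sSup {J | J ∈ Om ∧ J ≤ D} = D := by
      refine hOm.eq_sSup_of_quasisimple hD (fun J hJ => hJ) ⟨K, hK, hKD⟩ ?_
      intro J hJ g hg
      refine ⟨hOm.conj J hJ.1 g, ?_⟩
      have h3 := cj_mono g hJ.2
      rwa [mem_normalizer_iff_cj.1 (le_normalizer hg)] at h3
    rw [← sSup_union]
    have h3 : C ∪ C' = {J | J ∈ Om ∧ J ≤ D} := by
      ext J
      constructor
      · rintro (h | h)
        · exact ⟨chn_mem hK h, h1 J h⟩
        · exact ⟨h.1, h.2.1⟩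
      · intro h
        by_cases h4 : chn Om K J
        · exact Or.inl h4
        · exact Or.inr ⟨h.1, h.2, h4⟩
    rw [h3, h2]
  have hCD : sSup C ≤ D := hgen ▸ le_sup_left
  have hC'D : sSup C' ≤ D := hgen ▸ le_sup_right
  have hN : ((sSup C).subgroupOf D).Normal := by
    refine (normal_subgroupOf_iff_le_normalizer hCD).2 ?_
    rw [← hgen]
    refine sup_le le_normalizer ?_
    have h3 : sSup C' ≤ centralizer ((sSup C : Subgroup G) : Set G) := by
      rw [← cm_iff_le_centralizer]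
      exact cm_symm (cm_iff_le_centralizer.2 hcomm)
    exact h3.trans (centralizer_le_normalizer _)
  rcases SignalizersComponents.LayerBasic.quasisimple_normal hD _ hN with h2 | h2
  · exact le_antisymm hCD (subgroupOf_eq_top.1 h2)
  · exfalso
    refine hOm.not_le_centralizer_self hK fun x hx y hy => ?_
    have h3 : (⟨x, hKD hx⟩ : D) ∈ center D := h2 (le_pc hx : x ∈ pc Om K)
    exact congrArg Subtype.val ((mem_center_iff.1 h3) ⟨y, hKD hy⟩)

/-- members contained in each other are equal -/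
theorem Hyp.eq_of_le [Finite G] (hOm : Hyp Om) {K J : Subgroup G} (hK : K ∈ Om) (hJ : J ∈ Om)
    (h : K ≤ J) : K = J := by
  have hz : zz K = zz J := hOm.uniq J hJ _ (h (hOm.zz_mem hK)) (hOm.orderOf_zz hK)
  rcases hOm.h2 K hK J hJ hz with h1 | h1
  · exact h1
  · exfalso
    obtain ⟨Q, hQ⟩ := Hyp.exists_syl K
    obtain ⟨c, v, n, hq⟩ := hOm.exists_gq hK hQ
    have h2 : ⁅c, v⁆ ∈ OO K :=
      (h1.trans inf_le_left) (commutator_mem_commutator (hQ.1 hq.c_mem) (h (hQ.1 hq.v_mem)))
    have h3 : ⁅c, v⁆ ∈ Q := by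
      rw [commutatorElement_def]
      exact Q.mul_mem (Q.mul_mem (Q.mul_mem hq.c_mem hq.v_mem) (Q.inv_mem hq.c_mem)) (Q.inv_mem hq.v_mem)
    obtain ⟨k, hk⟩ := hQ.2.1 ⟨_, h3⟩
    have h4 : ⁅c, v⁆ = 1 := eq_one_of_odd (odd_OO K) h2 (a := k) (congrArg Subtype.val hk)
    exact hq.not_comm (commutatorElement_eq_one_iff_mul_comm.1 h4).symm

/-- the class of an isolated member -/
theorem pc_eq_self {K : Subgroup G} (h : ∀ J ∈ Om, J ≠ K → J ≤ centralizer (K : Set G)) :
    pc Om K = K := by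
  refine le_antisymm (sSup_le fun J hJ => ?_) le_pc
  have h1 : J = K := by
    induction hJ with
    | refl => rfl
    | @tail L M _ h4 ih =>
      by_contra hne
      apply h4.2.2
      rw [ih]
      exact cm_symm (cm_iff_le_centralizer.2 (h M h4.2.1 hne))
  rw [h1]

theorem HasPieces.piece [Finite G] (hOm : Hyp Om) (h : HasPieces Om) {K : Subgroup G} (hK : K ∈ Om) :
    Piece Om (pc Om K) := by
  obtain ⟨-, 𝒟, h1, h2, h3⟩ := h
  obtain ⟨D, hD, hKD⟩ := h3 K hK
  by_cases hDm : D ∈ Om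
  · have e : K = D := hOm.eq_of_le hK hDm hKD
    subst e
    rw [pc_eq_self]
    · exact h1 K hD
    · intro J hJ hne
      obtain ⟨E, hE, hJE⟩ := h3 J hJ
      by_cases hEK : E = K
      · subst hEK
        exact absurd (hOm.eq_of_le hJ hK hJE) hne
      · exact hJE.trans (h2 E hE K hD hEK)
  · rw [HasPieces.pc_eq hOm ((h1 D hD).quasisimple hDm).1 hK hKD]
    · exact h1 D hD
    · intro J hJ hJD
      obtain ⟨E, hE, hJE⟩ := h3 J hJ
      have hne : E ≠ D := by
        rintro rfl
        exact hJD hJE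
      exact hJE.trans (h2 E hE D hD hne)

theorem hasPieces_iff [Finite G] (hOm : Hyp Om) :
    HasPieces Om ↔ (∀ K ∈ Om, OO K = ⊥) ∧ ∀ K ∈ Om, Piece Om (pc Om K) := by
  refine ⟨fun h => ⟨h.core, fun K hK => h.piece hOm hK⟩, fun h => ⟨h.1, pc Om '' Om, ?_, ?_, ?_⟩⟩
  · rintro _ ⟨K, hK, rfl⟩
    exact h.2 K hK
  · rintro _ ⟨K, hK, rfl⟩ _ ⟨J, hJ, rfl⟩ hne
    exact pc_comm hK hJ hne
  · exact fun K hK => ⟨_, ⟨K, hK, rfl⟩, le_pc⟩

/-- a piece is the member itself, or quasisimple -/
theorem HasPieces.eq_or_quasisimple [Finite G] (hOm : Hyp Om) (h : HasPieces Om) {K : Subgroup G}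
    (hK : K ∈ Om) : pc Om K = K ∨
      (pc Om K ∉ Om ∧ IsQuasisimple (pc Om K) ∧ IsPGroup 2 (center (pc Om K))) := by
  by_cases hm : pc Om K ∈ Om
  · exact Or.inl (hOm.eq_of_le hK hm le_pc).symm
  · exact Or.inr ⟨hm, (h.piece hOm hK).quasisimple hm⟩

theorem sSup_pc : sSup (pc Om '' Om) = sSup Om := by
  refine le_antisymm (sSup_le ?_) (sSup_le fun K hK => le_pc.trans (le_sSup ⟨K, hK, rfl⟩))
  rintro _ ⟨K, hK, rfl⟩
  exact sSup_le fun J hJ => le_sSup (chn_mem hK hJ)

/-- the pieces are normal in the group generated by all members -/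
theorem sSup_le_normalizer_pc {K : Subgroup G} (hK : K ∈ Om) :
    sSup Om ≤ normalizer (pc Om K : Set G) :=
  sSup_le fun _ hJ => le_normalizer_pc hK hJ

end

end Cfsg.Agent.Cit
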