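import Cfsg.Agent.Cit.UniOm
import Cfsg.Agent.Cit.TPieces
import Cfsg.Agent.Cit.PieceEnd
import Cfsg.Agent.Cit.ChartEnd
import Cfsg.Agent.Cit.Seven
import Cfsg.Agent.Cit.SLThreeMain
import Cfsg.Agent.OddHalf.Known

/-!
# S1310 from THEOREM T

* `concl_of_hasPieces` : `F*(G)` non-abelian simple, `Hyp Om`, `Om` non-empty, `HasPieces Om` ==> the conclusion of
  the classical involution theorem;
* `concl_of_TT` : the same from `TT Om`;
* `main` : THEOREM T (`TStmt`) ==> the statement of S1310 (the odd order theorem as hypothesis `EvQ G`).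
-/

set_option autoImplicit false
set_option linter.dupNamespace false

namespace Cfsg.Agent.Cit.Assembly

open Subgroup Cfsg Cfsg.Agent.Nodes.Chart Cfsg.Agent.Cit.Comp

open scoped commutatorElement

universe u

/-- the conclusion of S1310 for a group `L` -/
def Concl (L : Type*) [Group L] : Prop :=
  (∃ p : ℕ, p.Prime ∧ p ≠ 2 ∧ Cfsg.IsLieTypeChar p L) ∨ Cfsg.Spor.IsoM11 L

theorem Concl.congr {X Y : Type*} [Group X] [Group Y] (e : X ≃* Y) (h : Concl X) : Concl Y := by
  rcases h with ⟨p, hp, h2, h⟩ | ⟨⟨f⟩⟩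
  · exact Or.inl ⟨p, hp, h2, OddHalf.Known.isLieTypeChar_congr e h⟩
  · exact Or.inr ⟨e.symm.trans f⟩

theorem isLie_of_g2d4 {p : ℕ} (hp : p.Prime) (h2 : p ≠ 2) {X : Type*} [Group X] (h : IsG2D4 p X) :
    Cfsg.IsLieTypeChar p X := by
  obtain ⟨F, i1, i2, i3, h | ⟨q, hq, hc, h⟩⟩ := h
  · refine Or.inr (Or.inr (Or.inr (Or.inr (Or.inr (Or.inr (Or.inl ⟨F, i1, i2, i3, Or.inl ⟨?_, h⟩⟩))))))
    have h3 : p ∣ Fintype.card F := (CharP.cast_eq_zero_iff F p _).1 (Nat.cast_card_eq_zero F)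
    have h4 := Nat.le_of_dvd Fintype.card_pos h3
    have h5 := hp.two_le
    omega
  · exact Or.inr (Or.inr (Or.inr (Or.inr (Or.inr (Or.inr (Or.inr (Or.inl
      ⟨F, i1, i2, i3, q, hq, Or.inr ⟨hc, h⟩⟩)))))))

section

variable {G : Type*} [Group G] [Finite G]

omit [Finite G] in
theorem sSup_normal {Om : Set (Subgroup G)} (hcj : ∀ K ∈ Om, ∀ g, cj g K ∈ Om) :
    (sSup Om).Normal := by
  refine ⟨fun x hx g => ?_⟩
  have h1 : cj g (sSup Om) ≤ sSup Om := by
    rw [Cit.cj_le_iff]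
    refine sSup_le fun K hK => ?_
    rw [← Cit.cj_le_iff]
    exact le_sSup (hcj K hK g)
  exact h1 (conj_mem_cj hx)

omit [Finite G] in
/-- a quasisimple piece which is simple is isomorphic to its central quotient -/
theorem centerQuot {D : Subgroup G} (hq : IsQuasisimple ↥D) (hs : IsSimpleGroup ↥D) :
    Nonempty ((↥D ⧸ center ↥D) ≃* ↥D) := by
  have h8 : center ↥D = ⊥ := by
    rcases hs.eq_bot_or_eq_top_of_normal (center ↥D) inferInstance with h9 | h9
    · exact h9
    · exact absurd h9 (SignalizersComponents.Components.quasisimple_center_ne_top hq)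
  exact ⟨(QuotientGroup.quotientMulEquivOfEq h8).trans QuotientGroup.quotientBot⟩

/-- **the conclusion of S1310 from the pieces** -/
theorem concl_of_hasPieces (hs : IsSimpleGroup ↥(generalizedFittingSubgroup G))
    (hna : ¬ IsMulCommutative ↥(generalizedFittingSubgroup G)) {Om : Set (Subgroup G)}
    (h : Hyp Om) (hne : Om.Nonempty) (hP : HasPieces Om) :
    Concl ↥(generalizedFittingSubgroup G) := by
  obtain ⟨K₀, hK₀⟩ := hne
  have hX : (sSup Om).Normal := sSup_normal h.conj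
  have hXne : sSup Om ≠ ⊥ := by
    intro h0
    have h1 : zz K₀ ∈ sSup Om := le_sSup hK₀ (h.zz_mem hK₀)
    rw [h0, mem_bot] at h1
    exact h.zz_ne hK₀ h1
  have h1 := PieceEnd.exists_piece hs hna hXne (pc Om '' Om) sSup_pc
    (by rintro _ ⟨K, hK, rfl⟩; exact sSup_le_normalizer_pc hK)
    (by
      rintro _ ⟨K, hK, rfl⟩ h0
      have h1 : zz K ∈ pc Om K := le_pc (h.zz_mem hK)
      rw [h0, mem_bot] at h1
      exact h.zz_ne hK h1)
    (by
      rintro _ ⟨K, hK, rfl⟩ _ ⟨J, hJ, rfl⟩ hKJ x hx y hy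
      exact (mem_centralizer_iff.1 (pc_comm hK hJ hKJ hx) y hy).symm)
  have h2 : pc Om K₀ = sSup Om := by
    have h3 : pc Om K₀ ∈ pc Om '' Om := ⟨K₀, hK₀, rfl⟩
    rw [h1] at h3
    exact h3
  have hpiece := hP.piece h hK₀
  rw [h2] at hpiece
  by_cases hm : sSup Om ∈ Om
  · exact absurd (h.le_centralizer hm) (PieceEnd.not_le_centralizer hs hna hXne (h.zz_ne hm))
  obtain ⟨hq, -⟩ := hpiece.quasisimple hm
  have h5 := PieceEnd.eq_fstar_of_quasisimple hs hna hq
  have hsX : IsSimpleGroup ↥(sSup Om) := by rw [h5]; exact hs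
  obtain ⟨e⟩ := centerQuot hq hsX
  rw [← h5]
  cases hpiece with
  | single mem => exact absurd mem hm
  | chart nmem qs two p c τ kind ok small sl zx =>
    refine Or.inl ⟨p, c.prime, c.odd, ?_⟩
    rcases Nat.lt_or_ge (Fintype.card c.I) 3 with h6 | h6
    · exact OddHalf.Known.isLieTypeChar_congr e (small (by omega))
    · exact ChartEnd.isLieTypeChar_of_chart c hsX h6
  | exc qs two p prime odd iso ne zzc three =>
    exact Or.inl ⟨p, prime, odd, OddHalf.Known.isLieTypeChar_congr e (isLie_of_g2d4 prime odd iso)⟩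
  | mathieu qs two iso ne mem =>
    obtain ⟨f⟩ := iso
    exact Or.inr ⟨e.symm.trans f⟩

theorem oddCore_eq_bot (hs : IsSimpleGroup ↥(generalizedFittingSubgroup G))
    (hna : ¬ IsMulCommutative ↥(generalizedFittingSubgroup G)) (hev : EvQ G) :
    pPrimeCore 2 G = ⊥ := by
  have hq : IsQuasisimple ↥(generalizedFittingSubgroup G) := by
    have hZ : center ↥(generalizedFittingSubgroup G) = ⊥ := by
      rcases hs.eq_bot_or_eq_top_of_normal (center ↥(generalizedFittingSubgroup G)) inferInstance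
        with h | h
      · exact h
      · exact absurd ⟨⟨fun x y => (mem_center_iff.1 (h.symm ▸ mem_top x) y).symm ▸ rfl⟩⟩ hna
    refine ⟨⟨?_⟩, ?_⟩
    · rcases hs.eq_bot_or_eq_top_of_normal (commutator ↥(generalizedFittingSubgroup G)) inferInstance
        with h | h
      · exfalso
        apply hna
        refine ⟨⟨fun x y => ?_⟩⟩
        have h1 : ⁅x, y⁆ ∈ commutator ↥(generalizedFittingSubgroup G) :=
          commutator_mem_commutator (mem_top x) (mem_top y)
        rw [h, mem_bot, commutatorElement_eq_one_iff_mul_comm] at h1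
        exact h1
      · exact h
    · exact OddHalf.Known.isSimple_congr
        ((QuotientGroup.quotientMulEquivOfEq hZ).trans QuotientGroup.quotientBot).symm hs
  have : (pPrimeCore 2 G).Normal := Lib.Cores.pPrimeCore_normal 2
  exact PieceEnd.eq_bot_of_odd hs hna (hev _ hq) (not_two_dvd_oddCore G)

/-- **the conclusion of S1310 from THEOREM T for `G`** -/
theorem concl_of_TT (hs : IsSimpleGroup ↥(generalizedFittingSubgroup G))
    (hna : ¬ IsMulCommutative ↥(generalizedFittingSubgroup G)) (hev : EvQ G)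
    {Om : Set (Subgroup G)} (h : Hyp Om) (hne : Om.Nonempty) (hT : TT Om) :
    Concl ↥(generalizedFittingSubgroup G) :=
  concl_of_hasPieces hs hna h hne ((tt_iff_hasPieces h (oddCore_eq_bot hs hna hev)).1 hT)

end

section

variable {G : Type u} [Group G]

/-- the entry of the case `J / O(J) = SL₂(3)` (helper255, bb #5299) -/
theorem entryThree [Finite G] (z : G) (J : Subgroup G) (hz : orderOf z = 2)
    (hJz : J ≤ centralizer ({z} : Set G)) (hzJ : z ∈ J)
    (hsn : (J.subgroupOf (centralizer ({z} : Set G))).IsSubnormal) (hJ : SolvTwo.IsT J) :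
    ∃ K : Subgroup G, Hyp (cls K) ∧ SolvTwo.IsT K := by
  haveI : Fact (Nat.Prime 3) := ⟨Nat.prime_three⟩
  obtain ⟨h1, -, h3⟩ := SLThreeMain.exists_hyp z hz J hJz hzJ hsn (F := ZMod 3) (ZMod.card 3) hJ
  exact ⟨_, h1, h3⟩

theorem ty_cls [Finite G] {K : Subgroup G} (h : Ty K) : ∀ J ∈ cls K, Ty J := by
  rintro _ ⟨g, rfl⟩
  exact h.map_of_injective (MulAut.conj g).toMonoidHom (MulAut.conj g).injective

/-- **THEOREM T implies the classical involution theorem** -/
theorem main [Finite G] (hT : TStmt.{u}) (hev : EvQ G)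
    (hs : IsSimpleGroup ↥(Cfsg.generalizedFittingSubgroup G))
    (hna : ¬ IsMulCommutative ↥(Cfsg.generalizedFittingSubgroup G)) (z : G) (hz : orderOf z = 2)
    (J : Subgroup G) (hJz : J ≤ Subgroup.centralizer ({z} : Set G)) (hzJ : z ∈ J)
    (hsn : (J.subgroupOf (Subgroup.centralizer ({z} : Set G))).IsSubnormal)
    (hJ : ((∃ (F : Type) (_ : Field F) (_ : Fintype F), Odd (Fintype.card F) ∧
      Nonempty (↥J ⧸ Cfsg.oddCore ↥J ≃* Matrix.SpecialLinearGroup (Fin 2) F)) ∨
      Cfsg.IsNonsplitDoubleCover (↥J ⧸ Cfsg.oddCore ↥J) ↥(alternatingGroup (Fin 7)))) :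
    (∃ p : ℕ, p.Prime ∧ p ≠ 2 ∧ Cfsg.IsLieTypeChar p ↥(Cfsg.generalizedFittingSubgroup G)) ∨
      Cfsg.Spor.IsoM11 ↥(Cfsg.generalizedFittingSubgroup G) := by
  have hJ' : IsTy (↥J ⧸ Cfsg.oddCore ↥J) := hJ
  rcases Ty.IsTy.cases hJ' with h | h
  · obtain ⟨K, -, -, hKz, hKc, ⟨e⟩, hH, -⟩ := Seven.exists_hyp z hz J hJz hzJ hsn h
    have hperf : ⁅K, K⁆ = K := by
      have h1 := Lib.PComponents.pcomp_perfect hKc
      have h2 := congrArg (Subgroup.map (centralizer ({z} : Set G)).subtype) h1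
      rwa [Subgroup.map_commutator, map_subgroupOf_eq_of_le hKz] at h2
    have hTy : Ty K := Or.inr ⟨IsTy.congr e.symm hJ', hperf⟩
    exact concl_of_TT hs hna hev hH ⟨K, self_mem_cls K⟩ (hT G (cls K) hH (ty_cls hTy) (uni_cls K))
  · obtain ⟨K, hH, hK⟩ := entryThree z J hz hJz hzJ hsn h
    exact concl_of_TT hs hna hev hH ⟨K, self_mem_cls K⟩ (hT G (cls K) hH (ty_cls (Or.inl hK)) (uni_cls K))

end

end Cfsg.Agent.Cit.Assembly
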