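import Cfsg.Agent.Cit.CorTwo

/-!
# Theorem V (helper545, bb #5042), (6b)

`VChoice Om U`: a `G`-equivariant choice `K ↦ U K = V_K O(K)`, `V_K ≤ K` cyclic of order `4`, for the members `K` of `Om`.
`VChoice.commute` : the elements of order `4` of the `U K` which lie in a common `2`-subgroup commute.

The proof is a shortened version of helper545's proof: case (A) and the assumption `|Q| = 8` of case (B) are not needed.
-/

set_option autoImplicit false
set_option linter.style.haveILetI false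
set_option linter.unusedSectionVars false

namespace Cfsg.Agent.Cit

open Subgroup Cfsg

variable {G : Type*} [Group G]

/-- an equivariant choice of `V_K O(K)` -/
structure VChoice (Om : Set (Subgroup G)) (U : Subgroup G → Subgroup G) : Prop where
  le : ∀ K ∈ Om, U K ≤ K
  cj : ∀ K ∈ Om, ∀ g, U (Cit.cj g K) = Cit.cj g (U K)
  oo : ∀ K ∈ Om, OO K ≤ U K
  card : ∀ K ∈ Om, Nat.card (U K) = 4 * Nat.card (OO K)
  ex : ∀ K ∈ Om, ∃ v ∈ U K, orderOf v = 4

theorem orderOf_conj_four {v : G} (hv4 : orderOf v = 4) (g : G) : orderOf (g * v * g⁻¹) = 4 := by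
  rw [← hv4]
  exact MulEquiv.orderOf_eq (MulAut.conj g) v

/-- generators of a cyclic group of order `4` -/
theorem eq_or_eq_inv_of_four {v w : G} (hv : orderOf v = 4) (hw : orderOf w = 4) (h : w ∈ zpowers v) :
    w = v ∨ w = v⁻¹ := by
  have hv4 : v ^ 4 = 1 := by rw [← hv]; exact pow_orderOf_eq_one v
  rw [mem_zpowers_iff] at h
  obtain ⟨k, rfl⟩ := h
  have h1 : v ^ k = v ^ (k % 4) := by
    have := zpow_mod_orderOf v k
    rw [hv] at this
    exact this.symm
  rw [h1] at hw ⊢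
  have h2 : 0 ≤ k % 4 := Int.emod_nonneg k (by norm_num)
  have h3 : k % 4 < 4 := Int.emod_lt_of_pos k (by norm_num)
  interval_cases h4 : k % 4
  · simp at hw
  · left; simp
  · exfalso
    have h5 : (v ^ (2 : ℤ)) ^ 2 = 1 := by
      rw [← zpow_natCast, ← zpow_mul]
      norm_num
      exact hv4
    have h6 := orderOf_dvd_of_pow_eq_one h5
    rw [hw] at h6
    omega
  · right
    rw [eq_inv_iff_mul_eq_one]
    have : v ^ (3 : ℤ) * v = v ^ 4 := by
      rw [show (3 : ℤ) = ((3 : ℕ) : ℤ) by norm_num, zpow_natCast, ← pow_succ]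
    rw [this, hv4]

namespace VChoice

variable [Finite G] {Om : Set (Subgroup G)} {U : Subgroup G → Subgroup G}

theorem conj_mem (hU : VChoice Om U) {K : Subgroup G} (hK : K ∈ Om) {v : G} (hv : v ∈ U K) (g : G) :
    g * v * g⁻¹ ∈ U (Cit.cj g K) := by
  rw [hU.cj K hK]
  exact conj_mem_cj hv

/-- the Sylow 2-subgroups of `U K` are the `⟨v⟩` -/
theorem syl_zpowers (hU : VChoice Om U) {K : Subgroup G} (hK : K ∈ Om) {v : G} (hv : v ∈ U K)
    (hv4 : orderOf v = 4) : Syl (zpowers v) (U K) := by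
  refine ⟨zpowers_le.2 hv, ?_, ?_⟩
  · apply IsPGroup.of_card (n := 2)
    rw [Nat.card_zpowers, hv4]
    norm_num
  · intro h2
    have h1 : Nat.card (zpowers v) * (zpowers v).relIndex (U K) = Nat.card (U K) := by
      have := relIndex_mul_relIndex (⊥ : Subgroup G) (zpowers v) (U K) bot_le (zpowers_le.2 hv)
      rwa [relIndex_bot_left, relIndex_bot_left] at this
    rw [Nat.card_zpowers, hv4, hU.card K hK] at h1
    have h3 : (zpowers v).relIndex (U K) = Nat.card (OO K) := Nat.eq_of_mul_eq_mul_left (by norm_num) h1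
    rw [h3] at h2
    exact odd_OO K h2

/-- (*) two elements of order `4` of `U K` in a common 2-group are equal up to inversion -/
theorem eq_or (hU : VChoice Om U) {K : Subgroup G} (hK : K ∈ Om) {v w : G} (hv : v ∈ U K)
    (hv4 : orderOf v = 4) (hw : w ∈ U K) (hw4 : orderOf w = 4) {S : Subgroup G} (hS : IsPGroup 2 S)
    (hvS : v ∈ S) (hwS : w ∈ S) : w = v ∨ w = v⁻¹ := by
  have h1 : zpowers v = U K ⊓ S :=
    (hU.syl_zpowers hK hv hv4).eq_of_le (le_inf (zpowers_le.2 hv) (zpowers_le.2 hvS)) inf_le_left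
      (hS.to_le inf_le_right)
  apply eq_or_eq_inv_of_four hv4 hw4
  rw [h1]
  exact ⟨hw, hwS⟩

theorem le_normalizer (hU : VChoice Om U) {K : Subgroup G} (hK : K ∈ Om) :
    normalizer (K : Set G) ≤ normalizer (U K : Set G) := by
  intro g hg
  rw [mem_normalizer_iff_cj, ← hU.cj K hK, mem_normalizer_iff_cj.mp hg]

/-- representatives in a given 2-group -/
theorem exists_mem (hU : VChoice Om U) {K : Subgroup G} {S : Subgroup G} (hS : IsPGroup 2 S)
    (hK : K ∈ OmS Om S) {v : G} (hv : v ∈ U K) (hv4 : orderOf v = 4) :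
    ∃ a ∈ U K, a ∈ S ∧ orderOf a = 4 ∧ v⁻¹ * a ∈ OO K := by
  haveI : Fact (Nat.Prime 2) := ⟨Nat.prime_two⟩
  have hn : K ≤ normalizer (U K : Set G) := Subgroup.le_normalizer.trans (hU.le_normalizer hK.1)
  have h1 : Syl (U K ⊓ S) (U K) := by
    refine ⟨inf_le_left, hS.to_le inf_le_right, ?_⟩
    rw [inf_comm, inf_relIndex_right]
    intro h2
    apply hK.2
    haveI : ((U K).subgroupOf K).Normal := (normal_subgroupOf_iff_le_normalizer (hU.le K hK.1)).2 hn
    have h3 := SignalizersComponents.PCompCore.relIndex_dvd_index_of_normal_right (S.subgroupOf K)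
      ((U K).subgroupOf K)
    rw [relIndex_subgroupOf (hU.le K hK.1)] at h3
    exact h2.trans h3
  obtain ⟨k, hk, hkS⟩ := (hU.syl_zpowers hK.1 hv hv4).exists_conj h1
  have h2 : k * v * k⁻¹ ∈ U K ⊓ S := by
    rw [← hkS]
    exact conj_mem_cj (mem_zpowers v)
  refine ⟨k * v * k⁻¹, h2.1, h2.2, orderOf_conj_four hv4 k, ?_⟩
  -- `U K / O(K)` is abelian of order 4
  have hOn : U K ≤ normalizer (OO K : Set G) := (hU.le K hK.1).trans (le_normalizer_OO K)
  haveI hN : ((OO K).subgroupOf (U K)).Normal := (normal_subgroupOf_iff_le_normalizer (hU.oo K hK.1)).2 hOn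
  have hc4 : Nat.card (U K ⧸ (OO K).subgroupOf (U K)) = 2 ^ 2 := by
    have h3 := card_mul_index ((OO K).subgroupOf (U K))
    rw [Nat.card_congr (subgroupOfEquivOfLe (hU.oo K hK.1)).toEquiv, hU.card K hK.1, mul_comm 4] at h3
    exact Nat.eq_of_mul_eq_mul_left Nat.card_pos h3
  have hcomm : ∀ a b : U K ⧸ (OO K).subgroupOf (U K), a * b = b * a :=
    (IsPGroup.isMulCommutative_of_card_eq_prime_sq hc4).is_comm.comm
  have h4 : ((⟨v, hv⟩⁻¹ * (⟨k, hk⟩ * ⟨v, hv⟩ * ⟨k, hk⟩⁻¹) : U K) : U K ⧸ (OO K).subgroupOf (U K)) = 1 := by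
    rw [QuotientGroup.mk_mul, QuotientGroup.mk_mul, QuotientGroup.mk_mul, QuotientGroup.mk_inv,
      QuotientGroup.mk_inv, hcomm (QuotientGroup.mk ⟨k, hk⟩), mul_inv_cancel_right, inv_mul_cancel]
  rw [QuotientGroup.eq_one_iff] at h4
  exact h4

/-- an element of order `4` of `U K` squares to `zz K` -/
theorem sq_eq (hU : VChoice Om U) (h : Hyp Om) {K : Subgroup G} (hK : K ∈ Om) {v : G} (hv : v ∈ U K)
    (hv4 : orderOf v = 4) : v * v = zz K := h.sq_eq_zz hK (hU.le K hK hv) hv4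

/-- the first half of the final step: if `w² ` moves `K`, the involution of `K` is a product of two elements of order `4`
belonging to two members with involution `e` -/
theorem split (hU : VChoice Om U) (h : Hyp Om) {K : Subgroup G} (hK : K ∈ Om) {v w e : G} (hv : v ∈ U K)
    (hv4 : orderOf v = 4) {P : Subgroup G} (hP : IsPGroup 2 P) (hvP : v ∈ P) (hwP : w ∈ P)
    (h1 : w * w * v * (w * w)⁻¹ = e * v) (h2 : w * (v * v) * w⁻¹ = e * (v * v)) (h3 : e * v = v * e)
    (htt : (w * w) * (v * v) = (v * v) * (w * w)) (hmove : Cit.cj (w * w) K ≠ K) :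
    ∃ L₁ ∈ Om, ∃ L₂ ∈ Om, L₁ ≠ L₂ ∧ zz L₁ = e ∧ zz L₂ = e ∧ ∃ u₁ ∈ U L₁, ∃ u₂ ∈ U L₂,
      orderOf u₁ = 4 ∧ orderOf u₂ = 4 ∧ v * v = u₁ * u₂ := by
  have hz : v * v = zz K := hU.sq_eq h hK hv hv4
  have hvK := hU.le K hK hv
  have hvC : v ∈ centralizer {zz K} := h.le_centralizer hK hvK
  have htC : w * w ∈ centralizer {zz K} := by
    rw [mem_centralizer_singleton_iff, ← hz]
    exact htt
  obtain ⟨T, hT, hPT⟩ := exists_syl_ge (P := P ⊓ centralizer {zz K}) (hP.to_le inf_le_left) inf_le_right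
  have hvT : v ∈ T := hPT ⟨hvP, hvC⟩
  have htT : w * w ∈ T := hPT ⟨P.mul_mem hwP hwP, htC⟩
  have hKT : K ∈ OmS Om T := h.mem_OmS_of_syl hK hT
  obtain ⟨a, b, n, hc⟩ := h.exists_gq hK (syl_inf hT.2.1 hKT)
  obtain ⟨y, hy, hy4, hinv⟩ := hc.exists_inverting ⟨hvK, hvT⟩ hv4
  have htv : w * w * v * (w * w)⁻¹ ∈ T := T.mul_mem (T.mul_mem htT hvT) (T.inv_mem htT)
  have hzt : zz (Cit.cj (w * w) K) = zz K := by
    rw [h.zz_cj hK, ← hz, htt, mul_inv_cancel_right]
  have c1 : y * (w * w * v * (w * w)⁻¹) = (w * w * v * (w * w)⁻¹) * y :=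
    h.comm_of_zz_eq hT.2.1 hK (h.conj K hK _) hzt.symm (fun hh => hmove hh.symm) hy.1 hy.2
      (conj_mem_cj hvK) htv
  have hyz : y * (v * v) * y⁻¹ = v * v := by
    rw [hz, h.comm_zz hK (Subgroup.le_normalizer hy.1), mul_inv_cancel_right]
  have hz1 : w * (v * v) * w⁻¹ = v * (w * w * v * (w * w)⁻¹) := by
    rw [h2, h1, ← mul_assoc, ← mul_assoc, h3]
  have hye : y * (w * (v * v) * w⁻¹) * y⁻¹ = e := by
    rw [hz1]
    calc y * (v * (w * w * v * (w * w)⁻¹)) * y⁻¹ = (y * v * y⁻¹) * (y * (w * w * v * (w * w)⁻¹)) * y⁻¹ := by group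
      _ = v⁻¹ * ((w * w * v * (w * w)⁻¹) * y) * y⁻¹ := by rw [hinv, c1]
      _ = v⁻¹ * (e * v) := by rw [h1]; group
      _ = e := by rw [h3, inv_mul_cancel_left]
  refine ⟨Cit.cj (y * w) K, h.conj K hK _, Cit.cj (y * w * (w * w)) K, h.conj K hK _, ?_, ?_, ?_,
    y * w * v * (y * w)⁻¹, hU.conj_mem hK hv _, y * w * (w * w) * v * (y * w * (w * w))⁻¹, hU.conj_mem hK hv _,
    orderOf_conj_four hv4 _, orderOf_conj_four hv4 _, ?_⟩
  · intro hh
    rw [cj_mul (y * w) (w * w), cj_inj] at hh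
    exact hmove hh.symm
  · rw [h.zz_cj hK, ← hz, ← hye]
    group
  · rw [h.zz_cj hK, ← hz, ← hye]
    calc y * w * (w * w) * (v * v) * (y * w * (w * w))⁻¹ = y * w * ((w * w) * (v * v)) * (w * w)⁻¹ * (y * w)⁻¹ := by group
      _ = y * w * ((v * v) * (w * w)) * (w * w)⁻¹ * (y * w)⁻¹ := by rw [htt]
      _ = _ := by group
  · have h5 : y * w * (w * (v * v) * w⁻¹) * (y * w)⁻¹ = v * v := by
      calc y * w * (w * (v * v) * w⁻¹) * (y * w)⁻¹ = y * ((w * w) * (v * v)) * (w * w)⁻¹ * y⁻¹ := by group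
        _ = y * ((v * v) * (w * w)) * (w * w)⁻¹ * y⁻¹ := by rw [htt]
        _ = y * (v * v) * y⁻¹ := by group
        _ = v * v := hyz
    rw [← h5, hz1]
    group

/-- a product `a b` of 2-power order with `a` and `b` of odd order, `a` in a subgroup `A` of odd order normalised by `b`,
is trivial -/
theorem _root_.Cfsg.Agent.Cit.eq_one_of_mul_odd {A B : Subgroup G} (hA : ¬ 2 ∣ Nat.card A) (hB : ¬ 2 ∣ Nat.card B)
    {a b : G} (ha : a ∈ A) (hb : b ∈ B) (hbA : b ∈ normalizer (A : Set G)) {T : Subgroup G}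
    (hT : IsPGroup 2 T) (hab : a * b ∈ T) : a * b = 1 := by
  have key : ∀ k : ℕ, ∃ x ∈ A, (a * b) ^ k = x * b ^ k := by
    intro k
    induction k with
    | zero => exact ⟨1, A.one_mem, by simp⟩
    | succ k ih =>
      obtain ⟨x, hx, hk⟩ := ih
      refine ⟨x * (b ^ k * a * (b ^ k)⁻¹), A.mul_mem hx ?_, ?_⟩
      · exact (mem_normalizer_iff.mp (pow_mem hbA k) a).mp ha
      · rw [pow_succ, hk, pow_succ]
        group
  obtain ⟨x, hx, hk⟩ := key (Nat.card B)
  have hb1 : b ^ Nat.card B = 1 := by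
    have := pow_card_eq_one' (G := B) (x := ⟨b, hb⟩)
    exact congrArg Subtype.val this
  rw [hb1, mul_one] at hk
  have h1 : (a * b) ^ Nat.card B = 1 :=
    eq_one_of_mem_odd hT hA (T.pow_mem hab _) (by rw [hk]; exact hx)
  obtain ⟨m, hm⟩ := hT ⟨a * b, hab⟩
  have hm' : (a * b) ^ 2 ^ m = 1 := congrArg Subtype.val hm
  have h5 : Nat.Coprime (2 ^ m) (Nat.card B) :=
    Nat.Coprime.pow_left m ((Nat.Prime.coprime_iff_not_dvd Nat.prime_two).2 hB)
  exact orderOf_eq_one_iff.mp (Nat.eq_one_of_dvd_coprimes h5 (orderOf_dvd_of_pow_eq_one hm')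
    (orderOf_dvd_of_pow_eq_one h1))

/-- members with the same involution normalise each other -/
theorem _root_.Cfsg.Agent.Cit.Hyp.le_normalizer_of_zz_eq (h : Hyp Om) {K L : Subgroup G} (hK : K ∈ Om) (hL : L ∈ Om)
    (hz : zz K = zz L) : L ≤ normalizer (K : Set G) := by
  rcases h.h2 K hK L hL hz with h1 | h1
  · rw [h1]; exact Subgroup.le_normalizer
  · have h2 : ⁅K, L⁆ ≤ K := h1.trans (inf_le_left.trans (OO_le K))
    intro y hy
    rw [mem_normalizer_iff]
    have key : ∀ y ∈ L, ∀ x ∈ K, y * x * y⁻¹ ∈ K := by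
      intro y hy x hx
      have h3 : x⁻¹ * y * x⁻¹⁻¹ * y⁻¹ ∈ K := h2 (commutator_mem_commutator (K.inv_mem hx) hy)
      have h4 := K.mul_mem hx h3
      have h5 : x * (x⁻¹ * y * x⁻¹⁻¹ * y⁻¹) = y * x * y⁻¹ := by group
      rwa [h5] at h4
    intro x
    constructor
    · exact key y hy x
    · intro hx
      have h3 := key y⁻¹ (L.inv_mem hy) _ hx
      have h5 : y⁻¹ * (y * x * y⁻¹) * y⁻¹⁻¹ = x := by group
      rwa [h5] at h3

/-- the factors of `split` may be taken in a given 2-group -/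
theorem split_mem (hU : VChoice Om U) (h : Hyp Om) {L₁ L₂ : Subgroup G} (hz : zz L₁ = zz L₂)
    {T : Subgroup G} (hT : IsPGroup 2 T) (h1 : L₁ ∈ OmS Om T) (h2 : L₂ ∈ OmS Om T) {u₁ u₂ : G} (hu₁ : u₁ ∈ U L₁)
    (hu₂ : u₂ ∈ U L₂) (h14 : orderOf u₁ = 4) (h24 : orderOf u₂ = 4) (hT12 : u₁ * u₂ ∈ T) :
    ∃ a₁ ∈ U L₁, ∃ a₂ ∈ U L₂, a₁ ∈ T ∧ a₂ ∈ T ∧ orderOf a₁ = 4 ∧ orderOf a₂ = 4 ∧ u₁ * u₂ = a₁ * a₂ := by
  obtain ⟨a₁, ha₁, ha₁T, ha₁4, ho₁⟩ := hU.exists_mem hT h1 hu₁ h14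
  obtain ⟨a₂, ha₂, ha₂T, ha₂4, ho₂⟩ := hU.exists_mem hT h2 hu₂ h24
  refine ⟨a₁, ha₁, a₂, ha₂, ha₁T, ha₂T, ha₁4, ha₂4, ?_⟩
  have hn : L₂ ≤ normalizer (OO L₁ : Set G) := by
    intro y hy
    have h3 := h.le_normalizer_of_zz_eq h1.1 h2.1 hz hy
    rw [mem_normalizer_iff_cj] at h3 ⊢
    rw [← OO_cj, h3]
  have h4 : (u₂⁻¹ * (u₁⁻¹ * a₁) * u₂⁻¹⁻¹) * (u₂⁻¹ * a₂) = 1 := by
    refine eq_one_of_mul_odd (odd_OO L₁) (odd_OO L₂) ?_ ho₂ (hn (OO_le L₂ ho₂)) hT ?_
    · exact (mem_normalizer_iff.mp (inv_mem (hn (hU.le _ h2.1 hu₂))) _).mp ho₁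
    · have h5 : (u₂⁻¹ * (u₁⁻¹ * a₁) * u₂⁻¹⁻¹) * (u₂⁻¹ * a₂) = (u₁ * u₂)⁻¹ * (a₁ * a₂) := by group
      rw [h5]
      exact T.mul_mem (T.inv_mem hT12) (T.mul_mem ha₁T ha₂T)
  have h5 : (u₂⁻¹ * (u₁⁻¹ * a₁) * u₂⁻¹⁻¹) * (u₂⁻¹ * a₂) = (u₁ * u₂)⁻¹ * (a₁ * a₂) := by group
  rw [h5, inv_mul_eq_one] at h4
  exact h4

/-- elements of order `4` of `U L`, `U M` with the same involution commute inside a 2-group -/
theorem comm_of_zz_eq (hU : VChoice Om U) (h : Hyp Om) {L M : Subgroup G} (hL : L ∈ Om) (hM : M ∈ Om)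
    (hz : zz L = zz M) {T : Subgroup G} (hT : IsPGroup 2 T) {a b : G} (ha : a ∈ U L) (haT : a ∈ T)
    (ha4 : orderOf a = 4) (hb : b ∈ U M) (hbT : b ∈ T) (hb4 : orderOf b = 4) : a * b = b * a := by
  by_cases hLM : L = M
  · subst hLM
    rcases hU.eq_or hL ha ha4 hb hb4 hT haT hbT with rfl | rfl
    · rfl
    · simp
  · exact h.comm_of_zz_eq hT hL hM hz hLM (hU.le L hL ha) haT (hU.le M hM hb) hbT

theorem commute_aux (hU : VChoice Om U) (h : Hyp Om) : ∀ (n : ℕ) (P : Subgroup G), Nat.card P = n → IsPGroup 2 P →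
    ∀ K ∈ Om, ∀ L ∈ Om, ∀ v ∈ U K, ∀ w ∈ U L, orderOf v = 4 → orderOf w = 4 → v ∈ P → w ∈ P →
      v * w = w * v := by
  intro n
  induction n using Nat.strong_induction_on with
  | _ n ih =>
    intro P hn hP K hK L hL v hv w hw hv4 hw4 hvP hwP
    by_contra hvw
    -- conjugates under `P` commute
    have conjc : ∀ (K : Subgroup G), K ∈ Om → ∀ v ∈ U K, orderOf v = 4 → v ∈ P → zpowers v ≠ P → ∀ x ∈ P,
        v * (x * v * x⁻¹) = (x * v * x⁻¹) * v := by
      intro K hK v hv hv4 hvP hne x hx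
      obtain ⟨M, hvM, hMP, hMne, hPM⟩ := exists_lt_normal hP (zpowers_le.2 hvP) hne
      have hcard : Nat.card M < n := by
        rw [← hn]
        refine lt_of_le_of_ne (Nat.le_of_dvd Nat.card_pos (card_dvd_of_le hMP)) ?_
        intro hh
        exact hMne (eq_of_le_of_card_ge hMP hh.ge)
      have hvM' : v ∈ M := hvM (mem_zpowers v)
      exact ih _ hcard M rfl (hP.to_le hMP) K hK _ (h.conj K hK x) v hv _ (hU.conj_mem hK hv x) hv4
        (orderOf_conj_four hv4 x) hvM' ((mem_normalizer_iff.mp (hPM hx) v).mp hvM')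
    have hzv : zpowers v ≠ P := by
      intro hh
      rw [← hh] at hwP
      obtain ⟨k, rfl⟩ := hwP
      exact hvw (Commute.zpow_right (Commute.refl v) k).eq
    have hzw : zpowers w ≠ P := by
      intro hh
      rw [← hh] at hvP
      obtain ⟨k, rfl⟩ := hvP
      exact hvw (Commute.zpow_left (Commute.refl w) k).eq
    have hv1 : Commute v (w * v * w⁻¹) := conjc K hK v hv hv4 hvP hzv w hwP
    have hw1 : Commute w (v * w * v⁻¹) := conjc L hL w hw hw4 hwP hzw v hvP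
    obtain ⟨c, hc⟩ : ∃ c, c = v * w * v⁻¹ * w⁻¹ := ⟨_, rfl⟩
    have hcv : Commute c v := by
      have h1 : c = v * (w * v * w⁻¹)⁻¹ := by rw [hc]; group
      rw [h1]
      exact ((Commute.refl v).mul_right hv1.inv_right).symm
    have hcw : Commute c w := by
      rw [hc]
      exact (hw1.mul_right (Commute.refl w).inv_right).symm
    have wvw : w * v * w⁻¹ = c⁻¹ * v := by rw [hc]; group
    have vwv : v * w * v⁻¹ = c * w := by rw [hc]; group
    obtain ⟨e, he⟩ : ∃ e, e = c * c := ⟨_, rfl⟩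
    have hev : Commute e v := by rw [he]; exact hcv.mul_left hcv
    have hew : Commute e w := by rw [he]; exact hcw.mul_left hcw
    have hv44 : v ^ 4 = 1 := by rw [← hv4]; exact pow_orderOf_eq_one v
    have hw44 : w ^ 4 = 1 := by rw [← hw4]; exact pow_orderOf_eq_one w
    have hc4 : c ^ 4 = 1 := by
      have h1 : (w * v * w⁻¹) ^ 4 = 1 := by
        rw [← MulAut.conj_apply, ← map_pow, hv44, map_one]
      rw [wvw, (hcv.inv_left).mul_pow, hv44, mul_one, inv_pow, inv_eq_one] at h1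
      exact h1
    have hee : e * e = 1 := by
      rw [he]
      calc c * c * (c * c) = (c ^ 2) ^ 2 := by rw [pow_two, pow_two]
        _ = c ^ 4 := by rw [← pow_mul]
        _ = 1 := hc4
    have hei : c⁻¹ * c⁻¹ = e := by
      rw [he, ← mul_inv_rev]
      rw [inv_eq_iff_mul_eq_one]
      rw [← he]
      exact hee
    have k1 : w * w * v * (w * w)⁻¹ = e * v := by
      calc w * w * v * (w * w)⁻¹ = w * (w * v * w⁻¹) * w⁻¹ := by group
        _ = w * (c⁻¹ * v) * w⁻¹ := by rw [wvw]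
        _ = (w * c⁻¹ * w⁻¹) * (w * v * w⁻¹) := by group
        _ = c⁻¹ * (c⁻¹ * v) := by rw [(hcw.inv_left).symm.eq, mul_inv_cancel_right, wvw]
        _ = e * v := by rw [← mul_assoc, hei]
    have k2 : w * (v * v) * w⁻¹ = e * (v * v) := by
      calc w * (v * v) * w⁻¹ = (w * v * w⁻¹) * (w * v * w⁻¹) := by group
        _ = c⁻¹ * (v * c⁻¹) * v := by rw [wvw]; group
        _ = c⁻¹ * (c⁻¹ * v) * v := by rw [(hcv.inv_left).eq]
        _ = e * (v * v) := by rw [← hei]; group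
    have k1' : v * v * w * (v * v)⁻¹ = e * w := by
      calc v * v * w * (v * v)⁻¹ = v * (v * w * v⁻¹) * v⁻¹ := by group
        _ = v * (c * w) * v⁻¹ := by rw [vwv]
        _ = (v * c * v⁻¹) * (v * w * v⁻¹) := by group
        _ = c * (c * w) := by rw [hcv.symm.eq, mul_inv_cancel_right, vwv]
        _ = e * w := by rw [← mul_assoc, ← he]
    have k2' : v * (w * w) * v⁻¹ = e * (w * w) := by
      calc v * (w * w) * v⁻¹ = (v * w * v⁻¹) * (v * w * v⁻¹) := by group
        _ = c * (w * c) * w := by rw [vwv]; group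
        _ = c * (c * w) * w := by rw [hcw.eq]
        _ = e * (w * w) := by rw [he]; group
    have htt : (w * w) * (v * v) = (v * v) * (w * w) := by
      have h1 : (w * w) * (v * v) * (w * w)⁻¹ = v * v := by
        calc (w * w) * (v * v) * (w * w)⁻¹ = (w * w * v * (w * w)⁻¹) * (w * w * v * (w * w)⁻¹) := by group
          _ = e * (v * e) * v := by rw [k1]; group
          _ = e * (e * v) * v := by rw [hev.eq]
          _ = (e * e) * (v * v) := by group
          _ = v * v := by rw [hee, one_mul]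
      rw [mul_inv_eq_iff_eq_mul] at h1
      exact h1
    have hz : v * v = zz K := hU.sq_eq h hK hv hv4
    have hz' : w * w = zz L := hU.sq_eq h hL hw hw4
    have hzz : zz K * zz K = 1 := h.zz_mul hK
    have hzz' : zz L * zz L = 1 := h.zz_mul hL
    by_cases he1 : e = 1
    · -- class two with `c² = 1`
      have hwK : w ∈ normalizer (K : Set G) := by
        apply h.norm_four hP hL hK (hU.le L hL hw) hwP hw4.ge
        rw [he1, one_mul, mul_inv_eq_iff_eq_mul, hz] at k2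
        exact k2
      have hvL : v ∈ normalizer (L : Set G) := by
        apply h.norm_four hP hK hL (hU.le K hK hv) hvP hv4.ge
        rw [he1, one_mul, mul_inv_eq_iff_eq_mul, hz'] at k2'
        exact k2'
      have h1 := hU.conj_mem hK hv w
      rw [mem_normalizer_iff_cj.mp hwK] at h1
      have h2 := hU.conj_mem hL hw v
      rw [mem_normalizer_iff_cj.mp hvL] at h2
      have hwvP : w * v * w⁻¹ ∈ P := P.mul_mem (P.mul_mem hwP hvP) (P.inv_mem hwP)
      have hvwP : v * w * v⁻¹ ∈ P := P.mul_mem (P.mul_mem hvP hwP) (P.inv_mem hvP)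
      rcases hU.eq_or hK hv hv4 h1 (orderOf_conj_four hv4 w) hP hvP hwvP with h3 | h3
      · rw [mul_inv_eq_iff_eq_mul] at h3
        exact hvw h3.symm
      rcases hU.eq_or hL hw hw4 h2 (orderOf_conj_four hw4 v) hP hwP hvwP with h4 | h4
      · rw [mul_inv_eq_iff_eq_mul] at h4
        exact hvw h4
      have h5 : c = zz K := by
        rw [wvw, ← eq_mul_inv_iff_mul_eq, ← mul_inv_rev, inv_inj] at h3
        rw [h3, hz]
      have h6 : c = zz L := by
        rw [vwv, ← eq_mul_inv_iff_mul_eq, ← mul_inv_rev, hz', h.zz_inv hL] at h4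
        exact h4
      exact hvw (hU.comm_of_zz_eq h hK hL (h5.symm.trans h6) hP hv hvP hv4 hw hwP hw4)
    · -- `c² ≠ 1`
      have hmove : Cit.cj (w * w) K ≠ K := by
        intro hh
        have h1 := hU.conj_mem hK hv (w * w)
        rw [hh] at h1
        have h2 : w * w * v * (w * w)⁻¹ ∈ P :=
          P.mul_mem (P.mul_mem (P.mul_mem hwP hwP) hvP) (P.inv_mem (P.mul_mem hwP hwP))
        rcases hU.eq_or hK hv hv4 h1 (orderOf_conj_four hv4 _) hP hvP h2 with h3 | h3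
        · rw [k1] at h3
          exact he1 (by simpa using h3)
        · rw [k1, ← eq_mul_inv_iff_mul_eq, ← mul_inv_rev, hz, h.zz_inv hK] at h3
          rw [h3, hz, hzz, mul_inv_eq_one] at k2
          exact h.zz_ne hK (by simpa using k2)
      obtain ⟨L₁, hL₁, L₂, hL₂, -, hzL₁, hzL₂, u₁, hu₁, u₂, hu₂, hu₁4, hu₂4, hu⟩ :=
        hU.split h hK hv hv4 hP hvP hwP k1 k2 hev.eq htt hmove
      have hmove' : Cit.cj (v * v) L ≠ L := by
        intro hh
        have h1 := hU.conj_mem hL hw (v * v)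
        rw [hh] at h1
        have h2 : v * v * w * (v * v)⁻¹ ∈ P :=
          P.mul_mem (P.mul_mem (P.mul_mem hvP hvP) hwP) (P.inv_mem (P.mul_mem hvP hvP))
        rcases hU.eq_or hL hw hw4 h1 (orderOf_conj_four hw4 _) hP hwP h2 with h3 | h3
        · rw [k1'] at h3
          exact he1 (by simpa using h3)
        · rw [k1', ← eq_mul_inv_iff_mul_eq, ← mul_inv_rev, hz', h.zz_inv hL] at h3
          rw [h3, hz', hzz', mul_inv_eq_one] at k2'
          exact h.zz_ne hL (by simpa using k2')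
      obtain ⟨M₁, hM₁, M₂, hM₂, -, hzM₁, hzM₂, t₁, ht₁, t₂, ht₂, ht₁4, ht₂4, ht⟩ :=
        hU.split h hL hw hw4 hP hwP hvP k1' k2' hew.eq htt.symm hmove'
      -- a Sylow 2-subgroup of `C(e)`
      obtain ⟨T, hT, hPT⟩ := exists_syl_ge (P := P ⊓ centralizer {e}) (hP.to_le inf_le_left) inf_le_right
      have hvT : v ∈ T := hPT ⟨hvP, mem_centralizer_singleton_iff.mpr hev.symm.eq⟩
      have hwT : w ∈ T := hPT ⟨hwP, mem_centralizer_singleton_iff.mpr hew.symm.eq⟩
      have mT : ∀ M : Subgroup G, M ∈ Om → zz M = e → M ∈ OmS Om T := by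
        intro M hM hz
        apply h.mem_OmS_of_syl hM
        rw [hz]
        exact hT
      obtain ⟨a₁, ha₁, a₂, ha₂, ha₁T, ha₂T, ha₁4, ha₂4, ha⟩ :=
        hU.split_mem h (hzL₁.trans hzL₂.symm) hT.2.1 (mT _ hL₁ hzL₁) (mT _ hL₂ hzL₂) hu₁ hu₂ hu₁4 hu₂4
          (by rw [← hu]; exact T.mul_mem hvT hvT)
      obtain ⟨b₁, hb₁, b₂, hb₂, hb₁T, hb₂T, hb₁4, hb₂4, hb⟩ :=
        hU.split_mem h (hzM₁.trans hzM₂.symm) hT.2.1 (mT _ hM₁ hzM₁) (mT _ hM₂ hzM₂) ht₁ ht₂ ht₁4 ht₂4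
          (by rw [← ht]; exact T.mul_mem hwT hwT)
      have comm : ∀ (M : Subgroup G), M ∈ Om → zz M = e → ∀ b ∈ U M, b ∈ T → orderOf b = 4 →
          b ∈ normalizer (K : Set G) := by
        intro M hM hzM b hb hbT hb4
        apply h.norm_four hT.2.1 hM hK (hU.le M hM hb) hbT hb4.ge
        rw [← hz, hu, ha]
        have d1 : Commute b a₁ := hU.comm_of_zz_eq h hM hL₁ (hzM.trans hzL₁.symm) hT.2.1 hb hbT hb4 ha₁ ha₁T ha₁4
        have d2 : Commute b a₂ := hU.comm_of_zz_eq h hM hL₂ (hzM.trans hzL₂.symm) hT.2.1 hb hbT hb4 ha₂ ha₂T ha₂4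
        exact (d1.mul_right d2).eq
      apply hmove
      rw [← mem_normalizer_iff_cj, ht, hb]
      exact mul_mem (comm M₁ hM₁ hzM₁ b₁ hb₁ hb₁T hb₁4) (comm M₂ hM₂ hzM₂ b₂ hb₂ hb₂T hb₂4)

/-- **Theorem V**: elements of order `4` of the `U K`, `K ∈ Om`, in a common 2-group commute -/
theorem commute (hU : VChoice Om U) (h : Hyp Om) {P : Subgroup G} (hP : IsPGroup 2 P) {K L : Subgroup G}
    (hK : K ∈ Om) (hL : L ∈ Om) {v w : G} (hv : v ∈ U K) (hw : w ∈ U L) (hv4 : orderOf v = 4)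
    (hw4 : orderOf w = 4) (hvP : v ∈ P) (hwP : w ∈ P) : v * w = w * v :=
  hU.commute_aux h _ P rfl hP K hK L hL v hv w hw hv4 hw4 hvP hwP

/-- the set of the elements of order `4` of the `U K` -/
def VV (Om : Set (Subgroup G)) (U : Subgroup G → Subgroup G) : Set G :=
  {v | orderOf v = 4 ∧ ∃ K ∈ Om, v ∈ U K}

theorem conj_mem_VV (hU : VChoice Om U) (h : Hyp Om) {v : G} (hv : v ∈ VV Om U) (g : G) :
    g * v * g⁻¹ ∈ VV Om U := by
  obtain ⟨hv4, K, hK, hvK⟩ := hv
  exact ⟨orderOf_conj_four hv4 g, _, h.conj K hK g, hU.conj_mem hK hvK g⟩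

/-- for every 2-subgroup `S` the weak closure `⟨VV ∩ S⟩` is abelian -/
theorem closure_comm (hU : VChoice Om U) (h : Hyp Om) {S : Subgroup G} (hS : IsPGroup 2 S) :
    ∀ a ∈ closure (VV Om U ∩ S), ∀ b ∈ closure (VV Om U ∩ S), a * b = b * a := by
  have h1 : closure (VV Om U ∩ S) ≤ centralizer (VV Om U ∩ (S : Set G)) := by
    rw [closure_le]
    rintro a ⟨⟨ha4, K, hK, haK⟩, haS⟩
    rw [SetLike.mem_coe, mem_centralizer_iff]
    rintro b ⟨⟨hb4, L, hL, hbL⟩, hbS⟩
    exact hU.commute h hS hL hK hbL haK hb4 ha4 hbS haS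
  intro a ha b hb
  have h2 : closure (VV Om U ∩ S) ≤ centralizer ({a} : Set G) := by
    rw [closure_le]
    intro b hb
    rw [SetLike.mem_coe, mem_centralizer_singleton_iff]
    exact mem_centralizer_iff.mp (h1 ha) b hb
  exact (mem_centralizer_singleton_iff.mp (h2 hb)).symm

/-- the weak closure is normalised by `N(S)` -/
theorem normalizer_le_closure (hU : VChoice Om U) (h : Hyp Om) {S : Subgroup G} :
    normalizer (S : Set G) ≤ normalizer (closure (VV Om U ∩ S) : Set G) := by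
  have key : ∀ g ∈ normalizer (S : Set G), ∀ x ∈ closure (VV Om U ∩ S), g * x * g⁻¹ ∈ closure (VV Om U ∩ S) := by
    intro g hg x hx
    have h1 : closure (VV Om U ∩ S) ≤ (closure (VV Om U ∩ S)).comap (MulAut.conj g).toMonoidHom := by
      rw [closure_le]
      rintro y ⟨hy, hyS⟩
      exact subset_closure ⟨hU.conj_mem_VV h hy g, (mem_normalizer_iff.mp hg y).mp hyS⟩
    exact h1 hx
  intro g hg
  rw [mem_normalizer_iff]
  intro x
  refine ⟨key g hg x, fun hx => ?_⟩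
  have h3 := key g⁻¹ (inv_mem hg) _ hx
  have h5 : g⁻¹ * (g * x * g⁻¹) * g⁻¹⁻¹ = x := by group
  rwa [h5] at h3

end VChoice

end Cfsg.Agent.Cit
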