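import Cfsg.Agent.Cit.Nil.End
import Cfsg.Agent.Cit.Nil.Dich
import Cfsg.Agent.Cit.Nil.VC

/-!
# The skeleton of S1309

Type distinction for the subgroup `J` of S1309:

* `J` not 2-nilpotent: `Nil.Dich.dich` gives a classical involution: S1310;
* `J` 2-nilpotent, `|Om(S)| = 1` (`One (cls J)`): THEOREM N1 (`Nil.End.main`);
* `J` 2-nilpotent, `|Om(S)| ≥ 2`, no (C3): `Nil.exists_vchoice`: leaf `CVStmt`;
* `J` 2-nilpotent, `|Om(S)| ≥ 2`, (C3): leaf `C3Stmt`, split by `r = |Om(z)|` into `LeafR1`, `LeafR2`, `LeafR4`, `LeafR`.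

`main` : the statement of S1309 from the leaves and the external inputs `Ext G`.
-/

set_option autoImplicit false
set_option linter.style.haveILetI false
set_option linter.unusedSectionVars false

namespace Cfsg.Agent.Cit.AssemblyNil

open Subgroup Cfsg Cit Nil

universe u

/-! ### The world -/

/-- the conclusion of S1309 for the group `X` -/
def Concl (X : Type*) [Group X] : Prop :=
  (∃ p : ℕ, p.Prime ∧ p ≠ 2 ∧ Cfsg.IsLieTypeChar p X) ∨ Cfsg.Spor.IsoM11 X ∨ Cfsg.Spor.IsoM12 X ∨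
    (∃ (F : Type) (_ : Field F) (_ : Fintype F), Fintype.card F = 2 ∧
      (Nonempty (X ≃* Cfsg.PSp 3 F) ∨ Nonempty (X ≃* Cfsg.POmega F (Cfsg.quadFormPlus 4 F))))

/-- a classical involution: the hypothesis of S1310 -/
def Cl (G : Type*) [Group G] : Prop :=
  ∃ (z : G) (J : Subgroup G), orderOf z = 2 ∧ J ≤ centralizer ({z} : Set G) ∧ z ∈ J ∧
    (J.subgroupOf (centralizer ({z} : Set G))).IsSubnormal ∧ Dich.IsTy (↥J ⧸ oddCore ↥J)

/-- `F*(G)` is simple, non-abelian, of even order -/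
structure FS (G : Type*) [Group G] : Prop where
  simple : IsSimpleGroup ↥(generalizedFittingSubgroup G)
  na : ¬ IsMulCommutative ↥(generalizedFittingSubgroup G)
  even : 2 ∣ Nat.card ↥(generalizedFittingSubgroup G)

/-- the members over `z_K` -/
def ovr {G : Type*} [Group G] (K : Subgroup G) : Set (Subgroup G) := {L | L ∈ cls K ∧ zz L = zz K}

/-- the world of (C3) -/
structure W3 (G : Type*) [Group G] (K : Subgroup G) : Prop extends FS G where
  hyp : Hyp (cls K)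
  nil : NilK K
  c3 : C3 K
  /-- S1310 does not apply -/
  ncl : ¬ Cl G
  /-- `|Om(S)| ≥ 2` -/
  two : ¬ One (cls K)

/-! ### The leaves -/

/-- **LEAF (CV)**: in the presence of an equivariant choice of `V_K` there is at most one member in `Om(S)` -/
def CVStmt : Prop := ∀ (G : Type u) [Group G] [Finite G], FS G → ∀ (K : Subgroup G) (U : Subgroup G → Subgroup G),
  Hyp (cls K) → NilK K → VChoice (cls K) U → ¬ Cl G → One (cls K)

/-- **(C3)** -/
def C3Stmt : Prop := ∀ (G : Type u) [Group G] [Finite G] (K : Subgroup G), W3 G K →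
  Concl ↥(generalizedFittingSubgroup G)

/-- **LEAF (C3), `r = 1`** -/
def LeafR1 : Prop := ∀ (G : Type u) [Group G] [Finite G] (K : Subgroup G), W3 G K → (ovr K).ncard = 1 →
  Concl ↥(generalizedFittingSubgroup G)

/-- **LEAF (C3), `r = 2`** -/
def LeafR2 : Prop := ∀ (G : Type u) [Group G] [Finite G] (K : Subgroup G), W3 G K → (ovr K).ncard = 2 →
  Concl ↥(generalizedFittingSubgroup G)

/-- **LEAF (C3), `r = 4`** -/
def LeafR4 : Prop := ∀ (G : Type u) [Group G] [Finite G] (K : Subgroup G), W3 G K → (ovr K).ncard = 4 →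
  Concl ↥(generalizedFittingSubgroup G)

/-- **LEAF (C3), `r ∈ {1, 2, 4}`** -/
def LeafR : Prop := ∀ (G : Type u) [Group G] [Finite G] (K : Subgroup G), W3 G K → (ovr K).ncard ≠ 1 →
  (ovr K).ncard ≠ 2 → (ovr K).ncard ≠ 4 → Concl ↥(generalizedFittingSubgroup G)

theorem c3Stmt_of (h1 : LeafR1.{u}) (h2 : LeafR2.{u}) (h4 : LeafR4.{u}) (hr : LeafR.{u}) : C3Stmt.{u} := by
  intro G _ _ K w
  by_cases e1 : (ovr K).ncard = 1
  · exact h1 G K w e1
  by_cases e2 : (ovr K).ncard = 2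
  · exact h2 G K w e2
  by_cases e4 : (ovr K).ncard = 4
  · exact h4 G K w e4
  exact hr G K w e1 e2 e4

/-! ### `O(C(t)) = 1` for all involutions -/

/-- S1311 for `G` -/
def St1311 (G : Type*) [Group G] : Prop := ∀ t : G, orderOf t = 2 → centralizerPPrimeCore 2 t ≠ ⊥ →
  (∃ p : ℕ, p.Prime ∧ p ≠ 2 ∧ Cfsg.IsLieTypeChar p ↥(Cfsg.generalizedFittingSubgroup G)) ∨
    (∃ n : ℕ, Odd n ∧ 7 ≤ n ∧ Nonempty (↥(Cfsg.generalizedFittingSubgroup G) ≃* ↥(alternatingGroup (Fin n)))) ∨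
    (∃ (F : Type) (_ : Field F) (_ : Fintype F), Fintype.card F = 4 ∧
      Nonempty (↥(Cfsg.generalizedFittingSubgroup G) ≃* Matrix.ProjectiveSpecialLinearGroup (Fin 3) F)) ∨
    Cfsg.Spor.IsoHe ↥(Cfsg.generalizedFittingSubgroup G)

/-- **LEAF (unbalanced)**: only needed if the proof of `C3Stmt` uses `O(C(t)) = 1` -/
def UnbalStmt : Prop := ∀ (G : Type u) [Group G] [Finite G] (K : Subgroup G), W3 G K →
  ((∃ n : ℕ, Odd n ∧ 7 ≤ n ∧ Nonempty (↥(Cfsg.generalizedFittingSubgroup G) ≃* ↥(alternatingGroup (Fin n)))) ∨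
    (∃ (F : Type) (_ : Field F) (_ : Fintype F), Fintype.card F = 4 ∧
      Nonempty (↥(Cfsg.generalizedFittingSubgroup G) ≃* Matrix.ProjectiveSpecialLinearGroup (Fin 3) F)) ∨
    Cfsg.Spor.IsoHe ↥(Cfsg.generalizedFittingSubgroup G)) → False

/-- (C3) with `O(C(t)) = 1` -/
def C3Free : Prop := ∀ (G : Type u) [Group G] [Finite G] (K : Subgroup G), W3 G K →
  (∀ t : G, orderOf t = 2 → centralizerPPrimeCore 2 t = ⊥) → Concl ↥(generalizedFittingSubgroup G)

theorem c3Stmt_of_free (h1311 : ∀ (G : Type u) [Group G] [Finite G], FS G → St1311 G) (hU : UnbalStmt.{u})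
    (h : C3Free.{u}) : C3Stmt.{u} := by
  intro G _ _ K w
  by_cases hb : ∀ t : G, orderOf t = 2 → centralizerPPrimeCore 2 t = ⊥
  · exact h G K w hb
  push Not at hb
  obtain ⟨t, ht, ht2⟩ := hb
  rcases h1311 G w.toFS t ht ht2 with h3 | h3
  · exact Or.inl h3
  · exact (hU G K w h3).elim

/-! ### The external inputs -/

/-- the external inputs -/
structure Ext (G : Type u) [Group G] [Finite G] : Prop where
  /-- S0483 -/
  gw : OddHalf.RankOne.GW.{u}
  /-- S1310 -/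
  p1310 : Cl G → (∃ p : ℕ, p.Prime ∧ p ≠ 2 ∧ Cfsg.IsLieTypeChar p ↥(generalizedFittingSubgroup G)) ∨
    Cfsg.Spor.IsoM11 ↥(generalizedFittingSubgroup G)
  /-- S1173 -/
  p1173 : OneF.H1173 G
  /-- `Cit.OneF.h1171` (Nil/ExtProd.lean) -/
  p1171 : OneF.H1171 G
  /-- S0506 -/
  p0506 : NoHomo.S0506Stmt.{u}
  /-- S0507 -/
  p0507 : Ident.St0507 ↥(generalizedFittingSubgroup G)
  /-- S0523 -/
  p0523 : Ident.St0523 ↥(generalizedFittingSubgroup G)
  /-- S1742 -/
  p1742 : Ident.St1742 ↥(generalizedFittingSubgroup G)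
  /-- the odd order theorem -/
  even : 2 ∣ Nat.card ↥(generalizedFittingSubgroup G)

section main

variable {G : Type u} [Group G] [Finite G]

theorem nil_cls {J : Subgroup G} (h : NilK J) : NilOm (cls J) := by
  rintro _ ⟨g, rfl⟩ Q hQ
  have h1 : Syl (cj g⁻¹ Q) J := by
    have := hQ.cj g⁻¹
    rwa [cj_inv_cj] at this
  have h2 := cj_mono g (h _ h1)
  rwa [cj_sup, ← OO_cj, cj_cj_inv] at h2

/-- the case of a 2-nilpotent `J` -/
theorem nil_main (e : Ext G) (fs : FS G) (hCV : CVStmt.{u}) (hC3 : C3Stmt.{u}) {J : Subgroup G}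
    (hyp : Hyp (cls J)) (hn : NilK J) (hncl : ¬ Cl G) : Concl ↥(generalizedFittingSubgroup G) := by
  have hs := fs.simple
  have hna := fs.na
  by_cases h1 : One (cls J)
  · have h0483 : Ident.St0483 ↥(generalizedFittingSubgroup G) := by
      intro S n hn2 hS
      haveI : Group.IsPerfect ↥(generalizedFittingSubgroup G) := ⟨End.commutator_eq_top hs hna⟩
      exact e.gw _ S n hn2 hS
    rcases End.main hs hna fs.even e.p1173 e.p1171 e.p0506 h0483 e.p0507 e.p0523 e.p1742 h1 ⟨J, self_mem_cls J⟩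
      (nil_cls hn) with h2 | h2 | h2
    · exact Or.inl h2
    · exact Or.inr (Or.inl h2)
    · exact Or.inr (Or.inr (Or.inl h2))
  · by_cases h3 : C3 J
    · exact hC3 G J ⟨fs, hyp, hn, h3, hncl, h1⟩
    · obtain ⟨U, hU⟩ := exists_vchoice hyp (self_mem_cls J) hn h3
      exact absurd (hCV G fs J U hyp hn hU hncl) h1

/-- **S1309 from the leaves** -/
theorem main (e : Ext G) (hCV : CVStmt.{u}) (hC3 : C3Stmt.{u})
    (hs : IsSimpleGroup ↥(Cfsg.generalizedFittingSubgroup G))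
    (hna : ¬ IsMulCommutative ↥(Cfsg.generalizedFittingSubgroup G)) (z : G) (hz : orderOf z = 2)
    (J : Subgroup G) (hJz : J ≤ Subgroup.centralizer ({z} : Set G)) (hzJ : z ∈ J)
    (hsn : (J.subgroupOf (Subgroup.centralizer ({z} : Set G))).IsSubnormal)
    (hQ : ∃ S : Sylow 2 ↥J, ∃ n : ℕ, Nonempty (↥(S : Subgroup ↥J) ≃* QuaternionGroup (2 ^ (n + 1))))
    (huniq : ∀ t ∈ J, orderOf t = 2 → t = z)
    (h2 : ∀ u ∈ Subgroup.centralizer ({z} : Set G), J.map (MulAut.conj u).toMonoidHom = J ∨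
      ⁅J, J.map (MulAut.conj u).toMonoidHom⁆ ≤ (Cfsg.oddCore ↥J).map J.subtype ⊓
        (Cfsg.oddCore ↥(J.map (MulAut.conj u).toMonoidHom)).map (J.map (MulAut.conj u).toMonoidHom).subtype)
    (h3 : ∀ y ∈ J, ∀ g : G, IsPGroup 2 ↥(Subgroup.zpowers y) → 4 ≤ orderOf y →
      g * y * g⁻¹ ∈ Subgroup.centralizer ({z} : Set G) → g * y * g⁻¹ ∈ Subgroup.normalizer (J : Set G)) :
    (∃ p : ℕ, p.Prime ∧ p ≠ 2 ∧ Cfsg.IsLieTypeChar p ↥(Cfsg.generalizedFittingSubgroup G)) ∨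
      Cfsg.Spor.IsoM11 ↥(Cfsg.generalizedFittingSubgroup G) ∨
      Cfsg.Spor.IsoM12 ↥(Cfsg.generalizedFittingSubgroup G) ∨
      (∃ (F : Type) (_ : Field F) (_ : Fintype F), Fintype.card F = 2 ∧
        (Nonempty (↥(Cfsg.generalizedFittingSubgroup G) ≃* Cfsg.PSp 3 F) ∨
          Nonempty (↥(Cfsg.generalizedFittingSubgroup G) ≃* Cfsg.POmega F (Cfsg.quadFormPlus 4 F)))) := by
  by_cases hcl : Cl G
  · rcases e.p1310 hcl with h | h
    · exact Or.inl h
    · exact Or.inr (Or.inl h)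
  obtain ⟨hyp, -⟩ := hyp_of_class z hz J hzJ hsn hQ huniq h2 h3
  rcases Dich.dich e.gw hz hzJ hQ huniq with hn | ⟨M, hMJ, hMn, hzM, hty⟩
  · exact nil_main e ⟨hs, hna, e.even⟩ hCV hC3 hyp hn hcl
  · refine absurd ⟨z, M, hz, hMJ.trans hJz, hzM, ?_, hty⟩ hcl
    refine Subgroup.IsSubnormal.step _ _ (fun x hx => hMJ hx) hsn ?_
    refine ⟨fun x hx g => ?_⟩
    have h4 : (x : G) ∈ M := hx
    have hxJ : (x : G) ∈ J := hMJ h4
    have h5 := hMn.conj_mem (⟨_, hxJ⟩ : J) h4 (⟨_, g.2⟩ : J)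
    exact h5

end main

end Cfsg.Agent.Cit.AssemblyNil
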