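import Mathlib

/-!
# Generalized quaternion subgroups (tools for `S1309`)

`IsQ Q` : the subgroup `Q` is generalized quaternion (of order at least 8).
Main facts: unique involution (`IsQ.exists_inv`), generated by elements of order `4` (`IsQ.closure_eq`),
every element of order `4` is inverted by an element (`IsQ.exists_inverts`), and the automorphism lemma `IsQ.commute`
(`Step 0` of Lemma 1 of the `CIT` project).
-/

set_option autoImplicit false

namespace Cfsg.Agent.Cit.AutQuat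

open QuaternionGroup

section Model

theorem eq_of_orderOf_two {m : ℕ} [NeZero m] (t : QuaternionGroup m) (ht : orderOf t = 2) :
    t = a (m : ZMod (2 * m)) := by
  have hm : 0 < m := Nat.pos_of_ne_zero (NeZero.ne m)
  cases t with
  | a i =>
    have : NeZero (2 * m) := ⟨by omega⟩
    have h2 : (a i : QuaternionGroup m) ^ 2 = 1 := by rw [← ht]; exact pow_orderOf_eq_one _
    have h1 : (a i : QuaternionGroup m) ≠ 1 := by
      intro h
      rw [h, orderOf_one] at ht
      omega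
    rw [sq, a_mul_a, one_def] at h2
    have h3 : i + i = 0 := by
      injection h2
    have h4 : i ≠ 0 := by
      rintro rfl
      exact h1 a_zero
    have h5 : ((2 * i.val : ℕ) : ZMod (2 * m)) = 0 := by
      rw [Nat.cast_mul, ZMod.natCast_zmod_val, Nat.cast_ofNat]
      linear_combination h3
    rw [ZMod.natCast_eq_zero_iff] at h5
    have h6 : m ∣ i.val := by
      obtain ⟨c, hc⟩ := h5
      exact ⟨c, by nlinarith⟩
    have h7 : i.val < 2 * m := ZMod.val_lt i
    have h8 : i.val ≠ 0 := by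
      intro h
      exact h4 ((ZMod.val_eq_zero i).mp h)
    obtain ⟨c, hc⟩ := h6
    have h9 : c = 1 := by
      have hc2 : c < 2 := by
        by_contra hcc
        have : 2 * m ≤ m * c := by nlinarith
        omega
      have hc0 : c ≠ 0 := by
        rintro rfl
        exact h8 (by simpa using hc)
      omega
    have h10 : i.val = m := by rw [hc, h9, mul_one]
    congr 1
    rw [← ZMod.natCast_zmod_val i, h10]
  | xa i =>
    rw [orderOf_xa] at ht
    omega

theorem orderOf_a_self {m : ℕ} [NeZero m] : orderOf (a (m : ZMod (2 * m)) : QuaternionGroup m) = 2 := by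
  have h := orderOf_xa (n := m) 0
  have h2 : (xa 0 : QuaternionGroup m) ^ 2 = a m := xa_sq 0
  rw [← h2, orderOf_pow, h]
  norm_num

theorem exists_xa (m : ℕ) (g : QuaternionGroup m) :
    (∃ i, g = xa i) ∨ ∃ i j, g = xa i * xa j := by
  cases g with
  | a i =>
    refine Or.inr ⟨0, i - (m : ZMod (2 * m)), ?_⟩
    rw [xa_mul_xa]
    congr 1
    ring
  | xa i => exact Or.inl ⟨i, rfl⟩

/-- elements of order `4` are inverted -/
theorem exists_inverts {m k : ℕ} (hk : m = 2 * k) (g : QuaternionGroup m) :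
    ∃ h : QuaternionGroup m, h * g * h⁻¹ = g⁻¹ := by
  cases g with
  | a i =>
    refine ⟨xa 0, ?_⟩
    rw [mul_inv_eq_iff_eq_mul]
    show xa 0 * a i = a (-i) * xa 0
    rw [xa_mul_a, a_mul_xa]
    congr 1
    ring
  | xa i =>
    refine ⟨a (k : ZMod (2 * m)), ?_⟩
    rw [mul_inv_eq_iff_eq_mul]
    show a (k : ZMod (2 * m)) * xa i = xa ((m : ZMod (2 * m)) + i) * a (k : ZMod (2 * m))
    rw [xa_mul_a, a_mul_xa]
    congr 1
    have h : (m : ZMod (2 * m)) + (2 * k : ZMod (2 * m)) = 0 := by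
      have h1 : ((m + 2 * k : ℕ) : ZMod (2 * m)) = 0 := by
        rw [ZMod.natCast_eq_zero_iff, ← hk]
        exact ⟨1, by ring⟩
      push_cast at h1
      exact h1
    linear_combination -h

end Model

variable {G : Type*} [Group G]

/-- `Q` is a generalized quaternion group (order at least `8`) -/
def IsQ (Q : Subgroup G) : Prop := ∃ n : ℕ, Nonempty (↥Q ≃* QuaternionGroup (2 ^ (n + 1)))

namespace IsQ

variable {Q : Subgroup G}

theorem finite (h : IsQ Q) : Finite Q := by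
  obtain ⟨n, ⟨e⟩⟩ := h
  exact Finite.of_equiv _ e.toEquiv.symm

theorem card (h : IsQ Q) : ∃ n : ℕ, Nat.card Q = 2 ^ (n + 3) := by
  obtain ⟨n, ⟨e⟩⟩ := h
  refine ⟨n, ?_⟩
  rw [Nat.card_congr e.toEquiv, Nat.card_eq_fintype_card, QuaternionGroup.card]
  ring

theorem isPGroup (h : IsQ Q) : IsPGroup 2 Q := by
  obtain ⟨n, hn⟩ := h.card
  exact IsPGroup.of_card hn

theorem exists_inv (h : IsQ Q) : ∃ z ∈ Q, orderOf z = 2 ∧ ∀ t ∈ Q, orderOf t = 2 → t = z := by
  obtain ⟨n, ⟨e⟩⟩ := h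
  refine ⟨(e.symm (a ((2 ^ (n + 1) : ℕ) : ZMod (2 * 2 ^ (n + 1)))) : Q), SetLike.coe_mem _, ?_, ?_⟩
  · rw [Subgroup.orderOf_coe, MulEquiv.orderOf_eq, orderOf_a_self]
  · intro t ht ho
    have h1 : orderOf (e ⟨t, ht⟩) = 2 := by
      rw [MulEquiv.orderOf_eq, Subgroup.orderOf_mk, ho]
    have h2 := eq_of_orderOf_two _ h1
    rw [← h2, MulEquiv.symm_apply_apply]

/-- elements of order `4` generate, even products of at most two of them exhaust `Q` -/
theorem mem_or (h : IsQ Q) (x : G) (hx : x ∈ Q) :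
    (orderOf x = 4) ∨ ∃ y ∈ Q, ∃ w ∈ Q, orderOf y = 4 ∧ orderOf w = 4 ∧ x = y * w := by
  obtain ⟨n, ⟨e⟩⟩ := h
  rcases exists_xa _ (e ⟨x, hx⟩) with ⟨i, hi⟩ | ⟨i, j, hij⟩
  · left
    have h1 : orderOf (e ⟨x, hx⟩) = 4 := by rw [hi, orderOf_xa]
    rwa [MulEquiv.orderOf_eq, Subgroup.orderOf_mk] at h1
  · right
    refine ⟨(e.symm (xa i) : Q), SetLike.coe_mem _, (e.symm (xa j) : Q), SetLike.coe_mem _, ?_, ?_, ?_⟩
    · rw [Subgroup.orderOf_coe, MulEquiv.orderOf_eq, orderOf_xa]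
    · rw [Subgroup.orderOf_coe, MulEquiv.orderOf_eq, orderOf_xa]
    · rw [← Subgroup.coe_mul, ← map_mul, ← hij, MulEquiv.symm_apply_apply]

/-- a subgroup containing all elements of order `4` of `Q` contains `Q` -/
theorem le_of_four (h : IsQ Q) {H : Subgroup G} (hH : ∀ x ∈ Q, orderOf x = 4 → x ∈ H) : Q ≤ H := by
  intro x hx
  rcases h.mem_or x hx with h1 | ⟨y, hy, w, hw, hy4, hw4, rfl⟩
  · exact hH x hx h1
  · exact H.mul_mem (hH y hy hy4) (hH w hw hw4)

theorem exists_inverts (h : IsQ Q) (x : G) (hx : x ∈ Q) : ∃ y ∈ Q, y * x * y⁻¹ = x⁻¹ := by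
  obtain ⟨n, ⟨e⟩⟩ := h
  obtain ⟨g, hg⟩ := AutQuat.exists_inverts (k := 2 ^ n) (by ring) (e ⟨x, hx⟩)
  refine ⟨(e.symm g : Q), SetLike.coe_mem _, ?_⟩
  have h1 : e.symm g * ⟨x, hx⟩ * (e.symm g)⁻¹ = (⟨x, hx⟩ : Q)⁻¹ := by
    apply e.injective
    rw [map_mul, map_mul, map_inv, map_inv, MulEquiv.apply_symm_apply, hg]
  have h2 := congrArg (Subtype.val) h1
  simpa using h2

theorem exists_four (h : IsQ Q) : ∃ x ∈ Q, orderOf x = 4 := by
  obtain ⟨n, ⟨e⟩⟩ := h
  refine ⟨(e.symm (xa 0) : Q), SetLike.coe_mem _, ?_⟩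
  rw [Subgroup.orderOf_coe, MulEquiv.orderOf_eq, orderOf_xa]

/-- the square of an element of order `4` is the involution -/
theorem sq_eq {z : G} (hz : ∀ t ∈ Q, orderOf t = 2 → t = z) {x : G} (hx : x ∈ Q)
    (h4 : orderOf x = 4) : x ^ 2 = z := by
  apply hz _ (Q.pow_mem hx 2)
  rw [orderOf_pow' x two_ne_zero, h4]
  norm_num

/-- every nontrivial element has the involution among its powers -/
theorem mem_zpowers (h : IsQ Q) {z : G} (hz : ∀ t ∈ Q, orderOf t = 2 → t = z) {x : G} (hx : x ∈ Q)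
    (h1 : x ≠ 1) : z ∈ Subgroup.zpowers x := by
  have := h.finite
  obtain ⟨k, hk⟩ := (h.isPGroup) ⟨x, hx⟩
  have hk' : x ^ 2 ^ k = 1 := by simpa [Subtype.ext_iff] using hk
  obtain ⟨j, hj, hj2⟩ := (Nat.dvd_prime_pow Nat.prime_two).mp (orderOf_dvd_of_pow_eq_one hk')
  have hj0 : j ≠ 0 := by
    rintro rfl
    rw [pow_zero, orderOf_eq_one_iff] at hj2
    exact h1 hj2
  obtain ⟨i, rfl⟩ := Nat.exists_eq_succ_of_ne_zero hj0
  have h2 : orderOf (x ^ 2 ^ i) = 2 := by
    rw [orderOf_pow' x (by positivity), hj2, Nat.succ_eq_add_one, pow_succ, Nat.gcd_mul_right_left,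
      Nat.mul_div_cancel_left _ (by positivity)]
  rw [← hz _ (Q.pow_mem hx _) h2]
  exact Subgroup.pow_mem _ (Subgroup.mem_zpowers x) _

/-- the involution is central -/
theorem commute_inv {z : G} (hzQ : z ∈ Q) (ho : orderOf z = 2)
    (hz : ∀ t ∈ Q, orderOf t = 2 → t = z) {x : G} (hx : x ∈ Q) : x * z = z * x := by
  have h1 : x * z * x⁻¹ = z := by
    apply hz
    · exact Q.mul_mem (Q.mul_mem hx hzQ) (Q.inv_mem hx)
    · rw [← ho]
      exact MulEquiv.orderOf_eq (MulAut.conj x) z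
  rw [mul_inv_eq_iff_eq_mul] at h1
  exact h1

end IsQ

section Fixed

/-- `MulAut Q` acts on `Q ⧸ Z(Q)` -/
@[instance_reducible] def actQuot (Q : Type*) [Group Q] : MulAction (MulAut Q) (Q ⧸ Subgroup.center Q) where
  smul φ := QuotientGroup.map (Subgroup.center Q) (Subgroup.center Q) φ.toMonoidHom
    (Subgroup.characteristic_iff_le_comap.mp inferInstance φ)
  one_smul := by
    intro b
    induction b using QuotientGroup.induction_on with
    | H x => rfl
  mul_smul := by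
    intro φ ψ b
    induction b using QuotientGroup.induction_on with
    | H x => rfl

/-- a `2`-group acting on a nonabelian `2`-group `Q` by automorphisms fixes a nontrivial coset of the centre -/
theorem exists_fixed {P Q : Type*} [Group P] [Group Q] [Finite Q] (hP : IsPGroup 2 P) (hQ : IsPGroup 2 Q)
    (hne : Subgroup.center Q ≠ ⊤) (f : P →* MulAut Q) :
    ∃ x : Q, x ∉ Subgroup.center Q ∧ ∀ w : P, f w x * x⁻¹ ∈ Subgroup.center Q := by
  let _ : MulAction (MulAut Q) (Q ⧸ Subgroup.center Q) := actQuot Q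
  let _ : MulAction P (Q ⧸ Subgroup.center Q) := MulAction.compHom _ f
  have h2 : 2 ∣ Nat.card (Q ⧸ Subgroup.center Q) := by
    obtain ⟨k, hk⟩ := hQ.index (Subgroup.center Q)
    change 2 ∣ (Subgroup.center Q).index
    rw [hk]
    apply dvd_pow_self
    rintro rfl
    rw [pow_zero, Subgroup.index_eq_one] at hk
    exact hne hk
  have h1 : ((1 : Q) : Q ⧸ Subgroup.center Q) ∈ MulAction.fixedPoints P (Q ⧸ Subgroup.center Q) := by
    intro w
    show ((f w 1 : Q) : Q ⧸ Subgroup.center Q) = _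
    rw [map_one]
  obtain ⟨b, hb, hb1⟩ := hP.exists_fixed_point_of_prime_dvd_card_of_fixed_point _ h2 h1
  obtain ⟨x, rfl⟩ := QuotientGroup.mk_surjective b
  refine ⟨x, ?_, ?_⟩
  · intro hx
    apply hb1
    exact ((QuotientGroup.eq_one_iff x).mpr hx).symm
  · intro w
    have h3 : ((f w x : Q) : Q ⧸ Subgroup.center Q) = (x : Q ⧸ Subgroup.center Q) := hb w
    have h4 := QuotientGroup.eq_iff_div_mem.mp h3
    rwa [div_eq_mul_inv] at h4

end Fixed

namespace IsQ

variable {Q : Subgroup G}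

theorem exists_cyclic (h : IsQ Q) {P : Subgroup G} (hP : IsPGroup 2 P)
    (hPQ : P ≤ Subgroup.normalizer (Q : Set G)) :
    ∃ x ∈ Q, 4 ≤ orderOf x ∧ 2 * orderOf x = Nat.card Q ∧
      ∀ w ∈ P, w * x * w⁻¹ ∈ Subgroup.zpowers x := by
  obtain ⟨n, ⟨e⟩⟩ := id h
  have hcard : Nat.card Q = 4 * 2 ^ (n + 1) := by
    rw [Nat.card_congr e.toEquiv, Nat.card_eq_fintype_card, QuaternionGroup.card]
  have hconj : ∀ w ∈ P, ∀ x ∈ Q, w * x * w⁻¹ ∈ Q := fun w hw x hx =>
    (Subgroup.mem_normalizer_iff.mp (hPQ hw) x).mp hx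
  rcases Nat.eq_zero_or_pos n with rfl | hn
  · -- `Q ≅ Q₈`
    have hfin := h.finite
    have hne : Subgroup.center Q ≠ ⊤ := by
      intro hc
      have h1 : e.symm (a 1) * e.symm (xa 0) = e.symm (xa 0) * e.symm (a 1) := by
        have : e.symm (xa 0) ∈ Subgroup.center Q := by rw [hc]; trivial
        exact Subgroup.mem_center_iff.mp this _
      rw [← map_mul, ← map_mul] at h1
      have h2 := e.symm.injective h1
      revert h2
      decide
    obtain ⟨x, hx, hfix⟩ := exists_fixed hP h.isPGroup hne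
      (Q.normalizerMonoidHom.comp (Subgroup.inclusion hPQ))
    obtain ⟨z, hzQ, hz2, hz⟩ := h.exists_inv
    -- all elements except `1`, `z` have order `4`
    have h8 : ∀ y : Q, y = 1 ∨ (y : G) = z ∨ orderOf (y : G) = 4 := by
      intro y
      have h1 : ∀ g : QuaternionGroup 2, g = 1 ∨ g ^ 2 = 1 ∨ (g ^ 2 ≠ 1 ∧ g ^ 4 = 1) := by decide
      rcases h1 (e y) with h2 | h2 | ⟨h2, h3⟩
      · left
        exact (map_eq_one_iff e e.injective).mp h2
      · rw [← map_pow, map_eq_one_iff e e.injective] at h2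
        by_cases hy : y = 1
        · exact Or.inl hy
        · right; left
          apply hz _ y.2
          exact orderOf_eq_prime (congrArg Subtype.val h2) (fun hh => hy (Subtype.ext hh))
      · right; right
        rw [← map_pow, Ne, map_eq_one_iff e e.injective] at h2
        rw [← map_pow, map_eq_one_iff e e.injective] at h3
        rw [Subgroup.orderOf_coe]
        exact orderOf_eq_prime_pow (p := 2) (n := 1) (by simpa using h2) (by simpa using h3)
    have hzc : (⟨z, hzQ⟩ : Q) ∈ Subgroup.center Q := by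
      rw [Subgroup.mem_center_iff]
      intro g
      apply Subtype.ext
      exact commute_inv hzQ hz2 hz g.2
    have hx4 : orderOf (x : G) = 4 := by
      rcases h8 x with h1 | h1 | h1
      · exact absurd (h1 ▸ Subgroup.one_mem _) hx
      · exfalso
        apply hx
        have : x = ⟨z, hzQ⟩ := Subtype.ext h1
        rw [this]
        exact hzc
      · exact h1
    have hcen : ∀ c : Q, c ∈ Subgroup.center Q → (c : G) ∈ Subgroup.zpowers (x : G) := by
      intro c hc
      rcases h8 c with h1 | h1 | h1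
      · rw [h1]; exact Subgroup.one_mem _
      · rw [h1]
        exact h.mem_zpowers hz x.2 (by
          intro h2
          rw [h2, orderOf_one] at hx4
          omega)
      · exfalso
        obtain ⟨y, hy, hyc⟩ := h.exists_inverts c c.2
        have h2 := congrArg Subtype.val (Subgroup.mem_center_iff.mp hc ⟨y, hy⟩)
        change y * (c : G) = (c : G) * y at h2
        rw [h2, mul_inv_cancel_right] at hyc
        have h3 : (c : G) ^ 2 = 1 := by
          rw [sq]
          nth_rewrite 2 [hyc]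
          exact mul_inv_cancel _
        have h4 := orderOf_dvd_of_pow_eq_one h3
        rw [h1] at h4
        omega
    refine ⟨x, x.2, by rw [hx4], by rw [hx4, hcard]; norm_num, ?_⟩
    intro w hw
    have h1 := hcen _ (hfix ⟨w, hw⟩)
    have h2 : ((Q.normalizerMonoidHom.comp (Subgroup.inclusion hPQ)) ⟨w, hw⟩ x * x⁻¹ : Q)
        = (⟨w * x * w⁻¹, hconj w hw x x.2⟩ : Q) * x⁻¹ := rfl
    rw [h2] at h1
    change w * x * w⁻¹ * (x : G)⁻¹ ∈ _ at h1
    have h3 := Subgroup.mul_mem _ h1 (Subgroup.mem_zpowers (x : G))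
    rwa [inv_mul_cancel_right] at h3
  · have hx4 : orderOf ((e.symm (a 1) : Q) : G) = 2 * 2 ^ (n + 1) := by
      rw [Subgroup.orderOf_coe, MulEquiv.orderOf_eq, orderOf_a_one]
    obtain ⟨k, rfl⟩ := Nat.exists_eq_succ_of_ne_zero hn.ne'
    have hk : 1 ≤ 2 ^ k := Nat.one_le_two_pow
    refine ⟨(e.symm (a 1) : Q), SetLike.coe_mem _, ?_, ?_, ?_⟩
    · rw [hx4]
      have : 2 ^ (k.succ + 1) = 4 * 2 ^ k := by rw [Nat.succ_eq_add_one]; ring
      rw [this]
      omega
    · rw [hx4, hcard]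
      ring
    · intro w hw
      have h1 := hconj w hw _ (SetLike.coe_mem (e.symm (a 1)))
      have h2 : orderOf (e ⟨_, h1⟩) = 2 * 2 ^ (k.succ + 1) := by
        rw [MulEquiv.orderOf_eq, Subgroup.orderOf_mk]
        exact (MulEquiv.orderOf_eq (MulAut.conj w) _).trans hx4
      rcases hg : e ⟨_, h1⟩ with i | i
      · have h3 : a i = (a 1 : QuaternionGroup (2 ^ (k.succ + 1))) ^ i.val := by
          rw [a_one_pow, ZMod.natCast_zmod_val]
        rw [h3] at hg
        have h4 : (⟨_, h1⟩ : Q) = e.symm (a 1) ^ i.val := by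
          rw [← map_pow, ← hg, MulEquiv.symm_apply_apply]
        have h5 := congrArg Subtype.val h4
        change w * (e.symm (a 1) : Q) * w⁻¹ = _ at h5
        rw [h5]
        exact Subgroup.pow_mem _ (Subgroup.mem_zpowers _) _
      · exfalso
        rw [hg, orderOf_xa] at h2
        have : 2 ^ (k.succ + 1) = 4 * 2 ^ k := by rw [Nat.succ_eq_add_one]; ring
        rw [this] at h2
        omega

/-- **Step 0**: a quaternion group `R` normalising the quaternion group `Q`, with different involutions, and such that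
the elements of order at least `4` of `Q` commuting with the involution of `R` normalise `R`, centralises `Q` -/
theorem commute_of_normalizes {Q R : Subgroup G} (hQ : IsQ Q) (hR : IsQ R) {z z' : G}
    (hz : z ∈ Q) (hz2 : orderOf z = 2)
    (hz' : z' ∈ R) (hz2' : orderOf z' = 2) (hzu' : ∀ t ∈ R, orderOf t = 2 → t = z')
    (hne : z ≠ z') (hRQ : R ≤ Subgroup.normalizer (Q : Set G))
    (h3 : ∀ x ∈ Q, 4 ≤ orderOf x → x * z' = z' * x → x ∈ Subgroup.normalizer (R : Set G)) :
    ∀ a ∈ R, ∀ b ∈ Q, a * b = b * a := by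
  have hzu : ∀ t ∈ Q, orderOf t = 2 → t = z := by
    obtain ⟨z1, hz1, hz12, hz1u⟩ := hQ.exists_inv
    have := hz1u z hz hz2
    subst this
    exact hz1u
  have hconj : ∀ w ∈ R, ∀ x ∈ Q, w * x * w⁻¹ ∈ Q := fun w hw x hx =>
    (Subgroup.mem_normalizer_iff.mp (hRQ hw) x).mp hx
  -- trivial intersection
  have hinf : ∀ g ∈ Q, g ∈ R → g = 1 := by
    intro g hgQ hgR
    by_contra hg1
    have h1 := hQ.mem_zpowers hzu hgQ hg1
    have h2 : z ∈ R := (Subgroup.zpowers_le.mpr hgR) h1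
    exact hne (hzu' z h2 hz2)
  have hcomm1 : ∀ x ∈ Q, x ∈ Subgroup.normalizer (R : Set G) → ∀ w ∈ R, w * x = x * w := by
    intro x hx hxR w hw
    have h1 : w * x * w⁻¹ * x⁻¹ ∈ Q := Q.mul_mem (hconj w hw x hx) (Q.inv_mem hx)
    have h2 : w * x * w⁻¹ * x⁻¹ ∈ R := by
      have h4 : x * w⁻¹ * x⁻¹ ∈ R := (Subgroup.mem_normalizer_iff.mp hxR w⁻¹).mp (R.inv_mem hw)
      have h5 := R.mul_mem hw h4
      simpa only [mul_assoc] using h5
    have h4 := hinf _ h1 h2
    rw [mul_inv_eq_one, mul_inv_eq_iff_eq_mul] at h4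
    exact h4
  -- the involution `z'` as a commutator
  obtain ⟨y, hy, hy4⟩ := hR.exists_four
  obtain ⟨y₁, hy₁, hinv⟩ := hR.exists_inverts y hy
  have hz'eq : z' = (y₁ * y) * (y * y₁)⁻¹ := by
    have h1 : y ^ 2 = z' := sq_eq hzu' hy hy4
    have h2 : z'⁻¹ = z' := by
      have h5 : z' * z' = 1 := by
        rw [← sq, ← hz2']
        exact pow_orderOf_eq_one z'
      exact inv_eq_of_mul_eq_one_left h5
    calc z' = z'⁻¹ := h2.symm
      _ = (y ^ 2)⁻¹ := by rw [h1]
      _ = y⁻¹ * y⁻¹ := by rw [sq, mul_inv_rev]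
      _ = (y₁ * y * y₁⁻¹) * y⁻¹ := by rw [hinv]
      _ = _ := by group
  -- a sufficient condition for `z'` to commute with `b`
  have key : ∀ b : G, (y₁ * y) * ((y * y₁)⁻¹ * b * (y * y₁)) * (y₁ * y)⁻¹ =
      (y * y₁) * ((y * y₁)⁻¹ * b * (y * y₁)) * (y * y₁)⁻¹ → z' * b = b * z' := by
    intro b hb
    have h1 : z' * b * z'⁻¹ = b := by
      rw [hz'eq]
      calc _ = (y₁ * y) * ((y * y₁)⁻¹ * b * (y * y₁)) * (y₁ * y)⁻¹ := by group
        _ = _ := hb
        _ = b := by group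
    rw [mul_inv_eq_iff_eq_mul] at h1
    exact h1
  obtain ⟨x, hx, hx4, hcard, hxR⟩ := hQ.exists_cyclic hR.isPGroup hRQ
  have hxRz : ∀ w ∈ R, ∀ c ∈ Subgroup.zpowers x, w * c * w⁻¹ ∈ Subgroup.zpowers x := by
    rintro w hw c ⟨k, rfl⟩
    have h1 : w * x ^ k * w⁻¹ = (w * x * w⁻¹) ^ k := by
      rw [← MulAut.conj_apply, ← MulAut.conj_apply, map_zpow]
    change w * x ^ k * w⁻¹ ∈ _
    rw [h1]
    exact Subgroup.zpow_mem _ (hxR w hw) k
  have hpow : ∀ w ∈ R, ∃ i : ℤ, ∀ c ∈ Subgroup.zpowers x, w * c * w⁻¹ = c ^ i := by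
    intro w hw
    obtain ⟨i, hi⟩ := hxR w hw
    refine ⟨i, ?_⟩
    rintro c ⟨k, rfl⟩
    change x ^ i = _ at hi
    have h1 : w * x ^ k * w⁻¹ = (w * x * w⁻¹) ^ k := by
      rw [← MulAut.conj_apply, ← MulAut.conj_apply, map_zpow]
    change w * x ^ k * w⁻¹ = (x ^ k) ^ i
    rw [h1, ← hi, ← zpow_mul, ← zpow_mul, mul_comm]
  have hxz : z' * x = x * z' := by
    apply key
    set c := (y * y₁)⁻¹ * x * (y * y₁) with hc
    have hcx : c ∈ Subgroup.zpowers x := by
      have := hxRz (y * y₁)⁻¹ (R.inv_mem (R.mul_mem hy hy₁)) x (Subgroup.mem_zpowers x)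
      rwa [inv_inv] at this
    obtain ⟨i, hi⟩ := hpow y hy
    obtain ⟨j, hj⟩ := hpow y₁ hy₁
    calc y₁ * y * c * (y₁ * y)⁻¹ = y₁ * (y * c * y⁻¹) * y₁⁻¹ := by group
      _ = (c ^ i) ^ j := by rw [hi c hcx, hj _ (Subgroup.zpow_mem _ hcx i)]
      _ = (c ^ j) ^ i := by rw [← zpow_mul, ← zpow_mul, mul_comm]
      _ = y * (y₁ * c * y₁⁻¹) * y⁻¹ := by rw [hj c hcx, hi _ (Subgroup.zpow_mem _ hcx j)]
      _ = _ := by group
  have hxN := h3 x hx hx4 hxz.symm
  have hxc := hcomm1 x hx hxN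
  have hxcz : ∀ c ∈ Subgroup.zpowers x, ∀ w ∈ R, w * c = c * w := by
    rintro c ⟨k, rfl⟩ w hw
    exact (Commute.zpow_right (show Commute w x from hxc w hw) k)
  -- index two
  have hidx : ∀ u ∈ Q, ∀ v ∈ Q, u ∉ Subgroup.zpowers x → v ∉ Subgroup.zpowers x →
      u * v⁻¹ ∈ Subgroup.zpowers x := by
    intro u hu v hv hux hvx
    have hfin := hQ.finite
    set H : Subgroup Q := Subgroup.zpowers (⟨x, hx⟩ : Q) with hH
    have hHm : ∀ g : Q, g ∈ H ↔ (g : G) ∈ Subgroup.zpowers x := by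
      intro g
      constructor
      · rintro ⟨k, rfl⟩
        exact ⟨k, rfl⟩
      · rintro ⟨k, hk⟩
        exact ⟨k, Subtype.ext hk⟩
    have hHi : H.index = 2 := by
      have h1 := H.card_mul_index
      rw [hH, Nat.card_zpowers, Subgroup.orderOf_mk, ← hcard, mul_comm] at h1
      exact Nat.eq_of_mul_eq_mul_right (by omega) h1
    have h1 : (⟨u, hu⟩ * ⟨v, hv⟩⁻¹ : Q) ∈ H := by
      rw [Subgroup.mul_mem_iff_of_index_two hHi, hHm, H.inv_mem_iff, hHm]
      exact iff_of_false hux hvx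
    exact (hHm _).mp h1
  have hz'Q : ∀ b ∈ Q, z' * b = b * z' := by
    intro b hb
    by_cases hbx : b ∈ Subgroup.zpowers x
    · exact hxcz b hbx z' hz'
    · apply key
      set c := (y * y₁)⁻¹ * b * (y * y₁) with hc
      have hcQ : c ∈ Q := by
        have := hconj (y * y₁)⁻¹ (R.inv_mem (R.mul_mem hy hy₁)) b hb
        rwa [inv_inv] at this
      have hcx : c ∉ Subgroup.zpowers x := by
        intro h
        apply hbx
        have h1 := hxRz (y * y₁) (R.mul_mem hy hy₁) c h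
        have h2 : y * y₁ * c * (y * y₁)⁻¹ = b := by rw [hc]; group
        rwa [h2] at h1
      have hcoset : ∀ w ∈ R, ∃ d ∈ Subgroup.zpowers x, w * c * w⁻¹ = d * c := by
        intro w hw
        have h1 : w * c * w⁻¹ ∉ Subgroup.zpowers x := by
          intro h
          apply hcx
          have h4 := hxRz w⁻¹ (R.inv_mem hw) _ h
          have h5 : w⁻¹ * (w * c * w⁻¹) * w⁻¹⁻¹ = c := by group
          rwa [h5] at h4
        exact ⟨_, hidx _ (hconj w hw c hcQ) c hcQ h1 hcx, by rw [inv_mul_cancel_right]⟩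
      obtain ⟨d, hd, hdc⟩ := hcoset y hy
      obtain ⟨d', hd', hdc'⟩ := hcoset y₁ hy₁
      have hdd : d * d' = d' * d := by
        obtain ⟨k, rfl⟩ := hd
        obtain ⟨l, rfl⟩ := hd'
        exact (Commute.refl x).zpow_zpow k l
      have hd1 : y₁ * d * y₁⁻¹ = d := by
        rw [hxcz d hd y₁ hy₁, mul_inv_cancel_right]
      have hd2 : y * d' * y⁻¹ = d' := by
        rw [hxcz d' hd' y hy, mul_inv_cancel_right]
      calc y₁ * y * c * (y₁ * y)⁻¹ = y₁ * (y * c * y⁻¹) * y₁⁻¹ := by group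
        _ = (y₁ * d * y₁⁻¹) * (y₁ * c * y₁⁻¹) := by rw [hdc]; group
        _ = (y * d' * y⁻¹) * (y * c * y⁻¹) := by rw [hd1, hd2, hdc, hdc', ← mul_assoc, hdd, mul_assoc]
        _ = y * (d' * c) * y⁻¹ := by group
        _ = _ := by rw [← hdc']; group
  have hQR : Q ≤ Subgroup.normalizer (R : Set G) := by
    apply hQ.le_of_four
    intro b hb hb4
    exact h3 b hb hb4.ge (hz'Q b hb).symm
  intro w hw b hb
  exact hcomm1 b hb (hQR hb) w hw

end IsQ

end Cfsg.Agent.Cit.AutQuat
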