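import Cfsg.Agent.Cit.AutInv
import Cfsg.Agent.Cit.OneBasic

/-!
# The action of `N(K)` on `K / O(K)`, `K` of type `SL(2,F)`, `2.A₇`

`act K : N(K) →* Aut (K / O(K))`, `Triv a K`: `a` acts trivially on `K / O(K)`.

* (A0) `triv_of_cent`: a 2-element of `N(K)` centralising a Sylow 2-subgroup of `K` is trivial;
* (A1) `triv_of_pair`, `triv_zz`: if `J` (of this type, or generated by its elements of odd order and containing the
  quaternion pair `a`, `b`) normalises `K`, then `zz J` (`a²`) is trivial on `K`;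
* (A2) `exists_inverted`: `t ∈ N(K)`, `t² = 1`, not trivial on `K`, inverts some `x ∈ K`, `x² = zz K`;
* (A3) `triv_or`: `t ∈ N(K)`, `t² = 1`, trivial on `C_K(x)` modulo `O(K)`, `x² = zz K`: then `t` or `x⁻¹ t` is trivial on `K`;
* `conj_four`: `x, y ∈ K`, `x² = y² = zz K` are conjugate in `K`.
-/

set_option autoImplicit false
set_option linter.style.haveILetI false

namespace Cfsg.Agent.Cit.AutAct

open Subgroup Cfsg
open scoped commutatorElement

variable {G : Type*} [Group G]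

/-- `a` acts trivially on `K / O(K)` -/
def Triv (a : G) (K : Subgroup G) : Prop := ∀ k ∈ K, a * k * a⁻¹ * k⁻¹ ∈ OO K

/-- the action of `N(K)` on `K / O(K)` -/
noncomputable def act (K : Subgroup G) : ↥(normalizer (K : Set G)) →* MulAut (↥K ⧸ oddCore ↥K) where
  toFun g := QuotientGroup.congr _ _ (normalizerMonoidHom K g) (Lib.Cores.map_equiv_pPrimeCore _ 2)
  map_one' := by
    ext x
    induction x using QuotientGroup.induction_on with
    | H x =>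
      show QuotientGroup.mk (normalizerMonoidHom K 1 x) = QuotientGroup.mk x
      rw [map_one]; rfl
  map_mul' a b := by
    ext x
    induction x using QuotientGroup.induction_on with
    | H x =>
      show QuotientGroup.mk (normalizerMonoidHom K (a * b) x) =
        QuotientGroup.mk (normalizerMonoidHom K a (normalizerMonoidHom K b x))
      rw [map_mul]; rfl

variable {K : Subgroup G}

theorem conj_mem {g x : G} (hg : g ∈ normalizer (K : Set G)) (hx : x ∈ K) : g * x * g⁻¹ ∈ K :=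
  (mem_normalizer_iff.1 hg x).1 hx

theorem act_mk {g : G} (hg : g ∈ normalizer (K : Set G)) {x : G} (hx : x ∈ K) :
    act K ⟨g, hg⟩ (QuotientGroup.mk ⟨x, hx⟩) = QuotientGroup.mk ⟨g * x * g⁻¹, conj_mem hg hx⟩ := rfl

theorem mk_eq_iff {x y : G} (hx : x ∈ K) (hy : y ∈ K) :
    (QuotientGroup.mk ⟨x, hx⟩ : ↥K ⧸ oddCore ↥K) = QuotientGroup.mk ⟨y, hy⟩ ↔ x⁻¹ * y ∈ OO K := by
  rw [QuotientGroup.eq]
  constructor
  · intro h
    exact ⟨_, h, rfl⟩
  · rintro ⟨w, hw, hwx⟩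
    have : w = ⟨x, hx⟩⁻¹ * ⟨y, hy⟩ := Subtype.ext hwx
    rw [← this]; exact hw

theorem mk_eq_iff' {x y : G} (hx : x ∈ K) (hy : y ∈ K) :
    (QuotientGroup.mk ⟨x, hx⟩ : ↥K ⧸ oddCore ↥K) = QuotientGroup.mk ⟨y, hy⟩ ↔ x * y⁻¹ ∈ OO K := by
  rw [eq_comm, mk_eq_iff]
  have hn := le_normalizer_OO K hy
  rw [mem_normalizer_iff] at hn
  rw [hn (y⁻¹ * x)]
  rw [show y * (y⁻¹ * x) * y⁻¹ = x * y⁻¹ by group]

theorem act_eq_one_iff {g : G} (hg : g ∈ normalizer (K : Set G)) : act K ⟨g, hg⟩ = 1 ↔ Triv g K := by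
  constructor
  · intro h k hk
    have h1 := DFunLike.congr_fun h (QuotientGroup.mk ⟨k, hk⟩)
    rw [act_mk, MulAut.one_apply, mk_eq_iff'] at h1
    exact h1
  · intro h
    ext x
    induction x using QuotientGroup.induction_on with
    | H x =>
      obtain ⟨x, hx⟩ := x
      rw [act_mk, MulAut.one_apply, mk_eq_iff']
      exact h x hx

theorem eq_one_of_OO [Finite G] {x : G} (hx : x ∈ OO K) {n : ℕ} (h : x ^ 2 ^ n = 1) : x = 1 := by
  obtain ⟨w, hw, rfl⟩ := hx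
  have h1 : orderOf w ∣ 2 ^ n := by
    apply orderOf_dvd_of_pow_eq_one
    exact Subtype.ext h
  have h2 := orderOf_dvd_natCard (⟨w, hw⟩ : oddCore ↥K)
  rw [Subgroup.orderOf_mk] at h2
  have h3 : Nat.Coprime (2 ^ n) (Nat.card (oddCore ↥K)) :=
    Nat.Coprime.pow_left n (Nat.coprime_two_left.mpr (Ty.odd_oddCore K))
  have h4 := orderOf_eq_one_iff.mp (Nat.eq_one_of_dvd_coprimes h3 h1 h2)
  rw [h4]; rfl

/-- the involution of the quotient -/
theorem tyZ [Finite G] (h : IsType K) :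
    AutFacts.TyZ (↥K ⧸ oddCore ↥K) (QuotientGroup.mk ⟨zz K, (Ty.zz_of_isType h).1⟩) := by
  obtain ⟨hz, h2⟩ := Ty.zz_of_isType h
  have hzz : zz K * zz K = 1 := Ty.mul_self_of_orderOf h2
  refine ⟨h, orderOf_eq_prime ?_ ?_⟩
  · rw [pow_two, ← QuotientGroup.mk_mul]
    have h3 : (⟨zz K, hz⟩ : K) * ⟨zz K, hz⟩ = 1 := Subtype.ext hzz
    rw [h3]; rfl
  · intro h3
    have h4 : (⟨zz K, hz⟩ : K) ∈ oddCore ↥K := (QuotientGroup.eq_one_iff _).1 h3
    have h5 := eq_one_of_OO (K := K) (x := zz K) ⟨_, h4, rfl⟩ (n := 1) (by rw [pow_one, pow_two, hzz])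
    rw [h5, orderOf_one] at h2
    omega

/-- the image of a Sylow 2-subgroup in `K / O(K)` -/
theorem exists_sylow [Finite G] {Q : Subgroup G} (hQ : Syl Q K) :
    ∃ P : Sylow 2 (↥K ⧸ oddCore ↥K), (∀ x (hx : x ∈ Q),
      (QuotientGroup.mk ⟨x, hQ.1 hx⟩ : ↥K ⧸ oddCore ↥K) ∈ P) ∧
      (∀ y ∈ P, ∃ x, ∃ hx : x ∈ Q, y = QuotientGroup.mk ⟨x, hQ.1 hx⟩) := by
  haveI : Fact (Nat.Prime 2) := ⟨Nat.prime_two⟩
  obtain ⟨S, hS⟩ := hQ.exists_sylow
  refine ⟨S.mapSurjective (QuotientGroup.mk'_surjective (oddCore ↥K)), ?_, ?_⟩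
  · intro x hx
    refine ⟨⟨x, hQ.1 hx⟩, ?_, rfl⟩
    show (⟨x, hQ.1 hx⟩ : K) ∈ (S : Subgroup K)
    rw [hS]; exact hx
  · rintro _ ⟨⟨x, hx⟩, hxS, rfl⟩
    have h1 : (⟨x, hx⟩ : K) ∈ (S : Subgroup K) := hxS
    rw [hS] at h1
    exact ⟨x, h1, rfl⟩

/-- Sylow 2-subgroups of `K` are quaternion -/
theorem isQ [Finite G] (h : IsType K) {Q : Subgroup G} (hQ : Syl Q K) : AutQuat.IsQ Q := by
  obtain ⟨P, hP1, hP2⟩ := exists_sylow hQ
  obtain ⟨n, ⟨e⟩⟩ := (tyZ h).isQ P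
  let f : Q →* (P : Subgroup (↥K ⧸ oddCore ↥K)) :=
    { toFun := fun x => ⟨QuotientGroup.mk ⟨x, hQ.1 x.2⟩, hP1 x x.2⟩
      map_one' := rfl
      map_mul' := fun x y => rfl }
  have hf : Function.Bijective f := by
    constructor
    · rw [injective_iff_map_eq_one]
      rintro ⟨x, hx⟩ h1
      have h2 : (QuotientGroup.mk ⟨x, hQ.1 hx⟩ : ↥K ⧸ oddCore ↥K) = 1 := congrArg Subtype.val h1
      have h3 : (⟨x, hQ.1 hx⟩ : K) ∈ oddCore ↥K := (QuotientGroup.eq_one_iff _).1 h2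
      obtain ⟨k, hk⟩ := hQ.2.1 ⟨x, hx⟩
      have h4 : x ^ 2 ^ k = 1 := congrArg Subtype.val hk
      exact Subtype.ext (eq_one_of_OO (K := K) ⟨_, h3, rfl⟩ h4)
    · rintro ⟨y, hy⟩
      obtain ⟨x, hx, rfl⟩ := hP2 y hy
      exact ⟨⟨x, hx⟩, rfl⟩
  exact ⟨n, ⟨(MulEquiv.ofBijective f hf).trans e⟩⟩

/-- (A0) -/
theorem triv_of_cent [Finite G] (h : IsType K) {Q : Subgroup G} (hQ : Syl Q K) {f : G}
    (hf : f ∈ normalizer (K : Set G)) {b : ℕ} (hf2 : f ^ 2 ^ b = 1) (hfQ : ∀ x ∈ Q, f * x = x * f) : Triv f K := by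
  rw [← act_eq_one_iff hf]
  obtain ⟨P, hP1, hP2⟩ := exists_sylow hQ
  refine (tyZ h).eq_one_of_sylow P (k := b) ?_ ?_
  · rw [← map_pow]
    have h1 : (⟨f, hf⟩ : ↥(normalizer (K : Set G))) ^ 2 ^ b = 1 := Subtype.ext hf2
    rw [h1, map_one]
  · intro y hy
    obtain ⟨x, hx, rfl⟩ := hP2 y hy
    rw [act_mk]
    congr 2
    rw [hfQ x hx, mul_inv_cancel_right]

/-- 2-elements of a group generated by elements of odd order lie in the commutator subgroup -/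
theorem mem_commutator_of_tyTwo [Finite G] {J : Subgroup G} (hJ : TyTwo J) {x : G} (hx : x ∈ J) {k : ℕ}
    (hx2 : x ^ 2 ^ k = 1) : (⟨x, hx⟩ : J) ∈ commutator J := by
  rw [← QuotientGroup.eq_one_iff]
  -- all elements of the commutator quotient have odd order
  have key : ∀ y : J, Odd (orderOf (QuotientGroup.mk y : J ⧸ commutator J)) := by
    rintro ⟨y, hy⟩
    have h1 := hJ hy
    suffices h2 : ∀ hy : y ∈ J, Odd (orderOf (QuotientGroup.mk (⟨y, hy⟩ : J) : J ⧸ commutator J)) from h2 hy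
    refine closure_induction (p := fun y _ => ∀ hy : y ∈ J,
      Odd (orderOf (QuotientGroup.mk (⟨y, hy⟩ : J) : J ⧸ commutator J))) ?_ ?_ ?_ ?_ h1
    · rintro c ⟨hc, hodd⟩ hc'
      refine Odd.of_dvd_nat hodd ?_
      apply orderOf_dvd_of_pow_eq_one
      rw [← QuotientGroup.mk_pow]
      have : (⟨c, hc'⟩ : J) ^ orderOf c = 1 := Subtype.ext (pow_orderOf_eq_one c)
      rw [this]; rfl
    · intro h1
      have : (⟨1, h1⟩ : J) = 1 := rfl
      rw [this]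
      have h2 : (QuotientGroup.mk (1 : J) : J ⧸ commutator J) = 1 := rfl
      rw [h2, orderOf_one]
      exact odd_one
    · intro a b hac hbc ha hb hab
      have haJ : a ∈ J := by
        have h3 : closure {c | c ∈ J ∧ Odd (orderOf c)} ≤ J := by
          rw [closure_le]; exact fun c hc => hc.1
        exact h3 hac
      have hbJ : b ∈ J := by
        have h3 : closure {c | c ∈ J ∧ Odd (orderOf c)} ≤ J := by
          rw [closure_le]; exact fun c hc => hc.1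
        exact h3 hbc
      have h4 : (⟨a * b, hab⟩ : J) = ⟨a, haJ⟩ * ⟨b, hbJ⟩ := rfl
      rw [h4, QuotientGroup.mk_mul]
      have hcom : Commute (QuotientGroup.mk (⟨a, haJ⟩ : J) : J ⧸ commutator J) (QuotientGroup.mk ⟨b, hbJ⟩) :=
        (mul_comm (G := Abelianization J) _ _)
      exact Odd.of_dvd_nat ((ha haJ).mul (hb hbJ)) hcom.orderOf_mul_dvd_mul_orderOf
    · intro a hac ha hai
      have haJ : a ∈ J := by
        have := J.inv_mem hai
        rwa [inv_inv] at this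
      have h4 : (⟨a⁻¹, hai⟩ : J) = (⟨a, haJ⟩ : J)⁻¹ := rfl
      rw [h4, QuotientGroup.mk_inv, orderOf_inv]
      exact ha haJ
  have h1 : orderOf (QuotientGroup.mk (⟨x, hx⟩ : J) : J ⧸ commutator J) ∣ 2 ^ k := by
    apply orderOf_dvd_of_pow_eq_one
    rw [← QuotientGroup.mk_pow]
    have : (⟨x, hx⟩ : J) ^ 2 ^ k = 1 := Subtype.ext hx2
    rw [this]; rfl
  have h3 : Nat.Coprime (2 ^ k) (orderOf (QuotientGroup.mk (⟨x, hx⟩ : J) : J ⧸ commutator J)) :=
    Nat.Coprime.pow_left k (Nat.coprime_two_left.mpr (key _))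
  exact orderOf_eq_one_iff.mp (Nat.eq_one_of_dvd_coprimes h3 h1 dvd_rfl)

/-- (A1) the square of a quaternion pair of `J ≤ N(K)` is trivial on `K` -/
theorem triv_of_pair [Finite G] (h : IsType K) {J : Subgroup G} (hJ : J ≤ normalizer (K : Set G))
    (hJ2 : TyTwo J) {a b : G} (ha : a ∈ J) (hb : b ∈ J) {m n : ℕ} (ham : a ^ 2 ^ m = 1)
    (hbn : b ^ 2 ^ n = 1) (h1 : a * a = b * b) (h2 : b * a * b⁻¹ = a⁻¹) : Triv (a * a) K := by
  have haa : a * a ∈ normalizer (K : Set G) := hJ (J.mul_mem ha ha)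
  rw [← act_eq_one_iff haa]
  have h3 := (tyZ h).map_sq_eq_one ((act K).comp (inclusion hJ)) (a := ⟨a, ha⟩) (b := ⟨b, hb⟩)
    (mem_commutator_of_tyTwo hJ2 ha ham) (mem_commutator_of_tyTwo hJ2 hb hbn)
    (Subtype.ext h1) (Subtype.ext h2)
  exact h3

/-- (A1) -/
theorem triv_zz [Finite G] (h : IsType K) {J : Subgroup G} (hT : IsType J) (hu : ∀ t ∈ J, orderOf t = 2 → t = zz J)
    (hJ : J ≤ normalizer (K : Set G)) : Triv (zz J) K := by
  obtain ⟨Q, hQ⟩ := Hyp.exists_syl J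
  obtain ⟨c, v, z, n, hc⟩ := exists_gq (isQ hT hQ)
  have hz : z = zz J := hu z (hQ.1 hc.z_mem) hc.orderOf_z
  subst hz
  have ha : c ^ 2 ^ n ∈ J := J.pow_mem (hQ.1 hc.c_mem) _
  have hv : v ∈ J := hQ.1 hc.v_mem
  rw [← hc.four]
  refine triv_of_pair h hJ hT.tyTwo ha hv (m := 2) (n := 2) ?_ ?_ (by rw [hc.four, hc.v_sq]) ?_
  · rw [← pow_mul, ← pow_add, ← hc.ord, pow_orderOf_eq_one]
  · have h3 : v ^ 2 ^ 2 = (v * v) * (v * v) := by
      norm_num [pow_succ]; group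
    rw [h3, hc.v_sq, hc.z_mul]
  · rw [hc.conj_pow]; group

/-- (A2) -/
theorem exists_inverted [Finite G] (h : IsType K) (hu : ∀ t ∈ K, orderOf t = 2 → t = zz K) {t : G}
    (ht : t ∈ normalizer (K : Set G)) (htt : t * t = 1) (hnt : ¬ Triv t K) :
    ∃ x ∈ K, x * x = zz K ∧ t * x * t⁻¹ = x⁻¹ := by
  have htp : t ^ 2 ^ 1 = 1 := by rw [pow_one, pow_two, htt]
  have hp : IsPGroup 2 (zpowers t) := by
    rintro ⟨_, j, rfl⟩
    refine ⟨1, Subtype.ext ?_⟩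
    show (t ^ j) ^ 2 ^ 1 = 1
    rw [← zpow_natCast, ← zpow_mul, mul_comm, zpow_mul, zpow_natCast, htp, one_zpow]
  obtain ⟨Q, hQ, hA⟩ := OneBasic.exists_syl_normalized hp (L := K) (by rwa [zpowers_le])
  obtain ⟨x, hx, h1, h2⟩ := AutFacts.exists_inverted_conj (isQ h hQ) (z := zz K)
    (fun u hu' hu2 => hu u (hQ.1 hu') hu2) (hA (mem_zpowers t)) htt (by
      by_contra hno
      push Not at hno
      exact hnt (triv_of_cent h hQ ht htp hno))
  exact ⟨x, hQ.1 hx, h1, h2⟩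

theorem isPGroup_zpowers {x : G} {k : ℕ} (h : x ^ 2 ^ k = 1) : IsPGroup 2 (zpowers x) := by
  rintro ⟨_, j, rfl⟩
  refine ⟨k, Subtype.ext ?_⟩
  show (x ^ j) ^ 2 ^ k = 1
  rw [← zpow_natCast, ← zpow_mul, mul_comm, zpow_mul, zpow_natCast, h, one_zpow]

/-- elements of `K` commuting with `x` modulo `O(K)` are congruent to elements commuting with `x`, for a 2-element
`x ∈ K` -/
theorem exists_comm [Finite G] {x c : G} (hx : x ∈ K) {k : ℕ} (hx2 : x ^ 2 ^ k = 1) (hc : c ∈ K)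
    (h : x * c * x⁻¹ * c⁻¹ ∈ OO K) : ∃ c' ∈ K, c' * x = x * c' ∧ c⁻¹ * c' ∈ OO K := by
  haveI : Fact (Nat.Prime 2) := ⟨Nat.prime_two⟩
  have hn := le_normalizer_OO K
  have hxn := hn hx
  have key : ∀ a ∈ zpowers x, c⁻¹ * (a * c * a⁻¹) ∈ OO K := by
    have h2 : (QuotientGroup.mk ⟨x, hx⟩ : ↥K ⧸ oddCore ↥K) * QuotientGroup.mk ⟨c, hc⟩ =
        QuotientGroup.mk ⟨c, hc⟩ * QuotientGroup.mk ⟨x, hx⟩ := by
      have h3 := (mk_eq_iff' (K.mul_mem (K.mul_mem hx hc) (K.inv_mem hx)) hc).2 h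
      have h4 : (⟨x * c * x⁻¹, K.mul_mem (K.mul_mem hx hc) (K.inv_mem hx)⟩ : K) =
        ⟨x, hx⟩ * ⟨c, hc⟩ * (⟨x, hx⟩ : K)⁻¹ := rfl
      rw [h4, QuotientGroup.mk_mul, QuotientGroup.mk_mul, QuotientGroup.mk_inv, mul_inv_eq_iff_eq_mul] at h3
      exact h3
    rintro _ ⟨j, rfl⟩
    have hxj : x ^ j ∈ K := K.zpow_mem hx j
    show c⁻¹ * (x ^ j * c * (x ^ j)⁻¹) ∈ OO K
    rw [← mk_eq_iff hc (K.mul_mem (K.mul_mem hxj hc) (K.inv_mem hxj))]
    have h4 : (⟨x ^ j * c * (x ^ j)⁻¹, K.mul_mem (K.mul_mem hxj hc) (K.inv_mem hxj)⟩ : K) =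
        (⟨x, hx⟩ : K) ^ j * ⟨c, hc⟩ * ((⟨x, hx⟩ : K) ^ j)⁻¹ := by
      apply Subtype.ext
      simp
    have h5 : Commute (QuotientGroup.mk ⟨x, hx⟩ : ↥K ⧸ oddCore ↥K) (QuotientGroup.mk ⟨c, hc⟩) := h2
    rw [h4, QuotientGroup.mk_mul, QuotientGroup.mk_mul, QuotientGroup.mk_inv, QuotientGroup.mk_zpow,
      (h5.zpow_left j).eq, mul_inv_cancel_right]
  obtain ⟨c', hc', h1⟩ := Lib.CoprimeCommutator.exists_fixed_in_coset 2 (zpowers x) (OO K)
    (isPGroup_zpowers hx2) (by rw [zpowers_le]; exact hxn) (odd_OO K) c key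
  refine ⟨c', ?_, ?_, h1⟩
  · have h2 := K.mul_mem hc (OO_le K h1)
    rwa [mul_inv_cancel_left] at h2
  · exact ((mem_centralizer_iff.1 hc') x (mem_zpowers x)).symm

/-- (A3) -/
theorem triv_or [Finite G] (h : IsType K) {x t : G} (hx : x ∈ K) (hxx : x * x = zz K)
    (ht : t ∈ normalizer (K : Set G)) (htt : t * t = 1)
    (hf : ∀ c ∈ K, c * x = x * c → t * c * t⁻¹ * c⁻¹ ∈ OO K) : Triv t K ∨ Triv (x⁻¹ * t) K := by
  have hz2 : zz K * zz K = 1 := Ty.mul_self_of_orderOf (Ty.zz_of_isType h).2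
  have hx4 : x ^ 2 ^ 2 = 1 := by
    have h3 : x ^ 2 ^ 2 = (x * x) * (x * x) := by
      norm_num [pow_succ]; group
    rw [h3, hxx, hz2]
  have hxN : x ∈ normalizer (K : Set G) := le_normalizer hx
  have hα : act K ⟨t, ht⟩ * act K ⟨t, ht⟩ = 1 := by
    rw [← map_mul]
    have h1 : (⟨t, ht⟩ : ↥(normalizer (K : Set G))) * ⟨t, ht⟩ = 1 := Subtype.ext htt
    rw [h1, map_one]
  rcases (tyZ h).eq_conj_of_fix hα (x := QuotientGroup.mk ⟨x, hx⟩) (by
      rw [← QuotientGroup.mk_mul]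
      congr 1
      exact Subtype.ext hxx) (by
      intro c hcx
      induction c using QuotientGroup.induction_on with
      | H c =>
        obtain ⟨c, hc⟩ := c
        have h1 : x * c * x⁻¹ * c⁻¹ ∈ OO K := by
          rw [← mk_eq_iff' (K.mul_mem (K.mul_mem hx hc) (K.inv_mem hx)) hc]
          have h4 : (⟨x * c * x⁻¹, K.mul_mem (K.mul_mem hx hc) (K.inv_mem hx)⟩ : K) =
            ⟨x, hx⟩ * ⟨c, hc⟩ * (⟨x, hx⟩ : K)⁻¹ := rfl
          rw [h4, QuotientGroup.mk_mul, QuotientGroup.mk_mul, QuotientGroup.mk_inv, ← hcx,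
            mul_inv_cancel_right]
        obtain ⟨c', hc', hcx', hcc⟩ := exists_comm hx hx4 hc h1
        have h2 : (QuotientGroup.mk ⟨c, hc⟩ : ↥K ⧸ oddCore ↥K) = QuotientGroup.mk ⟨c', hc'⟩ :=
          (mk_eq_iff hc hc').2 hcc
        rw [h2, act_mk, mk_eq_iff']
        exact hf c' hc' hcx') with h1 | h1
  · exact Or.inl ((act_eq_one_iff ht).1 h1)
  · right
    have hxt : x⁻¹ * t ∈ normalizer (K : Set G) := mul_mem (inv_mem hxN) ht
    rw [← act_eq_one_iff hxt]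
    have h2 : (⟨x⁻¹ * t, hxt⟩ : ↥(normalizer (K : Set G))) = ⟨x, hxN⟩⁻¹ * ⟨t, ht⟩ := rfl
    have h3 : act K ⟨x, hxN⟩ = MulAut.conj (QuotientGroup.mk ⟨x, hx⟩) := by
      ext y
      induction y using QuotientGroup.induction_on with
      | H y => rfl
    rw [h2, map_mul, map_inv, h1, h3, inv_mul_cancel]

theorem relIndex_sup_dvd_card [Finite G] {A N : Subgroup G} (h : A ≤ normalizer (N : Set G)) :
    A.relIndex (N ⊔ A) ∣ Nat.card N := by
  have h1 : N.relIndex (N ⊔ A) = N.relIndex A := LB.relIndex_sup_of_normalizes h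
  have h2 : Nat.card A * A.relIndex (N ⊔ A) = Nat.card (N ⊔ A : Subgroup G) := by
    rw [← relIndex_bot_left A, relIndex_mul_relIndex ⊥ _ _ bot_le le_sup_right, relIndex_bot_left]
  have h3 : Nat.card N * N.relIndex (N ⊔ A) = Nat.card (N ⊔ A : Subgroup G) := by
    rw [← relIndex_bot_left N, relIndex_mul_relIndex ⊥ _ _ bot_le le_sup_left, relIndex_bot_left]
  have h4 : N.relIndex A ∣ Nat.card A := relIndex_dvd_card N A
  obtain ⟨d, hd⟩ := h4
  rw [h1, ← h2] at h3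
  have h5 : Nat.card A * A.relIndex (N ⊔ A) * d = Nat.card A * Nat.card N := by
    rw [← h3, mul_assoc, ← hd, mul_comm]
  rw [mul_assoc] at h5
  have h6 := Nat.eq_of_mul_eq_mul_left Nat.card_pos h5
  exact ⟨d, h6.symm⟩

/-- 2-elements of `K` which are congruent modulo `O(K)` are conjugate -/
theorem exists_conj_of_mod [Finite G] {x y : G} (hx : x ∈ K) (hy : y ∈ K) {k : ℕ} (hx2 : x ^ 2 ^ k = 1)
    (hy2 : y ^ 2 ^ k = 1) (h : x⁻¹ * y ∈ OO K) : ∃ g ∈ K, g * x * g⁻¹ = y := by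
  haveI : Fact (Nat.Prime 2) := ⟨Nat.prime_two⟩
  have hn := le_normalizer_OO K
  have hyn : zpowers y ≤ normalizer (OO K : Set G) := by rw [zpowers_le]; exact hn hy
  have hxn : zpowers x ≤ normalizer (OO K : Set G) := by rw [zpowers_le]; exact hn hx
  have hyH : y ∈ OO K ⊔ zpowers y := mem_sup_right (mem_zpowers y)
  have hxH : x ∈ OO K ⊔ zpowers y := by
    have h1 : x = y * (x⁻¹ * y)⁻¹ := by group
    rw [h1]
    exact mul_mem hyH (inv_mem (mem_sup_left h))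
  have hyH' : y ∈ OO K ⊔ zpowers x := by
    have h1 : y = x * (x⁻¹ * y) := by group
    rw [h1]
    exact mul_mem (mem_sup_right (mem_zpowers x)) (mem_sup_left h)
  have hHH : OO K ⊔ zpowers x = OO K ⊔ zpowers y := by
    apply le_antisymm
    · exact sup_le le_sup_left (by rw [zpowers_le]; exact hxH)
    · exact sup_le le_sup_left (by rw [zpowers_le]; exact hyH')
  have hHK : OO K ⊔ zpowers y ≤ K := sup_le (OO_le K) (by rw [zpowers_le]; exact hy)
  have s1 : Syl (zpowers y) (OO K ⊔ zpowers y) :=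
    ⟨le_sup_right, isPGroup_zpowers hy2, fun h2 => odd_OO K (h2.trans (relIndex_sup_dvd_card hyn))⟩
  have s2 : Syl (zpowers x) (OO K ⊔ zpowers y) :=
    ⟨by rw [zpowers_le]; exact hxH, isPGroup_zpowers hx2, fun h2 => odd_OO K (h2.trans (by
      rw [← hHH]; exact relIndex_sup_dvd_card hxn))⟩
  obtain ⟨g, hg, hgx⟩ := s2.exists_conj s1
  have hgK := hHK hg
  refine ⟨g, hgK, ?_⟩
  have h1 : g * x * g⁻¹ ∈ zpowers y := by
    rw [← hgx]; exact conj_mem_cj (mem_zpowers x)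
  obtain ⟨j, hj⟩ := h1
  have hj' : y ^ j = g * x * g⁻¹ := hj
  -- modulo `O(K)` the elements `g`, `y` commute
  obtain ⟨a, ha, b, ⟨i, hi⟩, hab⟩ := LB.exists_mul_of_mem_sup hyn hg
  have hi' : y ^ i = b := hi
  have haK := OO_le K ha
  have h2 : g * y * g⁻¹ * y⁻¹ ∈ OO K := by
    have h3 : g * y * g⁻¹ * y⁻¹ = a * (y * a⁻¹ * y⁻¹) := by
      rw [hab, ← hi']; group
    rw [h3]
    exact mul_mem ha ((mem_normalizer_iff.1 (hn hy) _).1 (inv_mem ha))
  have h3 : g * x * g⁻¹ * y⁻¹ ∈ OO K := by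
    have h4 : g * x * g⁻¹ * y⁻¹ = (g * y * g⁻¹ * y⁻¹) * (y * (g * (x⁻¹ * y)⁻¹ * g⁻¹) * y⁻¹) := by group
    rw [h4]
    exact mul_mem h2 ((mem_normalizer_iff.1 (hn hy) _).1 ((mem_normalizer_iff.1 (hn hgK) _).1 (inv_mem h)))
  have h4 : g * x * g⁻¹ * y⁻¹ = y ^ (j - 1) := by
    rw [← hj', zpow_sub_one]
  have h5 : y ^ (j - 1) = 1 := by
    apply eq_one_of_OO (K := K) (n := k)
    · rw [← h4]; exact h3
    · rw [← zpow_natCast, ← zpow_mul, mul_comm, zpow_mul, zpow_natCast, hy2, one_zpow]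
  rw [h5] at h4
  exact mul_inv_eq_one.mp h4

/-- elements of order 4 of `K` are conjugate in `K` -/
theorem conj_four [Finite G] (h : IsType K) (hu : ∀ t ∈ K, orderOf t = 2 → t = zz K) {x y : G} (hx : x ∈ K) (hy : y ∈ K) (hxx : x * x = zz K)
    (hyy : y * y = zz K) : ∃ k ∈ K, k * x * k⁻¹ = y := by
  have hz2 : zz K * zz K = 1 := Ty.mul_self_of_orderOf (Ty.zz_of_isType h).2
  have hx4 : ∀ x : G, x * x = zz K → x ^ 2 ^ 2 = 1 := by
    intro x hxx
    have h3 : x ^ 2 ^ 2 = (x * x) * (x * x) := by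
      norm_num [pow_succ]; group
    rw [h3, hxx, hz2]
  obtain ⟨g, hg⟩ := (tyZ h).conj_four (x := QuotientGroup.mk ⟨x, hx⟩) (y := QuotientGroup.mk ⟨y, hy⟩) (by
      rw [← QuotientGroup.mk_mul]
      congr 1
      exact Subtype.ext hxx) (by
      rw [← QuotientGroup.mk_mul]
      congr 1
      exact Subtype.ext hyy)
  induction g using QuotientGroup.induction_on with
  | H g =>
    obtain ⟨g, hgK⟩ := g
    have h1 : (QuotientGroup.mk ⟨g * x * g⁻¹, K.mul_mem (K.mul_mem hgK hx) (K.inv_mem hgK)⟩ : ↥K ⧸ oddCore ↥K) =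
      QuotientGroup.mk ⟨y, hy⟩ := hg
    rw [mk_eq_iff] at h1
    have h2 : g * x * g⁻¹ * (g * x * g⁻¹) = zz K := by
      have h3 : g * x * g⁻¹ * (g * x * g⁻¹) = g * (x * x) * g⁻¹ := by group
      rw [h3, hxx]
      apply hu _ (K.mul_mem (K.mul_mem hgK (Ty.zz_of_isType h).1) (K.inv_mem hgK))
      have h4 : g * zz K * g⁻¹ = MulAut.conj g (zz K) := rfl
      rw [h4, MulEquiv.orderOf_eq, (Ty.zz_of_isType h).2]
    obtain ⟨k, hk, hkx⟩ := exists_conj_of_mod (K.mul_mem (K.mul_mem hgK hx) (K.inv_mem hgK)) hy (hx4 _ h2)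
      (hx4 _ hyy) h1
    exact ⟨k * g, K.mul_mem hk hgK, by rw [← hkx]; group⟩

end Cfsg.Agent.Cit.AutAct
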