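import Cfsg.Agent.Intrinsic.Bridge
import Cfsg.Agent.Cit.Quat

/-!
# Automorphisms of the double cover of `A₇`

`AutData L`: the covering map and the action `Φ : Aut L → S₇`.  Facts used for classical involutions:
elements of order 4 are conjugate, an automorphism trivial on a Sylow 2-subgroup is trivial, an involution
trivial on the centraliser of `x`, `x² = z`, is `1` or conjugation by `x`, the product of two automorphisms
which are not inner is inner.
-/

set_option autoImplicit false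
set_option linter.style.haveILetI false

namespace Cfsg.Agent.Cit.QModA7

open Subgroup Equiv Cfsg Cfsg.Agent.SporRec.TwoAn
open scoped commutatorElement

variable {L : Type*} [Group L]

/-- the covering map and the action of the automorphism group on the seven letters -/
structure AutData (L : Type*) [Group L] where
  /-- the cover -/
  K : Cover (Fin 7) L
  perf : Group.IsPerfect L
  /-- the action -/
  Φ : MulAut L →* Perm (Fin 7)
  spec : ∀ α x, K.π (α x) = Φ α * K.π x * (Φ α)⁻¹

theorem exists_autData (h : IsNonsplitDoubleCover L ↥(alternatingGroup (Fin 7))) : Nonempty (AutData L) := by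
  obtain ⟨π, z, hcov, hcen⟩ := SporadicRecognition.AltCover.exists_isCover h
  obtain ⟨ψ, hψ⟩ := StandardComponent.AltAut.exists_autHom 7 le_rfl
  have hαz : ∀ α : MulAut L, α z = z := by
    intro α
    have h1 : α z ∈ center L := by
      rw [Subgroup.mem_center_iff]
      intro g
      have h2 := congrArg α (hcov.z_comm (α.symm g))
      rwa [map_mul, map_mul, MulEquiv.apply_symm_apply] at h2
    rcases (hcen _).1 h1 with h2 | h2
    · exact absurd ((map_eq_one_iff _ α.injective).1 h2) hcov.z_ne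
    · exact h2
  have hind : ∀ α : MulAut L, ∃ β : MulAut ↥(alternatingGroup (Fin 7)), ∀ x, β (π x) = π (α x) := by
    intro α
    apply StandardComponent.AltExists.exists_induced π hcov.surj α
    intro x
    rw [hcov.ker, hcov.ker]
    constructor
    · rintro (rfl | rfl)
      · left; exact map_one _
      · right; exact hαz α
    · rintro (h1 | h1)
      · left; exact (map_eq_one_iff _ α.injective).1 h1
      · right; exact α.injective (h1.trans (hαz α).symm)
  choose B hB using hind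
  let K := ofIsCover (by norm_num) hcov
  have hK : ∀ x, K.π x = (π x : Perm (Fin 7)) := fun x => rfl
  have spec : ∀ (α : MulAut L) x, K.π (α x) = ψ (B α) * K.π x * (ψ (B α))⁻¹ := by
    intro α x
    rw [hK, hK, ← hB, hψ]
  refine ⟨⟨K, Intrinsic.Bridge.perfect_of_cover (by norm_num) h,
    MonoidHom.mk' (fun α => ψ (B α)) fun a b => ?_, spec⟩⟩
  apply StandardComponent.AltAut.conj_unique (m := 5) (by norm_num)
  intro x
  obtain ⟨y, rfl⟩ := hcov.surj x
  have h1 := spec (a * b) y
  rw [MulAut.mul_apply, spec a, spec b, hK] at h1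
  rw [← h1]
  group

namespace AutData

variable (D : AutData L)

theorem unique {σ τ : Perm (Fin 7)} (h : ∀ x, σ * D.K.π x * σ⁻¹ = τ * D.K.π x * τ⁻¹) : σ = τ := by
  apply StandardComponent.AltAut.conj_unique (m := 5) (by norm_num)
  rintro ⟨y, hy⟩
  obtain ⟨x, rfl⟩ := D.K.exists_lift hy
  exact h x

theorem map_z (α : MulAut L) : α D.K.z = D.K.z := by
  have h1 : D.K.π (α D.K.z) = 1 := by rw [D.spec, D.K.π_z, mul_one, mul_inv_cancel]
  rcases (D.K.ker _).1 h1 with h2 | h2
  · exact absurd ((map_eq_one_iff _ α.injective).1 h2) D.K.z_ne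
  · exact h2

/-- `Φ` is injective -/
theorem eq_one {α : MulAut L} (h : D.Φ α = 1) : α = 1 := by
  have h1 : ∀ x, ∃ e, (e = 1 ∨ e = D.K.z) ∧ α x = x * e := by
    intro x
    have h2 : D.K.π (α x) = D.K.π x := by rw [D.spec, h]; simp
    rcases D.K.lift_eq h2 with h3 | h3
    · exact ⟨1, Or.inl rfl, by rw [h3, mul_one]⟩
    · exact ⟨D.K.z, Or.inr rfl, h3⟩
  have h2 : commutator L ≤ (α.toMonoidHom).eqLocus (MonoidHom.id L) := by
    rw [commutator_def, commutator_le]
    intro x _ y _
    obtain ⟨e, he, hx⟩ := h1 x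
    obtain ⟨f, hf, hy⟩ := h1 y
    have hec : ∀ g, g * e = e * g := by
      intro g
      rcases he with rfl | rfl
      · simp
      · exact D.K.z_comm g
    have hfc : ∀ g, g * f = f * g := by
      intro g
      rcases hf with rfl | rfl
      · simp
      · exact D.K.z_comm g
    show α ⁅x, y⁆ = ⁅x, y⁆
    rw [commutatorElement_def, map_mul, map_mul, map_mul, map_inv, map_inv, hx, hy, mul_inv_rev, mul_inv_rev]
    calc x * e * (y * f) * (e⁻¹ * x⁻¹) * (f⁻¹ * y⁻¹)
        = x * (e * y) * f * e⁻¹ * x⁻¹ * f⁻¹ * y⁻¹ := by group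
      _ = x * y * (e * f) * e⁻¹ * x⁻¹ * f⁻¹ * y⁻¹ := by rw [← hec]; group
      _ = x * y * (f * x⁻¹) * f⁻¹ * y⁻¹ := by rw [hfc e]; group
      _ = x * y * x⁻¹ * y⁻¹ := by rw [← hfc]; group
  rw [D.perf.commutator_eq_top] at h2
  ext x
  exact h2 (mem_top x)

theorem injective : Function.Injective D.Φ := by
  rw [injective_iff_map_eq_one]
  exact fun α h => D.eq_one h

/-- inner automorphisms -/
theorem map_conj (s : L) : D.Φ (MulAut.conj s) = D.K.π s := by
  apply D.unique
  intro x
  rw [← D.spec, MulAut.conj_apply, map_mul, map_mul, map_inv]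

theorem eq_conj {α : MulAut L} {s : L} (h : D.Φ α = D.K.π s) : α = MulAut.conj s := by
  apply D.injective
  rw [D.map_conj, h]

/-- even automorphisms are inner -/
theorem exists_conj_of_even {α : MulAut L} (h : D.Φ α ∈ alternatingGroup (Fin 7)) :
    ∃ s, α = MulAut.conj s := by
  obtain ⟨s, hs⟩ := D.K.exists_lift h
  exact ⟨s, D.eq_conj hs.symm⟩

theorem sign_eq_one_iff {α : MulAut L} : Perm.sign (D.Φ α) = 1 ↔ ∃ s, α = MulAut.conj s := by
  constructor
  · intro h
    exact D.exists_conj_of_even (Perm.mem_alternatingGroup.2 h)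
  · rintro ⟨s, rfl⟩
    rw [D.map_conj]
    exact Perm.mem_alternatingGroup.1 (D.K.mem_alternating s)

include D in
/-- commutators of automorphisms are inner -/
theorem commutator_inner {α : MulAut L} (h : α ∈ commutator (MulAut L)) : ∃ s, α = MulAut.conj s := by
  rw [← D.sign_eq_one_iff]
  have h1 : commutator (MulAut L) ≤ (Perm.sign.comp D.Φ).ker := by
    rw [commutator_def, commutator_le]
    intro x _ y _
    rw [MonoidHom.mem_ker, map_commutatorElement, commutatorElement_eq_one_iff_mul_comm, mul_comm]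
  exact h1 h

include D in
/-- the product of two outer automorphisms is inner -/
theorem inner_mul {α β : MulAut L} (hα : ¬ ∃ s, α = MulAut.conj s) (hβ : ¬ ∃ s, β = MulAut.conj s) :
    ∃ s, α * β = MulAut.conj s := by
  rw [← D.sign_eq_one_iff] at *
  rw [map_mul, map_mul]
  rcases Int.units_eq_one_or (Perm.sign (D.Φ α)) with h1 | h1
  · exact absurd h1 hα
  · rcases Int.units_eq_one_or (Perm.sign (D.Φ β)) with h2 | h2
    · exact absurd h2 hβ
    · rw [h1, h2]; rfl

/-! ### Fixed points -/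

theorem fix_of_odd {α : MulAut L} {x : L} {n : ℕ} (hn : Odd n) (hx : x ^ n = 1)
    (hc : D.Φ α * D.K.π x = D.K.π x * D.Φ α) : α x = x := by
  apply D.K.odd_lift_unique hn _ hx
  · rw [D.spec, hc, mul_inv_cancel_right]
  · rw [← map_pow, hx, map_one]

/-- an automorphism fixes the elements over permutations disjoint from it -/
theorem fix_of_disjoint {α : MulAut L} {x : L} (hd : (D.K.π x).Disjoint (D.Φ α)) : α x = x := by
  classical
  let p : Fin 7 → Prop := fun i => D.K.π x i ≠ i
  have hp : ∀ i, p (D.K.π x i) ↔ p i := fun i => by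
    show D.K.π x (D.K.π x i) ≠ D.K.π x i ↔ D.K.π x i ≠ i
    rw [Ne, Ne, EmbeddingLike.apply_eq_iff_eq]
  have hfix : ∀ i, p i → D.Φ α i = i := fun i hi => (hd i).resolve_left hi
  have hcomm : ∀ τ : Perm (Subtype p), Perm.ofSubtype τ * D.Φ α = D.Φ α * Perm.ofSubtype τ := by
    intro τ
    apply Perm.Disjoint.commute
    intro i
    by_cases hi : p i
    · exact Or.inr (hfix i hi)
    · exact Or.inl (Perm.ofSubtype_apply_of_not_mem τ hi)
  have key : ∀ τ ∈ alternatingGroup (Subtype p), ∃ k, D.K.π k = Perm.ofSubtype τ ∧ α k = k := by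
    intro τ hτ
    rw [← Perm.closure_three_cycles_eq_alternating] at hτ
    refine closure_induction ?_ ?_ ?_ ?_ hτ
    · intro c hc
      have hce : Perm.ofSubtype c ∈ alternatingGroup (Fin 7) := by
        rw [Perm.mem_alternatingGroup, Perm.sign_ofSubtype]
        exact hc.sign
      have hc3 : (Perm.ofSubtype c) ^ 3 = 1 := by
        rw [← map_pow, ← hc.orderOf, pow_orderOf_eq_one, map_one]
      obtain ⟨k, hk, hk3⟩ := D.K.exists_odd_lift hce (n := 3) (by decide) hc3
      refine ⟨k, hk, D.fix_of_odd (n := 3) (by decide) hk3 ?_⟩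
      rw [hk]; exact (hcomm c).symm
    · exact ⟨1, by rw [map_one, map_one], by rw [map_one]⟩
    · rintro u v - - ⟨k, hk, hk'⟩ ⟨l, hl, hl'⟩
      exact ⟨k * l, by rw [map_mul, hk, hl, map_mul], by rw [map_mul, hk', hl']⟩
    · rintro u - ⟨k, hk, hk'⟩
      exact ⟨k⁻¹, by rw [map_inv, hk, map_inv], by rw [map_inv, hk']⟩
  have hmem : (D.K.π x).subtypePerm hp ∈ alternatingGroup (Subtype p) := by
    rw [Perm.mem_alternatingGroup, Perm.sign_subtypePerm (D.K.π x) hp (fun x hx => hx)]
    exact Perm.mem_alternatingGroup.1 (D.K.mem_alternating x)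
  obtain ⟨k, hk, hk'⟩ := key _ hmem
  rw [Perm.ofSubtype_subtypePerm hp (fun x hx => hx)] at hk
  rcases D.K.lift_eq hk with h1 | h1
  · rw [← h1]; exact hk'
  · rw [h1, map_mul, D.map_z] at hk'
    exact mul_right_cancel hk'

/-! ### Elements of order 4 -/

theorem eq_one_or_z {g : L} (h : g * g = 1) : g = 1 ∨ g = D.K.z :=
  D.K.eq_one_or_eq_z_of_card_lt (by simp) h

theorem π_of_sq {x : L} (h : x * x = D.K.z) : D.K.π x * D.K.π x = 1 ∧ D.K.π x ≠ 1 := by
  refine ⟨by rw [← map_mul, h, D.K.π_z], fun h1 => ?_⟩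
  rcases (D.K.ker x).1 h1 with rfl | rfl
  · rw [one_mul] at h; exact D.K.z_ne h.symm
  · rw [D.K.z_mul_z] at h; exact D.K.z_ne h.symm

theorem card_support {x : L} (h : x * x = D.K.z) : (D.K.π x).support.card = 4 := by
  obtain ⟨h1, h2⟩ := D.π_of_sq h
  obtain ⟨k, hk⟩ := D.K.four_dvd h1
  have h3 : (D.K.π x).support.card ≤ 7 := by
    have := Finset.card_le_univ (D.K.π x).support
    simpa using this
  have h4 : (D.K.π x).support.card ≠ 0 := by
    rw [Ne, Finset.card_eq_zero, Perm.support_eq_empty_iff]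
    exact h2
  omega

/-- the elements of order 4 are conjugate -/
theorem conj_four {x y : L} (hx : x * x = D.K.z) (hy : y * y = D.K.z) : ∃ w, w * x * w⁻¹ = y :=
  StandardComponent.CoverExtra.exists_conj D.K (D.π_of_sq hx).1 (D.π_of_sq hy).1 (D.π_of_sq hx).2
    (by rw [D.card_support hx, D.card_support hy])

/-- anticommuting elements of order 4 -/
theorem anti {b c : L} (hb : b * b = D.K.z) (hc : c * c = D.K.z) (hbc : b * c * (b * c) = D.K.z) :
    b * c * b⁻¹ = c * D.K.z := by
  have e1 : b⁻¹ = b * D.K.z := by rw [inv_eq_iff_mul_eq_one, ← mul_assoc, hb, D.K.z_mul_z]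
  have e2 : b * c * b = D.K.z * c⁻¹ := by rw [← hbc]; group
  have e3 : c⁻¹ = c * D.K.z := by rw [inv_eq_iff_mul_eq_one, ← mul_assoc, hc, D.K.z_mul_z]
  calc b * c * b⁻¹ = b * c * b * D.K.z := by rw [e1]; group
    _ = D.K.z * (c * D.K.z) * D.K.z := by rw [e2, e3]
    _ = D.K.z * c * (D.K.z * D.K.z) := by group
    _ = c * D.K.z := by rw [D.K.z_mul_z, mul_one, D.K.z_comm]

/-! ### Explicit permutations -/

end AutData

/-- `(0 1)(2 3)` -/
def px : Perm (Fin 7) := swap 0 1 * swap 2 3
/-- `(0 2 1 3)(4 5)` -/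
def pr : Perm (Fin 7) := swap 0 3 * swap 0 1 * swap 0 2 * swap 4 5
/-- `(0 2 1 3)(5 6)` -/
def pr' : Perm (Fin 7) := swap 0 3 * swap 0 1 * swap 0 2 * swap 5 6
/-- `(0 2)(1 3)` -/
def py : Perm (Fin 7) := swap 0 2 * swap 1 3

theorem pr_apply : pr 0 = 2 ∧ pr 2 = 1 ∧ pr 1 = 3 ∧ pr 3 = 0 ∧ pr 4 = 5 ∧ pr 5 = 4 ∧ pr 6 = 6 := by
  decide

theorem pr'_apply : pr' 0 = 2 ∧ pr' 2 = 1 ∧ pr' 1 = 3 ∧ pr' 3 = 0 ∧ pr' 4 = 4 ∧ pr' 5 = 6 ∧ pr' 6 = 5 := by
  decide

theorem px_apply : px 0 = 1 ∧ px 1 = 0 ∧ px 2 = 3 ∧ px 3 = 2 ∧ px 4 = 4 ∧ px 5 = 5 ∧ px 6 = 6 := by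
  decide

theorem py_apply : py 0 = 2 ∧ py 1 = 3 ∧ py 2 = 0 ∧ py 3 = 1 ∧ py 4 = 4 ∧ py 5 = 5 ∧ py 6 = 6 := by
  decide

theorem pr_sq : pr * pr = px := by decide
theorem pr'_sq : pr' * pr' = px := by decide
theorem pr_mem : pr ∈ alternatingGroup (Fin 7) := by rw [Perm.mem_alternatingGroup]; decide
theorem pr'_mem : pr' ∈ alternatingGroup (Fin 7) := by rw [Perm.mem_alternatingGroup]; decide
theorem px_mem : px ∈ alternatingGroup (Fin 7) := by rw [Perm.mem_alternatingGroup]; decide
theorem py_mem : py ∈ alternatingGroup (Fin 7) := by rw [Perm.mem_alternatingGroup]; decide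

theorem ext7 {σ τ : Perm (Fin 7)} (h0 : σ 0 = τ 0) (h1 : σ 1 = τ 1) (h2 : σ 2 = τ 2) (h3 : σ 3 = τ 3)
    (h4 : σ 4 = τ 4) (h5 : σ 5 = τ 5) (h6 : σ 6 = τ 6) : σ = τ := by
  ext i
  fin_cases i <;> simp_all

theorem cases_lt (i : Fin 7) (h4 : i ≠ 4) (h5 : i ≠ 5) (h6 : i ≠ 6) : i = 0 ∨ i = 1 ∨ i = 2 ∨ i = 3 := by
  revert i; decide

/-- the involutions commuting with `pr`, `pr'` -/
theorem cent_pr {σ : Perm (Fin 7)} (hσ : σ * σ = 1) (h : σ * pr = pr * σ) (h' : σ * pr' = pr' * σ) :
    σ = 1 ∨ σ = px := by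
  have a : ∀ i, σ (pr i) = pr (σ i) := fun i => congrArg (fun f : Perm (Fin 7) => f i) h
  have a' : ∀ i, σ (pr' i) = pr' (σ i) := fun i => congrArg (fun f : Perm (Fin 7) => f i) h'
  have b : ∀ i, σ (σ i) = i := fun i => congrArg (fun f : Perm (Fin 7) => f i) hσ
  obtain ⟨r0, r2, r1, r3, r4, r5, r6⟩ := pr_apply
  obtain ⟨s0, s2, s1, s3, s4, s5, s6⟩ := pr'_apply
  have f6 : ∀ i, pr i = i → i = 6 := by decide
  have f4 : ∀ i, pr' i = i → i = 4 := by decide
  have h6 : σ 6 = 6 := f6 _ (by rw [← a, r6])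
  have h4 : σ 4 = 4 := f4 _ (by rw [← a', s4])
  have h5 : σ 5 = 5 := by rw [← r4, a, h4]
  have h0 : σ 0 = 0 ∨ σ 0 = 1 ∨ σ 0 = 2 ∨ σ 0 = 3 := by
    apply cases_lt
    · intro e; have := σ.injective (e.trans h4.symm); exact absurd this (by decide)
    · intro e; have := σ.injective (e.trans h5.symm); exact absurd this (by decide)
    · intro e; have := σ.injective (e.trans h6.symm); exact absurd this (by decide)
  have e2 : σ 2 = pr (σ 0) := by rw [← a, r0]
  have e1 : σ 1 = pr (σ 2) := by rw [← a, r2]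
  have e3 : σ 3 = pr (σ 1) := by rw [← a, r1]
  rcases h0 with h0 | h0 | h0 | h0
  · left
    rw [h0, r0] at e2
    rw [e2, r2] at e1
    rw [e1, r1] at e3
    exact ext7 h0 e1 e2 e3 h4 h5 h6
  · right
    rw [h0, r1] at e2
    rw [e2, r3] at e1
    rw [e1, r0] at e3
    obtain ⟨x0, x1, x2, x3, x4, x5, x6⟩ := px_apply
    exact ext7 (by rw [h0, x0]) (by rw [e1, x1]) (by rw [e2, x2]) (by rw [e3, x3]) (by rw [h4, x4])
      (by rw [h5, x5]) (by rw [h6, x6])
  · exfalso
    have := b 0
    rw [h0, e2, h0, r2] at this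
    exact absurd this (by decide)
  · exfalso
    rw [h0, r3] at e2
    rw [e2, r0] at e1
    rw [e1, r2] at e3
    have := b 0
    rw [h0, e3] at this
    exact absurd this (by decide)

/-- the permutations commuting with `pr` and `py` -/
theorem cent_py {σ : Perm (Fin 7)} (h : σ * pr = pr * σ) (h' : σ * py = py * σ) :
    σ = 1 ∨ σ = px ∨ σ = swap 4 5 ∨ σ = px * swap 4 5 := by
  have a : ∀ i, σ (pr i) = pr (σ i) := fun i => congrArg (fun f : Perm (Fin 7) => f i) h
  have a' : ∀ i, σ (py i) = py (σ i) := fun i => congrArg (fun f : Perm (Fin 7) => f i) h'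
  obtain ⟨r0, r2, r1, r3, r4, r5, r6⟩ := pr_apply
  obtain ⟨s0, s1, s2, s3, s4, s5, s6⟩ := py_apply
  have f6 : ∀ i, pr i = i → i = 6 := by decide
  have h6 : σ 6 = 6 := f6 _ (by rw [← a, r6])
  have f4 : ∀ i, py i = i → i = 4 ∨ i = 5 ∨ i = 6 := by decide
  have h4 : σ 4 = 4 ∨ σ 4 = 5 := by
    rcases f4 (σ 4) (by rw [← a', s4]) with h | h | h
    · exact Or.inl h
    · exact Or.inr h
    · have := σ.injective (h.trans h6.symm); exact absurd this (by decide)
  have h0 : σ 0 = 0 ∨ σ 0 = 1 := by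
    have g0 : py (pr 0) = 0 := by rw [r0, s2]
    have g : ∀ i, py (pr i) = i → i = 0 ∨ i = 1 ∨ i = 6 := by decide
    rcases g (σ 0) (by rw [← a, ← a', g0]) with h | h | h
    · exact Or.inl h
    · exact Or.inr h
    · have := σ.injective (h.trans h6.symm); exact absurd this (by decide)
  have e2 : σ 2 = pr (σ 0) := by rw [← a, r0]
  have e1 : σ 1 = pr (σ 2) := by rw [← a, r2]
  have e3 : σ 3 = pr (σ 1) := by rw [← a, r1]
  have e5 : σ 5 = pr (σ 4) := by rw [← a, r4]
  rcases h0 with h0 | h0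
  · rw [h0, r0] at e2
    rw [e2, r2] at e1
    rw [e1, r1] at e3
    rcases h4 with h4 | h4
    · left
      rw [h4, r4] at e5
      exact ext7 h0 e1 e2 e3 h4 e5 h6
    · right; right; left
      rw [h4, r5] at e5
      exact ext7 (by rw [h0]; decide) (by rw [e1]; decide) (by rw [e2]; decide) (by rw [e3]; decide)
        (by rw [h4]; decide) (by rw [e5]; decide) (by rw [h6]; decide)
  · rw [h0, r1] at e2
    rw [e2, r3] at e1
    rw [e1, r0] at e3
    rcases h4 with h4 | h4
    · right; left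
      rw [h4, r4] at e5
      exact ext7 (by rw [h0]; decide) (by rw [e1]; decide) (by rw [e2]; decide) (by rw [e3]; decide)
        (by rw [h4]; decide) (by rw [e5]; decide) (by rw [h6]; decide)
    · right; right; right
      rw [h4, r5] at e5
      exact ext7 (by rw [h0]; decide) (by rw [e1]; decide) (by rw [e2]; decide) (by rw [e3]; decide)
        (by rw [h4]; decide) (by rw [e5]; decide) (by rw [h6]; decide)

namespace AutData

variable (D : AutData L)

theorem px_sq {x : L} (h : D.K.π x = px) : x * x = D.K.z :=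
  D.K.dbl 0 1 2 3 (by decide) (by decide) (by decide) (by decide) (by decide) (by decide) x h

theorem py_sq {y : L} (h : D.K.π y = py) : y * y = D.K.z :=
  D.K.dbl 0 2 1 3 (by decide) (by decide) (by decide) (by decide) (by decide) (by decide) y h

theorem comm_of_sq {r x : L} (h : D.K.π r * D.K.π r = D.K.π x) : r * x = x * r := by
  rw [← map_mul] at h
  rcases D.K.lift_eq h with h1 | h1
  · rw [← h1, mul_assoc]
  · have h2 : x = r * r * D.K.z := by rw [h1, mul_assoc, D.K.z_mul_z, mul_one]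
    rw [h2]
    calc r * (r * r * D.K.z) = r * r * (r * D.K.z) := by group
      _ = r * r * D.K.z * r := by rw [D.K.z_comm r]; group

/-- an involution of `Aut L` trivial on the centraliser of `x`, `x² = z` -/
theorem eq_conj_of_fix {α : MulAut L} (hα : α * α = 1) {x : L} (hx : x * x = D.K.z)
    (hf : ∀ c, c * x = x * c → α c = c) : α = 1 ∨ α = MulAut.conj x := by
  obtain ⟨x0, hx0⟩ := D.K.exists_lift px_mem
  obtain ⟨w, hw⟩ := D.conj_four hx (D.px_sq hx0)
  let β : MulAut L := MulAut.conj w * α * (MulAut.conj w)⁻¹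
  have hβ : ∀ c, β c = w * α (w⁻¹ * c * w) * w⁻¹ := by
    intro c
    show MulAut.conj w (α ((MulAut.conj w)⁻¹ c)) = _
    rw [MulAut.conj_inv_apply, MulAut.conj_apply]
  have hβf : ∀ c, c * x0 = x0 * c → β c = c := by
    intro c hc
    rw [hβ, hf]
    · group
    · have hx' : x = w⁻¹ * x0 * w := by rw [← hw]; group
      rw [hx']
      calc w⁻¹ * c * w * (w⁻¹ * x0 * w) = w⁻¹ * (c * x0) * w := by group
        _ = w⁻¹ * (x0 * c) * w := by rw [hc]
        _ = _ := by group
  have hββ : β * β = 1 := by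
    show MulAut.conj w * α * (MulAut.conj w)⁻¹ * (MulAut.conj w * α * (MulAut.conj w)⁻¹) = 1
    calc MulAut.conj w * α * (MulAut.conj w)⁻¹ * (MulAut.conj w * α * (MulAut.conj w)⁻¹)
        = MulAut.conj w * (α * α) * (MulAut.conj w)⁻¹ := by group
      _ = 1 := by rw [hα]; group
  obtain ⟨r, hr⟩ := D.K.exists_lift pr_mem
  obtain ⟨r', hr'⟩ := D.K.exists_lift pr'_mem
  have h1 : β r = r := hβf r (D.comm_of_sq (by rw [hr, hx0, pr_sq]))
  have h2 : β r' = r' := hβf r' (D.comm_of_sq (by rw [hr', hx0, pr'_sq]))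
  have h3 := D.spec β r
  have h4 := D.spec β r'
  rw [h1, hr, eq_mul_inv_iff_mul_eq] at h3
  rw [h2, hr', eq_mul_inv_iff_mul_eq] at h4
  have hback : α = (MulAut.conj w)⁻¹ * β * MulAut.conj w := by
    show α = (MulAut.conj w)⁻¹ * (MulAut.conj w * α * (MulAut.conj w)⁻¹) * MulAut.conj w
    group
  rcases cent_pr (by rw [← map_mul, hββ, map_one]) h3.symm h4.symm with h5 | h5
  · left
    rw [hback, D.eq_one h5]; group
  · right
    have h6 : β = MulAut.conj x0 := D.eq_conj (by rw [h5, hx0])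
    rw [hback, h6, ← map_inv, ← map_mul, ← map_mul, ← hw]
    congr 1; group

/-- an automorphism fixing the generators `r`, `y` of a Sylow 2-subgroup is trivial -/
theorem eq_one_of_fix {α : MulAut L} {r y : L} (hr : D.K.π r = pr) (hy : D.K.π y = py)
    (h1 : α r = r) (h2 : α y = y) : α = 1 := by
  obtain ⟨x0, hx0⟩ := D.K.exists_lift px_mem
  have h3 := D.spec α r
  have h4 := D.spec α y
  rw [h1, hr, eq_mul_inv_iff_mul_eq] at h3
  rw [h2, hy, eq_mul_inv_iff_mul_eq] at h4
  have hyne : y * D.K.z ≠ y := D.K.mul_z_ne y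
  -- `x0` anticommutes with `y`
  have hxy : x0 * y * x0⁻¹ = y * D.K.z := by
    apply D.anti (D.px_sq hx0) (D.py_sq hy)
    apply D.K.dbl 0 3 1 2 (by decide) (by decide) (by decide) (by decide) (by decide) (by decide)
    rw [map_mul, hx0, hy]
    decide
  have hdis : (D.K.π y).Disjoint (swap 4 5) := by
    rw [hy]
    intro i
    revert i
    decide
  rcases cent_py h3.symm h4.symm with h5 | h5 | h5 | h5
  · exact D.eq_one h5
  · exfalso
    have h6 : α = MulAut.conj x0 := D.eq_conj (by rw [h5, hx0])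
    rw [h6, MulAut.conj_apply, hxy] at h2
    exact hyne h2
  · exfalso
    -- `b` over `(0 1)(4 5)`, `c` over `(2 3)(4 5)`
    obtain ⟨b, hb⟩ := D.K.exists_lift (σ := swap 0 1 * swap 4 5)
      (Cover.swap_mul_swap_mem 0 1 4 5 (by decide) (by decide))
    obtain ⟨c, hc⟩ := D.K.exists_lift (σ := swap 2 3 * swap 4 5)
      (Cover.swap_mul_swap_mem 2 3 4 5 (by decide) (by decide))
    have hbb : b * b = D.K.z := D.K.dbl 0 1 4 5 (by decide) (by decide) (by decide) (by decide) (by decide)
      (by decide) b hb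
    have hcc : c * c = D.K.z := D.K.dbl 2 3 4 5 (by decide) (by decide) (by decide) (by decide) (by decide)
      (by decide) c hc
    have hbc : b * c * (b * c) = D.K.z := by
      apply D.px_sq
      rw [map_mul, hb, hc]
      decide
    have hanti := D.anti hbb hcc hbc
    -- `β` over `(0 1)`
    have hβ : D.Φ (α * MulAut.conj b) = swap 0 1 := by
      rw [map_mul, D.map_conj, h5, hb]
      decide
    have h7 : (α * MulAut.conj b) c = c := by
      apply D.fix_of_disjoint
      rw [hβ, hc]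
      intro i; revert i; decide
    rw [MulAut.mul_apply, MulAut.conj_apply, hanti, map_mul, D.map_z] at h7
    -- but `c` lies in `⟨r, y⟩`
    have h8 : D.K.π c = D.K.π (r * y) ∨ D.K.π c = D.K.π (y * r) := by
      rw [map_mul, map_mul, hc, hr, hy]
      decide
    have h9 : α c = c := by
      rcases h8 with h8 | h8
      · rcases D.K.lift_eq h8 with e | e
        · rw [e, map_mul, h1, h2]
        · rw [e, map_mul, map_mul, h1, h2, D.map_z]
      · rcases D.K.lift_eq h8 with e | e
        · rw [e, map_mul, h1, h2]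
        · rw [e, map_mul, map_mul, h1, h2, D.map_z]
    rw [h9] at h7
    exact D.K.mul_z_ne c h7
  · exfalso
    have hβ : D.Φ (α * MulAut.conj x0) = swap 4 5 := by
      rw [map_mul, D.map_conj, h5, hx0]
      decide
    have h7 : (α * MulAut.conj x0) y = y := by
      apply D.fix_of_disjoint
      rw [hβ]
      exact hdis
    rw [MulAut.mul_apply, MulAut.conj_apply, hxy, map_mul, D.map_z, h2] at h7
    exact hyne h7

theorem exists_double {a b : Fin 7} (hab : a ≠ b) : ∃ y : L, y * y = D.K.z ∧ (D.K.π y).Disjoint (swap a b) := by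
  obtain ⟨e⟩ : Nonempty (Fin 4 ↪ {i : Fin 7 // i ≠ a ∧ i ≠ b}) :=
    Function.Embedding.nonempty_of_card_le (by
      rw [Fintype.card_fin]
      revert a b
      decide)
  have hne : ∀ i j : Fin 4, i ≠ j → (e i : Fin 7) ≠ e j := fun i j h h' => h (e.injective (Subtype.ext h'))
  obtain ⟨y, hy⟩ := D.K.exists_lift (Cover.swap_mul_swap_mem (e 0 : Fin 7) (e 1) (e 2) (e 3)
    (hne _ _ (by decide)) (hne _ _ (by decide)))
  refine ⟨y, D.K.dbl _ _ _ _ (hne _ _ (by decide)) (hne _ _ (by decide))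
      (hne _ _ (by decide)) (hne _ _ (by decide)) (hne _ _ (by decide)) (hne _ _ (by decide)) y hy, ?_⟩
  have hd : ∀ i, (e i : Fin 7) ≠ a ∧ (e i : Fin 7) ≠ b := fun i => (e i).2
  rw [hy]
  intro i
  by_cases h1 : i = a
  · left
    rw [h1, Perm.mul_apply, swap_apply_of_ne_of_ne (hd 2).1.symm (hd 3).1.symm,
      swap_apply_of_ne_of_ne (hd 0).1.symm (hd 1).1.symm]
  by_cases h2 : i = b
  · left
    rw [h2, Perm.mul_apply, swap_apply_of_ne_of_ne (hd 2).2.symm (hd 3).2.symm,
      swap_apply_of_ne_of_ne (hd 0).2.symm (hd 1).2.symm]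
  · right
    exact swap_apply_of_ne_of_ne h1 h2

/-- a non-trivial involution of `Aut L` is a transposition times an inner involution, or inner -/
theorem exists_fix_four_of {α : MulAut L} {a b : Fin 7} (hab : a ≠ b) (h1 : D.Φ α a = b) (hα : α * α = 1) :
    D.Φ α = swap a b ∨ ∃ y, y * y = D.K.z ∧ α y = y := by
  by_cases hs : D.Φ α = swap a b
  · exact Or.inl hs
  right
  set σ := D.Φ α with hσ
  have hσσ : ∀ i, σ (σ i) = i := fun i => by
    have := congrArg (fun f : Perm (Fin 7) => f i) (by rw [hσ, ← map_mul, hα, map_one] : σ * σ = 1)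
    simpa using this
  have hba : σ b = a := by rw [← h1, hσσ]
  rcases Int.units_eq_one_or (Perm.sign σ) with h2 | h2
  · -- inner
    obtain ⟨s, rfl⟩ := D.sign_eq_one_iff.1 h2
    have h3 : D.K.π s * D.K.π s = 1 := by rw [← D.map_conj, ← map_mul, hα, map_one]
    rcases D.K.sq_eq_z_or h3 with h4 | h4
    · exfalso
      have h5 : D.K.π s = 1 := (D.K.ker s).2 (D.eq_one_or_z h4)
      rw [hσ, D.map_conj, h5, Perm.one_apply] at h1
      exact hab h1
    · exact ⟨s, h4, by rw [MulAut.conj_apply, mul_inv_cancel_right]⟩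
  · -- `σ' = (a b) σ`
    have hmem : swap a b * σ ∈ alternatingGroup (Fin 7) := by
      rw [Perm.mem_alternatingGroup, map_mul, Perm.sign_swap hab, h2]
      rfl
    obtain ⟨s, hs'⟩ := D.K.exists_lift hmem
    have hval : ∀ i, D.K.π s i = if i = a ∨ i = b then i else σ i := by
      intro i
      rw [hs', Perm.mul_apply]
      by_cases e1 : i = a
      · rw [e1, h1, swap_apply_right, if_pos (Or.inl rfl)]
      by_cases e2 : i = b
      · rw [e2, hba, swap_apply_left, if_pos (Or.inr rfl)]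
      rw [if_neg (by push Not; exact ⟨e1, e2⟩), swap_apply_of_ne_of_ne]
      · intro e; exact e2 (σ.injective (e.trans hba.symm))
      · intro e; exact e1 (σ.injective (e.trans h1.symm))
    have hdis : (D.K.π s).Disjoint (swap a b) := by
      intro i
      by_cases e : i = a ∨ i = b
      · left; rw [hval, if_pos e]
      · right
        push Not at e
        exact swap_apply_of_ne_of_ne e.1 e.2
    have hinv : D.K.π s * D.K.π s = 1 := by
      ext i
      rw [Perm.mul_apply, hval i, Perm.one_apply]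
      split_ifs with e
      · rw [hval, if_pos e]
      · rw [hval, if_neg, hσσ]
        push Not at e ⊢
        exact ⟨fun h => e.2 (σ.injective (h.trans hba.symm)), fun h => e.1 (σ.injective (h.trans h1.symm))⟩
    have hne : D.K.π s ≠ 1 := by
      intro h
      apply hs
      rw [hs', mul_eq_one_iff_inv_eq, swap_inv] at h
      exact h.symm
    refine ⟨s, (D.K.sq_eq_z_or hinv).resolve_left fun h => hne ((D.K.ker s).2 (D.eq_one_or_z h)), ?_⟩
    have h3 : (α * MulAut.conj s) s = s := by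
      apply D.fix_of_disjoint
      rw [map_mul, D.map_conj, ← hσ]
      have h4 : σ * D.K.π s = swap a b := by
        have h5 : swap a b * σ = σ * swap a b := by
          rw [Equiv.mul_swap_eq_swap_mul, h1, hba, swap_comm]
        rw [hs', h5, ← mul_assoc]
        have h6 : σ * σ = 1 := by rw [hσ, ← map_mul, hα, map_one]
        rw [h6, one_mul]
      rw [h4]
      exact hdis
    rw [MulAut.mul_apply, MulAut.conj_apply, mul_inv_cancel_right] at h3
    exact h3

/-- every involution of `Aut L` fixes an element of order 4 -/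
theorem exists_fix_four {α : MulAut L} (hα : α * α = 1) : ∃ y, y * y = D.K.z ∧ α y = y := by
  by_cases h1 : D.Φ α = 1
  · obtain ⟨x0, hx0⟩ := D.K.exists_lift px_mem
    exact ⟨x0, D.px_sq hx0, by rw [D.eq_one h1]; rfl⟩
  obtain ⟨a, ha⟩ : ∃ a, D.Φ α a ≠ a := by
    by_contra h
    push Not at h
    exact h1 (Perm.ext h)
  rcases D.exists_fix_four_of (Ne.symm ha) rfl hα with h2 | h2
  · obtain ⟨y, hy, hd⟩ := D.exists_double (Ne.symm ha)
    exact ⟨y, hy, D.fix_of_disjoint (by rw [h2]; exact hd)⟩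
  · exact h2

include D in
/-- an automorphism trivial on a Sylow 2-subgroup is trivial -/
theorem eq_one_of_sylow [Finite L] (P : Sylow 2 L) {α : MulAut L} (h : ∀ x ∈ P, α x = x) : α = 1 := by
  haveI : Fact (Nat.Prime 2) := ⟨Nat.prime_two⟩
  obtain ⟨r, hr⟩ := D.K.exists_lift pr_mem
  obtain ⟨y, hy⟩ := D.K.exists_lift py_mem
  obtain ⟨x0, hx0⟩ := D.K.exists_lift px_mem
  have hyy := D.py_sq hy
  have hr4 : r * r * (r * r) = D.K.z := by
    apply D.px_sq
    rw [map_mul, hr, pr_sq]
  have hr8 : r ^ 2 ^ 3 = 1 := by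
    have : r ^ 2 ^ 3 = (r * r * (r * r)) * (r * r * (r * r)) := by
      norm_num [pow_succ]; group
    rw [this, hr4, D.K.z_mul_z]
  have hy4 : y ^ 2 ^ 2 = 1 := by
    have : y ^ 2 ^ 2 = (y * y) * (y * y) := by
      norm_num [pow_succ]; group
    rw [this, hyy, D.K.z_mul_z]
  have hz : D.K.z ∈ zpowers r := by
    rw [← hr4]
    exact mul_mem (mul_mem (mem_zpowers r) (mem_zpowers r)) (mul_mem (mem_zpowers r) (mem_zpowers r))
  have hp1 : IsPGroup 2 (zpowers r) := by
    rintro ⟨_, k, rfl⟩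
    refine ⟨3, Subtype.ext ?_⟩
    show (r ^ k) ^ 2 ^ 3 = 1
    rw [← zpow_natCast, ← zpow_mul, mul_comm, zpow_mul, zpow_natCast, hr8, one_zpow]
  have hp2 : IsPGroup 2 (zpowers y) := by
    rintro ⟨_, k, rfl⟩
    refine ⟨2, Subtype.ext ?_⟩
    show (y ^ k) ^ 2 ^ 2 = 1
    rw [← zpow_natCast, ← zpow_mul, mul_comm, zpow_mul, zpow_natCast, hy4, one_zpow]
  have hn : zpowers y ≤ normalizer (zpowers r : Set L) := by
    rw [zpowers_le]
    have h1 : y * r * y⁻¹ ∈ zpowers r := by
      have h2 : D.K.π (y * r * y⁻¹) = D.K.π r⁻¹ := by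
        rw [map_mul, map_mul, map_inv, map_inv, hr, hy]
        decide
      rcases D.K.lift_eq h2 with e | e
      · rw [e]; exact inv_mem (mem_zpowers r)
      · rw [e]; exact mul_mem (inv_mem (mem_zpowers r)) hz
    have h3 : ∀ g ∈ zpowers r, y * g * y⁻¹ ∈ zpowers r := by
      rintro _ ⟨k, rfl⟩
      show y * r ^ k * y⁻¹ ∈ zpowers r
      rw [← conj_zpow]
      exact zpow_mem h1 k
    rw [mem_normalizer_iff]
    intro g
    refine ⟨h3 g, fun hg => ?_⟩
    have h4 := h3 _ (h3 _ (h3 _ hg))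
    have h5 : y * (y * (y * (y * g * y⁻¹) * y⁻¹) * y⁻¹) * y⁻¹ = g := by
      have h6 : y * y * (y * y) = 1 := by rw [hyy, D.K.z_mul_z]
      calc y * (y * (y * (y * g * y⁻¹) * y⁻¹) * y⁻¹) * y⁻¹
          = (y * y * (y * y)) * g * (y * y * (y * y))⁻¹ := by group
        _ = g := by rw [h6]; group
    rwa [h5] at h4
  have hsup : IsPGroup 2 (zpowers y ⊔ zpowers r : Subgroup L) := hp2.to_sup_of_normal_right' hp1 hn
  obtain ⟨P', hP'⟩ := hsup.exists_le_sylow
  obtain ⟨g, hg⟩ := MulAction.exists_smul_eq L P P'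
  have hmem : ∀ x ∈ P', g⁻¹ * x * g ∈ P := by
    intro x hx
    rw [← hg, ← SetLike.mem_coe, Sylow.coe_smul, Set.mem_smul_set] at hx
    obtain ⟨u, hu, rfl⟩ := hx
    have : g⁻¹ * (MulAut.conj g • u) * g = u := by
      rw [MulAut.smul_def, MulAut.conj_apply]; group
    rw [this]
    exact hu
  let β : MulAut L := MulAut.conj g * α * (MulAut.conj g)⁻¹
  have hβ : ∀ c, β c = g * α (g⁻¹ * c * g) * g⁻¹ := by
    intro c
    show MulAut.conj g (α ((MulAut.conj g)⁻¹ c)) = _
    rw [MulAut.conj_inv_apply, MulAut.conj_apply]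
  have hβf : ∀ c ∈ P', β c = c := by
    intro c hc
    rw [hβ, h _ (hmem c hc)]
    group
  have h1 : β = 1 := D.eq_one_of_fix hr hy (hβf r (hP' (mem_sup_right (mem_zpowers r))))
    (hβf y (hP' (mem_sup_left (mem_zpowers y))))
  have hback : α = (MulAut.conj g)⁻¹ * β * MulAut.conj g := by
    show α = (MulAut.conj g)⁻¹ * (MulAut.conj g * α * (MulAut.conj g)⁻¹) * MulAut.conj g
    group
  rw [hback, h1]; group

end AutData

end Cfsg.Agent.Cit.QModA7
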