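import Cfsg.Agent.Cit.LemmaB
import Cfsg.Agent.Cit.Seven
import Cfsg.Agent.Cit.SolvTwo
import Cfsg.Agent.Lib.ComponentSolvable
import Cfsg.Agent.TwoFusion.QuatCoverSL

/-!
# The types of the members of `Om`

`IsType K`: `K/O(K)` is `SL(2,F)`, `|F|` odd (`≥ 3`), or `2.A₇`. Then `TyOne K`, `TyTwo K` (the two
conditions of LEMMA B), so LEMMA B, LEMMA N and THEOREM R hold for `K`.
-/

set_option autoImplicit false
set_option linter.style.haveILetI false

namespace Cfsg.Agent.Cit

open Subgroup Cfsg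

/-- `SL(2,F)`, `|F|` odd, or `2.A₇` -/
def IsTy (X : Type*) [Group X] : Prop :=
  (∃ (F : Type) (_ : Field F) (_ : Fintype F), Odd (Fintype.card F) ∧
    Nonempty (X ≃* Matrix.SpecialLinearGroup (Fin 2) F)) ∨
  IsNonsplitDoubleCover X ↥(alternatingGroup (Fin 7))

/-- The type of a member `K` of `Om`. -/
def IsType {G : Type*} [Group G] (K : Subgroup G) : Prop := IsTy (↥K ⧸ oddCore ↥K)

namespace Ty

theorem mul_self_of_orderOf {X : Type*} [Group X] {t : X} (h : orderOf t = 2) : t * t = 1 := by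
  rw [← pow_two, ← h, pow_orderOf_eq_one]

/-- the abstract conditions on the group `K/O(K)` -/
structure Good (X : Type*) [Group X] : Prop where
  uniq : ∃ z : X, orderOf z = 2 ∧ ∀ t : X, orderOf t = 2 → t = z
  one : ∀ N : Subgroup X, N.Normal → Odd N.index ∨ ∀ x ∈ N, x = 1 ∨ orderOf x = 2
  two : ∀ N : Subgroup X, N.index ≠ 2

theorem Good.congr {X Y : Type*} [Group X] [Group Y] (e : X ≃* Y) (h : Good X) : Good Y := by
  refine ⟨?_, ?_, ?_⟩
  · obtain ⟨z, hz, hu⟩ := h.uniq
    refine ⟨e z, by rw [e.orderOf_eq, hz], fun t ht => ?_⟩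
    rw [← hu (e.symm t) (by rw [e.symm.orderOf_eq, ht]), e.apply_symm_apply]
  · intro N hN
    rcases h.one (N.comap e.toMonoidHom) (hN.comap _) with h1 | h1
    · left
      rwa [index_comap_of_surjective _ e.surjective] at h1
    · right
      intro x hx
      rcases h1 (e.symm x) (by simpa [mem_comap] using hx) with h2 | h2
      · left
        have h3 := congrArg e h2
        rwa [e.apply_symm_apply, map_one] at h3
      · right
        rwa [e.symm.orderOf_eq] at h2
  · intro N hN
    apply h.two (N.comap e.toMonoidHom)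
    rwa [index_comap_of_surjective _ e.surjective]

/-- a perfect group has no subgroup of index 2 -/
theorem index_ne_two {X : Type*} [Group X] (h : Group.IsPerfect X) (N : Subgroup X) : N.index ≠ 2 := by
  intro h2
  haveI : N.Normal := normal_of_index_eq_two h2
  have h3 : IsCyclic (X ⧸ N) := by
    haveI : Fact (Nat.Prime 2) := ⟨Nat.prime_two⟩
    exact isCyclic_of_prime_card (p := 2) (by rw [← h2]; rfl)
  have h4 : commutator X ≤ N := by
    rw [commutator_def, commutator_le]
    intro x _ y _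
    rw [← QuotientGroup.eq_one_iff]
    have h5 : (x : X ⧸ N) * (y : X ⧸ N) = (y : X ⧸ N) * (x : X ⧸ N) := by
      obtain ⟨g, hg⟩ := h3.exists_generator
      obtain ⟨i, hi⟩ := hg x
      obtain ⟨j, hj⟩ := hg y
      rw [← hi, ← hj]
      exact (Commute.refl g).zpow_zpow i j
    rw [commutatorElement_def, QuotientGroup.mk_mul, QuotientGroup.mk_mul, QuotientGroup.mk_mul,
      QuotientGroup.mk_inv, QuotientGroup.mk_inv, h5]
    group
  rw [h.commutator_eq_top, top_le_iff] at h4
  rw [h4, index_top] at h2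
  omega

/-- the case `q > 3` and `2.A₇` -/
theorem good_of_isBig {X : Type*} [Group X] (h : Seven.IsBig X) : Good X := by
  obtain ⟨z, hz, hu⟩ := h.unique
  refine ⟨⟨z, hz, hu⟩, ?_, fun N => index_ne_two h.quasisimple.1 N⟩
  intro N hN
  have hcen : ∀ x ∈ center X, x = 1 ∨ orderOf x = 2 := by
    intro x hx
    rcases h with ⟨F, i1, i2, h1, h2, ⟨f⟩⟩ | h
    · have h3 : f x ∈ center (Matrix.SpecialLinearGroup (Fin 2) F) := by
        rw [Subgroup.mem_center_iff] at hx ⊢
        intro g
        have h4 := congrArg f (hx (f.symm g))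
        rwa [map_mul, map_mul, f.apply_symm_apply] at h4
      rw [TwoFusion.QuatCoverSL.center_eq_zpowers h1] at h3
      obtain ⟨i, hi⟩ := h3
      have hi' : (-1 : Matrix.SpecialLinearGroup (Fin 2) F) ^ i = f x := hi
      rcases Int.even_or_odd i with h4 | h4
      · left
        rw [Even.neg_one_zpow h4] at hi'
        apply f.injective
        rw [map_one, ← hi']
      · right
        rw [Odd.neg_one_zpow h4] at hi'
        rw [← f.orderOf_eq, ← hi', TwoFusion.QuatCoverSL.orderOf_neg_one h1]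
    · have h1 : Nat.card (center X) = 2 := h.1
      haveI : Finite (center X) := Nat.finite_of_card_ne_zero (by omega)
      have h2 : orderOf (⟨x, hx⟩ : center X) ∣ 2 := by rw [← h1]; exact orderOf_dvd_natCard _
      rw [← Subgroup.orderOf_coe] at h2
      rcases (Nat.dvd_prime Nat.prime_two).1 h2 with h3 | h3
      · left; exact orderOf_eq_one_iff.1 h3
      · right; exact h3
  rcases Lib.ComponentSolvable.quasisimple_normal_cases h.quasisimple hN with h1 | h1
  · left
    rw [h1, index_top]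
    exact odd_one
  · right
    exact fun x hx => hcen x (h1 hx)

open SolvTwo in
set_option maxRecDepth 100000 in
theorem X_comm : ∀ x : SolvTwo.X, x = 1 ∨ x = zX ∨ x * x = zX ∨
    (x * iX * x⁻¹ * iX⁻¹) * (x * iX * x⁻¹ * iX⁻¹) = zX := by
  decide +kernel

open SolvTwo in
set_option maxRecDepth 100000 in
theorem X_inv : ∀ x : SolvTwo.X, x * x = 1 → x = 1 ∨ x = zX := by
  decide +kernel

open SolvTwo in
/-- the case `q = 3` -/
theorem good_X : Good SolvTwo.X := by
  obtain ⟨hi, hj, hc, hc1, hz, hz1, hij⟩ := X_rel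
  have hzo : orderOf zX = 2 := orderOf_eq_prime (by rw [pow_two, hz]) hz1
  have one : ∀ N : Subgroup SolvTwo.X, N.Normal → Odd N.index ∨ ∀ x ∈ N, x = 1 ∨ x = zX := by
    intro N hN
    by_cases hcase : ∃ x ∈ N, x * x = zX
    · left
      obtain ⟨x, hx, hxx⟩ := hcase
      have hz' : zX ∈ N := by rw [← hxx]; exact N.mul_mem hx hx
      have hiN : iX ∈ N := by
        obtain ⟨g, hg⟩ := X_conj x hxx
        have h1 := hN.conj_mem x hx g
        rwa [hg, mul_inv_cancel_right] at h1
      have h4 : ∀ y : SolvTwo.X, y * y = zX → y ∈ N := by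
        intro y hy
        obtain ⟨g, hg⟩ := X_conj y hy
        have h1 := hN.conj_mem iX hiN g⁻¹
        have h2 : g⁻¹ * iX * g⁻¹⁻¹ = y := by
          rw [inv_inv, mul_assoc, ← hg, inv_mul_cancel_left]
        rwa [h2] at h1
      rw [← Nat.not_even_iff_odd, even_iff_two_dvd]
      intro h2
      haveI : Fact (Nat.Prime 2) := ⟨Nat.prime_two⟩
      obtain ⟨y, hy⟩ := exists_prime_orderOf_dvd_card' (G := SolvTwo.X ⧸ N) 2 h2
      obtain ⟨y, rfl⟩ := QuotientGroup.mk_surjective y
      have h5 : (y : SolvTwo.X ⧸ N) * y = 1 := mul_self_of_orderOf hy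
      have h6 : (y : SolvTwo.X ⧸ N) ≠ 1 := by
        intro h
        rw [h, orderOf_one] at hy
        omega
      apply h6
      rcases X_cases y with h | h | h | h | h
      · exact (QuotientGroup.eq_one_iff y).2 (h4 y h)
      · rw [h]; rfl
      · rw [h]; exact (QuotientGroup.eq_one_iff _).2 hz'
      · have h7 : (y : SolvTwo.X ⧸ N) * y * y = 1 := by
          rw [← QuotientGroup.mk_mul, ← QuotientGroup.mk_mul, h]; rfl
        rwa [h5, one_mul] at h7
      · have h7 : (y : SolvTwo.X ⧸ N) * y * y = 1 := by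
          rw [← QuotientGroup.mk_mul, ← QuotientGroup.mk_mul, h]
          exact (QuotientGroup.eq_one_iff _).2 hz'
        rwa [h5, one_mul] at h7
    · right
      push Not at hcase
      intro x hx
      rcases X_comm x with h | h | h | h
      · exact Or.inl h
      · exact Or.inr h
      · exact absurd h (hcase x hx)
      · refine absurd h (hcase _ ?_)
        rw [mul_assoc, mul_assoc, ← mul_assoc iX]
        exact N.mul_mem hx (hN.conj_mem _ (N.inv_mem hx) _)
  refine ⟨⟨zX, hzo, ?_⟩, ?_, ?_⟩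
  · intro t ht
    rcases X_inv t (mul_self_of_orderOf ht) with h | h
    · rw [h, orderOf_one] at ht
      omega
    · exact h
  · intro N hN
    rcases one N hN with h | h
    · exact Or.inl h
    · right
      intro x hx
      rcases h x hx with h1 | h1
      · exact Or.inl h1
      · right; rw [h1, hzo]
  · intro N h2
    haveI hN : N.Normal := normal_of_index_eq_two h2
    rcases one N hN with h | h
    · rw [h2] at h
      exact (Nat.not_even_iff_odd.2 h) (by norm_num)
    · have h3 : (cX * cX) ∈ N := mul_self_mem_of_index_two h2 cX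
      rcases h _ h3 with h4 | h4
      · rw [h4, one_mul] at hc
        exact hc1 hc
      · have h5 : cX = zX := by
          have h6 : zX * cX = 1 := by rw [← h4]; exact hc
          calc cX = zX * (zX * cX) := by rw [← mul_assoc, hz, one_mul]
            _ = zX := by rw [h6, mul_one]
        rw [h5, hz, one_mul] at hc
        exact hz1 hc

theorem three_iff {F : Type*} [Field F] [Fintype F] (h : Fintype.card F = 3) :
    Nonempty (Matrix.SpecialLinearGroup (Fin 2) F ≃* SolvTwo.X) := by
  haveI : Fact (Nat.Prime 3) := ⟨Nat.prime_three⟩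
  let e : ZMod 3 ≃+* F := ZMod.ringEquivOfPrime F Nat.prime_three h
  refine ⟨MulEquiv.ofBijective (Matrix.SpecialLinearGroup.map (e.symm : F →+* ZMod 3)) ⟨?_, ?_⟩⟩
  · intro A B hAB
    ext i j
    have h1 := congrArg (fun M : SolvTwo.X => (M : Matrix (Fin 2) (Fin 2) (ZMod 3)) i j) hAB
    exact e.symm.injective h1
  · intro B
    refine ⟨Matrix.SpecialLinearGroup.map (e : ZMod 3 →+* F) B, ?_⟩
    ext i j
    exact e.symm_apply_apply _

theorem IsTy.cases {X : Type*} [Group X] (h : IsTy X) : Seven.IsBig X ∨ Nonempty (X ≃* SolvTwo.X) := by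
  rcases h with ⟨F, i1, i2, h1, ⟨f⟩⟩ | h
  · by_cases h3 : 3 < Fintype.card F
    · exact Or.inl (Or.inl ⟨F, i1, i2, h1, h3, ⟨f⟩⟩)
    · right
      have h4 : Fintype.card F = 3 := by
        have h5 : 1 < Fintype.card F := Fintype.one_lt_card
        obtain ⟨k, hk⟩ := h1
        omega
      obtain ⟨e⟩ := three_iff h4
      exact ⟨f.trans e⟩
  · exact Or.inl (Or.inr h)

end Ty

theorem IsTy.good {X : Type*} [Group X] (h : IsTy X) : Ty.Good X := by
  rcases Ty.IsTy.cases h with h | ⟨⟨e⟩⟩
  · exact Ty.good_of_isBig h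
  · exact Ty.good_X.congr e.symm

section main

variable {G : Type*} [Group G]

namespace Ty

/-- a 2-element lies in a normal subgroup of odd index -/
theorem mem_of_odd_index {H : Type*} [Group H] {N : Subgroup H} [N.Normal] (hN : Odd N.index)
    {x : H} {k : ℕ} (hx : x ^ 2 ^ k = 1) : x ∈ N := by
  rw [← QuotientGroup.eq_one_iff]
  have h1 : orderOf (x : H ⧸ N) ∣ 2 ^ k := by
    apply orderOf_dvd_of_pow_eq_one
    rw [← QuotientGroup.mk_pow, hx]; rfl
  have h2 : orderOf (x : H ⧸ N) ∣ N.index := orderOf_dvd_natCard _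
  have h3 : Nat.Coprime (2 ^ k) N.index := Nat.Coprime.pow_left k (Nat.coprime_two_left.mpr hN)
  exact orderOf_eq_one_iff.mp (Nat.eq_one_of_dvd_coprimes h3 h1 h2)

/-- an element of odd order lies in a normal subgroup of index 2 -/
theorem mem_of_index_two {H : Type*} [Group H] {N : Subgroup H} (hN : N.index = 2)
    {x : H} (hx : Odd (orderOf x)) : x ∈ N := by
  haveI := normal_of_index_eq_two hN
  rw [← QuotientGroup.eq_one_iff]
  have h1 : orderOf (x : H ⧸ N) ∣ 2 := by rw [← hN]; exact orderOf_dvd_natCard _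
  have h2 : orderOf (x : H ⧸ N) ∣ orderOf x := by
    apply orderOf_dvd_of_pow_eq_one
    rw [← QuotientGroup.mk_pow, pow_orderOf_eq_one]; rfl
  exact orderOf_eq_one_iff.mp (Nat.eq_one_of_dvd_coprimes (Nat.coprime_two_left.mpr hx) h1 h2)

theorem odd_oddCore [Finite G] (K : Subgroup G) : Odd (Nat.card (oddCore ↥K)) :=
  Nat.coprime_two_right.mp (Lib.Cores.pPrimeCore_coprime 2)

theorem index_map_core (K : Subgroup G) (N : Subgroup K) :
    (N.map (QuotientGroup.mk' (oddCore ↥K))).index = (N ⊔ oddCore ↥K).index := by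
  rw [← index_comap_of_surjective _ (QuotientGroup.mk'_surjective (oddCore ↥K)), comap_map_eq,
    QuotientGroup.ker_mk']

end Ty

open Ty

variable [Finite G]

theorem tyOne_of_good {K : Subgroup G} (hz : zz K ∈ K) (h2 : orderOf (zz K) = 2)
    (h : Good (↥K ⧸ oddCore ↥K)) : TyOne K := by
  intro N hNK hKN
  haveI hN : (N.subgroupOf K).Normal := (normal_subgroupOf_iff_le_normalizer hNK).2 hKN
  have hodd := odd_oddCore K
  rcases h.one ((N.subgroupOf K).map (QuotientGroup.mk' (oddCore ↥K)))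
    (hN.map _ (QuotientGroup.mk'_surjective _)) with h1 | h1
  · left
    have h4 : Odd (N.subgroupOf K).index := by
      rw [← relIndex_mul_index (le_sup_left : N.subgroupOf K ≤ N.subgroupOf K ⊔ oddCore K)]
      refine Odd.mul ?_ ?_
      · rw [sup_comm, relIndex_sup_right]
        exact Odd.of_dvd_nat hodd (relIndex_dvd_card _ _)
      · rw [← index_map_core]; exact h1
    intro Q hQ x hx
    obtain ⟨k, hk⟩ := hQ.2.1 ⟨x, hx⟩
    have hk' : x ^ 2 ^ k = 1 := congrArg Subtype.val hk
    have h5 : (⟨x, hQ.1 hx⟩ : K) ∈ N.subgroupOf K := by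
      refine mem_of_odd_index (k := k) h4 (Subtype.ext ?_)
      exact hk'
    exact h5
  · right
    obtain ⟨w, hw, hwu⟩ := h.uniq
    have hzw : (QuotientGroup.mk' (oddCore ↥K)) ⟨zz K, hz⟩ = w := by
      apply hwu
      have h3 : zz K * zz K = 1 := mul_self_of_orderOf h2
      apply orderOf_eq_prime
      · rw [pow_two, ← map_mul]
        have h4 : (⟨zz K, hz⟩ : K) * ⟨zz K, hz⟩ = 1 := Subtype.ext h3
        rw [h4, map_one]
      · intro h4
        have h5 : (⟨zz K, hz⟩ : K) ∈ oddCore ↥K := (QuotientGroup.eq_one_iff _).1 h4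
        have h6 := SignalizersComponents.IntrinsicBasic.eq_one_of_mem_odd hodd h5 (n := 1)
          (Subtype.ext (by rw [pow_one, Subgroup.coe_pow, pow_two]; exact h3))
        have h7 : zz K = 1 := congrArg Subtype.val h6
        rw [h7, orderOf_one] at h2
        omega
    intro x hx
    have hxK := hNK hx
    have h3 := h1 _ (mem_map_of_mem (QuotientGroup.mk' (oddCore ↥K))
      (show (⟨x, hxK⟩ : K) ∈ N.subgroupOf K from hx))
    rcases h3 with h4 | h4
    · have h5 : (⟨x, hxK⟩ : K) ∈ oddCore ↥K := (QuotientGroup.eq_one_iff _).1 h4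
      exact mem_sup_left ⟨_, h5, rfl⟩
    · have h5 := hwu _ h4
      rw [← hzw] at h5
      have h6 : (⟨x, hxK⟩ : K)⁻¹ * ⟨zz K, hz⟩ ∈ oddCore ↥K := QuotientGroup.eq.1 h5
      have h7 : x⁻¹ * zz K ∈ OO K := ⟨_, h6, rfl⟩
      have h8 : x = zz K * (x⁻¹ * zz K)⁻¹ := by group
      rw [h8]
      exact (OO K ⊔ zpowers (zz K)).mul_mem (mem_sup_right (mem_zpowers _))
        (mem_sup_left ((OO K).inv_mem h7))

theorem tyTwo_of_good {K : Subgroup G} (h : Good (↥K ⧸ oddCore ↥K)) : TyTwo K := by
  apply LB.tyTwo_of_relIndex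
  intro N hNK h2
  apply h.two ((N.subgroupOf K).map (QuotientGroup.mk' (oddCore ↥K)))
  have h1 : (N.subgroupOf K).index = 2 := h2
  rw [index_map_core, sup_eq_left.2, h1]
  intro x hx
  refine mem_of_index_two h1 (Odd.of_dvd_nat (odd_oddCore K) ?_)
  have h3 := orderOf_dvd_natCard (⟨x, hx⟩ : oddCore ↥K)
  rwa [← Subgroup.orderOf_coe] at h3

theorem Ty.zz_of_isType {K : Subgroup G} (h : IsType K) : zz K ∈ K ∧ orderOf (zz K) = 2 := by
  apply zz_spec
  haveI : Fact (Nat.Prime 2) := ⟨Nat.prime_two⟩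
  obtain ⟨w, hw, -⟩ := h.good.uniq
  have h1 : 2 ∣ Nat.card K := by
    have h2 : orderOf w ∣ Nat.card (↥K ⧸ oddCore ↥K) := orderOf_dvd_natCard w
    rw [hw] at h2
    exact h2.trans (card_quotient_dvd_card _)
  obtain ⟨t, ht⟩ := exists_prime_orderOf_dvd_card' (G := K) 2 h1
  exact ⟨t, t.2, by rw [Subgroup.orderOf_coe]; exact ht⟩

/-- `TyOne` for `K/O(K) = SL(2,q)`, `2.A₇` -/
theorem IsType.tyOne {K : Subgroup G} (h : IsType K) : TyOne K :=
  tyOne_of_good (Ty.zz_of_isType h).1 (Ty.zz_of_isType h).2 h.good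

/-- `TyTwo` for `K/O(K) = SL(2,q)`, `2.A₇` -/
theorem IsType.tyTwo {K : Subgroup G} (h : IsType K) : TyTwo K := tyTwo_of_good h.good

omit [Finite G] in
/-- all members of the class of `K` have the type of `K` -/
theorem IsType.cj {K : Subgroup G} (h : IsType K) (g : G) : IsType (Cit.cj g K) := by
  have e : (↥K ⧸ oddCore ↥K) ≃* (↥(Cit.cj g K) ⧸ oddCore ↥(Cit.cj g K)) := Intrinsic.Basic.cjQuot g K
  rcases h with ⟨F, i1, i2, h1, ⟨f⟩⟩ | h
  · exact Or.inl ⟨F, i1, i2, h1, ⟨e.symm.trans f⟩⟩
  · exact Or.inr (Intrinsic.Basic.cover_congr e h)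

omit [Finite G] in
/-- the type of all members of `Om = cls J` -/
theorem IsType.of_mem_cls {J K : Subgroup G} (h : IsType J) (hK : K ∈ cls J) : IsType K := by
  obtain ⟨g, rfl⟩ := hK
  exact h.cj g

/-- **LEMMA B** for the types of the classical involution theorem -/
theorem Hyp.lemmaB_of_isType {Om : Set (Subgroup G)} (h : Hyp Om) {K : Subgroup G} (hK : K ∈ Om)
    (hT : IsType K) {M : Subgroup G} (hKM : K ≤ normalizer (M : Set G)) (hOM : OO M = ⊥)
    (hzM : ¬ M ≤ centralizer {zz K}) {Q : Subgroup G} (hQ : Syl Q K) : Q ≤ M :=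
  h.lemmaB hK hT.tyOne hT.tyTwo hKM hOM hzM hQ

end main

end Cfsg.Agent.Cit
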