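import Cfsg.Agent.Cit.QModSL
import Cfsg.Agent.Cit.QModA7
import Cfsg.Agent.Cit.Types
import Cfsg.Agent.LieRecognition.FieldSemilinear

/-!
# Automorphisms of the groups of type `SL(2,F)`, `|F|` odd, and `2.A₇`

For `IsTy L` (`SL(2,F)`, `|F| ≥ 3` odd, or `2.A₇`), `z` the involution of `L`:

* `conj_four`: the elements of order 4 are conjugate;
* (A0) `eq_one_of_sylow`: an automorphism of 2-power order trivial on a Sylow 2-subgroup is trivial;
* `commutator_inner`: `(Aut L)' ≤ Inn L`;
* (A1) `map_inv_eq_one`: a homomorphism from a group of this type to `Aut L` kills its involution;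
* (A3) `eq_conj_of_fix`: an involution of `Aut L` trivial on `C_L(x)`, `x² = z`, is `1` or conjugation by `x`;
* (A2) `GQ.exists_inverted`: an involution acting non-trivially on a quaternion group inverts an element of
  order 4.
-/

set_option autoImplicit false
set_option linter.style.haveILetI false

namespace Cfsg.Agent.Cit.AutFacts

open Subgroup Cfsg
open scoped commutatorElement

/-- inner automorphism -/
def IsInn {L : Type*} [Group L] (α : MulAut L) : Prop := ∃ s, α = MulAut.conj s

theorem isInn_iff {L : Type*} [Group L] {α : MulAut L} : IsInn α ↔ QModSL.Inn α := by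
  constructor
  · rintro ⟨s, rfl⟩
    exact ⟨s, fun x => rfl⟩
  · rintro ⟨s, hs⟩
    exact ⟨s, MulEquiv.ext fun x => hs x⟩

section SL

variable {F : Type*} [Field F] [Fintype F]

local notation "SL2" => Matrix.SpecialLinearGroup (Fin 2)

open QModSL Cfsg.Agent.Classification.QDW.TypeHom

theorem sl_center (hF : Odd (Fintype.card F)) {s : SL2 F} (h : ∀ x, s * x = x * s) : s = 1 ∨ s = -1 := by
  have h1 : s ∈ center (SL2 F) := by
    rw [Subgroup.mem_center_iff]
    exact fun x => (h x).symm
  rw [TwoFusion.QuatCoverSL.center_eq_zpowers hF] at h1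
  obtain ⟨i, hi⟩ := h1
  have hi' : (-1 : SL2 F) ^ i = s := hi
  rcases Int.even_or_odd i with h4 | h4
  · left; rw [← hi', Even.neg_one_zpow h4]
  · right; rw [← hi', Odd.neg_one_zpow h4]

theorem sl_sq (hF : Odd (Fintype.card F)) {s : SL2 F} (h : s * s = 1) : s = 1 ∨ s = -1 := by
  by_cases h1 : s = 1
  · exact Or.inl h1
  · exact Or.inr (TwoFusion.QuatCoverSL.eq_neg_one_of_orderOf_two hF s (orderOf_eq_prime (by rw [pow_two, h]) h1))

theorem sl_orderOf_four (hF : Odd (Fintype.card F)) {x : SL2 F} (hx : x * x = -1) : orderOf x = 4 := by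
  apply Cit.GQ.orderOf_of_sq hx (by simp)
  intro h
  have := TwoFusion.QuatCoverSL.orderOf_neg_one hF
  rw [h, orderOf_one] at this
  omega

theorem orderOf_conj' {G : Type*} [Group G] (c g : G) : orderOf (g * c * g⁻¹) = orderOf c := by
  rw [← MulAut.conj_apply, MulEquiv.orderOf_eq]

/-- (A3) for `SL(2,F)` -/
theorem sl_eq_conj_of_fix (hF : Odd (Fintype.card F)) {α : MulAut (SL2 F)} (hα : α * α = 1) {x : SL2 F}
    (hx : x * x = -1) (hf : ∀ c, c * x = x * c → α c = c) : α = 1 ∨ α = MulAut.conj x := by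
  haveI : Fact (Nat.Prime 2) := ⟨Nat.prime_two⟩
  let P : Sylow 2 (SL2 F) := default
  obtain ⟨c, v, n, h, hq⟩ := exists_coord hF P
  obtain ⟨g, hg⟩ := QModSL.conj_four hF (sl_orderOf_four hF h.four) (sl_orderOf_four hF hx)
  have hc' : orderOf (g * c * g⁻¹) = 2 ^ (n + 2) := by
    rw [← h.ord]
    exact orderOf_conj' c g
  have hcomm : g * c * g⁻¹ * x = x * (g * c * g⁻¹) := by
    rw [← hg]
    calc g * c * g⁻¹ * (g * c ^ 2 ^ n * g⁻¹) = g * (c * c ^ 2 ^ n) * g⁻¹ := by group
      _ = g * (c ^ 2 ^ n * c) * g⁻¹ := by rw [← pow_succ', pow_succ]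
      _ = _ := by group
  have ht : typ α = 1 := typ_eq_one_of_fix hF (k := 1) (by rw [pow_one, pow_two, hα]) hc' hq
    (Or.inl (hf _ hcomm))
  have hin : Inn α := by
    by_contra hin
    exact no_four hF hα ht hin hx (hf x rfl)
  obtain ⟨s, rfl⟩ := isInn_iff.2 hin
  have hsx : s * x = x * s := by
    have := hf x rfl
    rwa [MulAut.conj_apply, mul_inv_eq_iff_eq_mul] at this
  have hss : s * s = 1 ∨ s * s = -1 := by
    apply sl_center hF
    intro y
    have h1 := DFunLike.congr_fun hα y
    rw [← map_mul, MulAut.conj_apply, MulAut.one_apply, mul_inv_eq_iff_eq_mul] at h1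
    exact h1
  rcases hss with h1 | h1
  · left
    rcases sl_sq hF h1 with rfl | rfl
    · rw [map_one]
    · ext y
      simp [MulAut.conj_apply]
  · right
    have h2 : (s * x) * (s * x) = 1 := by
      calc (s * x) * (s * x) = s * (x * s) * x := by group
        _ = (s * s) * (x * x) := by rw [← hsx]; group
        _ = 1 := by rw [h1, hx]; simp
    have h3 : s = x ∨ s = -x := by
      rcases sl_sq hF h2 with h3 | h3
      · right
        rw [mul_eq_one_iff_eq_inv] at h3
        rw [h3]
        symm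
        rw [eq_inv_iff_mul_eq_one, neg_mul, hx, neg_neg]
      · left
        have h4 : s = -x⁻¹ := by
          rw [← mul_inv_cancel_right s x, h3, neg_mul, one_mul]
        rw [h4]
        have h5 : x⁻¹ = -x := by
          symm
          rw [eq_inv_iff_mul_eq_one, neg_mul, hx, neg_neg]
        rw [h5, neg_neg]
    rcases h3 with rfl | rfl
    · rfl
    · ext y
      simp [MulAut.conj_apply]

/-- commutators of automorphisms of `SL(2,F)` are inner -/
theorem sl_commutator_inner (hF : Odd (Fintype.card F)) {α : MulAut (SL2 F)}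
    (h : α ∈ commutator (MulAut (SL2 F))) : IsInn α := by
  set I : Subgroup (MulAut (SL2 F)) := (MulAut.conj : SL2 F →* MulAut (SL2 F)).range with hI
  have hmem : ∀ β, β ∈ I ↔ IsInn β := by
    intro β
    constructor
    · rintro ⟨s, rfl⟩; exact ⟨s, rfl⟩
    · rintro ⟨s, rfl⟩; exact ⟨s, rfl⟩
  haveI hIn : I.Normal := by
    refine ⟨?_⟩
    rintro _ ⟨s, rfl⟩ β
    refine ⟨β s, ?_⟩
    refine MulEquiv.ext fun y => ?_
    have h1 : β (β⁻¹ y) = y := MulEquiv.apply_symm_apply β y
    show β s * y * (β s)⁻¹ = β (s * (β⁻¹ y) * s⁻¹)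
    rw [map_mul, map_mul, map_inv, h1]
  haveI : IsCyclic (F ≃+* F) := LieRecognition.FieldSemilinear.isCyclic_ringAut F
  have hle : I ≤ (typ (F := F)).ker := by
    rintro β hβ
    exact typ_inner (isInn_iff.1 ((hmem β).1 hβ))
  let f : (MulAut (SL2 F) ⧸ I) →* (F ≃+* F) := QuotientGroup.lift I typ hle
  have hker : f.ker ≤ center (MulAut (SL2 F) ⧸ I) := by
    intro a
    obtain ⟨a, rfl⟩ := QuotientGroup.mk_surjective a
    intro ha
    have hta : typ a = 1 := ha
    rw [Subgroup.mem_center_iff]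
    intro b
    obtain ⟨b, rfl⟩ := QuotientGroup.mk_surjective b
    rw [← QuotientGroup.mk_mul, ← QuotientGroup.mk_mul]
    apply Eq.symm
    rw [QuotientGroup.eq]
    -- `(a b)⁻¹ (b a) = b⁻¹ a⁻¹ b a`
    rw [hmem]
    by_cases hia : IsInn a
    · rw [← hmem]
      have h1 : (a * b)⁻¹ * (b * a) = (b⁻¹ * a⁻¹ * b) * a := by group
      rw [h1]
      refine mul_mem ?_ ((hmem a).2 hia)
      have := hIn.conj_mem a⁻¹ (inv_mem ((hmem a).2 hia)) b⁻¹
      rwa [inv_inv] at this
    · have h1 : (a * b)⁻¹ * (b * a) = (b⁻¹ * a⁻¹ * b) * a := by group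
      rw [h1, isInn_iff]
      apply inner_mul hF
      · rw [map_mul, map_mul, map_inv, map_inv, hta]; group
      · exact hta
      · rw [← isInn_iff, ← hmem]
        intro h2
        apply hia
        rw [← hmem]
        have h3 := inv_mem (hIn.conj_mem _ h2 b)
        have h4 : (b * (b⁻¹ * a⁻¹ * b) * b⁻¹)⁻¹ = a := by group
        rwa [h4] at h3
      · rwa [← isInn_iff]
  have hcomm := (MonoidHom.isMulCommutative_of_isCyclic_of_ker_le_center f hker).is_comm.comm
  have h1 : commutator (MulAut (SL2 F)) ≤ I := by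
    rw [_root_.commutator_def, commutator_le]
    intro x _ y _
    rw [← QuotientGroup.eq_one_iff, commutatorElement_def, QuotientGroup.mk_mul, QuotientGroup.mk_mul,
      QuotientGroup.mk_mul, QuotientGroup.mk_inv, QuotientGroup.mk_inv, hcomm (x : _ ⧸ I) y]
    group
  exact (hmem α).1 (h1 h)

end SL

/-! ### The general case -/

section Ty

variable {L : Type*} [Group L] {z : L}

/-- `L` is `SL(2,F)` or `2.A₇`, `z` is its involution -/
structure TyZ (L : Type*) [Group L] (z : L) : Prop where
  ty : IsTy L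
  ord : orderOf z = 2

theorem exists_tyZ (h : IsTy L) : ∃ z : L, TyZ L z := by
  obtain ⟨z, hz, -⟩ := h.good.uniq
  exact ⟨z, h, hz⟩

/-- transport of the situation -/
theorem isInn_congr {L' : Type*} [Group L'] (e : L ≃* L') {α : MulAut L}
    (h : IsInn (MulAut.congr e α)) : IsInn α := by
  obtain ⟨s, hs⟩ := h
  refine ⟨e.symm s, MulEquiv.ext fun x => ?_⟩
  have h1 := DFunLike.congr_fun hs (e x)
  have h2 : MulAut.congr e α (e x) = e (α x) := by
    show e (α (e.symm (e x))) = e (α x)
    rw [e.symm_apply_apply]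
  rw [h2, MulAut.conj_apply] at h1
  apply e.injective
  rw [h1, MulAut.conj_apply, map_mul, map_mul, map_inv, e.apply_symm_apply]

namespace TyZ

theorem uniq (h : TyZ L z) {t : L} (ht : orderOf t = 2) : t = z := by
  obtain ⟨w, hw, hu⟩ := h.ty.good.uniq
  rw [hu t ht, hu z h.ord]

theorem z_mul (h : TyZ L z) : z * z = 1 := by rw [← pow_two, ← h.ord, pow_orderOf_eq_one]

theorem z_ne (h : TyZ L z) : z ≠ 1 := by
  intro h1
  have := h.ord
  rw [h1, orderOf_one] at this
  omega

theorem eq_or (h : TyZ L z) {t : L} (ht : t * t = 1) : t = 1 ∨ t = z := by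
  by_cases h1 : t = 1
  · exact Or.inl h1
  · exact Or.inr (h.uniq (orderOf_eq_prime (by rw [pow_two, ht]) h1))

theorem map_z (h : TyZ L z) (α : MulAut L) : α z = z := h.uniq (by rw [α.orderOf_eq, h.ord])

theorem comm (h : TyZ L z) (g : L) : g * z = z * g := by
  have h1 := h.map_z (MulAut.conj g)
  rwa [MulAut.conj_apply, mul_inv_eq_iff_eq_mul] at h1

theorem orderOf_four (h : TyZ L z) {x : L} (hx : x * x = z) : orderOf x = 4 :=
  GQ.orderOf_of_sq hx h.z_mul h.z_ne

theorem sq_of_four (h : TyZ L z) {x : L} (hx : orderOf x = 4) : x * x = z := by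
  apply h.uniq
  rw [← pow_two, orderOf_pow' x (by norm_num), hx]
  norm_num

/-- the two cases -/
theorem cases (h : TyZ L z) :
    (∃ (F : Type) (_ : Field F) (_ : Fintype F) (e : L ≃* Matrix.SpecialLinearGroup (Fin 2) F),
      Odd (Fintype.card F) ∧ e z = -1) ∨ (∃ D : QModA7.AutData L, D.K.z = z) := by
  rcases h.ty with ⟨F, i1, i2, h1, ⟨e⟩⟩ | h1
  · left
    exact ⟨F, i1, i2, e, h1, TwoFusion.QuatCoverSL.eq_neg_one_of_orderOf_two h1 _
      (by rw [e.orderOf_eq, h.ord])⟩
  · right
    obtain ⟨D⟩ := QModA7.exists_autData h1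
    exact ⟨D, h.uniq D.K.orderOf_z⟩

/-- the elements of order 4 are conjugate -/
theorem conj_four (h : TyZ L z) {x y : L} (hx : x * x = z) (hy : y * y = z) : ∃ g, g * x * g⁻¹ = y := by
  rcases h.cases with ⟨F, i1, i2, e, hF, he⟩ | ⟨D, rfl⟩
  · obtain ⟨g, hg⟩ := QModSL.conj_four hF (x := e x) (y := e y)
      (by rw [e.orderOf_eq, h.orderOf_four hx]) (by rw [e.orderOf_eq, h.orderOf_four hy])
    refine ⟨e.symm g, e.injective ?_⟩
    rw [map_mul, map_mul, map_inv, e.apply_symm_apply, hg]
  · exact D.conj_four hx hy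

theorem center (h : TyZ L z) {s : L} (hs : ∀ x, s * x = x * s) : s = 1 ∨ s = z := by
  rcases h.cases with ⟨F, i1, i2, e, hF, he⟩ | ⟨D, rfl⟩
  · rcases sl_center hF (s := e s) (fun x => by
      have := congrArg e (hs (e.symm x))
      rwa [map_mul, map_mul, e.apply_symm_apply] at this) with h1 | h1
    · left
      exact (map_eq_one_iff _ e.injective).1 h1
    · right
      exact e.injective (h1.trans he.symm)
  · exact (D.K.mem_center_iff (by simp)).1 (by rw [Subgroup.mem_center_iff]; exact fun x => (hs x).symm)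

/-- (A0) an automorphism of 2-power order trivial on a Sylow 2-subgroup is trivial -/
theorem eq_one_of_sylow [Finite L] (h : TyZ L z) (P : Sylow 2 L) {α : MulAut L} {k : ℕ}
    (hα : α ^ 2 ^ k = 1) (hP : ∀ x ∈ P, α x = x) : α = 1 := by
  haveI : Fact (Nat.Prime 2) := ⟨Nat.prime_two⟩
  rcases h.cases with ⟨F, i1, i2, e, hF, he⟩ | ⟨D, rfl⟩
  · have hidx : ¬ 2 ∣ ((P : Subgroup L).map e.toMonoidHom).index := by
      have h0 : ((P : Subgroup L).map e.toMonoidHom).index = (P : Subgroup L).index :=
        index_map_equiv (P : Subgroup L) e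
      rw [h0]
      exact P.not_dvd_index
    let P' : Sylow 2 (Matrix.SpecialLinearGroup (Fin 2) F) := (P.isPGroup'.map e.toMonoidHom).toSylow hidx
    have h1 : MulAut.congr e α = 1 := by
      apply QModSL.aut_eq_one hF P' (k := k)
      · rw [← map_pow, hα, map_one]
      · rintro _ ⟨x, hx, rfl⟩
        show e (α (e.symm (e x))) = e x
        rw [e.symm_apply_apply, hP x hx]
    exact (map_eq_one_iff _ (MulAut.congr e).injective).1 h1
  · exact D.eq_one_of_sylow P hP

/-- (A3) an involution of `Aut L` trivial on the centraliser of `x`, `x² = z` -/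
theorem eq_conj_of_fix (h : TyZ L z) {α : MulAut L} (hα : α * α = 1) {x : L} (hx : x * x = z)
    (hf : ∀ c, c * x = x * c → α c = c) : α = 1 ∨ α = MulAut.conj x := by
  rcases h.cases with ⟨F, i1, i2, e, hF, he⟩ | ⟨D, rfl⟩
  · have key := sl_eq_conj_of_fix hF (α := MulAut.congr e α) (by rw [← map_mul, hα, map_one])
      (x := e x) (by rw [← map_mul, hx, he]) (by
        intro c hc
        have h1 : e.symm c * x = x * e.symm c := by
          apply e.injective
          rw [map_mul, map_mul, e.apply_symm_apply, hc]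
        show e (α (e.symm c)) = c
        rw [hf _ h1, e.apply_symm_apply])
    rcases key with h1 | h1
    · left
      exact (map_eq_one_iff _ (MulAut.congr e).injective).1 h1
    · right
      refine MulEquiv.ext fun y => e.injective ?_
      have h2 := DFunLike.congr_fun h1 (e y)
      have h3 : MulAut.congr e α (e y) = e (α y) := by
        show e (α (e.symm (e y))) = e (α y)
        rw [e.symm_apply_apply]
      rw [h3] at h2
      rw [h2, MulAut.conj_apply, MulAut.conj_apply, map_mul, map_mul, map_inv]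
  · exact D.eq_conj_of_fix hα hx hf

/-- commutators of automorphisms are inner -/
theorem commutator_inner (h : TyZ L z) {α : MulAut L} (hα : α ∈ commutator (MulAut L)) : IsInn α := by
  rcases h.cases with ⟨F, i1, i2, e, hF, he⟩ | ⟨D, rfl⟩
  · apply isInn_congr e
    apply sl_commutator_inner hF
    have h1 : (commutator (MulAut L)).map (MulAut.congr e).toMonoidHom =
        commutator (MulAut (Matrix.SpecialLinearGroup (Fin 2) F)) := by
      rw [_root_.commutator_def, _root_.commutator_def, Subgroup.map_commutator, ← MonoidHom.range_eq_map,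
        MonoidHom.range_eq_top.mpr (MulAut.congr e).surjective]
    rw [← h1]
    exact ⟨α, hα, rfl⟩
  · exact D.commutator_inner hα

/-- no quaternion pair in `Inn L` -/
theorem sq_eq_one_of_inner (h : TyZ L z) {α β : MulAut L} (ha : IsInn α) (hb : IsInn β)
    (h1 : α * α = β * β) (h2 : β * α * β⁻¹ = α⁻¹) : α * α = 1 := by
  obtain ⟨a, rfl⟩ := ha
  obtain ⟨b, rfl⟩ := hb
  have inj : ∀ s t : L, MulAut.conj s = MulAut.conj t → s = t ∨ s = t * z := by
    intro s t hst
    rcases h.center (s := t⁻¹ * s) (fun x => by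
      have h3 := DFunLike.congr_fun hst (t⁻¹ * s * x * s⁻¹ * t)
      have h4 := DFunLike.congr_fun hst x
      rw [MulAut.conj_apply, MulAut.conj_apply] at h4
      calc t⁻¹ * s * x = t⁻¹ * (s * x * s⁻¹) * s := by group
        _ = t⁻¹ * (t * x * t⁻¹) * s := by rw [h4]
        _ = x * (t⁻¹ * s) := by group) with h5 | h5
    · left
      rw [inv_mul_eq_one] at h5
      exact h5.symm
    · right
      rw [inv_mul_eq_iff_eq_mul] at h5
      exact h5
  rw [← map_mul, ← map_mul] at h1
  rw [← map_mul, ← map_inv, ← map_mul, ← map_inv] at h2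
  have hz := h.z_mul
  have hc := h.comm
  -- `b a² b⁻¹ = a⁻²` and `= a²`
  have e1 : b * (a * a) * b⁻¹ = a⁻¹ * a⁻¹ := by
    have e : b * (a * a) * b⁻¹ = (b * a * b⁻¹) * (b * a * b⁻¹) := by group
    rw [e]
    rcases inj _ _ h2 with h3 | h3
    · rw [h3]
    · rw [h3]
      calc a⁻¹ * z * (a⁻¹ * z) = a⁻¹ * (z * a⁻¹) * z := by group
        _ = a⁻¹ * a⁻¹ * (z * z) := by rw [← hc]; group
        _ = a⁻¹ * a⁻¹ := by rw [hz, mul_one]
  have e2 : b * (a * a) * b⁻¹ = a * a := by
    rcases inj _ _ h1 with h3 | h3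
    · rw [h3]; group
    · rw [h3]
      calc b * (b * b * z) * b⁻¹ = b * b * (b * z) * b⁻¹ := by group
        _ = b * b * (z * b) * b⁻¹ := by rw [hc]
        _ = b * b * z := by group
  have e3 : (a * a) * (a * a) = 1 := by
    have e4 : a * a = a⁻¹ * a⁻¹ := e2.symm.trans e1
    nth_rewrite 2 [e4]
    group
  rw [← map_mul]
  rcases h.eq_or e3 with h3 | h3
  · rw [h3, map_one]
  · rw [h3]
    refine MulEquiv.ext fun x => ?_
    rw [MulAut.conj_apply, ← hc, mul_inv_cancel_right]
    rfl

theorem exists_pair (h : TyZ L z) : ∃ a b : L, a * a = z ∧ b * b = z ∧ b * a * b⁻¹ = a⁻¹ := by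
  haveI : Fact (Nat.Prime 2) := ⟨Nat.prime_two⟩
  rcases h.cases with ⟨F, i1, i2, e, hF, he⟩ | ⟨D, rfl⟩
  · let P : Sylow 2 (Matrix.SpecialLinearGroup (Fin 2) F) := default
    obtain ⟨c, v, n, hc, hq⟩ := QModSL.exists_coord hF P
    refine ⟨e.symm (c ^ 2 ^ n), e.symm v, ?_, ?_, ?_⟩
    · rw [← map_mul, hc.four, ← he, e.symm_apply_apply]
    · rw [← map_mul, hc.v_sq, ← he, e.symm_apply_apply]
    · rw [← map_mul, ← map_inv, ← map_mul, ← map_inv, hc.conj_pow]
      congr 1; group
  · obtain ⟨x0, hx0⟩ := D.K.exists_lift QModA7.px_mem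
    obtain ⟨y, hy⟩ := D.K.exists_lift QModA7.py_mem
    have hxy : x0 * y * x0⁻¹ = y * D.K.z := by
      apply D.anti (D.px_sq hx0) (D.py_sq hy)
      apply D.K.dbl 0 3 1 2 (by decide) (by decide) (by decide) (by decide) (by decide) (by decide)
      rw [map_mul, hx0, hy]
      decide
    refine ⟨y, x0, D.py_sq hy, D.px_sq hx0, ?_⟩
    rw [hxy, eq_inv_iff_mul_eq_one]
    calc y * D.K.z * y = y * (y * D.K.z) := by rw [mul_assoc, D.K.z_comm y]
      _ = 1 := by rw [← mul_assoc, D.py_sq hy, D.K.z_mul_z]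

/-- elements of order 4 are commutators (or products of such) -/
theorem mem_commutator (h : TyZ L z) {x : L} (hx : x * x = z) : x ∈ commutator L := by
  obtain ⟨a, b, ha, hb, hab⟩ := h.exists_pair
  have h1 : (a * b) * (a * b) = z := by
    calc (a * b) * (a * b) = a * (b * a * b⁻¹) * (b * b) := by group
      _ = z := by rw [hab, hb]; group
  obtain ⟨g, hg⟩ := h.conj_four ha h1
  have h2 : b ∈ commutator L := by
    have h3 : b = ⁅a⁻¹, g⁆ := by
      rw [commutatorElement_def, inv_inv]
      calc b = a⁻¹ * (a * b) := by group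
        _ = a⁻¹ * (g * a * g⁻¹) := by rw [hg]
        _ = _ := by group
    rw [h3]
    exact commutator_mem_commutator (mem_top _) (mem_top _)
  obtain ⟨k, hk⟩ := h.conj_four hb hx
  rw [← hk]
  exact (inferInstance : (commutator L).Normal).conj_mem b h2 k

/-- (A1) no quaternion pair in `(Aut L)'` -/
theorem sq_eq_one (h : TyZ L z) {α β : MulAut L} (ha : α ∈ commutator (MulAut L))
    (hb : β ∈ commutator (MulAut L)) (h1 : α * α = β * β) (h2 : β * α * β⁻¹ = α⁻¹) : α * α = 1 :=
  h.sq_eq_one_of_inner (h.commutator_inner ha) (h.commutator_inner hb) h1 h2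

/-- (A1) a homomorphism to `Aut L` kills the square of a quaternion pair lying in the commutator subgroup -/
theorem map_sq_eq_one (h : TyZ L z) {H : Type*} [Group H] (f : H →* MulAut L) {a b : H}
    (ha : a ∈ commutator H) (hb : b ∈ commutator H) (h1 : a * a = b * b) (h2 : b * a * b⁻¹ = a⁻¹) :
    f (a * a) = 1 := by
  have h3 : (commutator H).map f ≤ commutator (MulAut L) := by
    rw [_root_.commutator_def, _root_.commutator_def, Subgroup.map_commutator]
    exact commutator_mono le_top le_top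
  rw [map_mul]
  apply h.sq_eq_one (h3 ⟨a, ha, rfl⟩) (h3 ⟨b, hb, rfl⟩)
  · rw [← map_mul, h1, map_mul]
  · rw [← map_mul, ← map_inv, ← map_mul, h2, map_inv]

/-- (A1) a homomorphism from a group of this type to the automorphism group of another one kills the involution -/
theorem map_inv_eq_one (h : TyZ L z) {H : Type*} [Group H] {w : H} (hw : TyZ H w) (f : H →* MulAut L) :
    f w = 1 := by
  obtain ⟨a, b, ha, hb, hab⟩ := hw.exists_pair
  rw [← ha]
  exact h.map_sq_eq_one f (hw.mem_commutator ha) (hw.mem_commutator hb) (by rw [ha, hb]) hab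

end TyZ

end Ty

end Cfsg.Agent.Cit.AutFacts
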