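import Cfsg.Agent.Cit.AutFacts
import Cfsg.Agent.Cit.AutQuat

/-!
# Involutory automorphisms invert an element of order 4

* `exists_inverted`: an automorphism `α` of `G` acting as a non-trivial involution on a quaternion subgroup `Q`
  inverts an element of order 4 of `Q`;
* `exists_inverted_conj`: the same for `t ∈ N(Q)`, `t² = 1`;
* `TyZ.exists_inverted`: an involution of `Aut L`, `L = SL(2,F)` or `2.A₇`.
-/

set_option autoImplicit false
set_option linter.style.haveILetI false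

namespace Cfsg.Agent.Cit.AutFacts

open Subgroup Cfsg

variable {G : Type*} [Group G]

/-- (A2) an automorphism acting as a non-trivial involution on a quaternion group inverts an element of order 4 -/
theorem exists_inverted {Q : Subgroup G} (hQ : AutQuat.IsQ Q) {z : G}
    (huniq : ∀ t ∈ Q, orderOf t = 2 → t = z) (α : MulAut G) (hαQ : ∀ x ∈ Q, α x ∈ Q)
    (hαα : ∀ x ∈ Q, α (α x) = x) (hne : ∃ x ∈ Q, α x ≠ x) : ∃ x ∈ Q, x * x = z ∧ α x = x⁻¹ := by
  by_contra hno
  push Not at hno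
  obtain ⟨q, hq, hqne⟩ := hne
  apply hqne
  have key : Q ≤ (α.toMonoidHom).eqLocus (MonoidHom.id G) := by
    apply hQ.le_of_four
    intro x hx h4
    show α x = x
    have hxx : x * x = z := by rw [← pow_two]; exact AutQuat.IsQ.sq_eq huniq hx h4
    set w := x⁻¹ * α x with hw
    have hwQ : w ∈ Q := Q.mul_mem (Q.inv_mem hx) (hαQ x hx)
    have hwi : α w = w⁻¹ := by
      rw [hw, map_mul, map_inv, hαα x hx]; group
    by_contra hxne
    have hw1 : w ≠ 1 := by
      intro h1
      apply hxne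
      rw [hw, inv_mul_eq_one] at h1
      exact h1.symm
    have hz := hQ.mem_zpowers huniq hwQ hw1
    have := hQ.finite
    -- the order of `w`
    obtain ⟨k, hk⟩ := (hQ.isPGroup) ⟨w, hwQ⟩
    have hk' : w ^ 2 ^ k = 1 := by simpa [Subtype.ext_iff] using hk
    obtain ⟨j, hj, hj2⟩ := (Nat.dvd_prime_pow Nat.prime_two).mp (orderOf_dvd_of_pow_eq_one hk')
    match j, hj2 with
    | 0, hj2 =>
      rw [pow_zero, orderOf_eq_one_iff] at hj2
      exact hw1 hj2
    | 1, hj2 =>
      rw [pow_one] at hj2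
      have hwz := huniq w hwQ hj2
      apply hno x hx hxx
      have h1 : α x = x * z := by rw [← hwz, hw]; group
      have h2 : x * (x * z) = 1 := by
        rw [← mul_assoc, hxx, ← hwz, ← pow_two, ← hj2, pow_orderOf_eq_one]
      rw [h1]
      exact (eq_inv_of_mul_eq_one_right h2)
    | (i + 2), hj2 =>
      have h2 : orderOf (w ^ 2 ^ i) = 4 := by
        rw [orderOf_pow' w (by positivity), hj2, pow_add, Nat.gcd_mul_right_left,
          Nat.mul_div_cancel_left _ (by positivity)]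
        norm_num
      apply hno (w ^ 2 ^ i) (Q.pow_mem hwQ _)
      · rw [← pow_two]; exact AutQuat.IsQ.sq_eq huniq (Q.pow_mem hwQ _) h2
      · rw [map_pow, hwi, inv_pow]
  exact key hq

/-- (A2) for an involution normalising `Q` -/
theorem exists_inverted_conj {Q : Subgroup G} (hQ : AutQuat.IsQ Q) {z t : G}
    (huniq : ∀ t ∈ Q, orderOf t = 2 → t = z) (ht : t ∈ normalizer (Q : Set G)) (htt : t * t = 1)
    (hne : ∃ x ∈ Q, t * x ≠ x * t) : ∃ x ∈ Q, x * x = z ∧ t * x * t⁻¹ = x⁻¹ := by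
  refine exists_inverted hQ huniq (MulAut.conj t) ?_ ?_ ?_
  · intro x hx
    exact (mem_normalizer_iff.1 ht x).1 hx
  · intro x _
    rw [MulAut.conj_apply, MulAut.conj_apply]
    calc t * (t * x * t⁻¹) * t⁻¹ = (t * t) * x * (t * t)⁻¹ := by group
      _ = x := by rw [htt]; group
  · obtain ⟨x, hx, h⟩ := hne
    refine ⟨x, hx, ?_⟩
    rw [MulAut.conj_apply, Ne, mul_inv_eq_iff_eq_mul]
    exact h

/-- a 2-element of the automorphism group fixes a Sylow 2-subgroup -/
theorem exists_invariant_sylow [Finite G] {α : MulAut G} {k : ℕ} (hα : α ^ 2 ^ k = 1) :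
    ∃ P : Sylow 2 G, ∀ x ∈ P, α x ∈ P := by
  haveI : Fact (Nat.Prime 2) := ⟨Nat.prime_two⟩
  have hp : IsPGroup 2 (zpowers α) := by
    rintro ⟨_, j, rfl⟩
    refine ⟨k, Subtype.ext ?_⟩
    show (α ^ j) ^ 2 ^ k = 1
    rw [← zpow_natCast, ← zpow_mul, mul_comm, zpow_mul, zpow_natCast, hα, one_zpow]
  have hnd : ¬ 2 ∣ Nat.card (Sylow 2 G) := not_dvd_card_sylow 2 G
  obtain ⟨P, hP⟩ := hp.nonempty_fixed_point_of_prime_not_dvd_card (Sylow 2 G) hnd
  refine ⟨P, fun x hx => ?_⟩
  have h1 := hP ⟨α, mem_zpowers α⟩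
  have h2 : α • P = P := h1
  rw [← h2]
  exact Set.mem_smul_set.2 ⟨x, hx, rfl⟩

variable {L : Type*} [Group L] {z : L}

/-- Sylow 2-subgroups are quaternion -/
theorem TyZ.isQ [Finite L] (h : TyZ L z) (P : Sylow 2 L) : AutQuat.IsQ (P : Subgroup L) := by
  haveI : Fact (Nat.Prime 2) := ⟨Nat.prime_two⟩
  have key : ∃ m : ℕ, 1 ≤ m ∧ Nonempty ((P : Subgroup L) ≃* QuaternionGroup (2 ^ m)) := by
    rcases h.cases with ⟨F, i1, i2, e, hF, he⟩ | ⟨D, hD⟩
    · have hidx : ¬ 2 ∣ ((P : Subgroup L).map e.toMonoidHom).index := by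
        have h0 : ((P : Subgroup L).map e.toMonoidHom).index = (P : Subgroup L).index :=
          index_map_equiv (P : Subgroup L) e
        rw [h0]
        exact P.not_dvd_index
      let P' : Sylow 2 (Matrix.SpecialLinearGroup (Fin 2) F) := (P.isPGroup'.map e.toMonoidHom).toSylow hidx
      obtain ⟨m, hm, ⟨f⟩⟩ := Cfsg.Agent.S0261.result hF P'
      exact ⟨m, hm, ⟨((P : Subgroup L).equivMapOfInjective e.toMonoidHom e.injective).trans f⟩⟩
    · exact TwoFusion.QuatQuotient.exists_quaternion_sylow D.perf.commutator_eq_top z h.ord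
        (fun x hx => h.uniq hx) P
  obtain ⟨m, hm, he⟩ := key
  refine ⟨m - 1, ?_⟩
  rwa [Nat.sub_add_cancel hm]

/-- (A2) an involutory automorphism inverts an element of order 4 -/
theorem TyZ.exists_inverted [Finite L] (h : TyZ L z) {α : MulAut L} (hα : α * α = 1) (h1 : α ≠ 1) :
    ∃ x, x * x = z ∧ α x = x⁻¹ := by
  have hα2 : α ^ 2 ^ 1 = 1 := by rw [pow_one, pow_two, hα]
  obtain ⟨P, hP⟩ := exists_invariant_sylow hα2
  obtain ⟨x, -, hx, hx2⟩ := AutFacts.exists_inverted (h.isQ P) (z := z) (fun t _ ht => h.uniq ht) α hP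
    (fun x _ => DFunLike.congr_fun hα x) (by
      by_contra hno
      push Not at hno
      exact h1 (h.eq_one_of_sylow P hα2 hno))
  exact ⟨x, hx, hx2⟩

end Cfsg.Agent.Cit.AutFacts
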