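import Cfsg.Agent.Cit.Swap
import Cfsg.Agent.Cit.AutAct

/-!
# (A1) at the level of `K`: `AutOne K` for `IsType K`

* `Triv.exists_syl`: a 2-element of `N(K)` acting trivially on `K / O(K)` centralises a Sylow 2-subgroup of `K`;
* `autOne`: `AutOne K` (in the form of `Cit.Swap`) for `IsType K`.
-/

set_option autoImplicit false
set_option linter.style.haveILetI false

namespace Cfsg.Agent.Cit.AutAct

open Subgroup Cfsg
open scoped commutatorElement

variable {G : Type*} [Group G] {K : Subgroup G}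

/-- a 2-element acting trivially on `K / O(K)` centralises a Sylow 2-subgroup of `K` -/
theorem Triv.exists_syl [Finite G] {t : G} (h : Triv t K) (ht : t ∈ normalizer (K : Set G)) {b : ℕ}
    (ht2 : t ^ 2 ^ b = 1) : ∃ Q, Syl Q K ∧ ∀ u ∈ Q, t * u = u * t := by
  obtain ⟨Q, hQ, hA⟩ := OneBasic.exists_syl_normalized (isPGroup_zpowers ht2) (L := K) (by rwa [zpowers_le])
  refine ⟨Q, hQ, fun u hu => ?_⟩
  have h1 : t * u * t⁻¹ * u⁻¹ ∈ OO K := h u (hQ.1 hu)
  have h2 : t * u * t⁻¹ * u⁻¹ ∈ Q :=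
    Q.mul_mem ((mem_normalizer_iff.1 (hA (mem_zpowers t)) u).1 hu) (Q.inv_mem hu)
  obtain ⟨k, hk⟩ := hQ.2.1 ⟨_, h2⟩
  have h3 : (t * u * t⁻¹ * u⁻¹) ^ 2 ^ k = 1 := congrArg Subtype.val hk
  have h4 := eq_one_of_OO h1 h3
  exact mul_inv_eq_iff_eq_mul.mp (mul_inv_eq_one.mp h4)

/-- (A1): the square of a quaternion pair in `⁅C, C⁆`, `C ≤ N(K)`, acts trivially on `K / O(K)` -/
theorem triv_of_comm [Finite G] (h : IsType K) {C : Subgroup G} (hC : C ≤ normalizer (K : Set G)) {x y : G}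
    (hx : x ∈ ⁅C, C⁆) (hy : y ∈ ⁅C, C⁆) (h1 : x * x = y * y) (h2 : x * y * x⁻¹ = y⁻¹) : Triv (x * x) K := by
  have hCC : ⁅C, C⁆ ≤ C := commutator_le_self C
  have hmem : ∀ {w : G} (hw : w ∈ ⁅C, C⁆), (⟨w, hCC hw⟩ : C) ∈ commutator C := by
    intro w hw
    rw [← Subgroup.map_subtype_commutator] at hw
    obtain ⟨v, hv, hvw⟩ := hw
    have : v = ⟨w, hCC (by rw [← Subgroup.map_subtype_commutator]; exact ⟨v, hv, hvw⟩)⟩ := Subtype.ext hvw
    rw [← this]; exact hv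
  have hxN : x * x ∈ normalizer (K : Set G) := hC (C.mul_mem (hCC hx) (hCC hx))
  rw [← act_eq_one_iff hxN]
  have h3 := (tyZ h).map_sq_eq_one ((act K).comp (inclusion hC)) (a := ⟨y, hCC hy⟩) (b := ⟨x, hCC hx⟩)
    (hmem hy) (hmem hx) (Subtype.ext h1.symm) (Subtype.ext h2)
  have h4 : (⟨x * x, hxN⟩ : ↥(normalizer (K : Set G))) = inclusion hC (⟨y, hCC hy⟩ * ⟨y, hCC hy⟩) :=
    Subtype.ext h1
  rw [h4]
  exact h3

/-- (A1) in the form `AutOne` -/
theorem autOne [Finite G] (h : IsType K) : AutOne K := by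
  intro C hC x hx y hy h1 h2
  have h3 : y * y = (y * y)⁻¹ := by
    calc y * y = x * (x * x) * x⁻¹ := by rw [← h1]; group
      _ = x * (y * y) * x⁻¹ := by rw [h1]
      _ = (x * y * x⁻¹) * (x * y * x⁻¹) := by group
      _ = (y * y)⁻¹ := by rw [h2]; group
  have h4 : (x * x) ^ 2 ^ 1 = 1 := by
    rw [pow_one, pow_two, h1]
    nth_rw 2 [h3]
    rw [mul_inv_cancel]
  exact (triv_of_comm h hC hx hy h1 h2).exists_syl
    (hC (C.mul_mem (commutator_le_self C hx) (commutator_le_self C hx))) h4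

end Cfsg.Agent.Cit.AutAct
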