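import Cfsg.Agent.Lib.CoprimeCommutator
import Cfsg.Agent.Lib.Cores
import Cfsg.Agent.OddOrderLocal.FitCores

/-!
# Lemma A of the identification part of the classical involution theorem

`R` is a solvable group of odd order normalised by an involution `z` and by a subgroup `L` centralising `z`;
`w` is an involution of `L` such that `L` is generated by the commutators `⁅l, w⁆`. If `⁅C_R(w), z⁆` is a
`p`-group then `⁅R, z⁆` is a `p`-group.
-/

set_option autoImplicit false

namespace Cfsg.Agent.Cit.LemmaA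

open Subgroup Cfsg
open scoped commutatorElement

/-- An abelian group on which `A` acts, `A` generated by the commutators `⁅l, w⁆`, and `w` an involution
without fixed points, is trivial. -/
theorem eq_one_of_fixedPointFree {B : Type*} [CommGroup B] (hodd : ∀ b : B, b * b = 1 → b = 1)
    {A : Type*} [Group A] (ρ : A →* MulAut B) (w : A) (hw : w * w = 1)
    (hfix : ∀ b, ρ w b = b → b = 1) (hgen : closure {x : A | ∃ l : A, x = ⁅l, w⁆} = ⊤) (b : B) : b = 1 := by
  have hwi : w⁻¹ = w := inv_eq_of_mul_eq_one_left hw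
  have hww : ∀ b, ρ w (ρ w b) = b := by
    intro b
    rw [← MulAut.mul_apply, ← map_mul, hw, map_one, MulAut.one_apply]
  have hinv : ∀ b, ρ w b = b⁻¹ := by
    intro b
    have h1 := hfix (b * ρ w b) (by rw [map_mul, hww, mul_comm])
    exact eq_inv_of_mul_eq_one_right h1
  have hconj : ∀ (l : A) (b : B), ρ ⁅l, w⁆ b = b := by
    intro l b
    have h1 : ∀ c, ρ (l * w * l⁻¹) c = c⁻¹ := by
      intro c
      rw [map_mul, map_mul, MulAut.mul_apply, MulAut.mul_apply, hinv, map_inv, ← MulAut.mul_apply, ← map_mul,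
        mul_inv_cancel, map_one, MulAut.one_apply]
    rw [commutatorElement_def, map_mul, MulAut.mul_apply, hwi, hinv, h1, inv_inv]
  have hall : ∀ a : A, ρ a b = b := by
    intro a
    have ha : a ∈ closure {x : A | ∃ l : A, x = ⁅l, w⁆} := by rw [hgen]; trivial
    induction ha using closure_induction with
    | mem x hx => obtain ⟨l, rfl⟩ := hx; exact hconj l b
    | one => rw [map_one, MulAut.one_apply]
    | mul x y _ _ hx hy => rw [map_mul, MulAut.mul_apply, hy, hx]
    | inv x _ hx =>
      rw [map_inv, MulAut.inv_apply, MulEquiv.symm_apply_eq, hx]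
  have h1 := hall w
  rw [hinv] at h1
  exact hodd b (by
    calc b * b = b⁻¹ * b := by rw [h1]
      _ = 1 := inv_mul_cancel b)

variable {G : Type*} [Group G]

/-- The action of the normaliser on the abelianization. -/
def abAct (D : Subgroup G) {L : Subgroup G} (hL : L ≤ normalizer (D : Set G)) :
    L →* MulAut (Abelianization D) where
  toFun l := (D.normalizerMonoidHom (inclusion hL l)).abelianizationCongr
  map_one' := by
    ext x
    induction x using QuotientGroup.induction_on with
    | H x => simp; rfl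
  map_mul' a b := by
    ext x
    induction x using QuotientGroup.induction_on with
    | H x => simp; rfl

theorem abAct_of (D : Subgroup G) {L : Subgroup G} (hL : L ≤ normalizer (D : Set G)) (l : L) (x : D) :
    abAct D hL l (Abelianization.of x) = Abelianization.of (D.normalizerMonoidHom (inclusion hL l) x) := rfl

theorem of_eq_of_iff {D : Subgroup G} {x y : D} :
    Abelianization.of x = Abelianization.of y ↔ (x : G)⁻¹ * y ∈ ⁅D, D⁆ := by
  have h1 : (Abelianization.of x = Abelianization.of y) ↔ x⁻¹ * y ∈ _root_.commutator D :=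
    QuotientGroup.eq
  have h3 : ((_root_.commutator D).map D.subtype) = ⁅D, D⁆ := by
    rw [_root_.commutator_def, map_commutator, ← MonoidHom.range_eq_map, range_subtype]
  rw [h1, ← h3]
  constructor
  · intro h
    exact ⟨_, h, by simp⟩
  · rintro ⟨a, ha, he⟩
    have h4 : a = x⁻¹ * y := by
      apply Subtype.ext
      simpa using he
    rwa [← h4]

theorem isPGroup_two_zpowers {z : G} (hz : z * z = 1) : IsPGroup 2 (zpowers z) := by
  rintro ⟨_, k, rfl⟩
  refine ⟨1, ?_⟩
  apply Subtype.ext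
  have h1 : (z ^ k) ^ 2 = 1 := by
    rw [← zpow_natCast, zpow_comm]
    rw [zpow_natCast, pow_two, hz, one_zpow]
  simpa using h1

theorem odd_of_le [Finite G] {A B : Subgroup G} (h : A ≤ B) (hB : Odd (Nat.card B)) : Odd (Nat.card A) := by
  obtain ⟨k, hk⟩ := card_dvd_of_le h
  rw [hk] at hB
  exact (Nat.odd_mul.1 hB).1

theorem eq_one_of_sq [Finite G] {A : Subgroup G} (hA : Odd (Nat.card A)) {x : G} (hx : x ∈ A) (h2 : x * x = 1) :
    x = 1 := by
  have h3 : orderOf x ∣ 2 := orderOf_dvd_of_pow_eq_one (by rw [pow_two, h2])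
  have h4 : orderOf x ∣ Nat.card A := by
    have h5 := orderOf_dvd_natCard (⟨x, hx⟩ : A)
    rwa [orderOf_mk] at h5
  have h5 := Nat.dvd_gcd h3 h4
  rw [(Nat.coprime_two_left.2 hA).gcd_eq_one] at h5
  exact orderOf_eq_one_iff.1 (Nat.dvd_one.1 h5)

/-- in a group of odd order the squaring map is injective on cosets: `x * x ∈ N` implies `x ∈ N` -/
theorem mem_of_sq_mem [Finite G] {A N : Subgroup G} (hA : Odd (Nat.card A)) {x : G} (hx : x ∈ A)
    (h2 : x * x ∈ N) : x ∈ N := by
  have h4 : orderOf x ∣ Nat.card A := by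
    have h5 := orderOf_dvd_natCard (⟨x, hx⟩ : A)
    rwa [orderOf_mk] at h5
  obtain ⟨m, hm⟩ := h4
  rw [hm] at hA
  obtain ⟨k, hk⟩ := (Nat.odd_mul.1 hA).1
  have h6 : x = (x * x) ^ (k + 1) := by
    rw [← pow_two, ← pow_mul, show 2 * (k + 1) = (2 * k + 1) + 1 by ring, pow_succ, ← hk, pow_orderOf_eq_one,
      one_mul]
  rw [h6]
  exact pow_mem h2 _

/-- The normaliser of `D` normalises `⁅D, D⁆`. -/
theorem map_conj_eq {D : Subgroup G} {g : G} (hg : g ∈ normalizer (D : Set G)) :
    D.map (MulAut.conj g).toMonoidHom = D := by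
  ext y
  simp only [mem_map, MulEquiv.coe_toMonoidHom, MulAut.conj_apply]
  constructor
  · rintro ⟨a, ha, rfl⟩
    exact (mem_normalizer_iff.1 hg a).1 ha
  · intro hy
    refine ⟨g⁻¹ * y * g, ?_, by group⟩
    rw [mem_normalizer_iff.1 hg]
    have : g * (g⁻¹ * y * g) * g⁻¹ = y := by group
    rw [this]; exact hy

theorem mem_normalizer_of_map_conj_eq {D : Subgroup G} {g : G}
    (hg : D.map (MulAut.conj g).toMonoidHom = D) : g ∈ normalizer (D : Set G) := by
  rw [mem_normalizer_iff]
  intro h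
  constructor
  · intro hh
    have h1 := mem_map_of_mem (MulAut.conj g).toMonoidHom hh
    rw [hg] at h1
    exact h1
  · intro hh
    rw [← hg] at hh
    obtain ⟨a, ha, he⟩ := hh
    have h2 : a = h := by
      have h3 : g * a * g⁻¹ = g * h * g⁻¹ := he
      simpa using h3
    rw [← h2]; exact ha

theorem normalizer_le_normalizer_commutator (D : Subgroup G) :
    normalizer (D : Set G) ≤ normalizer ((⁅D, D⁆ : Subgroup G) : Set G) := by
  intro g hg
  refine mem_normalizer_of_map_conj_eq ?_
  rw [map_commutator, map_conj_eq hg]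

/-- **Key step.** `D` of odd order, `D = ⁅D, z⁆`, and `z` centralises `C_D(w)`. Then `D = ⁅D, D⁆`. -/
theorem le_commutator [Finite G] {D L : Subgroup G} {z w : G} (hD : Odd (Nat.card D))
    (hz : z * z = 1) (hw : w * w = 1) (hzD : z ∈ normalizer (D : Set G)) (hLD : L ≤ normalizer (D : Set G))
    (hwL : w ∈ L) (hgen : L = closure {x : G | ∃ l ∈ L, x = ⁅l, w⁆}) (hDz : D = ⁅D, zpowers z⁆)
    (hc : ∀ d ∈ D, d * w = w * d → d * z = z * d) : D ≤ ⁅D, D⁆ := by
  have : Fact (Nat.Prime 2) := ⟨Nat.prime_two⟩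
  have hzi : z⁻¹ = z := inv_eq_of_mul_eq_one_left hz
  have hwD := hLD hwL
  -- `z` inverts `D` modulo `⁅D, D⁆`
  have hcomm : ∀ x ∈ D, ∀ y ∈ D, x * y * x⁻¹ * y⁻¹ ∈ ⁅D, D⁆ := fun x hx y hy =>
    commutator_mem_commutator hx hy
  have hle : ⁅D, D⁆ ≤ D := commutator_le_self D
  have hn : D ≤ normalizer ((⁅D, D⁆ : Subgroup G) : Set G) :=
    Lib.CoprimeCommutator.left_le_normalizer_commutator D D
  have hzx : ∀ x ∈ D, z * x * z⁻¹ ∈ D := fun x hx => (mem_normalizer_iff.1 hzD x).1 hx
  have hinv : ∀ x ∈ D, z * x * z⁻¹ * x ∈ ⁅D, D⁆ := by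
    intro x hx
    have key : ∀ y ∈ ⁅D, zpowers z⁆, y ∈ D ∧ z * y * z⁻¹ * y ∈ ⁅D, D⁆ := by
      intro y hy
      rw [Subgroup.commutator_def] at hy
      induction hy using closure_induction with
      | mem y hy =>
        obtain ⟨d, hd, c, ⟨k, rfl⟩, rfl⟩ := hy
        have hk : z ^ k = 1 ∨ z ^ k = z := by
          rcases Int.even_or_odd k with ⟨m, hm⟩ | ⟨m, hm⟩
          · left; rw [hm, ← two_mul, zpow_mul, zpow_two, hz, one_zpow]
          · right; rw [hm, zpow_add, zpow_mul, zpow_two, hz, one_zpow, one_mul, zpow_one]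
        change ⁅d, z ^ k⁆ ∈ D ∧ z * ⁅d, z ^ k⁆ * z⁻¹ * ⁅d, z ^ k⁆ ∈ ⁅D, D⁆
        rcases hk with hk | hk
        · rw [hk]; simp
        · rw [hk]
          have h1 : z * ⁅d, z⁆ * z⁻¹ * ⁅d, z⁆ = 1 := by
            rw [commutatorElement_def]
            simp only [hzi]
            have hzz : ∀ a, z * (z * a) = a := fun a => by rw [← mul_assoc, hz, one_mul]
            simp only [mul_assoc]
            rw [hzz, inv_mul_cancel_left, hzz, mul_inv_cancel_left, hz]
          refine ⟨?_, by rw [h1]; exact one_mem _⟩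
          rw [commutatorElement_def, show d * z * d⁻¹ * z⁻¹ = d * (z * d⁻¹ * z⁻¹) by group]
          exact D.mul_mem hd (hzx _ (D.inv_mem hd))
      | one => simp
      | mul x y _ _ hx hy =>
        refine ⟨D.mul_mem hx.1 hy.1, ?_⟩
        have h1 : z * (x * y) * z⁻¹ * (x * y)
            = (z * x * z⁻¹ * x) * (x⁻¹ * (z * y * z⁻¹) * x⁻¹⁻¹ * (z * y * z⁻¹)⁻¹) * (z * y * z⁻¹ * y) := by
          group
        rw [h1]
        exact mul_mem (mul_mem hx.2 (hcomm _ (D.inv_mem hx.1) _ (hzx _ hy.1))) hy.2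
      | inv x _ hx =>
        refine ⟨D.inv_mem hx.1, ?_⟩
        have h1 : z * x⁻¹ * z⁻¹ * x⁻¹ = (x * (z * x * z⁻¹))⁻¹ := by group
        rw [h1]
        refine inv_mem ?_
        have h2 : x * (z * x * z⁻¹) = x * (z * x * z⁻¹ * x) * x⁻¹ := by group
        rw [h2]
        exact (mem_normalizer_iff.1 (hn hx.1) _).1 hx.2
    exact (key x (by rw [← hDz]; exact hx)).2
  -- fixed points of `w` modulo `⁅D, D⁆`
  have hfix : ∀ x ∈ D, x⁻¹ * (w * x * w⁻¹) ∈ ⁅D, D⁆ → x ∈ ⁅D, D⁆ := by
    intro x hx h1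
    have hN : zpowers w ≤ normalizer ((⁅D, D⁆ : Subgroup G) : Set G) := by
      rw [zpowers_le]
      exact normalizer_le_normalizer_commutator D hwD
    obtain ⟨c, hc1, hc2⟩ := Lib.CoprimeCommutator.exists_fixed_in_coset 2 (zpowers w) ⁅D, D⁆
      (isPGroup_two_zpowers hw) hN (by
        have := odd_of_le hle hD
        rwa [← Nat.not_even_iff_odd, even_iff_two_dvd] at this) x (by
        intro a ha
        obtain ⟨k, rfl⟩ := ha
        have hk : w ^ k = 1 ∨ w ^ k = w := by
          rcases Int.even_or_odd k with ⟨m, hm⟩ | ⟨m, hm⟩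
          · left; rw [hm, ← two_mul, zpow_mul, zpow_two, hw, one_zpow]
          · right; rw [hm, zpow_add, zpow_mul, zpow_two, hw, one_zpow, one_mul, zpow_one]
        change x⁻¹ * (w ^ k * x * (w ^ k)⁻¹) ∈ ⁅D, D⁆
        rcases hk with hk | hk
        · rw [hk]; simp
        · rw [hk]; exact h1)
    have hcD : c ∈ D := by
      have h3 : c = x * (x⁻¹ * c) := by group
      rw [h3]; exact D.mul_mem hx (hle hc2)
    have hcw : c * w = w * c := ((mem_centralizer_iff.1 hc1) w (mem_zpowers w)).symm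
    have hcz := hc c hcD hcw
    have h4 := hinv c hcD
    have h5 : z * c * z⁻¹ = c := by rw [← hcz]; group
    rw [h5] at h4
    have h6 := mem_of_sq_mem hD hcD h4
    have h7 : x = c * (x⁻¹ * c)⁻¹ := by group
    rw [h7]
    exact mul_mem h6 (inv_mem hc2)
  -- the abelian quotient
  have hgen' : closure {x : L | ∃ l : L, x = ⁅l, (⟨w, hwL⟩ : L)⁆} = ⊤ := by
    rw [eq_top_iff]
    rintro ⟨x, hx⟩ -
    have h1 : x ∈ (closure {x : L | ∃ l : L, x = ⁅l, (⟨w, hwL⟩ : L)⁆}).map L.subtype := by
      rw [MonoidHom.map_closure]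
      have h2 : (L.subtype '' {x : L | ∃ l : L, x = ⁅l, (⟨w, hwL⟩ : L)⁆}) = {x : G | ∃ l ∈ L, x = ⁅l, w⁆} := by
        ext y
        constructor
        · rintro ⟨_, ⟨l, rfl⟩, rfl⟩
          exact ⟨l, l.2, rfl⟩
        · rintro ⟨l, hl, rfl⟩
          exact ⟨⁅(⟨l, hl⟩ : L), (⟨w, hwL⟩ : L)⁆, ⟨_, rfl⟩, rfl⟩
      rw [h2, ← hgen]
      exact hx
    obtain ⟨y, hy, he⟩ := h1
    have : y = ⟨x, hx⟩ := Subtype.ext he
    rwa [← this]
  intro x hx
  have h1 := eq_one_of_fixedPointFree (B := Abelianization D) (by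
      intro b hb
      obtain ⟨y, rfl⟩ := QuotientGroup.mk_surjective b
      have h2 : Abelianization.of (1 : D) = Abelianization.of (y * y) := by
        rw [map_one]; exact hb.symm
      rw [of_eq_of_iff] at h2
      have h3 : (y : G) ∈ ⁅D, D⁆ := mem_of_sq_mem hD y.2 (by simpa using h2)
      have h4 : Abelianization.of (1 : D) = Abelianization.of y := by
        rw [of_eq_of_iff]; simpa using h3
      rw [map_one] at h4
      exact h4.symm) (abAct D hLD) ⟨w, hwL⟩ (by apply Subtype.ext; exact hw) (by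
      intro b hb
      obtain ⟨y, rfl⟩ := QuotientGroup.mk_surjective b
      have h2 : Abelianization.of y = Abelianization.of (D.normalizerMonoidHom (inclusion hLD ⟨w, hwL⟩) y) :=
        hb.symm
      rw [of_eq_of_iff] at h2
      have h3 : (y : G) ∈ ⁅D, D⁆ := hfix y y.2 h2
      have h4 : Abelianization.of (1 : D) = Abelianization.of y := by
        rw [of_eq_of_iff]; simpa using h3
      rw [map_one] at h4
      exact h4.symm) hgen' (Abelianization.of ⟨x, hx⟩)
  have h2 : Abelianization.of (1 : D) = Abelianization.of (⟨x, hx⟩ : D) := by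
    rw [map_one, h1]
  rw [of_eq_of_iff] at h2
  simpa using h2

/-- In a solvable group `D` as above is trivial. -/
theorem eq_bot_of_le_commutator [Finite G] {D : Subgroup G} (hs : Group.IsSolvable D) (h : D ≤ ⁅D, D⁆) :
    D = ⊥ := by
  by_contra hne
  have : Nontrivial D := (nontrivial_iff_ne_bot D).2 hne
  have := hs
  have h1 := Group.IsSolvable.commutator_lt_top_of_nontrivial D
  have h2 : _root_.commutator D = ⊤ := by
    rw [eq_top_iff]
    rintro ⟨x, hx⟩ -
    have h3 : ((_root_.commutator D).map D.subtype) = ⁅D, D⁆ := by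
      rw [_root_.commutator_def, map_commutator, ← MonoidHom.range_eq_map, range_subtype]
    have h4 := h hx
    rw [← h3] at h4
    obtain ⟨a, ha, he⟩ := h4
    have : a = ⟨x, hx⟩ := Subtype.ext he
    rwa [← this]
  rw [h2] at h1
  exact lt_irrefl _ h1

open Cfsg.Agent.OddOrderLocal Cfsg.Agent.OddOrderLocal.PiCoreOf Cfsg.Agent.OddOrderLocal.FitCores

theorem normal_piCoreOf [Finite G] (π : Set ℕ) (R : Subgroup G) [R.Normal] : (piCoreOf π R).Normal := by
  rw [← normalizer_eq_top_iff, eq_top_iff, ← normalizer_eq_top_iff.2 (inferInstance : R.Normal)]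
  exact normalizer_le_normalizer_piCoreOf π R

theorem normalizer_le_normalizer_fittingOf [Finite G] (R : Subgroup G) :
    normalizer (R : Set G) ≤ normalizer (fittingOf R : Set G) := by
  intro g hg
  refine mem_normalizer_of_map_conj_eq ?_
  rw [fittingOf_eq_iSup, Subgroup.map_iSup]
  refine iSup_congr fun q => ?_
  exact map_conj_eq (normalizer_le_normalizer_piCoreOf _ _ hg)

theorem piCoreOf_map_mk [Finite G] {p : ℕ} (hp : p.Prime) (R P : Subgroup G) [R.Normal] [P.Normal]
    (hP : P = piCoreOf {p} R) : piCoreOf {p} (R.map (QuotientGroup.mk' P)) = ⊥ := by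
  have := Fact.mk hp
  have hPR : P ≤ R := hP ▸ piCoreOf_le _ _
  set N' := piCoreOf {p} (R.map (QuotientGroup.mk' P)) with hN'
  set N := N'.comap (QuotientGroup.mk' P) with hN
  have hPN : P ≤ N := by
    intro x hx
    rw [hN, mem_comap]
    have : QuotientGroup.mk' P x = 1 := by simpa using hx
    rw [this]; exact one_mem _
  have hNR : N ≤ R := by
    intro x hx
    have h1 : QuotientGroup.mk' P x ∈ R.map (QuotientGroup.mk' P) := piCoreOf_le _ _ hx
    obtain ⟨r, hr, he⟩ := h1
    have h2 : r⁻¹ * x ∈ P := QuotientGroup.eq.1 he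
    have h3 : x = r * (r⁻¹ * x) := by group
    rw [h3]; exact mul_mem hr (hPR h2)
  have hpP : IsPGroup p P := hP ▸ isPGroup_piCoreOf hp R
  have hpN : IsPGroup p N := by
    have h1 : IsPGroup p N' := isPGroup_piCoreOf hp _
    refine h1.comap_of_ker_isPGroup _ ?_
    rw [QuotientGroup.ker_mk']
    exact hpP
  have hn : R ≤ normalizer (N : Set G) := by
    intro r hr
    have h1 := le_normalizer_piCoreOf {p} (R.map (QuotientGroup.mk' P)) (mem_map_of_mem _ hr)
    rw [mem_normalizer_iff] at h1 ⊢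
    intro x
    have h2 := h1 (QuotientGroup.mk' P x)
    rw [← map_mul, ← map_inv, ← map_mul] at h2
    exact h2
  have h5 : N ≤ P := by
    rw [hP]
    exact le_core_of_isPGroup hp hNR hn hpN
  rw [eq_bot_iff]
  intro y hy
  obtain ⟨x, rfl⟩ := QuotientGroup.mk'_surjective P y
  have h6 : x ∈ P := h5 hy
  rw [mem_bot]
  simpa using h6

/-- **Lemma A**, normal case. -/
theorem isPGroup_commutator_of_normal [Finite G] {p : ℕ} (hp : p.Prime) {R L : Subgroup G} [R.Normal]
    {z w : G} (hR : Odd (Nat.card R)) (hs : Group.IsSolvable R) (hz : z * z = 1) (hw : w * w = 1)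
    (hLz : ∀ l ∈ L, l * z = z * l) (hwL : w ∈ L) (hgen : L = closure {x : G | ∃ l ∈ L, x = ⁅l, w⁆})
    (hc : IsPGroup p (⁅R ⊓ centralizer {w}, zpowers z⁆ : Subgroup G)) :
    IsPGroup p (⁅R, zpowers z⁆ : Subgroup G) := by
  have := Fact.mk hp
  have : Fact (Nat.Prime 2) := ⟨Nat.prime_two⟩
  obtain ⟨P, hP⟩ : ∃ P : Subgroup G, P = piCoreOf {p} R := ⟨_, rfl⟩
  have hPn : P.Normal := hP ▸ normal_piCoreOf _ _
  have hPR : P ≤ R := hP ▸ piCoreOf_le _ _
  have hpP : IsPGroup p P := hP ▸ isPGroup_piCoreOf hp R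
  set π := QuotientGroup.mk' P with hπ
  have hbot : piCoreOf {p} (R.map π) = ⊥ := piCoreOf_map_mk hp R P hP
  have hker : ∀ x : G, π x = 1 ↔ x ∈ P := fun x => by rw [hπ]; simp
  set R' := R.map π with hR'
  have hR'n : R'.Normal := Subgroup.Normal.map inferInstance π (QuotientGroup.mk'_surjective P)
  have hR'odd : Odd (Nat.card R') := by
    obtain ⟨k, hk⟩ := card_map_dvd R π
    rw [hk] at hR
    exact (Nat.odd_mul.1 hR).1
  have hR's : Group.IsSolvable R' := by
    have := hs
    exact Group.isSolvable_of_surjective (f := π.subgroupMap R) (π.subgroupMap_surjective R)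
  set F := fittingOf R' with hF
  have hFR : F ≤ R' := FitAux.fittingOf_le R'
  have hFn : normalizer (R' : Set (G ⧸ P)) ≤ normalizer (F : Set (G ⧸ P)) :=
    normalizer_le_normalizer_fittingOf R'
  have hFn' : ∀ g : G ⧸ P, g ∈ normalizer (F : Set (G ⧸ P)) := fun g => by
    apply hFn
    rw [normalizer_eq_top_iff.2 hR'n]; trivial
  set z' := π z with hz'
  set w' := π w with hw'
  have hz'z : z' * z' = 1 := by rw [hz', ← map_mul, hz, map_one]
  have hw'w : w' * w' = 1 := by rw [hw', ← map_mul, hw, map_one]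
  set D := ⁅F, zpowers z'⁆ with hD
  have hcop : (Nat.card (zpowers z')).Coprime (Nat.card R') := by
    have h1 : Nat.card (zpowers z') ∣ 2 := by
      rw [Nat.card_zpowers]
      exact orderOf_dvd_of_pow_eq_one (by rw [pow_two, hz'z])
    exact Nat.Coprime.coprime_dvd_left h1 (Nat.coprime_two_left.2 hR'odd)
  have hcopF : (Nat.card (zpowers z')).Coprime (Nat.card F) :=
    Nat.Coprime.coprime_dvd_right (card_dvd_of_le hFR) hcop
  have hzF : zpowers z' ≤ normalizer (F : Set (G ⧸ P)) := fun g _ => hFn' g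
  have hDF : D ≤ F := Lib.CoprimeCommutator.commutator_le_left hzF
  have hDodd : Odd (Nat.card D) := odd_of_le (hDF.trans hFR) hR'odd
  have hDD : ⁅D, zpowers z'⁆ = D := Lib.CoprimeCommutator.commutator_commutator_eq _ _ hzF hcopF
  have hDnorm : ∀ g : G ⧸ P, g * z' = z' * g → g ∈ normalizer (D : Set (G ⧸ P)) := by
    intro g hg
    refine mem_normalizer_of_map_conj_eq ?_
    rw [hD, map_commutator, map_conj_eq (hFn' g)]
    congr 1
    apply map_conj_eq
    rw [mem_normalizer_iff]
    have hcz : ∀ k : ℤ, g * z' ^ k * g⁻¹ = z' ^ k := by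
      intro k
      have : Commute g (z' ^ k) := Commute.zpow_right hg k
      rw [this.eq]; group
    intro h
    constructor
    · rintro ⟨k, rfl⟩
      exact ⟨k, (hcz k).symm⟩
    · rintro ⟨k, hk⟩
      refine ⟨k, ?_⟩
      change z' ^ k = h
      have h1 : g * h * g⁻¹ = g * z' ^ k * g⁻¹ := by rw [hcz]; exact hk.symm
      simpa using h1.symm
  have hDbot : D = ⊥ := by
    apply eq_bot_of_le_commutator
    · have := hR's
      exact Group.isSolvable_of_isSolvable_injective (f := inclusion (hDF.trans hFR)) (inclusion_injective _)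
    · refine le_commutator (L := L.map π) (z := z') (w := w') hDodd hz'z hw'w (hDnorm z' rfl) ?_
        (mem_map_of_mem _ hwL) ?_ hDD.symm ?_
      · rintro _ ⟨l, hl, rfl⟩
        apply hDnorm
        rw [hz', ← map_mul, hLz l hl, map_mul]
      · conv_lhs => rw [hgen]
        rw [MonoidHom.map_closure]
        congr 1
        ext y
        constructor
        · rintro ⟨_, ⟨l, hl, rfl⟩, rfl⟩
          exact ⟨π l, mem_map_of_mem _ hl, map_commutatorElement _ _ _⟩
        · rintro ⟨_, ⟨l, hl, rfl⟩, rfl⟩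
          exact ⟨⁅l, w⁆, ⟨l, hl, rfl⟩, map_commutatorElement _ _ _⟩
      · intro d hd hdw
        obtain ⟨r, hr, he⟩ := hFR (hDF hd)
        -- lift `d` to a fixed point of `w`
        obtain ⟨c, hc1, hc2⟩ := Lib.CoprimeCommutator.exists_fixed_in_coset 2 (zpowers w) P
          (isPGroup_two_zpowers hw) (fun g _ => by rw [normalizer_eq_top_iff.2 hPn]; trivial) (by
            have := odd_of_le hPR hR
            rwa [← Nat.not_even_iff_odd, even_iff_two_dvd] at this) r (by
            intro a ha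
            have h1 : π a * d = d * π a := by
              obtain ⟨k, rfl⟩ := ha
              change π (w ^ k) * d = d * π (w ^ k)
              rw [map_zpow]
              exact (Commute.zpow_left (show Commute w' d from hdw.symm) k).eq
            rw [← hker, map_mul, map_inv, map_mul, map_mul, map_inv, he, h1]
            group)
        have hcR : c ∈ R := by
          have h3 : c = r * (r⁻¹ * c) := by group
          rw [h3]; exact R.mul_mem hr (hPR hc2)
        have hcd : π c = d := by
          have h3 : c = r * (r⁻¹ * c) := by group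
          rw [h3, map_mul, he, (hker _).2 hc2, mul_one]
        have hcw : c ∈ R ⊓ centralizer {w} := by
          refine ⟨hcR, ?_⟩
          change c ∈ centralizer {w}
          rw [mem_centralizer_singleton_iff]
          exact ((mem_centralizer_iff.1 hc1) w (mem_zpowers w)).symm
        have h1 : ⁅c, z⁆ ∈ ⁅R ⊓ centralizer {w}, zpowers z⁆ :=
          commutator_mem_commutator hcw (mem_zpowers z)
        have h2 : ⁅d, z'⁆ ∈ D := by
          rw [← hDD]
          exact commutator_mem_commutator hd (mem_zpowers z')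
        have h3 : IsPGroup p (zpowers ⁅d, z'⁆) := by
          have h4 : IsPGroup p (zpowers ⁅c, z⁆) :=
            hc.to_le ((zpowers_le).2 h1)
          have h5 : (zpowers ⁅c, z⁆).map π = zpowers ⁅d, z'⁆ := by
            rw [MonoidHom.map_zpowers, map_commutatorElement, hcd]
          rw [← h5]
          exact h4.map π
        have h4 := le_core_of_le_fittingOf hp (zpowers_le.2 (hDF h2)) h3
        rw [hbot, le_bot_iff, zpowers_eq_bot] at h4
        exact (commutatorElement_eq_one_iff_mul_comm.1 h4)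
  have hcent : zpowers z' ≤ centralizer (R' : Set (G ⧸ P)) := by
    refine le_centralizer_of_centralizes_fitting (fun g _ => by rw [normalizer_eq_top_iff.2 hR'n]; trivial)
      hR's hcop ?_
    rw [← commutator_eq_bot_iff_le_centralizer, commutator_comm]
    exact hDbot
  have hle : ⁅R, zpowers z⁆ ≤ P := by
    rw [commutator_le]
    rintro r hr _ ⟨k, rfl⟩
    rw [← hker, map_commutatorElement, commutatorElement_eq_one_iff_mul_comm]
    have h1 := hcent (zpow_mem (mem_zpowers z') k)
    rw [mem_centralizer_iff] at h1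
    have h2 := h1 (π r) (mem_map_of_mem _ hr)
    change π r * π (z ^ k) = π (z ^ k) * π r
    rw [map_zpow]
    exact h2
  exact hpP.to_le hle

/-- **Lemma A**: `R` solvable of odd order normalised by the involution `z` and by `L`, where `L`
centralises `z` and is generated by the commutators `⁅l, w⁆` for an involution `w ∈ L`. If `⁅C_R(w), z⁆` is a
`p`-group then `⁅R, z⁆` is a `p`-group. -/
theorem isPGroup_commutator [Finite G] {p : ℕ} (hp : p.Prime) {R L : Subgroup G}
    {z w : G} (hR : Odd (Nat.card R)) (hs : Group.IsSolvable R) (hz : z * z = 1) (hw : w * w = 1)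
    (hzR : z ∈ normalizer (R : Set G)) (hLR : L ≤ normalizer (R : Set G))
    (hLz : ∀ l ∈ L, l * z = z * l) (hwL : w ∈ L) (hgen : L = closure {x : G | ∃ l ∈ L, x = ⁅l, w⁆})
    (hc : IsPGroup p (⁅R ⊓ centralizer {w}, zpowers z⁆ : Subgroup G)) :
    IsPGroup p (⁅R, zpowers z⁆ : Subgroup G) := by
  set N := normalizer (R : Set G) with hN
  have hRN : R ≤ N := le_normalizer
  set ι := N.subtype with hι
  have hinj : Function.Injective ι := N.subtype_injective
  have hmR : (R.subgroupOf N).map ι = R := map_subgroupOf_eq_of_le hRN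
  have hmL : (L.subgroupOf N).map ι = L := map_subgroupOf_eq_of_le hLR
  have hn : (R.subgroupOf N).Normal := normal_subgroupOf_iff_le_normalizer hRN |>.2 le_rfl
  have hzp : ∀ g : N, (zpowers g).map ι = zpowers (g : G) := fun g => MonoidHom.map_zpowers ι g
  have hmcl : (R.subgroupOf N ⊓ centralizer {(⟨w, hLR hwL⟩ : N)}).map ι = R ⊓ centralizer {w} := by
    ext x
    constructor
    · rintro ⟨y, ⟨hy1, hy2⟩, rfl⟩
      refine ⟨hy1, ?_⟩
      have h1 : y ∈ centralizer {(⟨w, hLR hwL⟩ : N)} := hy2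
      rw [mem_centralizer_singleton_iff] at h1
      change (y : G) ∈ centralizer {w}
      rw [mem_centralizer_singleton_iff]
      exact congrArg Subtype.val h1
    · rintro ⟨hx1, hx2⟩
      refine ⟨⟨x, hRN hx1⟩, ⟨hx1, ?_⟩, rfl⟩
      have h1 : x ∈ centralizer {w} := hx2
      rw [mem_centralizer_singleton_iff] at h1
      change (⟨x, hRN hx1⟩ : N) ∈ centralizer {(⟨w, hLR hwL⟩ : N)}
      rw [mem_centralizer_singleton_iff]
      exact Subtype.ext h1
  have key := isPGroup_commutator_of_normal (G := N) hp (R := R.subgroupOf N) (L := L.subgroupOf N)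
    (z := ⟨z, hzR⟩) (w := ⟨w, hLR hwL⟩) (by
      rw [Nat.card_congr (subgroupOfEquivOfLe hRN).toEquiv]; exact hR) (by
      have := hs
      exact Group.isSolvable_of_isSolvable_injective (f := (subgroupOfEquivOfLe hRN).toMonoidHom)
        (subgroupOfEquivOfLe hRN).injective) (Subtype.ext hz) (Subtype.ext hw)
    (fun l hl => Subtype.ext (hLz l hl)) hwL (by
      apply map_injective hinj
      rw [hmL, MonoidHom.map_closure]
      conv_lhs => rw [hgen]
      congr 1
      ext y
      constructor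
      · rintro ⟨l, hl, rfl⟩
        exact ⟨⁅(⟨l, hLR hl⟩ : N), (⟨w, hLR hwL⟩ : N)⁆, ⟨⟨l, hLR hl⟩, hl, rfl⟩, rfl⟩
      · rintro ⟨_, ⟨l, hl, rfl⟩, rfl⟩
        exact ⟨l, hl, rfl⟩) (by
      have h1 : (⁅R.subgroupOf N ⊓ centralizer {(⟨w, hLR hwL⟩ : N)}, zpowers (⟨z, hzR⟩ : N)⁆).map ι
          = ⁅R ⊓ centralizer {w}, zpowers z⁆ := by
        rw [map_commutator, hmcl, hzp]
      have h2 := (equivMapOfInjective ⁅R.subgroupOf N ⊓ centralizer {(⟨w, hLR hwL⟩ : N)},
        zpowers (⟨z, hzR⟩ : N)⁆ ι hinj)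
      refine IsPGroup.of_equiv ?_ h2.symm
      rw [h1]; exact hc)
  have h1 : (⁅R.subgroupOf N, zpowers (⟨z, hzR⟩ : N)⁆).map ι = ⁅R, zpowers z⁆ := by
    rw [map_commutator, hmR, hzp]
  rw [← h1]
  exact key.map ι

end Cfsg.Agent.Cit.LemmaA
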