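import Mathlib
import Cfsg.Agent.Lib.CoprimeCommutator
import Cfsg.Agent.Lib.FrattiniPGroup
import Cfsg.Agent.Cit.LemmaA
import Cfsg.Agent.RootAmalgam.Pair

/-!
# Group theory for the identification of types `B_n`, `²D_{n+1}`, `D_n` (project CIT)

* `lemmaV` : `Q` a `p`-group, `p` odd, generated by elements inverted by the involution `z`; `a` an involution commuting
  with `z` such that `C_Q(az) ≤ C_Q(z)`. Then `a` centralises `Q`.
* `f6` : a `p`-element which centralises the root groups `X_{±α}` of an `A_2`-pair `(α, β)` and normalises `X_{±β}`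
  centralises `X_{±β}`.
-/

set_option autoImplicit false

namespace Cfsg.Agent.Cit.BDGroup

open Subgroup Cfsg Cfsg.Agent.Cit.LemmaA Cfsg.Agent.RootAmalgam
open scoped commutatorElement

variable {G : Type*} [Group G]

theorem zpow_cases {z : G} (hz : z * z = 1) (k : ℤ) : z ^ k = 1 ∨ z ^ k = z := by
  rcases Int.even_or_odd k with ⟨m, hm⟩ | ⟨m, hm⟩
  · left; rw [hm, ← two_mul, zpow_mul, zpow_two, hz, one_zpow]
  · right; rw [hm, zpow_add, zpow_mul, zpow_two, hz, one_zpow, one_mul, zpow_one]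

/-- An involution acting on a group `D` of odd order: an element whose coset modulo a `w`-invariant `N ≤ D` is fixed
by `w` is congruent to an element fixed by `w`. -/
theorem exists_fixed [Finite G] {D N : Subgroup G} {w : G} (hD : Odd (Nat.card D)) (hND : N ≤ D) (hw : w * w = 1)
    (hwN : w ∈ normalizer (N : Set G)) {x : G} (hx : x ∈ D) (h1 : x⁻¹ * (w * x * w⁻¹) ∈ N) :
    ∃ c ∈ D, c * w = w * c ∧ x⁻¹ * c ∈ N := by
  have : Fact (Nat.Prime 2) := ⟨Nat.prime_two⟩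
  obtain ⟨c, hc1, hc2⟩ := Lib.CoprimeCommutator.exists_fixed_in_coset 2 (zpowers w) N
    (isPGroup_two_zpowers hw) (by rwa [zpowers_le]) (by
      have := odd_of_le hND hD
      rwa [← Nat.not_even_iff_odd, even_iff_two_dvd] at this) x (by
      intro a ha
      obtain ⟨k, rfl⟩ := ha
      change x⁻¹ * (w ^ k * x * (w ^ k)⁻¹) ∈ N
      rcases zpow_cases hw k with hk | hk
      · rw [hk]; simp
      · rw [hk]; exact h1)
  refine ⟨c, ?_, ((mem_centralizer_iff.1 hc1) w (mem_zpowers w)).symm, hc2⟩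
  have h3 : c = x * (x⁻¹ * c) := by group
  rw [h3]; exact D.mul_mem hx (hND hc2)

/-- In a finite `p`-group `D`: `D ≤ H ⊔ ⁅D, D⁆` implies `D ≤ H`. -/
theorem le_of_le_sup_commutator [Finite G] {p : ℕ} [Fact p.Prime] {D H : Subgroup G} (hD : IsPGroup p D)
    (hH : H ≤ D) (h : ∀ x ∈ D, ∃ c ∈ H, x⁻¹ * c ∈ ⁅D, D⁆) : H = D := by
  have h1 : H.subgroupOf D ⊔ frattini D = ⊤ := by
    rw [eq_top_iff]
    rintro ⟨x, hx⟩ -
    obtain ⟨c, hc, hxc⟩ := h x hx
    have h2 : (⟨x⁻¹ * c, D.mul_mem (D.inv_mem hx) (hH hc)⟩ : D) ∈ frattini D := by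
      have h3 : ((_root_.commutator D).map D.subtype) = ⁅D, D⁆ := by
        rw [_root_.commutator_def, map_commutator, ← MonoidHom.range_eq_map, range_subtype]
      rw [← h3] at hxc
      obtain ⟨y, hy, he⟩ := hxc
      have h4 := Lib.FrattiniPGroup.commutator_le_frattini hD hy
      have h5 : y = ⟨x⁻¹ * c, D.mul_mem (D.inv_mem hx) (hH hc)⟩ := Subtype.ext he
      rwa [← h5]
    have h6 : (⟨x, hx⟩ : D) = ⟨c, hH hc⟩ * (⟨x⁻¹ * c, D.mul_mem (D.inv_mem hx) (hH hc)⟩ : D)⁻¹ := by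
      apply Subtype.ext
      simp
    rw [h6]
    exact mul_mem (mem_sup_left (mem_subgroupOf.2 hc)) (mem_sup_right (inv_mem h2))
  have h2 := frattini_nongenerating h1
  rw [subgroupOf_eq_top] at h2
  exact le_antisymm hH h2

/-- **LEMMA V.** -/
theorem lemmaV [Finite G] {p : ℕ} [Fact p.Prime] (hp : p ≠ 2) {D : Subgroup G} (hD : IsPGroup p D) {a z : G}
    (ha : a * a = 1) (hz : z * z = 1) (haz : a * z = z * a) (haD : a ∈ normalizer (D : Set G))
    (hzD : z ∈ normalizer (D : Set G)) {S : Set G} (hS : D = closure S) (hSz : ∀ s ∈ S, z * s * z⁻¹ = s⁻¹)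
    (hc : ∀ d ∈ D, d * (a * z) = a * z * d → d * z = z * d) : ∀ d ∈ D, a * d = d * a := by
  have hodd : Odd (Nat.card D) := by
    obtain ⟨k, hk⟩ := IsPGroup.iff_card.1 hD
    rw [hk]
    exact ((Fact.out : p.Prime).odd_of_ne_two hp).pow
  have hle : ⁅D, D⁆ ≤ D := commutator_le_self D
  have hn : D ≤ normalizer ((⁅D, D⁆ : Subgroup G) : Set G) :=
    Lib.CoprimeCommutator.left_le_normalizer_commutator D D
  have hcomm : ∀ x ∈ D, ∀ y ∈ D, x * y * x⁻¹ * y⁻¹ ∈ ⁅D, D⁆ := fun x hx y hy =>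
    commutator_mem_commutator hx hy
  have hzx : ∀ x ∈ D, z * x * z⁻¹ ∈ D := fun x hx => (mem_normalizer_iff.1 hzD x).1 hx
  have hax : ∀ x ∈ D, a * x * a⁻¹ ∈ D := fun x hx => (mem_normalizer_iff.1 haD x).1 hx
  -- `z` inverts `D` modulo `⁅D, D⁆`
  have hinv : ∀ x ∈ D, z * x * z⁻¹ * x ∈ ⁅D, D⁆ := by
    intro x hx
    have hx' : x ∈ closure S := by rwa [← hS]
    have key : x ∈ D ∧ z * x * z⁻¹ * x ∈ ⁅D, D⁆ := by
      clear hx
      induction hx' using closure_induction with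
      | mem y hy =>
        refine ⟨by rw [hS]; exact subset_closure hy, ?_⟩
        rw [hSz y hy, inv_mul_cancel]
        exact one_mem _
      | one => simp
      | mul x y _ _ hx hy =>
        refine ⟨D.mul_mem hx.1 hy.1, ?_⟩
        have h1 : z * (x * y) * z⁻¹ * (x * y)
            = (z * x * z⁻¹ * x) * (x⁻¹ * (z * y * z⁻¹) * x⁻¹⁻¹ * (z * y * z⁻¹)⁻¹) * (z * y * z⁻¹ * y) := by
          group
        rw [h1]
        exact mul_mem (mul_mem hx.2 (hcomm _ (D.inv_mem hx.1) _ (hzx _ hy.1))) hy.2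
      | inv x _ hx =>
        refine ⟨D.inv_mem hx.1, ?_⟩
        have h1 : z * x⁻¹ * z⁻¹ * x⁻¹ = (x * (z * x * z⁻¹))⁻¹ := by group
        rw [h1]
        refine inv_mem ?_
        have h2 : x * (z * x * z⁻¹) = x * (z * x * z⁻¹ * x) * x⁻¹ := by group
        rw [h2]
        exact (mem_normalizer_iff.1 (hn hx.1) _).1 hx.2
    exact key.2
  have hzi : z⁻¹ = z := inv_eq_of_mul_eq_one_left hz
  have hai : a⁻¹ = a := inv_eq_of_mul_eq_one_left ha
  have haz2 : (a * z) * (a * z) = 1 := by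
    calc (a * z) * (a * z) = a * (z * a) * z := by group
      _ = a * (a * z) * z := by rw [haz]
      _ = (a * a) * (z * z) := by group
      _ = 1 := by rw [ha, hz, one_mul]
  have haN : a ∈ normalizer ((⁅D, D⁆ : Subgroup G) : Set G) := normalizer_le_normalizer_commutator D haD
  have hzN : z ∈ normalizer ((⁅D, D⁆ : Subgroup G) : Set G) := normalizer_le_normalizer_commutator D hzD
  -- `a` centralises `D` modulo `⁅D, D⁆`
  have hfix : ∀ x ∈ D, x⁻¹ * (a * x * a⁻¹) ∈ ⁅D, D⁆ := by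
    intro x hx
    set y : G := x⁻¹ * (a * x * a⁻¹) with hy
    have hyD : y ∈ D := D.mul_mem (D.inv_mem hx) (hax x hx)
    have hay : a * y * a⁻¹ = y⁻¹ := by
      rw [hy, hai]
      calc a * (x⁻¹ * (a * x * a)) * a = a * x⁻¹ * a * x * (a * a) := by group
        _ = a * x⁻¹ * a * x := by rw [ha, mul_one]
        _ = (x⁻¹ * (a⁻¹ * x * a⁻¹))⁻¹ := by group
        _ = (x⁻¹ * (a * x * a))⁻¹ := by rw [hai]
    have h1 : y⁻¹ * (a * z * y * (a * z)⁻¹) ∈ ⁅D, D⁆ := by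
      have h2 : z * y * z⁻¹ * y ∈ ⁅D, D⁆ := hinv y hyD
      have h3 : a * (z * y * z⁻¹ * y) * a⁻¹ ∈ ⁅D, D⁆ := (mem_normalizer_iff.1 haN _).1 h2
      have h4 : a * (z * y * z⁻¹ * y) * a⁻¹ = (a * z * y * (a * z)⁻¹) * (a * y * a⁻¹) := by group
      rw [h4, hay] at h3
      have h5 : y⁻¹ * (a * z * y * (a * z)⁻¹) = y⁻¹ * ((a * z * y * (a * z)⁻¹) * y⁻¹) * y := by group
      rw [h5]
      have h6 := (mem_normalizer_iff.1 (hn (D.inv_mem hyD)) _).1 h3
      rwa [inv_inv] at h6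
    obtain ⟨c, hcD, hcw, hyc⟩ := exists_fixed hodd hle haz2 (mul_mem haN hzN) hyD h1
    have hcz := hc c hcD hcw
    have h4 := hinv c hcD
    have h5 : z * c * z⁻¹ = c := by rw [← hcz]; group
    rw [h5] at h4
    have h6 := mem_of_sq_mem hodd hcD h4
    have h7 : y = c * (y⁻¹ * c)⁻¹ := by group
    rw [h7]
    exact mul_mem h6 (inv_mem hyc)
  -- hence `a` centralises `D`
  have hH : D ⊓ centralizer {a} = D := by
    refine le_of_le_sup_commutator hD inf_le_left ?_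
    intro x hx
    obtain ⟨c, hcD, hcw, hxc⟩ := exists_fixed hodd hle ha haN hx (hfix x hx)
    exact ⟨c, mem_inf.2 ⟨hcD, mem_centralizer_singleton_iff.2 hcw⟩, hxc⟩
  intro d hd
  rw [← hH] at hd
  exact (mem_centralizer_singleton_iff.1 (mem_inf.1 hd).2).symm

/-- A `p`-element normalising a non-trivial `p`-subgroup centralises a non-trivial element of it. -/
theorem exists_fixed_ne_one [Finite G] {p : ℕ} [Fact p.Prime] {N : Subgroup G} (hN : IsPGroup p N) (hne : N ≠ ⊥)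
    {x : G} (hx : IsPGroup p (zpowers x)) (hxN : x ∈ normalizer (N : Set G)) : ∃ v ∈ N, v ≠ 1 ∧ x * v = v * x := by
  have hle : zpowers x ≤ normalizer (N : Set G) := by rwa [zpowers_le]
  letI : MulAction (zpowers x) N :=
    { smul := fun g v => ⟨(g : G) * v * (g : G)⁻¹, (mem_normalizer_iff.1 (hle g.2) v).1 v.2⟩
      one_smul := fun v => Subtype.ext (by change ((1 : zpowers x) : G) * v * ((1 : zpowers x) : G)⁻¹ = v; simp)
      mul_smul := fun g k v => Subtype.ext (by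
        change ((g * k : zpowers x) : G) * v * ((g * k : zpowers x) : G)⁻¹ =
          (g : G) * ((k : G) * v * (k : G)⁻¹) * (g : G)⁻¹
        push_cast; group) }
  have hdvd : p ∣ Nat.card N := by
    have : Nontrivial N := (nontrivial_iff_ne_bot N).2 hne
    obtain ⟨k, hk⟩ := IsPGroup.iff_card.1 hN
    have h1 : 1 < Nat.card N := Finite.one_lt_card
    rw [hk] at h1 ⊢
    exact dvd_pow_self p (by rintro rfl; simp at h1)
  have h1 : (1 : N) ∈ MulAction.fixedPoints (zpowers x) N := by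
    intro g
    apply Subtype.ext
    change (g : G) * ((1 : N) : G) * (g : G)⁻¹ = ((1 : N) : G)
    simp
  obtain ⟨b, hb, hne'⟩ := hx.exists_fixed_point_of_prime_dvd_card_of_fixed_point N hdvd h1
  refine ⟨b, b.2, fun h => hne' (Subtype.ext (by simpa using h.symm)), ?_⟩
  have h2 := congrArg Subtype.val (hb ⟨x, mem_zpowers x⟩)
  change x * (b : G) * x⁻¹ = b at h2
  exact mul_inv_eq_iff_eq_mul.1 h2

section F6

variable {X Xn X' Xn' : Subgroup G} {Z : ℤ → Subgroup G}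

theorem commute_of_iSup_empty {k : ℤ} {u v : G} (h : ⁅u, v⁆ ∈ ⨆ r ∈ Set.Ioo k (k + 1), Z r) : u * v = v * u := by
  have h1 : (⨆ r ∈ Set.Ioo k (k + 1), Z r) = ⊥ := by
    rw [eq_bot_iff]
    exact iSup₂_le fun r hr => absurd hr.2 (by have := hr.1; omega)
  rw [h1, mem_bot, commutatorElement_eq_one_iff_mul_comm] at h
  exact h

/-- The map `w_β`. -/
theorem exists_wb (P : PairData 3 X Xn X' Xn' Z) (hne : Xn' ≠ ⊥) :
    ∃ w ∈ X' ⊔ Xn', Maps Z w (fun k => 3 - k) := by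
  obtain ⟨v, hv, hv1⟩ := (Subgroup.ne_bot_iff_exists_ne_one.1 hne : _) |>.elim fun a ha => (⟨a.1, a.2, fun h => ha
    (Subtype.ext h)⟩ : ∃ v, v ∈ Xn' ∧ v ≠ 1)
  obtain ⟨x, hx, y, hy, h⟩ := P.mu' v hv hv1
  exact ⟨x * v * y, mul_mem (mul_mem (mem_sup_left hx) (mem_sup_right hv)) (mem_sup_left hy), h⟩

/-- The map `w_α`. -/
theorem exists_wa (P : PairData 3 X Xn X' Xn' Z) (hne : Xn ≠ ⊥) :
    ∃ w ∈ X ⊔ Xn, Maps Z w (fun k => 5 - k) := by
  obtain ⟨v, hv, hv1⟩ := (Subgroup.ne_bot_iff_exists_ne_one.1 hne : _) |>.elim fun a ha => (⟨a.1, a.2, fun h => ha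
    (Subtype.ext h)⟩ : ∃ v, v ∈ Xn ∧ v ≠ 1)
  obtain ⟨x, hx, y, hy, h⟩ := P.mu v hv hv1
  exact ⟨x * v * y, mul_mem (mul_mem (mem_sup_left hx) (mem_sup_right hv)) (mem_sup_left hy),
    h.congr fun k => by push_cast; ring⟩

theorem comm23 (P : PairData 3 X Xn X' Xn' Z) {u v : G} (hu : u ∈ Z 2) (hv : v ∈ Z 3) : u * v = v * u :=
  commute_of_iSup_empty (Z := Z) (k := 2) (P.comm 2 3 (by norm_num) (by norm_num) (by norm_num) u hu v hv)

theorem comm12 (P : PairData 3 X Xn X' Xn' Z) {u v : G} (hu : u ∈ Z 1) (hv : v ∈ Z 2) : u * v = v * u :=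
  commute_of_iSup_empty (Z := Z) (k := 1) (P.comm 1 2 (by norm_num) (by norm_num) (by norm_num) u hu v hv)

theorem comm10 (P : PairData 3 X Xn X' Xn' Z) (hne : Xn' ≠ ⊥) {u v : G} (hu : u ∈ Z 1) (hv : v ∈ Z 0) :
    u * v = v * u := by
  obtain ⟨w, -, hw⟩ := exists_wb P hne
  have h1 : w * u * w⁻¹ ∈ Z 2 := (hw 1 u).2 hu
  have h2 : w * v * w⁻¹ ∈ Z 3 := (hw 0 v).2 hv
  have h3 := comm23 P h1 h2
  have h4 : w * (u * v) * w⁻¹ = w * (v * u) * w⁻¹ := by
    calc w * (u * v) * w⁻¹ = w * u * w⁻¹ * (w * v * w⁻¹) := by group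
      _ = w * v * w⁻¹ * (w * u * w⁻¹) := h3
      _ = w * (v * u) * w⁻¹ := by group
  exact mul_left_cancel (mul_right_cancel h4)

theorem comm13 (P : PairData 3 X Xn X' Xn' Z) {u v : G} (hu : u ∈ Z 1) (hv : v ∈ Z 3) : ⁅u, v⁆ ∈ Z 2 := by
  have h1 := P.comm 1 3 (by norm_num) (by norm_num) (by norm_num) u hu v hv
  have h2 : (⨆ r ∈ Set.Ioo (1 : ℤ) 3, Z r) ≤ Z 2 := by
    refine iSup₂_le fun r hr => ?_
    have h3 : r = 2 := by have := hr.1; have := hr.2; omega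
    rw [h3]
  exact h2 h1

/-- No non-trivial element of `X_α` commutes with a non-trivial element of `X_β`. -/
theorem eq_one_of_commute (P : PairData 3 X Xn X' Xn' Z) (hne : Xn' ≠ ⊥) (h12 : Z 1 ⊓ Z 2 = ⊥) {u v : G}
    (hu : u ∈ Z 1) (hv : v ∈ Z 3) (hv1 : v ≠ 1) (huv : u * v = v * u) : u = 1 := by
  obtain ⟨w, -, hw⟩ := exists_wb P hne
  have h1 : w * v * w⁻¹ ∈ Z 0 := (hw 3 v).2 hv
  have h2 : w * v * w⁻¹ ≠ 1 := by
    intro h
    apply hv1
    have : v = w⁻¹ * (w * v * w⁻¹) * w := by group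
    rw [this, h]; group
  rw [P.z_zero] at h1
  obtain ⟨x, hx, y, hy, h⟩ := P.mu' _ h1 h2
  rw [← P.z_m] at hx hy
  have hx' : w⁻¹ * x * w ∈ Z 0 := (hw 0 _).1 (by
    have e : w * (w⁻¹ * x * w) * w⁻¹ = x := by group
    rw [e]; exact hx)
  have hy' : w⁻¹ * y * w ∈ Z 0 := (hw 0 _).1 (by
    have e : w * (w⁻¹ * y * w) * w⁻¹ = y := by group
    rw [e]; exact hy)
  have hwi : Maps Z w⁻¹ (fun k => 3 - k) := hw.inv (fun k => by ring)
  have h3 := (hwi.mul h).mul hw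
  have e : w⁻¹ * (x * (w * v * w⁻¹) * y) * w = (w⁻¹ * x * w) * v * (w⁻¹ * y * w) := by group
  rw [e] at h3
  have c1 := comm10 P hne hu hx'
  have c2 := comm10 P hne hu hy'
  have c3 : u * ((w⁻¹ * x * w) * v * (w⁻¹ * y * w)) = ((w⁻¹ * x * w) * v * (w⁻¹ * y * w)) * u := by
    generalize w⁻¹ * x * w = s at c1
    generalize w⁻¹ * y * w = t at c2
    calc u * (s * v * t) = (u * s) * v * t := by group
      _ = s * (u * v) * t := by rw [c1]; group
      _ = s * v * (u * t) := by rw [huv]; group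
      _ = (s * v * t) * u := by rw [c2]; group
  have h4 := (h3 1 u).2 hu
  have e2 : (w⁻¹ * x * w) * v * (w⁻¹ * y * w) * u * ((w⁻¹ * x * w) * v * (w⁻¹ * y * w))⁻¹ = u := by
    rw [← c3]; group
  rw [e2] at h4
  have h5 : u ∈ Z 2 := by simpa using h4
  have h6 : u ∈ Z 1 ⊓ Z 2 := mem_inf.2 ⟨hu, h5⟩
  rwa [h12, mem_bot] at h6

/-- `u ↦ ⁅u, v⁆` maps `X_α` onto `X_{α+β}`, `1 ≠ v ∈ X_β`. -/
theorem exists_commutator [Finite G] (P : PairData 3 X Xn X' Xn' Z) (hne : Xn' ≠ ⊥) (h12 : Z 1 ⊓ Z 2 = ⊥) {v : G}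
    (hv : v ∈ Z 3) (hv1 : v ≠ 1) {s : G} (hs : s ∈ Z 2) : ∃ u ∈ Z 1, s = ⁅u, v⁆ := by
  obtain ⟨w, -, hw⟩ := exists_wb P hne
  let f : Z 1 → Z 2 := fun u => ⟨⁅(u : G), v⁆, comm13 P u.2 hv⟩
  have hf : Function.Injective f := by
    rintro ⟨a, ha⟩ ⟨b, hb⟩ hab
    have h1 : ⁅a, v⁆ = ⁅b, v⁆ := congrArg Subtype.val hab
    rw [commutatorElement_def, commutatorElement_def] at h1
    have h2 : a * v * a⁻¹ = b * v * b⁻¹ := mul_right_cancel h1
    have h3 : (b⁻¹ * a) * v = v * (b⁻¹ * a) := by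
      calc (b⁻¹ * a) * v = b⁻¹ * (a * v * a⁻¹) * a := by group
        _ = v * (b⁻¹ * a) := by rw [h2]; group
    have h4 := eq_one_of_commute P hne h12 (mul_mem (inv_mem hb) ha) hv hv1 h3
    exact Subtype.ext (inv_mul_eq_one.1 h4).symm
  have e : Z 1 ≃ Z 2 :=
    { toFun := fun u => ⟨w * u * w⁻¹, (hw 1 u).2 u.2⟩
      invFun := fun u => ⟨w⁻¹ * u * w, (hw 1 _).1 (by
        have e : w * (w⁻¹ * (u : G) * w) * w⁻¹ = u := by group
        rw [e]; exact u.2)⟩
      left_inv := fun u => Subtype.ext (by simp [mul_assoc])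
      right_inv := fun u => Subtype.ext (by simp [mul_assoc]) }
  have hsurj : Function.Surjective f := (Finite.injective_iff_surjective_of_equiv e).1 hf
  obtain ⟨⟨u, hu⟩, h⟩ := hsurj ⟨s, hs⟩
  exact ⟨u, hu, (congrArg Subtype.val h).symm⟩

/-- **F6.** A `p`-element which centralises `X_{±α}` and normalises `X_{±β}` centralises `X_{±β}`, `(α, β)` an
`A_2`-pair. -/
theorem f6 [Finite G] {p : ℕ} [Fact p.Prime] (P : PairData 3 X Xn X' Xn' Z) (h12 : Z 1 ⊓ Z 2 = ⊥)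
    (hX' : IsPGroup p X') (hXn' : IsPGroup p Xn') (hX'ne : X' ≠ ⊥) (hXn'ne : Xn' ≠ ⊥) (hXnne : Xn ≠ ⊥)
    {x : G} (hx : IsPGroup p (zpowers x)) (hxX : ∀ u ∈ X, x * u = u * x) (hxXn : ∀ u ∈ Xn, x * u = u * x)
    (h1 : x ∈ normalizer (X' : Set G)) (h2 : x ∈ normalizer (Xn' : Set G)) :
    (∀ u ∈ X', x * u = u * x) ∧ ∀ u ∈ Xn', x * u = u * x := by
  obtain ⟨v, hv, hv1, hxv⟩ := exists_fixed_ne_one hX' hX'ne hx h1
  have hcl : ∀ {A B : Subgroup G}, (∀ u ∈ A, x * u = u * x) → (∀ u ∈ B, x * u = u * x) →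
      ∀ u ∈ A ⊔ B, x * u = u * x := by
    intro A B hA hB u hu
    have h3 : A ⊔ B ≤ centralizer {x} := sup_le (fun a ha => mem_centralizer_singleton_iff.2 (hA a ha).symm)
      (fun a ha => mem_centralizer_singleton_iff.2 (hB a ha).symm)
    exact (mem_centralizer_singleton_iff.1 (h3 hu)).symm
  have hZ2 : ∀ s ∈ Z 2, x * s = s * x := by
    intro s hs
    obtain ⟨u, hu, rfl⟩ := exists_commutator P hXn'ne h12 (v := v) (by
      have := P.z_m
      push_cast at this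
      rw [this]; exact hv) hv1 hs
    rw [P.z_one] at hu
    have c1 := hxX u hu
    have h3 : u ∈ centralizer {x} := mem_centralizer_singleton_iff.2 c1.symm
    have h4 : v ∈ centralizer {x} := mem_centralizer_singleton_iff.2 hxv.symm
    have h5 : ⁅u, v⁆ ∈ centralizer {x} := by
      rw [commutatorElement_def]
      exact mul_mem (mul_mem (mul_mem h3 h4) (inv_mem h3)) (inv_mem h4)
    exact (mem_centralizer_singleton_iff.1 h5).symm
  have hX'c : ∀ u ∈ X', x * u = u * x := by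
    intro u hu
    obtain ⟨w, hw, hwm⟩ := exists_wa P hXnne
    have hxw := hcl hxX hxXn w hw
    have h3 : w⁻¹ * u * w ∈ Z 2 := (hwm 2 _).1 (by
      have e : w * (w⁻¹ * u * w) * w⁻¹ = u := by group
      have := P.z_m
      push_cast at this
      rw [e]; norm_num; rw [this]; exact hu)
    have h4 := hZ2 _ h3
    have h5 : w ∈ centralizer {x} := mem_centralizer_singleton_iff.2 hxw.symm
    have h6 : w⁻¹ * u * w ∈ centralizer {x} := mem_centralizer_singleton_iff.2 h4.symm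
    have h7 : u ∈ centralizer {x} := by
      have e : u = w * (w⁻¹ * u * w) * w⁻¹ := by group
      rw [e]
      exact mul_mem (mul_mem h5 h6) (inv_mem h5)
    exact (mem_centralizer_singleton_iff.1 h7).symm
  refine ⟨hX'c, ?_⟩
  obtain ⟨v', hv', hv1', hxv'⟩ := exists_fixed_ne_one hXn' hXn'ne hx h2
  obtain ⟨a, ha, b, hb, hm⟩ := P.mu' v' hv' hv1'
  have h5 : a * v' * b ∈ centralizer {x} := by
    refine mul_mem (mul_mem ?_ ?_) ?_
    · exact mem_centralizer_singleton_iff.2 (hX'c a ha).symm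
    · exact mem_centralizer_singleton_iff.2 hxv'.symm
    · exact mem_centralizer_singleton_iff.2 (hX'c b hb).symm
  intro u hu
  generalize a * v' * b = w at h5 hm
  have h3 : w⁻¹ * u * w ∈ Z 3 := (hm 3 _).1 (by
    have e : w * (w⁻¹ * u * w) * w⁻¹ = u := by group
    rw [e]
    have := P.z_zero
    norm_num
    rw [this]; exact hu)
  have h3' : w⁻¹ * u * w ∈ X' := by
    have := P.z_m
    push_cast at this
    rwa [this] at h3
  have h6 : w⁻¹ * u * w ∈ centralizer {x} := mem_centralizer_singleton_iff.2 (hX'c _ h3').symm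
  have h7 : u ∈ centralizer {x} := by
    have e : u = w * (w⁻¹ * u * w) * w⁻¹ := by group
    rw [e]
    exact mul_mem (mul_mem h5 h6) (inv_mem h5)
  exact (mem_centralizer_singleton_iff.1 h7).symm

end F6

end Cfsg.Agent.Cit.BDGroup
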