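import Mathlib
import Cfsg.Agent.Nodes.LeviDec
import Cfsg.Agent.Nodes.Chart

/-!
Project CIT, frames: the unipotent radical of the parabolic of a root, inside a group with a root group datum.

* `le_U_of_normalized` : a `p`-subgroup of `GG` normalised by `U` lies in `U`;
* `U_inf_cj_longest` : `U ⊓ U^{w_J} = V_J`;
* `inf_GG_le` : a `p`-subgroup normalised by all `X y` with `(y, r) ≥ 0` meets `GG` in `Sup X {y | (y, r) > 0}`.
* `inf_eq` : **(F2)**; `cls_inf_eq`, `chart_inf_eq` : the same with the hypotheses on `Q` in a chart: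
  `Q` is a `p`-group, `Z r ≤ Q`, `Q` is normalised by `C(Z r)` and contains all `⁅a, z r⁆`, `a ∈ C(Z r)`.
-/

set_option autoImplicit false
set_option linter.unusedSectionVars false

namespace Cfsg.Agent.Cit.FrameF2

open CoxeterSystem Cfsg.Agent.ChevalleyStructure.CoxeterGeom Cfsg.Agent.Tits.Roots Cfsg.Agent.Tits.Core
  Cfsg.Agent.Tits.Exchange Cfsg.Agent.Nodes.Reps Cfsg.Agent.Nodes.BNOf Cfsg.Agent.Nodes.StabComb
  Cfsg.Agent.Nodes.Bruhat Cfsg.Agent.Nodes.OppDec Cfsg.Agent.Nodes.LeviDec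
open scoped commutatorElement

variable {I W Y : Type*} [Fintype I] [DecidableEq I] [Group W] [Group Y] {M : CoxeterMatrix I}
  {cs : CoxeterSystem M W} {A : I → I → ℤ} {h : IsCartan M A} {p : ℕ} {T : Subgroup Y} {n : I → Y}
  {X : (I → ℤ) → Subgroup Y}

/-- the positive roots have rootgroups generating `U` -/
abbrev U (cs : CoxeterSystem M W) (h : IsCartan M A) (X : (I → ℤ) → Subgroup Y) : Subgroup Y :=
  RGD.Sup X (RGD.Pos cs h)

variable (R : RGD cs h p T n X)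

include R

/-- elements of `B` normalise `U` -/
theorem B_le_normalizer_U : RGD.B cs h T X ≤ Subgroup.normalizer (U cs h X : Set Y) := by
  unfold RGD.B
  refine sup_le ?_ Subgroup.le_normalizer
  exact R.T_le_normalizer fun _ hx => hx.1

/-- an element of `GG` normalising `U` lies in `B` -/
theorem mem_B_of_cj_U_le [Finite W] {g : Y} (hg : g ∈ GG cs h T X) (hU : cj g (U cs h X) ≤ U cs h X) :
    g ∈ RGD.B cs h T X := by
  obtain ⟨w, hw⟩ := (mem_GG R).1 hg
  by_cases h1 : w = 1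
  · subst h1; exact hw.mem_of_one
  exfalso
  obtain ⟨b₁, hb₁, k, hk, b₂, hb₂, rfl⟩ := hw
  obtain ⟨i, hi⟩ := cs.exists_rightDescent_of_ne_one h1
  have hneg : rep cs h w (sr i) ≤ 0 := nonpos_of_lt cs h w i hi
  have e1 : cj b₂ (U cs h X) = U cs h X := mem_normalizer_iff_cj.1 (B_le_normalizer_U R hb₂)
  have e2 : cj b₁⁻¹ (U cs h X) = U cs h X := mem_normalizer_iff_cj.1 (B_le_normalizer_U R (inv_mem hb₁))
  have h2 : cj k (U cs h X) ≤ U cs h X := by
    have h3 := cj_mono b₁⁻¹ hU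
    rwa [cj_mul, cj_mul, cj_inv_cj, e1, e2] at h3
  have h3 : X (rep cs h w (sr i)) ≤ U cs h X := by
    rw [← R.conj_rp hk (isRoot_sr cs h i)]
    refine le_trans (cj_mono k (RGD.le_Sup ?_)) h2
    exact ⟨isRoot_sr cs h i, sr_nonneg i⟩
  have h4 : X (rep cs h w (sr i)) ≤ UN cs h X := X_le_UN ((isRoot_sr cs h i).act _) hneg
  have h5 : X (rep cs h w (sr i)) ≤ ⊥ := by
    rw [← U_inf_UN R]
    exact le_inf h3 h4
  exact X_ne_bot R ((isRoot_sr cs h i).act _) (le_bot_iff.1 h5)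

/-- a `p`-subgroup of `B` containing `U` is `U` -/
theorem mem_U_of_mem_B {P : Subgroup Y} (hP : IsPGroup p P) (hUP : U cs h X ≤ P) {g : Y} (hg : g ∈ P)
    (hB : g ∈ RGD.B cs h T X) : g ∈ U cs h X := by
  obtain ⟨t, ht, u, hu, rfl⟩ := R.mem_B.1 hB
  have h1 : t ∈ P := by
    have : t = t * u * u⁻¹ := by group
    rw [this]
    exact mul_mem hg (inv_mem (hUP hu))
  have h2 : t = 1 := by
    obtain ⟨k, hk⟩ := hP ⟨t, h1⟩
    have hk' : t ^ p ^ k = 1 := by
      have := congrArg Subtype.val hk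
      simpa using this
    have h3 : orderOf t ∣ p ^ k := orderOf_dvd_of_pow_eq_one hk'
    have h4 : orderOf t ∣ Nat.card T := by
      have := orderOf_dvd_natCard (⟨t, ht⟩ : T)
      rwa [Subgroup.orderOf_mk] at this
    have h5 : orderOf t = 1 := Nat.eq_one_of_dvd_coprimes
      ((Nat.Coprime.pow_right k R.tcop)) h4 h3
    exact orderOf_eq_one_iff.1 h5
  rw [h2, one_mul]
  exact hu

/-- a finite `p`-subgroup of `GG` containing `U` is `U` -/
theorem eq_U_of_le [Finite W] [Finite Y] [Fact p.Prime] {P : Subgroup Y} (hP : IsPGroup p P)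
    (hUP : U cs h X ≤ P) (hPG : P ≤ GG cs h T X) : P ≤ U cs h X := by
  by_contra hne
  have hlt : (U cs h X).subgroupOf P < ⊤ := by
    rw [lt_top_iff_ne_top]
    intro h1
    rw [Subgroup.subgroupOf_eq_top] at h1
    exact hne h1
  have hnil : Group.IsNilpotent P := hP.isNilpotent
  have h1 := Group.normalizerCondition_of_isNilpotent (G := P) _ hlt
  obtain ⟨g, hg, hg'⟩ := SetLike.exists_of_lt h1
  apply hg'
  rw [Subgroup.mem_subgroupOf]
  refine mem_U_of_mem_B R hP hUP g.2 (mem_B_of_cj_U_le R (hPG g.2) ?_)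
  intro x hx
  rw [mem_cj] at hx
  have hxP : x ∈ P := by
    have : x = (g : Y) * ((g : Y)⁻¹ * x * g) * (g : Y)⁻¹ := by group
    rw [this]
    exact mul_mem (mul_mem g.2 (hUP hx)) (inv_mem g.2)
  have h2 := (Subgroup.mem_normalizer_iff.1 hg (g⁻¹ * ⟨x, hxP⟩ * g)).1 (by
    rw [Subgroup.mem_subgroupOf]
    exact hx)
  have h3 : g * (g⁻¹ * (⟨x, hxP⟩ : P) * g) * g⁻¹ = ⟨x, hxP⟩ := by group
  rw [h3] at h2
  exact h2

/-- a `p`-subgroup of `GG` normalised by `U` lies in `U` -/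
theorem le_U_of_normalized [Finite W] [Finite Y] [Fact p.Prime] {P : Subgroup Y} (hP : IsPGroup p P)
    (hPG : P ≤ GG cs h T X) (hn : U cs h X ≤ Subgroup.normalizer (P : Set Y)) : P ≤ U cs h X := by
  have h1 : IsPGroup p ↥(U cs h X ⊔ P) :=
    IsPGroup.to_sup_of_normal_right' R.isPGroup_Upos hP hn
  refine le_trans le_sup_right (eq_U_of_le R h1 le_sup_left (sup_le ?_ hPG))
  exact RGD.Sup_le fun _ hx => X_le_GG hx.1

/-- the same for a conjugate of `U` under `N` -/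
theorem le_cj_U_of_normalized [Finite W] [Finite Y] [Fact p.Prime] {P : Subgroup Y} (hP : IsPGroup p P)
    (hPG : P ≤ GG cs h T X) {w : W} {k : Y} (hk : Rp cs R.nsys w k)
    (hn : cj k (U cs h X) ≤ Subgroup.normalizer (P : Set Y)) : P ≤ cj k (U cs h X) := by
  have hkG : k ∈ GG cs h T X := NN_le_GG R ⟨w, hk⟩
  have h1 : cj k⁻¹ P ≤ U cs h X := by
    refine le_U_of_normalized R (hP.map _) ?_ ?_
    · have h2 := cj_mono k⁻¹ hPG
      rwa [cj_eq_of_mem (inv_mem hkG)] at h2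
    · intro u hu
      have h3 := hn (conj_mem_cj.2 hu)
      rw [mem_normalizer_iff_cj] at h3 ⊢
      have h4 : cj u (cj k⁻¹ P) = cj k⁻¹ (cj (k * u * k⁻¹) P) := by
        rw [← cj_mul, ← cj_mul]
        congr 1
        group
      rw [h4, h3]
  have h2 := cj_mono k h1
  rwa [cj_cj_inv] at h2

/-- `U ⊓ U^{w_J} ≤ V_J` -/
theorem U_inf_cj_longest [Finite W] {J : Set I} {w : W} (hw : IsLongest cs J w) {k : Y}
    (hk : Rp cs R.nsys w k) : U cs h X ⊓ cj k (U cs h X) ≤ VJ cs h X J := by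
  rintro g ⟨hg1, hg2⟩
  replace hg2 := mem_cj.1 hg2
  obtain ⟨u, hu, v, hv, rfl⟩ := (mem_U_iff R (J := J)).1 hg1
  obtain ⟨u', hu', v', hv', e⟩ := (mem_U_iff R (J := J)).1 hg2
  have hkL : k ∈ LJ cs h T X J := rp_mem_LJ R hw.1 hk
  have huL : u ∈ LJ cs h T X J := BJ_le_LJ (UJ_le_BJ hu)
  have hu'L : u' ∈ LJ cs h T X J := BJ_le_LJ (UJ_le_BJ hu')
  have hkv : ∀ v ∈ VJ cs h X J, k * v * k⁻¹ ∈ VJ cs h X J := fun v hv =>
    (Subgroup.mem_normalizer_iff.1 (LJ_le_normalizer_VJ R J hkL) v).1 hv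
  -- `u v = (k u' k⁻¹) (k v' k⁻¹)`
  have e2 : u * v = (k * u' * k⁻¹) * (k * v' * k⁻¹) := by
    have : u * v = k * (k⁻¹ * (u * v) * k) * k⁻¹ := by group
    rw [this, e]; group
  have e3 : (k * u' * k⁻¹)⁻¹ * u = (k * v' * k⁻¹) * v⁻¹ := by
    have : (k * u' * k⁻¹)⁻¹ * (u * v) * v⁻¹ = (k * u' * k⁻¹)⁻¹ * u := by group
    rw [← this, e2]; group
  have h1 : (k * u' * k⁻¹)⁻¹ * u = 1 := by
    refine eq_one_of_mem_LJ_of_mem_VJ R (J := J) ?_ ?_
    · exact mul_mem (inv_mem (mul_mem (mul_mem hkL hu'L) (inv_mem hkL))) huL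
    · rw [e3]
      exact mul_mem (hkv _ hv') (inv_mem hv)
  have h2 : u = k * u' * k⁻¹ := by
    have : u = (k * u' * k⁻¹) * ((k * u' * k⁻¹)⁻¹ * u) := by group
    rw [this, h1, mul_one]
  have h3 : u ∈ UN cs h X := by
    rw [h2]
    refine conj_mem_Sup R hk (S := PosJ cs h J) (S' := Neg cs h) (fun x hx => hx.1) (fun x hx => ?_) hu'
    exact ⟨hx.1.act _, rep_longest_nonpos hw hx⟩
  have h4 : u = 1 := eq_one_of_mem_U_of_mem_BN R (UJ_le_U J hu) (UN_le_BN h3)
  rw [h4, one_mul]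
  exact hv

/-! ### dominant roots -/

omit R in
theorem notJ_orth_iff [Fintype W] {r : I → ℤ} (hr : Dom A r) {y : I → ℤ} (hy : IsRoot cs h y) :
    y ∈ NotJ cs h (orth cs h r) ↔ 0 < form cs h y r := by
  have key : ∀ k, 0 ≤ form cs h r (sr k) := fun k => form_nonneg_of_dom cs h hr (sr_nonneg k)
  have hk0 : ∀ k, k ∉ orth cs h r → 0 < form cs h r (sr k) := by
    intro k hk
    rw [form_sr_pos_iff]
    refine lt_of_le_of_ne (hr k) fun h1 => hk (mem_orth.2 h1.symm)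
  have hsum : form cs h y r = ∑ k, y k * form cs h r (sr k) := by
    rw [form_comm, form_eq_sum]
  constructor
  · rintro ⟨_, h0, k, hk, hpos⟩
    rw [hsum]
    refine Finset.sum_pos' (fun j _ => mul_nonneg (h0 j) (key j)) ⟨k, Finset.mem_univ k, mul_pos hpos (hk0 k hk)⟩
  · intro hpos
    rw [hsum] at hpos
    obtain ⟨k, _, hk⟩ := Finset.exists_lt_of_sum_lt (s := Finset.univ) (f := fun _ : I => (0 : ℤ))
      (by simpa using hpos)
    have hyk : 0 < y k := by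
      by_contra h1
      exact absurd hk (not_lt.2 (mul_nonpos_of_nonpos_of_nonneg (not_lt.1 h1) (key k)))
    refine ⟨hy, nonneg_of_pos_apply hy hyk, k, fun h1 => ?_, hyk⟩
    have h2 : form cs h r (sr k) = 0 := by
      have h3 := mem_orth.1 h1
      have h4 := form_sr_pos_iff cs h k r
      have h5 := key k
      by_contra h6
      have := h4.1 (lt_of_le_of_ne h5 (Ne.symm h6))
      omega
    rw [h2, mul_zero] at hk
    exact lt_irrefl _ hk

omit R in
theorem VJ_orth [Fintype W] {r : I → ℤ} (hr : Dom A r) :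
    VJ cs h X (orth cs h r) = RGD.Sup X {y | IsRoot cs h y ∧ 0 < form cs h y r} := by
  unfold VJ
  congr 1
  ext y
  constructor
  · intro hy
    exact ⟨hy.1, (notJ_orth_iff hr hy.1).1 hy⟩
  · rintro ⟨hy, h1⟩
    exact (notJ_orth_iff hr hy).2 h1

/-- a `p`-subgroup normalised by all `X y`, `(y, r) ≥ 0`, meets `GG` in the radical of `r` (`r` dominant) -/
theorem inf_GG_le_of_dom [Fintype W] [Finite Y] [Fact p.Prime] {r : I → ℤ} (hr : Dom A r) {Q : Subgroup Y}
    (hQ : IsPGroup p Q) (hQG : Q ≤ GG cs h T X)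
    (hn : ∀ y, IsRoot cs h y → 0 ≤ form cs h y r → X y ≤ Subgroup.normalizer (Q : Set Y)) :
    Q ≤ RGD.Sup X {y | IsRoot cs h y ∧ 0 < form cs h y r} := by
  rw [← VJ_orth hr]
  obtain ⟨w, hw⟩ := exists_isLongest cs (orth cs h r)
  obtain ⟨k, hk⟩ := exists_rp cs R.nsys w
  have hpos : ∀ y, IsRoot cs h y → 0 ≤ y → 0 ≤ form cs h y r := fun y _ h0 => by
    rw [form_comm]; exact form_nonneg_of_dom cs h hr h0
  refine le_trans (le_inf ?_ ?_) (U_inf_cj_longest R hw hk)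
  · exact le_U_of_normalized R hQ hQG (RGD.Sup_le fun y hy => hn y hy.1 (hpos y hy.1 hy.2))
  · refine le_cj_U_of_normalized R hQ hQG hk ?_
    rw [RGD.cj_Sup]
    refine iSup_le ?_
    rintro ⟨y, hy⟩
    change cj k (X y) ≤ _
    rw [R.conj_rp hk hy.1]
    refine hn _ (hy.1.act _) ?_
    have h2 : rep cs h w r = r := rep_of_mem_WJ_orth hw.1
    have h3 : form cs h (rep cs h w y) r = form cs h y r := by
      conv_lhs => rw [← h2]
      rw [form_rep]
    rw [h3]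
    exact hpos y hy.1 hy.2

omit R in
theorem exists_dom_conj [Finite W] (r : I → ℤ) : ∃ w : W, ∃ r₀, Dom A r₀ ∧ r = rep cs h w r₀ := by
  obtain ⟨w, hw⟩ := Nodes.Comb.exists_dom_rep cs h r
  refine ⟨w⁻¹, _, hw, ?_⟩
  rw [rep_inv_apply]

/-- **(F2), upper bound**: a `p`-subgroup of `GG` normalised by all `X y`, `(y, r) ≥ 0`, lies in
`Sup X {y | (y, r) > 0}` -/
theorem le_of_normalized [Fintype W] [Finite Y] [Fact p.Prime] (r : I → ℤ) {Q : Subgroup Y}
    (hQ : IsPGroup p Q) (hQG : Q ≤ GG cs h T X)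
    (hn : ∀ y, IsRoot cs h y → 0 ≤ form cs h y r → X y ≤ Subgroup.normalizer (Q : Set Y)) :
    Q ≤ RGD.Sup X {y | IsRoot cs h y ∧ 0 < form cs h y r} := by
  obtain ⟨w, r₀, hr₀, rfl⟩ := exists_dom_conj (cs := cs) (h := h) r
  obtain ⟨k, hk⟩ := exists_rp cs R.nsys w
  have hkG : k ∈ GG cs h T X := NN_le_GG R ⟨w, hk⟩
  have h1 : cj k⁻¹ Q ≤ RGD.Sup X {y | IsRoot cs h y ∧ 0 < form cs h y r₀} := by
    refine inf_GG_le_of_dom R hr₀ (hQ.map _) ?_ ?_
    · have h2 := cj_mono k⁻¹ hQG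
      rwa [cj_eq_of_mem (inv_mem hkG)] at h2
    · intro y hy h0 u hu
      have h3 := hn _ (hy.act w) (by rw [form_rep]; exact h0) (R.conj_mem hk hy hu)
      rw [mem_normalizer_iff_cj] at h3 ⊢
      have h4 : cj u (cj k⁻¹ Q) = cj k⁻¹ (cj (k * u * k⁻¹) Q) := by
        rw [← cj_mul, ← cj_mul]
        congr 1
        group
      rw [h4, h3]
  have h2 := cj_mono k h1
  rw [cj_cj_inv] at h2
  refine le_trans h2 (cj_Sup_le R hk (fun y hy => hy.1) fun y hy => ⟨hy.1.act _, ?_⟩)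
  rw [form_rep]
  exact hy.2

/-- **(F2)**: a `p`-subgroup `Q` normalised by all `X y`, `(y, r) ≥ 0`, and containing all `X y`, `(y, r) > 0`, meets
`L` (between the join of the root groups and `GG`) in `Sup X {y | (y, r) > 0}` -/
theorem inf_eq [Fintype W] [Finite Y] [Fact p.Prime] (r : I → ℤ) {Q L : Subgroup Y} (hQ : IsPGroup p Q)
    (hXL : ∀ y, IsRoot cs h y → X y ≤ L) (hLG : L ≤ GG cs h T X)
    (hn : ∀ y, IsRoot cs h y → 0 ≤ form cs h y r → X y ≤ Subgroup.normalizer (Q : Set Y))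
    (hle : ∀ y, IsRoot cs h y → 0 < form cs h y r → X y ≤ Q) :
    Q ⊓ L = RGD.Sup X {y | IsRoot cs h y ∧ 0 < form cs h y r} := by
  apply le_antisymm
  · refine le_of_normalized R r (hQ.to_le inf_le_left) (le_trans inf_le_right hLG) fun y hy h0 a ha => ?_
    have h1 := mem_normalizer_iff_cj.1 (hn y hy h0 ha)
    rw [mem_normalizer_iff_cj]
    have h2 : cj a L = L := cj_eq_of_mem (hXL y hy ha)
    conv_rhs => rw [← h1, ← h2]
    exact Subgroup.map_inf _ _ _ (MulAut.conj a).injective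
  · exact RGD.Sup_le fun y hy => le_inf (hle y hy.1 hy.2) (hXL y hy.1)

omit R in
/-- an element of odd order almost inverted by an involution `z` lies in `Q` as soon as its commutator with `z` does -/
theorem mem_of_comm {Q : Subgroup Y} {z a : Y} (hz : z * z = 1) (ha : Odd (orderOf a))
    (h1 : z * a * z * a ∈ Q) (h2 : ⁅a, z⁆ ∈ Q) : a ∈ Q := by
  have h3 : ⁅a, z⁆ * (z * a * z * a) = a * a := by
    have hz' : z⁻¹ = z := inv_eq_of_mul_eq_one_left hz
    calc ⁅a, z⁆ * (z * a * z * a) = a * z * a⁻¹ * (z⁻¹ * z) * a * z * a := by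
          simp only [commutatorElement_def, mul_assoc]
      _ = a * (z * z) * a := by group
      _ = a * a := by rw [hz, mul_one]
  have h4 : a * a ∈ Q := by
    rw [← h3]
    exact mul_mem h2 h1
  obtain ⟨k, hk⟩ := ha
  have h5 : (a * a) ^ (k + 1) = a := by
    have : (a * a) ^ (k + 1) = a ^ orderOf a * a := by
      rw [hk, ← pow_two, ← pow_mul, ← pow_succ]
      congr 1
    rw [this, pow_orderOf_eq_one, one_mul]
  rw [← h5]
  exact pow_mem h4 _

omit R in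
/-- **(F2)** for the classical root groups of a root group datum -/
theorem cls_inf_eq [Fintype W] [Finite Y] (hp : p.Prime) (hp2 : p ≠ 2) {RR : Set (I → ℤ)}
    {Z : (I → ℤ) → Subgroup Y} {z : (I → ℤ) → Y} (C : Cfsg.Agent.Nodes.Chart.Cls cs h p T n X RR Z z) {r : I → ℤ} (hr : r ∈ RR)
    {Q L : Subgroup Y} (hQ : IsPGroup p Q) (hZ : Z r ≤ Q)
    (hn : ∀ g : Y, (∀ b ∈ Z r, g * b = b * g) → g ∈ Subgroup.normalizer (Q : Set Y))
    (hc : ∀ a : Y, (∀ b ∈ Z r, a * b = b * a) → ⁅a, z r⁆ ∈ Q)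
    (hXL : ∀ y, IsRoot cs h y → X y ≤ L) (hLG : L ≤ GG cs h T X) :
    Q ⊓ L = RGD.Sup X {y | IsRoot cs h y ∧ 0 < form cs h y r} := by
  have := Fact.mk hp
  refine inf_eq C.rgd r hQ hXL hLG (fun y hy h0 a ha => hn a fun b hb => C.cent r hr y hy h0 a ha b hb)
    fun y hy h0 a ha => ?_
  have hy' : y ≠ -r := by
    rintro rfl
    rw [form_neg_left] at h0
    have := form_nonneg cs h r
    omega
  have hodd : Odd (orderOf a) := by
    obtain ⟨k, hk⟩ := C.rgd.pgrp' hy ⟨a, ha⟩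
    have hk' : a ^ p ^ k = 1 := by
      have := congrArg Subtype.val hk
      simpa using this
    exact ((hp.odd_of_ne_two hp2).pow (n := k)).of_dvd_nat (orderOf_dvd_of_pow_eq_one hk')
  refine mem_of_comm (C.z_sq r hr) hodd ?_ (hc a fun b hb => C.cent r hr y hy h0.le a ha b hb)
  by_cases hyr : y = r
  · subst hyr
    exact hZ (C.z_inv_self y hr a ha)
  · rw [C.z_inv r hr y hy hyr hy' h0.ne' a ha, inv_mul_cancel]
    exact one_mem _

omit R in
/-- **(F2)** in a chart -/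
theorem chart_inf_eq [Finite Y] {Om : Set (Subgroup Y)} {L : Subgroup Y} (C : Cfsg.Agent.Nodes.Chart.Chart Om p L) {r : C.I → ℤ}
    (hr : r ∈ C.R) {Q : Subgroup Y} (hQ : IsPGroup p Q) (hZ : C.Z r ≤ Q)
    (hn : ∀ g : Y, (∀ b ∈ C.Z r, g * b = b * g) → g ∈ Subgroup.normalizer (Q : Set Y))
    (hc : ∀ a : Y, (∀ b ∈ C.Z r, a * b = b * a) → ⁅a, C.z r⁆ ∈ Q) :
    Q ⊓ L = RGD.Sup C.X {y | IsRoot C.cs C.h y ∧ 0 < form C.cs C.h y r} := by
  refine cls_inf_eq C.prime C.odd C.cls hr hQ hZ hn hc (fun y hy => ?_) ?_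
  · exact le_trans (Cfsg.Agent.Nodes.RGDLib.X_le_G1 hy) C.gen.le
  · exact le_trans C.gen.ge (RGD.Sup_le fun y hy => X_le_GG hy)

end Cfsg.Agent.Cit.FrameF2
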