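import Mathlib
import Cfsg.Agent.Nodes.ClsNorm
import Cfsg.Agent.Cit.FrameF2
import Cfsg.Agent.Cit.BDGroup

/-!
# The radical of a classical root group is canonical; LEMMA V in a chart (project CIT)

* `Vr cs h X r` : the join of the root groups `X y`, `(y, r) > 0`;
* `mem_normalizer_Vr` : an element normalising `GG` and `Z r` normalises `Vr r`;
* `commute_of_cent` : **LEMMA V**: `r₁, r₂` classical roots, orthogonal, `z r₁ = z r₂ = ζ`, `a` an involution normalising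
  `GG`, `Z r₁`, `Z r₂`, commuting with `ζ`; if every `p`-element of `GG` commuting with `Z r₁`, `Z r₂` and `aζ` commutes
  with `ζ` then `a` centralises all `X y`, `(y, r₁) > 0`, `(y, r₂) > 0`.
-/

set_option autoImplicit false
set_option linter.unusedSectionVars false

namespace Cfsg.Agent.Cit.BDNorm

open CoxeterSystem Cfsg.Agent.ChevalleyStructure.CoxeterGeom Cfsg.Agent.Tits.Roots Cfsg.Agent.Tits.Core
  Cfsg.Agent.Tits.Exchange Cfsg.Agent.Nodes.Reps Cfsg.Agent.Nodes.BNOf Cfsg.Agent.Nodes.StabComb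
  Cfsg.Agent.Nodes.Bruhat Cfsg.Agent.Nodes.OppDec Cfsg.Agent.Nodes.LeviDec Cfsg.Agent.Nodes.Chart
  Cfsg.Agent.Nodes.ClsNorm
open scoped commutatorElement

variable {I W Y : Type*} [Fintype I] [DecidableEq I] [Group W] [Fintype W] [Group Y] {M : CoxeterMatrix I}
  {cs : CoxeterSystem M W} {A : I → I → ℤ} {h : IsCartan M A} {p : ℕ} {T : Subgroup Y} {n : I → Y}
  {X : (I → ℤ) → Subgroup Y} {R : Set (I → ℤ)} {Z : (I → ℤ) → Subgroup Y} {z : (I → ℤ) → Y}

/-- The radical of `r`. -/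
def Vr (cs : CoxeterSystem M W) (h : IsCartan M A) (X : (I → ℤ) → Subgroup Y) (r : I → ℤ) : Subgroup Y :=
  RGD.Sup X {y | IsRoot cs h y ∧ 0 < form cs h y r}

theorem Vr_le_GG (r : I → ℤ) : Vr cs h X r ≤ GG cs h T X := RGD.Sup_le fun _ hy => X_le_GG hy.1

theorem X_le_Vr {r y : I → ℤ} (hy : IsRoot cs h y) (h0 : 0 < form cs h y r) : X y ≤ Vr cs h X r :=
  RGD.le_Sup (S := {y | IsRoot cs h y ∧ 0 < form cs h y r}) ⟨hy, h0⟩

theorem cj_Vr (R' : RGD cs h p T n X) {w : W} {k : Y} (hk : Rp cs R'.nsys w k) (r : I → ℤ) :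
    cj k (Vr cs h X r) = Vr cs h X (rep cs h w r) := by
  have key : ∀ {w : W} {k : Y} (_ : Rp cs R'.nsys w k) (r : I → ℤ),
      cj k (Vr cs h X r) ≤ Vr cs h X (rep cs h w r) := fun hk r =>
    cj_Sup_le R' hk (fun y hy => hy.1) fun y hy => ⟨hy.1.act _, by rw [form_rep]; exact hy.2⟩
  apply le_antisymm (key hk r)
  have h1 := cj_mono k (key hk.inv (rep cs h w r))
  rwa [cj_cj_inv, rep_inv_apply] at h1

theorem mem_normalizer_cj_iff {k g : Y} {B : Subgroup Y} :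
    k * g * k⁻¹ ∈ Subgroup.normalizer ((cj k B : Subgroup Y) : Set Y) ↔ g ∈ Subgroup.normalizer (B : Set Y) := by
  rw [mem_normalizer_iff_cj, mem_normalizer_iff_cj, ← cj_mul, mul_assoc, inv_mul_cancel, mul_one, cj_mul]
  constructor
  · intro h1
    have h2 := congrArg (cj k⁻¹) h1
    rwa [cj_inv_cj, cj_inv_cj] at h2
  · intro h1
    rw [h1]

section

variable (C : Cls cs h p T n X R Z z)

include C

theorem isPGroup_Vr (r : I → ℤ) : IsPGroup p ↥(Vr cs h X r) := by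
  obtain ⟨w, hw⟩ := exists_dominant (cs := cs) (h := h) r
  obtain ⟨k, hk⟩ := exists_rp cs C.rgd.nsys w
  have h1 : IsPGroup p ↥(cj k (Vr cs h X r)) := by
    rw [cj_Vr C.rgd hk, Vr, ← FrameF2.VJ_orth hw]
    exact C.rgd.isPGroup_Upos.to_le (VJ_le_U _)
  have h2 : cj k⁻¹ (cj k (Vr cs h X r)) = Vr cs h X r := cj_inv_cj _ _
  rw [← h2]
  exact h1.map _

theorem Vr_le_centralizer {r : I → ℤ} (hr : r ∈ R) : Vr cs h X r ≤ Subgroup.centralizer (Z r : Set Y) :=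
  RGD.Sup_le fun _ hy => X_le_centralizer C hr hy.1 hy.2.le

/-- `N(Z r) ∩ GG` normalises `Vr r`. -/
theorem normalizer_le {r : I → ℤ} (hr : r ∈ R) {g : Y} (hg : g ∈ GG cs h T X)
    (hN : g ∈ Subgroup.normalizer (Z r : Set Y)) : g ∈ Subgroup.normalizer (Vr cs h X r : Set Y) := by
  obtain ⟨w, hw⟩ := exists_dominant (cs := cs) (h := h) r
  obtain ⟨k, hk⟩ := exists_rp cs C.rgd.nsys w
  have hkG : k ∈ GG cs h T X := NN_le_GG C.rgd ⟨w, hk⟩
  rw [← mem_normalizer_cj_iff (k := k)] at hN ⊢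
  rw [conj_Z C hk hr] at hN
  rw [cj_Vr C.rgd hk]
  have h1 : k * g * k⁻¹ ∈ PJ cs h T X (orth cs h (rep cs h w r)) := by
    rw [← normalizer_inf_GG C (C.act r hr w) hw]
    exact Subgroup.mem_inf.2 ⟨hN, mul_mem (mul_mem hkG hg) (inv_mem hkG)⟩
  have h2 := PJ_le_normalizer_VJ C.rgd _ h1
  rw [FrameF2.VJ_orth hw] at h2
  exact h2

/-- An element normalising `GG` and `Z r` normalises `Vr r`. -/
theorem mem_normalizer_Vr [Finite Y] [Fact p.Prime] {r : I → ℤ} (hr : r ∈ R) {a : Y}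
    (haG : a ∈ Subgroup.normalizer (GG cs h T X : Set Y)) (haZ : a ∈ Subgroup.normalizer (Z r : Set Y)) :
    a ∈ Subgroup.normalizer (Vr cs h X r : Set Y) := by
  have key : ∀ a : Y, a ∈ Subgroup.normalizer (GG cs h T X : Set Y) → a ∈ Subgroup.normalizer (Z r : Set Y) →
      cj a (Vr cs h X r) ≤ Vr cs h X r := by
    intro a haG haZ
    refine FrameF2.le_of_normalized C.rgd r ((isPGroup_Vr C r).map _) ?_ ?_
    · have h1 := cj_mono a (Vr_le_GG (cs := cs) (h := h) (T := T) (X := X) r)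
      rwa [mem_normalizer_iff_cj.1 haG] at h1
    · intro y hy h0 u hu
      have h1 : a⁻¹ * u * a ∈ GG cs h T X := by
        have h2 := X_le_GG (T := T) hy hu
        rw [← mem_normalizer_iff_cj.1 haG, mem_cj] at h2
        exact h2
      have h2 : u ∈ Subgroup.normalizer (Z r : Set Y) :=
        centralizer_le_normalizer' _ (X_le_centralizer C hr hy h0 hu)
      have h3 : a⁻¹ * u * a ∈ Subgroup.normalizer (Z r : Set Y) := mul_mem (mul_mem (inv_mem haZ) h2) haZ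
      have h4 := normalizer_le C hr h1 h3
      rw [← mem_normalizer_cj_iff (k := a)] at h4
      have h5 : a * (a⁻¹ * u * a) * a⁻¹ = u := by group
      rwa [h5] at h4
  rw [mem_normalizer_iff_cj]
  apply le_antisymm (key a haG haZ)
  have h1 := cj_mono a (key a⁻¹ (inv_mem haG) (inv_mem haZ))
  rwa [cj_cj_inv] at h1

/-- **LEMMA V.** -/
theorem commute_of_cent [Finite Y] [Fact p.Prime] (hp2 : p ≠ 2) {r₁ r₂ : I → ℤ} (hr₁ : r₁ ∈ R) (hr₂ : r₂ ∈ R)
    (horth : form cs h r₁ r₂ = 0) {a ζ : Y} (hz₁ : z r₁ = ζ) (hz₂ : z r₂ = ζ) (ha : a * a = 1)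
    (haζ : a * ζ = ζ * a)
    (haG : a ∈ Subgroup.normalizer (GG cs h T X : Set Y)) (ha₁ : a ∈ Subgroup.normalizer (Z r₁ : Set Y))
    (ha₂ : a ∈ Subgroup.normalizer (Z r₂ : Set Y))
    (hc : ∀ d ∈ GG cs h T X, IsPGroup p (Subgroup.zpowers d) → (∀ u ∈ Z r₁, d * u = u * d) →
      (∀ u ∈ Z r₂, d * u = u * d) → d * (a * ζ) = a * ζ * d → d * ζ = ζ * d)
    {y : I → ℤ} (hy : IsRoot cs h y) (h1 : 0 < form cs h y r₁) (h2 : 0 < form cs h y r₂) :
    ∀ u ∈ X y, a * u = u * a := by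
  have hζ : ζ * ζ = 1 := by rw [← hz₁]; exact C.z_sq r₁ hr₁
  have hζG : ζ ∈ GG cs h T X := by rw [← hz₁]; exact T_le_GG (C.z_torus r₁ hr₁)
  have hζi : ζ⁻¹ = ζ := inv_eq_of_mul_eq_one_left hζ
  set V : Subgroup Y := Vr cs h X r₁ ⊓ Vr cs h X r₂ with hV
  have hVp : IsPGroup p V := (isPGroup_Vr C r₁).to_le inf_le_left
  have haV : a ∈ Subgroup.normalizer (V : Set Y) := by
    have e1 := mem_normalizer_iff_cj.1 (mem_normalizer_Vr C hr₁ haG ha₁)
    have e2 := mem_normalizer_iff_cj.1 (mem_normalizer_Vr C hr₂ haG ha₂)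
    rw [mem_normalizer_iff_cj]
    have e3 : cj a V = cj a (Vr cs h X r₁) ⊓ cj a (Vr cs h X r₂) := Subgroup.map_inf _ _ _ (MulAut.conj a).injective
    rw [e3, e1, e2]
  have hζN : ∀ r ∈ R, ζ ∈ Subgroup.normalizer (Vr cs h X r : Set Y) := fun r hr =>
    normalizer_le C hr hζG (T_le_normalizer C hr (by rw [← hz₁]; exact C.z_torus r₁ hr₁))
  have hζV : ζ ∈ Subgroup.normalizer (V : Set Y) := by
    have e1 := mem_normalizer_iff_cj.1 (hζN r₁ hr₁)
    have e2 := mem_normalizer_iff_cj.1 (hζN r₂ hr₂)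
    rw [mem_normalizer_iff_cj]
    have e3 : cj ζ V = cj ζ (Vr cs h X r₁) ⊓ cj ζ (Vr cs h X r₂) := Subgroup.map_inf _ _ _ (MulAut.conj ζ).injective
    rw [e3, e1, e2]
  set S : Set Y := {s | ∃ v ∈ V, s = ⁅v, ζ⁆} with hS
  have hSV : Subgroup.closure S ≤ V := by
    rw [Subgroup.closure_le]
    rintro _ ⟨v, hv, rfl⟩
    rw [SetLike.mem_coe, commutatorElement_def]
    have e : v * ζ * v⁻¹ * ζ⁻¹ = v * (ζ * v⁻¹ * ζ⁻¹) := by group
    rw [e]
    exact mul_mem hv ((Subgroup.mem_normalizer_iff.1 hζV _).1 (inv_mem hv))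
  have hnorm : ∀ g : Y, g ∈ Subgroup.normalizer (V : Set Y) → g * ζ = ζ * g →
      g ∈ Subgroup.normalizer (Subgroup.closure S : Set Y) := by
    have key : ∀ g : Y, g ∈ Subgroup.normalizer (V : Set Y) → g * ζ = ζ * g →
        cj g (Subgroup.closure S) ≤ Subgroup.closure S := by
      intro g hg hgζ
      unfold cj
      rw [MonoidHom.map_closure, Subgroup.closure_le]
      rintro _ ⟨_, ⟨v, hv, rfl⟩, rfl⟩
      refine Subgroup.subset_closure ⟨g * v * g⁻¹, (Subgroup.mem_normalizer_iff.1 hg v).1 hv, ?_⟩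
      change g * ⁅v, ζ⁆ * g⁻¹ = ⁅g * v * g⁻¹, ζ⁆
      have e1 : g * ζ * g⁻¹ = ζ := by rw [hgζ]; group
      rw [commutatorElement_def, commutatorElement_def]
      calc g * (v * ζ * v⁻¹ * ζ⁻¹) * g⁻¹
          = (g * v * g⁻¹) * (g * ζ * g⁻¹) * (g * v * g⁻¹)⁻¹ * (g * ζ * g⁻¹)⁻¹ := by group
        _ = _ := by rw [e1]
    intro g hg hgζ
    rw [mem_normalizer_iff_cj]
    apply le_antisymm (key g hg hgζ)
    have h3 := cj_mono g (key g⁻¹ (inv_mem hg) (by
      have h4 : g⁻¹ * (g * ζ) * g⁻¹ = g⁻¹ * (ζ * g) * g⁻¹ := by rw [hgζ]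
      have h5 : g⁻¹ * (g * ζ) * g⁻¹ = ζ * g⁻¹ := by group
      have h6 : g⁻¹ * (ζ * g) * g⁻¹ = g⁻¹ * ζ := by group
      rw [← h5, ← h6, h4]))
    rwa [cj_cj_inv] at h3
  have hmain := BDGroup.lemmaV hp2 (D := Subgroup.closure S) (hVp.to_le hSV) ha hζ haζ (hnorm a haV haζ)
    (hnorm ζ hζV rfl) rfl (by
      rintro _ ⟨v, -, rfl⟩
      rw [commutatorElement_def, hζi]
      have hzz : ∀ a, ζ * (ζ * a) = a := fun a => by rw [← mul_assoc, hζ, one_mul]
      simp only [mul_inv_rev, inv_inv, hζi, mul_assoc]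
      rw [hζ, mul_one]) (by
      intro d hd hda
      have hdV := hSV hd
      refine hc d (Vr_le_GG _ (Subgroup.mem_inf.1 hdV).1) ?_ ?_ ?_ hda
      · exact hVp.to_le ((Subgroup.zpowers_le).2 hdV)
      · intro u hu
        have h3 := Vr_le_centralizer C hr₁ (Subgroup.mem_inf.1 hdV).1
        exact (Subgroup.mem_centralizer_iff.1 h3 u hu).symm
      · intro u hu
        have h3 := Vr_le_centralizer C hr₂ (Subgroup.mem_inf.1 hdV).2
        exact (Subgroup.mem_centralizer_iff.1 h3 u hu).symm)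
  intro u hu
  have hne₁ : y ≠ r₁ := by rintro rfl; omega
  have hne₂ : y ≠ -r₁ := by
    rintro rfl
    rw [form_neg_left] at h1
    have := form_nonneg cs h r₁
    omega
  have hinv : ζ * u * ζ = u⁻¹ := by
    rw [← hz₁]
    exact C.z_inv r₁ hr₁ y hy hne₁ hne₂ h1.ne' u hu
  have huV : u ∈ V := Subgroup.mem_inf.2 ⟨X_le_Vr hy h1 hu, X_le_Vr hy h2 hu⟩
  have hodd : Odd (orderOf u) := by
    obtain ⟨k, hk⟩ := C.rgd.pgrp' hy ⟨u, hu⟩
    have hk' : u ^ p ^ k = 1 := by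
      have := congrArg Subtype.val hk
      simpa using this
    exact (((Fact.out : p.Prime).odd_of_ne_two hp2).pow (n := k)).of_dvd_nat (orderOf_dvd_of_pow_eq_one hk')
  have huS : u ∈ Subgroup.closure S := by
    refine FrameF2.mem_of_comm hζ hodd ?_ (Subgroup.subset_closure ⟨u, huV, rfl⟩)
    rw [hinv, inv_mul_cancel]
    exact one_mem _
  exact hmain u huS

end

end Cfsg.Agent.Cit.BDNorm
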