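import Mathlib
import Cfsg.Agent.Cit.BDNorm
import Cfsg.Agent.Nodes.ZFam

/-!
# The core of the identification of types `B_n`, `²D_{n+1}`, `D_n` (project CIT)

`C` : classical root groups of `E` (= `GG cs h T X`); `D` : classical root groups of a second group, four nodes
`α - β - γ, δ` (type `D_4`), `Z_D (±γ) = Z (±g)`, `Z_D (±δ) = Z (±d)`, `z g = z d = ζ`; `K_α` centralises `E`,
`z_β` normalises `E`. Result: `K_β` centralises all root groups `X (± sr j)`, `j ≠ j₀`.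
-/

set_option autoImplicit false
set_option linter.unusedSectionVars false

namespace Cfsg.Agent.Cit.BDCore

open CoxeterSystem Cfsg.Agent.ChevalleyStructure.CoxeterGeom Cfsg.Agent.Tits.Roots Cfsg.Agent.Tits.Core
  Cfsg.Agent.Tits.Exchange Cfsg.Agent.Nodes.Reps Cfsg.Agent.Nodes.BNOf Cfsg.Agent.Nodes.StabComb
  Cfsg.Agent.Nodes.Bruhat Cfsg.Agent.Nodes.OppDec Cfsg.Agent.Nodes.LeviDec Cfsg.Agent.Nodes.Chart
  Cfsg.Agent.Nodes.ClsNorm Cfsg.Agent.Cit.BDNorm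
open scoped commutatorElement

section General

variable {I W Y : Type*} [Fintype I] [DecidableEq I] [Group W] [Group Y] {M : CoxeterMatrix I}
  {cs : CoxeterSystem M W} {A : I → I → ℤ} {h : IsCartan M A} {p : ℕ} {T : Subgroup Y} {n : I → Y}
  {X : (I → ℤ) → Subgroup Y}

/-- A representative of the simple reflection in `⟨X α_i, X (-α_i)⟩`. -/
theorem exists_m (R : RGD cs h p T n X) (i : I) :
    ∃ m ∈ X (sr i) ⊔ X (-sr i), Rp cs R.nsys (cs.simple i) m := by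
  obtain ⟨u, hu, hu1⟩ : ∃ u ∈ X (-sr i), u ≠ 1 := by
    obtain ⟨a, ha⟩ := Subgroup.ne_bot_iff_exists_ne_one.1 (X_ne_bot R (isRoot_sr cs h i).neg)
    exact ⟨a, a.2, fun h => ha (Subtype.ext h)⟩
  obtain ⟨a, ha, t, ht, b, hb, e⟩ := R.rk1 i u hu hu1
  refine ⟨t * n i, ?_, ?_⟩
  · have e2 : t * n i = a⁻¹ * u * b⁻¹ := by rw [e]; group
    rw [e2]
    exact mul_mem (mul_mem (inv_mem (Subgroup.mem_sup_left ha)) (Subgroup.mem_sup_right hu))
      (inv_mem (Subgroup.mem_sup_left hb))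
  · have h1 := (rp_of_mem (cs := cs) (hN := R.nsys) ht).mul (rp_simple cs R.nsys i)
    rwa [one_mul] at h1

theorem rep_simple_sr_of {i j : I} (hA : A i j = -1) : rep cs h (cs.simple i) (sr j) = sr j + sr i := by
  rw [rep_simple_eq, sr, sr, pairing_single, hA]
  simp only [mul_one, neg_smul, one_smul, sub_neg_eq_add]

theorem rep_simple_sr_of_zero {i j : I} (hA : A i j = 0) : rep cs h (cs.simple i) (sr j) = sr j := by
  rw [rep_simple_eq, sr, pairing_single, hA]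
  simp only [zero_mul, zero_smul, sub_zero]

theorem commute_conj {g x : Y} {P Q : Subgroup Y} (hg : cj g P = Q) (hxg : x * g = g * x)
    (hP : ∀ u ∈ P, x * u = u * x) : ∀ u ∈ Q, x * u = u * x := by
  intro u hu
  rw [← hg] at hu
  obtain ⟨v, hv, rfl⟩ := hu
  change x * (g * v * g⁻¹) = g * v * g⁻¹ * x
  have h1 : g ∈ Subgroup.centralizer {x} := Subgroup.mem_centralizer_singleton_iff.2 hxg.symm
  have h2 : v ∈ Subgroup.centralizer {x} := Subgroup.mem_centralizer_singleton_iff.2 (hP v hv).symm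
  have h3 : g * v * g⁻¹ ∈ Subgroup.centralizer {x} := mul_mem (mul_mem h1 h2) (inv_mem h1)
  exact (Subgroup.mem_centralizer_singleton_iff.1 h3).symm

theorem commute_sup {x : Y} {P Q : Subgroup Y} (hP : ∀ u ∈ P, x * u = u * x) (hQ : ∀ u ∈ Q, x * u = u * x) :
    ∀ u ∈ P ⊔ Q, x * u = u * x := by
  intro u hu
  have h3 : P ⊔ Q ≤ Subgroup.centralizer {x} :=
    sup_le (fun a ha => Subgroup.mem_centralizer_singleton_iff.2 (hP a ha).symm)
      (fun a ha => Subgroup.mem_centralizer_singleton_iff.2 (hQ a ha).symm)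
  exact (Subgroup.mem_centralizer_singleton_iff.1 (h3 hu)).symm

theorem commute_inv_conj {g x y : Y} (h : x * (g * y * g⁻¹) = g * y * g⁻¹ * x) :
    g⁻¹ * x * g * y = y * (g⁻¹ * x * g) := by
  have h1 : g⁻¹ * (x * (g * y * g⁻¹)) * g = g⁻¹ * (g * y * g⁻¹ * x) * g := by rw [h]
  have h2 : g⁻¹ * (x * (g * y * g⁻¹)) * g = g⁻¹ * x * g * y := by group
  have h3 : g⁻¹ * (g * y * g⁻¹ * x) * g = y * (g⁻¹ * x * g) := by group
  rw [← h2, ← h3, h1]

theorem isPGroup_zpowers_conj {x g : Y} (hx : IsPGroup p (Subgroup.zpowers x)) :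
    IsPGroup p (Subgroup.zpowers (g⁻¹ * x * g)) := by
  have h1 : Subgroup.zpowers (g⁻¹ * x * g) = (Subgroup.zpowers x).map (MulAut.conj g⁻¹).toMonoidHom := by
    rw [MonoidHom.map_zpowers]
    congr 1
    change g⁻¹ * x * g = g⁻¹ * x * g⁻¹⁻¹
    rw [inv_inv]
  rw [h1]
  exact hx.map _

theorem odd_orderOf {u : Y} (hp : p.Prime) (hp2 : p ≠ 2) {P : Subgroup Y} (hP : IsPGroup p P) (hu : u ∈ P) :
    Odd (orderOf u) := by
  obtain ⟨k, hk⟩ := hP ⟨u, hu⟩
  have hk' : u ^ p ^ k = 1 := by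
    have := congrArg Subtype.val hk
    simpa using this
  exact ((hp.odd_of_ne_two hp2).pow (n := k)).of_dvd_nat (orderOf_dvd_of_pow_eq_one hk')

theorem eq_one_of_odd {u : Y} (hu : Odd (orderOf u)) (h2 : u * u = 1) : u = 1 := by
  have h3 : orderOf u ∣ 2 := orderOf_dvd_of_pow_eq_one (by rw [pow_two, h2])
  rcases (Nat.dvd_prime Nat.prime_two).1 h3 with h4 | h4
  · exact orderOf_eq_one_iff.1 h4
  · rw [h4] at hu
    exact absurd hu (by decide)

end General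

universe u

variable {G : Type u} [Group G]
  {I W : Type*} [Fintype I] [DecidableEq I] [Group W] [Fintype W] {M : CoxeterMatrix I}
  (cs : CoxeterSystem M W) {A : I → I → ℤ} (h : IsCartan M A) (p : ℕ) (T : Subgroup G) (n : I → G)
  (X : (I → ℤ) → Subgroup G) (R : Set (I → ℤ)) (Z : (I → ℤ) → Subgroup G) (z : (I → ℤ) → G)
  {J V : Type*} [Fintype J] [DecidableEq J] [Group V] [Fintype V] {MD : CoxeterMatrix J}
  (cd : CoxeterSystem MD V) {AD : J → J → ℤ} (hd : IsCartan MD AD) (TD : Subgroup G) (nD : J → G)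
  (XD : (J → ℤ) → Subgroup G) (RD : Set (J → ℤ)) (ZD : (J → ℤ) → Subgroup G) (zD : (J → ℤ) → G)

/-- The hypotheses. -/
structure Core (g d : I → ℤ) (α β γ δ : J) (ζ : G) : Prop where
  prime : p.Prime
  odd : p ≠ 2
  C : Cls cs h p T n X R Z z
  D : Cls cd hd p TD nD XD RD ZD zD
  -- the two orthogonal roots of `E`
  g_mem : g ∈ R
  d_mem : d ∈ R
  orth : form cs h g d = 0
  z_g : z g = ζ
  z_d : z d = ζ
  -- the diagram of `D`
  aαβ : AD α β = -1
  aβα : AD β α = -1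
  aβγ : AD β γ = -1
  aγβ : AD γ β = -1
  aβδ : AD β δ = -1
  aδβ : AD δ β = -1
  aγδ : AD γ δ = 0
  aδγ : AD δ γ = 0
  mαβ : MD α β = 3
  ne : γ ≠ δ
  rβ : sr β ∈ RD
  rγ : sr γ ∈ RD
  rδ : sr δ ∈ RD
  rα : sr α ∈ RD
  ZX : ∀ r ∈ RD, ZD r = XD r
  -- matching
  Zg : ZD (sr γ) = Z g
  Zg' : ZD (-sr γ) = Z (-g)
  Zd : ZD (sr δ) = Z d
  Zd' : ZD (-sr δ) = Z (-d)
  zγ : zD (sr γ) = ζ
  zδ : zD (sr δ) = ζ
  -- `K_γ` has only one involution
  uniq : ∀ u ∈ XD (sr γ) ⊔ XD (-sr γ), u * u = 1 → u = 1 ∨ u = ζ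
  uniq' : ∀ u ∈ XD (sr δ) ⊔ XD (-sr δ), u * u = 1 → u = 1 ∨ u = ζ
  -- two distinct root groups generate `K_β`
  gen : ∀ P, P = XD (sr β) ∨ P = XD (-sr β) → ∀ x ∈ Subgroup.normalizer ((XD (sr β) ⊔ XD (-sr β) : Subgroup G) : Set G),
    cj x P ≠ P → P ⊔ cj x P = XD (sr β) ⊔ XD (-sr β)
  -- twins
  tw : ∀ x ∈ GG cs h T X, IsPGroup p (Subgroup.zpowers x) → x * zD (sr β) = zD (sr β) * x →
    x ∈ Subgroup.normalizer ((XD (sr β) ⊔ XD (-sr β) : Subgroup G) : Set G)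
  -- `K_α` centralises `E`, `z_β` normalises `E`
  cent : ∀ x ∈ GG cs h T X, ∀ u ∈ XD (sr α) ⊔ XD (-sr α), x * u = u * x
  norm : zD (sr β) ∈ Subgroup.normalizer (GG cs h T X : Set G)

namespace Core

variable {cs h p T n X R Z z cd hd TD nD XD RD ZD zD}
  {g d : I → ℤ} {α β γ δ : J} {ζ : G}
  (H : Core cs h p T n X R Z z cd hd TD nD XD RD ZD zD g d α β γ δ ζ)

include H

theorem αβ : α ≠ β := by
  rintro rfl
  have h1 := H.aαβ
  rw [hd.diag] at h1
  omega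

theorem pd : RootAmalgam.PairData 3 (XD (sr α)) (XD (-sr α)) (XD (sr β)) (XD (-sr β))
    (fun k => XD (Nodes.ZFam.cyc cd hd α β k)) := by
  have h1 := Nodes.ZFam.pairData H.D.rgd H.αβ
  rwa [H.mαβ] at h1

/-- A `p`-element of `E` commuting with `z_β` centralises `K_β`. -/
theorem central [Finite G] {x : G} (hx : x ∈ GG cs h T X) (hxp : IsPGroup p (Subgroup.zpowers x))
    (hxz : x * zD (sr β) = zD (sr β) * x) : ∀ u ∈ XD (sr β) ⊔ XD (-sr β), x * u = u * x := by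
  have := Fact.mk H.prime
  have hN := H.tw x hx hxp hxz
  have hα : ∀ u ∈ XD (sr α), x * u = u * x := fun u hu => H.cent x hx u (Subgroup.mem_sup_left hu)
  have hα' : ∀ u ∈ XD (-sr α), x * u = u * x := fun u hu => H.cent x hx u (Subgroup.mem_sup_right hu)
  have hsβ : rep cd hd (cd.simple β) (sr α) = sr α + sr β := rep_simple_sr_of H.aβα
  have hform : form cd hd (sr β) (sr α) ≤ 0 := by
    have h1 := two_form cd hd β (sr α)
    rw [sr, pairing_single, H.aβα] at h1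
    have h2 := form_pos cd hd (sr_ne_zero β)
    rw [form_comm]
    change 2 * form cd hd (sr α) (sr β) = _ at h1
    nlinarith
  obtain ⟨m, hm, hmr⟩ := exists_m H.D.rgd β
  -- `x` normalises `X_β`
  have key : ∀ (s : J → ℤ) (r : J → ℤ), (s = sr β ∨ s = -sr β) → (r = sr α ∨ r = -sr α) → 0 ≤ form cd hd s r →
      x ∈ Subgroup.normalizer (XD s : Set G) := by
    intro s r hs hr h0
    by_contra hcon
    rw [mem_normalizer_iff_cj] at hcon
    have hsroot : IsRoot cd hd s := by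
      rcases hs with rfl | rfl
      · exact isRoot_sr cd hd β
      · exact (isRoot_sr cd hd β).neg
    have hrR : r ∈ RD := by
      rcases hr with rfl | rfl
      · exact H.rα
      · exact neg_mem H.D H.rα
    have hrroot := H.D.root r hrR
    have hxr : ∀ u ∈ XD r, x * u = u * x := by
      rcases hr with rfl | rfl
      · exact hα
      · exact hα'
    have h1 := H.gen (XD s) (by rcases hs with rfl | rfl <;> simp) x hN hcon
    have h2 : ∀ u ∈ XD s, ∀ b ∈ XD r, u * b = b * u := by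
      intro u hu b hb
      rw [← H.ZX r hrR] at hb
      exact H.D.cent r hrR s hsroot h0 u hu b hb
    have h3 : XD (sr β) ⊔ XD (-sr β) ≤ Subgroup.centralizer (XD r : Set G) := by
      rw [← h1]
      refine sup_le (fun u hu => ?_) ?_
      · rw [Subgroup.mem_centralizer_iff]
        exact fun b hb => (h2 u hu b hb).symm
      · rintro _ ⟨u, hu, rfl⟩
        change x * u * x⁻¹ ∈ _
        rw [Subgroup.mem_centralizer_iff]
        intro b hb
        have h4 := hxr b hb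
        have h5 := h2 u hu b hb
        calc b * (x * u * x⁻¹) = (b * x) * u * x⁻¹ := by group
          _ = x * (b * u) * x⁻¹ := by rw [← h4]; group
          _ = x * u * (b * x⁻¹) := by rw [← h5]; group
          _ = x * u * (x⁻¹ * (x * b) * x⁻¹) := by group
          _ = x * u * x⁻¹ * b := by rw [h4]; group
    have h4 : cj m (XD r) = XD r := by
      have h5 := centralizer_le_normalizer' _ (h3 hm)
      exact mem_normalizer_iff_cj.1 h5
    have h5 : cj m (XD r) = XD (rep cd hd (cd.simple β) r) := H.D.rgd.conj_rp hmr hrroot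
    have h6 : rep cd hd (cd.simple β) r = r := X_injective H.D.rgd (hrroot.act _) hrroot (by rw [← h5, h4])
    rcases hr with rfl | rfl
    · rw [hsβ] at h6
      exact sr_ne_zero β (add_eq_left.1 h6)
    · rw [map_neg, hsβ] at h6
      exact sr_ne_zero β (add_eq_left.1 (neg_injective h6))
  have hn1 := key (sr β) (-sr α) (Or.inl rfl) (Or.inr rfl) (by rw [form_neg_right]; omega)
  have hn2 := key (-sr β) (sr α) (Or.inr rfl) (Or.inl rfl) (by rw [form_neg_left]; omega)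
  have h12 : XD (Nodes.ZFam.cyc cd hd α β 1) ⊓ XD (Nodes.ZFam.cyc cd hd α β 2) = ⊥ := by
    refine X_inf_X H.D.rgd (Nodes.ZFam.isRoot_cyc cd hd α β 1) (Nodes.ZFam.isRoot_cyc cd hd α β 2) ?_
    rw [Nodes.ZFam.cyc_two, Nodes.ZFam.cyc_one, Nodes.ZFam.cyc_zero, H.aαβ]
    intro h1
    have h2 : (sr β : J → ℤ) = 0 := by
      have h3 : (-(-1) : ℤ) • (sr α : J → ℤ) - -sr β = sr α + sr β := by module
      rw [h3] at h1
      exact (left_eq_add.1 h1)
    exact sr_ne_zero β h2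
  have h1 := BDGroup.f6 H.pd h12 (H.D.rgd.pgrp β) (H.D.rgd.pgrp' (isRoot_sr cd hd β).neg)
    (X_ne_bot H.D.rgd (isRoot_sr cd hd β)) (X_ne_bot H.D.rgd (isRoot_sr cd hd β).neg)
    (X_ne_bot H.D.rgd (isRoot_sr cd hd α).neg) hxp hα hα' hn1 hn2
  exact commute_sup h1.1 h1.2

theorem Kγ_le : XD (sr γ) ⊔ XD (-sr γ) ≤ GG cs h T X := by
  rw [← H.ZX _ H.rγ, ← H.ZX _ (neg_mem H.D H.rγ), H.Zg, H.Zg']
  have h1 := neg_mem H.C H.g_mem
  exact sup_le (le_trans (H.C.le _ H.g_mem) (X_le_GG (H.C.root _ H.g_mem)))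
    (le_trans (H.C.le _ h1) (X_le_GG (H.C.root _ h1)))

theorem Kδ_le : XD (sr δ) ⊔ XD (-sr δ) ≤ GG cs h T X := by
  rw [← H.ZX _ H.rδ, ← H.ZX _ (neg_mem H.D H.rδ), H.Zd, H.Zd']
  have h1 := neg_mem H.C H.d_mem
  exact sup_le (le_trans (H.C.le _ H.d_mem) (X_le_GG (H.C.root _ H.d_mem)))
    (le_trans (H.C.le _ h1) (X_le_GG (H.C.root _ h1)))

/-- `m z_β m⁻¹ = z_β ζ` for `m ∈ K_η` over the reflection `s_η`, `η = γ, δ`. -/
theorem conj_zβ {η : J} (h1 : AD β η = -1) (h2 : AD η β = -1)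
    (hu : ∀ u ∈ XD (sr η) ⊔ XD (-sr η), u * u = 1 → u = 1 ∨ u = ζ) {m : G} (hm : m ∈ XD (sr η) ⊔ XD (-sr η))
    (hmr : Rp cd H.D.rgd.nsys (cd.simple η) m) : m * zD (sr β) * m⁻¹ = zD (sr β) * ζ := by
  have hβη : β ≠ η := by
    rintro rfl
    rw [hd.diag] at h1
    omega
  set zb : G := zD (sr β) with hzb
  have hzb2 : zb * zb = 1 := H.D.z_sq _ H.rβ
  have hzbi : zb⁻¹ = zb := inv_eq_of_mul_eq_one_left hzb2
  have hzbT : zb ∈ TD := H.D.z_torus _ H.rβ
  have hr : rep cd hd (cd.simple η) (sr β) = sr β + sr η := rep_simple_sr_of h2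
  have hrR : sr β + sr η ∈ RD := by rw [← hr]; exact H.D.act _ H.rβ _
  have e1 : m * zb * m⁻¹ = zD (sr β + sr η) := by rw [hzb, conj_z H.D hmr H.rβ, hr]
  set zb' : G := zD (sr β + sr η) with hzb'
  have hzb'T : zb' ∈ TD := H.D.z_torus _ hrR
  have hzb'2 : zb' * zb' = 1 := H.D.z_sq _ hrR
  have hc : zb * zb' = zb' * zb := H.D.z_T _ H.rβ _ hzb'T
  -- `zb * zb' ∈ K_η`
  have hmem : zb * zb' ∈ XD (sr η) ⊔ XD (-sr η) := by
    rw [← e1]
    have e2 : zb * (m * zb * m⁻¹) = (zb * m * zb⁻¹) * m⁻¹ := by rw [hzbi]; group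
    rw [e2]
    refine mul_mem ?_ (inv_mem hm)
    have e3 : cj zb (XD (sr η) ⊔ XD (-sr η)) = XD (sr η) ⊔ XD (-sr η) := by
      rw [cj_sup, H.D.rgd.tor _ (isRoot_sr cd hd η) _ hzbT, H.D.rgd.tor _ (isRoot_sr cd hd η).neg _ hzbT]
    rw [← e3]
    exact conj_mem_cj.2 hm
  have hsq : zb * zb' * (zb * zb') = 1 := by
    calc zb * zb' * (zb * zb') = zb * (zb' * zb) * zb' := by group
      _ = zb * (zb * zb') * zb' := by rw [hc]
      _ = (zb * zb) * (zb' * zb') := by group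
      _ = 1 := by rw [hzb2, hzb'2, one_mul]
  rcases hu _ hmem hsq with h3 | h3
  · exfalso
    have h4 : zb' = zb := by
      rw [← hzbi]; exact (inv_eq_of_mul_eq_one_right h3).symm
    obtain ⟨v, hv, hv1⟩ : ∃ v ∈ XD (sr β), v ≠ 1 := by
      obtain ⟨a, ha⟩ := Subgroup.ne_bot_iff_exists_ne_one.1 (X_ne_bot H.D.rgd (isRoot_sr cd hd β))
      exact ⟨a, a.2, fun h => ha (Subtype.ext h)⟩
    have h5 : zb * v = v * zb := H.D.z_cent _ H.rβ v (by rw [H.ZX _ H.rβ]; exact hv)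
    have hF := form_pos cd hd (sr_ne_zero β)
    have h6 := two_form cd hd β (sr η)
    rw [sr, pairing_single, h1] at h6
    change 2 * form cd hd (sr η) (sr β) = _ * form cd hd (sr β) (sr β) at h6
    have h7 : form cd hd (sr β) (sr β + sr η) ≠ 0 := by
      rw [form_add_right, form_comm cd hd (sr β) (sr η)]
      intro h8
      omega
    have h8 := H.D.z_inv _ hrR (sr β) (isRoot_sr cd hd β) (by
      intro h9
      exact sr_ne_zero η (left_eq_add.1 h9)) (by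
      intro h9
      have h10 := congrFun h9 β
      rw [Pi.neg_apply, Pi.add_apply, sr_self, sr_ne hβη] at h10
      omega) h7 v hv
    rw [← hzb', h4] at h8
    have h9 : v = v⁻¹ := by
      rw [← h8, h5]
      rw [mul_assoc, hzb2, mul_one]
    apply hv1
    refine eq_one_of_odd (odd_orderOf H.prime H.odd (H.D.rgd.pgrp β) hv) ?_
    nth_rw 1 [h9]
    rw [inv_mul_cancel]
  · rw [e1, ← h3, ← mul_assoc, hzb2, one_mul]

/-- A `p`-element `x` of `E` commuting with `z_β ζ` commutes with `m m_β m⁻¹`, `m ∈ K_η` over `s_η`. -/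
theorem commute_m [Finite G] {η : J} (h1 : AD β η = -1) (h2 : AD η β = -1)
    (hu : ∀ u ∈ XD (sr η) ⊔ XD (-sr η), u * u = 1 → u = 1 ∨ u = ζ) (hle : XD (sr η) ⊔ XD (-sr η) ≤ GG cs h T X)
    {m : G} (hm : m ∈ XD (sr η) ⊔ XD (-sr η))
    (hmr : Rp cd H.D.rgd.nsys (cd.simple η) m) {k : G} (hk : k ∈ XD (sr β) ⊔ XD (-sr β)) {x : G}
    (hx : x ∈ GG cs h T X) (hxp : IsPGroup p (Subgroup.zpowers x))
    (hxz : x * (zD (sr β) * ζ) = zD (sr β) * ζ * x) : x * (m * k * m⁻¹) = m * k * m⁻¹ * x := by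
  have h3 := H.conj_zβ h1 h2 hu hm hmr
  rw [← h3] at hxz
  have h4 := commute_inv_conj hxz
  have h5 : m⁻¹ * x * m ∈ GG cs h T X := mul_mem (mul_mem (inv_mem (hle hm)) hx) (hle hm)
  have h6 := H.central h5 (isPGroup_zpowers_conj hxp) h4 k hk
  have h7 : m * (m⁻¹ * x * m * k) * m⁻¹ = m * (k * (m⁻¹ * x * m)) * m⁻¹ := by rw [h6]
  have e1 : m * (m⁻¹ * x * m * k) * m⁻¹ = x * (m * k * m⁻¹) := by group
  have e2 : m * (k * (m⁻¹ * x * m)) * m⁻¹ = m * k * m⁻¹ * x := by group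
  rw [← e1, ← e2, h7]

/-- The element `n_{β+γ} n_{β+δ}` swaps `γ` and `δ`. -/
theorem exists_swap [Finite G] : ∃ k : G, cj k (XD (sr δ)) = XD (sr γ) ∧ cj k (XD (-sr δ)) = XD (-sr γ) ∧
    cj k (XD (sr γ)) = XD (sr δ) ∧ cj k (XD (-sr γ)) = XD (-sr δ) ∧
    ∀ x ∈ GG cs h T X, IsPGroup p (Subgroup.zpowers x) → x * (zD (sr β) * ζ) = zD (sr β) * ζ * x →
      x * k = k * x := by
  obtain ⟨mβ, hmβ, hβr⟩ := exists_m H.D.rgd β
  obtain ⟨mγ, hmγ, hγr⟩ := exists_m H.D.rgd γ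
  obtain ⟨mδ, hmδ, hδr⟩ := exists_m H.D.rgd δ
  have hr : Rp cd H.D.rgd.nsys ((cd.simple γ * cd.simple β * (cd.simple γ)⁻¹) *
      (cd.simple δ * cd.simple β * (cd.simple δ)⁻¹)) ((mγ * mβ * mγ⁻¹) * (mδ * mβ * mδ⁻¹)) :=
    ((hγr.mul hβr).mul hγr.inv).mul ((hδr.mul hβr).mul hδr.inv)
  have a1 : rep cd hd (cd.simple γ) (sr β) = sr β + sr γ := rep_simple_sr_of H.aγβ
  have a2 : rep cd hd (cd.simple γ) (sr γ) = -sr γ := rep_simple_sr cd hd γ
  have a3 : rep cd hd (cd.simple γ) (sr δ) = sr δ := rep_simple_sr_of_zero H.aγδ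
  have b1 : rep cd hd (cd.simple δ) (sr β) = sr β + sr δ := rep_simple_sr_of H.aδβ
  have b2 : rep cd hd (cd.simple δ) (sr δ) = -sr δ := rep_simple_sr cd hd δ
  have b3 : rep cd hd (cd.simple δ) (sr γ) = sr γ := rep_simple_sr_of_zero H.aδγ
  have c1 : rep cd hd (cd.simple β) (sr γ) = sr γ + sr β := rep_simple_sr_of H.aβγ
  have c2 : rep cd hd (cd.simple β) (sr δ) = sr δ + sr β := rep_simple_sr_of H.aβδ
  have c3 : rep cd hd (cd.simple β) (sr β) = -sr β := rep_simple_sr cd hd β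
  have e1 : rep cd hd ((cd.simple γ * cd.simple β * (cd.simple γ)⁻¹) *
      (cd.simple δ * cd.simple β * (cd.simple δ)⁻¹)) (sr δ) = sr γ := by
    simp only [inv_simple, rep_mul_apply, a1, a2, a3, b1, b2, c1, c2, c3, map_add, map_neg]
    abel_nf
  have e2 : rep cd hd ((cd.simple γ * cd.simple β * (cd.simple γ)⁻¹) *
      (cd.simple δ * cd.simple β * (cd.simple δ)⁻¹)) (sr γ) = sr δ := by
    simp only [inv_simple, rep_mul_apply, a1, a2, a3, b1, b3, c1, c2, c3, map_add, map_neg]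
    abel_nf
  have hγ := isRoot_sr cd hd γ
  have hδ := isRoot_sr cd hd δ
  refine ⟨(mγ * mβ * mγ⁻¹) * (mδ * mβ * mδ⁻¹), ?_, ?_, ?_, ?_, ?_⟩
  · rw [H.D.rgd.conj_rp hr hδ, e1]
  · rw [H.D.rgd.conj_rp hr hδ.neg, map_neg, e1]
  · rw [H.D.rgd.conj_rp hr hγ, e2]
  · rw [H.D.rgd.conj_rp hr hγ.neg, map_neg, e2]
  · intro x hx hxp hxz
    have h1 := H.commute_m H.aβγ H.aγβ H.uniq H.Kγ_le hmγ hγr hmβ hx hxp hxz
    have h2 := H.commute_m H.aβδ H.aδβ H.uniq' H.Kδ_le hmδ hδr hmβ hx hxp hxz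
    generalize mγ * mβ * mγ⁻¹ = s at h1
    generalize mδ * mβ * mδ⁻¹ = t at h2
    calc x * (s * t) = (x * s) * t := by group
      _ = s * (x * t) := by rw [h1]; group
      _ = s * t * x := by rw [h2]; group

theorem ζ_mem : ζ ∈ Z g ⊔ Z (-g) := by rw [← H.z_g]; exact H.C.z_mem _ H.g_mem

theorem ζ_mem' : ζ ∈ Z d ⊔ Z (-d) := by rw [← H.z_d]; exact H.C.z_mem _ H.d_mem

theorem zβ_normalizes {r : J → ℤ} (hr : r ∈ RD) : zD (sr β) ∈ Subgroup.normalizer (ZD r : Set G) :=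
  T_le_normalizer H.D hr (H.D.z_torus _ H.rβ)

theorem zβ_comm : zD (sr β) * ζ = ζ * zD (sr β) := by
  rw [← H.zγ]
  exact H.D.z_T _ H.rβ _ (H.D.z_torus _ H.rγ)

/-- `z_β` centralises the root groups `X y`, `(y, d) > 0`, `(y, g) < 0`. -/
theorem commute_pos [Finite G] {y : I → ℤ} (hy : IsRoot cs h y) (h1 : 0 < form cs h y d) (h2 : form cs h y g < 0) :
    ∀ u ∈ X y, zD (sr β) * u = u * zD (sr β) := by
  have := Fact.mk H.prime
  obtain ⟨k, k1, k2, k3, k4, k5⟩ := H.exists_swap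
  have hg' := neg_mem H.C H.g_mem
  refine commute_of_cent H.C H.odd (ζ := ζ) H.d_mem hg' ?_ H.z_d ?_ (H.D.z_sq _ H.rβ) H.zβ_comm H.norm
    ?_ ?_ ?_ hy h1 ?_
  · rw [form_neg_right, form_comm, H.orth, neg_zero]
  · rw [H.C.z_neg _ H.g_mem, H.z_g]
  · rw [← H.Zd]; exact H.zβ_normalizes H.rδ
  · rw [← H.Zg']; exact H.zβ_normalizes (neg_mem H.D H.rγ)
  · intro x hx hxp hxd hxg hxz
    have hk := k5 x hx hxp hxz
    rw [← H.Zd, H.ZX _ H.rδ] at hxd
    have h3 := commute_conj k1 hk hxd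
    rw [← H.ZX _ H.rγ, H.Zg] at h3
    exact commute_sup h3 hxg ζ H.ζ_mem
  · rw [form_neg_right]; omega

/-- `z_β` centralises the root groups `X y`, `(y, d) < 0`, `(y, g) > 0`. -/
theorem commute_neg [Finite G] {y : I → ℤ} (hy : IsRoot cs h y) (h1 : form cs h y d < 0) (h2 : 0 < form cs h y g) :
    ∀ u ∈ X y, zD (sr β) * u = u * zD (sr β) := by
  have := Fact.mk H.prime
  obtain ⟨k, k1, k2, k3, k4, k5⟩ := H.exists_swap
  have hd' := neg_mem H.C H.d_mem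
  refine commute_of_cent H.C H.odd (ζ := ζ) hd' H.g_mem ?_ ?_ H.z_g (H.D.z_sq _ H.rβ) H.zβ_comm H.norm
    ?_ ?_ ?_ hy ?_ h2
  · rw [form_neg_left, form_comm, H.orth, neg_zero]
  · rw [H.C.z_neg _ H.d_mem, H.z_d]
  · rw [← H.Zd']; exact H.zβ_normalizes (neg_mem H.D H.rδ)
  · rw [← H.Zg]; exact H.zβ_normalizes H.rγ
  · intro x hx hxp hxd hxg hxz
    have hk := k5 x hx hxp hxz
    rw [← H.Zd', H.ZX _ (neg_mem H.D H.rδ)] at hxd
    have h3 := commute_conj k2 hk hxd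
    rw [← H.ZX _ (neg_mem H.D H.rγ), H.Zg'] at h3
    exact commute_sup hxg h3 ζ H.ζ_mem
  · rw [form_neg_right]; omega

/-- Stability under simple reflections. -/
theorem commute_refl {a : G} {i : I} (h1 : ∀ u ∈ X (sr i), a * u = u * a) (h2 : ∀ u ∈ X (-sr i), a * u = u * a)
    {y : I → ℤ} (hy : IsRoot cs h y) (h3 : ∀ u ∈ X y, a * u = u * a) :
    ∀ u ∈ X (rep cs h (cs.simple i) y), a * u = u * a := by
  obtain ⟨m, hm, hmr⟩ := exists_m H.C.rgd i
  exact commute_conj (H.C.rgd.conj_rp hmr hy) (commute_sup h1 h2 m hm) h3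

/-- The combinatorial closure condition on the root system of `E`: all simple roots other than `j₀` are obtained from
the roots `y` with `(y, d) > 0`, `(y, g) < 0` and their negatives. -/
def Closes (cs : CoxeterSystem M W) (h : IsCartan M A) (g d : I → ℤ) (j₀ : I) : Prop :=
  ∀ S : Set (I → ℤ), (∀ y, IsRoot cs h y → 0 < form cs h y d → form cs h y g < 0 → y ∈ S ∧ -y ∈ S) →
    (∀ i, sr i ∈ S → -sr i ∈ S → ∀ y, IsRoot cs h y → y ∈ S → rep cs h (cs.simple i) y ∈ S) →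
    ∀ j, j ≠ j₀ → sr j ∈ S ∧ -sr j ∈ S

/-- **The core**: `K_β` centralises the root groups `X (± sr j)`, `j ≠ j₀`. -/
theorem main [Finite G] {j₀ : I} (hcl : Closes cs h g d j₀) {j : I} (hj : j ≠ j₀) :
    ∀ x ∈ X (sr j) ⊔ X (-sr j), ∀ u ∈ XD (sr β) ⊔ XD (-sr β), x * u = u * x := by
  have key := hcl {y | ∀ u ∈ X y, zD (sr β) * u = u * zD (sr β)} (fun y hy h1 h2 => by
    refine ⟨H.commute_pos hy h1 h2, H.commute_neg hy.neg ?_ ?_⟩
    · rw [form_neg_left]; omega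
    · rw [form_neg_left]; omega) (fun i h1 h2 y hy h3 => H.commute_refl h1 h2 hy h3) j hj
  have hc : ∀ y : I → ℤ, IsRoot cs h y → (∀ u ∈ X y, zD (sr β) * u = u * zD (sr β)) →
      ∀ x ∈ X y, ∀ u ∈ XD (sr β) ⊔ XD (-sr β), x * u = u * x := by
    intro y hy h1 x hx
    refine H.central (X_le_GG hy hx) ?_ (h1 x hx).symm
    exact (H.C.rgd.pgrp' hy).to_le ((Subgroup.zpowers_le).2 hx)
  have h1 := hc _ (isRoot_sr cs h j) key.1
  have h2 := hc _ (isRoot_sr cs h j).neg key.2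
  intro x hx u hu
  have h3 := commute_sup (x := u) (P := X (sr j)) (Q := X (-sr j)) (fun v hv => (h1 v hv u hu).symm)
    (fun v hv => (h2 v hv u hu).symm) x hx
  exact h3.symm

end Core

end Cfsg.Agent.Cit.BDCore
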