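import Mathlib
import Cfsg.Agent.Cit.Defs
import Cfsg.Agent.Cit.TypeDet.Group

/-!
# Twins (project CIT, types `B_n`, `²D_{n+1}`, `D_n`)

* `Amb Om` : `Hyp Om`, one class, and `(F4)`: `L ≤ C(z_K) ⇒ L = K` or `L` commutes with `K`;
* `Clo Om Om₀` : `Om₀` is closed (input of `[CLOSE]`);
* `Big Om E` : `E` is generated by its members, their involutions are not central in `E`, `E` is transitive on them;
* `Tw Om K K' E` : the members commuting with `K` are `K'` and those of `E`, the same for `K'`;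
* `Tw.unique`, `Tw.zz_ne`, `Tw.of_zz`, `Tw.cj_zz`, `exists_swap`.
-/

set_option autoImplicit false
set_option linter.unusedSectionVars false

namespace Cfsg.Agent.Cit.BDTwin

open Subgroup Cfsg.Agent.Cit.TypeDet

variable {G : Type*} [Group G]

/-! ### Preliminaries -/

theorem cj_of_cm {x : G} {K E : Subgroup G} (h : cm K E) (hx : x ∈ E) : cj x K = K := by
  have key : ∀ y ∈ E, cj y K ≤ K := by
    intro y hy a ha
    rw [mem_cj] at ha
    have h1 := h _ ha y hy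
    have h2 : a = y⁻¹ * a * y := by
      calc a = y * (y⁻¹ * a * y) * y⁻¹ := by group
        _ = (y⁻¹ * a * y) * y * y⁻¹ := by rw [← h1]
        _ = y⁻¹ * a * y := by group
    rw [h2]; exact ha
  apply le_antisymm (key x hx)
  have h1 := cj_mono x (key x⁻¹ (inv_mem hx))
  rwa [cj_cj_inv] at h1

theorem cj_self_of_mem {x : G} {E : Subgroup G} (hx : x ∈ E) : cj x E = E := by
  rw [← mem_normalizer_iff_cj]
  exact le_normalizer hx

theorem cj_le_of_mem {x : G} {L E : Subgroup G} (hL : L ≤ E) (hx : x ∈ E) : cj x L ≤ E := by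
  have := cj_mono x hL
  rwa [cj_self_of_mem hx] at this

theorem cm_le_centralizer [Finite G] {Om : Set (Subgroup G)} (hyp : Hyp Om) {K L : Subgroup G} (hK : K ∈ Om)
    (h : cm L K) : L ≤ centralizer {zz K} := by
  intro x hx
  rw [mem_centralizer_singleton_iff]
  exact h x hx _ (hyp.zz_mem hK)

/-- The members of `Om` are not abelian. -/
theorem not_cm_self [Finite G] {Om : Set (Subgroup G)} (hyp : Hyp Om) {K : Subgroup G} (hK : K ∈ Om) : ¬ cm K K := by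
  intro h
  obtain ⟨S, n, ⟨e⟩⟩ := hyp.quat K hK
  have h1 : ∀ a b : QuaternionGroup (2 ^ (n + 1)), a * b = b * a := by
    intro a b
    have h2 : ((e.symm a : K) : G) * ((e.symm b : K) : G) = ((e.symm b : K) : G) * ((e.symm a : K) : G) :=
      h _ (e.symm a : K).2 _ (e.symm b : K).2
    have h3 : e.symm a * e.symm b = e.symm b * e.symm a := Subtype.ext (Subtype.ext h2)
    rw [← map_mul, ← map_mul] at h3
    exact e.symm.injective h3
  have h2 := h1 (QuaternionGroup.xa 0) (QuaternionGroup.a 1)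
  rw [QuaternionGroup.xa_mul_a, QuaternionGroup.a_mul_xa] at h2
  have h3 : (0 : ZMod (2 * 2 ^ (n + 1))) + 1 = 0 - 1 := by simpa using h2
  have h4 : ((2 : ℕ) : ZMod (2 * 2 ^ (n + 1))) = 0 := by
    have h5 : (1 : ZMod (2 * 2 ^ (n + 1))) + 1 = 0 := by
      calc (1 : ZMod (2 * 2 ^ (n + 1))) + 1 = (0 + 1) + 1 := by rw [zero_add]
        _ = (0 - 1) + 1 := by rw [h3]
        _ = 0 := by ring
    have h6 : ((2 : ℕ) : ZMod (2 * 2 ^ (n + 1))) = 1 + 1 := by norm_num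
    rw [h6]
    exact h5
  rw [ZMod.natCast_eq_zero_iff] at h4
  have h5 := Nat.le_of_dvd (by norm_num) h4
  have h6 : 2 ≤ 2 ^ (n + 1) := by
    calc 2 = 2 ^ 1 := by norm_num
      _ ≤ 2 ^ (n + 1) := Nat.pow_le_pow_right (by norm_num) (by omega)
  omega

/-! ### The hypotheses -/

/-- The ambient hypotheses. -/
structure Amb (Om : Set (Subgroup G)) : Prop where
  hyp : Hyp Om
  one : ∀ K ∈ Om, ∀ L ∈ Om, ∃ g, L = cj g K
  f4 : ∀ K ∈ Om, ∀ L ∈ Om, L ≤ centralizer {zz K} → L = K ∨ cm L K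

/-- Closed subsets of `Om`. -/
structure Clo (Om Om₀ : Set (Subgroup G)) : Prop where
  sub : Om₀ ⊆ Om
  ne : Om₀.Nonempty
  comm : ∀ K ∈ Om₀, ∀ L ∈ Om, cm L K → L ∈ Om₀
  cent : ∀ K ∈ Om₀, ∀ c ∈ centralizer {zz K}, ∀ L ∈ Om₀, cj c L ∈ Om₀
  fus : ∀ K ∈ Om₀, ∀ g, cj g K ∈ Om₀ → ∀ L ∈ Om₀, cj g L ∈ Om₀

/-- Groups generated by a class of members with non-central involutions. -/
structure Big (Om : Set (Subgroup G)) (E : Subgroup G) : Prop where
  gen : E ≤ ⨆ L ∈ {L | L ∈ Om ∧ L ≤ E}, L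
  ntr : ∀ L ∈ Om, L ≤ E → ∃ x ∈ E, x * zz L ≠ zz L * x
  trans : ∀ K ∈ Om, K ≤ E → ∀ L ∈ Om, L ≤ E → ∃ g ∈ E, L = cj g K
  ne : ∃ L ∈ Om, L ≤ E

/-- Twins. -/
structure Tw (Om : Set (Subgroup G)) (K K' E : Subgroup G) : Prop where
  mem : K ∈ Om
  mem' : K' ∈ Om
  cm_twin : cm K K'
  cm_E : cm K E
  cm_E' : cm K' E
  of_cm : ∀ L ∈ Om, cm L K → L = K' ∨ L ≤ E
  of_cm' : ∀ L ∈ Om, cm L K' → L = K ∨ L ≤ E

variable {Om : Set (Subgroup G)}

section Big

variable {E : Subgroup G}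

theorem Big.le (hE : Big Om E) {H : Subgroup G} (h : ∀ L ∈ Om, L ≤ E → L ≤ H) : E ≤ H :=
  hE.gen.trans (iSup₂_le fun L hL => h L hL.1 hL.2)

theorem Big.cj (hyp : Hyp Om) [Finite G] (hE : Big Om E) (g : G) : Big Om (cj g E) where
  gen := by
    have h1 : E ≤ Cit.cj g⁻¹ (⨆ L ∈ {L | L ∈ Om ∧ L ≤ Cit.cj g E}, L) := by
      refine hE.le fun L hL hLE => ?_
      have h2 : Cit.cj g L ≤ ⨆ L ∈ {L | L ∈ Om ∧ L ≤ Cit.cj g E}, L :=
        le_iSup₂_of_le (Cit.cj g L) ⟨hyp.conj L hL g, cj_mono g hLE⟩ le_rfl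
      have h3 := cj_mono g⁻¹ h2
      rwa [cj_inv_cj] at h3
    have h2 := cj_mono g h1
    rwa [cj_cj_inv] at h2
  ntr L hL hLE := by
    have h1 : Cit.cj g⁻¹ L ≤ E := by
      have := cj_mono g⁻¹ hLE
      rwa [cj_inv_cj] at this
    obtain ⟨x, hx, hne⟩ := hE.ntr _ (hyp.conj L hL g⁻¹) h1
    refine ⟨g * x * g⁻¹, conj_mem_cj hx, fun h2 => hne ?_⟩
    rw [hyp.zz_cj hL, inv_inv]
    calc x * (g⁻¹ * zz L * g) = g⁻¹ * (g * x * g⁻¹ * zz L) * g := by group
      _ = g⁻¹ * (zz L * (g * x * g⁻¹)) * g := by rw [h2]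
      _ = g⁻¹ * zz L * g * x := by group
  trans K hK hKE L hL hLE := by
    have h1 : ∀ K, K ≤ Cit.cj g E → Cit.cj g⁻¹ K ≤ E := by
      intro K hK
      have := cj_mono g⁻¹ hK
      rwa [cj_inv_cj] at this
    obtain ⟨x, hx, e⟩ := hE.trans _ (hyp.conj K hK g⁻¹) (h1 K hKE) _ (hyp.conj L hL g⁻¹) (h1 L hLE)
    refine ⟨g * x * g⁻¹, conj_mem_cj hx, ?_⟩
    rw [cj_mul, cj_mul, ← e, cj_cj_inv]
  ne := by
    obtain ⟨L, hL, hLE⟩ := hE.ne
    exact ⟨_, hyp.conj L hL g, cj_mono g hLE⟩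

/-- An involution of a member is not centralised by `E`. -/
theorem Big.not_central (hE : Big Om E) {L : Subgroup G} (hL : L ∈ Om) (hLE : L ≤ E)
    (h : ∀ x ∈ E, x * zz L = zz L * x) : False := by
  obtain ⟨x, hx, hne⟩ := hE.ntr L hL hLE
  exact hne (h x hx)

theorem Big.cm_of (hE : Big Om E) {H : Subgroup G} (h : ∀ L ∈ Om, L ≤ E → cm L H) : cm E H := by
  rw [cm_iff_le_centralizer]
  exact hE.le fun L hL hLE => cm_iff_le_centralizer.1 (h L hL hLE)

end Big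

section Tw

variable [Finite G] (am : Amb Om) {K K' E : Subgroup G}

theorem Tw.symm (t : Tw Om K K' E) : Tw Om K' K E :=
  ⟨t.mem', t.mem, cm_symm t.cm_twin, t.cm_E', t.cm_E, t.of_cm', t.of_cm⟩

include am

theorem Tw.cj (t : Tw Om K K' E) (g : G) : Tw Om (cj g K) (cj g K') (cj g E) where
  mem := am.hyp.conj _ t.mem g
  mem' := am.hyp.conj _ t.mem' g
  cm_twin := cm_cj.2 t.cm_twin
  cm_E := cm_cj.2 t.cm_E
  cm_E' := cm_cj.2 t.cm_E'
  of_cm L hL h := by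
    have h1 : cm (Cit.cj g⁻¹ L) K := by
      rw [← cm_cj (g := g), cj_cj_inv]; exact h
    rcases t.of_cm _ (am.hyp.conj L hL g⁻¹) h1 with h2 | h2
    · left; rw [← h2, cj_cj_inv]
    · right
      have := cj_mono g h2
      rwa [cj_cj_inv] at this
  of_cm' L hL h := by
    have h1 : cm (Cit.cj g⁻¹ L) K' := by
      rw [← cm_cj (g := g), cj_cj_inv]; exact h
    rcases t.of_cm' _ (am.hyp.conj L hL g⁻¹) h1 with h2 | h2
    · left; rw [← h2, cj_cj_inv]
    · right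
      have := cj_mono g h2
      rwa [cj_cj_inv] at this

theorem Tw.ne (t : Tw Om K K' E) : K ≠ K' := by
  rintro rfl
  exact not_cm_self am.hyp t.mem t.cm_twin

theorem Tw.not_le (t : Tw Om K K' E) : ¬ K ≤ E := fun h =>
  not_cm_self am.hyp t.mem (cm_mono le_rfl h t.cm_E)

/-- The involutions of the members of `E` are not centralised by `K`'s partner `E`. -/
theorem Tw.zz_ne (t : Tw Om K K' E) (hE : Big Om E) {L : Subgroup G} (hL : L ∈ Om) (hLE : L ≤ E) :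
    zz L ≠ zz K := by
  intro h
  refine hE.not_central hL hLE fun x hx => ?_
  rw [h]
  exact (t.cm_E _ (am.hyp.zz_mem t.mem) x hx).symm

/-- **Uniqueness of the twin.** -/
theorem Tw.unique {K₁ E₁ K₂ E₂ : Subgroup G} (t₁ : Tw Om K K₁ E₁) (t₂ : Tw Om K K₂ E₂) (h₁ : Big Om E₁)
    (h₂ : Big Om E₂) : K₁ = K₂ ∧ E₁ = E₂ := by
  have key : ∀ {K₁ E₁ K₂ E₂ : Subgroup G}, Tw Om K K₁ E₁ → Tw Om K K₂ E₂ → Big Om E₁ → Big Om E₂ → K₁ = K₂ := by
    intro K₁ E₁ K₂ E₂ t₁ t₂ h₁ h₂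
    rcases t₁.of_cm K₂ t₂.mem' (cm_symm t₂.cm_twin) with h3 | h3
    · exact h3.symm
    · exfalso
      refine h₁.not_central t₂.mem' h3 ?_
      have h4 : E₁ ≤ centralizer {zz K₂} := by
        refine h₁.le fun L hL hLE => ?_
        rcases t₂.of_cm L hL (cm_symm (cm_mono le_rfl hLE t₁.cm_E)) with h5 | h5
        · rw [h5]; exact am.hyp.le_centralizer t₂.mem'
        · exact cm_le_centralizer am.hyp t₂.mem' (cm_symm (cm_mono le_rfl h5 t₂.cm_E'))
      intro x hx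
      exact mem_centralizer_singleton_iff.1 (h4 hx)
  have e := key t₁ t₂ h₁ h₂
  subst e
  have key2 : ∀ {E₁ E₂ : Subgroup G}, Tw Om K K₁ E₁ → Tw Om K K₁ E₂ → Big Om E₁ → E₁ ≤ E₂ := by
    intro E₁ E₂ t₁ t₂ h₁
    refine h₁.le fun L hL hLE => ?_
    rcases t₂.of_cm L hL (cm_symm (cm_mono le_rfl hLE t₁.cm_E)) with h5 | h5
    · exfalso
      rw [h5] at hLE
      exact not_cm_self am.hyp t₁.mem' (cm_mono le_rfl hLE t₁.cm_E')
    · exact h5
  exact ⟨rfl, le_antisymm (key2 t₁ t₂ h₁) (key2 t₂ t₁ h₂)⟩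

/-- Every member has a twin. -/
theorem Tw.exists_tw (t : Tw Om K K' E) {L : Subgroup G} (hL : L ∈ Om) :
    ∃ g, L = Cit.cj g K ∧ Tw Om L (Cit.cj g K') (Cit.cj g E) := by
  obtain ⟨g, rfl⟩ := am.one K t.mem L hL
  exact ⟨g, rfl, t.cj am g⟩

/-- Members with the involution of `K`, if the twins have the same involution. -/
theorem Tw.of_zz (t : Tw Om K K' E) (hE : Big Om E) {L : Subgroup G} (hL : L ∈ Om) (h : zz L = zz K) :
    L = K ∨ L = K' := by
  have h1 : L ≤ centralizer {zz K} := by rw [← h]; exact am.hyp.le_centralizer hL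
  rcases am.f4 K t.mem L hL h1 with h2 | h2
  · exact Or.inl h2
  · rcases t.of_cm L hL h2 with h3 | h3
    · exact Or.inr h3
    · exact absurd h (t.zz_ne am hE hL h3)

/-- The action of `C(z_K)`. -/
theorem Tw.cj_zz (t : Tw Om K K' E) (hE : Big Om E) {c : G} (hc : c ∈ centralizer {zz K}) :
    (Cit.cj c K = K ∧ Cit.cj c K' = K' ∨ Cit.cj c K = K' ∧ Cit.cj c K' = K) ∧ Cit.cj c E = E := by
  have h1 : zz (Cit.cj c K) = zz K := by
    rw [am.hyp.zz_cj t.mem, mem_centralizer_singleton_iff.1 hc]; group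
  have t' := t.cj am c
  have hE' := hE.cj am.hyp c
  rcases t.of_zz am hE (am.hyp.conj _ t.mem c) h1 with h2 | h2
  · rw [h2] at t' ⊢
    obtain ⟨h3, h4⟩ := t'.unique am t hE' hE
    exact ⟨Or.inl ⟨rfl, h3⟩, h4⟩
  · rw [h2] at t' ⊢
    obtain ⟨h3, h4⟩ := t'.unique am t.symm hE' hE
    exact ⟨Or.inr ⟨rfl, h3⟩, h4⟩

end Tw

/-! ### Two commuting pairs of twins -/

/-- Two commuting pairs of twins. -/
structure Two (Om : Set (Subgroup G)) (K K' E J J' F : Subgroup G) : Prop where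
  am : Amb Om
  tK : Tw Om K K' E
  tJ : Tw Om J J' F
  bE : Big Om E
  bF : Big Om F
  JE : J ≤ E
  J'E : J' ≤ E

namespace Two

variable [Finite G] {K K' E J J' F : Subgroup G} (H : Two Om K K' E J J' F)

include H

theorem K_le : K ≤ F := by
  rcases H.tJ.of_cm K H.tK.mem (cm_mono le_rfl H.JE H.tK.cm_E) with h1 | h1
  · exfalso
    have h2 := H.J'E
    rw [← h1] at h2
    exact H.tK.not_le H.am h2
  · exact h1

theorem K'_le : K' ≤ F := by
  rcases H.tJ.of_cm K' H.tK.mem' (cm_mono le_rfl H.JE H.tK.cm_E') with h1 | h1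
  · exfalso
    have h2 := H.J'E
    rw [← h1] at h2
    exact H.tK.symm.not_le H.am h2
  · exact h1

theorem symm : Two Om J J' F K K' E := ⟨H.am, H.tJ, H.tK, H.bF, H.bE, H.K_le, H.K'_le⟩

/-- **The swap.** -/
theorem exists_swap : ∃ w, cj w K = J ∧ cj w J = K ∧ cj w K' = J' ∧ cj w J' = K' ∧ cj w E = F ∧ cj w F = E := by
  obtain ⟨x, hx, tx⟩ := H.tK.exists_tw H.am H.tJ.mem
  obtain ⟨e1, e2⟩ := tx.unique H.am H.tJ (H.bE.cj H.am.hyp x) H.bF
  have h1 : cj x J ≤ F := by rw [← e2]; exact cj_mono x H.JE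
  obtain ⟨y, hy, ey⟩ := H.bF.trans _ (H.am.hyp.conj _ H.tJ.mem x) h1 K H.tK.mem H.K_le
  have a1 : cj (y * x) K = J := by rw [cj_mul, ← hx, cj_of_cm H.tJ.cm_E hy]
  have a2 : cj (y * x) J = K := by rw [cj_mul, ← ey]
  have a3 : cj (y * x) K' = J' := by rw [cj_mul, e1, cj_of_cm H.tJ.cm_E' hy]
  have a4 : cj (y * x) E = F := by rw [cj_mul, e2, cj_self_of_mem hy]
  have t2 := H.tJ.cj H.am (y * x)
  rw [a2] at t2
  obtain ⟨e3, e4⟩ := t2.unique H.am H.tK (H.bF.cj H.am.hyp _) H.bE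
  exact ⟨y * x, a1, a2, a3, e3, a4, e4⟩

theorem zz_ne : zz J ≠ zz K := H.tK.zz_ne H.am H.bE H.tJ.mem H.JE

theorem zz_comm : zz K * zz J = zz J * zz K :=
  H.tK.cm_E _ (H.am.hyp.zz_mem H.tK.mem) _ (H.JE (H.am.hyp.zz_mem H.tJ.mem))

/-- The members commuting with `t = z_K z_J` and with `K`. -/
theorem four {M : Subgroup G} (hM : M ∈ Om) (hMt : M ≤ centralizer {zz K * zz J}) (h : cm M K) :
    M = K' ∨ M = J ∨ M = J' ∨ (M ≤ E ∧ M ≤ F) := by
  rcases H.tK.of_cm M hM h with h1 | h1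
  · exact Or.inl h1
  · have h2 : M ≤ centralizer {zz J} := by
      intro x hx
      have h3 := mem_centralizer_singleton_iff.1 (hMt hx)
      have h4 := h x hx _ (H.am.hyp.zz_mem H.tK.mem)
      rw [mem_centralizer_singleton_iff]
      have h5 : zz K * (x * zz J) = zz K * (zz J * x) := by
        rw [← mul_assoc, ← h4, mul_assoc, h3, mul_assoc]
      exact mul_left_cancel h5
    rcases H.am.f4 J H.tJ.mem M hM h2 with h3 | h3
    · exact Or.inr (Or.inl h3)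
    · rcases H.tJ.of_cm M hM h3 with h4 | h4
      · exact Or.inr (Or.inr (Or.inl h4))
      · exact Or.inr (Or.inr (Or.inr ⟨h1, h4⟩))

end Two

end Cfsg.Agent.Cit.BDTwin
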