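import Mathlib
import Cfsg.Agent.Cit.BDTwin

/-!
# Twins have the same involution; the split case is impossible (project CIT, types `B_n`, `²D_{n+1}`, `D_n`)

* `Close Om` : a closed subset of `Om` is `Om`;
* `kappa` : `z_K = z_{K'}` for twins, if `z_J z_{J'}` is central in `E`;
* `not_split` : `E` and `F` do not commute;
* `PN Om K J` : `M ≤ C(z_K z_J) ⇒ M = K` or `M` commutes with `K`; `Two.pn` etc.
-/

set_option autoImplicit false
set_option linter.unusedSectionVars false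

namespace Cfsg.Agent.Cit.BDTwin

open Subgroup Cfsg.Agent.Cit.TypeDet

variable {G : Type*} [Group G]

/-- `[CLOSE]` -/
def Close (Om : Set (Subgroup G)) : Prop := ∀ Om₀, Clo Om Om₀ → Om₀ = Om

/-- Closed subsets which are stable under the `C(z_K z_L)`, too. -/
structure CloW (Om Om₀ : Set (Subgroup G)) : Prop extends Clo Om Om₀ where
  cent2 : ∀ K ∈ Om₀, ∀ L ∈ Om₀, cm K L → zz K ≠ zz L → ∀ c ∈ centralizer {zz K * zz L}, ∀ M ∈ Om₀,
    cj c M ∈ Om₀

/-- `[CLOSE]`, weak form -/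
def CloseW (Om : Set (Subgroup G)) : Prop := ∀ Om₀, CloW Om Om₀ → Om₀ = Om

theorem Close.weak {Om : Set (Subgroup G)} (h : Close Om) : CloseW Om := fun Om₀ h0 => h Om₀ h0.toClo

variable {Om : Set (Subgroup G)}

theorem conj_mul_eq {g a b : G} : g * a * g⁻¹ * (g * b * g⁻¹) = g * (a * b) * g⁻¹ := by group

namespace Two

variable [Finite G] {K K' E J J' F : Subgroup G} (H : Two Om K K' E J J' F)

include H

theorem conj (g : G) : Two Om (cj g K) (cj g K') (cj g E) (cj g J) (cj g J') (cj g F) :=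
  ⟨H.am, H.tK.cj H.am g, H.tJ.cj H.am g, H.bE.cj H.am.hyp g, H.bF.cj H.am.hyp g, cj_mono g H.JE, cj_mono g H.J'E⟩

theorem swapK : Two Om K' K E J J' F := ⟨H.am, H.tK.symm, H.tJ, H.bE, H.bF, H.JE, H.J'E⟩

theorem swapJ : Two Om K K' E J' J F := ⟨H.am, H.tK, H.tJ.symm, H.bE, H.bF, H.J'E, H.JE⟩

/-- `z_K z_{K'}` is central in `F`. -/
theorem central_F (hc : ∀ x ∈ E, x * (zz J * zz J') = zz J * zz J' * x) :
    ∀ x ∈ F, x * (zz K * zz K') = zz K * zz K' * x := by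
  obtain ⟨w, w1, w2, w3, w4, w5, w6⟩ := H.exists_swap
  have e1 : w * (zz J * zz J') * w⁻¹ = zz K * zz K' := by
    rw [← conj_mul_eq, ← H.am.hyp.zz_cj H.tJ.mem, ← H.am.hyp.zz_cj H.tJ.mem', w2, w4]
  intro x hx
  rw [← w5, mem_cj] at hx
  have h1 := hc _ hx
  rw [← e1]
  calc x * (w * (zz J * zz J') * w⁻¹) = w * ((w⁻¹ * x * w) * (zz J * zz J')) * w⁻¹ := by group
    _ = w * (zz J * zz J' * (w⁻¹ * x * w)) * w⁻¹ := by rw [h1]
    _ = w * (zz J * zz J') * w⁻¹ * x := by group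

theorem comm_K : zz K * zz K' = zz K' * zz K :=
  H.tK.cm_twin _ (H.am.hyp.zz_mem H.tK.mem) _ (H.am.hyp.zz_mem H.tK.mem')

end Two

/-- The invariants of a member. -/
def Kp (Om : Set (Subgroup G)) (M : Subgroup G) (a b : G) : Prop :=
  ∃ M₁ E₁ L L₁ F₁, Two Om M M₁ E₁ L L₁ F₁ ∧ (∀ x ∈ E₁, x * (zz L * zz L₁) = zz L * zz L₁ * x) ∧
    zz M * zz M₁ = a ∧ zz L * zz L₁ = b

section Kp

variable [Finite G] {M : Subgroup G} {a b : G}

theorem Kp.conj (h : Kp Om M a b) (g : G) : Kp Om (cj g M) (g * a * g⁻¹) (g * b * g⁻¹) := by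
  obtain ⟨M₁, E₁, L, L₁, F₁, H, hc, ha, hb⟩ := h
  have eM := H.am.hyp.zz_cj H.tK.mem g
  have eM' := H.am.hyp.zz_cj H.tK.mem' g
  have eL := H.am.hyp.zz_cj H.tJ.mem g
  have eL' := H.am.hyp.zz_cj H.tJ.mem' g
  refine ⟨_, _, _, _, _, H.conj g, ?_, ?_, ?_⟩
  · intro x hx
    rw [mem_cj] at hx
    have h1 := hc _ hx
    rw [eL, eL', conj_mul_eq]
    calc x * (g * (zz L * zz L₁) * g⁻¹) = g * ((g⁻¹ * x * g) * (zz L * zz L₁)) * g⁻¹ := by group
      _ = g * (zz L * zz L₁ * (g⁻¹ * x * g)) * g⁻¹ := by rw [h1]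
      _ = g * (zz L * zz L₁) * g⁻¹ * x := by group
  · rw [eM, eM', conj_mul_eq, ha]
  · rw [eL, eL', conj_mul_eq, hb]

theorem Kp.unique {a' b' : G} (h : Kp Om M a b) (h' : Kp Om M a' b') : a = a' ∧ b = b' := by
  obtain ⟨M₁, E₁, L, L₁, F₁, H, hc, ha, hb⟩ := h
  obtain ⟨M₂, E₂, L', L₂, F₂, H', hc', ha', hb'⟩ := h'
  obtain ⟨e1, e2⟩ := H.tK.unique H.am H'.tK H.bE H'.bE
  subst e1 e2
  refine ⟨by rw [← ha, ← ha'], ?_⟩
  obtain ⟨y, hy, e⟩ := H.bE.trans L H.tJ.mem H.JE L' H'.tJ.mem H'.JE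
  have t := H.tJ.cj H.am y
  rw [← e] at t
  obtain ⟨e3, -⟩ := t.unique H.am H'.tJ (H.bF.cj H.am.hyp y) H'.bF
  rw [← hb, ← hb', ← e3, e, H.am.hyp.zz_cj H.tJ.mem, H.am.hyp.zz_cj H.tJ.mem', conj_mul_eq, hc y hy]
  group

theorem Kp.comm (h : Kp Om M a b) {N : Subgroup G} (hN : N ∈ Om) (hNM : cm N M) : Kp Om N a b ∨ Kp Om N b a := by
  obtain ⟨M₁, E₁, L, L₁, F₁, H, hc, ha, hb⟩ := h
  rcases H.tK.of_cm N hN hNM with h1 | h1
  · left
    rw [h1]
    exact ⟨_, _, _, _, _, H.swapK, hc, by rw [← ha, H.comm_K], hb⟩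
  · right
    obtain ⟨y, hy, e⟩ := H.bE.trans L H.tJ.mem H.JE N hN h1
    have H2 := H.symm.conj y
    rw [← e, cj_of_cm H.tK.cm_E hy, cj_of_cm H.tK.cm_E' hy, cj_self_of_mem hy] at H2
    refine ⟨_, _, _, _, _, H2, ?_, ?_, ha⟩
    · intro x hx
      rw [mem_cj] at hx
      have h2 := H.central_F hc _ hx
      have h3 : y * (zz M * zz M₁) = zz M * zz M₁ * y := by
        have h4 := H.tK.cm_E _ (H.am.hyp.zz_mem H.tK.mem) y hy
        have h5 := H.tK.cm_E' _ (H.am.hyp.zz_mem H.tK.mem') y hy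
        rw [← mul_assoc, ← h4, mul_assoc, ← h5, mul_assoc]
      calc x * (zz M * zz M₁) = y * ((y⁻¹ * x * y) * (y⁻¹ * ((zz M * zz M₁) * y))) * y⁻¹ := by group
        _ = y * ((y⁻¹ * x * y) * (zz M * zz M₁)) * y⁻¹ := by rw [← h3, inv_mul_cancel_left]
        _ = y * (zz M * zz M₁ * (y⁻¹ * x * y)) * y⁻¹ := by rw [h2]
        _ = (y * (zz M * zz M₁)) * y⁻¹ * x := by group
        _ = zz M * zz M₁ * x := by rw [h3, mul_inv_cancel_right]
    · rw [e, H.am.hyp.zz_cj H.tJ.mem, H.am.hyp.zz_cj H.tJ.mem', conj_mul_eq, hc y hy, mul_inv_cancel_right, hb]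

theorem Kp.mem (h : Kp Om M a b) : M ∈ Om := by
  obtain ⟨M₁, E₁, L, L₁, F₁, H, hc, ha, hb⟩ := h
  exact H.tK.mem

theorem Kp.conj_eq (h : Kp Om M a b) (ha1 : a ≠ 1) {c : G} (hc : c ∈ centralizer {zz M}) :
    c * a * c⁻¹ = a ∧ c * b * c⁻¹ = b := by
  have h0 := h
  obtain ⟨M₁, E₁, L, L₁, F₁, H, hcc, ha, hb⟩ := h
  have hne : zz M₁ ≠ zz M := by
    intro h1
    apply ha1
    rw [← ha, h1, H.am.hyp.zz_mul H.tK.mem]
  have h1 : Cit.cj c M = M := by
    rcases (H.tK.cj_zz H.am H.bE hc).1 with h2 | h2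
    · exact h2.1
    · exfalso
      have h3 := H.am.hyp.zz_cj H.tK.mem c
      rw [h2.1, mem_centralizer_singleton_iff.1 hc, mul_inv_cancel_right] at h3
      exact hne h3
  have h2 := h0.conj c
  rw [h1] at h2
  obtain ⟨e1, e2⟩ := h2.unique h0
  exact ⟨e1, e2⟩

end Kp

/-- **Twins have the same involution.** -/
theorem Two.kappa [Finite G] [IsSimpleGroup G] {K K' E J J' F : Subgroup G} (H : Two Om K K' E J J' F)
    (hcl : Close Om) (hc : ∀ x ∈ E, x * (zz J * zz J') = zz J * zz J' * x) : zz K = zz K' := by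
  by_contra hne
  set a := zz K * zz K' with ha
  set b := zz J * zz J' with hb
  obtain ⟨w, w1, w2, w3, w4, w5, w6⟩ := H.exists_swap
  have ha1 : a ≠ 1 := by
    intro h1
    apply hne
    have h2 : zz K = (zz K')⁻¹ := eq_inv_of_mul_eq_one_left h1
    rw [h2, H.am.hyp.zz_inv H.tK.mem']
  have hb1 : b ≠ 1 := by
    intro h1
    apply ha1
    have e1 : w * b * w⁻¹ = a := by
      rw [hb, ← conj_mul_eq, ← H.am.hyp.zz_cj H.tJ.mem, ← H.am.hyp.zz_cj H.tJ.mem', w2, w4]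
    rw [← e1, h1]; group
  have hK : Kp Om K a b := ⟨_, _, _, _, _, H, hc, rfl, rfl⟩
  -- the closed set
  have hclo : Clo Om {M | Kp Om M a b ∨ Kp Om M b a} := by
    have hfix : ∀ {g : G}, (g * a * g⁻¹ = a ∧ g * b * g⁻¹ = b) ∨ (g * a * g⁻¹ = b ∧ g * b * g⁻¹ = a) →
        ∀ L, (Kp Om L a b ∨ Kp Om L b a) → (Kp Om (Cit.cj g L) a b ∨ Kp Om (Cit.cj g L) b a) := by
      intro g hg L hL
      rcases hg with ⟨e1, e2⟩ | ⟨e1, e2⟩ <;> rcases hL with h1 | h1 <;> have h2 := h1.conj g <;>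
        rw [e1, e2] at h2 <;> tauto
    constructor
    · rintro M (h1 | h1) <;> exact h1.mem
    · exact ⟨K, Or.inl hK⟩
    · rintro M (h1 | h1) L hL hcm
      · exact h1.comm hL hcm
      · exact (h1.comm hL hcm).symm
    · rintro M (h1 | h1) c hcz L hL
      · exact hfix (Or.inl (h1.conj_eq ha1 hcz)) L hL
      · exact hfix (Or.inl (h1.conj_eq hb1 hcz).symm) L hL
    · rintro M hM g hgM L hL
      refine hfix ?_ L hL
      rcases hM with h1 | h1 <;> rcases hgM with h2 | h2 <;> obtain ⟨e1, e2⟩ := (h1.conj g).unique h2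
      · exact Or.inl ⟨e1, e2⟩
      · exact Or.inr ⟨e1, e2⟩
      · exact Or.inr ⟨e2, e1⟩
      · exact Or.inl ⟨e2, e1⟩
  have hall := hcl _ hclo
  have hg : ∀ g : G, (g * a * g⁻¹ = a ∧ g * b * g⁻¹ = b) ∨ (g * a * g⁻¹ = b ∧ g * b * g⁻¹ = a) := by
    intro g
    have h1 : Cit.cj g K ∈ {M | Kp Om M a b ∨ Kp Om M b a} := by
      rw [hall]; exact H.am.hyp.conj _ H.tK.mem g
    rcases h1 with h2 | h2
    · exact Or.inl ((hK.conj g).unique h2)
    · exact Or.inr ((hK.conj g).unique h2)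
  -- the normal subgroup
  have hnor : (closure {a, b}).Normal := by
    refine ⟨fun n hn g => ?_⟩
    have h1 : Cit.cj g (closure {a, b}) ≤ closure {a, b} := by
      rw [cj_def, MonoidHom.map_closure, closure_le]
      rintro _ ⟨x, hx, rfl⟩
      change g * x * g⁻¹ ∈ closure {a, b}
      rcases hx with rfl | hx
      · rcases hg g with e | e
        · rw [e.1]; exact subset_closure (by simp)
        · rw [e.1]; exact subset_closure (by simp)
      · rw [Set.mem_singleton_iff.1 hx]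
        rcases hg g with e | e
        · rw [e.2]; exact subset_closure (by simp)
        · rw [e.2]; exact subset_closure (by simp)
    exact h1 (conj_mem_cj hn)
  rcases hnor.eq_bot_or_eq_top with h1 | h1
  · have h2 : a ∈ closure {a, b} := subset_closure (by simp)
    rw [h1] at h2
    exact ha1 (mem_bot.1 h2)
  · have hbE : b ∈ E := mul_mem (H.JE (H.am.hyp.zz_mem H.tJ.mem)) (H.J'E (H.am.hyp.zz_mem H.tJ.mem'))
    have hab : a * b = b * a := by
      have h4 := H.tK.cm_E _ (H.am.hyp.zz_mem H.tK.mem) b hbE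
      have h5 := H.tK.cm_E' _ (H.am.hyp.zz_mem H.tK.mem') b hbE
      rw [ha, mul_assoc, h5, ← mul_assoc, h4, mul_assoc]
    have h2 : closure {a, b} ≤ centralizer {a} := by
      rw [closure_le]
      rintro x (rfl | hx)
      · exact mem_centralizer_singleton_iff.2 rfl
      · rw [Set.mem_singleton_iff.1 hx]
        exact mem_centralizer_singleton_iff.2 hab.symm
    have h3 : closure {a, b} ≤ centralizer {b} := by
      rw [closure_le]
      rintro x (rfl | hx)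
      · exact mem_centralizer_singleton_iff.2 hab
      · rw [Set.mem_singleton_iff.1 hx]
        exact mem_centralizer_singleton_iff.2 rfl
    rw [h1] at h2 h3
    refine not_cm_self H.am.hyp H.tK.mem fun x _ y _ => ?_
    have h4 : closure {a, b} ≤ centralizer {x} := by
      rw [closure_le]
      rintro z (rfl | hz)
      · exact mem_centralizer_singleton_iff.2 (mem_centralizer_singleton_iff.1 (h2 (mem_top x))).symm
      · rw [Set.mem_singleton_iff.1 hz]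
        exact mem_centralizer_singleton_iff.2 (mem_centralizer_singleton_iff.1 (h3 (mem_top x))).symm
    rw [h1] at h4
    exact (mem_centralizer_singleton_iff.1 (h4 (mem_top y))).symm

/-! ### Property `N` -/

/-- The members centralising `z_K z_J`. -/
def PN (Om : Set (Subgroup G)) (K J : Subgroup G) : Prop :=
  ∀ M ∈ Om, M ≤ centralizer {zz K * zz J} → M = K ∨ cm M K

section PN

variable [Finite G] {K K' E J J' F : Subgroup G}

theorem PN.conj (am : Amb Om) (hK : K ∈ Om) (hJ : J ∈ Om) (h : PN Om K J) (g : G) : PN Om (cj g K) (cj g J) := by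
  intro M hM hMt
  have h1 : Cit.cj g⁻¹ M ≤ centralizer {zz K * zz J} := by
    have h2 := cj_mono g⁻¹ hMt
    rw [cj_centralizer, am.hyp.zz_cj hK, am.hyp.zz_cj hJ, conj_mul_eq] at h2
    have e : g⁻¹ * (g * (zz K * zz J) * g⁻¹) * g⁻¹⁻¹ = zz K * zz J := by group
    rwa [e] at h2
  rcases h _ (am.hyp.conj M hM g⁻¹) h1 with h2 | h2
  · left; rw [← h2, cj_cj_inv]
  · right
    rw [← cj_cj_inv g M, cm_cj]
    exact h2

theorem Two.pn_symm (H : Two Om K K' E J J' F) (h : PN Om K J) : PN Om J K := by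
  obtain ⟨w, w1, w2, w3, w4, w5, w6⟩ := H.exists_swap
  have h1 := h.conj H.am H.tK.mem H.tJ.mem w
  rwa [w1, w2] at h1

theorem Two.pn_of_le (H : Two Om K K' E J J' F) (h : PN Om K J) {U : Subgroup G} (hU : U ∈ Om) (hUE : U ≤ E) :
    PN Om K U := by
  obtain ⟨y, hy, e⟩ := H.bE.trans J H.tJ.mem H.JE U hU hUE
  have h1 := h.conj H.am H.tK.mem H.tJ.mem y
  rwa [cj_of_cm H.tK.cm_E hy, ← e] at h1

end PN

/-! ### The split case -/

section Split

variable [Finite G] {K K' E J J' F : Subgroup G}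

theorem Two.tw_F (H : Two Om K K' E J J' F) (hcm : cm E F) {M : Subgroup G} (hM : M ∈ Om) (hMF : M ≤ F) :
    ∃ M', M' ≤ F ∧ Tw Om M M' E := by
  obtain ⟨y, hy, e⟩ := H.bF.trans K H.tK.mem H.K_le M hM hMF
  have t := H.tK.cj H.am y
  rw [← e, cj_of_cm hcm hy] at t
  exact ⟨_, cj_le_of_mem H.K'_le hy, t⟩

theorem Two.cj_eq (H : Two Om K K' E J J' F) (hcm : cm E F) {g : G} (hg : cj g E = E) : cj g F = F := by
  have h1 : cj g J ≤ E := by
    have := cj_mono g H.JE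
    rwa [hg] at this
  obtain ⟨M', -, t⟩ := H.symm.tw_F (cm_symm hcm) (H.am.hyp.conj _ H.tJ.mem g) h1
  exact ((H.tJ.cj H.am g).unique H.am t (H.bF.cj H.am.hyp g) H.bF).2

theorem Two.cj_eq' (H : Two Om K K' E J J' F) (hcm : cm E F) {g : G} (hg : cj g E = F) : cj g F = E := by
  have h1 : cj g J ≤ F := by
    have := cj_mono g H.JE
    rwa [hg] at this
  obtain ⟨M', -, t⟩ := H.tw_F hcm (H.am.hyp.conj _ H.tJ.mem g) h1
  exact ((H.tJ.cj H.am g).unique H.am t (H.bF.cj H.am.hyp g) H.bE).2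

/-- The members `U ≤ E` and their twins have the same involution. -/
theorem Two.zz_eq_of (H : Two Om K K' E J J' F) (zJ : zz J = zz J') {U U' : Subgroup G} (hU : U ∈ Om) (hUE : U ≤ E)
    {F₁ : Subgroup G} (t : Tw Om U U' F₁) (hF₁ : Big Om F₁) : zz U = zz U' := by
  obtain ⟨y, hy, e⟩ := H.bE.trans J H.tJ.mem H.JE U hU hUE
  have t1 := H.tJ.cj H.am y
  rw [← e] at t1
  obtain ⟨e1, -⟩ := t1.unique H.am t (H.bF.cj H.am.hyp y) hF₁
  rw [← e1, e, H.am.hyp.zz_cj H.tJ.mem, H.am.hyp.zz_cj H.tJ.mem', zJ]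

/-- `PN` for all pairs. -/
theorem Two.pn_all (H : Two Om K K' E J J' F) (hcm : cm E F) (hPN : PN Om J K) {U V : Subgroup G} (hU : U ∈ Om)
    (hUE : U ≤ E) (hV : V ∈ Om) (hVF : V ≤ F) : PN Om U V := by
  have h1 := H.symm.pn_of_le hPN hV hVF
  obtain ⟨y, hy, e⟩ := H.bE.trans J H.tJ.mem H.JE U hU hUE
  have h2 := h1.conj H.am H.tJ.mem hV y
  rwa [← e, cj_of_cm (cm_mono hVF le_rfl (cm_symm hcm)) hy] at h2

/-- **`E` and `F` do not commute.** -/
theorem Two.not_split [IsSimpleGroup G] (H : Two Om K K' E J J' F) (zK : zz K = zz K') (zJ : zz J = zz J')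
    (hPN : PN Om J K) (hcl : CloseW Om) : ¬ cm E F := by
  intro hcm
  have hcm' := cm_symm hcm
  have hfix : ∀ {g : G}, (cj g E = E ∧ cj g F = F) ∨ (cj g E = F ∧ cj g F = E) → ∀ L ∈ Om,
      (L ≤ E ∨ L ≤ F) → (cj g L ≤ E ∨ cj g L ≤ F) := by
    intro g hg L _ hL
    rcases hg with ⟨e1, e2⟩ | ⟨e1, e2⟩ <;> rcases hL with h1 | h1 <;> have h2 := cj_mono g h1 <;>
      first
        | rw [e1] at h2; tauto
        | rw [e2] at h2; tauto
  -- elements mapping a member of the set into the set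
  have hmap : ∀ M ∈ Om, (M ≤ E ∨ M ≤ F) → ∀ g, (cj g M ≤ E ∨ cj g M ≤ F) →
      (cj g E = E ∧ cj g F = F) ∨ (cj g E = F ∧ cj g F = E) := by
    intro M hM hMEF g hg
    have hgM := H.am.hyp.conj M hM g
    rcases hMEF with h1 | h1
    · obtain ⟨M', -, t⟩ := H.symm.tw_F hcm' hM h1
      have t' := t.cj H.am g
      rcases hg with h2 | h2
      · obtain ⟨M₂, -, t2⟩ := H.symm.tw_F hcm' hgM h2
        have e := (t'.unique H.am t2 (H.bF.cj H.am.hyp g) H.bF).2
        exact Or.inl ⟨H.symm.cj_eq hcm' e, e⟩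
      · obtain ⟨M₂, -, t2⟩ := H.tw_F hcm hgM h2
        have e := (t'.unique H.am t2 (H.bF.cj H.am.hyp g) H.bE).2
        exact Or.inr ⟨H.symm.cj_eq' hcm' e, e⟩
    · obtain ⟨M', -, t⟩ := H.tw_F hcm hM h1
      have t' := t.cj H.am g
      rcases hg with h2 | h2
      · obtain ⟨M₂, -, t2⟩ := H.symm.tw_F hcm' hgM h2
        have e := (t'.unique H.am t2 (H.bE.cj H.am.hyp g) H.bF).2
        exact Or.inr ⟨e, H.cj_eq' hcm e⟩
      · obtain ⟨M₂, -, t2⟩ := H.tw_F hcm hgM h2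
        have e := (t'.unique H.am t2 (H.bE.cj H.am.hyp g) H.bE).2
        exact Or.inl ⟨e, H.cj_eq hcm e⟩
  have hcent : ∀ M ∈ Om, (M ≤ E ∨ M ≤ F) → ∀ c ∈ centralizer {zz M}, cj c M ≤ E ∨ cj c M ≤ F := by
    intro M hM hMEF c hc
    rcases hMEF with h1 | h1
    · obtain ⟨M', hM', t⟩ := H.symm.tw_F hcm' hM h1
      rcases (t.cj_zz H.am H.bF hc).1 with e | e
      · rw [e.1]; exact Or.inl h1
      · rw [e.1]; exact Or.inl hM'
    · obtain ⟨M', hM', t⟩ := H.tw_F hcm hM h1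
      rcases (t.cj_zz H.am H.bE hc).1 with e | e
      · rw [e.1]; exact Or.inr h1
      · rw [e.1]; exact Or.inr hM'
  have hclo : Clo Om {M | M ∈ Om ∧ (M ≤ E ∨ M ≤ F)} := by
    constructor
    · exact fun M hM => hM.1
    · exact ⟨J, H.tJ.mem, Or.inl H.JE⟩
    · rintro M ⟨hM, hMEF⟩ L hL hLM
      refine ⟨hL, ?_⟩
      rcases hMEF with h1 | h1
      · obtain ⟨M', hM', t⟩ := H.symm.tw_F hcm' hM h1
        rcases t.of_cm L hL hLM with h2 | h2
        · rw [h2]; exact Or.inl hM'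
        · exact Or.inr h2
      · obtain ⟨M', hM', t⟩ := H.tw_F hcm hM h1
        rcases t.of_cm L hL hLM with h2 | h2
        · rw [h2]; exact Or.inr hM'
        · exact Or.inl h2
    · rintro M ⟨hM, hMEF⟩ c hc L ⟨hL, hLEF⟩
      exact ⟨H.am.hyp.conj L hL c, hfix (hmap M hM hMEF c (hcent M hM hMEF c hc)) L hL hLEF⟩
    · rintro M ⟨hM, hMEF⟩ g ⟨-, hg⟩ L ⟨hL, hLEF⟩
      exact ⟨H.am.hyp.conj L hL g, hfix (hmap M hM hMEF g hg) L hL hLEF⟩
  have hclo2 : CloW Om {M | M ∈ Om ∧ (M ≤ E ∨ M ≤ F)} := by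
    refine ⟨hclo, ?_⟩
    rintro U ⟨hU, hUEF⟩ V ⟨hV, hVEF⟩ hUV hne c hc M hM
    have hcU : cj c U ≤ centralizer {zz U * zz V} := by
      have h1 : U ≤ centralizer {zz U * zz V} := by
        intro x hx
        rw [mem_centralizer_singleton_iff, ← mul_assoc,
          mem_centralizer_singleton_iff.1 (H.am.hyp.le_centralizer hU hx), mul_assoc,
          hUV x hx _ (H.am.hyp.zz_mem hV), mul_assoc]
      have h2 := cj_mono c h1
      rwa [cj_centralizer, mem_centralizer_singleton_iff.1 hc, mul_inv_cancel_right] at h2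
    have hPNUV : PN Om U V := by
      rcases hUEF with h1 | h1
      · obtain ⟨U', -, t⟩ := H.symm.tw_F hcm' hU h1
        rcases t.of_cm V hV (cm_symm hUV) with h2 | h2
        · exact absurd (by rw [h2]; exact H.zz_eq_of zJ hU h1 t H.bF) hne
        · exact H.pn_all hcm hPN hU h1 hV h2
      · obtain ⟨U', -, t⟩ := H.tw_F hcm hU h1
        rcases t.of_cm V hV (cm_symm hUV) with h2 | h2
        · exact absurd (by rw [h2]; exact H.symm.zz_eq_of zK hU h1 t H.bE) hne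
        · exact H.symm.pn_all hcm' (H.symm.pn_symm hPN) hU h1 hV h2
    have hcU' : cj c U ∈ {M | M ∈ Om ∧ (M ≤ E ∨ M ≤ F)} := by
      rcases hPNUV _ (H.am.hyp.conj U hU c) hcU with h1 | h1
      · rw [h1]; exact ⟨hU, hUEF⟩
      · exact hclo.comm U ⟨hU, hUEF⟩ _ (H.am.hyp.conj U hU c) h1
    exact hclo.fus U ⟨hU, hUEF⟩ c hcU' M hM
  have hall := hcl _ hclo2
  have hg : ∀ g : G, (cj g E = E ∧ cj g F = F) ∨ (cj g E = F ∧ cj g F = E) := by
    intro g
    refine hmap J H.tJ.mem (Or.inl H.JE) g ?_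
    have h1 : cj g J ∈ {M | M ∈ Om ∧ (M ≤ E ∨ M ≤ F)} := by
      rw [hall]; exact H.am.hyp.conj _ H.tJ.mem g
    exact h1.2
  have hnor : (E ⊔ F).Normal := by
    refine ⟨fun n hn g => ?_⟩
    have h1 : cj g (E ⊔ F) = E ⊔ F := by
      rw [cj_sup]
      rcases hg g with e | e
      · rw [e.1, e.2]
      · rw [e.1, e.2, sup_comm]
    rw [← h1]
    exact conj_mem_cj hn
  rcases hnor.eq_bot_or_eq_top with h1 | h1
  · have h2 : J = ⊥ := le_bot_iff.1 (H.JE.trans (le_sup_left.trans h1.le))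
    refine not_cm_self H.am.hyp H.tJ.mem ?_
    rw [h2]
    intro x hx y hy
    rw [mem_bot.1 hx, mem_bot.1 hy]
  · have hE : E.Normal := by
      refine ⟨fun n hn g => ?_⟩
      have h2 : E ⊔ F ≤ normalizer (E : Set G) := by
        refine sup_le le_normalizer ?_
        intro x hx
        rw [mem_normalizer_iff_cj]
        exact cj_of_cm hcm hx
      rw [h1] at h2
      exact (mem_normalizer_iff.1 (h2 (mem_top g)) n).1 hn
    rcases hE.eq_bot_or_eq_top with h2 | h2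
    · refine not_cm_self H.am.hyp H.tJ.mem ?_
      have h3 : J = ⊥ := le_bot_iff.1 (H.JE.trans h2.le)
      rw [h3]
      intro x hx y hy
      rw [mem_bot.1 hx, mem_bot.1 hy]
    · exact not_cm_self H.am.hyp H.tK.mem (cm_mono le_rfl (by rw [h2]; exact le_top) H.tK.cm_E)

end Split

end Cfsg.Agent.Cit.BDTwin
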