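import Cfsg.Agent.Cit.Parab
import Cfsg.Agent.Lib.CoprimeCommutator
import Cfsg.Agent.Lib.KleinGen

/-!
# The radical `Q_X = [O(C(X)), z]` of the parabolic subgroup `N(X)`

Continuation of `Cit/Parab.lean`. `QX X z = ⁅core X, ⟨z⟩⁆`.

* `commutator_mem` : `[C(X), z] ≤ Q_X`; `QX_le_core`; `z_normalizes`;
* `cj_QX` : `N(X)` normalizes `Q_X`; `QX_conj` : `Q_X` does not depend on the conjugate of `K` over `X`;
* `exists_of_mem_core`, `exists_centralizer`, `exists_normalizer` : `R = Q X (R ∩ C(K))`, `C(X) = Q C(K)`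
  and `N(X) = Q (N(X) ∩ N(K) ∩ C(z))`;
* `opp_trans`, `opp_stab` : `R` is transitive on the opposites of `X`, with stabilizer `R ∩ C(K)`.
-/

set_option autoImplicit false

namespace Cfsg.Agent.Cit.Parab

open Subgroup Cfsg
open scoped commutatorElement

variable {G : Type*} [Group G]

/-- `Q_X = [O(C(X)), z]`. -/
noncomputable def QX (X : Subgroup G) (z : G) : Subgroup G := ⁅core X, zpowers z⁆

theorem mem_zpowers_of_sq {z y : G} (hz : z * z = 1) (hy : y ∈ zpowers z) : y = 1 ∨ y = z := by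
  obtain ⟨n, rfl⟩ := mem_zpowers_iff.1 hy
  rcases Int.even_or_odd' n with ⟨k, rfl | rfl⟩
  · left
    rw [zpow_mul, zpow_ofNat, pow_two, hz, one_zpow]
  · right
    rw [zpow_add, zpow_mul, zpow_ofNat, pow_two, hz, one_zpow, one_mul, zpow_one]

theorem commutator_core_mem {X : Subgroup G} {z r : G} (hr : r ∈ core X) : ⁅r, z⁆ ∈ QX X z :=
  Subgroup.commutator_mem_commutator hr (mem_zpowers z)

/-- `Q_X ≤ M` can be checked on the commutators `[r, z]`. -/
theorem QX_le {X M : Subgroup G} {z : G} (hz : z * z = 1) (h : ∀ r ∈ core X, ⁅r, z⁆ ∈ M) : QX X z ≤ M := by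
  unfold QX
  rw [commutator_le]
  intro r hr y hy
  rcases mem_zpowers_of_sq hz hy with rfl | rfl
  · rw [commutatorElement_one_right]; exact M.one_mem
  · exact h r hr

theorem core_cj [Finite G] (g : G) (X : Subgroup G) : core (cj g X) = cj g (core X) := by
  have key : ∀ (g : G) (X : Subgroup G), cj g (core X) ≤ core (cj g X) := by
    intro g X
    refine le_core ?_ ?_ ?_
    · rw [card_cj]; exact odd_core X
    · intro y hy
      rw [mem_centralizer_iff]
      intro x hx
      replace hx := mem_cj.1 hx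
      have h1 := core_commute (mem_cj.1 hy) hx
      have h2 : x * y = g * (g⁻¹ * x * g * (g⁻¹ * y * g)) * g⁻¹ := by group
      rw [h2, ← h1]; group
    · intro c hc n hn
      rw [mem_cj] at hn ⊢
      have h1 : g⁻¹ * c * g ∈ centralizer (X : Set G) := by
        rw [mem_centralizer_iff]
        intro x hx
        have h2 := (mem_centralizer_iff.1 hc) _ (conj_mem_cj (g := g) hx)
        have h3 : x * (g⁻¹ * c * g) = g⁻¹ * (g * x * g⁻¹ * c) * g := by group
        rw [h3, h2]; group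
      have h2 := core_conj_mem h1 hn
      have h3 : g⁻¹ * (c * n * c⁻¹) * g = g⁻¹ * c * g * (g⁻¹ * n * g) * (g⁻¹ * c * g)⁻¹ := by group
      rwa [h3]
  refine le_antisymm ?_ (key g X)
  have h1 := cj_mono g (key g⁻¹ (cj g X))
  rwa [cj_inv_cj, cj_cj_inv] at h1

theorem cj_zpowers (g z : G) : cj g (zpowers z) = zpowers (g * z * g⁻¹) := by
  rw [cj_def, MonoidHom.map_zpowers]
  rfl

/-- Equivariance. -/
theorem QX_cj [Finite G] (g : G) (X : Subgroup G) (z : G) : QX (cj g X) (g * z * g⁻¹) = cj g (QX X z) := by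
  unfold QX
  rw [core_cj, cj_commutator, cj_zpowers]

namespace Long

variable {K X : Subgroup G} {z : G}

theorem z_mem_centralizer (h : Long K X z) : z ∈ centralizer (X : Set G) := by
  rw [mem_centralizer_iff]
  exact fun x hx => h.central (h.XK hx)

theorem z_normalizes (h : Long K X z) : zpowers z ≤ normalizer (core X : Set G) := by
  rw [zpowers_le, mem_normalizer_iff]
  intro r
  constructor
  · exact fun hr => core_conj_mem h.z_mem_centralizer hr
  · intro hr
    have h1 := core_conj_mem ((centralizer (X : Set G)).inv_mem h.z_mem_centralizer) hr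
    have h2 : z⁻¹ * (z * r * z⁻¹) * z⁻¹⁻¹ = r := by group
    rwa [h2] at h1

theorem QX_le_core (h : Long K X z) : QX X z ≤ core X :=
  Lib.CoprimeCommutator.commutator_le_left h.z_normalizes

variable [Finite G]

theorem coprime (h : Long K X z) : (Nat.card (zpowers z)).Coprime (Nat.card (core X)) := by
  rw [Nat.card_zpowers, h.orderOf_z, Nat.coprime_two_left]
  exact odd_core X

/-- `[Q, z] = Q`. -/
theorem QX_commutator (h : Long K X z) : ⁅QX X z, zpowers z⁆ = QX X z :=
  Lib.CoprimeCommutator.commutator_commutator_eq _ _ h.z_normalizes h.coprime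

/-- `[C(X), z] ≤ Q`. -/
theorem commutator_mem (h : Long K X z) {c : G} (hc : c ∈ centralizer (X : Set G)) : ⁅c, z⁆ ∈ QX X z := by
  obtain ⟨r, hr, d, hd, rfl⟩ := h.exists_of_centralizes (g := c) fun x hx => (mem_centralizer_iff.1 hc x hx).symm
  have h1 : ⁅r * d, z⁆ = ⁅r, z⁆ := by
    rw [commutatorElement_def, commutatorElement_def]
    have h2 : r * d * z * (r * d)⁻¹ * z⁻¹ = r * (d * z) * d⁻¹ * r⁻¹ * z⁻¹ := by group
    rw [h2, hd z h.zK]; group
  rw [h1]
  exact commutator_core_mem hr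

/-- `Q = [C(X), z]`. -/
theorem QX_eq_closure (h : Long K X z) :
    QX X z = closure {y | ∃ c ∈ centralizer (X : Set G), ⁅c, z⁆ = y} := by
  apply le_antisymm
  · refine QX_le h.zsq fun r hr => subset_closure ⟨r, core_le X hr, rfl⟩
  · rw [closure_le]
    rintro _ ⟨c, hc, rfl⟩
    exact h.commutator_mem hc

/-- `N(X)` normalizes `Q`. -/
theorem cj_QX (h : Long K X z) {g : G} (hg : cj g X = X) : cj g (QX X z) = QX X z := by
  obtain ⟨r, hr, c, hcX, -, hcz, rfl⟩ := h.exists_of_normalizes hg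
  have h1 : cj c (QX X z) = QX X z := by
    have h2 := QX_cj c X z
    rw [hcX] at h2
    rw [← h2]
    congr 1
    rw [hcz]; group
  rw [cj_mul, h1, ← mem_normalizer_iff_cj]
  exact Lib.CoprimeCommutator.left_le_normalizer_commutator _ _ hr

/-- `Q` does not depend on the conjugate of `K` over `X`. -/
theorem QX_conj (h : Long K X z) (hsyl : ∀ Y : Subgroup G, Y ≤ K → Nat.card Y = Nat.card X →
    ∃ k ∈ K, cj k Y = X) {g : G} (hX : X ≤ cj g K) : QX X (g * z * g⁻¹) = QX X z := by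
  obtain ⟨r, hr, hgr⟩ := h.exists_cj_eq hsyl hX
  have h1 : g * z * g⁻¹ = r * z * r⁻¹ := by
    have h2 := h.conj r
    have h3 := h.conj g
    rw [← hgr] at h2
    exact h2.uniq _ h3.zK h3.zsq h3.zne
  have hrX : cj r X = X := cj_eq_of_conj_mem fun x hx => by
    have h3 : r * x * r⁻¹ = x := by rw [core_commute hr hx]; group
    rwa [h3]
  have h4 := QX_cj r X z
  rw [hrX] at h4
  rw [h1, h4]
  exact h.cj_QX hrX

/-- `R = Q X (R ∩ C(K))`. -/
theorem exists_of_mem_core (h : Long K X z) {r : G} (hr : r ∈ core X) :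
    ∃ q ∈ QX X z, ∃ x ∈ X, ∃ d ∈ core X, (∀ k ∈ K, d * k = k * d) ∧ r = q * x * d := by
  -- `r = a b` with `a` centralizing `z` and `b` inverted by `z`
  obtain ⟨n, hn, h1⟩ := exists_conj_of_mem (N := QX X z) (Odd.of_dvd_nat (odd_core X)
    (Subgroup.card_dvd_of_le h.QX_le_core)) h.zsq (t := r * z * r⁻¹) (by
      have h2 : r * z * r⁻¹ * (r * z * r⁻¹) = r * (z * z) * r⁻¹ := by group
      rw [h2, h.zsq]; group) (by
      have h3 : z * (r * z * r⁻¹) = ⁅z, r⁆ := by
        have hzi : z⁻¹ = z := inv_eq_of_mul_eq_one_left h.zsq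
        rw [commutatorElement_def, hzi]; group
      rw [h3, ← commutatorElement_inv]
      exact (QX X z).inv_mem (commutator_core_mem hr))
  have h2 : n⁻¹ * r * z = z * (n⁻¹ * r) := by
    have h3 : n⁻¹ * r * z = n⁻¹ * (r * z * r⁻¹) * r := by group
    rw [h3, ← h1]; group
  have h3 : n⁻¹ * r ∈ core X := (core X).mul_mem ((core X).inv_mem (h.QX_le_core hn)) hr
  obtain ⟨x, hx, d, hd, hdK, h4⟩ := h.mem_core_of_commute h3 h2
  refine ⟨n, hn, x, hx, d, hd, hdK, ?_⟩
  rw [mul_assoc, ← h4]; group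

/-- `C(X) = Q C(K)` up to `X`: every element of `C(X)` is `q x c`, `c ∈ C(K)`. -/
theorem exists_centralizer (h : Long K X z) {g : G} (hg : ∀ x ∈ X, g * x = x * g) :
    ∃ q ∈ QX X z, ∃ x ∈ X, ∃ c : G, (∀ k ∈ K, c * k = k * c) ∧ g = q * x * c := by
  obtain ⟨r, hr, c, hc, rfl⟩ := h.exists_of_centralizes hg
  obtain ⟨q, hq, x, hx, d, -, hdK, rfl⟩ := h.exists_of_mem_core hr
  refine ⟨q, hq, x, hx, d * c, ?_, by group⟩
  intro k hk
  rw [mul_assoc, hc k hk, ← mul_assoc, hdK k hk, mul_assoc]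

/-- `N(X) = Q (N(X) ∩ N(K) ∩ C(z))`. -/
theorem exists_normalizer (h : Long K X z) {g : G} (hg : cj g X = X) :
    ∃ q ∈ QX X z, ∃ c : G, cj c X = X ∧ cj c K = K ∧ c * z = z * c ∧ g = q * c := by
  obtain ⟨r, hr, c, hcX, hcK, hcz, rfl⟩ := h.exists_of_normalizes hg
  obtain ⟨q, hq, x, hx, d, hd, hdK, rfl⟩ := h.exists_of_mem_core hr
  have hxK : cj x K = K := cj_eq_of_mem (h.XK hx)
  have hdK' : cj d K = K := cj_eq_of_conj_mem fun k hk => by
    have h3 : d * k * d⁻¹ = k := by rw [hdK k hk]; group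
    rwa [h3]
  have hxX : cj x X = X := cj_eq_of_mem hx
  have hdX : cj d X = X := cj_eq_of_conj_mem fun k hk => by
    have h3 : d * k * d⁻¹ = k := by rw [hdK k (h.XK hk)]; group
    rwa [h3]
  refine ⟨q, hq, x * d * c, ?_, ?_, ?_, by group⟩
  · rw [cj_mul, cj_mul, hcX, hdX, hxX]
  · rw [cj_mul, cj_mul, hcK, hdK', hxK]
  · have h1 := h.central (h.XK hx)
    have h2 := hdK z h.zK
    calc x * d * c * z = x * (d * (c * z)) := by group
      _ = x * ((d * z) * c) := by rw [hcz]; group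
      _ = (x * z) * d * c := by rw [h2]; group
      _ = z * (x * d * c) := by rw [h1]; group

/-! ### Opposites -/

omit [Finite G] in
/-- An element of `C(X)` normalizing `K` commutes with `z`. -/
theorem commute_of_normalizes (h : Long K X z) {c : G} (hc : cj c K = K) : c * z = z * c := by
  have h1 : c * z * c⁻¹ = z := by
    refine h.uniq _ (conj_mem_of_cj_eq hc h.zK) (h.conj c).zsq (h.conj c).zne
  rwa [mul_inv_eq_iff_eq_mul] at h1

/-- `R` is transitive on the opposites of `X`: a conjugate of the pair `(K, Y)` over `X` is conjugate under `R`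
to `(K, Y)`. -/
theorem opp_trans (h : Long K X z) (hsyl : ∀ Y : Subgroup G, Y ≤ K → Nat.card Y = Nat.card X →
    ∃ k ∈ K, cj k Y = X)
    (htwo : ∀ Y Y' : Subgroup G, Y ≤ K → Y' ≤ K → Nat.card Y = Nat.card X → Nat.card Y' = Nat.card X →
      Y ≠ X → Y' ≠ X → ∃ x ∈ X, cj x Y = Y')
    {Y Y' : Subgroup G} (hY : Y ≤ K) (hYc : Nat.card Y = Nat.card X) (hYX : Y ≠ X)
    {g : G} (hX : X ≤ cj g K) (hY' : Y' ≤ cj g K) (hYc' : Nat.card Y' = Nat.card X) (hYX' : Y' ≠ X) :
    ∃ r ∈ core X, cj g K = cj r K ∧ Y' = cj r Y := by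
  obtain ⟨r, hr, hgr⟩ := h.exists_cj_eq hsyl hX
  have hrX : cj r X = X := cj_eq_of_conj_mem fun x hx => by
    have h3 : r * x * r⁻¹ = x := by rw [core_commute hr hx]; group
    rwa [h3]
  have h1 : cj r⁻¹ Y' ≤ K := by
    have h2 := cj_mono r⁻¹ hY'
    rwa [hgr, cj_inv_cj] at h2
  obtain ⟨x, hx, h2⟩ := htwo Y (cj r⁻¹ Y') hY h1 hYc ((card_cj _ _).trans hYc') hYX (by
    intro h3
    apply hYX'
    have h4 := congrArg (cj r) h3
    rwa [cj_cj_inv, hrX] at h4)
  refine ⟨r * x, (core X).mul_mem hr (h.X_le_core hx), ?_, ?_⟩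
  · rw [cj_mul, cj_eq_of_mem (h.XK hx), hgr]
  · rw [cj_mul, h2, cj_cj_inv]

omit [Finite G] in
/-- The stabilizer in `R` of an opposite is `R ∩ C(K)`. -/
theorem opp_stab (h : Long K X z) {Y : Subgroup G} (hgen : X ⊔ Y = K) (hXY : ∀ x ∈ X, cj x Y = Y → x = 1)
    {r : G} (hr : r ∈ core X) (hrY : cj r Y = Y) : ∀ k ∈ K, r * k = k * r := by
  have hrX : cj r X = X := by
    ext y
    rw [mem_cj]
    constructor
    · intro hy
      have h1 := core_commute hr hy
      have h2 : r * (r⁻¹ * y * r) = y * r := by group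
      rw [h2] at h1
      rw [mul_right_cancel h1]; exact hy
    · intro hy
      have h1 := core_commute hr hy
      have h2 : r⁻¹ * y * r = y := by rw [mul_assoc, ← h1]; group
      rwa [h2]
  have hrK : cj r K = K := by rw [← hgen, cj_sup, hrX, hrY]
  obtain ⟨x, hx, d, hd, hdK, h1⟩ := h.mem_core_of_commute hr (h.commute_of_normalizes hrK)
  have hYK : Y ≤ K := by rw [← hgen]; exact le_sup_right
  have hdY : cj d Y = Y := by
    ext y
    rw [mem_cj]
    constructor
    · intro hy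
      have h1 := hdK _ (hYK hy)
      have h2 : d * (d⁻¹ * y * d) = y * d := by group
      rw [h2] at h1
      rw [mul_right_cancel h1]; exact hy
    · intro hy
      have h1 := hdK _ (hYK hy)
      have h2 : d⁻¹ * y * d = y := by rw [mul_assoc, ← h1]; group
      rwa [h2]
  have h2 : x = 1 := by
    apply hXY x hx
    rw [h1, cj_mul, hdY] at hrY
    exact hrY
  rw [h1, h2, one_mul]
  exact hdK

end Long

end Cfsg.Agent.Cit.Parab
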