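import Mathlib
import Cfsg.Agent.Lib.CoprimeCommutator

/-!
# Weights of commuting involutions on an abelian section of odd order

`G` is a group, `N ≤ Q` are subgroups with `Q / N` abelian (`Sec Q N`), `z` is an involution
normalising `Q` and `N` (`Act Q N z`). Everything is stated elementwise, with conjugation
`z * x * z⁻¹` and without quotient groups.

* `eig s`: the elements of `Q` which are inverted (`s` true) resp. fixed (`s` false) by `z` mod `N`;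
* `exists_commute`: fixed points modulo `N` are images of fixed points (`|N|` odd);
* `W I` (for a family `z j`): the weight space, `z j = -1` for `j ∈ I` and `z j = 1` for `j ∉ I`;
* `le_of_W`: a subgroup containing all weight spaces contains `Q`;
* `W_inf_le`: the weight spaces are independent;
* `le_of_commutator` (T1): if `w` inverts `Q / N`, `w ∈ L` and `L = ⟨[L, w]⟩` then `Q = N`;
* `le_of_four` (T2): if `v₁`, `v₂`, `v₁ * v₂` are `L`-conjugate to `w` and `C_Q(w) ≤ N` then `Q = N`.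
-/

set_option autoImplicit false
set_option linter.style.haveILetI false

namespace Cfsg.Agent.Cit.Weights

open Subgroup
open scoped commutatorElement

variable {G : Type*} [Group G]

/-- `N ≤ Q` and `Q / N` is abelian. -/
structure Sec (Q N : Subgroup G) : Prop where
  le : N ≤ Q
  comm : ∀ x ∈ Q, ∀ y ∈ Q, x * y * x⁻¹ * y⁻¹ ∈ N

/-- `z` is an involution (or `1`) which normalises `Q` and `N`. -/
structure Act (Q N : Subgroup G) (z : G) : Prop where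
  sq : z * z = 1
  mQ : ∀ x ∈ Q, z * x * z⁻¹ ∈ Q
  mN : ∀ x ∈ N, z * x * z⁻¹ ∈ N

variable {Q N : Subgroup G}

/-! ### Computations modulo `N` -/

theorem Sec.of_commutator (h : N ≤ Q) (hc : ⁅Q, Q⁆ ≤ N) : Sec Q N :=
  ⟨h, fun x hx y hy => hc (by
    have h1 := Subgroup.commutator_mem_commutator hx hy
    rwa [commutatorElement_def] at h1)⟩

theorem Sec.self (Q : Subgroup G) : Sec Q ⁅Q, Q⁆ :=
  Sec.of_commutator (Subgroup.commutator_le_self Q) le_rfl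

theorem Sec.mono (h : Sec Q N) {U : Subgroup G} (h1 : N ≤ U) (h2 : U ≤ Q) : Sec U N :=
  ⟨h1, fun x hx y hy => h.comm x (h2 hx) y (h2 hy)⟩

theorem Sec.mono_right (h : Sec Q N) {A : Subgroup G} (h1 : N ≤ A) (h2 : A ≤ Q) : Sec Q A :=
  ⟨h2, fun x hx y hy => h1 (h.comm x hx y hy)⟩

theorem Act.of_normalizer {z : G} (hz : z * z = 1) (h1 : z ∈ normalizer (Q : Set G))
    (h2 : z ∈ normalizer (N : Set G)) : Act Q N z :=
  ⟨hz, fun x hx => (mem_normalizer_iff.mp h1 x).mp hx, fun x hx => (mem_normalizer_iff.mp h2 x).mp hx⟩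

theorem Act.inv_eq {z : G} (hz : Act Q N z) : z⁻¹ = z := inv_eq_of_mul_eq_one_left hz.sq

theorem Act.conj_conj {z : G} (hz : Act Q N z) (x : G) : z * (z * x * z⁻¹) * z⁻¹ = x := by
  have h1 : z * (z * x * z⁻¹) * z⁻¹ = (z * z) * x * (z * z)⁻¹ := by group
  rw [h1, hz.sq]; group

theorem Sec.conj_mem (h : Sec Q N) {x n : G} (hx : x ∈ Q) (hn : n ∈ N) : x * n * x⁻¹ ∈ N := by
  have h1 := N.mul_mem (h.comm x hx n (h.le hn)) hn
  have h2 : x * n * x⁻¹ * n⁻¹ * n = x * n * x⁻¹ := by group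
  rwa [h2] at h1

theorem Sec.conj_mem' (h : Sec Q N) {x n : G} (hx : x ∈ Q) (hn : n ∈ N) : x⁻¹ * n * x ∈ N := by
  simpa using h.conj_mem (Q.inv_mem hx) hn

theorem Sec.swap (h : Sec Q N) {a b c : G} (ha : a ∈ Q) (hb : b ∈ Q) (hm : a * b * c ∈ N) :
    b * a * c ∈ N := by
  have h1 := N.mul_mem (h.comm b hb a ha) hm
  have h2 : b * a * b⁻¹ * a⁻¹ * (a * b * c) = b * a * c := by group
  rwa [h2] at h1

theorem Sec.swap_two (h : Sec Q N) {a b : G} (ha : a ∈ Q) (hb : b ∈ Q) (hm : a * b ∈ N) :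
    b * a ∈ N := by
  have h1 := h.swap (c := 1) ha hb (by rwa [mul_one])
  rwa [mul_one] at h1

/-- An element of a subgroup of odd order is a power of its square. -/
theorem mem_of_sq_mem (hodd : Odd (Nat.card Q)) {S : Subgroup G} {x : G} (hx : x ∈ Q)
    (h : x * x ∈ S) : x ∈ S := by
  obtain ⟨m, hm⟩ := hodd
  have h1 : x ^ Nat.card Q = 1 := by
    have h2 : (⟨x, hx⟩ : Q) ^ Nat.card Q = 1 := pow_card_eq_one'
    have h3 := congrArg Subtype.val h2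
    rwa [SubgroupClass.coe_pow, OneMemClass.coe_one] at h3
  have h3 : (x * x) ^ (m + 1) = x := by
    rw [← pow_two, ← pow_mul, show 2 * (m + 1) = (2 * m + 1) + 1 by ring, pow_succ, ← hm, h1, one_mul]
  rw [← h3]
  exact S.pow_mem h _

/-- A subgroup `A ≥ N` of `Q` commutes with every subgroup of `Q`. -/
theorem exists_mul_of_mem_sup (h : Sec Q N) {A B : Subgroup G} (hNA : N ≤ A) (hA : A ≤ Q) (hB : B ≤ Q)
    {x : G} (hx : x ∈ A ⊔ B) : ∃ a ∈ A, ∃ b ∈ B, x = a * b := by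
  have key : ∀ a ∈ A, ∀ b ∈ B, b * a * b⁻¹ ∈ A := fun a ha b hb => by
    have h1 := A.mul_mem (hNA (h.comm b (hB hb) a (hA ha))) ha
    have h2 : b * a * b⁻¹ * a⁻¹ * a = b * a * b⁻¹ := by group
    rwa [h2] at h1
  let S : Subgroup G :=
    { carrier := {x | ∃ a ∈ A, ∃ b ∈ B, x = a * b}
      one_mem' := ⟨1, A.one_mem, 1, B.one_mem, by simp⟩
      mul_mem' := by
        rintro _ _ ⟨a, ha, b, hb, rfl⟩ ⟨a', ha', b', hb', rfl⟩
        exact ⟨a * (b * a' * b⁻¹), A.mul_mem ha (key a' ha' b hb), b * b', B.mul_mem hb hb', by group⟩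
      inv_mem' := by
        rintro _ ⟨a, ha, b, hb, rfl⟩
        refine ⟨b⁻¹ * a⁻¹ * b, ?_, b⁻¹, B.inv_mem hb, by group⟩
        simpa using key a⁻¹ (A.inv_mem ha) b⁻¹ (B.inv_mem hb) }
  have h1 : A ⊔ B ≤ S := sup_le (fun a ha => ⟨a, ha, 1, B.one_mem, by simp⟩)
    (fun b hb => ⟨1, A.one_mem, b, hb, by simp⟩)
  exact h1 hx

/-! ### The eigenspaces of one involution -/

/-- The elements of `Q` inverted (`s` true) resp. fixed (`s` false) by `z` modulo `N`. -/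
def eig (h : Sec Q N) {z : G} (hz : Act Q N z) (s : Prop) : Subgroup G where
  carrier := {x | x ∈ Q ∧ (s → z * x * z⁻¹ * x ∈ N) ∧ (¬ s → z * x * z⁻¹ * x⁻¹ ∈ N)}
  one_mem' := ⟨Q.one_mem, fun _ => by simp [N.one_mem], fun _ => by simp [N.one_mem]⟩
  mul_mem' := by
    rintro x y ⟨hx, hx1, hx2⟩ ⟨hy, hy1, hy2⟩
    refine ⟨Q.mul_mem hx hy, fun hs => ?_, fun hs => ?_⟩
    · have h1 := h.conj_mem (hz.mQ x hx) (h.comm _ (hz.mQ y hy) x hx)
      have h2 := N.mul_mem h1 (N.mul_mem (hx1 hs) (hy1 hs))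
      have h3 : z * x * z⁻¹ * (z * y * z⁻¹ * x * (z * y * z⁻¹)⁻¹ * x⁻¹) * (z * x * z⁻¹)⁻¹ *
          (z * x * z⁻¹ * x * (z * y * z⁻¹ * y)) = z * (x * y) * z⁻¹ * (x * y) := by group
      rwa [h3] at h2
    · have h1 := h.conj_mem (hz.mQ x hx) (hy2 hs)
      have h2 := N.mul_mem h1 (hx2 hs)
      have h3 : z * x * z⁻¹ * (z * y * z⁻¹ * y⁻¹) * (z * x * z⁻¹)⁻¹ * (z * x * z⁻¹ * x⁻¹) =
          z * (x * y) * z⁻¹ * (x * y)⁻¹ := by group
      rwa [h3] at h2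
  inv_mem' := by
    rintro x ⟨hx, hx1, hx2⟩
    refine ⟨Q.inv_mem hx, fun hs => ?_, fun hs => ?_⟩
    · have h1 := N.inv_mem (h.conj_mem hx (hx1 hs))
      have h3 : (x * (z * x * z⁻¹ * x) * x⁻¹)⁻¹ = z * x⁻¹ * z⁻¹ * x⁻¹ := by group
      rwa [h3] at h1
    · have h1 := h.conj_mem' hx (N.inv_mem (hx2 hs))
      have h3 : x⁻¹ * (z * x * z⁻¹ * x⁻¹)⁻¹ * x = z * x⁻¹ * z⁻¹ * x⁻¹⁻¹ := by group
      rwa [h3] at h1

theorem mem_eig {h : Sec Q N} {z : G} {hz : Act Q N z} {s : Prop} {x : G} :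
    x ∈ eig h hz s ↔ x ∈ Q ∧ (s → z * x * z⁻¹ * x ∈ N) ∧ (¬ s → z * x * z⁻¹ * x⁻¹ ∈ N) := Iff.rfl

theorem mem_eig_true {h : Sec Q N} {z : G} {hz : Act Q N z} {s : Prop} (hs : s) {x : G} :
    x ∈ eig h hz s ↔ x ∈ Q ∧ z * x * z⁻¹ * x ∈ N :=
  ⟨fun h => ⟨h.1, h.2.1 hs⟩, fun h => ⟨h.1, fun _ => h.2, fun h1 => (h1 hs).elim⟩⟩

theorem mem_eig_false {h : Sec Q N} {z : G} {hz : Act Q N z} {s : Prop} (hs : ¬ s) {x : G} :
    x ∈ eig h hz s ↔ x ∈ Q ∧ z * x * z⁻¹ * x⁻¹ ∈ N :=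
  ⟨fun h => ⟨h.1, h.2.2 hs⟩, fun h => ⟨h.1, fun h1 => (hs h1).elim, fun _ => h.2⟩⟩

theorem eig_le {h : Sec Q N} {z : G} {hz : Act Q N z} {s : Prop} : eig h hz s ≤ Q := fun _ hx => hx.1

theorem le_eig {h : Sec Q N} {z : G} {hz : Act Q N z} {s : Prop} : N ≤ eig h hz s := fun n hn =>
  ⟨h.le hn, fun _ => N.mul_mem (hz.mN n hn) hn, fun _ => N.mul_mem (hz.mN n hn) (N.inv_mem hn)⟩

theorem mul_conj_mem_eig {h : Sec Q N} {z : G} {hz : Act Q N z} {s : Prop} (hs : ¬ s) {x : G} (hx : x ∈ Q) :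
    x * (z * x * z⁻¹) ∈ eig h hz s := by
  rw [mem_eig_false hs]
  refine ⟨Q.mul_mem hx (hz.mQ x hx), ?_⟩
  have h1 : z * (x * (z * x * z⁻¹)) * z⁻¹ * (x * (z * x * z⁻¹))⁻¹ =
      (z * x * z⁻¹) * (z * (z * x * z⁻¹) * z⁻¹) * (z * x * z⁻¹)⁻¹ * x⁻¹ := by group
  rw [h1, hz.conj_conj]
  exact h.comm _ (hz.mQ x hx) x hx

theorem mul_inv_conj_mem_eig {h : Sec Q N} {z : G} {hz : Act Q N z} {s : Prop} (hs : s) {x : G} (hx : x ∈ Q) :
    x * (z * x * z⁻¹)⁻¹ ∈ eig h hz s := by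
  rw [mem_eig_true hs]
  refine ⟨Q.mul_mem hx (Q.inv_mem (hz.mQ x hx)), ?_⟩
  have h1 : z * (x * (z * x * z⁻¹)⁻¹) * z⁻¹ * (x * (z * x * z⁻¹)⁻¹) =
      (z * x * z⁻¹) * (z * (z * x * z⁻¹) * z⁻¹)⁻¹ * x * (z * x * z⁻¹)⁻¹ := by group
  rw [h1, hz.conj_conj, mul_assoc (z * x * z⁻¹), inv_mul_cancel, mul_one, mul_inv_cancel]
  exact N.one_mem

/-- the square of `x` is a product of a fixed and of an inverted element, modulo `N` -/
theorem sq_mem (h : Sec Q N) {z : G} (hz : Act Q N z) {S : Subgroup G} (hNS : N ≤ S) {x : G} (hx : x ∈ Q)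
    (h1 : x * (z * x * z⁻¹) ∈ S) (h2 : x * (z * x * z⁻¹)⁻¹ ∈ S) : x * x ∈ S := by
  have h3 := S.mul_mem (S.mul_mem h1 h2) (hNS (h.comm _ (hz.mQ x hx) x⁻¹ (Q.inv_mem hx)))
  have h4 : x * (z * x * z⁻¹) * (x * (z * x * z⁻¹)⁻¹) *
      (z * x * z⁻¹ * x⁻¹ * (z * x * z⁻¹)⁻¹ * x⁻¹⁻¹) = x * x := by group
  rwa [h4] at h3

theorem eig_inf_le (h : Sec Q N) (hodd : Odd (Nat.card Q)) {z : G} (hz : Act Q N z) {s t : Prop}
    (hst : s ↔ ¬ t) {x : G} (h1 : x ∈ eig h hz s) (h2 : x ∈ eig h hz t) : x ∈ N := by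
  have key : ∀ x : G, x ∈ Q → z * x * z⁻¹ * x ∈ N → z * x * z⁻¹ * x⁻¹ ∈ N → x ∈ N := by
    intro x hx h1 h2
    refine mem_of_sq_mem hodd hx ?_
    have h3 := N.mul_mem (N.inv_mem h2) h1
    have h4 : (z * x * z⁻¹ * x⁻¹)⁻¹ * (z * x * z⁻¹ * x) = x * x := by group
    rwa [h4] at h3
  by_cases ht : t
  · have hs : ¬ s := fun h3 => (hst.mp h3) ht
    exact key x h1.1 (h2.2.1 ht) (h1.2.2 hs)
  · exact key x h1.1 (h1.2.1 (hst.mpr ht)) (h2.2.2 ht)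

theorem conj_mem_eig {h : Sec Q N} {z w : G} {hz : Act Q N z} (hw : Act Q N w) (hc : z * w = w * z)
    {s : Prop} {x : G} (hx : x ∈ eig h hz s) : w * x * w⁻¹ ∈ eig h hz s := by
  obtain ⟨h1, h2, h3⟩ := hx
  have hzw : z * (w * x * w⁻¹) * z⁻¹ = w * (z * x * z⁻¹) * w⁻¹ := by
    have h4 : z * (w * x * w⁻¹) * z⁻¹ = (z * w) * x * (z * w)⁻¹ := by group
    rw [h4, hc]; group
  refine ⟨hw.mQ x h1, fun hs => ?_, fun hs => ?_⟩
  · have h5 := hw.mN _ (h2 hs)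
    rw [hzw]
    have h6 : w * (z * x * z⁻¹ * x) * w⁻¹ = w * (z * x * z⁻¹) * w⁻¹ * (w * x * w⁻¹) := by group
    rwa [← h6]
  · have h5 := hw.mN _ (h3 hs)
    rw [hzw]
    have h6 : w * (z * x * z⁻¹ * x⁻¹) * w⁻¹ = w * (z * x * z⁻¹) * w⁻¹ * (w * x * w⁻¹)⁻¹ := by group
    rwa [← h6]

/-! ### Fixed points -/

/-- Fixed points modulo `N` are images of fixed points. -/
theorem exists_commute (hoddN : Odd (Nat.card N)) {z : G} (hz : z * z = 1) (hzN : ∀ x ∈ N, z * x * z⁻¹ ∈ N)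
    {x : G} (hx : z * x * z⁻¹ * x⁻¹ ∈ N) : ∃ n ∈ N, Commute (n * x) z := by
  classical
  have hfin : Finite N := Nat.finite_of_card_ne_zero (by rcases hoddN with ⟨m, hm⟩; omega)
  -- `z` acts on the coset `N x`
  have hzi : z⁻¹ = z := inv_eq_of_mul_eq_one_left hz
  let f : N → N := fun n => ⟨z * (n : G) * z⁻¹ * (z * x * z⁻¹ * x⁻¹), N.mul_mem (hzN _ n.2) hx⟩
  have hf : ∀ n, f (f n) = n := by
    intro n
    apply Subtype.ext
    change z * (z * (n : G) * z⁻¹ * (z * x * z⁻¹ * x⁻¹)) * z⁻¹ * (z * x * z⁻¹ * x⁻¹) = n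
    have h1 : z * (z * (n : G) * z⁻¹ * (z * x * z⁻¹ * x⁻¹)) * z⁻¹ * (z * x * z⁻¹ * x⁻¹) =
        (z * z) * (n : G) * x * (z * z)⁻¹ * x⁻¹ := by group
    rw [h1, hz]; group
  have hinv : Function.Involutive f := hf
  obtain ⟨n, hn⟩ : ∃ n, f n = n := by
    letI := Fintype.ofFinite N
    have : Fact (Nat.Prime 2) := ⟨Nat.prime_two⟩
    have h1 : (hinv.toPerm f) ^ 2 ^ 1 = 1 := by
      ext n
      simp [pow_two, hf n]
    obtain ⟨n, hn⟩ := Equiv.Perm.exists_fixed_point_of_prime (p := 2) (n := 1) (σ := hinv.toPerm f)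
      (by
        rw [← Nat.card_eq_fintype_card]
        exact fun h => (Nat.not_even_iff_odd.mpr hoddN) (even_iff_two_dvd.mpr h)) h1
    exact ⟨n, hn⟩
  refine ⟨n, n.2, ?_⟩
  have h1 : z * (n : G) * z⁻¹ * (z * x * z⁻¹ * x⁻¹) = n := congrArg Subtype.val hn
  have h2 : z * ((n : G) * x) * z⁻¹ = n * x := by
    have h3 : z * ((n : G) * x) * z⁻¹ = z * (n : G) * z⁻¹ * (z * x * z⁻¹ * x⁻¹) * x := by group
    rw [h3, h1]
  exact (mul_inv_eq_iff_eq_mul.mp h2).symm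

/-- An element all of whose `w`-fixed translates lie in `N`: `w` inverts `Q` modulo `N`. -/
theorem inverts_of_fix (h : Sec Q N) (hodd : Odd (Nat.card N)) {w : G} (hw : Act Q N w)
    (hfix : ∀ x ∈ Q, Commute x w → x ∈ N) : ∀ x ∈ Q, w * x * w⁻¹ * x ∈ N := by
  intro x hx
  have h1 := (mem_eig_false (fun h : False => h)).mp
    (mul_conj_mem_eig (h := h) (hz := hw) (s := False) (fun h => h) hx)
  obtain ⟨n, hn, hc⟩ := exists_commute hodd hw.sq hw.mN h1.2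
  have h2 := hfix _ (Q.mul_mem (h.le hn) h1.1) hc
  have h3 : x * (w * x * w⁻¹) ∈ N := by
    have h4 := N.mul_mem (N.inv_mem hn) h2
    rwa [inv_mul_cancel_left] at h4
  exact h.swap_two hx (hw.mQ x hx) h3

theorem card_odd_of_le {A B : Subgroup G} (hodd : Odd (Nat.card B)) (h : A ≤ B) : Odd (Nat.card A) :=
  hodd.of_dvd_nat (Subgroup.card_dvd_of_le h)

/-- If `w` inverts `Q / N`, the fixed points of `w` in `Q` lie in `N`. -/
theorem mem_of_commute (hodd : Odd (Nat.card Q)) {w : G}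
    (hw : ∀ x ∈ Q, w * x * w⁻¹ * x ∈ N) {x : G} (hx : x ∈ Q) (hc : Commute x w) : x ∈ N := by
  refine mem_of_sq_mem hodd hx ?_
  have h1 := hw x hx
  rwa [← hc.eq, mul_assoc x, mul_inv_cancel, mul_one] at h1

/-- If `Q = [Q, w]` then `w` inverts `Q` modulo every `N` with `Q / N` abelian. -/
theorem inverts_of_commutator (h : Sec Q N) {w : G} (hw : Act Q N w) (hgen : ⁅Q, zpowers w⁆ = Q) :
    ∀ x ∈ Q, w * x * w⁻¹ * x ∈ N := by
  have hkey : Q ≤ eig h hw True := by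
    conv_lhs => rw [← hgen]
    rw [Subgroup.commutator_le]
    intro x hx y hy
    obtain ⟨k, rfl⟩ := mem_zpowers_iff.mp hy
    have hw2 : w ^ (2 : ℤ) = 1 := by rw [zpow_two]; exact hw.sq
    rcases Int.even_or_odd k with hk | hk
    · obtain ⟨m, rfl⟩ := hk
      have h1 : w ^ (m + m) = 1 := by rw [← two_mul, zpow_mul, hw2, one_zpow]
      rw [h1, commutatorElement_one_right]
      exact one_mem _
    · obtain ⟨m, rfl⟩ := hk
      have h1 : w ^ (2 * m + 1) = w := by rw [zpow_add, zpow_mul, hw2, one_zpow, one_mul, zpow_one]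
      have h2 := mul_inv_conj_mem_eig (h := h) (hz := hw) trivial hx
      rw [h1, commutatorElement_def]
      have h3 : x * (w * x * w⁻¹)⁻¹ = x * w * x⁻¹ * w⁻¹ := by group
      rwa [h3] at h2
  intro x hx
  exact ((mem_eig_true trivial).mp (hkey hx)).2

/-! ### The weight spaces of a family -/

section Family

variable {ι : Type*} {z : ι → G}

/-- The weight space: `z j` is `-1` for `j ∈ I` and `1` for `j ∉ I` (modulo `N`). -/
def W (h : Sec Q N) (hz : ∀ j, Act Q N (z j)) (I : Set ι) : Subgroup G :=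
  Q ⊓ ⨅ j, eig h (hz j) (j ∈ I)

theorem mem_W {h : Sec Q N} {hz : ∀ j, Act Q N (z j)} {I : Set ι} {x : G} :
    x ∈ W h hz I ↔ x ∈ Q ∧ ∀ j, x ∈ eig h (hz j) (j ∈ I) := by
  rw [W, Subgroup.mem_inf, Subgroup.mem_iInf]

theorem mem_W' {h : Sec Q N} {hz : ∀ j, Act Q N (z j)} {I : Set ι} {x : G} :
    x ∈ W h hz I ↔ x ∈ Q ∧ (∀ j ∈ I, z j * x * (z j)⁻¹ * x ∈ N) ∧
      ∀ j, j ∉ I → z j * x * (z j)⁻¹ * x⁻¹ ∈ N := by
  rw [mem_W]
  constructor
  · rintro ⟨h1, h2⟩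
    exact ⟨h1, fun j hj => (h2 j).2.1 hj, fun j hj => (h2 j).2.2 hj⟩
  · rintro ⟨h1, h2, h3⟩
    exact ⟨h1, fun j => ⟨h1, h2 j, h3 j⟩⟩

theorem W_le {h : Sec Q N} {hz : ∀ j, Act Q N (z j)} {I : Set ι} : W h hz I ≤ Q := inf_le_left

theorem le_W {h : Sec Q N} {hz : ∀ j, Act Q N (z j)} {I : Set ι} : N ≤ W h hz I :=
  le_inf h.le (le_iInf fun _ => le_eig)

/-- A subgroup containing all weight spaces contains `Q`. -/
theorem le_of_W [Finite ι] (h : Sec Q N) (hz : ∀ j, Act Q N (z j)) (hodd : Odd (Nat.card Q))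
    (hc : ∀ i j, z i * z j = z j * z i) {S : Subgroup G} (hS : ∀ I, W h hz I ≤ S) : Q ≤ S := by
  classical
  letI := Fintype.ofFinite ι
  have hNS : N ≤ S := le_W.trans (hS ∅)
  have key : ∀ T : Finset ι, (∀ I : Set ι, ∀ x ∈ Q, (∀ j ∈ T, x ∈ eig h (hz j) (j ∈ I)) → x ∈ S) →
      ∀ x ∈ Q, x ∈ S := by
    intro T
    induction T using Finset.induction_on with
    | empty => exact fun hT x hx => hT ∅ x hx (fun j hj => absurd hj (Finset.notMem_empty j))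
    | insert j T hj ih =>
      intro hT
      apply ih
      intro I x hx hI
      refine mem_of_sq_mem hodd hx (sq_mem h (hz j) hNS hx ?_ ?_)
      · refine hT (I \ {j}) _ (Q.mul_mem hx ((hz j).mQ x hx)) fun k hk => ?_
        by_cases hkj : k = j
        · subst hkj
          exact mul_conj_mem_eig (by simp) hx
        · have hkT : k ∈ T := Finset.mem_of_mem_insert_of_ne hk hkj
          have h1 : (k ∈ I \ {j}) ↔ k ∈ I := by simp [hkj]
          rw [propext h1]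
          exact mul_mem (hI k hkT) (conj_mem_eig (hz j) (hc k j) (hI k hkT))
      · refine hT (insert j I) _ (Q.mul_mem hx (Q.inv_mem ((hz j).mQ x hx))) fun k hk => ?_
        by_cases hkj : k = j
        · subst hkj
          exact mul_inv_conj_mem_eig (by simp) hx
        · have hkT : k ∈ T := Finset.mem_of_mem_insert_of_ne hk hkj
          have h1 : (k ∈ insert j I) ↔ k ∈ I := by simp [hkj]
          rw [propext h1]
          exact mul_mem (hI k hkT) (inv_mem (conj_mem_eig (hz j) (hc k j) (hI k hkT)))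
  exact key Finset.univ fun I x hx hI => hS I (mem_W.mpr ⟨hx, fun j => hI j (Finset.mem_univ j)⟩)

/-- The weight spaces are independent modulo `N`. -/
theorem W_inf_le [Finite ι] (h : Sec Q N) (hz : ∀ j, Act Q N (z j)) (hodd : Odd (Nat.card Q))
    {𝒮 : Set (Set ι)} {I : Set ι} (hI : I ∉ 𝒮) {x : G} (hx : x ∈ W h hz I)
    (hx' : x ∈ ⨆ J ∈ 𝒮, W h hz J) : x ∈ N := by
  classical
  letI := Fintype.ofFinite ι
  have key : ∀ T : Finset ι, x ∈ N ⊔ ⨆ J ∈ {J | J ∈ 𝒮 ∧ ∀ j ∈ T, (j ∈ J ↔ j ∈ I)}, W h hz J := by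
    intro T
    induction T using Finset.induction_on with
    | empty =>
      have h1 : (⨆ J ∈ 𝒮, W h hz J) ≤
          ⨆ J ∈ {J | J ∈ 𝒮 ∧ ∀ j ∈ (∅ : Finset ι), (j ∈ J ↔ j ∈ I)}, W h hz J :=
        iSup₂_le fun J hJ => le_iSup₂_of_le J ⟨hJ, fun j hj => absurd hj (Finset.notMem_empty j)⟩ le_rfl
      exact (le_sup_right : _ ≤ N ⊔ _) (h1 hx')
    | insert j T hj ih =>
      set A : Subgroup G := N ⊔ ⨆ J ∈ {J | J ∈ 𝒮 ∧ ∀ k ∈ insert j T, (k ∈ J ↔ k ∈ I)}, W h hz J with hA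
      set B : Subgroup G := ⨆ J ∈ {J | J ∈ 𝒮 ∧ ¬ (j ∈ J ↔ j ∈ I)}, W h hz J with hB
      have hAe : A ≤ eig h (hz j) (j ∈ I) := by
        refine sup_le le_eig (iSup₂_le fun J hJ y hy => ?_)
        have h1 := (mem_W.mp hy).2 j
        rwa [propext (hJ.2 j (Finset.mem_insert_self j T))] at h1
      have hBe : B ≤ eig h (hz j) (j ∉ I) := by
        refine iSup₂_le fun J hJ y hy => ?_
        have h1 := (mem_W.mp hy).2 j
        have h2 : (j ∈ J) ↔ (j ∉ I) := by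
          have := hJ.2
          tauto
        rwa [propext h2] at h1
      have hle : (N ⊔ ⨆ J ∈ {J | J ∈ 𝒮 ∧ ∀ k ∈ T, (k ∈ J ↔ k ∈ I)}, W h hz J) ≤ A ⊔ B := by
        refine sup_le (le_sup_left.trans le_sup_left) (iSup₂_le fun J hJ => ?_)
        by_cases h1 : j ∈ J ↔ j ∈ I
        · refine le_trans ?_ le_sup_left
          rw [hA]
          refine le_trans ?_ le_sup_right
          refine le_iSup₂_of_le J ⟨hJ.1, fun k hk => ?_⟩ le_rfl
          rcases Finset.mem_insert.mp hk with rfl | hk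
          · exact h1
          · exact hJ.2 k hk
        · refine le_trans ?_ le_sup_right
          rw [hB]
          exact le_iSup₂_of_le J ⟨hJ.1, h1⟩ le_rfl
      obtain ⟨a, ha, b, hb, hab⟩ := exists_mul_of_mem_sup h le_sup_left (hAe.trans eig_le)
        (hBe.trans eig_le) (hle ih)
      have hxe := (mem_W.mp hx).2 j
      have hbe : b ∈ eig h (hz j) (j ∈ I) := by
        have h1 : b = a⁻¹ * x := by rw [hab]; group
        rw [h1]
        exact mul_mem (inv_mem (hAe ha)) hxe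
      have hbN : b ∈ N := eig_inf_le h hodd (hz j) (by tauto) hbe (hBe hb)
      rw [hab]
      exact A.mul_mem ha ((le_sup_left : N ≤ A) hbN)
  have h1 := key Finset.univ
  have h2 : {J | J ∈ 𝒮 ∧ ∀ j ∈ (Finset.univ : Finset ι), (j ∈ J ↔ j ∈ I)} = ∅ := by
    ext J
    simp only [Finset.mem_univ, forall_const, Set.mem_ofPred_eq, Set.mem_empty_iff_false, iff_false, not_and]
    intro hJ hJI
    have h3 : J = I := Set.ext hJI
    exact hI (h3 ▸ hJ)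
  rw [h2] at h1
  simpa using h1

/-- An element fixed modulo `N` by all `z l`, `l ≠ k`, is a product of elements of weight `∅`, `{k}`. -/
theorem mem_of_almost_fixed (h : Sec Q N) (hz : ∀ j, Act Q N (z j)) (hodd : Odd (Nat.card Q))
    (hc : ∀ i j, z i * z j = z j * z i) (k : ι) {x : G} (hx : x ∈ Q)
    (hfix : ∀ l, l ≠ k → z l * x * (z l)⁻¹ * x⁻¹ ∈ N) : x ∈ W h hz ∅ ⊔ W h hz {k} := by
  refine mem_of_sq_mem hodd hx (sq_mem h (hz k) (le_W.trans le_sup_left) hx ?_ ?_)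
  · refine (le_sup_left : W h hz ∅ ≤ _) (mem_W.mpr ⟨Q.mul_mem hx ((hz k).mQ x hx), fun l => ?_⟩)
    by_cases hl : l = k
    · subst hl
      exact mul_conj_mem_eig (by simp) hx
    · have h1 : x ∈ eig h (hz l) (l ∈ (∅ : Set ι)) := (mem_eig_false (by simp)).mpr ⟨hx, hfix l hl⟩
      exact mul_mem h1 (conj_mem_eig (hz k) (hc l k) h1)
  · refine (le_sup_right : W h hz {k} ≤ _) (mem_W.mpr ⟨Q.mul_mem hx (Q.inv_mem ((hz k).mQ x hx)), fun l => ?_⟩)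
    by_cases hl : l = k
    · subst hl
      exact mul_inv_conj_mem_eig (by simp) hx
    · have h1 : x ∈ eig h (hz l) (l ∈ ({k} : Set ι)) := (mem_eig_false (by simpa using hl)).mpr ⟨hx, hfix l hl⟩
      exact mul_mem h1 (inv_mem (conj_mem_eig (hz k) (hc l k) h1))

end Family

/-! ### Groups acting on a section which is inverted by an involution -/

/-- If `w` inverts `Q / N` then so does every conjugate of `w` by an element normalising `Q` and `N`. -/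
theorem inverts_conj {w l : G} (hlQ : l ∈ normalizer (Q : Set G)) (hlN : l ∈ normalizer (N : Set G))
    (hw : ∀ x ∈ Q, w * x * w⁻¹ * x ∈ N) : ∀ x ∈ Q, (l * w * l⁻¹) * x * (l * w * l⁻¹)⁻¹ * x ∈ N := by
  intro x hx
  have h1 : l⁻¹ * x * l ∈ Q := by
    have h2 := (mem_normalizer_iff.mp ((normalizer (Q : Set G)).inv_mem hlQ) x).mp hx
    rwa [inv_inv] at h2
  have h3 := (mem_normalizer_iff.mp hlN _).mp (hw _ h1)
  have h4 : l * (w * (l⁻¹ * x * l) * w⁻¹ * (l⁻¹ * x * l)) * l⁻¹ =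
      (l * w * l⁻¹) * x * (l * w * l⁻¹)⁻¹ * x := by group
  rwa [h4] at h3

/-- (T1) If `w ∈ L` inverts `Q / N` and `L = ⟨[L, w]⟩` then `Q = N`. -/
theorem le_of_commutator (h : Sec Q N) (hodd : Odd (Nat.card Q)) {L : Subgroup G}
    (hLQ : L ≤ normalizer (Q : Set G)) (hLN : L ≤ normalizer (N : Set G)) {w : G} (hwL : w ∈ L)
    (hL : L ≤ closure {x | ∃ l ∈ L, x = ⁅l, w⁆}) (hw : ∀ x ∈ Q, w * x * w⁻¹ * x ∈ N) : Q ≤ N := by
  -- the elements of `L` acting trivially on `Q / N`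
  have hLQ' : ∀ l ∈ L, ∀ x ∈ Q, l * x * l⁻¹ ∈ Q := fun l hl x hx => (mem_normalizer_iff.mp (hLQ hl) x).mp hx
  have hLN' : ∀ l ∈ L, ∀ x ∈ N, l * x * l⁻¹ ∈ N := fun l hl x hx => (mem_normalizer_iff.mp (hLN hl) x).mp hx
  let C : Subgroup G :=
    { carrier := {g | g ∈ L ∧ ∀ x ∈ Q, g * x * g⁻¹ * x⁻¹ ∈ N}
      one_mem' := ⟨L.one_mem, fun x _ => by simp [N.one_mem]⟩
      mul_mem' := by
        rintro a b ⟨ha, ha'⟩ ⟨hb, hb'⟩
        refine ⟨L.mul_mem ha hb, fun x hx => ?_⟩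
        have h1 := N.mul_mem (ha' _ (hLQ' b hb x hx)) (hb' x hx)
        have h2 : a * (b * x * b⁻¹) * a⁻¹ * (b * x * b⁻¹)⁻¹ * (b * x * b⁻¹ * x⁻¹) =
            a * b * x * (a * b)⁻¹ * x⁻¹ := by group
        rwa [h2] at h1
      inv_mem' := by
        rintro a ⟨ha, ha'⟩
        refine ⟨L.inv_mem ha, fun x hx => ?_⟩
        have h0 : a⁻¹ * x * a ∈ Q := by simpa using hLQ' a⁻¹ (L.inv_mem ha) x hx
        have h1 := N.inv_mem (ha' _ h0)
        have h2 : (a * (a⁻¹ * x * a) * a⁻¹ * (a⁻¹ * x * a)⁻¹)⁻¹ = a⁻¹ * x * a⁻¹⁻¹ * x⁻¹ := by group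
        rwa [h2] at h1 }
  have hinv : ∀ x ∈ Q, w⁻¹ * x * w⁻¹⁻¹ * x ∈ N := by
    intro x hx
    have h0 : w⁻¹ * x * w ∈ Q := by simpa using hLQ' w⁻¹ (L.inv_mem hwL) x hx
    have h1 := hw _ h0
    have h2 : w * (w⁻¹ * x * w) * w⁻¹ * (w⁻¹ * x * w) = x * (w⁻¹ * x * w⁻¹⁻¹) := by group
    rw [h2] at h1
    exact h.swap_two hx (by simpa using h0) h1
  have hcl : closure {x | ∃ l ∈ L, x = ⁅l, w⁆} ≤ C := by
    rw [closure_le]
    rintro _ ⟨l, hl, rfl⟩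
    refine ⟨?_, fun x hx => ?_⟩
    · rw [commutatorElement_def]
      exact L.mul_mem (L.mul_mem (L.mul_mem hl hwL) (L.inv_mem hl)) (L.inv_mem hwL)
    · have h0 : w⁻¹ * x * w⁻¹⁻¹ ∈ Q := hLQ' w⁻¹ (L.inv_mem hwL) x hx
      have h1 := inverts_conj (hLQ hl) (hLN hl) hw _ h0
      have h2 := N.mul_mem h1 (N.inv_mem (h.swap_two h0 hx (hinv x hx)))
      rw [commutatorElement_def]
      have h3 : (l * w * l⁻¹) * (w⁻¹ * x * w⁻¹⁻¹) * (l * w * l⁻¹)⁻¹ * (w⁻¹ * x * w⁻¹⁻¹) *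
          (x * (w⁻¹ * x * w⁻¹⁻¹))⁻¹ = l * w * l⁻¹ * w⁻¹ * x * (l * w * l⁻¹ * w⁻¹)⁻¹ * x⁻¹ := by group
      rwa [h3] at h2
  intro x hx
  have h1 := (hcl (hL hwL)).2 x hx
  refine mem_of_sq_mem hodd hx ?_
  have h2 := N.mul_mem (N.inv_mem h1) (hw x hx)
  have h3 : (w * x * w⁻¹ * x⁻¹)⁻¹ * (w * x * w⁻¹ * x) = x * x := by group
  rwa [h3] at h2

/-- If `a`, `b` and `a * b` invert `Q / N` then `Q = N`. -/
theorem le_of_three (h : Sec Q N) (hodd : Odd (Nat.card Q)) {a b : G} (haN : ∀ x ∈ N, a * x * a⁻¹ ∈ N)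
    (haQ : ∀ x ∈ Q, a * x * a⁻¹ ∈ Q)
    (ha : ∀ x ∈ Q, a * x * a⁻¹ * x ∈ N) (hb : ∀ x ∈ Q, b * x * b⁻¹ * x ∈ N)
    (hab : ∀ x ∈ Q, (a * b) * x * (a * b)⁻¹ * x ∈ N) : Q ≤ N := by
  intro x hx
  refine mem_of_sq_mem hodd hx ?_
  have h1 := haN _ (hb x hx)
  have h2 := N.mul_mem (N.inv_mem h1) (hab x hx)
  have h3 : (a * (b * x * b⁻¹ * x) * a⁻¹)⁻¹ * (a * b * x * (a * b)⁻¹ * x) = (a * x * a⁻¹)⁻¹ * x := by group
  rw [h3] at h2
  -- `(a x a⁻¹)⁻¹ x ∈ N` and `a x a⁻¹ x ∈ N`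
  have h4 := N.mul_mem (ha x hx) (N.inv_mem (N.inv_mem h2))
  have h5 : a * x * a⁻¹ * x * ((a * x * a⁻¹)⁻¹ * x) ∈ N := by simpa using h4
  have h6 := h.conj_mem' (haQ x hx) h5
  have h7 : (a * x * a⁻¹)⁻¹ * (a * x * a⁻¹ * x * ((a * x * a⁻¹)⁻¹ * x)) * (a * x * a⁻¹) =
      x * (a * x * a⁻¹)⁻¹ * (x * (a * x * a⁻¹)) := by group
  rw [h7] at h6
  have h8 := h.swap hx (Q.inv_mem (haQ x hx)) (c := x * (a * x * a⁻¹)) h6
  have h9 := h.conj_mem (haQ x hx) h8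
  have h10 : a * x * a⁻¹ * ((a * x * a⁻¹)⁻¹ * x * (x * (a * x * a⁻¹))) * (a * x * a⁻¹)⁻¹ = x * x := by group
  rwa [h10] at h9

/-- (T2) If `v₁`, `v₂`, `v₁ * v₂` are conjugate under `L` to an involution `w` whose fixed points in `Q`
lie in `N`, then `Q = N`. -/
theorem le_of_four (h : Sec Q N) (hodd : Odd (Nat.card Q)) {L : Subgroup G}
    (hLQ : L ≤ normalizer (Q : Set G)) (hLN : L ≤ normalizer (N : Set G)) {w v₁ v₂ : G} (hwL : w ∈ L)
    (hw2 : w * w = 1) (h1 : ∃ l ∈ L, v₁ = l * w * l⁻¹) (h2 : ∃ l ∈ L, v₂ = l * w * l⁻¹)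
    (h3 : ∃ l ∈ L, v₁ * v₂ = l * w * l⁻¹) (hfix : ∀ x ∈ Q, Commute x w → x ∈ N) : Q ≤ N := by
  have hw := inverts_of_fix h (card_odd_of_le hodd h.le) (Act.of_normalizer hw2 (hLQ hwL) (hLN hwL)) hfix
  obtain ⟨l₁, hl₁, rfl⟩ := h1
  obtain ⟨l₂, hl₂, rfl⟩ := h2
  obtain ⟨l₃, hl₃, h3⟩ := h3
  have hm : l₁ * w * l₁⁻¹ ∈ L := L.mul_mem (L.mul_mem hl₁ hwL) (L.inv_mem hl₁)
  refine le_of_three h hodd (a := l₁ * w * l₁⁻¹) (b := l₂ * w * l₂⁻¹)
    (fun x hx => (mem_normalizer_iff.mp (hLN hm) x).mp hx)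
    (fun x hx => (mem_normalizer_iff.mp (hLQ hm) x).mp hx)
    (inverts_conj (hLQ hl₁) (hLN hl₁) hw) (inverts_conj (hLQ hl₂) (hLN hl₂) hw) ?_
  rw [h3]
  exact inverts_conj (hLQ hl₃) (hLN hl₃) hw

end Cfsg.Agent.Cit.Weights
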