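import Mathlib
import Cfsg.Agent.Lib.FrattiniBasic
import Cfsg.Agent.Cit.Weights

/-!
# The parity argument for the group `Q_X` of a long root group (helper530, bb #5206 (B))

`Pre` collects the facts on `Q = Q_{X₁}` which come from the known centralisers, for a frame with first
index `1` and the set `ι` of the other indices; `Par` is `Pre` together with `full`: no weight of full
support. Type `C`: `A = X`. Type `BC`: `A = X_{e₁}`, `X = X_{2 e₁}`.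

* `Par.sup_eq` (O1), `Par.commutator_le` (O2), `Par.inf_centralizer` (O3), `Par.mem_M_of_inv` (O4),
  `Par.mem_M` (O5), `Par.mem_A` (O6), `Par.mem_sup_of_commute` (O7);
* `Pre.full_of_commutator`: `full` in type `C` (`r = 3` or `r ≥ 5`);
* `Pre.full_of_four`: `full` in type `BC`, `r ≥ 4`; `Pre.full_of_four_two`: type `BC`, `r = 3`.
-/

set_option autoImplicit false
set_option linter.style.haveILetI false
set_option linter.unusedSectionVars false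

namespace Cfsg.Agent.Cit.Weights

open Subgroup
open scoped commutatorElement

variable {G : Type*} [Group G]

/-! ### Nilpotent groups -/

theorem le_of_le_sup_commutator {p : ℕ} [Fact p.Prime] {Q : Subgroup G} [Finite Q] (hQ : IsPGroup p Q)
    {D X : Subgroup G} (hXQ : X ≤ Q) (hDQ : D ≤ Q) (hX : ∀ q ∈ Q, ∀ x ∈ X, q * x * q⁻¹ ∈ X)
    (h : D ≤ X ⊔ ⁅D, Q⁆) : D ≤ X := by
  have hnil : Group.IsNilpotent Q := hQ.isNilpotent
  have key : ∀ n, D ≤ X ⊔ Q.lowerCentralSeries n := by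
    intro n
    induction n with
    | zero => exact hDQ.trans le_sup_right
    | succ n ih =>
      refine h.trans (sup_le le_sup_left ?_)
      have hLQ : Q.lowerCentralSeries n ≤ Q := Subgroup.lowerCentralSeries_antitone Q (Nat.zero_le n)
      have hLn := Subgroup.self_le_normalizer_lowerCentralSeries Q (n + 1)
      rw [Subgroup.commutator_le]
      intro d hd y hy
      have hd' : d ∈ (Q.lowerCentralSeries n) ⊔ X := by
        rw [sup_comm]; exact ih hd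
      -- `d = x * l`
      obtain ⟨x, hx, l, hl, rfl⟩ : ∃ x ∈ X, ∃ l ∈ Q.lowerCentralSeries n, x * l = d := by
        let S : Subgroup G :=
          { carrier := {d | ∃ x ∈ X, ∃ l ∈ Q.lowerCentralSeries n, x * l = d}
            one_mem' := ⟨1, X.one_mem, 1, one_mem _, by simp⟩
            mul_mem' := by
              rintro _ _ ⟨a, ha, b, hb, rfl⟩ ⟨a', ha', b', hb', rfl⟩
              exact ⟨a * (b * a' * b⁻¹), X.mul_mem ha (hX b (hLQ hb) a' ha'), b * b', mul_mem hb hb',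
                by group⟩
            inv_mem' := by
              rintro _ ⟨a, ha, b, hb, rfl⟩
              refine ⟨b⁻¹ * a⁻¹ * b, ?_, b⁻¹, inv_mem hb, by group⟩
              simpa using hX b⁻¹ (Q.inv_mem (hLQ hb)) a⁻¹ (X.inv_mem ha) }
        have h1 : X ⊔ Q.lowerCentralSeries n ≤ S := sup_le (fun a ha => ⟨a, ha, 1, one_mem _, by simp⟩)
          (fun b hb => ⟨1, X.one_mem, b, hb, by simp⟩)
        exact h1 (ih hd)
      have h1 : ⁅x * l, y⁆ = (x * ⁅l, y⁆ * x⁻¹) * (x * (y * x⁻¹ * y⁻¹)) := by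
        simp only [commutatorElement_def]; group
      rw [h1]
      refine mul_mem ?_ ((le_sup_left : X ≤ _) (X.mul_mem hx (hX y hy _ (X.inv_mem hx))))
      refine (le_sup_right : Q.lowerCentralSeries (n + 1) ≤ _) ?_
      exact (mem_normalizer_iff.mp (hLn (hXQ hx)) _).mp (Subgroup.commutator_mem_commutator hl hy)
  obtain ⟨n, hn⟩ := (Subgroup.isNilpotent_iff_lowerCentralSeries Q).mp hnil
  have h1 := key n
  rwa [hn, sup_bot_eq] at h1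

/-- The commutator of two subgroups of `Q`, computed in `Q`. -/
theorem subgroupOf_commutator {Q A B : Subgroup G} (hA : A ≤ Q) (hB : B ≤ Q) :
    ⁅A.subgroupOf Q, B.subgroupOf Q⁆.map Q.subtype = ⁅A, B⁆ := by
  rw [Subgroup.map_commutator, Subgroup.subgroupOf_map_subtype, Subgroup.subgroupOf_map_subtype,
    inf_eq_left.mpr hA, inf_eq_left.mpr hB]

theorem le_of_le_sup_commutator_self {p : ℕ} [Fact p.Prime] {Q : Subgroup G} [Finite Q] (hQ : IsPGroup p Q)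
    {S : Subgroup G} (hS : S ≤ Q) (h : Q ≤ S ⊔ ⁅Q, Q⁆) : Q ≤ S := by
  have h1 : S.subgroupOf Q ⊔ frattini Q = ⊤ := by
    refine top_le_iff.mp (le_trans ?_ (sup_le_sup le_rfl (Lib.FrattiniBasic.commutator_le_frattini hQ)))
    have h2 : (⊤ : Subgroup Q).map Q.subtype ≤ (S.subgroupOf Q ⊔ commutator Q).map Q.subtype := by
      rw [Subgroup.map_sup, Subgroup.subgroupOf_map_subtype, inf_eq_left.mpr hS, commutator_def,
        ← Subgroup.subgroupOf_self Q, subgroupOf_commutator le_rfl le_rfl,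
        Subgroup.subgroupOf_map_subtype, inf_idem]
      exact h
    exact (Subgroup.map_le_map_iff_of_injective Q.subtype_injective).mp h2
  have h2 := frattini_nongenerating h1
  exact Subgroup.subgroupOf_eq_top.mp h2

/-! ### Commutators -/

/-- If all commutators of generators lie in `N`, which is normalised by `Q`, then `Q / N` is abelian. -/
theorem comm_mem_of_gens {Q N : Subgroup G} (hN : ∀ q ∈ Q, ∀ n ∈ N, q * n * q⁻¹ ∈ N) {S : Set G}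
    (hS : ∀ s ∈ S, s ∈ Q) (hQ : Q ≤ closure S) (h : ∀ a ∈ S, ∀ b ∈ S, a * b * a⁻¹ * b⁻¹ ∈ N) :
    ∀ x ∈ Q, ∀ y ∈ Q, x * y * x⁻¹ * y⁻¹ ∈ N := by
  have hle : closure S ≤ Q := (closure_le Q).mpr hS
  have step1 : ∀ b ∈ S, ∀ x ∈ closure S, x * b * x⁻¹ * b⁻¹ ∈ N := by
    intro b hb x hx
    induction hx using closure_induction with
    | mem x hx => exact h x hx b hb
    | one => simp [N.one_mem]
    | mul x y hx hy ihx ihy =>
      have h1 := N.mul_mem (hN x (hle hx) _ ihy) ihx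
      have h2 : x * (y * b * y⁻¹ * b⁻¹) * x⁻¹ * (x * b * x⁻¹ * b⁻¹) = x * y * b * (x * y)⁻¹ * b⁻¹ := by group
      rwa [h2] at h1
    | inv x hx ih =>
      have h1 := hN x⁻¹ (Q.inv_mem (hle hx)) _ (N.inv_mem ih)
      have h2 : x⁻¹ * (x * b * x⁻¹ * b⁻¹)⁻¹ * x⁻¹⁻¹ = x⁻¹ * b * x⁻¹⁻¹ * b⁻¹ := by group
      rwa [h2] at h1
  intro x hx y hy
  have hy' := hQ hy
  clear hy
  induction hy' using closure_induction with
  | mem y hy => exact step1 y hy x (hQ hx)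
  | one => simp [N.one_mem]
  | mul y y' hy hy' ih ih' =>
    have h1 := N.mul_mem ih (hN y (hle hy) _ ih')
    have h2 : x * y * x⁻¹ * y⁻¹ * (y * (x * y' * x⁻¹ * y'⁻¹) * y⁻¹) = x * (y * y') * x⁻¹ * (y * y')⁻¹ := by group
    rwa [h2] at h1
  | inv y hy ih =>
    have h1 := hN y⁻¹ (Q.inv_mem (hle hy)) _ (N.inv_mem ih)
    have h2 : y⁻¹ * (x * y * x⁻¹ * y⁻¹)⁻¹ * y⁻¹⁻¹ = x * y⁻¹ * x⁻¹ * y⁻¹⁻¹ := by group
    rwa [h2] at h1

theorem mem_normalizer_of_forall {g : G} {H : Subgroup G} (h1 : ∀ x ∈ H, g * x * g⁻¹ ∈ H)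
    (h2 : ∀ x ∈ H, g⁻¹ * x * g ∈ H) : g ∈ normalizer (H : Set G) := by
  rw [mem_normalizer_iff]
  refine fun x => ⟨h1 x, fun hx => ?_⟩
  have h3 := h2 _ hx
  have h4 : g⁻¹ * (g * x * g⁻¹) * g = x := by group
  rwa [h4] at h3

theorem conj_mem_of_normalizer {g : G} {H : Subgroup G} (hg : g ∈ normalizer (H : Set G)) {x : G}
    (hx : x ∈ H) : g * x * g⁻¹ ∈ H := (mem_normalizer_iff.mp hg x).mp hx

theorem inv_conj_mem_of_normalizer {g : G} {H : Subgroup G} (hg : g ∈ normalizer (H : Set G)) {x : G}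
    (hx : x ∈ H) : g⁻¹ * x * g ∈ H := by
  simpa using conj_mem_of_normalizer ((normalizer (H : Set G)).inv_mem hg) hx

theorem conj_mem_commutator {g : G} {A B : Subgroup G} (hA : ∀ x ∈ A, g * x * g⁻¹ ∈ A)
    (hB : ∀ x ∈ B, g * x * g⁻¹ ∈ B) : ∀ x ∈ ⁅A, B⁆, g * x * g⁻¹ ∈ ⁅A, B⁆ := by
  have h1 : ⁅A, B⁆ ≤ (⁅A, B⁆).comap (MulAut.conj g).toMonoidHom := by
    rw [Subgroup.commutator_le]
    intro a ha b hb
    rw [Subgroup.mem_comap]
    have h2 := Subgroup.commutator_mem_commutator (hA a ha) (hB b hb)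
    have h3 : (MulAut.conj g).toMonoidHom ⁅a, b⁆ = ⁅g * a * g⁻¹, g * b * g⁻¹⁆ := by
      simp only [MulEquiv.coe_toMonoidHom, MulAut.conj_apply, commutatorElement_def]; group
    rwa [h3]
  intro x hx
  exact h1 hx

theorem normalizer_commutator {g : G} {A B : Subgroup G} (hA : g ∈ normalizer (A : Set G))
    (hB : g ∈ normalizer (B : Set G)) : g ∈ normalizer ((⁅A, B⁆ : Subgroup G) : Set G) := by
  refine mem_normalizer_of_forall
    (conj_mem_commutator (fun x hx => conj_mem_of_normalizer hA hx) (fun x hx => conj_mem_of_normalizer hB hx)) ?_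
  intro x hx
  have := conj_mem_commutator (g := g⁻¹)
    (fun x hx => by simpa using inv_conj_mem_of_normalizer hA hx)
    (fun x hx => by simpa using inv_conj_mem_of_normalizer hB hx) x hx
  simpa using this

/-! ### The action on `⁅Q, Q⁆ / ⁅⁅Q, Q⁆, Q⁆` -/

/-- an involution which inverts `Q / Q'` acts trivially on `Q' / [Q', Q]` -/
theorem fix_commutator {Q : Subgroup G} {w : G} (hw : Act Q ⁅Q, Q⁆ w)
    (hinv : ∀ x ∈ Q, w * x * w⁻¹ * x ∈ ⁅Q, Q⁆) :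
    ∀ x ∈ ⁅Q, Q⁆, w * x * w⁻¹ * x⁻¹ ∈ ⁅⁅Q, Q⁆, Q⁆ := by
  have hQ'Q : ⁅Q, Q⁆ ≤ Q := Subgroup.commutator_le_self Q
  have hDQ' : ⁅⁅Q, Q⁆, Q⁆ ≤ ⁅Q, Q⁆ := Subgroup.commutator_mono hQ'Q le_rfl
  have hsec : Sec ⁅Q, Q⁆ ⁅⁅Q, Q⁆, Q⁆ := Sec.of_commutator hDQ' (Subgroup.commutator_mono le_rfl hQ'Q)
  have hDn : ∀ q ∈ Q, ∀ n ∈ ⁅⁅Q, Q⁆, Q⁆, q * n * q⁻¹ ∈ ⁅⁅Q, Q⁆, Q⁆ := by
    intro q hq
    have h1 : ∀ x ∈ Q, q * x * q⁻¹ ∈ Q := fun x hx => Q.mul_mem (Q.mul_mem hq hx) (Q.inv_mem hq)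
    exact conj_mem_commutator (conj_mem_commutator h1 h1) h1
  have hcomm : ∀ c ∈ ⁅Q, Q⁆, ∀ q ∈ Q, c * q * c⁻¹ * q⁻¹ ∈ ⁅⁅Q, Q⁆, Q⁆ := fun c hc q hq =>
    Subgroup.commutator_mem_commutator hc hq
  -- multiplication by elements of `Q'` does not change commutators modulo `D`
  have hl : ∀ c ∈ ⁅Q, Q⁆, ∀ u ∈ Q, ∀ v ∈ Q,
      (c * u) * v * (c * u)⁻¹ * v⁻¹ * (u * v * u⁻¹ * v⁻¹)⁻¹ ∈ ⁅⁅Q, Q⁆, Q⁆ := by
    intro c hc u hu v hv
    have huv : u * v * u⁻¹ * v⁻¹ ∈ ⁅Q, Q⁆ := Subgroup.commutator_mem_commutator hu hv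
    have h1 := hcomm c hc _ (hQ'Q huv)
    have h2 := hDn _ (hQ'Q huv) _ (hcomm c hc v hv)
    have h3 := mul_mem h1 h2
    have h4 : c * (u * v * u⁻¹ * v⁻¹) * c⁻¹ * (u * v * u⁻¹ * v⁻¹)⁻¹ *
        (u * v * u⁻¹ * v⁻¹ * (c * v * c⁻¹ * v⁻¹) * (u * v * u⁻¹ * v⁻¹)⁻¹) =
        (c * u) * v * (c * u)⁻¹ * v⁻¹ * (u * v * u⁻¹ * v⁻¹)⁻¹ := by group
    rwa [h4] at h3
  have hr : ∀ c ∈ ⁅Q, Q⁆, ∀ u ∈ Q, ∀ v ∈ Q,
      u * (c * v) * u⁻¹ * (c * v)⁻¹ * (u * v * u⁻¹ * v⁻¹)⁻¹ ∈ ⁅⁅Q, Q⁆, Q⁆ := by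
    intro c hc u hu v hv
    have h1 := hl c hc v hv u hu
    have h2 : u * (c * v) * u⁻¹ * (c * v)⁻¹ * (u * v * u⁻¹ * v⁻¹)⁻¹ =
        (u * (c * v) * u⁻¹ * (c * v)⁻¹) * (v * u * v⁻¹ * u⁻¹) := by group
    -- `[c v, u]⁻¹ [v, u]` is conjugate to the inverse of `[c v, u] [v, u]⁻¹`
    have h3 : (u * (c * v) * u⁻¹ * (c * v)⁻¹) * (v * u * v⁻¹ * u⁻¹) =
        ((v * u * v⁻¹ * u⁻¹)⁻¹ *
          ((c * v) * u * (c * v)⁻¹ * u⁻¹ * (v * u * v⁻¹ * u⁻¹)⁻¹) * (v * u * v⁻¹ * u⁻¹)⁻¹⁻¹)⁻¹ := by group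
    rw [h2, h3]
    exact inv_mem (hDn _ (inv_mem (hQ'Q (Subgroup.commutator_mem_commutator hv hu))) _ h1)
  have hle : ⁅Q, Q⁆ ≤ eig hsec (Act.mk hw.sq (fun x hx => hw.mN x hx)
      (conj_mem_commutator hw.mN hw.mQ) : Act ⁅Q, Q⁆ ⁅⁅Q, Q⁆, Q⁆ w) False := by
    rw [Subgroup.commutator_le]
    intro x hx y hy
    rw [mem_eig_false (fun h => h), commutatorElement_def]
    refine ⟨Subgroup.commutator_mem_commutator hx hy, ?_⟩
    have h1 := hl _ (hinv x hx) x⁻¹ (Q.inv_mem hx) _ (hw.mQ y hy)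
    have h2 := hr _ (hinv y hy) x⁻¹ (Q.inv_mem hx) y⁻¹ (Q.inv_mem hy)
    have h3 : w * x * w⁻¹ * x * x⁻¹ = w * x * w⁻¹ := by group
    have h4 : w * y * w⁻¹ * y * y⁻¹ = w * y * w⁻¹ := by group
    rw [h3] at h1
    rw [h4] at h2
    have h5 := hcomm _ (inv_mem (Subgroup.commutator_mem_commutator hx hy : x * y * x⁻¹ * y⁻¹ ∈ ⁅Q, Q⁆))
      (y * x)⁻¹ (Q.inv_mem (Q.mul_mem hy hx))
    rw [commutatorElement_def] at h5
    have h6 := mul_mem (mul_mem h1 h2) (hDn (x * y * x⁻¹ * y⁻¹) (hQ'Q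
      (Subgroup.commutator_mem_commutator hx hy)) _ h5)
    have h7 : w * x * w⁻¹ * (w * y * w⁻¹) * (w * x * w⁻¹)⁻¹ * (w * y * w⁻¹)⁻¹ *
          (x⁻¹ * (w * y * w⁻¹) * x⁻¹⁻¹ * (w * y * w⁻¹)⁻¹)⁻¹ *
        (x⁻¹ * (w * y * w⁻¹) * x⁻¹⁻¹ * (w * y * w⁻¹)⁻¹ * (x⁻¹ * y⁻¹ * x⁻¹⁻¹ * y⁻¹⁻¹)⁻¹) *
        (x * y * x⁻¹ * y⁻¹ * ((x * y * x⁻¹ * y⁻¹)⁻¹ * (y * x)⁻¹ * (x * y * x⁻¹ * y⁻¹)⁻¹⁻¹ *
          (y * x)⁻¹⁻¹) * (x * y * x⁻¹ * y⁻¹)⁻¹) =
        w * (x * y * x⁻¹ * y⁻¹) * w⁻¹ * (x * y * x⁻¹ * y⁻¹)⁻¹ := by group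
    rwa [h7] at h6
  intro x hx
  exact ((mem_eig_false (fun h => h)).mp (hle hx)).2

/-! ### The hypotheses -/

/-- The facts on `Q = Q_{X₁}` known from the centralisers of the `z j`, `j ∈ ι` (all indices but the first). -/
structure Pre (p : ℕ) (Q X A : Subgroup G) (z₁ : G) {ι : Type*} (z : ι → G) (M : ι → Subgroup G) : Prop where
  pg : IsPGroup p Q
  sq₁ : z₁ * z₁ = 1
  sq : ∀ j, z j * z j = 1
  comm₁ : ∀ j, Commute z₁ (z j)
  comm : ∀ j k, Commute (z j) (z k)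
  nor₁ : z₁ ∈ normalizer (Q : Set G)
  nor : ∀ j, z j ∈ normalizer (Q : Set G)
  gen : ⁅Q, zpowers z₁⁆ = Q
  XA : X ≤ A
  AM : ∀ j, A ≤ M j
  MQ : ∀ j, M j ≤ Q
  cen : ∀ x ∈ X, ∀ q ∈ Q, Commute x q
  X_fix₁ : ∀ x ∈ X, Commute x z₁
  fix1 : ∀ x ∈ Q, Commute x z₁ → ∀ j, Commute x (z j)
  M_fix : ∀ j k, j ≠ k → ∀ x ∈ M j, Commute x (z k)
  M_inv : ∀ j, ∀ x ∈ M j, z j * x * (z j)⁻¹ * x ∈ A
  A_fix : ∀ x ∈ A, ∀ j, Commute x (z j)
  M_comm : ∀ j, ⁅M j, M j⁆ ≤ X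
  B1 : ∀ j, ∀ x ∈ Q, Commute x (z j) → x ∈ (⨆ k, ⨆ (_ : k ≠ j), M k) ⊔ A ⊔ (Q ⊓ centralizer {z₁})

/-- `Pre` and: no weight of full support (`V_full = 0`). -/
structure Par (p : ℕ) (Q X A : Subgroup G) (z₁ : G) {ι : Type*} (z : ι → G) (M : ι → Subgroup G) : Prop
    extends Pre p Q X A z₁ z M where
  full : ∀ x ∈ Q, (∀ j, z j * x * (z j)⁻¹ * x ∈ ⁅Q, Q⁆) → x ∈ ⁅Q, Q⁆

section Gen

variable {Q N A' : Subgroup G} {ι : Type*} {z : ι → G} {M : ι → Subgroup G}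

/-- one step: a fixed point of `z k` has no component in `M k` -/
theorem mem_of_fix_step (h : Sec Q N) (hz : ∀ j, Act Q N (z j)) (hodd : Odd (Nat.card Q))
    (hNA : N ≤ A') (hAQ : A' ≤ Q) (hAfix : ∀ k, ∀ a ∈ A', z k * a * (z k)⁻¹ * a⁻¹ ∈ N)
    (hMQ : ∀ j, M j ≤ Q) (hMfix : ∀ j k, j ≠ k → ∀ x ∈ M j, z k * x * (z k)⁻¹ * x⁻¹ ∈ N)
    (hMinv : ∀ j, ∀ x ∈ M j, z j * x * (z j)⁻¹ * x ∈ A') {S : Set ι} {x : G} (hx : x ∈ A' ⊔ ⨆ l ∈ S, M l)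
    {k : ι} (hfix : z k * x * (z k)⁻¹ * x⁻¹ ∈ N) : x ∈ A' ⊔ ⨆ l ∈ S \ {k}, M l := by
  set B : Subgroup G := A' ⊔ ⨆ l ∈ S \ {k}, M l with hB
  have hle : A' ⊔ ⨆ l ∈ S, M l ≤ B ⊔ M k := by
    refine sup_le (le_sup_left.trans le_sup_left) (iSup₂_le fun l hl => ?_)
    by_cases hlk : l = k
    · subst hlk; exact le_sup_right
    · refine le_trans ?_ le_sup_left
      rw [hB]
      exact le_trans (le_iSup₂_of_le l ⟨hl, hlk⟩ le_rfl) le_sup_right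
  have hBe : B ≤ eig h (hz k) False := by
    refine sup_le (fun a ha => (mem_eig_false (fun h => h)).mpr ⟨hAQ ha, hAfix k a ha⟩)
      (iSup₂_le fun l hl y hy => (mem_eig_false (fun h => h)).mpr ⟨hMQ l hy, hMfix l k hl.2 y hy⟩)
  obtain ⟨b, hb, m, hm, rfl⟩ := exists_mul_of_mem_sup h (hNA.trans le_sup_left) (hBe.trans eig_le) (hMQ k)
    (hle hx)
  have hxe : b * m ∈ eig h (hz k) False :=
    (mem_eig_false (fun h => h)).mpr ⟨Q.mul_mem (eig_le (hBe hb)) (hMQ k hm), hfix⟩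
  have hme : m ∈ eig h (hz k) False := by
    have h1 := mul_mem (inv_mem (hBe hb)) hxe
    rwa [inv_mul_cancel_left] at h1
  have h2 := ((mem_eig_false (fun h => h)).mp hme).2
  have h3 := A'.mul_mem (A'.inv_mem (hNA h2)) (hMinv k m hm)
  have h4 : (z k * m * (z k)⁻¹ * m⁻¹)⁻¹ * (z k * m * (z k)⁻¹ * m) = m * m := by group
  rw [h4] at h3
  exact mul_mem hb ((le_sup_left : A' ≤ B) (mem_of_sq_mem hodd (hMQ k hm) h3))

theorem mem_of_fix_finset (h : Sec Q N) (hz : ∀ j, Act Q N (z j)) (hodd : Odd (Nat.card Q))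
    (hNA : N ≤ A') (hAQ : A' ≤ Q) (hAfix : ∀ k, ∀ a ∈ A', z k * a * (z k)⁻¹ * a⁻¹ ∈ N)
    (hMQ : ∀ j, M j ≤ Q) (hMfix : ∀ j k, j ≠ k → ∀ x ∈ M j, z k * x * (z k)⁻¹ * x⁻¹ ∈ N)
    (hMinv : ∀ j, ∀ x ∈ M j, z j * x * (z j)⁻¹ * x ∈ A') {S : Set ι} {x : G} (hx : x ∈ A' ⊔ ⨆ l ∈ S, M l)
    (T : Set ι) (hT : T.Finite) (hfix : ∀ k ∈ T, z k * x * (z k)⁻¹ * x⁻¹ ∈ N) :
    x ∈ A' ⊔ ⨆ l ∈ S \ T, M l := by
  induction T, hT using Set.Finite.induction_on with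
  | empty => simpa using hx
  | @insert k T hk hT ih =>
    have h1 := mem_of_fix_step h hz hodd hNA hAQ hAfix hMQ hMfix hMinv
      (ih fun l hl => hfix l (Set.mem_insert_of_mem k hl)) (hfix k (Set.mem_insert k T))
    have h2 : (S \ T) \ {k} = S \ insert k T := by
      ext l; simp only [Set.mem_sdiff, Set.mem_singleton_iff, Set.mem_insert_iff]; tauto
    rwa [h2] at h1

end Gen

variable {p : ℕ} [Fact p.Prime] [Finite G] {Q X A : Subgroup G} {z₁ : G} {ι : Type*} {z : ι → G}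
  {M : ι → Subgroup G}

omit [Finite G] in
theorem conj_inv_mem_of_commute {N : Subgroup G} {x w : G} (h : Commute x w) : w * x * w⁻¹ * x⁻¹ ∈ N := by
  rw [← h.eq]
  simp [N.one_mem]

namespace Pre

theorem odd (hP : Pre p Q X A z₁ z M) (hp : p ≠ 2) : Odd (Nat.card Q) := by
  obtain ⟨n, hn⟩ := (IsPGroup.iff_card).mp hP.pg
  rw [hn]
  exact ((Fact.out : p.Prime).odd_of_ne_two hp).pow

theorem AQ (hP : Pre p Q X A z₁ z M) [Nonempty ι] : A ≤ Q :=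
  (hP.AM (Classical.arbitrary ι)).trans (hP.MQ _)

theorem act (hP : Pre p Q X A z₁ z M) (j : ι) : Act Q ⁅Q, Q⁆ (z j) :=
  Act.of_normalizer (hP.sq j) (hP.nor j) (normalizer_commutator (hP.nor j) (hP.nor j))

theorem act₁ (hP : Pre p Q X A z₁ z M) : Act Q ⁅Q, Q⁆ z₁ :=
  Act.of_normalizer hP.sq₁ hP.nor₁ (normalizer_commutator hP.nor₁ hP.nor₁)

theorem inv₁ (hP : Pre p Q X A z₁ z M) : ∀ x ∈ Q, z₁ * x * z₁⁻¹ * x ∈ ⁅Q, Q⁆ :=
  inverts_of_commutator (Sec.self Q) hP.act₁ hP.gen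

theorem mem_commutator_of_commute₁ (hP : Pre p Q X A z₁ z M) (hp : p ≠ 2) {x : G} (hx : x ∈ Q)
    (hc : Commute x z₁) : x ∈ ⁅Q, Q⁆ :=
  mem_of_commute (hP.odd hp) hP.inv₁ hx hc

theorem X_le (hP : Pre p Q X A z₁ z M) (hp : p ≠ 2) [Nonempty ι] : X ≤ ⁅Q, Q⁆ := fun x hx =>
  hP.mem_commutator_of_commute₁ hp (hP.AQ (hP.XA hx)) (hP.X_fix₁ x hx)

/-- `B1` modulo `Q'` -/
theorem mem_of_fix (hP : Pre p Q X A z₁ z M) (hp : p ≠ 2) (j : ι) {x : G} (hx : x ∈ Q)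
    (h : z j * x * (z j)⁻¹ * x⁻¹ ∈ ⁅Q, Q⁆) : x ∈ (⨆ k, ⨆ (_ : k ≠ j), M k) ⊔ A ⊔ ⁅Q, Q⁆ := by
  have hodd' : Odd (Nat.card (⁅Q, Q⁆ : Subgroup G)) := card_odd_of_le (hP.odd hp) (Subgroup.commutator_le_self Q)
  obtain ⟨n, hn, hc⟩ := exists_commute hodd' (hP.sq j) (hP.act j).mN h
  have hnQ : n ∈ Q := Subgroup.commutator_le_self Q hn
  have h1 := hP.B1 j _ (Q.mul_mem hnQ hx) hc
  have h2 : (⨆ k, ⨆ (_ : k ≠ j), M k) ⊔ A ⊔ (Q ⊓ centralizer {z₁}) ≤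
      (⨆ k, ⨆ (_ : k ≠ j), M k) ⊔ A ⊔ ⁅Q, Q⁆ := by
    refine sup_le_sup le_rfl fun y hy => ?_
    exact hP.mem_commutator_of_commute₁ hp hy.1
      ((mem_centralizer_singleton_iff.mp hy.2))
  have h3 := mul_mem (inv_mem ((le_sup_right : ⁅Q, Q⁆ ≤ _) hn)) (h2 h1)
  rwa [inv_mul_cancel_left] at h3

theorem iSup_ne_eq (M : ι → Subgroup G) (j : ι) : (⨆ k, ⨆ (_ : k ≠ j), M k) = ⨆ k ∈ ({j}ᶜ : Set ι), M k := rfl

/-- The weight `∅` part is `A`. -/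
theorem W_empty_le (hP : Pre p Q X A z₁ z M) (hp : p ≠ 2) [Nonempty ι] [Finite ι] :
    W (Sec.self Q) hP.act (∅ : Set ι) ≤ A ⊔ ⁅Q, Q⁆ := by
  intro x hx
  obtain ⟨hxQ, -, hfix⟩ := mem_W'.mp hx
  have j : ι := Classical.arbitrary ι
  have h1 := hP.mem_of_fix hp j hxQ (hfix j (by simp))
  rw [iSup_ne_eq, sup_assoc, sup_comm] at h1
  have h2 := mem_of_fix_finset (A' := A ⊔ ⁅Q, Q⁆) (M := M) (Sec.self Q) hP.act (hP.odd hp) le_sup_right
    (sup_le hP.AQ (Subgroup.commutator_le_self Q)) (fun k a ha => by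
      have h3 : A ⊔ ⁅Q, Q⁆ ≤ eig (Sec.self Q) (hP.act k) False :=
        sup_le (fun a ha => (mem_eig_false (fun h => h)).mpr ⟨hP.AQ ha, conj_inv_mem_of_commute (hP.A_fix a ha k)⟩)
          le_eig
      exact ((mem_eig_false (fun h => h)).mp (h3 ha)).2)
    hP.MQ (fun j k hjk x hx => conj_inv_mem_of_commute (hP.M_fix j k hjk x hx))
    (fun j x hx => (le_sup_left : A ≤ _) (hP.M_inv j x hx)) h1 Set.univ Set.finite_univ
    (fun k _ => hfix k (by simp))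
  simpa using h2

/-- A weight which is neither `∅` nor a singleton nor everything does not occur. -/
theorem W_le_commutator (hP : Pre p Q X A z₁ z M) (hp : p ≠ 2) [Finite ι] {I : Set ι} (h0 : I ≠ ∅)
    (h1 : ∀ k, I ≠ {k}) (h2 : I ≠ Set.univ) : W (Sec.self Q) hP.act I ≤ ⁅Q, Q⁆ := by
  intro x hx
  obtain ⟨j, hj⟩ := (Set.ne_univ_iff_exists_notMem I).mp h2
  have hne : Nonempty ι := ⟨j⟩
  obtain ⟨hxQ, -, hfix⟩ := mem_W'.mp hx
  have h3 := hP.mem_of_fix hp j hxQ (hfix j hj)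
  refine W_inf_le (Sec.self Q) hP.act (hP.odd hp)
    (𝒮 := {J | J = ∅ ∨ ∃ k, J = {k}}) (by
      rintro (h | ⟨k, h⟩)
      · exact h0 h
      · exact h1 k h) hx ?_
  have hE : W (Sec.self Q) hP.act (∅ : Set ι) ≤
      ⨆ J ∈ {J : Set ι | J = ∅ ∨ ∃ k, J = {k}}, W (Sec.self Q) hP.act J :=
    le_iSup₂_of_le ∅ (Or.inl rfl) le_rfl
  refine (sup_le (sup_le (iSup₂_le fun k _ y hy => ?_) (fun y hy => hE ?_)) (le_W.trans hE)) h3
  · have h4 := mem_of_almost_fixed (Sec.self Q) hP.act (hP.odd hp) (fun i j => hP.comm i j) k (hP.MQ k hy)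
      (fun l hl => conj_inv_mem_of_commute (hP.M_fix k l (Ne.symm hl) y hy))
    exact (sup_le hE (le_iSup₂_of_le {k} (Or.inr ⟨k, rfl⟩) le_rfl)) h4
  · exact mem_W'.mpr ⟨hP.AQ hy, fun k hk => absurd hk (by simp),
      fun k _ => conj_inv_mem_of_commute (hP.A_fix y hy k)⟩

end Pre

namespace Par

/-- every `x ∈ Q` lies in `A ⊔ ⨆ j, M j` -/
theorem le_sup (hP : Par p Q X A z₁ z M) (hp : p ≠ 2) [Nonempty ι] [Finite ι] : Q ≤ A ⊔ ⨆ j, M j := by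
  have hS : A ⊔ (⨆ j, M j) ≤ Q := sup_le hP.AQ (iSup_le hP.MQ)
  refine le_of_le_sup_commutator_self hP.pg hS ?_
  refine le_of_W (Sec.self Q) hP.act (hP.odd hp) (fun i j => hP.comm i j) fun I => ?_
  intro x hx
  obtain ⟨hxQ, hinv, hfix⟩ := mem_W'.mp hx
  by_cases hI : I = Set.univ
  · subst hI
    exact (le_sup_right : ⁅Q, Q⁆ ≤ _) (hP.full x hxQ fun j => hinv j (Set.mem_univ j))
  · obtain ⟨j, hj⟩ := (Set.ne_univ_iff_exists_notMem I).mp hI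
    have h1 := hP.mem_of_fix hp j hxQ (hfix j hj)
    have h2 : (⨆ k, ⨆ (_ : k ≠ j), M k) ⊔ A ⊔ ⁅Q, Q⁆ ≤ A ⊔ (⨆ j, M j) ⊔ ⁅Q, Q⁆ := by
      refine sup_le_sup (sup_le ?_ le_sup_left) le_rfl
      exact (iSup₂_le fun k _ => le_iSup M k).trans le_sup_right
    exact h2 h1

/-- (O1) -/
theorem sup_eq (hP : Par p Q X A z₁ z M) (hp : p ≠ 2) [Nonempty ι] [Finite ι] : A ⊔ (⨆ j, M j) = Q :=
  le_antisymm (sup_le hP.AQ (iSup_le hP.MQ)) (hP.le_sup hp)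

/-- (O2) -/
theorem commutator_le (hP : Par p Q X A z₁ z M) (hp : p ≠ 2) [Nonempty ι] [Finite ι] : ⁅Q, Q⁆ ≤ X := by
  have hQ'Q : ⁅Q, Q⁆ ≤ Q := Subgroup.commutator_le_self Q
  have hDQ' : ⁅⁅Q, Q⁆, Q⁆ ≤ ⁅Q, Q⁆ := Subgroup.commutator_mono hQ'Q le_rfl
  have hXQ : X ≤ Q := hP.XA.trans hP.AQ
  have hXn : ∀ q ∈ Q, ∀ x ∈ X, q * x * q⁻¹ ∈ X := fun q hq x hx => by
    have h1 : q * x * q⁻¹ = x := by rw [← (hP.cen x hx q hq).eq]; group
    rwa [h1]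
  have hDn : ∀ q ∈ Q, ∀ n ∈ ⁅⁅Q, Q⁆, Q⁆, q * n * q⁻¹ ∈ ⁅⁅Q, Q⁆, Q⁆ := by
    intro q hq
    have h1 : ∀ x ∈ Q, q * x * q⁻¹ ∈ Q := fun x hx => Q.mul_mem (Q.mul_mem hq hx) (Q.inv_mem hq)
    exact conj_mem_commutator (conj_mem_commutator h1 h1) h1
  refine le_of_le_sup_commutator hP.pg hXQ hQ'Q hXn ?_
  set N : Subgroup G := X ⊔ ⁅⁅Q, Q⁆, Q⁆ with hN
  have hXN : X ≤ N := le_sup_left
  have hDN : ⁅⁅Q, Q⁆, Q⁆ ≤ N := le_sup_right
  have hNn : ∀ q ∈ Q, ∀ n ∈ N, q * n * q⁻¹ ∈ N := by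
    intro q hq
    have h1 : N ≤ N.comap (MulAut.conj q).toMonoidHom := by
      refine sup_le (fun x hx => hXN (hXn q hq x hx)) (fun x hx => hDN (hDn q hq x hx))
    exact fun n hn => h1 hn
  have hMM : ∀ k, ∀ x ∈ M k, ∀ y ∈ M k, x * y * x⁻¹ * y⁻¹ ∈ X := fun k x hx y hy =>
    hP.M_comm k (Subgroup.commutator_mem_commutator hx hy)
  -- generators
  have hgens : ∀ a ∈ ⋃ j, (M j : Set G), ∀ b ∈ ⋃ j, (M j : Set G), a * b * a⁻¹ * b⁻¹ ∈ N := by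
    intro a ha b hb
    obtain ⟨j, ha⟩ := Set.mem_iUnion.mp ha
    obtain ⟨k, hb⟩ := Set.mem_iUnion.mp hb
    have ha : a ∈ M j := ha
    have hb : b ∈ M k := hb
    by_cases hjk : j = k
    · subst hjk; exact hXN (hMM j a ha b hb)
    have haQ := hP.MQ j ha
    have hbQ := hP.MQ k hb
    set c := a * b * a⁻¹ * b⁻¹ with hc
    have hcQ' : c ∈ ⁅Q, Q⁆ := Subgroup.commutator_mem_commutator haQ hbQ
    have hcQ := hQ'Q hcQ'
    -- `z j` fixes `c` modulo `D`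
    have hD1 : Act ⁅Q, Q⁆ ⁅⁅Q, Q⁆, Q⁆ z₁ :=
      ⟨hP.sq₁, hP.act₁.mN, conj_mem_commutator hP.act₁.mN hP.act₁.mQ⟩
    have hfix := fix_commutator hP.act₁ hP.inv₁ c hcQ'
    have hoddD : Odd (Nat.card (⁅⁅Q, Q⁆, Q⁆ : Subgroup G)) := card_odd_of_le (hP.odd hp) (hDQ'.trans hQ'Q)
    obtain ⟨n, hn, hnc⟩ := exists_commute hoddD hP.sq₁ hD1.mN hfix
    have hnQ := hQ'Q (hDQ' hn)
    have hcj := hP.fix1 _ (Q.mul_mem hnQ hcQ) hnc j
    have hDj : ∀ x ∈ ⁅⁅Q, Q⁆, Q⁆, z j * x * (z j)⁻¹ ∈ ⁅⁅Q, Q⁆, Q⁆ :=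
      conj_mem_commutator (hP.act j).mN (hP.act j).mQ
    have h1 : z j * c * (z j)⁻¹ * c⁻¹ ∈ ⁅⁅Q, Q⁆, Q⁆ := by
      have h2 : z j * (n * c) * (z j)⁻¹ = n * c := by rw [← hcj.eq]; group
      have h3 := mul_mem (inv_mem (hDj n hn)) hn
      have h4 : z j * c * (z j)⁻¹ * c⁻¹ = (z j * n * (z j)⁻¹)⁻¹ * (z j * (n * c) * (z j)⁻¹) * c⁻¹ := by group
      rw [h4, h2]
      have h5 : (z j * n * (z j)⁻¹)⁻¹ * (n * c) * c⁻¹ = (z j * n * (z j)⁻¹)⁻¹ * n := by group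
      rwa [h5]
    -- `z j` inverts `c` modulo `N`
    set t := z j * a * (z j)⁻¹ * a with ht
    have htA : t ∈ A := hP.M_inv j a ha
    have htk : t ∈ M k := hP.AM k htA
    have hb' : z j * b * (z j)⁻¹ = b := by
      have := (hP.M_fix k j (Ne.symm hjk) b hb).eq
      rw [← this]; group
    have ha' : z j * a * (z j)⁻¹ = t * a⁻¹ := by rw [ht]; group
    have h6 : z j * c * (z j)⁻¹ * c ∈ N := by
      have h7 : z j * c * (z j)⁻¹ = (z j * a * (z j)⁻¹) * (z j * b * (z j)⁻¹) * (z j * a * (z j)⁻¹)⁻¹ *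
          (z j * b * (z j)⁻¹)⁻¹ := by rw [hc]; group
      rw [h7, ha', hb']
      -- `[t a⁻¹, b] [a, b]`
      have h8 : t * b * t⁻¹ * b⁻¹ ∈ N := hXN (hMM k t htk b hb)
      have h11 : t * a⁻¹ * b * (t * a⁻¹)⁻¹ * b⁻¹ * c =
          (t * (a⁻¹ * c⁻¹ * a * c) * t⁻¹) * (t * c⁻¹ * t⁻¹) * (t * b * t⁻¹ * b⁻¹) * c := by
        rw [hc]; group
      rw [h11]
      have h12 : t * (a⁻¹ * c⁻¹ * a * c) * t⁻¹ ∈ N := by
        have h13 : a⁻¹ * c⁻¹ * a * c = (c⁻¹ * (c * a⁻¹ * c⁻¹ * a⁻¹⁻¹) * c⁻¹⁻¹) := by group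
        rw [h13]
        refine hNn t (hP.MQ k htk) _ (hNn c⁻¹ (Q.inv_mem hcQ) _ ?_)
        exact hDN (Subgroup.commutator_mem_commutator hcQ' (Q.inv_mem haQ))
      have h14 : t * c⁻¹ * t⁻¹ * (t * b * t⁻¹ * b⁻¹) * c ∈ N := by
        have h15 : t * c⁻¹ * t⁻¹ * (t * b * t⁻¹ * b⁻¹) * c =
            (t * c⁻¹ * t⁻¹ * c⁻¹⁻¹) * (c⁻¹ * (t * b * t⁻¹ * b⁻¹) * c⁻¹⁻¹) := by group
        rw [h15]
        refine N.mul_mem ?_ (hNn c⁻¹ (Q.inv_mem hcQ) _ h8)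
        have h16 := hDN (inv_mem (Subgroup.commutator_mem_commutator (inv_mem hcQ') (hP.MQ k htk)))
        rw [commutatorElement_def] at h16
        have h17 : (c⁻¹ * t * c⁻¹⁻¹ * t⁻¹)⁻¹ = t * c⁻¹ * t⁻¹ * c⁻¹⁻¹ := by group
        rwa [h17] at h16
      have h18 := N.mul_mem h12 h14
      have h19 : t * (a⁻¹ * c⁻¹ * a * c) * t⁻¹ * (t * c⁻¹ * t⁻¹ * (t * b * t⁻¹ * b⁻¹) * c) =
          (t * (a⁻¹ * c⁻¹ * a * c) * t⁻¹) * (t * c⁻¹ * t⁻¹) * (t * b * t⁻¹ * b⁻¹) * c := by group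
      rwa [h19] at h18
    refine mem_of_sq_mem (hP.odd hp) hcQ ?_
    have h20 := N.mul_mem (N.inv_mem (hDN h1)) h6
    have h21 : (z j * c * (z j)⁻¹ * c⁻¹)⁻¹ * (z j * c * (z j)⁻¹ * c) = c * c := by group
    rwa [h21] at h20
  have hgen : Q ≤ closure (⋃ j, (M j : Set G)) := by
    refine (hP.le_sup hp).trans (sup_le ?_ ?_)
    · exact fun a ha => subset_closure (Set.mem_iUnion.mpr ⟨Classical.arbitrary ι, hP.AM _ ha⟩)
    · exact iSup_le fun j a ha => subset_closure (Set.mem_iUnion.mpr ⟨j, ha⟩)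
  have hall := comm_mem_of_gens hNn (fun s hs => by
    obtain ⟨j, hj⟩ := Set.mem_iUnion.mp hs
    exact hP.MQ j hj) hgen hgens
  rw [Subgroup.commutator_le]
  intro x hx y hy
  exact hall x hx y hy

/-- (O3) -/
theorem inf_centralizer (hP : Par p Q X A z₁ z M) (hp : p ≠ 2) [Nonempty ι] [Finite ι] :
    Q ⊓ centralizer {z₁} = X := by
  apply le_antisymm
  · intro x hx
    exact hP.commutator_le hp (hP.mem_commutator_of_commute₁ hp hx.1 (mem_centralizer_singleton_iff.mp hx.2))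
  · intro x hx
    exact ⟨hP.AQ (hP.XA hx), mem_centralizer_singleton_iff.mpr (hP.X_fix₁ x hx)⟩

theorem commutator_eq (hP : Par p Q X A z₁ z M) (hp : p ≠ 2) [Nonempty ι] [Finite ι] : ⁅Q, Q⁆ = X :=
  le_antisymm (hP.commutator_le hp) (hP.X_le hp)

/-- the section `Q / A` -/
theorem secA (hP : Par p Q X A z₁ z M) (hp : p ≠ 2) [Nonempty ι] [Finite ι] : Sec Q A :=
  (Sec.self Q).mono_right ((hP.commutator_le hp).trans hP.XA) hP.AQ

theorem actA (hP : Par p Q X A z₁ z M) (j : ι) : Act Q A (z j) where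
  sq := hP.sq j
  mQ := (hP.act j).mQ
  mN := fun x hx => by
    have h1 : z j * x * (z j)⁻¹ = x := by rw [← (hP.A_fix x hx j).eq]; group
    rwa [h1]

theorem mem_of_fixA (hP : Par p Q X A z₁ z M) (hp : p ≠ 2) [Nonempty ι] [Finite ι] {x : G} (hx : x ∈ Q)
    (T : Set ι) (hfix : ∀ k ∈ T, z k * x * (z k)⁻¹ * x⁻¹ ∈ A) : x ∈ A ⊔ ⨆ l ∈ Tᶜ, M l := by
  have h1 : x ∈ A ⊔ ⨆ l ∈ (Set.univ : Set ι), M l := by
    have h2 := hP.le_sup hp hx
    simpa using h2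
  have h3 := mem_of_fix_finset (A' := A) (M := M) (hP.secA hp) hP.actA (hP.odd hp) le_rfl hP.AQ
    (fun k a ha => conj_inv_mem_of_commute (hP.A_fix a ha k)) hP.MQ
    (fun j k hjk x hx => conj_inv_mem_of_commute (hP.M_fix j k hjk x hx)) hP.M_inv h1 T T.toFinite hfix
  have h4 : Set.univ \ T = Tᶜ := by ext l; simp
  rwa [h4] at h3

/-- (O4) -/
theorem mem_M_of_inv (hP : Par p Q X A z₁ z M) (hp : p ≠ 2) [Nonempty ι] [Finite ι] {j : ι} {x : G}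
    (hx : x ∈ Q) (h : z j * x * (z j)⁻¹ * x ∈ A) : x ∈ M j := by
  set B : Subgroup G := A ⊔ ⨆ l ∈ ({j}ᶜ : Set ι), M l with hB
  have hle : Q ≤ B ⊔ M j := by
    refine (hP.le_sup hp).trans (sup_le (le_sup_left.trans le_sup_left) (iSup_le fun l => ?_))
    by_cases hl : l = j
    · subst hl; exact le_sup_right
    · refine le_trans ?_ le_sup_left
      rw [hB]
      exact le_trans (le_iSup₂_of_le l hl le_rfl) le_sup_right
  have hBe : B ≤ eig (hP.secA hp) (hP.actA j) False := by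
    refine sup_le le_eig (iSup₂_le fun l hl y hy => (mem_eig_false (fun h => h)).mpr
      ⟨hP.MQ l hy, conj_inv_mem_of_commute (hP.M_fix l j hl y hy)⟩)
  obtain ⟨b, hb, m, hm, rfl⟩ := exists_mul_of_mem_sup (hP.secA hp) le_sup_left (hBe.trans eig_le) (hP.MQ j)
    (hle hx)
  have hxe : b * m ∈ eig (hP.secA hp) (hP.actA j) True := (mem_eig_true trivial).mpr ⟨hx, h⟩
  have hme : m ∈ eig (hP.secA hp) (hP.actA j) True :=
    (mem_eig_true trivial).mpr ⟨hP.MQ j hm, hP.M_inv j m hm⟩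
  have hbe : b ∈ eig (hP.secA hp) (hP.actA j) True := by
    have h1 := mul_mem hxe (inv_mem hme)
    rwa [mul_assoc, mul_inv_cancel, mul_one] at h1
  have hbA : b ∈ A := eig_inf_le (hP.secA hp) (hP.odd hp) (hP.actA j) (by simp) hbe (hBe hb)
  exact (M j).mul_mem (hP.AM j hbA) hm

theorem mem_M_of_conj_eq (hP : Par p Q X A z₁ z M) (hp : p ≠ 2) [Nonempty ι] [Finite ι] {j : ι} {x : G}
    (hx : x ∈ Q) (h : z j * x * (z j)⁻¹ = x⁻¹) : x ∈ M j :=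
  hP.mem_M_of_inv hp hx (by rw [h, inv_mul_cancel]; exact A.one_mem)

/-- (O5), modulo `A` -/
theorem mem_M_of_fix (hP : Par p Q X A z₁ z M) (hp : p ≠ 2) [Nonempty ι] [Finite ι] {j : ι} {x : G}
    (hx : x ∈ Q) (h : ∀ k, k ≠ j → z k * x * (z k)⁻¹ * x⁻¹ ∈ A) : x ∈ M j := by
  have h1 := hP.mem_of_fixA hp hx ({j}ᶜ) (fun k hk => h k hk)
  rw [compl_compl] at h1
  simp only [Set.mem_singleton_iff, iSup_iSup_eq_left] at h1
  exact (sup_le (hP.AM j) le_rfl) h1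

/-- (O5) -/
theorem mem_M (hP : Par p Q X A z₁ z M) (hp : p ≠ 2) [Nonempty ι] [Finite ι] {j : ι} {x : G}
    (hx : x ∈ Q) (h : ∀ k, k ≠ j → Commute x (z k)) : x ∈ M j :=
  hP.mem_M_of_fix hp hx fun k hk => conj_inv_mem_of_commute (h k hk)

/-- (O6), modulo `A` -/
theorem mem_A_of_fix (hP : Par p Q X A z₁ z M) (hp : p ≠ 2) [Nonempty ι] [Finite ι] {x : G}
    (hx : x ∈ Q) (h : ∀ k, z k * x * (z k)⁻¹ * x⁻¹ ∈ A) : x ∈ A := by
  have h1 := hP.mem_of_fixA hp hx Set.univ (fun k _ => h k)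
  simpa using h1

/-- (O6) -/
theorem mem_A (hP : Par p Q X A z₁ z M) (hp : p ≠ 2) [Nonempty ι] [Finite ι] {x : G}
    (hx : x ∈ Q) (h : ∀ k, Commute x (z k)) : x ∈ A :=
  hP.mem_A_of_fix hp hx fun k => conj_inv_mem_of_commute (h k)

/-- (O7) -/
theorem mem_sup_of_commute (hP : Par p Q X A z₁ z M) (hp : p ≠ 2) [Nonempty ι] [Finite ι] {j : ι} {x : G}
    (hx : x ∈ Q) (h : Commute x (z j)) : x ∈ A ⊔ ⨆ k, ⨆ (_ : k ≠ j), M k := by
  have h1 := hP.mem_of_fixA hp hx {j} (fun k hk => by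
    rw [Set.mem_singleton_iff] at hk
    subst hk
    exact conj_inv_mem_of_commute h)
  exact h1

end Par

/-! ### The hypothesis `full` -/

namespace Pre

theorem conj_mem_eig_of_commute {Q N : Subgroup G} {h : Sec Q N} {z w : G} {hz : Act Q N z}
    (hwQ : ∀ x ∈ Q, w * x * w⁻¹ ∈ Q) (hwN : ∀ x ∈ N, w * x * w⁻¹ ∈ N) (hc : Commute z w)
    {s : Prop} {x : G} (hx : x ∈ eig h hz s) : w * x * w⁻¹ ∈ eig h hz s := by
  obtain ⟨h1, h2, h3⟩ := hx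
  have hzw : z * (w * x * w⁻¹) * z⁻¹ = w * (z * x * z⁻¹) * w⁻¹ := by
    have h4 : z * (w * x * w⁻¹) * z⁻¹ = (z * w) * x * (z * w)⁻¹ := by group
    rw [h4, hc.eq]; group
  refine ⟨hwQ x h1, fun hs => ?_, fun hs => ?_⟩
  · have h5 := hwN _ (h2 hs)
    rw [hzw]
    have h6 : w * (z * x * z⁻¹ * x) * w⁻¹ = w * (z * x * z⁻¹) * w⁻¹ * (w * x * w⁻¹) := by group
    rwa [← h6]
  · have h5 := hwN _ (h3 hs)
    rw [hzw]
    have h6 : w * (z * x * z⁻¹ * x⁻¹) * w⁻¹ = w * (z * x * z⁻¹) * w⁻¹ * (w * x * w⁻¹)⁻¹ := by group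
    rwa [← h6]

/-- a group commuting with `z` and normalising `Q` and `N` normalises the eigenspaces of `z` -/
theorem le_normalizer_eig {Q N : Subgroup G} (h : Sec Q N) {z : G} (hz : Act Q N z) {L : Subgroup G}
    (hLQ : L ≤ normalizer (Q : Set G)) (hLN : L ≤ normalizer (N : Set G)) (hc : ∀ l ∈ L, Commute z l)
    (s : Prop) : L ≤ normalizer ((eig h hz s : Subgroup G) : Set G) := by
  intro l hl
  refine mem_normalizer_of_forall (fun x hx => conj_mem_eig_of_commute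
    (fun x hx => conj_mem_of_normalizer (hLQ hl) hx) (fun x hx => conj_mem_of_normalizer (hLN hl) hx)
    (hc l hl) hx) (fun x hx => ?_)
  have hl' := L.inv_mem hl
  have h1 := conj_mem_eig_of_commute (h := h) (hz := hz)
    (fun x hx => conj_mem_of_normalizer (hLQ hl') hx) (fun x hx => conj_mem_of_normalizer (hLN hl') hx)
    (hc _ hl') hx
  simpa using h1

/-- two commuting involutions: the action of the product -/
theorem act_mul (hP : Pre p Q X A z₁ z M) (a b : ι) : Act Q ⁅Q, Q⁆ (z a * z b) := by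
  refine Act.of_normalizer ?_ (mul_mem (hP.nor a) (hP.nor b)) (normalizer_commutator
    (mul_mem (hP.nor a) (hP.nor b)) (mul_mem (hP.nor a) (hP.nor b)))
  have h1 : z a * z b * (z a * z b) = z a * (z b * z a) * z b := by group
  rw [h1, ← (hP.comm a b).eq]
  have h2 : z a * (z a * z b) * z b = (z a * z a) * (z b * z b) := by group
  rw [h2, hP.sq, hP.sq, one_mul]

/-- signs multiply -/
theorem mul_mem_eig {Q N : Subgroup G} {h : Sec Q N} {u v : G} {hu : Act Q N u} {hv : Act Q N v}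
    {huv : Act Q N (u * v)} {s t : Prop} {x : G} (hx : x ∈ eig h hu s) (hx' : x ∈ eig h hv t) :
    x ∈ eig h huv (¬ (s ↔ t)) := by
  have hxQ := hx.1
  have e : ∀ y : G, (u * v) * x * (u * v)⁻¹ * y = u * (v * x * v⁻¹) * u⁻¹ * y := fun y => by group
  by_cases hs : s <;> by_cases ht : t
  · rw [mem_eig_false (by tauto)]
    refine ⟨hxQ, ?_⟩
    have h1 := hu.mN _ (hx'.2.1 ht)
    have h2 := N.mul_mem h1 (N.inv_mem (h.conj_mem hxQ (hx.2.1 hs)))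
    have h3 := h.conj_mem' hxQ h2
    -- `u v x v⁻¹ u⁻¹ · u x u⁻¹`, `x (u x u⁻¹) x x⁻¹`
    have h4 : u * (v * x * v⁻¹ * x) * u⁻¹ * (x * (u * x * u⁻¹ * x) * x⁻¹)⁻¹ =
        u * (v * x * v⁻¹) * u⁻¹ * x⁻¹ := by group
    rw [h4] at h2
    rwa [e]
  · rw [mem_eig_true (by tauto)]
    refine ⟨hxQ, ?_⟩
    have h1 := hu.mN _ (hx'.2.2 ht)
    have h2 := N.mul_mem h1 (hx.2.1 hs)
    have h4 : u * (v * x * v⁻¹ * x⁻¹) * u⁻¹ * (u * x * u⁻¹ * x) = u * (v * x * v⁻¹) * u⁻¹ * x := by group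
    rw [h4] at h2
    rwa [e]
  · rw [mem_eig_true (by tauto)]
    refine ⟨hxQ, ?_⟩
    have h1 := hu.mN _ (hx'.2.1 ht)
    have h2 := N.mul_mem h1 (h.conj_mem' hxQ (N.inv_mem (hx.2.2 hs)))
    have h3 : u * (v * x * v⁻¹ * x) * u⁻¹ * (x⁻¹ * (u * x * u⁻¹ * x⁻¹)⁻¹ * x) =
        u * (v * x * v⁻¹) * u⁻¹ * x := by group
    rw [h3] at h2
    rwa [e]
  · rw [mem_eig_false (by tauto)]
    refine ⟨hxQ, ?_⟩
    have h1 := hu.mN _ (hx'.2.2 ht)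
    have h2 := N.mul_mem h1 (hx.2.2 hs)
    have h4 : u * (v * x * v⁻¹ * x⁻¹) * u⁻¹ * (u * x * u⁻¹ * x⁻¹) = u * (v * x * v⁻¹) * u⁻¹ * x⁻¹ := by group
    rw [h4] at h2
    rwa [e]

/-- `full` in type `C` (`A ≤ Q'`): `L` commutes with `z a * z b` and with the other `z l`, `z a ∈ L` and
`L = ⟨[L, z a]⟩`; the complement of `{a, b}` is not a singleton (`r = 3` or `r ≥ 5`). -/
theorem full_of_commutator (hP : Pre p Q X A z₁ z M) (hp : p ≠ 2) [Finite ι] (hA : A ≤ ⁅Q, Q⁆) {a b : ι}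
    (hab : a ≠ b) (hsing : ∀ k, ({a, b}ᶜ : Set ι) ≠ {k}) {L : Subgroup G}
    (hLQ : L ≤ normalizer (Q : Set G)) (hLz : ∀ l ∈ L, ∀ k, k ≠ a → k ≠ b → Commute (z k) l)
    (hLab : ∀ l ∈ L, Commute (z a * z b) l) (haL : z a ∈ L)
    (hL : L ≤ closure {x | ∃ l ∈ L, x = ⁅l, z a⁆}) :
    ∀ x ∈ Q, (∀ j, z j * x * (z j)⁻¹ * x ∈ ⁅Q, Q⁆) → x ∈ ⁅Q, Q⁆ := by
  have hne : Nonempty ι := ⟨a⟩
  have hLN : L ≤ normalizer ((⁅Q, Q⁆ : Subgroup G) : Set G) := fun l hl => normalizer_commutator (hLQ hl) (hLQ hl)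
  have hact := hP.act_mul a b
  -- the section on which `L` acts
  set U : Subgroup G := eig (Sec.self Q) hact False ⊓
    ⨅ k ∈ ({a, b}ᶜ : Set ι), eig (Sec.self Q) (hP.act k) True with hU
  have hUQ : U ≤ Q := inf_le_left.trans eig_le
  have hNU : ⁅Q, Q⁆ ≤ U := le_inf le_eig (le_iInf₂ fun k _ => le_eig)
  have hmemU : ∀ x, x ∈ U ↔ x ∈ eig (Sec.self Q) hact False ∧
      ∀ k ∈ ({a, b}ᶜ : Set ι), x ∈ eig (Sec.self Q) (hP.act k) True := by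
    intro x
    rw [hU, Subgroup.mem_inf, Subgroup.mem_iInf]
    simp only [Subgroup.mem_iInf]
  have hsecU : Sec U ⁅Q, Q⁆ := (Sec.self Q).mono hNU hUQ
  -- everything in `U` has full weight
  have hzU : ∀ j, Act U ⁅Q, Q⁆ (z j) := fun j => by
    refine ⟨hP.sq j, fun x hx => ?_, (hP.act j).mN⟩
    rw [hmemU] at hx ⊢
    refine ⟨conj_mem_eig (hP.act j) ?_ hx.1, fun k hk => conj_mem_eig (hP.act j) (hP.comm k j) (hx.2 k hk)⟩
    have h1 : Commute (z a * z b) (z j) := (hP.comm a j).mul_left (hP.comm b j)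
    exact h1
  have hUW : U ≤ W (Sec.self Q) hP.act (Set.univ : Set ι) := by
    refine le_of_W hsecU hzU (card_odd_of_le (hP.odd hp) hUQ) (fun i j => hP.comm i j) fun I x hx => ?_
    have hxU : x ∈ U := W_le hx
    obtain ⟨h1, h2⟩ := (hmemU x).mp hxU
    have hxQ := hUQ hxU
    have hx2 : ∀ j, x ∈ eig (Sec.self Q) (hP.act j) (j ∈ I) := fun j => ⟨hxQ, ((mem_W.mp hx).2 j).2⟩
    have hxW : x ∈ W (Sec.self Q) hP.act I := mem_W.mpr ⟨hxQ, hx2⟩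
    by_cases hI : I = Set.univ
    · rwa [hI] at hxW
    refine le_W ?_
    -- `I` contains the complement of `{a, b}`
    by_cases h3 : ∃ k ∈ ({a, b}ᶜ : Set ι), k ∉ I
    · obtain ⟨k, hk, hkI⟩ := h3
      exact eig_inf_le (Sec.self Q) (hP.odd hp) (hP.act k) (by simp [hkI]) (h2 k hk) (hx2 k)
    push Not at h3
    have h4 := mul_mem_eig (huv := hact) (hx2 a) (hx2 b)
    by_cases h5 : a ∈ I ↔ b ∈ I
    · by_cases haI : a ∈ I
      · exfalso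
        apply hI
        ext k
        simp only [Set.mem_univ, iff_true]
        by_cases hk : k ∈ ({a, b}ᶜ : Set ι)
        · exact h3 k hk
        · simp only [Set.mem_compl_iff, Set.mem_insert_iff, Set.mem_singleton_iff, not_not] at hk
          rcases hk with rfl | rfl
          · exact haI
          · exact h5.mp haI
      · have hbI : b ∉ I := fun h => haI (h5.mpr h)
        have hI2 : I = ({a, b}ᶜ : Set ι) := by
          ext k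
          refine ⟨fun hk => ?_, h3 k⟩
          simp only [Set.mem_compl_iff, Set.mem_insert_iff, Set.mem_singleton_iff]
          rintro (rfl | rfl)
          · exact haI hk
          · exact hbI hk
        by_cases hI0 : I = ∅
        · rw [hI0] at hxW
          exact (sup_le hA le_rfl) (hP.W_empty_le hp hxW)
        · exact hP.W_le_commutator hp hI0 (fun k => hI2 ▸ hsing k) hI hxW
    · have h6 : (¬ (a ∈ I ↔ b ∈ I)) ↔ True := ⟨fun _ => trivial, fun _ => h5⟩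
      rw [propext h6] at h4
      exact eig_inf_le (Sec.self Q) (hP.odd hp) hact (by simp) h1 h4
  -- `L` normalises `U`
  have hLU : L ≤ normalizer (U : Set G) := by
    intro l hl
    have e1 := le_normalizer_eig (Sec.self Q) hact hLQ hLN hLab False hl
    have e2 : ∀ k ∈ ({a, b}ᶜ : Set ι), l ∈ normalizer ((eig (Sec.self Q) (hP.act k) True : Subgroup G) : Set G) := by
      intro k hk
      simp only [Set.mem_compl_iff, Set.mem_insert_iff, Set.mem_singleton_iff, not_or] at hk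
      have hone : zpowers l ≤ L := by simpa using hl
      exact le_normalizer_eig (Sec.self Q) (hP.act k) hLQ hLN (fun l hl => hLz l hl k hk.1 hk.2) True hl
    refine mem_normalizer_of_forall (fun x hx => ?_) (fun x hx => ?_)
    · rw [hmemU] at hx ⊢
      exact ⟨conj_mem_of_normalizer e1 hx.1, fun k hk => conj_mem_of_normalizer (e2 k hk) (hx.2 k hk)⟩
    · rw [hmemU] at hx ⊢
      exact ⟨inv_conj_mem_of_normalizer e1 hx.1, fun k hk => inv_conj_mem_of_normalizer (e2 k hk) (hx.2 k hk)⟩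
  have hUN : U ≤ ⁅Q, Q⁆ := by
    refine le_of_commutator hsecU (card_odd_of_le (hP.odd hp) hUQ) hLU hLN haL hL fun x hx => ?_
    exact (mem_W'.mp (hUW hx)).2.1 a (Set.mem_univ a)
  intro x hx hinv
  refine hUN ((hmemU x).mpr ⟨?_, fun k _ => (mem_eig_true trivial).mpr ⟨hx, hinv k⟩⟩)
  have h1 := mul_mem_eig (huv := hact) (s := True) (t := True)
    ((mem_eig_true (hz := hP.act a) (h := Sec.self Q) trivial).mpr ⟨hx, hinv a⟩)
    ((mem_eig_true (hz := hP.act b) (h := Sec.self Q) trivial).mpr ⟨hx, hinv b⟩)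
  have h2 : (¬ (True ↔ True)) ↔ False := by simp
  rwa [propext h2] at h1

/-- `full` in type `BC`, `r ≥ 4`: `L = Z_a` commutes with `z c` and `z d`; `v₁`, `v₂`, `v₁ * v₂` are
`L`-conjugate to `z a`. -/
theorem full_of_four (hP : Pre p Q X A z₁ z M) (hp : p ≠ 2) [Finite ι] {a c d : ι}
    (hcd : c ≠ d) {L : Subgroup G} (hLQ : L ≤ normalizer (Q : Set G))
    (hLc : ∀ l ∈ L, Commute (z c) l) (hLd : ∀ l ∈ L, Commute (z d) l) (haL : z a ∈ L) {v₁ v₂ : G}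
    (h1 : ∃ l ∈ L, v₁ = l * z a * l⁻¹) (h2 : ∃ l ∈ L, v₂ = l * z a * l⁻¹)
    (h3 : ∃ l ∈ L, v₁ * v₂ = l * z a * l⁻¹) :
    ∀ x ∈ Q, (∀ j, z j * x * (z j)⁻¹ * x ∈ ⁅Q, Q⁆) → x ∈ ⁅Q, Q⁆ := by
  have hLN : L ≤ normalizer ((⁅Q, Q⁆ : Subgroup G) : Set G) := fun l hl => normalizer_commutator (hLQ hl) (hLQ hl)
  set U : Subgroup G := eig (Sec.self Q) (hP.act c) True ⊓ eig (Sec.self Q) (hP.act d) True with hU
  have hUQ : U ≤ Q := inf_le_left.trans eig_le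
  have hNU : ⁅Q, Q⁆ ≤ U := le_inf le_eig le_eig
  have hsecU : Sec U ⁅Q, Q⁆ := (Sec.self Q).mono hNU hUQ
  have hLU : L ≤ normalizer (U : Set G) := by
    intro l hl
    have e1 := le_normalizer_eig (Sec.self Q) (hP.act c) hLQ hLN hLc True hl
    have e2 := le_normalizer_eig (Sec.self Q) (hP.act d) hLQ hLN hLd True hl
    exact mem_normalizer_of_forall
      (fun x hx => ⟨conj_mem_of_normalizer e1 hx.1, conj_mem_of_normalizer e2 hx.2⟩)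
      (fun x hx => ⟨inv_conj_mem_of_normalizer e1 hx.1, inv_conj_mem_of_normalizer e2 hx.2⟩)
  have hfix : ∀ x ∈ U, Commute x (z a) → x ∈ ⁅Q, Q⁆ := by
    -- the weights not containing `a`, containing `c` and `d`
    set U₀ : Subgroup G := U ⊓ eig (Sec.self Q) (hP.act a) False with hU₀
    have hU₀Q : U₀ ≤ Q := inf_le_left.trans hUQ
    have hNU₀ : ⁅Q, Q⁆ ≤ U₀ := le_inf hNU le_eig
    have hsecU₀ : Sec U₀ ⁅Q, Q⁆ := (Sec.self Q).mono hNU₀ hU₀Q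
    have hzU₀ : ∀ j, Act U₀ ⁅Q, Q⁆ (z j) := fun j =>
      ⟨hP.sq j, fun x hx => ⟨⟨conj_mem_eig (hP.act j) (hP.comm c j) hx.1.1,
        conj_mem_eig (hP.act j) (hP.comm d j) hx.1.2⟩, conj_mem_eig (hP.act j) (hP.comm a j) hx.2⟩,
        (hP.act j).mN⟩
    have hle : U₀ ≤ ⁅Q, Q⁆ := by
      refine le_of_W hsecU₀ hzU₀ (card_odd_of_le (hP.odd hp) hU₀Q) (fun i j => hP.comm i j) fun I x hx => ?_
      have hxU : x ∈ U₀ := W_le hx
      have hxQ := hU₀Q hxU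
      have hx2 : ∀ j, x ∈ eig (Sec.self Q) (hP.act j) (j ∈ I) := fun j => ⟨hxQ, ((mem_W.mp hx).2 j).2⟩
      by_cases hcI : c ∈ I
      · by_cases hdI : d ∈ I
        · by_cases haI : a ∈ I
          · exact eig_inf_le (Sec.self Q) (hP.odd hp) (hP.act a) (by simp [haI]) hxU.2 (hx2 a)
          · refine hP.W_le_commutator hp (fun h0 => ?_) (fun k hk => ?_) (fun hu => ?_) (mem_W.mpr ⟨hxQ, hx2⟩)
            · rw [h0] at hcI; simp at hcI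
            · rw [hk] at hcI hdI
              exact hcd (hcI.trans hdI.symm)
            · rw [hu] at haI; simp at haI
        · exact eig_inf_le (Sec.self Q) (hP.odd hp) (hP.act d) (by simp [hdI]) hxU.1.2 (hx2 d)
      · exact eig_inf_le (Sec.self Q) (hP.odd hp) (hP.act c) (by simp [hcI]) hxU.1.1 (hx2 c)
    intro x hx hc
    exact hle ⟨hx, (mem_eig_false (fun h => h)).mpr ⟨hUQ hx, conj_inv_mem_of_commute hc⟩⟩
  have hUN : U ≤ ⁅Q, Q⁆ :=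
    le_of_four hsecU (card_odd_of_le (hP.odd hp) hUQ) hLU hLN haL (hP.sq a) h1 h2 h3 hfix
  intro x hx hinv
  exact hUN ⟨(mem_eig_true trivial).mpr ⟨hx, hinv c⟩, (mem_eig_true trivial).mpr ⟨hx, hinv d⟩⟩

/-- `full` in type `BC`, `r = 3`: `ι = {a, c}`, `L = Z_a` commutes with `z c` and centralises `M c`
modulo `Q'`. -/
theorem full_of_four_two (hP : Pre p Q X A z₁ z M) (hp : p ≠ 2) [Finite ι] {a c : ι} (hac : a ≠ c)
    (hι : ∀ k, k = a ∨ k = c) {L : Subgroup G} (hLQ : L ≤ normalizer (Q : Set G))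
    (hLc : ∀ l ∈ L, Commute (z c) l) (hLM : ∀ l ∈ L, ∀ x ∈ M c, l * x * l⁻¹ ∈ M c ⊔ ⁅Q, Q⁆) (haL : z a ∈ L)
    {v₁ v₂ : G} (h1 : ∃ l ∈ L, v₁ = l * z a * l⁻¹) (h2 : ∃ l ∈ L, v₂ = l * z a * l⁻¹)
    (h3 : ∃ l ∈ L, v₁ * v₂ = l * z a * l⁻¹) :
    ∀ x ∈ Q, (∀ j, z j * x * (z j)⁻¹ * x ∈ ⁅Q, Q⁆) → x ∈ ⁅Q, Q⁆ := by
  have hne : Nonempty ι := ⟨a⟩
  have hLN : L ≤ normalizer ((⁅Q, Q⁆ : Subgroup G) : Set G) := fun l hl => normalizer_commutator (hLQ hl) (hLQ hl)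
  set U : Subgroup G := eig (Sec.self Q) (hP.act c) True with hU
  have hUQ : U ≤ Q := eig_le
  set C : Subgroup G := U ⊓ (M c ⊔ ⁅Q, Q⁆) with hC
  have hCU : C ≤ U := inf_le_left
  have hNC : ⁅Q, Q⁆ ≤ C := le_inf le_eig le_sup_right
  have hsecU : Sec U C := ((Sec.self Q).mono le_eig hUQ).mono_right hNC hCU
  have hLU : L ≤ normalizer (U : Set G) := le_normalizer_eig (Sec.self Q) (hP.act c) hLQ hLN hLc True
  have hM' : ∀ l ∈ L, ∀ x ∈ M c ⊔ ⁅Q, Q⁆, l * x * l⁻¹ ∈ M c ⊔ ⁅Q, Q⁆ := by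
    intro l hl
    have h4 : M c ⊔ ⁅Q, Q⁆ ≤ (M c ⊔ ⁅Q, Q⁆).comap (MulAut.conj l).toMonoidHom := by
      refine sup_le (fun x hx => ?_) (fun x hx => ?_)
      · exact hLM l hl x hx
      · exact (le_sup_right : ⁅Q, Q⁆ ≤ _) (conj_mem_of_normalizer (hLN hl) hx)
    exact fun x hx => h4 hx
  have hLC : L ≤ normalizer (C : Set G) := by
    intro l hl
    refine mem_normalizer_of_forall
      (fun x hx => ⟨conj_mem_of_normalizer (hLU hl) hx.1, hM' l hl x hx.2⟩)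
      (fun x hx => ⟨inv_conj_mem_of_normalizer (hLU hl) hx.1, ?_⟩)
    simpa using hM' l⁻¹ (L.inv_mem hl) x hx.2
  have hfix : ∀ x ∈ U, Commute x (z a) → x ∈ C := by
    intro x hx hc
    refine ⟨hx, ?_⟩
    have h4 := hP.mem_of_fix hp a (hUQ hx) (conj_inv_mem_of_commute hc)
    have h5 : (⨆ k, ⨆ (_ : k ≠ a), M k) ⊔ A ⊔ ⁅Q, Q⁆ ≤ M c ⊔ ⁅Q, Q⁆ := by
      refine sup_le_sup (sup_le (iSup₂_le fun k hk => ?_) (hP.AM c)) le_rfl
      rcases hι k with rfl | rfl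
      · exact absurd rfl hk
      · exact le_rfl
    exact h5 h4
  have hUC : U ≤ C := le_of_four hsecU (card_odd_of_le (hP.odd hp) hUQ) hLU hLC haL (hP.sq a) h1 h2 h3 hfix
  intro x hx hinv
  have hxU : x ∈ U := (mem_eig_true trivial).mpr ⟨hx, hinv c⟩
  -- `x` is inverted by `z a`, and `M c` is fixed by `z a`
  have h6 : M c ⊔ ⁅Q, Q⁆ ≤ eig (Sec.self Q) (hP.act a) False :=
    sup_le (fun y hy => (mem_eig_false (fun h => h)).mpr
      ⟨hP.MQ c hy, conj_inv_mem_of_commute (hP.M_fix c a hac.symm y hy)⟩) le_eig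
  have h7 : x ∈ eig (Sec.self Q) (hP.act a) True := (mem_eig_true trivial).mpr ⟨hx, hinv a⟩
  exact eig_inf_le (Sec.self Q) (hP.odd hp) (hP.act a) (by simp) h7 (h6 (hUC hxU).2)

end Pre

end Cfsg.Agent.Cit.Weights
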