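import Cfsg.Agent.Cit.LemmaA
import Cfsg.Agent.Cit.Parity
import Cfsg.Agent.Cit.ParabQ

/-!
# LEMMA UQ (helper124 bb #6460, in the form of helper998 bb #6711)

`R` has odd order and is normalised by the involution `z` and by `L`, `L` centralises `z`, `w` is an
involution of `L` and `L` is generated by the commutators `⁅l, w⁆`; `X` centralises `R` and `L`;
`D = ⁅R, z⁆`, `L` centralises `C_D(z)`, `Q_w = ⁅C_R(w), z⁆` is a `p`-group with `⁅Q_w, Q_w⁆ ≤ X`. Then

* `In.isPGroup`: `D` is a `p`-group;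
* `In.eq_iSup`: `D` is generated by the `L`-conjugates of `Q_w`;
* `In.commutator_le`: `⁅D, D⁆ ≤ X`;
* `In.mem_of_commute`: `C_D(z) ≤ X`.

The form for helper149's `Long K X z`, `QX X z` (`= DD (core X) z` by definition): `in_of_long` gives
`In (core X) X L z w`; for `QQ X z = X ⊔ QX X z`: `QQ_isPGroup`, `QQ_commutator_le`, `QQ_inf_centralizer`,
`QQ_commutator_eq`, `cj_QQ`.
-/

set_option autoImplicit false

namespace Cfsg.Agent.Cit.LemmaUQ

open Subgroup Cfsg
open Cfsg.Agent.Cit.Weights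
open scoped commutatorElement

variable {G : Type*} [Group G]

/-- `D = ⁅R, z⁆` -/
def DD (R : Subgroup G) (z : G) : Subgroup G := ⁅R, zpowers z⁆

/-- `Q_w = ⁅C_R(w), z⁆` -/
def Qw (R : Subgroup G) (z w : G) : Subgroup G := ⁅R ⊓ centralizer {w}, zpowers z⁆

/-- The input of LEMMA UQ. -/
structure In (R X L : Subgroup G) (z w : G) : Prop where
  odd : Odd (Nat.card R)
  zz : z * z = 1
  ww : w * w = 1
  zR : z ∈ normalizer (R : Set G)
  LR : L ≤ normalizer (R : Set G)
  Lz : ∀ l ∈ L, l * z = z * l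
  wL : w ∈ L
  gen : L ≤ closure {x : G | ∃ l ∈ L, x = ⁅l, w⁆}
  XR : ∀ x ∈ X, ∀ r ∈ R, x * r = r * x
  XL : ∀ x ∈ X, ∀ l ∈ L, x * l = l * x
  fix : ∀ c ∈ DD R z, c * z = z * c → ∀ l ∈ L, c * l = l * c

namespace In

variable {R X L : Subgroup G} {z w : G}

theorem gen_eq (h : In R X L z w) : L = closure {x : G | ∃ l ∈ L, x = ⁅l, w⁆} := by
  apply le_antisymm h.gen
  rw [closure_le]
  rintro _ ⟨l, hl, rfl⟩
  rw [SetLike.mem_coe, commutatorElement_def]
  exact L.mul_mem (L.mul_mem (L.mul_mem hl h.wL) (L.inv_mem hl)) (L.inv_mem h.wL)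

theorem zzR (h : In R X L z w) : zpowers z ≤ normalizer (R : Set G) := by
  rw [zpowers_le]
  exact h.zR

theorem D_le (h : In R X L z w) : DD R z ≤ R := Lib.CoprimeCommutator.commutator_le_left h.zzR

theorem cj_eq_of_normalizer {g : G} {A : Subgroup G} (hg : g ∈ normalizer (A : Set G)) : cj g A = A :=
  mem_normalizer_iff_cj.1 hg

theorem L_D (h : In R X L z w) : L ≤ normalizer (DD R z : Set G) := by
  intro l hl
  rw [mem_normalizer_iff_cj, DD, cj_commutator, cj_eq_of_normalizer (h.LR hl), Parab.cj_zpowers, h.Lz l hl]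
  congr 2
  group

theorem z_D (h : In R X L z w) : z ∈ normalizer (DD R z : Set G) := by
  rw [mem_normalizer_iff_cj, DD, cj_commutator, cj_eq_of_normalizer h.zR, Parab.cj_zpowers]
  congr 2
  group

theorem Qw_le_D : Qw R z w ≤ DD R z := Subgroup.commutator_mono inf_le_left le_rfl

theorem Qw_le_R (h : In R X L z w) : Qw R z w ≤ R := (Qw_le_D).trans h.D_le

theorem z_w (h : In R X L z w) : z * w = w * z := (h.Lz w h.wL).symm

theorem Qw_comm (h : In R X L z w) {q : G} (hq : q ∈ Qw R z w) : q * w = w * q := by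
  have h1 : zpowers z ≤ normalizer ((R ⊓ centralizer {w} : Subgroup G) : Set G) := by
    rw [zpowers_le]
    refine mem_normalizer_of_forall ?_ ?_
    · rintro x ⟨hx1, hx2⟩
      refine ⟨conj_mem_of_normalizer h.zR hx1, ?_⟩
      have h3 := mem_centralizer_singleton_iff.1 hx2
      change z * x * z⁻¹ ∈ centralizer {w}
      rw [mem_centralizer_singleton_iff]
      calc z * x * z⁻¹ * w = z * x * z⁻¹ * (w * z) * z⁻¹ := by group
        _ = z * (x * w) * z⁻¹ := by rw [← h.z_w]; group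
        _ = (z * w) * x * z⁻¹ := by rw [h3]; group
        _ = w * (z * x * z⁻¹) := by rw [h.z_w]; group
    · rintro x ⟨hx1, hx2⟩
      refine ⟨inv_conj_mem_of_normalizer h.zR hx1, ?_⟩
      have h3 := mem_centralizer_singleton_iff.1 hx2
      change z⁻¹ * x * z ∈ centralizer {w}
      rw [mem_centralizer_singleton_iff]
      calc z⁻¹ * x * z * w = z⁻¹ * x * (z * w) := by group
        _ = z⁻¹ * (x * w) * z := by rw [h.z_w]; group
        _ = z⁻¹ * (w * z) * z⁻¹ * x * z := by rw [h3]; group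
        _ = w * (z⁻¹ * x * z) := by rw [← h.z_w]; group
  have h2 := Lib.CoprimeCommutator.commutator_le_left h1 hq
  exact mem_centralizer_singleton_iff.1 h2.2

variable [Finite G]

theorem D_odd (h : In R X L z w) : Odd (Nat.card (DD R z)) := card_odd_of_le h.odd h.D_le

theorem coprime (h : In R X L z w) : (Nat.card (zpowers z)).Coprime (Nat.card R) := by
  have h1 : Nat.card (zpowers z) ∣ 2 := by
    rw [Nat.card_zpowers]
    exact orderOf_dvd_of_pow_eq_one (by rw [pow_two, h.zz])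
  exact Nat.Coprime.coprime_dvd_left h1 (Nat.coprime_two_left.2 h.odd)

theorem D_comm (h : In R X L z w) : ⁅DD R z, zpowers z⁆ = DD R z :=
  Lib.CoprimeCommutator.commutator_commutator_eq _ _ h.zzR h.coprime

/-- The commutator subgroup of `D`. -/
def D' (_ : In R X L z w) : Subgroup G := ⁅DD R z, DD R z⁆

/-- `⁅⁅D, D⁆, D⁆` -/
def C (_ : In R X L z w) : Subgroup G := ⁅⁅DD R z, DD R z⁆, DD R z⁆

omit [Finite G] in
theorem D'_le (h : In R X L z w) : h.D' ≤ DD R z := Subgroup.commutator_le_self _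

omit [Finite G] in
theorem C_le (h : In R X L z w) : h.C ≤ h.D' := Subgroup.commutator_mono h.D'_le le_rfl

omit [Finite G] in
theorem sec (h : In R X L z w) : Sec (DD R z) h.D' := Sec.self _

omit [Finite G] in
theorem L_D' (h : In R X L z w) : L ≤ normalizer (h.D' : Set G) := fun l hl =>
  normalizer_commutator (h.L_D hl) (h.L_D hl)

omit [Finite G] in
theorem L_C (h : In R X L z w) : L ≤ normalizer (h.C : Set G) := fun l hl =>
  normalizer_commutator (h.L_D' hl) (h.L_D hl)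

omit [Finite G] in
theorem D_C (h : In R X L z w) : DD R z ≤ normalizer (h.C : Set G) := fun l hl =>
  normalizer_commutator (normalizer_commutator (le_normalizer hl) (le_normalizer hl)) (le_normalizer hl)

omit [Finite G] in
theorem actz (h : In R X L z w) : Act (DD R z) ⁅DD R z, DD R z⁆ z :=
  Act.of_normalizer h.zz h.z_D (normalizer_commutator h.z_D h.z_D)

omit [Finite G] in
theorem actw (h : In R X L z w) : Act (DD R z) h.D' w :=
  Act.of_normalizer h.ww (h.L_D h.wL) (h.L_D' h.wL)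

/-- `z` inverts `D / D'`. -/
theorem inverts (h : In R X L z w) : ∀ x ∈ DD R z, z * x * z⁻¹ * x ∈ h.D' :=
  inverts_of_commutator h.sec h.actz h.D_comm

theorem fix_mem (h : In R X L z w) {c : G} (hc : c ∈ DD R z) (hz : c * z = z * c) : c ∈ h.D' :=
  Weights.mem_of_commute h.D_odd h.inverts hc hz

/-- `C_D(w) ≤ Q_w D'`. -/
theorem fix_w (h : In R X L z w) {c : G} (hc : c ∈ DD R z) (hw : c * w = w * c) :
    c ∈ h.D' ⊔ Qw R z w := by
  refine Weights.mem_of_sq_mem h.D_odd hc ?_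
  have h1 : ⁅c, z⁆ ∈ Qw R z w :=
    Subgroup.commutator_mem_commutator ⟨h.D_le hc, mem_centralizer_singleton_iff.2 hw⟩ (mem_zpowers z)
  have h2 := h.inverts _ ((DD R z).inv_mem hc)
  -- `⁅c, z⁆ = c * (z c⁻¹ z⁻¹)` and `z c⁻¹ z⁻¹ c⁻¹ ∈ D'`
  have h6 : c * c = (c * (z * c⁻¹ * z⁻¹ * c⁻¹)⁻¹ * c⁻¹) * ⁅c, z⁆ := by
    simp [commutatorElement_def, mul_assoc]
  rw [h6]
  refine mul_mem ((le_sup_left : h.D' ≤ _) ?_) ((le_sup_right : Qw R z w ≤ _) h1)
  exact h.sec.conj_mem hc (inv_mem h2)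

/-- The relative lemma. -/
theorem relative (h : In R X L z w) {M : Subgroup G} (hM : h.D' ≤ M) (hMD : M ≤ DD R z)
    (hL : L ≤ normalizer (M : Set G)) (hw : ∀ c ∈ DD R z, c * w = w * c → c ∈ M) : DD R z ≤ M := by
  have hs : Sec (DD R z) M := h.sec.mono_right hM hMD
  have ha : Act (DD R z) M w := Act.of_normalizer h.ww (h.L_D h.wL) (hL h.wL)
  exact le_of_commutator hs h.D_odd h.L_D hL h.wL h.gen
    (inverts_of_fix hs (card_odd_of_le h.D_odd hMD) ha fun x hx hc => hw x hx hc)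

/-- `L` centralises `D' / ⁅D', D⁆`. -/
theorem L_triv (h : In R X L z w) {l d : G} (hl : l ∈ L) (hd : d ∈ h.D') : l * d * l⁻¹ * d⁻¹ ∈ h.C := by
  have h1 := fix_commutator h.actz h.inverts d hd
  have hzC : ∀ x ∈ h.C, z * x * z⁻¹ ∈ h.C := fun x hx =>
    conj_mem_of_normalizer (normalizer_commutator (normalizer_commutator h.z_D h.z_D) h.z_D) hx
  obtain ⟨n, hn, hc⟩ := exists_commute (card_odd_of_le h.D_odd (h.C_le.trans h.D'_le)) h.zz hzC h1
  have h2 := h.fix _ ((DD R z).mul_mem (h.D'_le (h.C_le hn)) (h.D'_le hd)) hc l hl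
  have h3 : l * d * l⁻¹ * d⁻¹ = (l * n * l⁻¹)⁻¹ * (l * (n * d) * l⁻¹) * d⁻¹ := by group
  have h4 : l * (n * d) * l⁻¹ = n * d := by rw [← h2]; group
  have h5 : l * d * l⁻¹ * d⁻¹ = (l * n * l⁻¹)⁻¹ * n := by rw [h3, h4]; group
  rw [h5]
  exact mul_mem (inv_mem (conj_mem_of_normalizer (h.L_C hl) hn)) hn

/-! ### The conclusions -/

/-- (1) `D` is a `p`-group. -/
theorem isPGroup (h : In R X L z w) {p : ℕ} (hp : p.Prime) (hs : Group.IsSolvable R)
    (hQ : IsPGroup p (Qw R z w)) : IsPGroup p (DD R z) :=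
  LemmaA.isPGroup_commutator hp h.odd hs h.zz h.ww h.zR h.LR h.Lz h.wL h.gen_eq hQ

/-- (2) `D` is generated by the `L`-conjugates of `Q_w`. -/
theorem le_iSup (h : In R X L z w) {p : ℕ} [Fact p.Prime] (hD : IsPGroup p (DD R z)) :
    DD R z ≤ ⨆ l : L, cj (l : G) (Qw R z w) := by
  set S := ⨆ l : L, cj (l : G) (Qw R z w) with hS
  have hSD : S ≤ DD R z := by
    refine iSup_le fun l => ?_
    have h1 := cj_mono (l : G) (Qw_le_D (R := R) (z := z) (w := w))
    rwa [cj_eq_of_normalizer (h.L_D l.2)] at h1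
  refine le_of_le_sup_commutator_self hD hSD ?_
  have hSL : L ≤ normalizer (S : Set G) := by
    have key : ∀ l ∈ L, ∀ x ∈ S, l * x * l⁻¹ ∈ S := by
      intro l hl
      have h1 : S ≤ cj l⁻¹ S := by
        refine iSup_le fun m => ?_
        have h2 : cj (m : G) (Qw R z w) = cj l⁻¹ (cj (l * m) (Qw R z w)) := by
          rw [← cj_mul]; congr 1; group
        rw [h2]
        exact cj_mono _ (_root_.le_iSup (fun l : L => cj (l : G) (Qw R z w)) ⟨l * m, L.mul_mem hl m.2⟩)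
      intro x hx
      have h2 := h1 hx
      rw [mem_cj, inv_inv] at h2
      exact h2
    intro l hl
    refine mem_normalizer_of_forall (key l hl) ?_
    intro x hx
    have := key l⁻¹ (L.inv_mem hl) x hx
    rwa [inv_inv] at this
  refine h.relative (M := S ⊔ h.D') le_sup_right (sup_le hSD h.D'_le) ?_ ?_
  · intro l hl
    rw [mem_normalizer_iff_cj, cj_sup, cj_eq_of_normalizer (hSL hl), cj_eq_of_normalizer (h.L_D' hl)]
  · intro c hc hcw
    have h1 : Qw R z w ≤ S := by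
      have h2 := _root_.le_iSup (fun l : L => cj (l : G) (Qw R z w)) 1
      simpa using h2
    have h2 := h.fix_w hc hcw
    rw [sup_comm] at h2
    exact (sup_le_sup h1 le_rfl) h2

theorem eq_iSup (h : In R X L z w) {p : ℕ} [Fact p.Prime] (hD : IsPGroup p (DD R z)) :
    DD R z = ⨆ l : L, cj (l : G) (Qw R z w) := by
  refine le_antisymm (h.le_iSup hD) (iSup_le fun l => ?_)
  have h1 := cj_mono (l : G) (Qw_le_D (R := R) (z := z) (w := w))
  rwa [cj_eq_of_normalizer (h.L_D l.2)] at h1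

/-- (3) `⁅D, D⁆ ≤ X`. -/
theorem commutator_le (h : In R X L z w) {p : ℕ} [Fact p.Prime] (hD : IsPGroup p (DD R z))
    (hX : ⁅Qw R z w, Qw R z w⁆ ≤ X) : ⁅DD R z, DD R z⁆ ≤ X := by
  set D := DD R z with hDdef
  set N := (X ⊓ D) ⊔ h.C with hN
  have hND : N ≤ D := sup_le inf_le_right (h.C_le.trans h.D'_le)
  have hCN : h.C ≤ N := le_sup_right
  -- `N` is normalised by `D` and by `L`
  have hnX : ∀ g : G, g ∈ normalizer (D : Set G) → (∀ x ∈ X, x * g = g * x) →
      g ∈ normalizer (h.C : Set G) → g ∈ normalizer (N : Set G) := by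
    intro g hgD hgX hgC
    have h1 : g ∈ normalizer ((X ⊓ D : Subgroup G) : Set G) := by
      refine mem_normalizer_of_forall ?_ ?_
      · rintro x ⟨hx1, hx2⟩
        have h2 : g * x * g⁻¹ = x := by rw [← hgX x hx1]; group
        rw [h2]; exact ⟨hx1, hx2⟩
      · rintro x ⟨hx1, hx2⟩
        have h2 : g⁻¹ * x * g = x := by rw [mul_assoc, hgX x hx1]; group
        rw [h2]; exact ⟨hx1, hx2⟩
    rw [mem_normalizer_iff_cj, hN, cj_sup, cj_eq_of_normalizer h1, cj_eq_of_normalizer hgC]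
  have hDN : ∀ d ∈ D, d ∈ normalizer (N : Set G) := fun d hd =>
    hnX d (le_normalizer hd) (fun x hx => h.XR x hx d (h.D_le hd)) (h.D_C hd)
  have hLN : ∀ l ∈ L, l ∈ normalizer (N : Set G) := fun l hl =>
    hnX l (h.L_D hl) (fun x hx => h.XL x hx l hl) (h.L_C hl)
  have hD'comm : ∀ c ∈ h.D', ∀ d ∈ D, ⁅c, d⁆ ∈ h.C := fun c hc d hd =>
    Subgroup.commutator_mem_commutator hc hd
  -- the subgroup `M`
  let M : Subgroup G :=
    { carrier := {v | v ∈ D ∧ ∀ u ∈ D, ⁅u, v⁆ ∈ N}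
      one_mem' := ⟨D.one_mem, fun u _ => by rw [commutatorElement_one_right]; exact N.one_mem⟩
      mul_mem' := by
        rintro a b ⟨ha, ha'⟩ ⟨hb, hb'⟩
        refine ⟨D.mul_mem ha hb, fun u hu => ?_⟩
        have h1 : ⁅u, a * b⁆ = ⁅u, a⁆ * (a * ⁅u, b⁆ * a⁻¹) := by
          simp only [commutatorElement_def]; group
        rw [h1]
        exact N.mul_mem (ha' u hu) (conj_mem_of_normalizer (hDN a ha) (hb' u hu))
      inv_mem' := by
        rintro a ⟨ha, ha'⟩
        refine ⟨D.inv_mem ha, fun u hu => ?_⟩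
        have h1 : ⁅u, a⁻¹⁆ = a⁻¹ * ⁅u, a⁆⁻¹ * a := by
          simp only [commutatorElement_def]; group
        rw [h1]
        exact inv_conj_mem_of_normalizer (hDN a ha) (N.inv_mem (ha' u hu)) }
  have hM : ∀ v, v ∈ M ↔ v ∈ D ∧ ∀ u ∈ D, ⁅u, v⁆ ∈ N := fun _ => Iff.rfl
  have hD'M : h.D' ≤ M := by
    intro d hd
    rw [hM]
    refine ⟨h.D'_le hd, fun u hu => hCN ?_⟩
    rw [← commutatorElement_inv]
    exact inv_mem (hD'comm d hd u hu)
  have hMD : M ≤ D := fun v hv => ((hM v).1 hv).1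
  have hLM : L ≤ normalizer (M : Set G) := by
    have key : ∀ l ∈ L, ∀ v ∈ M, l * v * l⁻¹ ∈ M := by
      intro l hl v hv
      rw [hM] at hv ⊢
      refine ⟨conj_mem_of_normalizer (h.L_D hl) hv.1, fun u hu => ?_⟩
      have h1 := conj_mem_of_normalizer (hLN l hl) (hv.2 _ (inv_conj_mem_of_normalizer (h.L_D hl) hu))
      have h2 : l * ⁅l⁻¹ * u * l, v⁆ * l⁻¹ = ⁅u, l * v * l⁻¹⁆ := by
        simp only [commutatorElement_def]; group
      rwa [h2] at h1
    intro l hl
    refine mem_normalizer_of_forall (key l hl) ?_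
    intro x hx
    have := key l⁻¹ (L.inv_mem hl) x hx
    rwa [inv_inv] at this
  -- `Q_w ≤ M`
  have hQM : Qw R z w ≤ M := by
    intro q hq
    have hqD : q ∈ D := Qw_le_D hq
    have hqw := h.Qw_comm hq
    rw [hM]
    refine ⟨hqD, fun u hu => ?_⟩
    have hwD := h.L_D h.wL
    have hu' : w * u * w⁻¹ ∈ D := conj_mem_of_normalizer hwD hu
    -- `t = u * (w u w⁻¹)` is fixed by `w` modulo `D'`
    have ht := (mem_eig_false (fun h : False => h)).mp
      (mul_conj_mem_eig (h := h.sec) (hz := h.actw) (s := False) (fun h => h) hu)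
    obtain ⟨n, hn, hc⟩ := exists_commute (card_odd_of_le h.D_odd h.D'_le) h.ww h.actw.mN ht.2
    have h1 := h.fix_w (D.mul_mem (h.D'_le hn) ht.1) hc
    have h2 : u * (w * u * w⁻¹) ∈ h.D' ⊔ Qw R z w := by
      have h3 := mul_mem (inv_mem ((le_sup_left : h.D' ≤ h.D' ⊔ Qw R z w) hn)) h1
      rwa [inv_mul_cancel_left] at h3
    obtain ⟨d, hd, q', hq', he⟩ := exists_mul_of_mem_sup h.sec le_rfl h.D'_le Qw_le_D h2
    have h3 : ⁅u * (w * u * w⁻¹), q⁆ ∈ N := by
      rw [he]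
      have h4 : ⁅d * q', q⁆ = (d * ⁅q', q⁆ * d⁻¹) * ⁅d, q⁆ := by
        simp only [commutatorElement_def]; group
      rw [h4]
      refine N.mul_mem (conj_mem_of_normalizer (hDN d (h.D'_le hd)) ?_) (hCN (hD'comm d hd q hqD))
      refine (le_sup_left : X ⊓ D ≤ N) ⟨hX (Subgroup.commutator_mem_commutator hq' hq), ?_⟩
      exact h.D'_le (Subgroup.commutator_mem_commutator (Qw_le_D hq') hqD)
    have h4 : ⁅w * u * w⁻¹, q⁆ = w * ⁅u, q⁆ * w⁻¹ := by
      have h5 : w⁻¹ * q * w = q := by rw [mul_assoc, hqw]; group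
      have h6 : ⁅w * u * w⁻¹, q⁆ = w * ⁅u, w⁻¹ * q * w⁆ * w⁻¹ := by
        simp only [commutatorElement_def]; group
      rw [h6, h5]
    have hD' : ⁅u, q⁆ ∈ h.D' := Subgroup.commutator_mem_commutator hu hqD
    have h5 : ⁅u * (w * u * w⁻¹), q⁆ =
        (⁅u, w * ⁅u, q⁆ * w⁻¹⁆ * (w * ⁅u, q⁆ * w⁻¹ * ⁅u, q⁆⁻¹)) * (⁅u, q⁆ * ⁅u, q⁆) := by
      rw [← h4]
      simp only [commutatorElement_def]; group
    have h6 : ⁅u, w * ⁅u, q⁆ * w⁻¹⁆ ∈ N := by
      refine hCN ?_
      rw [← commutatorElement_inv]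
      exact inv_mem (hD'comm _ (conj_mem_of_normalizer (h.L_D' h.wL) hD') u hu)
    have h7 := hCN (h.L_triv h.wL hD')
    rw [h5] at h3
    exact Weights.mem_of_sq_mem h.D_odd (h.D'_le hD') ((N.mul_mem_cancel_left (N.mul_mem h6 h7)).1 h3)
  have hDM : D ≤ M := h.relative hD'M hMD hLM fun c hc hcw => (sup_le hD'M hQM) (h.fix_w hc hcw)
  have h1 : h.D' ≤ N := by
    change ⁅DD R z, DD R z⁆ ≤ N
    rw [Subgroup.commutator_le]
    intro a ha b hb
    exact ((hM b).1 (hDM hb)).2 a ha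
  have h2 : h.D' ≤ X ⊓ D := by
    refine le_of_le_sup_commutator hD inf_le_right h.D'_le ?_ h1
    rintro q hq x ⟨hx1, hx2⟩
    have h3 : q * x * q⁻¹ = x := by rw [← h.XR x hx1 q (h.D_le hq)]; group
    rw [h3]; exact ⟨hx1, hx2⟩
  exact h2.trans inf_le_left

/-- (4) `C_D(z) ≤ X`. -/
theorem mem_of_commute (h : In R X L z w) {p : ℕ} [Fact p.Prime] (hD : IsPGroup p (DD R z))
    (hX : ⁅Qw R z w, Qw R z w⁆ ≤ X) {c : G} (hc : c ∈ DD R z) (hz : c * z = z * c) : c ∈ X :=
  h.commutator_le hD hX (h.fix_mem hc hz)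

end In

/-! ### The form for `Long K X z` -/

open Cfsg.Agent.Cit.Parab

variable {K X L : Subgroup G} {z w : G}

theorem QX_eq_DD (X : Subgroup G) (z : G) : QX X z = DD (core X) z := rfl

/-- the hypotheses of LEMMA UQ in the setting of `Long K X z` -/
theorem in_of_long (h : Long K X z) (hLK : ∀ l ∈ L, ∀ k ∈ K, l * k = k * l)
    (hLc : ∀ l ∈ L, ∀ d ∈ core K, l * d = d * l) (hw : w * w = 1) (hwL : w ∈ L)
    (hgen : L ≤ closure {x : G | ∃ l ∈ L, x = ⁅l, w⁆}) [Finite G] : In (core X) X L z w where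
  odd := odd_core X
  zz := h.zsq
  ww := hw
  zR := h.z_normalizes (mem_zpowers z)
  LR := by
    have hl : ∀ l ∈ L, l ∈ centralizer (X : Set G) := fun l hl => by
      rw [mem_centralizer_iff]
      exact fun x hx => (hLK l hl x (h.XK hx)).symm
    intro l hl'
    refine mem_normalizer_of_forall (fun x hx => core_conj_mem (hl l hl') hx) fun x hx => ?_
    have h1 := core_conj_mem (hl l⁻¹ (L.inv_mem hl')) hx
    rwa [inv_inv] at h1
  Lz := fun l hl => hLK l hl z h.zK
  wL := hwL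
  gen := hgen
  XR := fun x hx r hr => (core_commute hr hx).symm
  XL := fun x hx l hl => (hLK l hl x (h.XK hx)).symm
  fix := by
    intro c hc hcz l hl
    have hcR : c ∈ core X := h.QX_le_core hc
    obtain ⟨x, hx, d, hd, hdK, rfl⟩ := h.mem_core_of_commute hcR hcz
    have h1 : d ∈ core K := h.core_inf_le ⟨hd, by
      change d ∈ centralizer (K : Set G)
      rw [mem_centralizer_iff]
      exact fun k hk => (hdK k hk).symm⟩
    have h2 := hLK l hl x (h.XK hx)
    have h3 := hLc l hl d h1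
    rw [mul_assoc, ← h3, ← mul_assoc, ← h2, mul_assoc]

/-- `Q = X [O(C(X)), z]` -/
noncomputable def QQ (X : Subgroup G) (z : G) : Subgroup G := X ⊔ QX X z

theorem X_le_QQ (X : Subgroup G) (z : G) : X ≤ QQ X z := le_sup_left

theorem QX_le_QQ (X : Subgroup G) (z : G) : QX X z ≤ QQ X z := le_sup_right

theorem Long.QQ_le_core (h : Long K X z) : QQ X z ≤ core X := sup_le h.X_le_core h.QX_le_core

theorem mem_QQ (h : Long K X z) {a : G} : a ∈ QQ X z ↔ ∃ x ∈ X, ∃ d ∈ QX X z, a = x * d := by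
  constructor
  · have hc : ∀ d ∈ QX X z, ∀ x ∈ X, d * x = x * d := fun d hd x hx => core_commute (h.QX_le_core hd) hx
    let S : Subgroup G :=
      { carrier := {a | ∃ x ∈ X, ∃ d ∈ QX X z, a = x * d}
        one_mem' := ⟨1, X.one_mem, 1, one_mem _, by simp⟩
        mul_mem' := by
          rintro _ _ ⟨x, hx, d, hd, rfl⟩ ⟨x', hx', d', hd', rfl⟩
          refine ⟨x * x', X.mul_mem hx hx', d * d', mul_mem hd hd', ?_⟩
          calc x * d * (x' * d') = x * (d * x') * d' := by group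
            _ = x * x' * (d * d') := by rw [hc d hd x' hx']; group
        inv_mem' := by
          rintro _ ⟨x, hx, d, hd, rfl⟩
          refine ⟨x⁻¹, X.inv_mem hx, d⁻¹, inv_mem hd, ?_⟩
          rw [← hc d hd x hx, mul_inv_rev] }
    intro ha
    have h1 : QQ X z ≤ S := sup_le (fun x hx => ⟨x, hx, 1, one_mem _, by simp⟩)
      (fun d hd => ⟨1, X.one_mem, d, hd, by simp⟩)
    exact h1 ha
  · rintro ⟨x, hx, d, hd, rfl⟩
    exact mul_mem (X_le_QQ X z hx) (QX_le_QQ X z hd)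

/-- `X` is central in `Q`. -/
theorem QQ_comm (h : Long K X z) {q x : G} (hq : q ∈ QQ X z) (hx : x ∈ X) : q * x = x * q :=
  core_commute (Long.QQ_le_core h hq) hx

theorem QQ_isPGroup [Finite G] {p : ℕ} [Fact p.Prime] (h : Long K X z) (hX : IsPGroup p X)
    (hQ : IsPGroup p (QX X z)) : IsPGroup p (QQ X z) := by
  refine hX.to_sup_of_normal_right' hQ ?_
  intro x hx
  refine mem_normalizer_of_forall ?_ ?_
  · intro d hd
    have h1 := core_commute (h.QX_le_core hd) hx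
    have h2 : x * d * x⁻¹ = d := by rw [← h1]; group
    rw [h2]; exact hd
  · intro d hd
    have h1 := core_commute (h.QX_le_core hd) hx
    have h2 : x⁻¹ * d * x = d := by rw [mul_assoc, h1]; group
    rw [h2]; exact hd

theorem QQ_commutator_eq_QX (h : Long K X z) : ⁅QQ X z, QQ X z⁆ = ⁅QX X z, QX X z⁆ := by
  refine le_antisymm ?_ (Subgroup.commutator_mono (QX_le_QQ X z) (QX_le_QQ X z))
  rw [Subgroup.commutator_le]
  intro a ha b hb
  obtain ⟨x, hx, d, hd, rfl⟩ := (mem_QQ h).1 ha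
  obtain ⟨y, hy, e, he, rfl⟩ := (mem_QQ h).1 hb
  have hxb : x * (y * e) = y * e * x := (QQ_comm h hb hx).symm
  have hyd : d * y = y * d := core_commute (h.QX_le_core hd) hy
  have h1 : ⁅x * d, y * e⁆ = ⁅d, e⁆ := by
    simp only [commutatorElement_def]
    calc x * d * (y * e) * (x * d)⁻¹ * (y * e)⁻¹
        = x * (d * y) * e * d⁻¹ * (x⁻¹ * (y * e)⁻¹) := by group
      _ = x * (y * d) * e * d⁻¹ * ((y * e) * x)⁻¹ := by rw [hyd]; group
      _ = x * (y * d) * e * d⁻¹ * (x * (y * e))⁻¹ := by rw [hxb]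
      _ = x * (y * (d * e * d⁻¹ * e⁻¹) * y⁻¹) * x⁻¹ := by group
      _ = x * (d * e * d⁻¹ * e⁻¹) * x⁻¹ := by
          have h2 : d * e * d⁻¹ * e⁻¹ ∈ QX X z := mul_mem (mul_mem (mul_mem hd he) (inv_mem hd)) (inv_mem he)
          rw [← core_commute (h.QX_le_core h2) hy]; group
      _ = d * e * d⁻¹ * e⁻¹ := by
          have h2 : d * e * d⁻¹ * e⁻¹ ∈ QX X z := mul_mem (mul_mem (mul_mem hd he) (inv_mem hd)) (inv_mem he)
          rw [← core_commute (h.QX_le_core h2) hx]; group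
  rw [h1]
  exact Subgroup.commutator_mem_commutator hd he

section Main

variable [Finite G] {p : ℕ} [Fact p.Prime]

/-- `Q' ≤ X` -/
theorem QQ_commutator_le (h : Long K X z) (hI : In (core X) X L z w) (hp : IsPGroup p (QX X z))
    (hX : ⁅Qw (core X) z w, Qw (core X) z w⁆ ≤ X) : ⁅QQ X z, QQ X z⁆ ≤ X := by
  rw [QQ_commutator_eq_QX h]
  exact hI.commutator_le hp hX

/-- `C_Q(z) = X` -/
theorem QQ_inf_centralizer (h : Long K X z) (hI : In (core X) X L z w) (hp : IsPGroup p (QX X z))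
    (hX : ⁅Qw (core X) z w, Qw (core X) z w⁆ ≤ X) : QQ X z ⊓ centralizer {z} = X := by
  apply le_antisymm
  · rintro a ⟨ha, haz⟩
    have haz' := mem_centralizer_singleton_iff.1 haz
    obtain ⟨x, hx, d, hd, rfl⟩ := (mem_QQ h).1 ha
    have hxz := h.central (h.XK hx)
    have hdz : d * z = z * d := by
      calc d * z = x⁻¹ * (x * d * z) := by group
        _ = x⁻¹ * (z * x) * d := by rw [haz']; group
        _ = z * d := by rw [← hxz]; group
    exact X.mul_mem hx (hI.mem_of_commute hp hX hd hdz)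
  · intro x hx
    exact ⟨X_le_QQ X z hx, mem_centralizer_singleton_iff.2 (h.central (h.XK hx))⟩

omit [Fact p.Prime] in
/-- `N(X)` normalises `Q`. -/
theorem cj_QQ (h : Long K X z) {g : G} (hg : cj g X = X) : cj g (QQ X z) = QQ X z := by
  rw [QQ, cj_sup, hg, h.cj_QX hg]

/-- `Q' = X` or `Q' = 1` if `N(X)` acts irreducibly on `X`. -/
theorem QQ_commutator_eq (h : Long K X z) (hI : In (core X) X L z w) (hp : IsPGroup p (QX X z))
    (hX : ⁅Qw (core X) z w, Qw (core X) z w⁆ ≤ X)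
    (hirr : ∀ Y ≤ X, (∀ g : G, cj g X = X → cj g Y = Y) → Y = ⊥ ∨ Y = X) :
    ⁅QQ X z, QQ X z⁆ = ⊥ ∨ ⁅QQ X z, QQ X z⁆ = X := by
  refine hirr _ (QQ_commutator_le h hI hp hX) fun g hg => ?_
  rw [cj_commutator, cj_QQ h hg]

end Main

end Cfsg.Agent.Cit.LemmaUQ
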