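import Cfsg.Agent.Cit.ParabSL2
import Cfsg.Agent.Cit.ParabQ

/-!
# Opposite root subgroups of a subgroup isomorphic to `SL(2,q)`

For `K ≅ SL(2,F)` and subgroups `X ≠ Y` of `K` of order `|F|` : `X ⊔ Y = K`, `X ⊓ Y = ⊥`, `X` is regular on the
other subgroups of order `|F|`.
-/

set_option autoImplicit false
set_option linter.style.haveILetI false

namespace Cfsg.Agent.Cit.ParabSL2

open Subgroup Cfsg Matrix Cfsg.Agent.Lib.SL2Mat Cfsg.Agent.Lib.AutSL2

variable {G : Type*} [Group G] {F : Type*} [Field F] [Fintype F] {K : Subgroup G}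

/-- The image of the group of lower unitriangular matrices. -/
def rootOp (e : Matrix.SpecialLinearGroup (Fin 2) F ≃* K) : Subgroup G :=
  cj (e (wm 1 one_ne_zero) : G) (root e)

omit [Fintype F] in
theorem mem_rootOp {e : Matrix.SpecialLinearGroup (Fin 2) F ≃* K} {x : G} :
    x ∈ rootOp e ↔ ∃ b : F, (e (lo b) : G) = x := by
  have hw : ∀ b : F, wm (1 : F) one_ne_zero * up b * (wm 1 one_ne_zero)⁻¹ = lo (-b) := by
    intro b
    have h1 := wm_up (1 : F) b one_ne_zero
    rw [h1, mul_assoc, mul_inv_cancel, mul_one]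
    congr 1
    ring
  unfold rootOp
  rw [mem_cj, mem_root]
  constructor
  · rintro ⟨b, hb⟩
    refine ⟨-b, ?_⟩
    have h1 : x = (e (wm 1 one_ne_zero) : G) * (e (up b) : G) * (e (wm 1 one_ne_zero) : G)⁻¹ := by
      rw [hb]; group
    rw [h1, ← hw, map_mul, map_mul, map_inv]
    rfl
  · rintro ⟨b, rfl⟩
    refine ⟨-b, ?_⟩
    have h1 : lo b = wm (1 : F) one_ne_zero * up (-b) * (wm 1 one_ne_zero)⁻¹ := by
      rw [hw, neg_neg]
    rw [h1, map_mul, map_mul, map_inv]
    show (e (up (-b)) : G) = (e (wm 1 one_ne_zero) : G)⁻¹ * ((e (wm 1 one_ne_zero) : G) * (e (up (-b)) : G) *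
      (e (wm 1 one_ne_zero) : G)⁻¹) * (e (wm 1 one_ne_zero) : G)
    group

omit [Fintype F] in
/-- A conjugate of `root e` in `K` is `root e` or is conjugate to `rootOp e` by an element of `root e`. -/
theorem cj_root_cases (e : Matrix.SpecialLinearGroup (Fin 2) F ≃* K) {k : G} (hk : k ∈ K) :
    cj k (root e) = root e ∨ ∃ a : F, cj k (root e) = cj (e (up a) : G) (rootOp e) := by
  obtain ⟨g, hg⟩ : ∃ g, (e g : G) = k := ⟨e.symm ⟨k, hk⟩, by rw [MulEquiv.apply_symm_apply]⟩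
  by_cases hc : ent g 1 0 = 0
  · left
    -- `g` is upper triangular
    have hd := det_eq g
    rw [hc, mul_zero, sub_zero] at hd
    have ha : ent g 0 0 ≠ 0 := left_ne_zero_of_mul_eq_one hd
    have h1 : ∀ b : F, g * up b = up ((ent g 0 0) ^ 2 * b) * g := by
      intro b
      refine ext_ent ?_ ?_ ?_ ?_ <;> rw [ent_mul, ent_mul]
      · rw [up_00, up_10, up_00, up_01, hc]; ring
      · rw [up_01, up_11, up_00, up_01]
        have h2 : ent g 0 0 ^ 2 * b * ent g 1 1 = ent g 0 0 * b := by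
          linear_combination (ent g 0 0 * b) * hd
        rw [h2]; ring
      · rw [up_00, up_10, up_10, up_11, hc]; ring
      · rw [up_01, up_11, up_10, up_11, hc]; ring
    ext x
    rw [mem_cj, mem_root, mem_root]
    constructor
    · rintro ⟨b, hb⟩
      refine ⟨(ent g 0 0) ^ 2 * b, ?_⟩
      have h2 : x = k * (e (up b) : G) * k⁻¹ := by rw [hb]; group
      have h3 : up ((ent g 0 0) ^ 2 * b) = g * up b * g⁻¹ := by rw [h1, mul_assoc, mul_inv_cancel, mul_one]
      rw [h2, h3, map_mul, map_mul, map_inv, ← hg]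
      rfl
    · rintro ⟨b, rfl⟩
      refine ⟨((ent g 0 0) ^ 2)⁻¹ * b, ?_⟩
      have h3 : up b = g * up (((ent g 0 0) ^ 2)⁻¹ * b) * g⁻¹ := by
        rw [h1, mul_assoc, mul_inv_cancel, mul_one]
        congr 1
        field_simp
      rw [h3, map_mul, map_mul, map_inv, ← hg]
      show (e (up _) : G) = (e g : G)⁻¹ * ((e g : G) * (e (up _) : G) * (e g : G)⁻¹) * (e g : G)
      group
  · right
    -- `g = up a * lo c * up b`, and `lo c = up _ * wm _ * up _`
    obtain ⟨a, h, b, hh, hgab⟩ : ∃ (a h b : F) (hh : h ≠ 0), g = up a * wm h hh * up b := by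
      refine ⟨ent g 0 0 / ent g 1 0, -(ent g 1 0)⁻¹, ent g 1 1 / ent g 1 0,
        neg_ne_zero.2 (inv_ne_zero hc), ?_⟩
      have hd := det_eq g
      refine ext_ent ?_ ?_ ?_ ?_
      · rw [ent_mul, ent_mul, ent_mul, up_00, up_01, wm_00, wm_10, up_00, up_10]
        field_simp
        ring
      · rw [ent_mul, ent_mul, ent_mul, up_00, up_01, wm_00, wm_10, wm_01, wm_11, up_01, up_11]
        field_simp
        linear_combination -hd
      · rw [ent_mul, ent_mul, ent_mul, up_10, up_11, wm_00, wm_10, wm_01, wm_11, up_00, up_10]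
        field_simp
        ring
      · rw [ent_mul, ent_mul, ent_mul, up_10, up_11, wm_00, wm_10, wm_01, wm_11, up_01, up_11]
        field_simp
        ring
    refine ⟨a, ?_⟩
    have hb : cj (e (up b) : G) (root e) = root e := by
      rw [← mem_normalizer_iff_cj]
      exact le_normalizer (mem_root.2 ⟨b, rfl⟩)
    have hwm : cj (e (wm h hh) : G) (root e) = rootOp e := by
      ext x
      rw [mem_cj, mem_root, mem_rootOp]
      constructor
      · rintro ⟨t, ht⟩
        refine ⟨-(t / h ^ 2), ?_⟩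
        have h1 := wm_up h t hh
        have h2 : lo (-(t / h ^ 2)) = wm h hh * up t * (wm h hh)⁻¹ := by
          rw [h1, mul_assoc, mul_inv_cancel, mul_one]
        have h3 : x = (e (wm h hh) : G) * (e (up t) : G) * (e (wm h hh) : G)⁻¹ := by rw [ht]; group
        rw [h2, h3, map_mul, map_mul, map_inv]
        rfl
      · rintro ⟨t, rfl⟩
        refine ⟨-(t * h ^ 2), ?_⟩
        have h1 := wm_up h (-(t * h ^ 2)) hh
        have h2 : lo t = wm h hh * up (-(t * h ^ 2)) * (wm h hh)⁻¹ := by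
          rw [h1, mul_assoc, mul_inv_cancel, mul_one]
          congr 1
          field_simp
        rw [h2, map_mul, map_mul, map_inv]
        show (e (up _) : G) = (e (wm h hh) : G)⁻¹ * ((e (wm h hh) : G) * (e (up _) : G) * (e (wm h hh) : G)⁻¹) *
          (e (wm h hh) : G)
        group
    rw [← hg, hgab, map_mul, map_mul, Subgroup.coe_mul, Subgroup.coe_mul, cj_mul, cj_mul, hb, hwm]

/-- A subgroup of `K` of order `|F|` other than `root e` is conjugate to `rootOp e` under `root e`. -/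
theorem exists_up (e : Matrix.SpecialLinearGroup (Fin 2) F ≃* K) {Y : Subgroup G} (hY : Y ≤ K)
    (hc : Nat.card Y = Fintype.card F) (hne : Y ≠ root e) : ∃ a : F, Y = cj (e (up a) : G) (rootOp e) := by
  obtain ⟨k, hk, rfl⟩ := exists_conj_root e hY hc
  rcases cj_root_cases e hk with h | h
  · exact absurd h hne
  · exact h

/-- Coordinates adapted to `X`. -/
theorem exists_equiv (e : Matrix.SpecialLinearGroup (Fin 2) F ≃* K) {X : Subgroup G} (hX : X ≤ K)
    (hc : Nat.card X = Fintype.card F) : ∃ e' : Matrix.SpecialLinearGroup (Fin 2) F ≃* K, root e' = X := by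
  obtain ⟨k, hk, rfl⟩ := exists_conj_root e hX hc
  refine ⟨e.trans (MulAut.conj ⟨k, hk⟩), ?_⟩
  ext x
  rw [mem_root, mem_cj, mem_root]
  constructor
  · rintro ⟨b, rfl⟩
    refine ⟨b, ?_⟩
    show (e (up b) : G) = k⁻¹ * (k * (e (up b) : G) * k⁻¹) * k
    group
  · rintro ⟨b, hb⟩
    refine ⟨b, ?_⟩
    show k * (e (up b) : G) * k⁻¹ = x
    rw [hb]; group

/-- Coordinates adapted to the pair `X ≠ Y`. -/
theorem exists_equiv_pair (e : Matrix.SpecialLinearGroup (Fin 2) F ≃* K) {X Y : Subgroup G} (hX : X ≤ K)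
    (hc : Nat.card X = Fintype.card F) (hY : Y ≤ K) (hcY : Nat.card Y = Fintype.card F) (hne : Y ≠ X) :
    ∃ e' : Matrix.SpecialLinearGroup (Fin 2) F ≃* K, root e' = X ∧ rootOp e' = Y := by
  obtain ⟨e₁, rfl⟩ := exists_equiv e hX hc
  obtain ⟨a, rfl⟩ := exists_up e₁ hY hcY hne
  refine ⟨e₁.trans (MulAut.conj (e₁ (up a))), ?_, ?_⟩
  · ext x
    rw [mem_root, mem_root]
    have h1 : ∀ b, (e₁ (up a) : G) * (e₁ (up b) : G) * (e₁ (up a) : G)⁻¹ = e₁ (up b) := by
      intro b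
      have h2 : (e₁ (up a) : G) * (e₁ (up b) : G) = (e₁ (up b) : G) * (e₁ (up a) : G) := by
        rw [← Subgroup.coe_mul, ← map_mul, ← Subgroup.coe_mul, ← map_mul, up_mul, up_mul, add_comm]
      rw [h2]; group
    constructor
    · rintro ⟨b, rfl⟩
      exact ⟨b, (h1 b).symm⟩
    · rintro ⟨b, rfl⟩
      exact ⟨b, h1 b⟩
  · ext x
    rw [mem_rootOp, mem_cj, mem_rootOp]
    constructor
    · rintro ⟨b, rfl⟩
      refine ⟨b, ?_⟩
      show (e₁ (lo b) : G) = (e₁ (up a) : G)⁻¹ * ((e₁ (up a) : G) * (e₁ (lo b) : G) * (e₁ (up a) : G)⁻¹) *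
        (e₁ (up a) : G)
      group
    · rintro ⟨b, hb⟩
      refine ⟨b, ?_⟩
      show (e₁ (up a) : G) * (e₁ (lo b) : G) * (e₁ (up a) : G)⁻¹ = x
      rw [hb]; group

omit [Fintype F] in
theorem root_sup_rootOp (e : Matrix.SpecialLinearGroup (Fin 2) F ≃* K) : root e ⊔ rootOp e = K := by
  apply le_antisymm
  · refine sup_le (root_le e) ?_
    intro x hx
    obtain ⟨b, rfl⟩ := mem_rootOp.1 hx
    exact (e (lo b)).2
  · intro k hk
    have h1 : Subgroup.comap (K.subtype.comp e.toMonoidHom) (root e ⊔ rootOp e) = ⊤ := by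
      refine Cfsg.Agent.LieClassical.SLTwoUnipotent.eq_top_of_u_mem_of_l_mem _ ?_ ?_
      · intro b
        exact (le_sup_left : root e ≤ _) (mem_root.2 ⟨b, rfl⟩)
      · intro b
        exact (le_sup_right : rootOp e ≤ _) (mem_rootOp.2 ⟨b, rfl⟩)
    have h2 : e.symm ⟨k, hk⟩ ∈ Subgroup.comap (K.subtype.comp e.toMonoidHom) (root e ⊔ rootOp e) := by
      rw [h1]; trivial
    have h3 : (e (e.symm ⟨k, hk⟩) : G) ∈ root e ⊔ rootOp e := h2
    rwa [MulEquiv.apply_symm_apply] at h3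

omit [Fintype F] in
theorem eq_one_of_normalizes (e : Matrix.SpecialLinearGroup (Fin 2) F ≃* K) {x : G} (hx : x ∈ root e)
    (hn : cj x (rootOp e) = rootOp e) : x = 1 := by
  obtain ⟨b, rfl⟩ := mem_root.1 hx
  have h1 : (e (up b) : G) * (e (lo 1) : G) * (e (up b) : G)⁻¹ ∈ rootOp e := by
    have h2 := conj_mem_cj (g := (e (up b) : G)) (mem_rootOp.2 ⟨1, rfl⟩ : (e (lo 1) : G) ∈ rootOp e)
    rwa [hn] at h2
  obtain ⟨c, hc⟩ := mem_rootOp.1 h1
  have h2 : e (lo c) = e (up b * lo 1 * (up b)⁻¹) := by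
    rw [map_mul, map_mul, map_inv]
    exact Subtype.ext hc
  have h3 := e.injective h2
  rw [eq_mul_inv_iff_mul_eq] at h3
  have h4 := congrArg (fun y => ent y 0 0) h3
  simp only [ent_mul, lo_00, lo_01, up_00, up_10, up_01, lo_10] at h4
  have h5 : b = 0 := by linear_combination -h4
  rw [h5, up_zero, map_one, Subgroup.coe_one]

/-! ### The facts used for opposites -/

theorem sup_eq (e : Matrix.SpecialLinearGroup (Fin 2) F ≃* K) {X Y : Subgroup G} (hX : X ≤ K)
    (hc : Nat.card X = Fintype.card F) (hY : Y ≤ K) (hcY : Nat.card Y = Fintype.card F) (hne : Y ≠ X) :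
    X ⊔ Y = K := by
  obtain ⟨e', rfl, rfl⟩ := exists_equiv_pair e hX hc hY hcY hne
  exact root_sup_rootOp e'

theorem inf_eq (e : Matrix.SpecialLinearGroup (Fin 2) F ≃* K) {X Y : Subgroup G} (hX : X ≤ K)
    (hc : Nat.card X = Fintype.card F) (hY : Y ≤ K) (hcY : Nat.card Y = Fintype.card F) (hne : Y ≠ X) :
    X ⊓ Y = ⊥ := by
  obtain ⟨e', rfl, rfl⟩ := exists_equiv_pair e hX hc hY hcY hne
  rw [eq_bot_iff]
  rintro x ⟨hx1, hx2⟩
  refine Subgroup.mem_bot.2 (eq_one_of_normalizes e' hx1 ?_)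
  rw [← mem_normalizer_iff_cj]
  exact le_normalizer hx2

theorem eq_one_of_cj_eq (e : Matrix.SpecialLinearGroup (Fin 2) F ≃* K) {X Y : Subgroup G} (hX : X ≤ K)
    (hc : Nat.card X = Fintype.card F) (hY : Y ≤ K) (hcY : Nat.card Y = Fintype.card F) (hne : Y ≠ X)
    {x : G} (hx : x ∈ X) (hn : cj x Y = Y) : x = 1 := by
  obtain ⟨e', rfl, rfl⟩ := exists_equiv_pair e hX hc hY hcY hne
  exact eq_one_of_normalizes e' hx hn

theorem exists_cj_of_ne (e : Matrix.SpecialLinearGroup (Fin 2) F ≃* K) {X Y Y' : Subgroup G} (hX : X ≤ K)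
    (hc : Nat.card X = Fintype.card F) (hY : Y ≤ K) (hcY : Nat.card Y = Fintype.card F) (hne : Y ≠ X)
    (hY' : Y' ≤ K) (hcY' : Nat.card Y' = Fintype.card F) (hne' : Y' ≠ X) : ∃ x ∈ X, cj x Y = Y' := by
  obtain ⟨e', rfl, rfl⟩ := exists_equiv_pair e hX hc hY hcY hne
  obtain ⟨a, rfl⟩ := exists_up e' hY' hcY' hne'
  exact ⟨_, mem_root.2 ⟨a, rfl⟩, rfl⟩

end Cfsg.Agent.Cit.ParabSL2
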