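import Mathlib
import Cfsg.Agent.Nodes.ChartLoc
import Cfsg.Agent.Nodes.ClsMap
import Cfsg.Agent.Nodes.Coroot
import Cfsg.Agent.Cit.FrameSign
import Cfsg.Agent.Cit.FrameF2
import Cfsg.Agent.Cit.LemmaUQ

/-!
# Providers of frames and adapted charts (project CIT)

* `Good p X z` : the group `QQ X z = X [O(C(X)), z]` is a `p`-group with `QQ' ≤ X` and `C_QQ(z) ≤ X`;
  `good_of_uq` : from LEMMA UQ;
* `Dat Om F K X` : pairwise commuting members `K i ≅ SL(2, F)` of `Om` with opposite root groups `X i (±1)`;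
* `frame_of` : the frame `FrameSign.Frame K z X Q`, `Q i s = QQ (X i s) (z i)`;
* `Piece Om u L` : `L` is a piece of `⟨Om ∩ C(u)⟩`; `XX_le` : sign groups lie in pieces;
* `conjChart`, `exists_chartOn` : a chart of `L` adapted to the frame.
-/

set_option autoImplicit false
set_option linter.unusedSectionVars false

namespace Cfsg.Agent.Cit.FrameOf

open Subgroup Cfsg
open Cfsg.Agent.Cit.Parab Cfsg.Agent.Cit.LemmaUQ Cfsg.Agent.Cit.ParabSL2 Cfsg.Agent.Cit.FrameSign
open scoped commutatorElement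

variable {G : Type*} [Group G]

/-! ### The groups `QQ` -/

/-- The properties of `QQ X z` used in a frame. -/
structure Good (p : ℕ) (X : Subgroup G) (z : G) : Prop where
  pg : IsPGroup p (QQ X z)
  der : ⁅QQ X z, QQ X z⁆ ≤ X
  fix : ∀ a ∈ QQ X z, a * z = z * a → a ∈ X

theorem QQ_cj [Finite G] (g : G) (X : Subgroup G) (z : G) : QQ (cj g X) (g * z * g⁻¹) = cj g (QQ X z) := by
  rw [QQ, QQ, QX_cj, cj_sup]

theorem Good.conj [Finite G] {p : ℕ} {X : Subgroup G} {z : G} (h : Good p X z) (g : G) :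
    Good p (cj g X) (g * z * g⁻¹) where
  pg := by rw [QQ_cj]; exact isPGroup_cj h.pg
  der := by
    rw [QQ_cj, ← cj_commutator]
    exact cj_mono g h.der
  fix := by
    intro a ha haz
    rw [QQ_cj, mem_cj] at ha
    rw [mem_cj]
    refine h.fix _ ha ?_
    calc g⁻¹ * a * g * z = g⁻¹ * (a * (g * z * g⁻¹)) * g := by group
      _ = g⁻¹ * (g * z * g⁻¹ * a) * g := by rw [haz]
      _ = z * (g⁻¹ * a * g) := by group

/-- From LEMMA UQ. -/
theorem good_of_uq [Finite G] {p : ℕ} [Fact p.Prime] {K X L : Subgroup G} {z w : G} (h : Long K X z)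
    (hX : IsPGroup p X) (hI : In (core X) X L z w) (hs : Group.IsSolvable (core X))
    (hQ : IsPGroup p (Qw (core X) z w)) (hder : ⁅Qw (core X) z w, Qw (core X) z w⁆ ≤ X) : Good p X z := by
  have h1 : IsPGroup p (QX X z) := hI.isPGroup Fact.out hs hQ
  refine ⟨QQ_isPGroup h hX h1, QQ_commutator_le h hI h1 hder, ?_⟩
  intro a ha haz
  have h2 : a ∈ QQ X z ⊓ centralizer {z} := ⟨ha, mem_centralizer_singleton_iff.2 haz⟩
  rwa [QQ_inf_centralizer h hI h1 hder] at h2

/-! ### Frames -/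

variable {ι : Type*}

/-- Pairwise commuting members of `Om` isomorphic to `SL(2, F)` with opposite root groups. -/
structure Dat (Om : Set (Subgroup G)) (F : Type*) [Field F] (K : ι → Subgroup G)
    (X : ι → SignType → Subgroup G) : Prop where
  hyp : Hyp Om
  mem : ∀ i, K i ∈ Om
  comm : ∀ i j, i ≠ j → ∀ a ∈ K i, ∀ b ∈ K j, a * b = b * a
  sl : ∀ i, ∃ e : Matrix.SpecialLinearGroup (Fin 2) F ≃* K i, X i 1 = root e ∧ X i (-1) = rootOp e

/-- the groups `Q i s` of the frame -/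
noncomputable def QF (K : ι → Subgroup G) (X : ι → SignType → Subgroup G) : ι → SignType → Subgroup G :=
  fun i s => if s = 0 then centralizer (K i : Set G) else QQ (X i s) (zz (K i))

theorem QF_zero (K : ι → Subgroup G) (X : ι → SignType → Subgroup G) (i : ι) :
    QF K X i 0 = centralizer (K i : Set G) := if_pos rfl

theorem QF_of_ne (K : ι → Subgroup G) (X : ι → SignType → Subgroup G) (i : ι) {s : SignType} (hs : s ≠ 0) :
    QF K X i s = QQ (X i s) (zz (K i)) := if_neg hs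

theorem sign_cases {s : SignType} (hs : s ≠ 0) : s = 1 ∨ s = -1 := by
  revert hs
  cases s <;> decide

namespace Dat

variable {Om : Set (Subgroup G)} {F : Type*} [Field F] {K : ι → Subgroup G} {X : ι → SignType → Subgroup G}

theorem exists_e (D : Dat Om F K X) (i : ι) {s : SignType} (hs : s ≠ 0) :
    ∃ e : Matrix.SpecialLinearGroup (Fin 2) F ≃* K i, X i s = root e ∧ X i (-s) = rootOp e ∨
      X i s = rootOp e ∧ X i (-s) = root e := by
  obtain ⟨e, h1, h2⟩ := D.sl i
  rcases sign_cases hs with rfl | rfl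
  · exact ⟨e, Or.inl ⟨h1, h2⟩⟩
  · exact ⟨e, Or.inr ⟨h2, by rw [neg_neg]; exact h1⟩⟩

theorem rootOp_le {K : Subgroup G} (e : Matrix.SpecialLinearGroup (Fin 2) F ≃* K) : rootOp e ≤ K := by
  intro x hx
  obtain ⟨b, rfl⟩ := mem_rootOp.1 hx
  exact (e _).2

theorem X_le (D : Dat Om F K X) (i : ι) {s : SignType} (hs : s ≠ 0) : X i s ≤ K i := by
  obtain ⟨e, ⟨h1, -⟩ | ⟨h1, -⟩⟩ := D.exists_e i hs
  · rw [h1]; exact root_le e
  · rw [h1]; exact rootOp_le e

theorem K_eq (D : Dat Om F K X) (i : ι) : K i = X i 1 ⊔ X i (-1) := by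
  obtain ⟨e, h1, h2⟩ := D.sl i
  rw [h1, h2, root_sup_rootOp]

variable [Fintype F]

theorem card_rootOp {K : Subgroup G} (e : Matrix.SpecialLinearGroup (Fin 2) F ≃* K) :
    Nat.card (rootOp e) = Fintype.card F := by
  unfold rootOp
  rw [card_cj, card_root]

theorem card_X (D : Dat Om F K X) (i : ι) {s : SignType} (hs : s ≠ 0) : Nat.card (X i s) = Fintype.card F := by
  obtain ⟨e, ⟨h1, -⟩ | ⟨h1, -⟩⟩ := D.exists_e i hs
  · rw [h1, card_root]
  · rw [h1, card_rootOp]

theorem X_ne (D : Dat Om F K X) (i : ι) {s : SignType} (hs : s ≠ 0) : X i (-s) ≠ X i s := by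
  have key : ∀ e : Matrix.SpecialLinearGroup (Fin 2) F ≃* K i, root e ≠ rootOp e := by
    intro e h1
    have h2 : (e (Lib.SL2Mat.up 1) : G) = 1 := by
      refine eq_one_of_normalizes e (mem_root.2 ⟨1, rfl⟩) ?_
      rw [← h1]
      exact cj_eq_of_mem (mem_root.2 ⟨1, rfl⟩)
    have h3 : e (Lib.SL2Mat.up 1) = 1 := Subtype.ext h2
    rw [map_eq_one_iff e e.injective] at h3
    have h4 : Lib.SL2Mat.ent (Lib.SL2Mat.up (1 : F)) 0 1 = Lib.SL2Mat.ent 1 0 1 := by rw [h3]
    rw [Lib.SL2Mat.up_01] at h4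
    have h5 : Lib.SL2Mat.ent (1 : Matrix.SpecialLinearGroup (Fin 2) F) 0 1 = 0 := by
      simp [Lib.SL2Mat.ent]
    exact one_ne_zero (h4.trans h5)
  obtain ⟨e, ⟨h1, h2⟩ | ⟨h1, h2⟩⟩ := D.exists_e i hs
  · rw [h1, h2]; exact (key e).symm
  · rw [h1, h2]; exact key e

variable [Finite G]

theorem long (D : Dat Om F K X) (hF : Odd (Fintype.card F)) (i : ι) {s : SignType} (hs : s ≠ 0) :
    Long (K i) (X i s) (zz (K i)) := by
  obtain ⟨e, -, -⟩ := D.sl i
  exact long_of_hyp D.hyp (D.mem i) hF e (D.X_le i hs) (D.card_X i hs)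

theorem isPGroup (D : Dat Om F K X) {p : ℕ} [Fact p.Prime] [CharP F p] (i : ι) {s : SignType} (hs : s ≠ 0) :
    IsPGroup p (X i s) := by
  obtain ⟨m, -, hm⟩ := FiniteField.card F p
  refine IsPGroup.of_card (n := (m : ℕ)) ?_
  rw [D.card_X i hs, hm]

/-- An element of `X i s` centralising `K i` is trivial. -/
theorem X_center (D : Dat Om F K X) (i : ι) {s : SignType} (hs : s ≠ 0) {a : G} (ha : a ∈ X i s)
    (hc : ∀ b ∈ K i, a * b = b * a) : a = 1 := by
  obtain ⟨e, -, -⟩ := D.sl i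
  have hs' : -s ≠ 0 := by
    rcases sign_cases hs with rfl | rfl <;> decide
  refine eq_one_of_cj_eq e (D.X_le i hs) (D.card_X i hs) (D.X_le i hs') (D.card_X i hs') (D.X_ne i hs) ha ?_
  ext x
  rw [mem_cj]
  constructor
  · intro hx
    have h1 := hc _ (D.X_le i hs' hx)
    have h2 : x = a⁻¹ * x * a := by
      have h3 : a * (a⁻¹ * x * a) = x * a := by group
      rw [h3] at h1
      exact mul_right_cancel h1
    rw [h2]; exact hx
  · intro hx
    have h1 := hc _ (D.X_le i hs' hx)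
    have h2 : a⁻¹ * x * a = x := by rw [mul_assoc, ← h1]; group
    rwa [h2]

/-- `Good` for one sign gives it for both. -/
theorem good (D : Dat Om F K X) {p : ℕ} (hF : Odd (Fintype.card F)) {i : ι}
    (h : Good p (X i 1) (zz (K i))) {s : SignType} (hs : s ≠ 0) : Good p (X i s) (zz (K i)) := by
  rcases sign_cases hs with rfl | rfl
  · exact h
  · obtain ⟨e, -, -⟩ := D.sl i
    obtain ⟨k, hk, h1⟩ := exists_conj e (D.X_le i hs) (D.card_X i hs) (D.X_le i (one_ne_zero))
      ((D.card_X i one_ne_zero).trans (D.card_X i hs).symm)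
    have h2 := h.conj k
    rw [h1] at h2
    have h3 : k * zz (K i) * k⁻¹ = zz (K i) := by
      rw [(D.long hF i hs).central hk]; group
    rwa [h3] at h2

end Dat

/-- **The frame.** -/
theorem frame_of [Finite G] {Om : Set (Subgroup G)} {F : Type*} [Field F] [Fintype F] {p : ℕ}
    {K : ι → Subgroup G} {X : ι → SignType → Subgroup G} (D : Dat Om F K X) (hF : Odd (Fintype.card F))
    (hg : ∀ i, Good p (X i 1) (zz (K i))) : Frame K (fun i => zz (K i)) X (QF K X) where
  z_mem i := D.hyp.zz_mem (D.mem i)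
  z_sq i := D.hyp.zz_mul (D.mem i)
  z_cent i a ha := ((D.long hF i one_ne_zero).central ha).symm
  comm := D.comm
  K_eq := D.K_eq
  Q_zero := QF_zero K X
  X_le_Q i s hs := by rw [QF_of_ne K X i hs]; exact X_le_QQ _ _
  Q_cent i s hs a ha b hb := by
    rw [QF_of_ne K X i hs] at ha
    exact QQ_comm (D.long hF i hs) ha hb
  Q_der i s hs a ha b hb := by
    rw [QF_of_ne K X i hs] at ha hb
    exact (D.good hF (hg i) hs).der (Subgroup.commutator_mem_commutator ha hb)
  Q_fix i s hs a ha h1 := by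
    rw [QF_of_ne K X i hs] at ha
    exact (D.good hF (hg i) hs).fix a ha h1.symm
  Q_norm i s hs := by
    rw [QF_of_ne K X i hs]
    intro g hgn
    rw [mem_normalizer_iff_cj] at hgn ⊢
    exact cj_QQ (D.long hF i hs) hgn
  Q_odd i s hs := by
    rw [QF_of_ne K X i hs]
    exact Weights.card_odd_of_le (odd_core _) (Long.QQ_le_core (D.long hF i hs))
  X_center i s hs a ha hc := D.X_center i hs ha hc
  X_disj i j hij s t hs ht a ha hb :=
    D.X_center i hs ha fun b hbK => (D.comm i j hij b hbK a (D.X_le j ht hb)).symm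

/-! ### Pieces -/

/-- `L` is a piece of `⟨Om ∩ C(u)⟩`: its conjugates under `C(u)` and the members of `Om` in `C(u)` are equal to
resp. contained in `L` or commute with it. -/
structure Piece (Om : Set (Subgroup G)) (u : G) (L : Subgroup G) : Prop where
  le : ∀ a ∈ L, a * u = u * a
  norm : ∀ g : G, g * u = u * g → cj g L = L ∨ ∀ a ∈ L, ∀ b ∈ cj g L, a * b = b * a
  mem : ∀ J ∈ Om, (∀ a ∈ J, a * u = u * a) → J ≤ L ∨ ∀ a ∈ L, ∀ b ∈ J, a * b = b * a

section Mem

variable [Finite G] {Om : Set (Subgroup G)} {F : Type*} [Field F] [Fintype F] {p : ℕ}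
  {K : ι → Subgroup G} {X : ι → SignType → Subgroup G} (D : Dat Om F K X) (hF : Odd (Fintype.card F))
  (Fr : Frame K (fun i => zz (K i)) X (QF K X))

include D Fr

/-- An element of `C(u)` centralising a root group of a frame member in the piece `L` normalises `L`. -/
theorem mem_normalizer_piece {u : G} {L : Subgroup G} (P : Piece Om u L) {i : ι} (hi : K i ≤ L) {s : SignType}
    (hs : s ≠ 0) {a : G} (hau : a * u = u * a) (ha : ∀ x ∈ X i s, a * x = x * a) : cj a L = L := by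
  rcases P.norm a hau with h1 | h1
  · exact h1
  · exfalso
    have hX : ∀ x ∈ X i s, x = 1 := by
      intro x hx
      refine D.X_center i hs hx fun b hb => ?_
      have h2 : x ∈ cj a L := by
        rw [mem_cj]
        have h3 : a⁻¹ * x * a = x := by rw [mul_assoc, ← ha x hx]; group
        rw [h3]
        exact hi (D.X_le i hs hx)
      exact (h1 b (hi hb) x h2).symm
    have h2 := D.card_X i hs
    have h3 : X i s = ⊥ := by
      rw [eq_bot_iff]
      intro x hx
      exact Subgroup.mem_bot.2 (hX x hx)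
    rw [h3, Subgroup.card_bot] at h2
    exact (Fintype.one_lt_card (α := F)).ne h2

/-- **Sign groups lie in pieces.** -/
theorem XX_le {u : G} {L : Subgroup G} (P : Piece Om u L) {e : ι → SignType} {i j : ι} (hij : i ≠ j)
    (hi : e i ≠ 0) (hj : e j ≠ 0) (hK : K i ≤ L) (hu : ∀ a ∈ XX (QF K X) e, a * u = u * a) :
    XX (QF K X) e ≤ L := by
  intro a ha
  refine Fr.mem_of_inv hij hi hj (hK (Fr.z_mem i)) ha ?_
  rw [mem_normalizer_iff_cj]
  refine mem_normalizer_piece D Fr P hK hi (hu a ha) fun x hx => ?_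
  exact Fr.Q_cent i _ hi a (mem_XX.1 ha i) x hx

/-- the sign group is trivial if two indices of the support lie in different pieces -/
theorem XX_eq_bot {u : G} {L L' : Subgroup G} (P' : Piece Om u L') {e : ι → SignType} {i j : ι}
    (hij : i ≠ j) (hi : e i ≠ 0) (hj : e j ≠ 0) (hK : K i ≤ L) (hK' : K j ≤ L')
    (hLL : ∀ a ∈ L, ∀ b ∈ L', a * b = b * a) (hu : ∀ a ∈ XX (QF K X) e, a * u = u * a) :
    XX (QF K X) e = ⊥ := by
  rw [eq_bot_iff]
  intro a ha
  have h2 := XX_le D Fr P' hij.symm hj hi hK' hu ha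
  exact Subgroup.mem_bot.2 (Fr.fix_eq_one hij hi hj ha (hLL _ (hK (Fr.z_mem i)) a h2))

omit D in
/-- sign groups commute with `z l`, `e l = 0` -/
theorem XX_comm_z {e : ι → SignType} {l : ι} (hl : e l = 0) : ∀ a ∈ XX (QF K X) e, a * zz (K l) = zz (K l) * a :=
  fun _ ha => (Fr.z_comm hl ha).symm

omit D in
/-- sign groups commute with `z a z b` if `a, b` are both in the support -/
theorem XX_comm_zz {e : ι → SignType} {k l : ι} (hkl : k ≠ l) (hk : e k ≠ 0) (hl : e l ≠ 0) :
    ∀ a ∈ XX (QF K X) e, a * (zz (K k) * zz (K l)) = zz (K k) * zz (K l) * a := by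
  intro a ha
  have h1 : zz (K k) * a * zz (K k) = a⁻¹ := Fr.inv hkl hk hl ha
  have h2 : zz (K l) * a * zz (K l) = a⁻¹ := Fr.inv hkl.symm hl hk ha
  have hk2 : zz (K k) * zz (K k) = 1 := Fr.z_sq k
  have hl2 : zz (K l) * zz (K l) = 1 := Fr.z_sq l
  have h3 : a * zz (K k) = zz (K k) * a⁻¹ := by
    rw [← h1]
    calc a * zz (K k) = (zz (K k) * zz (K k)) * a * zz (K k) := by rw [hk2, one_mul]
      _ = zz (K k) * (zz (K k) * a * zz (K k)) := by group
  have h4 : a⁻¹ * zz (K l) = zz (K l) * a := by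
    rw [← h2]
    calc zz (K l) * a * zz (K l) * zz (K l) = zz (K l) * a * (zz (K l) * zz (K l)) := by group
      _ = zz (K l) * a := by rw [hl2, mul_one]
  rw [← mul_assoc, h3, mul_assoc, h4, mul_assoc]

omit D in
/-- sign groups commute with `z a z b` if `a, b` are both outside the support -/
theorem XX_comm_zz' {e : ι → SignType} {k l : ι} (hk : e k = 0) (hl : e l = 0) :
    ∀ a ∈ XX (QF K X) e, a * (zz (K k) * zz (K l)) = zz (K k) * zz (K l) * a := by
  intro a ha
  rw [← mul_assoc, XX_comm_z Fr hk a ha, mul_assoc, XX_comm_z Fr hl a ha, mul_assoc]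

end Mem

/-! ### Conjugate charts -/

section Conj

open CoxeterSystem Cfsg.Agent.ChevalleyStructure.CoxeterGeom Cfsg.Agent.Nodes.Chart Cfsg.Agent.Nodes.RGDLib
  Cfsg.Agent.Nodes.BNOf Cfsg.Agent.Nodes.ClsMap Cfsg.Agent.Tits.Roots Cfsg.Agent.Tits.Core

variable {Om : Set (Subgroup G)} {p : ℕ} {L : Subgroup G}

theorem cj_G1 {I W : Type*} [Fintype I] [DecidableEq I] [Group W] {M : CoxeterMatrix I}
    (cs : CoxeterSystem M W) {A : I → I → ℤ} (h : IsCartan M A) (X : (I → ℤ) → Subgroup G) (y : G) :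
    G1 cs h (fun x => cj y (X x)) = cj y (G1 cs h X) := (Nodes.Reps.cj_iSup y _).symm

/-- The chart conjugate to `c` under `y ∈ L`. -/
def conjChart (c : Chart Om p L) {y : G} (hy : y ∈ L) (hOm : ∀ K ∈ Om, ∀ g, cj g K ∈ Om) : Chart Om p L :=
  { c with
    T := cj y c.T
    n := fun i => y * c.n i * y⁻¹
    X := fun x => cj y (c.X x)
    Z := fun x => cj y (c.Z x)
    z := fun x => y * c.z x * y⁻¹
    cls := cls_map_of_injective c.cls (MulAut.conj y).toMonoidHom (MulAut.conj y).injective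
    T_le := by
      have h1 := cj_mono y c.T_le
      rwa [cj_eq_of_mem hy] at h1
    gen := by
      rw [cj_G1, c.gen]
      exact cj_eq_of_mem hy
    om := fun r hr => by
      rw [← cj_sup]
      exact hOm _ (c.om r hr) y
    om_conj := fun J hJ hJL => by
      obtain ⟨r, hr, g, hg, h1⟩ := c.om_conj J hJ hJL
      refine ⟨r, hr, g * y⁻¹, L.mul_mem hg (L.inv_mem hy), ?_⟩
      rw [h1]
      change cj g _ = cj (g * y⁻¹) (cj y (c.Z r) ⊔ cj y (c.Z (-r)))
      rw [← cj_sup, ← cj_mul]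
      congr 1
      group }

theorem GG_eq (c : Chart Om p L) : Nodes.Bruhat.GG c.cs c.h c.T c.X = L := by
  apply le_antisymm
  · unfold Nodes.Bruhat.GG
    refine sup_le c.T_le (RGD.Sup_le fun x hx => ?_)
    exact (X_le_G1 hx).trans c.gen.le
  · exact c.gen.ge.trans (RGD.Sup_le fun x hx => Nodes.Bruhat.X_le_GG hx)

theorem X_le (c : Chart Om p L) {x : c.I → ℤ} (hx : IsRoot c.cs c.h x) : c.X x ≤ L :=
  (X_le_G1 hx).trans c.gen.le

/-- the pairing with the coroot of `g` (if `g` is a root) -/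
noncomputable def ellOf {I W : Type*} [Fintype I] [DecidableEq I] [Group W] [Finite W] {M : CoxeterMatrix I}
    (cs : CoxeterSystem M W) {A : I → I → ℤ} (h : IsCartan M A) (g : I → ℤ) : (I → ℤ) →+ ℤ := by
  classical
  exact if hg : IsRoot cs h g then Nodes.Coroot.ell cs h hg else 0

theorem ellOf_apply {I W : Type*} [Fintype I] [DecidableEq I] [Group W] [Finite W] {M : CoxeterMatrix I}
    (cs : CoxeterSystem M W) {A : I → I → ℤ} (h : IsCartan M A) {g : I → ℤ} (hg : IsRoot cs h g) (x : I → ℤ) :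
    ellOf cs h g x = Nodes.Coroot.cpr cs h x g := by
  unfold ellOf
  rw [dif_pos hg, Nodes.Coroot.ell_apply]

/-- The roots of a frame in the chart `c` of `L`. -/
structure Adapted (K : ι → Subgroup G) (X : ι → SignType → Subgroup G) (c : Chart Om p L) (g : ι → c.I → ℤ) :
    Prop where
  mem : ∀ i, K i ≤ L → g i ∈ c.R
  pos : ∀ i, K i ≤ L → c.Z (g i) = X i 1
  neg : ∀ i, K i ≤ L → c.Z (-g i) = X i (-1)
  zz : ∀ i, K i ≤ L → c.z (g i) = zz (K i)
  orth : ∀ i, K i ≤ L → ∀ j, K j ≤ L → i ≠ j → form c.cs c.h (g i) (g j) = 0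

variable {F : Type*} [Field F] [Fintype F] {K : ι → Subgroup G} {X : ι → SignType → Subgroup G}

theorem not_isPGroup_K [Finite G] (hp : p.Prime) (hp2 : p ≠ 2) (D : Dat Om F K X) (i : ι) :
    ¬ IsPGroup p ↥(X i 1 ⊔ X i (-1)) := by
  intro h1
  rw [← D.K_eq i] at h1
  have h2 := D.hyp.zz_spec (D.mem i)
  obtain ⟨k, hk⟩ := h1 ⟨_, h2.1⟩
  have hk' : (zz (K i)) ^ p ^ k = 1 := by
    have := congrArg Subtype.val hk
    simpa using this
  have h3 : (2 : ℕ) ∣ p ^ k := by
    rw [← h2.2]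
    exact orderOf_dvd_of_pow_eq_one hk'
  exact hp2 ((Nat.prime_dvd_prime_iff_eq Nat.prime_two hp).1 (Nat.prime_two.dvd_of_dvd_pow h3)).symm

/-- **Adapted charts exist.** -/
theorem exists_adapted [Finite G] [Finite ι] [CharP F p] (c : Chart Om p L) (hz1 : ∀ r ∈ c.R, c.z r ≠ 1)
    (D : Dat Om F K X) :
    ∃ (y : G) (hy : y ∈ L) (g : ι → c.I → ℤ), Adapted K X (conjChart c hy D.hyp.conj) g := by
  have hp := Fact.mk c.prime
  set D' := {i : ι // K i ≤ L} with hD'
  have e : Fin (Nat.card D') ≃ D' := (Finite.equivFin D').symm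
  have hcls : ∀ i, K i ≤ L → Nodes.Frame.IsCls c.cs c.h c.T c.X c.R c.Z (X i 1) ∧
      Nodes.Frame.IsCls c.cs c.h c.T c.X c.R c.Z (X i (-1)) := by
    intro i hi
    obtain ⟨r, hr, g, hg, h1⟩ := c.om_conj (K i) (D.mem i) hi
    obtain ⟨e', -, -⟩ := D.sl i
    have hm1 : (-1 : SignType) ≠ 0 := by decide
    obtain ⟨k, hk, h2, h3⟩ := Nodes.ChartLoc.exists_pair_conj c.cls c.odd hr (by rw [GG_eq]; exact hg) h1 e'
      (D.X_le i one_ne_zero) (D.card_X i one_ne_zero) (D.X_le i hm1) (D.card_X i hm1) (D.X_ne i one_ne_zero)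
    exact ⟨⟨r, hr, k, hk, h2⟩, ⟨-r, Nodes.ClsNorm.neg_mem c.cls hr, k, hk, h3⟩⟩
  obtain ⟨g₀, hg₀, r, hr, h1, h2, h3⟩ := Nodes.Frame.frame (Nat.card D') c.cls (fun k => X (e k).1 1)
    (fun k => X (e k).1 (-1)) (fun k => (hcls _ (e k).2).1) (fun k => (hcls _ (e k).2).2)
    (fun k => not_isPGroup_K c.prime c.odd D _) (fun k l hkl a ha b hb => by
      rw [← D.K_eq] at ha hb
      exact D.comm _ _ (fun h0 => hkl (e.injective (Subtype.ext h0))) a ha b hb)
  rw [GG_eq] at hg₀
  classical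
  refine ⟨g₀⁻¹, L.inv_mem hg₀, fun i => if hi : K i ≤ L then r (e.symm ⟨i, hi⟩) else 0, ?_⟩
  have key : ∀ i (hi : K i ≤ L), (conjChart c (L.inv_mem hg₀) D.hyp.conj).Z (r (e.symm ⟨i, hi⟩)) = X i 1 ∧
      (conjChart c (L.inv_mem hg₀) D.hyp.conj).Z (-r (e.symm ⟨i, hi⟩)) = X i (-1) := by
    intro i hi
    have h4 := h1 (e.symm ⟨i, hi⟩)
    have h5 := h2 (e.symm ⟨i, hi⟩)
    simp only [Equiv.apply_symm_apply] at h4 h5
    constructor
    · change cj g₀⁻¹ (c.Z _) = _
      rw [← h4]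
      exact cj_inv_cj g₀ _
    · change cj g₀⁻¹ (c.Z _) = _
      rw [← h5]
      exact cj_inv_cj g₀ _
  constructor
  · intro i hi
    rw [dif_pos hi]
    exact hr _
  · intro i hi
    rw [dif_pos hi]
    exact (key i hi).1
  · intro i hi
    rw [dif_pos hi]
    exact (key i hi).2
  · intro i hi
    rw [dif_pos hi]
    have h4 : g₀⁻¹ * c.z (r (e.symm ⟨i, hi⟩)) * g₀⁻¹⁻¹ ∈ K i := by
      have h5 : cj g₀⁻¹ (c.Z (r (e.symm ⟨i, hi⟩))) = X i 1 := (key i hi).1
      have h6 : cj g₀⁻¹ (c.Z (-r (e.symm ⟨i, hi⟩))) = X i (-1) := (key i hi).2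
      rw [D.K_eq i, ← h5, ← h6, ← cj_sup]
      exact conj_mem_cj (c.cls.z_mem _ (hr (e.symm ⟨i, hi⟩)))
    refine D.hyp.eq_zz (D.mem i) h4 ((conjChart c (L.inv_mem hg₀) D.hyp.conj).cls.z_sq _ (hr _)) ?_
    intro h5
    change g₀⁻¹ * c.z (r (e.symm ⟨i, hi⟩)) * g₀⁻¹⁻¹ = 1 at h5
    apply hz1 _ (hr (e.symm ⟨i, hi⟩))
    have h6 : c.z (r (e.symm ⟨i, hi⟩)) = g₀ * (g₀⁻¹ * c.z (r (e.symm ⟨i, hi⟩)) * g₀⁻¹⁻¹) * g₀⁻¹ := by group
    rw [h6, h5]; group
  · intro i hi j hj hij
    rw [dif_pos hi, dif_pos hj]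
    exact h3 _ _ fun h0 => hij (congrArg Subtype.val (e.symm.injective h0))

/-- **Adapted charts are charts for the frame method.** -/
theorem chartOn_of_adapted [Finite G] [CharP F p] (c : Chart Om p L) (D : Dat Om F K X)
    (hF : Odd (Fintype.card F)) (hg : ∀ i, Good p (X i 1) (zz (K i))) {g : ι → c.I → ℤ} (hA : Adapted K X c g)
    (hout : ∀ i, ¬ K i ≤ L → ∀ a ∈ L, ∀ b ∈ K i, a * b = b * a) :
    ChartOn K (QF K X) {i | K i ≤ L} L c.cs c.h p c.T c.n c.X (fun i => ellOf c.cs c.h (g i)) where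
  rgd := c.cls.rgd
  inter := by
    intro i hi s hs
    have hroot := c.cls.root _ (hA.mem i hi)
    have hl := D.long hF i hs
    have hgood := D.good hF (hg i) hs
    rw [QF_of_ne K X i hs]
    rcases sign_cases hs with rfl | rfl
    · rw [FrameF2.chart_inf_eq c (hA.mem i hi) hgood.pg (by rw [hA.pos i hi]; exact X_le_QQ _ _) ?_ ?_]
      · congr 1
        ext x
        simp only [Set.mem_ofPred_eq]
        rw [ellOf_apply _ _ hroot, sign_eq_one_iff, Nodes.Coroot.cpr_pos_iff _ _ x hroot]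
      · intro a ha
        rw [hA.pos i hi] at ha
        refine mem_normalizer_iff_cj.2 (cj_QQ hl (cj_eq_of_conj_mem fun x hx => ?_))
        have : a * x * a⁻¹ = x := by rw [ha x hx]; group
        rwa [this]
      · intro a ha
        rw [hA.pos i hi] at ha
        rw [hA.zz i hi]
        exact QX_le_QQ _ _ (hl.commutator_mem (mem_centralizer_iff.2 fun x hx => (ha x hx).symm))
    · have hneg := Nodes.ClsNorm.neg_mem c.cls (hA.mem i hi)
      rw [FrameF2.chart_inf_eq c hneg hgood.pg (by rw [hA.neg i hi]; exact X_le_QQ _ _) ?_ ?_]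
      · congr 1
        ext x
        simp only [Set.mem_ofPred_eq]
        rw [ellOf_apply _ _ hroot, sign_eq_neg_one_iff, ← Nodes.Coroot.cpr_pos_iff _ _ x hroot.neg,
          Nodes.Coroot.cpr_neg_right _ _ x hroot]
        constructor
        · rintro ⟨h1, h2⟩; exact ⟨h1, by omega⟩
        · rintro ⟨h1, h2⟩; exact ⟨h1, by omega⟩
      · intro a ha
        rw [hA.neg i hi] at ha
        refine mem_normalizer_iff_cj.2 (cj_QQ hl (cj_eq_of_conj_mem fun x hx => ?_))
        have : a * x * a⁻¹ = x := by rw [ha x hx]; group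
        rwa [this]
      · intro a ha
        rw [hA.neg i hi] at ha
        rw [c.cls.z_neg _ (hA.mem i hi), hA.zz i hi]
        exact QX_le_QQ _ _ (hl.commutator_mem (mem_centralizer_iff.2 fun x hx => (ha x hx).symm))
  orth := by
    intro i hi x hx h0
    have hroot := c.cls.root _ (hA.mem i hi)
    rw [ellOf_apply _ _ hroot, Nodes.Coroot.cpr_zero_iff _ _ x hroot] at h0
    intro a ha
    have h1 : K i ≤ centralizer {a} := by
      rw [D.K_eq i, ← hA.pos i hi, ← hA.neg i hi]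
      refine sup_le (fun b hb => ?_) (fun b hb => ?_)
      · rw [mem_centralizer_singleton_iff]
        exact (c.cls.cent _ (hA.mem i hi) x hx h0.ge a ha b hb).symm
      · rw [mem_centralizer_singleton_iff]
        exact (c.cls.cent _ (Nodes.ClsNorm.neg_mem c.cls (hA.mem i hi)) x hx
          (by rw [form_neg_right, h0, neg_zero]) a ha b hb).symm
    rw [mem_centralizer_iff]
    exact fun b hb => mem_centralizer_singleton_iff.1 (h1 hb)
  out := by
    intro i hi a ha
    rw [mem_centralizer_iff]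
    exact fun b hb => (hout i hi a ha b hb).symm
  X_le := fun x hx => X_le c hx

end Conj

end Cfsg.Agent.Cit.FrameOf
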