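import Mathlib
import Cfsg.Agent.Nodes.PairOf
import Cfsg.Agent.Nodes.Bruhat
import Cfsg.Agent.RootAmalgam.ToSys

/-!
Glueing nodes (project CIT, (3b)): everything a type owner needs besides the pairs.

* `RankOne p X Xn` : opposite root groups of rank one; `rankOne_of_rgd` : `X x`, `X (-x)` in any root group datum;
* `RankOne.pairData` : commuting rank one groups give a `PairData 2`;
* `exists_rgd_of_pairs` : rank one data + pair data ⇒ root group datum (helper866's `exists_rgd`);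
* `exists_rgd_simplyLaced` : simply laced form.
-/

set_option autoImplicit false
set_option linter.unusedSectionVars false

namespace Cfsg.Agent.Cit.NodeGlue

open CoxeterSystem Cfsg.Agent.ChevalleyStructure.CoxeterGeom Cfsg.Agent.Tits.Roots Cfsg.Agent.Tits.Core
  Cfsg.Agent.Tits.RootComb Cfsg.Agent.Tits.Exchange Cfsg.Agent.Nodes.Comb Cfsg.Agent.Nodes.Reps
  Cfsg.Agent.Nodes.BNOf Cfsg.Agent.Nodes.StabComb
  Cfsg.Agent.Nodes.Bruhat Cfsg.Agent.Nodes.Coroot Cfsg.Agent.Nodes.PairOf Cfsg.Agent.RootAmalgam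
open scoped commutatorElement

universe u

variable {Y : Type u} [Group Y] {p : ℕ}

/-- Opposite root groups of rank one. -/
structure RankOne (p : ℕ) (X Xn : Subgroup Y) : Prop where
  mu : ∀ a ∈ Xn, a ≠ 1 → ∃ x ∈ X, ∃ y ∈ X, Onto (x * a * y) X Xn ∧ Onto (x * a * y) Xn X
  ne : X ≠ Xn
  ne_bot : Xn ≠ ⊥
  pgrp : IsPGroup p X
  cop : (Nat.card ↥((X ⊔ Xn) ⊓ Subgroup.normalizer (X : Set Y) ⊓ Subgroup.normalizer (Xn : Set Y))).Coprime p

/-- The cyclic family of two commuting rank one groups. -/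
def Zc (X Xn X' Xn' : Subgroup Y) (k : ℤ) : Subgroup Y :=
  if k % 4 = 0 then Xn' else if k % 4 = 1 then X else if k % 4 = 2 then X' else Xn

theorem onto_of_commute {g : Y} {A : Subgroup Y} (h : ∀ a ∈ A, g * a = a * g) : Onto g A A := by
  intro x
  constructor
  · intro hx
    have h1 := h _ hx
    have h2 : g * x * g⁻¹ = x := by
      have h3 : g * (g * x * g⁻¹) = g * x := by rw [h1]; group
      exact mul_left_cancel h3
    rwa [h2] at hx
  · intro hx
    have h2 : g * x * g⁻¹ = x := by rw [h x hx]; group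
    rwa [h2]

/-- Commuting rank one groups give pair data. -/
theorem RankOne.pairData {X Xn X' Xn' : Subgroup Y} (h1 : RankOne p X Xn) (h2 : RankOne p X' Xn')
    (hc : ∀ a ∈ X ⊔ Xn, ∀ b ∈ X' ⊔ Xn', a * b = b * a) : PairData 2 X Xn X' Xn' (Zc X Xn X' Xn') := by
  have f0 : ∀ k : ℤ, k % 4 = 0 → Zc X Xn X' Xn' k = Xn' := fun k hk => by unfold Zc; rw [if_pos hk]
  have f1 : ∀ k : ℤ, k % 4 = 1 → Zc X Xn X' Xn' k = X := fun k hk => by
    unfold Zc; rw [if_neg (by omega), if_pos hk]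
  have f2 : ∀ k : ℤ, k % 4 = 2 → Zc X Xn X' Xn' k = X' := fun k hk => by
    unfold Zc; rw [if_neg (by omega), if_neg (by omega), if_pos hk]
  have f3 : ∀ k : ℤ, k % 4 = 3 → Zc X Xn X' Xn' k = Xn := fun k hk => by
    unfold Zc; rw [if_neg (by omega), if_neg (by omega), if_neg (by omega)]
  refine ⟨?_, f1 1 (by decide), f2 2 (by decide), f3 (2 + 1) (by decide), f0 0 (by decide), ?_, ?_, ?_⟩
  · intro k
    unfold Zc
    have : (k + 2 * (2 : ℕ)) % 4 = k % 4 := by push_cast; omega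
    rw [this]
  · intro k l hk hkl hl u hu v hv
    have hk1 : k = 1 := by push_cast at hl; omega
    have hl2 : l = 2 := by push_cast at hl; omega
    subst hk1 hl2
    rw [f1 1 (by decide)] at hu
    rw [f2 2 (by decide)] at hv
    have : ⁅u, v⁆ = 1 := by
      rw [commutatorElement_eq_one_iff_mul_comm]
      exact hc u (Subgroup.mem_sup_left hu) v (Subgroup.mem_sup_left hv)
    rw [this]
    exact one_mem _
  · intro a ha hne
    obtain ⟨x, hx, y, hy, o1, o2⟩ := h1.mu a ha hne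
    have hg : x * a * y ∈ X ⊔ Xn :=
      mul_mem (mul_mem (Subgroup.mem_sup_left hx) (Subgroup.mem_sup_right ha)) (Subgroup.mem_sup_left hy)
    have o3 : Onto (x * a * y) X' X' := onto_of_commute fun b hb => hc _ hg b (Subgroup.mem_sup_left hb)
    have o4 : Onto (x * a * y) Xn' Xn' := onto_of_commute fun b hb => hc _ hg b (Subgroup.mem_sup_right hb)
    refine ⟨x, hx, y, hy, fun k z => ?_⟩
    change x * a * y * z * (x * a * y)⁻¹ ∈ Zc X Xn X' Xn' ((2 : ℕ) + 2 - k) ↔ z ∈ Zc X Xn X' Xn' k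
    push_cast
    have h4 : k % 4 = 0 ∨ k % 4 = 1 ∨ k % 4 = 2 ∨ k % 4 = 3 := by omega
    rcases h4 with h4 | h4 | h4 | h4
    · rw [f0 k h4, f0 _ (by omega)]; exact o4 z
    · rw [f1 k h4, f3 _ (by omega)]; exact o1 z
    · rw [f2 k h4, f2 _ (by omega)]; exact o3 z
    · rw [f3 k h4, f1 _ (by omega)]; exact o2 z
  · intro a ha hne
    obtain ⟨x, hx, y, hy, o1, o2⟩ := h2.mu a ha hne
    have hg : x * a * y ∈ X' ⊔ Xn' :=
      mul_mem (mul_mem (Subgroup.mem_sup_left hx) (Subgroup.mem_sup_right ha)) (Subgroup.mem_sup_left hy)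
    have o3 : Onto (x * a * y) X X := onto_of_commute fun b hb => (hc b (Subgroup.mem_sup_left hb) _ hg).symm
    have o4 : Onto (x * a * y) Xn Xn := onto_of_commute fun b hb => (hc b (Subgroup.mem_sup_right hb) _ hg).symm
    refine ⟨x, hx, y, hy, fun k z => ?_⟩
    change x * a * y * z * (x * a * y)⁻¹ ∈ Zc X Xn X' Xn' ((2 : ℕ) - k) ↔ z ∈ Zc X Xn X' Xn' k
    push_cast
    have h4 : k % 4 = 0 ∨ k % 4 = 1 ∨ k % 4 = 2 ∨ k % 4 = 3 := by omega
    rcases h4 with h4 | h4 | h4 | h4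
    · rw [f0 k h4, f2 _ (by omega)]; exact o2 z
    · rw [f1 k h4, f1 _ (by omega)]; exact o3 z
    · rw [f2 k h4, f0 _ (by omega)]; exact o1 z
    · rw [f3 k h4, f3 _ (by omega)]; exact o4 z

theorem commute_sup {A B C D : Subgroup Y} (h1 : ∀ a ∈ A, ∀ c ∈ C, a * c = c * a) (h2 : ∀ a ∈ A, ∀ c ∈ D, a * c = c * a)
    (h3 : ∀ a ∈ B, ∀ c ∈ C, a * c = c * a) (h4 : ∀ a ∈ B, ∀ c ∈ D, a * c = c * a) :
    ∀ a ∈ A ⊔ B, ∀ c ∈ C ⊔ D, a * c = c * a := by
  have key : ∀ {P : Subgroup Y} {a : Y}, (∀ c ∈ P, a * c = c * a) ↔ P ≤ Subgroup.centralizer {a} := by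
    intro P a
    constructor
    · intro h c hc
      rw [Subgroup.mem_centralizer_singleton_iff]
      exact (h c hc).symm
    · intro h c hc
      exact (Subgroup.mem_centralizer_singleton_iff.1 (h hc)).symm
  have key2 : ∀ {P Q : Subgroup Y}, (∀ a ∈ P, ∀ c ∈ Q, a * c = c * a) ↔ P ≤ Subgroup.centralizer (Q : Set Y) := by
    intro P Q
    constructor
    · intro h a ha
      rw [Subgroup.mem_centralizer_iff]
      exact fun c hc => (h a ha c hc).symm
    · intro h a ha c hc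
      exact ((Subgroup.mem_centralizer_iff.1 (h ha)) c hc).symm
  rw [key2]
  refine sup_le ?_ ?_
  · rw [← key2]
    intro a ha c hc
    have : C ⊔ D ≤ Subgroup.centralizer {a} := sup_le (key.1 (h1 a ha)) (key.1 (h2 a ha))
    exact key.2 this c hc
  · rw [← key2]
    intro a ha c hc
    have : C ⊔ D ≤ Subgroup.centralizer {a} := sup_le (key.1 (h3 a ha)) (key.1 (h4 a ha))
    exact key.2 this c hc

/-! ### Rank one groups in a root group datum -/

section RGDPart

variable {I W : Type*} [Fintype I] [DecidableEq I] [Group W] {M : CoxeterMatrix I}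
  {cs : CoxeterSystem M W} {A : I → I → ℤ} {h : IsCartan M A} {T : Subgroup Y} {n : I → Y}
  {X : (I → ℤ) → Subgroup Y}

theorem onto_iff_cj {g : Y} {P Q : Subgroup Y} : Onto g P Q ↔ cj g P = Q := by
  constructor
  · intro ho
    ext z
    have h1 := ho (g⁻¹ * z * g)
    have h2 : g * (g⁻¹ * z * g) * g⁻¹ ∈ cj g P ↔ g⁻¹ * z * g ∈ P := conj_mem_cj
    have e : g * (g⁻¹ * z * g) * g⁻¹ = z := by group
    rw [e] at h1 h2
    exact h2.trans h1.symm
  · rintro rfl z
    exact conj_mem_cj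

/-- the common normaliser of `X α_i` and `X (-α_i)` in the Levi subgroup of rank one is `T` -/
theorem le_T [Finite W] (R : RGD cs h p T n X) (i : I) {g : Y} (hg : g ∈ LJ cs h T X {i})
    (h1 : cj g (X (sr i)) = X (sr i)) (h2 : cj g (X (-sr i)) = X (-sr i)) : g ∈ T := by
  obtain ⟨w, hw, hc⟩ := exists_cellJ R hg
  have hBJ : ∀ b ∈ BJ cs h T X {i}, ∃ u ∈ X (sr i), ∃ t ∈ T, b = u * t := by
    intro b hb
    obtain ⟨v, hv, u, hu, t, ht, rfl⟩ := mem_BJ' R (Set.mem_singleton i) hb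
    have h3 : PosJ cs h {i} \ {sr i} = (∅ : Set (I → ℤ)) := by
      rw [Set.eq_empty_iff_forall_notMem]
      rintro x ⟨⟨hx, h0, hx2⟩, hne⟩
      exact hne (hx.eq_sr h0 i fun k hk => hx2 k hk)
    rw [h3] at hv
    have h4 : v = 1 := by
      have : RGD.Sup X (∅ : Set (I → ℤ)) = ⊥ := by
        unfold RGD.Sup
        simp
      rw [this] at hv
      exact Subgroup.mem_bot.1 hv
    exact ⟨u, hu, t, ht, by rw [h4, one_mul]⟩
  have hBX : ∀ b ∈ BJ cs h T X {i}, cj b (X (sr i)) = X (sr i) := by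
    intro b hb
    obtain ⟨u, hu, t, ht, rfl⟩ := hBJ b hb
    rw [cj_mul, R.tor _ (isRoot_sr cs h i) t ht, cj_eq_of_mem hu]
  obtain ⟨ω, hω, rfl⟩ := exists_word_of_mem_WJ cs hw
  -- the element `w` is `1` or `s_i`
  have hw1 : cs.wordProd ω = 1 ∨ cs.wordProd ω = cs.simple i := by
    clear hw hc
    induction ω with
    | nil => left; rw [wordProd_nil]
    | cons j ω ih =>
      have hj : j = i := by simpa using hω j (by simp)
      subst hj
      rw [wordProd_cons]
      rcases ih (fun k hk => hω k (by simp [hk])) with h3 | h3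
      · right; rw [h3, mul_one]
      · left; rw [h3, simple_mul_simple_self]
  rcases hw1 with h3 | h3
  · rw [h3] at hc
    obtain ⟨u, hu, t, ht, rfl⟩ := hBJ g hc.mem_of_one
    have h4 : cj u (X (-sr i)) = X (-sr i) := by
      have h5 := h2
      rw [cj_mul, R.tor _ (isRoot_sr cs h i).neg t ht] at h5
      exact h5
    -- then `u` is in `B ∩ B^{n_i}`
    have h6 : u = 1 := by
      refine eq_one_of_normalises (X := X (sr i)) (Xn := X (-sr i)) ?_ ?_ ?_ hu (onto_iff_cj.2 h4)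
      · intro a ha hne
        obtain ⟨x, hx, y, hy, hmap⟩ := exists_mu R (isRoot_sr cs h i) ha hne
        refine ⟨x, hx, y, hy, onto_iff_cj.2 ?_, onto_iff_cj.2 ?_⟩
        · rw [hmap _ (isRoot_sr cs h i), cpr_self cs h (isRoot_sr cs h i)]
          congr 1
          module
        · rw [hmap _ (isRoot_sr cs h i).neg, cpr_neg cs h _ (isRoot_sr cs h i), cpr_self cs h (isRoot_sr cs h i)]
          congr 1
          module
      · intro he
        apply R.notp i
        rw [← he, sup_idem]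
        exact R.pgrp i
      · exact X_ne_bot R (isRoot_sr cs h i).neg
    rw [h6, one_mul]
    exact ht
  · exfalso
    rw [h3] at hc
    obtain ⟨b1, hb1, k, hk, b2, hb2, rfl⟩ := hc
    rw [cj_mul, hBX b2 hb2, cj_mul, R.conj_rp hk (isRoot_sr cs h i), rep_simple_sr] at h1
    have h4 : X (-sr i) = X (sr i) := by
      have h5 : cj b1⁻¹ (cj b1 (X (-sr i))) = cj b1⁻¹ (X (sr i)) := by rw [h1]
      rw [← cj_mul, inv_mul_cancel, cj_one] at h5
      rw [h5]
      exact hBX _ (inv_mem hb1)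
    apply R.notp i
    rw [h4, sup_idem]
    exact R.pgrp i

theorem mem_normalizer_iff_cj [Finite Y] {g : Y} {P : Subgroup Y} :
    g ∈ Subgroup.normalizer (P : Set Y) ↔ cj g P = P := by
  rw [← onto_iff_cj, Subgroup.mem_normalizer_iff]
  constructor
  · intro hn z
    exact (hn z).symm
  · intro ho z
    exact (ho z).symm

/-- The rank one groups of a root group datum. -/
theorem rankOne_of_rgd [Finite Y] [Finite W] (R : RGD cs h p T n X) {x : I → ℤ} (hx : IsRoot cs h x) :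
    RankOne p (X x) (X (-x)) where
  mu := by
    intro a ha hne
    obtain ⟨u, hu, v, hv, hmap⟩ := exists_mu R hx ha hne
    refine ⟨u, hu, v, hv, onto_iff_cj.2 ?_, onto_iff_cj.2 ?_⟩
    · rw [hmap _ hx, cpr_self cs h hx]
      congr 1
      module
    · rw [hmap _ hx.neg, cpr_neg cs h _ hx, cpr_self cs h hx]
      congr 1
      module
  ne := by
    obtain ⟨w, i, rfl⟩ := hx
    obtain ⟨g, hg⟩ := exists_rp cs R.nsys w
    intro he
    apply R.notp i
    have h1 : X (sr i) = X (-sr i) := by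
      have h2 := R.conj_rp hg (isRoot_sr cs h i)
      have h3 := R.conj_rp hg (isRoot_sr cs h i).neg
      rw [map_neg, ← he, ← h2] at h3
      have h4 : cj g⁻¹ (cj g (X (-sr i))) = cj g⁻¹ (cj g (X (sr i))) := by rw [h3]
      rw [← cj_mul, ← cj_mul, inv_mul_cancel, cj_one, cj_one] at h4
      exact h4.symm
    rw [← h1, sup_idem]
    exact R.pgrp i
  ne_bot := X_ne_bot R hx.neg
  pgrp := by
    obtain ⟨w, i, rfl⟩ := hx
    obtain ⟨g, hg⟩ := exists_rp cs R.nsys w
    rw [← R.conj_rp hg (isRoot_sr cs h i)]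
    exact (R.pgrp i).map _
  cop := by
    obtain ⟨w, i, rfl⟩ := hx
    obtain ⟨g, hg⟩ := exists_rp cs R.nsys w
    refine Nat.Coprime.coprime_dvd_left ?_ R.tcop
    have h1 : cj g (X (sr i)) = X (rep cs h w (sr i)) := R.conj_rp hg (isRoot_sr cs h i)
    have h2 : cj g (X (-sr i)) = X (-rep cs h w (sr i)) := by
      rw [R.conj_rp hg (isRoot_sr cs h i).neg, map_neg]
    have h3 : ((X (rep cs h w (sr i)) ⊔ X (-rep cs h w (sr i))) ⊓
        Subgroup.normalizer (X (rep cs h w (sr i)) : Set Y) ⊓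
        Subgroup.normalizer (X (-rep cs h w (sr i)) : Set Y)) ≤ cj g T := by
      rintro a ⟨⟨ha1, ha2⟩, ha3⟩
      have ha2' := mem_normalizer_iff_cj.1 ha2
      have ha3' := mem_normalizer_iff_cj.1 ha3
      rw [← h1, ← h2, ← cj_sup] at ha1
      have e : g * (g⁻¹ * a * g) * g⁻¹ = a := by group
      rw [← e] at ha1
      have ha4 := conj_mem_cj.1 ha1
      rw [← e]
      refine conj_mem_cj.2 (le_T R i ?_ ?_ ?_)
      · refine (sup_le ?_ ?_ : X (sr i) ⊔ X (-sr i) ≤ _) ha4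
        · exact X_le_LJ (PosJ_subset _ (sr_mem_PosJ (Set.mem_singleton i)))
        · exact X_le_LJ (RootsJ.neg (PosJ_subset _ (sr_mem_PosJ (Set.mem_singleton i))))
      · rw [← h1, ← cj_mul] at ha2'
        have h4 : cj g⁻¹ (cj (a * g) (X (sr i))) = cj g⁻¹ (cj g (X (sr i))) := by rw [ha2']
        rw [← cj_mul, ← cj_mul, inv_mul_cancel, cj_one, ← mul_assoc] at h4
        exact h4
      · rw [← h2, ← cj_mul] at ha3'
        have h4 : cj g⁻¹ (cj (a * g) (X (-sr i))) = cj g⁻¹ (cj g (X (-sr i))) := by rw [ha3']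
        rw [← cj_mul, ← cj_mul, inv_mul_cancel, cj_one, ← mul_assoc] at h4
        exact h4
    refine (Subgroup.card_dvd_of_le h3).trans ?_
    exact Subgroup.card_map_dvd T _

end RGDPart

/-! ### Assembly -/

/-- Rank one data and pair data give a root group datum. -/
theorem exists_rgd_of_pairs [Finite Y] {I W : Type*} [Fintype I] [DecidableEq I]
    [Nontrivial I] [Group W] {M : CoxeterMatrix I} (cs : CoxeterSystem M W) {A : I → I → ℤ}
    (h : IsCartan M A) [Finite W] [Fact p.Prime] (X Xn : I → Subgroup Y) (hr : ∀ i, RankOne p (X i) (Xn i))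
    (hZ : ∀ i j, i ≠ j → (∃ Z, PairData (M i j) (X i) (Xn i) (X j) (Xn j) Z) ∨
      ∃ Z, PairData (M i j) (X j) (Xn j) (X i) (Xn i) Z) :
    ∃ (T : Subgroup Y) (n : I → Y) (R : (I → ℤ) → Subgroup Y),
      RGD cs h p T n R ∧ (∀ i, R (sr i) = X i) ∧ (∀ i, R (-sr i) = Xn i) ∧
      (∀ i, n i ∈ X i ⊔ Xn i) ∧ T ≤ ⨆ i, (X i ⊔ Xn i) ∧
      ∀ x, IsRoot cs h x → R x ≤ ⨆ i, (X i ⊔ Xn i) :=
  exists_rgd cs h X Xn hZ (fun i => (hr i).ne) (fun i => (hr i).ne_bot) (fun i => (hr i).pgrp)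
    (fun i => (hr i).cop)

/-- Simply laced form: for every pair one of the two data. -/
theorem exists_rgd_simplyLaced [Finite Y] {I W : Type*} [Fintype I] [DecidableEq I] [LinearOrder I]
    [Nontrivial I] [Group W] {M : CoxeterMatrix I} (cs : CoxeterSystem M W) {A : I → I → ℤ}
    (h : IsCartan M A) [Finite W] [Fact p.Prime] (X Xn : I → Subgroup Y) (hr : ∀ i, RankOne p (X i) (Xn i))
    (h2 : ∀ i j, i < j → M i j ≠ 3 → M i j = 2 ∧ ∀ a ∈ X i ⊔ Xn i, ∀ b ∈ X j ⊔ Xn j, a * b = b * a)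
    (h3 : ∀ i j, i < j → M i j = 3 → (∃ Z, PairData 3 (X i) (Xn i) (X j) (Xn j) Z) ∨
      ∃ Z, PairData 3 (X j) (Xn j) (X i) (Xn i) Z) :
    ∃ (T : Subgroup Y) (n : I → Y) (R : (I → ℤ) → Subgroup Y),
      RGD cs h p T n R ∧ (∀ i, R (sr i) = X i) ∧ (∀ i, R (-sr i) = Xn i) ∧
      (∀ i, n i ∈ X i ⊔ Xn i) ∧ T ≤ ⨆ i, (X i ⊔ Xn i) ∧
      ∀ x, IsRoot cs h x → R x ≤ ⨆ i, (X i ⊔ Xn i) := by
  have key : ∀ i j, i < j → (∃ Z, PairData (M i j) (X i) (Xn i) (X j) (Xn j) Z) ∨
      ∃ Z, PairData (M i j) (X j) (Xn j) (X i) (Xn i) Z := by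
    intro i j hij
    by_cases hm : M i j = 3
    · rw [hm]; exact h3 i j hij hm
    · obtain ⟨hm2, hc⟩ := h2 i j hij hm
      rw [hm2]
      exact Or.inl ⟨_, (hr i).pairData (hr j) hc⟩
  refine exists_rgd_of_pairs cs h X Xn hr fun i j hij => ?_
  rcases lt_or_gt_of_ne hij with hlt | hlt
  · exact key i j hlt
  · have h4 := (key j i hlt).symm
    have h5 : M j i = M i j := M.symmetric j i
    rwa [h5] at h4

end Cfsg.Agent.Cit.NodeGlue
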