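import Mathlib
import Cfsg.Agent.Cit.NodeGlue
import Cfsg.Agent.Cit.FrameSign
import Cfsg.Agent.Nodes.SimplyLaced

/-!
Type `E₆` (project CIT, (3b), helper82's frame method #5999).

Frame `K 0, …, K 3`; chart of `Δ_1` of type `A₅` containing the frame roots `g 0, g 2, g 3` and roots
`x₁ = (-g₀ - g₂)/2 + ξ`, `x₆ = (-g₀ - g₃)/2 + ξ'`, `x₁ ⊥ x₆`; chart of `Γ_01` of type `D₅` containing all frame
roots and the root `y = (g₀ - g₁ - g₂ - g₃)/2`.  Nodes: `x₁, g₁, g₂, y, g₃, x₆` (Bourbaki order).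
-/

set_option autoImplicit false
set_option linter.unusedSectionVars false

namespace Cfsg.Agent.Cit.TypeESix

open CoxeterSystem Cfsg.Agent.ChevalleyStructure.CoxeterGeom Cfsg.Agent.Tits.Roots Cfsg.Agent.Tits.Core
  Cfsg.Agent.Nodes.Reps Cfsg.Agent.Nodes.BNOf Cfsg.Agent.Nodes.Coroot Cfsg.Agent.Nodes.PairOf
  Cfsg.Agent.Nodes.SimplyLaced Cfsg.Agent.Cit.FrameSign Cfsg.Agent.Cit.NodeGlue Cfsg.Agent.RootAmalgam

universe u

variable {G : Type u} [Group G] {ι : Type*}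

/-- A chart adapted to the part `D` of the frame, with the frame roots `g i`. -/
structure FrChart (K : ι → Subgroup G) (X Q : ι → SignType → Subgroup G) (D : Set ι) (L : Subgroup G)
    {I W : Type*} [Fintype I] [DecidableEq I] [Group W] {M : CoxeterMatrix I} (cs : CoxeterSystem M W)
    {A : I → I → ℤ} (h : IsCartan M A) (p : ℕ) (T : Subgroup G) (n : I → G) (Xc : (I → ℤ) → Subgroup G)
    (ell : ι → (I → ℤ) →+ ℤ) (g : ι → I → ℤ) : Prop extends ChartOn K Q D L cs h p T n Xc ell where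
  root : ∀ i ∈ D, IsRoot cs h (g i)
  sgn : ∀ i ∈ D, ∀ x, IsRoot cs h x → SignType.sign (ell i x) = SignType.sign (cpr cs h x (g i))
  pos : ∀ i ∈ D, Xc (g i) = X i 1
  neg : ∀ i ∈ D, Xc (-g i) = X i (-1)
  gorth : ∀ i ∈ D, ∀ j ∈ D, i ≠ j → cpr cs h (g i) (g j) = 0

section

variable {K : ι → Subgroup G} {z : ι → G} {X Q : ι → SignType → Subgroup G} {D : Set ι} {L : Subgroup G}
  {I W : Type*} [Fintype I] [DecidableEq I] [Group W] {M : CoxeterMatrix I} {cs : CoxeterSystem M W}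
  {A : I → I → ℤ} {h : IsCartan M A} {p : ℕ} {T : Subgroup G} {n : I → G} {Xc : (I → ℤ) → Subgroup G}
  {ell : ι → (I → ℤ) →+ ℤ} {g : ι → I → ℤ}

namespace FrChart

/-- a root group lies in the sign group of its signs -/
theorem le_XX (F : Frame K z X Q) (C : FrChart K X Q D L cs h p T n Xc ell g) {e : ι → SignType}
    (h0 : ∀ i, i ∉ D → e i = 0) {x : I → ℤ} (hx : IsRoot cs h x)
    (he : ∀ i ∈ D, SignType.sign (cpr cs h x (g i)) = e i) : Xc x ≤ XX Q e :=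
  (RGD.le_Sup (S := RS cs h ell D e) ⟨hx, fun i hi => (C.sgn i hi x hx).trans (he i hi)⟩).trans
    (C.toChartOn.Sup_le_XX F h0)

theorem le_K_centralizer (C : FrChart K X Q D L cs h p T n Xc ell g) {i : ι} (hi : i ∈ D) {x : I → ℤ}
    (hx : IsRoot cs h x) (h0 : cpr cs h x (g i) = 0) : Xc x ≤ Subgroup.centralizer (K i : Set G) :=
  C.orth i hi x hx (sign_eq_zero_iff.1 ((C.sgn i hi x hx).trans (by rw [h0, sign_zero])))

/-- the rank one data of the frame -/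
theorem rankOne [Finite G] [Finite W] (C : FrChart K X Q D L cs h p T n Xc ell g) {i : ι} (hi : i ∈ D) :
    RankOne p (X i 1) (X i (-1)) := by
  rw [← C.pos i hi, ← C.neg i hi]
  exact rankOne_of_rgd C.rgd (C.root i hi)

end FrChart

end

/-- commuting from the centraliser -/
theorem comm_of_le {P P' Q : Subgroup G} (h1 : P ≤ Subgroup.centralizer (Q : Set G))
    (h2 : P' ≤ Subgroup.centralizer (Q : Set G)) : ∀ a ∈ P ⊔ P', ∀ b ∈ Q, a * b = b * a := by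
  intro a ha b hb
  have h3 := (sup_le h1 h2) ha
  rw [Subgroup.mem_centralizer_iff] at h3
  exact (h3 b hb).symm

/-- elements of `X i ⊔ Xn i` and `X j ⊔ Xn j` commute -/
def CM {J : Type*} (X Xn : J → Subgroup G) (i j : J) : Prop :=
  ∀ a ∈ X i ⊔ Xn i, ∀ b ∈ X j ⊔ Xn j, a * b = b * a

/-- pair data of type `A₂` for `i`, `j` or `j`, `i` -/
def PD {J : Type*} (X Xn : J → Subgroup G) (i j : J) : Prop :=
  (∃ Z, PairData 3 (X i) (Xn i) (X j) (Xn j) Z) ∨ ∃ Z, PairData 3 (X j) (Xn j) (X i) (Xn i) Z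

/-- the fifteen pairs of type `E₆` -/
theorem rgd_of_E6 [Finite G] {p : ℕ} [Fact p.Prime] {W : Type*} [Group W] [Finite W]
    (cs : CoxeterSystem CoxeterMatrix.E₆ W) {A : Fin 6 → Fin 6 → ℤ} (h : IsCartan CoxeterMatrix.E₆ A)
    (X Xn : Fin 6 → Subgroup G) (hr : ∀ i, RankOne p (X i) (Xn i))
    (c01 : CM X Xn 0 1) (c03 : CM X Xn 0 3) (c04 : CM X Xn 0 4) (c05 : CM X Xn 0 5)
    (c12 : CM X Xn 1 2) (c14 : CM X Xn 1 4) (c15 : CM X Xn 1 5)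
    (c24 : CM X Xn 2 4) (c25 : CM X Xn 2 5) (c35 : CM X Xn 3 5)
    (p02 : PD X Xn 0 2) (p13 : PD X Xn 1 3) (p23 : PD X Xn 2 3) (p34 : PD X Xn 3 4) (p45 : PD X Xn 4 5) :
    ∃ (T : Subgroup G) (n : Fin 6 → G) (R : (Fin 6 → ℤ) → Subgroup G),
      RGD cs h p T n R ∧ (∀ i, R (sr i) = X i) ∧ (∀ i, R (-sr i) = Xn i) ∧
      (∀ i, n i ∈ X i ⊔ Xn i) ∧ T ≤ ⨆ i, (X i ⊔ Xn i) ∧
      ∀ x, IsRoot cs h x → R x ≤ ⨆ i, (X i ⊔ Xn i) := by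
  have m01 : CoxeterMatrix.E₆.M 0 1 = 2 := by decide
  have m02 : CoxeterMatrix.E₆.M 0 2 = 3 := by decide
  have m03 : CoxeterMatrix.E₆.M 0 3 = 2 := by decide
  have m04 : CoxeterMatrix.E₆.M 0 4 = 2 := by decide
  have m05 : CoxeterMatrix.E₆.M 0 5 = 2 := by decide
  have m12 : CoxeterMatrix.E₆.M 1 2 = 2 := by decide
  have m13 : CoxeterMatrix.E₆.M 1 3 = 3 := by decide
  have m14 : CoxeterMatrix.E₆.M 1 4 = 2 := by decide
  have m15 : CoxeterMatrix.E₆.M 1 5 = 2 := by decide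
  have m23 : CoxeterMatrix.E₆.M 2 3 = 3 := by decide
  have m24 : CoxeterMatrix.E₆.M 2 4 = 2 := by decide
  have m25 : CoxeterMatrix.E₆.M 2 5 = 2 := by decide
  have m34 : CoxeterMatrix.E₆.M 3 4 = 3 := by decide
  have m35 : CoxeterMatrix.E₆.M 3 5 = 2 := by decide
  have m45 : CoxeterMatrix.E₆.M 4 5 = 3 := by decide
  refine exists_rgd_simplyLaced cs h X Xn hr ?_ ?_
  · intro i j hij hm
    match i, j, hij, hm with
    | 0, 1, _, _ => exact ⟨m01, c01⟩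
    | 0, 2, _, hm => exact absurd m02 hm
    | 0, 3, _, _ => exact ⟨m03, c03⟩
    | 0, 4, _, _ => exact ⟨m04, c04⟩
    | 0, 5, _, _ => exact ⟨m05, c05⟩
    | 1, 2, _, _ => exact ⟨m12, c12⟩
    | 1, 3, _, hm => exact absurd m13 hm
    | 1, 4, _, _ => exact ⟨m14, c14⟩
    | 1, 5, _, _ => exact ⟨m15, c15⟩
    | 2, 3, _, hm => exact absurd m23 hm
    | 2, 4, _, _ => exact ⟨m24, c24⟩
    | 2, 5, _, _ => exact ⟨m25, c25⟩
    | 3, 4, _, hm => exact absurd m34 hm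
    | 3, 5, _, _ => exact ⟨m35, c35⟩
    | 4, 5, _, hm => exact absurd m45 hm
    | 5, j, h5, _ => exact absurd h5 (by omega)
  · intro i j hij hm
    match i, j, hij, hm with
    | 0, 1, _, hm => rw [m01] at hm; exact absurd hm (by decide)
    | 0, 2, _, _ => exact p02
    | 0, 3, _, hm => rw [m03] at hm; exact absurd hm (by decide)
    | 0, 4, _, hm => rw [m04] at hm; exact absurd hm (by decide)
    | 0, 5, _, hm => rw [m05] at hm; exact absurd hm (by decide)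
    | 1, 2, _, hm => rw [m12] at hm; exact absurd hm (by decide)
    | 1, 3, _, _ => exact p13
    | 1, 4, _, hm => rw [m14] at hm; exact absurd hm (by decide)
    | 1, 5, _, hm => rw [m15] at hm; exact absurd hm (by decide)
    | 2, 3, _, _ => exact p23
    | 2, 4, _, hm => rw [m24] at hm; exact absurd hm (by decide)
    | 2, 5, _, hm => rw [m25] at hm; exact absurd hm (by decide)
    | 3, 4, _, _ => exact p34
    | 3, 5, _, hm => rw [m35] at hm; exact absurd hm (by decide)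
    | 4, 5, _, _ => exact p45
    | 5, j, h5, _ => exact absurd h5 (by omega)

section Main

variable {K : Fin 4 → Subgroup G} {z : Fin 4 → G} {X Q : Fin 4 → SignType → Subgroup G} {p : ℕ}
  {I₁ W₁ : Type*} [Fintype I₁] [DecidableEq I₁] [Group W₁] {M₁ : CoxeterMatrix I₁} {cs₁ : CoxeterSystem M₁ W₁}
  {A₁ : I₁ → I₁ → ℤ} {h₁ : IsCartan M₁ A₁} {L₁ T₁ : Subgroup G} {n₁ : I₁ → G} {X₁ : (I₁ → ℤ) → Subgroup G}
  {ell₁ : Fin 4 → (I₁ → ℤ) →+ ℤ} {g₁ : Fin 4 → I₁ → ℤ}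
  {I₂ W₂ : Type*} [Fintype I₂] [DecidableEq I₂] [Group W₂] {M₂ : CoxeterMatrix I₂} {cs₂ : CoxeterSystem M₂ W₂}
  {A₂ : I₂ → I₂ → ℤ} {h₂ : IsCartan M₂ A₂} {L₂ T₂ : Subgroup G} {n₂ : I₂ → G} {X₂ : (I₂ → ℤ) → Subgroup G}
  {ell₂ : Fin 4 → (I₂ → ℤ) →+ ℤ} {g₂ : Fin 4 → I₂ → ℤ}

/-- The input for type `E₆`. -/
structure Inp (K : Fin 4 → Subgroup G) (z : Fin 4 → G) (X Q : Fin 4 → SignType → Subgroup G) (p : ℕ)
    (cs₁ : CoxeterSystem M₁ W₁) (h₁ : IsCartan M₁ A₁) (L₁ T₁ : Subgroup G) (n₁ : I₁ → G)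
    (X₁ : (I₁ → ℤ) → Subgroup G) (ell₁ : Fin 4 → (I₁ → ℤ) →+ ℤ) (g₁ : Fin 4 → I₁ → ℤ)
    (cs₂ : CoxeterSystem M₂ W₂) (h₂ : IsCartan M₂ A₂) (L₂ T₂ : Subgroup G) (n₂ : I₂ → G)
    (X₂ : (I₂ → ℤ) → Subgroup G) (ell₂ : Fin 4 → (I₂ → ℤ) →+ ℤ) (g₂ : Fin 4 → I₂ → ℤ)
    (x₁ x₆ : I₁ → ℤ) (y : I₂ → ℤ) : Prop where
  F : Frame K z X Q
  C₁ : FrChart K X Q {i | i ≠ 1} L₁ cs₁ h₁ p T₁ n₁ X₁ ell₁ g₁
  h14 : ∀ i j, M₁ i j ≠ 4
  h16 : ∀ i j, M₁ i j ≠ 6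
  C₂ : FrChart K X Q Set.univ L₂ cs₂ h₂ p T₂ n₂ X₂ ell₂ g₂
  h24 : ∀ i j, M₂ i j ≠ 4
  h26 : ∀ i j, M₂ i j ≠ 6
  r1 : IsRoot cs₁ h₁ x₁
  r6 : IsRoot cs₁ h₁ x₆
  ry : IsRoot cs₂ h₂ y
  p10 : cpr cs₁ h₁ x₁ (g₁ 0) = -1
  p12 : cpr cs₁ h₁ x₁ (g₁ 2) = -1
  p13 : cpr cs₁ h₁ x₁ (g₁ 3) = 0
  p60 : cpr cs₁ h₁ x₆ (g₁ 0) = -1
  p62 : cpr cs₁ h₁ x₆ (g₁ 2) = 0
  p63 : cpr cs₁ h₁ x₆ (g₁ 3) = -1
  p16 : cpr cs₁ h₁ x₁ x₆ = 0
  y0 : cpr cs₂ h₂ y (g₂ 0) = 1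
  y1 : cpr cs₂ h₂ y (g₂ 1) = -1
  y2 : cpr cs₂ h₂ y (g₂ 2) = -1
  y3 : cpr cs₂ h₂ y (g₂ 3) = -1

/-- the signs of the central node -/
def e4 : Fin 4 → SignType := ![1, -1, -1, -1]

/-- the simple root groups -/
def Xs (X : Fin 4 → SignType → Subgroup G) (X₁ : (I₁ → ℤ) → Subgroup G) (X₂ : (I₂ → ℤ) → Subgroup G)
    (x₁ x₆ : I₁ → ℤ) (y : I₂ → ℤ) : Fin 6 → Subgroup G := ![X₁ x₁, X 1 1, X 2 1, X₂ y, X 3 1, X₁ x₆]

/-- the opposite root groups -/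
def Xn (X : Fin 4 → SignType → Subgroup G) (X₁ : (I₁ → ℤ) → Subgroup G) (X₂ : (I₂ → ℤ) → Subgroup G)
    (x₁ x₆ : I₁ → ℤ) (y : I₂ → ℤ) : Fin 6 → Subgroup G :=
  ![X₁ (-x₁), X 1 (-1), X 2 (-1), X₂ (-y), X 3 (-1), X₁ (-x₆)]

namespace Inp

variable {x₁ x₆ : I₁ → ℤ} {y : I₂ → ℤ}
  (S : Inp K z X Q p cs₁ h₁ L₁ T₁ n₁ X₁ ell₁ g₁ cs₂ h₂ L₂ T₂ n₂ X₂ ell₂ g₂ x₁ x₆ y)

include S

theorem comm12 [Finite G] [Finite W₁] [Finite W₂] {e e' : Fin 4 → SignType} (he : ∀ i, e i ≠ 0)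
    {x : I₁ → ℤ} (hx : IsRoot cs₁ h₁ x) (he1 : e' 1 = 0)
    (hx' : ∀ i, i ≠ 1 → SignType.sign (cpr cs₁ h₁ x (g₁ i)) = e' i)
    {v : I₂ → ℤ} (hv : IsRoot cs₂ h₂ v) (hve : ∀ i, SignType.sign (cpr cs₂ h₂ v (g₂ i)) = e i)
    {i : Fin 4} (hi : e' i = e i) :
    ∀ a ∈ X₁ x, ∀ b ∈ X₂ v, a * b = b * a := by
  intro a ha b hb
  have h1 : a ∈ XX Q e' := S.C₁.le_XX S.F (fun j hj => by
    have : j = 1 := by by_contra hne; exact hj hne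
    rw [this, he1]) hx (fun j hj => hx' j hj) ha
  have h2 : b ∈ XX Q e := S.C₂.le_XX S.F (fun j hj => absurd (Set.mem_univ j) hj) hv (fun j _ => hve j) hb
  exact (S.F.commute_of_zero (i := i) (j := 1) (he i) hi (he 1) he1 h2 h1).symm

/-- the four commutator relations between a node of the first chart and the central node -/
theorem comm_y [Finite G] [Finite W₁] [Finite W₂] {x : I₁ → ℤ} (hx : IsRoot cs₁ h₁ x) {k : Fin 4} (hk : k ≠ 1)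
    (hk0 : k ≠ 0) (hx0 : cpr cs₁ h₁ x (g₁ 0) = -1) (hxk : cpr cs₁ h₁ x (g₁ k) = -1)
    (hxo : ∀ i, i ≠ 0 → i ≠ 1 → i ≠ k → cpr cs₁ h₁ x (g₁ i) = 0) :
    ∀ a ∈ X₁ x ⊔ X₁ (-x), ∀ b ∈ X₂ y ⊔ X₂ (-y), a * b = b * a := by
  have hr1 : ∀ i, i ≠ 1 → IsRoot cs₁ h₁ (g₁ i) := fun i hi => S.C₁.root i hi
  have hr2 : ∀ i, IsRoot cs₂ h₂ (g₂ i) := fun i => S.C₂.root i (Set.mem_univ i)
  -- the signs
  let e : Fin 4 → SignType := fun i => if i = 0 ∨ i = k then -1 else 0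
  have hk1 : (1 : Fin 4) ≠ k := Ne.symm hk
  have e1 : e 1 = 0 := if_neg (by rintro (h | h); exacts [absurd h (by decide), hk1 h])
  have e0 : e 0 = -1 := if_pos (Or.inl rfl)
  have ek : e k = -1 := if_pos (Or.inr rfl)
  have hxe : ∀ i, i ≠ 1 → SignType.sign (cpr cs₁ h₁ x (g₁ i)) = e i := by
    intro i hi
    by_cases h0 : i = 0
    · rw [h0, hx0, e0]; rfl
    · by_cases h1 : i = k
      · rw [h1, hxk, ek]; rfl
      · rw [hxo i h0 hi h1, sign_zero]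
        exact (if_neg (by rintro (h | h); exacts [h0 h, h1 h])).symm
  have hxe' : ∀ i, i ≠ 1 → SignType.sign (cpr cs₁ h₁ (-x) (g₁ i)) = (fun i => -(e i)) i := by
    intro i hi
    rw [cpr_neg cs₁ h₁ x (hr1 i hi)]
    have := hxe i hi
    rw [Left.sign_neg, this]
  have hf : ∀ i, e4 i ≠ 0 := by decide
  have hf' : ∀ i, (fun i => -(e4 i)) i ≠ 0 := by decide
  have hy : ∀ i, SignType.sign (cpr cs₂ h₂ y (g₂ i)) = e4 i := by
    intro i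
    fin_cases i
    · change SignType.sign (cpr cs₂ h₂ y (g₂ 0)) = 1; rw [S.y0]; rfl
    · change SignType.sign (cpr cs₂ h₂ y (g₂ 1)) = -1; rw [S.y1]; rfl
    · change SignType.sign (cpr cs₂ h₂ y (g₂ 2)) = -1; rw [S.y2]; rfl
    · change SignType.sign (cpr cs₂ h₂ y (g₂ 3)) = -1; rw [S.y3]; rfl
  have hy' : ∀ i, SignType.sign (cpr cs₂ h₂ (-y) (g₂ i)) = (fun i => -(e4 i)) i := by
    intro i
    rw [cpr_neg cs₂ h₂ y (hr2 i), Left.sign_neg, hy i]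
  have h4k : e4 k = -1 := by
    fin_cases k
    · exact absurd rfl hk0
    · rfl
    · rfl
    · rfl
  refine commute_sup ?_ ?_ ?_ ?_
  · exact S.comm12 hf hx e1 hxe S.ry hy (i := k) (by rw [ek, h4k])
  · exact S.comm12 hf' hx e1 hxe S.ry.neg hy' (i := 0) (by rw [e0]; decide)
  · exact S.comm12 (e' := fun i => -(e i)) hf hx.neg (by simp [e1]) hxe' S.ry hy (i := 0) (by simp [e0]; decide)
  · exact S.comm12 (e' := fun i => -(e i)) hf' hx.neg (by simp [e1]) hxe' S.ry.neg hy' (i := k)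
      (by simp only [ek, h4k])

theorem rankOne [Finite G] [Finite W₁] [Finite W₂] :
    ∀ i, RankOne p (Xs X X₁ X₂ x₁ x₆ y i) (Xn X X₁ X₂ x₁ x₆ y i) := by
  intro i
  fin_cases i
  · exact rankOne_of_rgd S.C₁.rgd S.r1
  · exact S.C₂.rankOne (Set.mem_univ 1)
  · exact S.C₂.rankOne (Set.mem_univ 2)
  · exact rankOne_of_rgd S.C₂.rgd S.ry
  · exact S.C₂.rankOne (Set.mem_univ 3)
  · exact rankOne_of_rgd S.C₁.rgd S.r6

/-- the frame members commute -/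
theorem comm_frame {i j : Fin 4} (hij : i ≠ j) :
    ∀ a ∈ X i 1 ⊔ X i (-1), ∀ b ∈ X j 1 ⊔ X j (-1), a * b = b * a := by
  rw [← S.F.K_eq i, ← S.F.K_eq j]
  exact S.F.comm i j hij

/-- nodes of the first chart commute with `K 1` -/
theorem comm_K1 {x : I₁ → ℤ} (hx : IsRoot cs₁ h₁ x) :
    ∀ a ∈ X₁ x ⊔ X₁ (-x), ∀ b ∈ X 1 1 ⊔ X 1 (-1), a * b = b * a := by
  rw [← S.F.K_eq 1]
  have h1 : L₁ ≤ Subgroup.centralizer (K 1 : Set G) := S.C₁.out 1 (fun h => h rfl)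
  exact comm_of_le ((S.C₁.X_le x hx).trans h1) ((S.C₁.X_le (-x) hx.neg).trans h1)

/-- nodes of the first chart commute with orthogonal frame members -/
theorem comm_Kk {x : I₁ → ℤ} (hx : IsRoot cs₁ h₁ x) {k : Fin 4} (hk : k ≠ 1) [Finite W₁]
    (h0 : cpr cs₁ h₁ x (g₁ k) = 0) :
    ∀ a ∈ X₁ x ⊔ X₁ (-x), ∀ b ∈ X k 1 ⊔ X k (-1), a * b = b * a := by
  rw [← S.F.K_eq k]
  exact comm_of_le (S.C₁.le_K_centralizer hk hx h0)
    (S.C₁.le_K_centralizer hk hx.neg (by rw [cpr_neg cs₁ h₁ x (S.C₁.root k hk), h0, neg_zero]))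

/-- adjacent pairs in the first chart -/
theorem pair1 [Finite W₁] {x : I₁ → ℤ} (hx : IsRoot cs₁ h₁ x) {k : Fin 4} (hk : k ≠ 1)
    (h0 : cpr cs₁ h₁ x (g₁ k) = -1) : ∃ Z, PairData 3 (X₁ x) (X₁ (-x)) (X k 1) (X k (-1)) Z := by
  have hr := S.C₁.root k hk
  have h1 := pairData_three S.C₁.rgd S.h16 hx hr (by rw [cpr_symm cs₁ h₁ S.h14 S.h16 hr hx, h0]) h0
  rwa [S.C₁.pos k hk, S.C₁.neg k hk] at h1

/-- adjacent pairs in the second chart -/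
theorem pair2 [Finite W₂] {k : Fin 4} (h0 : cpr cs₂ h₂ y (g₂ k) = -1) :
    ∃ Z, PairData 3 (X₂ y) (X₂ (-y)) (X k 1) (X k (-1)) Z := by
  have hr := S.C₂.root k (Set.mem_univ k)
  have h1 := pairData_three S.C₂.rgd S.h26 S.ry hr (by rw [cpr_symm cs₂ h₂ S.h24 S.h26 hr S.ry, h0]) h0
  rwa [S.C₂.pos k (Set.mem_univ k), S.C₂.neg k (Set.mem_univ k)] at h1

/-- the two nodes in the first chart commute -/
theorem comm_16 [Finite W₁] : ∀ a ∈ X₁ x₁ ⊔ X₁ (-x₁), ∀ b ∈ X₁ x₆ ⊔ X₁ (-x₆), a * b = b * a := by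
  have key : ∀ {u v : I₁ → ℤ}, IsRoot cs₁ h₁ u → IsRoot cs₁ h₁ v → cpr cs₁ h₁ u v = 0 →
      ∀ a ∈ X₁ u, ∀ b ∈ X₁ v, a * b = b * a := by
    intro u v hu hv h0 a ha b hb
    have h1 := comm_of_orth' S.C₁.rgd S.h14 S.h16 hu hv ((cpr_zero_comm cs₁ h₁ hu hv).1 h0) a ha b hb
    exact commutatorElement_eq_one_iff_mul_comm.1 h1
  have h0 := S.p16
  have h1 : cpr cs₁ h₁ (-x₁) x₆ = 0 := by rw [cpr_neg cs₁ h₁ _ S.r6, h0, neg_zero]
  have h2 : cpr cs₁ h₁ x₁ (-x₆) = 0 := by rw [cpr_neg_right cs₁ h₁ _ S.r6, h0, neg_zero]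
  have h3 : cpr cs₁ h₁ (-x₁) (-x₆) = 0 := by rw [cpr_neg cs₁ h₁ _ S.r6.neg, h2, neg_zero]
  exact commute_sup (key S.r1 S.r6 h0) (key S.r1 S.r6.neg h2) (key S.r1.neg S.r6 h1) (key S.r1.neg S.r6.neg h3)

omit S in
theorem symm_comm {P Q : Subgroup G} (hc : ∀ a ∈ P, ∀ b ∈ Q, a * b = b * a) : ∀ a ∈ Q, ∀ b ∈ P, a * b = b * a :=
  fun a ha b hb => (hc b hb a ha).symm

/-- **The root group datum of type `E₆`.** -/
theorem exists_rgd [Finite G] [Fact p.Prime] [Finite W₁] [Finite W₂] {W : Type*} [Group W] [Finite W]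
    (cs : CoxeterSystem CoxeterMatrix.E₆ W) {A : Fin 6 → Fin 6 → ℤ} (h : IsCartan CoxeterMatrix.E₆ A) :
    ∃ (T : Subgroup G) (n : Fin 6 → G) (R : (Fin 6 → ℤ) → Subgroup G),
      RGD cs h p T n R ∧ (∀ i, R (sr i) = Xs X X₁ X₂ x₁ x₆ y i) ∧ (∀ i, R (-sr i) = Xn X X₁ X₂ x₁ x₆ y i) ∧
      (∀ i, n i ∈ Xs X X₁ X₂ x₁ x₆ y i ⊔ Xn X X₁ X₂ x₁ x₆ y i) ∧
      T ≤ ⨆ i, (Xs X X₁ X₂ x₁ x₆ y i ⊔ Xn X X₁ X₂ x₁ x₆ y i) ∧
      ∀ x, IsRoot cs h x → R x ≤ ⨆ i, (Xs X X₁ X₂ x₁ x₆ y i ⊔ Xn X X₁ X₂ x₁ x₆ y i) := by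
  have c1y := S.comm_y S.r1 (k := 2) (by decide) (by decide) S.p10 S.p12 (fun i h0 h1 h2 => by
    have : i = 3 := by omega
    rw [this]; exact S.p13)
  have c6y := S.comm_y S.r6 (k := 3) (by decide) (by decide) S.p60 S.p63 (fun i h0 h1 h2 => by
    have : i = 2 := by omega
    rw [this]; exact S.p62)
  exact rgd_of_E6 cs h _ _ S.rankOne (S.comm_K1 S.r1) c1y (S.comm_Kk S.r1 (k := 3) (by decide) S.p13) S.comm_16
    (S.comm_frame (i := 1) (j := 2) (by decide)) (S.comm_frame (i := 1) (j := 3) (by decide))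
    (symm_comm (S.comm_K1 S.r6)) (S.comm_frame (i := 2) (j := 3) (by decide))
    (symm_comm (S.comm_Kk S.r6 (k := 2) (by decide) S.p62)) (symm_comm c6y)
    (Or.inl (S.pair1 S.r1 (k := 2) (by decide) S.p12)) (Or.inr (S.pair2 (k := 1) S.y1))
    (Or.inr (S.pair2 (k := 2) S.y2)) (Or.inl (S.pair2 (k := 3) S.y3))
    (Or.inr (S.pair1 S.r6 (k := 3) (by decide) S.p63))

end Inp

end Main

end Cfsg.Agent.Cit.TypeESix
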