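import Mathlib
import Cfsg.Agent.Cit.FrameOf
import Cfsg.Agent.Cit.TypeESix
import Cfsg.Agent.Nodes.StdConn

/-!
# Adapted charts: supplements to `Cit.FrameOf` (project CIT)

* `z_ne_one` : the involutions `c.z r` of a chart of `L` are not trivial if `L` is not itself a member of `Om`;
* `exists_adapted'` : `FrameOf.exists_adapted` with this;
* `frChart_of_adapted` : `TypeESix.FrChart` from an adapted chart with `Z r = X r`.
-/

set_option autoImplicit false
set_option linter.unusedSectionVars false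

namespace Cfsg.Agent.Cit.FrameOfFr

open CoxeterSystem Cfsg.Agent.ChevalleyStructure.CoxeterGeom Cfsg.Agent.Tits.Roots Cfsg.Agent.Tits.Core
  Cfsg.Agent.Tits.RootComb Cfsg.Agent.Nodes.Comb Cfsg.Agent.Nodes.Reps Cfsg.Agent.Nodes.BNOf
  Cfsg.Agent.Nodes.RGDLib Cfsg.Agent.Nodes.Chart Cfsg.Agent.Nodes.ClsNorm Cfsg.Agent.Cit.FrameOf
  Cfsg.Agent.Cit.FrameSign

variable {G : Type*} [Group G] {Om : Set (Subgroup G)} {p : ℕ} {L : Subgroup G}

/-- Every root is joined to another one, rank at least two. -/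
theorem exists_not_orth (c : Chart Om p L) (hnt : Nontrivial c.I) {r : c.I → ℤ} (hr : IsRoot c.cs c.h r) :
    ∃ y, IsRoot c.cs c.h y ∧ y ≠ r ∧ y ≠ -r ∧ form c.cs c.h y r ≠ 0 := by
  obtain ⟨w, i, rfl⟩ := hr
  obtain ⟨a, ha, j, hj, hm⟩ := c.irr {i} (Set.singleton_nonempty i) (by
    intro e
    obtain ⟨k, hk⟩ := exists_ne i
    have : k ∈ ({i} : Set c.I) := by rw [e]; trivial
    exact hk this)
  rw [Set.mem_singleton_iff] at ha
  subst ha
  have haj : a ≠ j := by rintro rfl; exact hj rfl
  refine ⟨rep c.cs c.h w (sr j), (isRoot_sr c.cs c.h j).act w, ?_, ?_, ?_⟩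
  · intro e
    have e' := rep_injective_apply c.cs c.h w e
    have := congrFun e' j
    rw [sr_self, sr_ne haj.symm] at this
    exact one_ne_zero this
  · intro e
    rw [← map_neg] at e
    have e' := rep_injective_apply c.cs c.h w e
    have := congrFun e' j
    rw [sr_self, Pi.neg_apply, sr_ne haj.symm] at this
    omega
  · rw [form_rep]
    have h1 := Nodes.OrthRoot.two_form_sr c.cs c.h a j
    have h2 := cartan_neg c.h haj hm
    have h3 := form_pos c.cs c.h (sr_ne_zero a)
    intro h0
    rw [h0, mul_zero] at h1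
    have h4 := mul_neg_of_neg_of_pos h2 h3
    linarith

/-- The roots of a root system of rank one. -/
theorem root_of_subsingleton (c : Chart Om p L) (hs : Subsingleton c.I) (i : c.I) {x : c.I → ℤ}
    (hx : IsRoot c.cs c.h x) : x = sr i ∨ x = -sr i := by
  have h1 : ∃ r ∈ c.R, True := ⟨_, c.Rne.choose_spec, trivial⟩
  obtain ⟨w, j, rfl⟩ := hx
  obtain rfl : j = i := Subsingleton.elim _ _
  induction w using c.cs.simple_induction_left with
  | one => left; simp
  | mul_simple_left w k ih =>
    obtain rfl : k = j := Subsingleton.elim _ _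
    rw [map_mul]
    change rep c.cs c.h (c.cs.simple k) (rep c.cs c.h w (sr k)) = _ ∨
      rep c.cs c.h (c.cs.simple k) (rep c.cs c.h w (sr k)) = _
    rcases ih with h | h <;> rw [h]
    · right; exact rep_simple_sr _ _ _
    · left; rw [map_neg, rep_simple_sr, neg_neg]

variable [Finite G]

/-- The involutions of a chart of `L ∉ Om` are not trivial. -/
theorem z_ne_one (c : Chart Om p L) (hL : L ∉ Om) : ∀ r ∈ c.R, c.z r ≠ 1 := by
  intro r hr h0
  rcases subsingleton_or_nontrivial c.I with hs | hnt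
  · obtain ⟨i⟩ := c.ne
    apply hL
    have hpg : ∀ {x : c.I → ℤ}, x ∈ c.R → c.z x = 1 → c.X x ≤ c.Z x := by
      intro x hx hz a ha
      have h2 := c.cls.z_inv_self x hx a ha
      rw [hz, one_mul, mul_one] at h2
      refine Weights.mem_of_sq_mem (Q := c.X x) ?_ ha h2
      have : Fact p.Prime := ⟨c.prime⟩
      obtain ⟨k, hk⟩ := (IsPGroup.iff_card.1 (c.cls.rgd.pgrp' (c.cls.root x hx)))
      rw [hk]
      exact (c.prime.odd_of_ne_two c.odd).pow
    have hneg := neg_mem c.cls hr
    have e1 : c.X r = c.Z r := le_antisymm (hpg hr h0) (c.cls.le r hr)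
    have e2 : c.X (-r) = c.Z (-r) :=
      le_antisymm (hpg hneg (by rw [c.cls.z_neg r hr, h0])) (c.cls.le _ hneg)
    have h3 : L = c.Z r ⊔ c.Z (-r) := by
      apply le_antisymm
      · rw [← e1, ← e2]
        refine c.gen.symm.le.trans ?_
        unfold G1
        refine RGD.Sup_le fun x hx => ?_
        have hx' := root_of_subsingleton c hs i hx
        have hr' := root_of_subsingleton c hs i (c.cls.root r hr)
        rcases hx' with rfl | rfl <;> rcases hr' with h | h <;> rw [h]
        · exact le_sup_left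
        · rw [neg_neg]; exact le_sup_right
        · exact le_sup_right
        · exact le_sup_left
      · exact sup_le ((c.cls.le r hr).trans (FrameOf.X_le c (c.cls.root r hr)))
          ((c.cls.le _ hneg).trans (FrameOf.X_le c (c.cls.root _ hneg)))
    rw [h3]
    exact c.om r hr
  · obtain ⟨y, hy, h1, h2, h3⟩ := exists_not_orth c hnt (c.cls.root r hr)
    exact Nodes.StdConn.z_ne_one c.cls c.prime c.odd hr hy h1 h2 h3 h0

variable {ι : Type*} {F : Type*} [Field F] [Fintype F] {K : ι → Subgroup G} {X : ι → SignType → Subgroup G}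

/-- **Adapted charts exist**, `L ∉ Om`. -/
theorem exists_adapted' [Finite ι] [CharP F p] (c : Chart Om p L) (hL : L ∉ Om) (D : Dat Om F K X) :
    ∃ (y : G) (hy : y ∈ L) (g : ι → c.I → ℤ), Adapted K X (conjChart c hy D.hyp.conj) g :=
  exists_adapted c (z_ne_one c hL) D

/-- **`FrChart` from an adapted chart** with `Z r = X r`. -/
theorem frChart_of_adapted [CharP F p] (c : Chart Om p L) (D : Dat Om F K X)
    (hF : Odd (Fintype.card F)) (hg : ∀ i, Good p (X i 1) (zz (K i))) {g : ι → c.I → ℤ} (hA : Adapted K X c g)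
    (hZ : ∀ r ∈ c.R, c.Z r = c.X r) (hout : ∀ i, ¬ K i ≤ L → ∀ a ∈ L, ∀ b ∈ K i, a * b = b * a) :
    TypeESix.FrChart K X (QF K X) {i | K i ≤ L} L c.cs c.h p c.T c.n c.X (fun i => ellOf c.cs c.h (g i)) g where
  toChartOn := chartOn_of_adapted c D hF hg hA hout
  root i hi := c.cls.root _ (hA.mem i hi)
  sgn i hi x _ := by rw [ellOf_apply _ _ (c.cls.root _ (hA.mem i hi))]
  pos i hi := by rw [← hZ _ (hA.mem i hi)]; exact hA.pos i hi
  neg i hi := by rw [← hZ _ (neg_mem c.cls (hA.mem i hi))]; exact hA.neg i hi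
  gorth i hi j hj hij := by
    rw [Nodes.Coroot.cpr_zero_iff _ _ _ (c.cls.root _ (hA.mem j hj))]
    exact hA.orth i hi j hj hij

end Cfsg.Agent.Cit.FrameOfFr
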