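import Mathlib
import Cfsg.Agent.Cit.BDKappa
import Cfsg.Agent.Cit.BDCore
import Cfsg.Agent.Cit.FrameOfFr
import Cfsg.Agent.Nodes.ZRel

/-!
# Charts and twins (project CIT, types `B_n`, `²D_{n+1}`, `D_n`)

* `exists_classical` : every root is not orthogonal to some classical root;
* `big_of_chart` : `Big Om E` for a group `E` with a chart of rank at least two;
* `commute_all` : an element commuting with all `X (± sr j)` commutes with `E`;
* `X_eq_Z` : `X r = Z r` if two orthogonal classical roots have the same involution.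
-/

set_option autoImplicit false
set_option linter.unusedSectionVars false

namespace Cfsg.Agent.Cit.BDChart

open CoxeterSystem Cfsg.Agent.ChevalleyStructure.CoxeterGeom Cfsg.Agent.Tits.Roots Cfsg.Agent.Tits.Core
  Cfsg.Agent.Nodes.Comb Cfsg.Agent.Nodes.Reps Cfsg.Agent.Nodes.BNOf Cfsg.Agent.Nodes.RGDLib
  Cfsg.Agent.Nodes.Chart Cfsg.Agent.Nodes.ClsNorm Cfsg.Agent.Nodes.Bruhat Cfsg.Agent.Cit.BDTwin
  Cfsg.Agent.Cit.BDCore Cfsg.Agent.Cit.TypeDet

variable {G : Type*} [Group G] {Om : Set (Subgroup G)} {p : ℕ} {L : Subgroup G}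

/-- Every root is not orthogonal to some classical root. -/
theorem exists_classical (c : Chart Om p L) {y : c.I → ℤ} (hy : IsRoot c.cs c.h y) :
    ∃ r ∈ c.R, form c.cs c.h y r ≠ 0 := by
  obtain ⟨w, i, rfl⟩ := hy
  set J : Set c.I := {i | ∃ r ∈ c.R, form c.cs c.h (sr i) r ≠ 0} with hJ
  have hne : J.Nonempty := by
    by_contra hcon
    rw [Set.not_nonempty_iff_eq_empty] at hcon
    have h1 : ∀ i, ∀ r ∈ c.R, form c.cs c.h (sr i) r = 0 := by
      intro i r hr
      by_contra h2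
      have : i ∈ J := ⟨r, hr, h2⟩
      rw [hcon] at this
      exact this
    obtain ⟨r, hr⟩ := c.Rne
    obtain ⟨v, j, e⟩ := c.cls.root r hr
    have h2 := h1 j _ (c.cls.act r hr v⁻¹)
    rw [e, rep_inv_apply] at h2
    exact (form_pos c.cs c.h (sr_ne_zero j)).ne' h2
  have huniv : J = Set.univ := by
    by_contra hcon
    obtain ⟨a, ha, b, hb, hab⟩ := c.irr J hne hcon
    obtain ⟨r, hr, h1⟩ := ha
    have h2 : ∀ r ∈ c.R, form c.cs c.h (sr b) r = 0 := by
      intro r hr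
      by_contra h3
      exact hb ⟨r, hr, h3⟩
    have hne : a ≠ b := by rintro rfl; exact hb ⟨r, hr, h1⟩
    have h3 := h2 _ (c.cls.act r hr (c.cs.simple a))
    rw [rep_simple_eq, form_sub_right, form_smul_right, h2 r hr, zero_sub, neg_eq_zero, mul_eq_zero] at h3
    have h4 := two_form c.cs c.h a r
    have h5 : pairing c.A a r ≠ 0 := by
      intro h6
      rw [h6, zero_mul] at h4
      rw [form_comm] at h1
      exact h1 (by omega)
    rcases h3 with h6 | h6
    · exact h5 h6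
    · have h7 := Nodes.OrthRoot.two_form_sr c.cs c.h a b
      rw [h6, mul_zero] at h7
      have h8 := cartan_neg c.h hne hab
      have h9 := mul_neg_of_neg_of_pos h8 (form_pos c.cs c.h (sr_ne_zero a))
      omega
  obtain ⟨r, hr, h1⟩ : i ∈ J := by rw [huniv]; trivial
  refine ⟨rep c.cs c.h w r, c.cls.act r hr w, ?_⟩
  rw [form_rep]
  exact h1

theorem mem_of_sq [Finite G] (hp : p.Prime) (hp2 : p ≠ 2) {P Q : Subgroup G} (hP : IsPGroup p P) {a : G}
    (ha : a ∈ P) (h : a * a ∈ Q) : a ∈ Q := by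
  have h1 := odd_orderOf hp hp2 hP ha
  obtain ⟨k, hk⟩ := h1
  have h2 : (a * a) ^ (k + 1) = a := by
    rw [← pow_two, ← pow_mul]
    have e : 2 * (k + 1) = orderOf a + 1 := by omega
    rw [e, pow_succ, pow_orderOf_eq_one, one_mul]
  rw [← h2]
  exact pow_mem h _

theorem om_conj (c : Chart Om p L) {K : Subgroup G} (hK : K ∈ Om) (hKL : K ≤ L) :
    ∃ r ∈ c.R, ∃ g ∈ L, K = cj g (c.Z r ⊔ c.Z (-r)) := c.om_conj K hK hKL

theorem cj_Z (c : Chart Om p L) {w : c.W} {n : G} (hn : Rp c.cs c.cls.rgd.nsys w n) {r : c.I → ℤ} (hr : r ∈ c.R) :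
    cj n (c.Z r) = c.Z (rep c.cs c.h w r) := conj_Z c.cls hn hr

theorem cj_X (c : Chart Om p L) {w : c.W} {n : G} (hn : Rp c.cs c.cls.rgd.nsys w n) {r : c.I → ℤ}
    (hr : IsRoot c.cs c.h r) : cj n (c.X r) = c.X (rep c.cs c.h w r) := c.cls.rgd.conj_rp hn hr

theorem n_mem_GG (c : Chart Om p L) {w : c.W} {n : G} (hn : Rp c.cs c.cls.rgd.nsys w n) : n ∈ L := by
  rw [← FrameOf.GG_eq c]
  exact NN_le_GG c.cls.rgd ⟨w, hn⟩

/-- **Groups with a chart of rank at least two.** -/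
theorem big_of_chart [Finite G] (hyp : Hyp Om) (c : Chart Om p L) (hnt : Nontrivial c.I) : Big Om L := by
  have hz1 : ∀ r ∈ c.R, c.z r ≠ 1 := by
    intro r hr
    obtain ⟨y, hy, h1, h2, h3⟩ := FrameOfFr.exists_not_orth c hnt (c.cls.root r hr)
    exact Nodes.StdConn.z_ne_one c.cls c.prime c.odd hr hy h1 h2 h3
  constructor
  · set S : Subgroup G := ⨆ K ∈ {K | K ∈ Om ∧ K ≤ L}, K with hS
    have hmem : ∀ K ∈ Om, K ≤ L → K ≤ S := fun K hK hKL => le_iSup₂_of_le K ⟨hK, hKL⟩ le_rfl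
    have hconj : ∀ x ∈ L, ∀ s ∈ S, x * s * x⁻¹ ∈ S := by
      intro x hx
      have h1 : cj x S ≤ S := by
        rw [hS, cj_def, Subgroup.map_iSup]
        refine iSup_le fun K => ?_
        rw [Subgroup.map_iSup]
        refine iSup_le fun hK => ?_
        exact hmem (cj x K) (hyp.conj K hK.1 x) (cj_le_of_mem hK.2 hx)
      exact fun s hs => h1 (conj_mem_cj hs)
    have hK : ∀ r ∈ c.R, c.Z r ⊔ c.Z (-r) ≤ S := fun r hr =>
      hmem _ (c.om r hr) (Nodes.StdConn.K_le c hr)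
    have hzS : ∀ r ∈ c.R, c.z r ∈ S := fun r hr => hK r hr (c.cls.z_mem r hr)
    rw [← c.gen]
    refine RGD.Sup_le fun y hy a ha => ?_
    have haL : a ∈ L := Nodes.StdConn.X_le c hy ha
    obtain ⟨r, hr, h0⟩ := exists_classical c hy
    have hpg : IsPGroup p (c.X y) := c.cls.rgd.pgrp' hy
    refine mem_of_sq c.prime c.odd hpg ha ?_
    by_cases h1 : y = r ∨ y = -r
    · have hyR : y ∈ c.R := by
        rcases h1 with h1 | h1
        · rw [h1]; exact hr
        · rw [h1]; exact neg_mem c.cls hr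
      have h2 := c.cls.z_inv_self y hyR a ha
      have h3 : c.Z y ≤ S := le_sup_left.trans (hK y hyR)
      have h4 := h3 h2
      have hz := hzS y hyR
      have h5 := hconj a haL _ hz
      have h6 : a * a = a * c.z y * a⁻¹ * (c.z y * (c.z y * a * c.z y * a)) := by
        have e := c.cls.z_sq y hyR
        calc a * a = a * (c.z y * c.z y) * a := by rw [e, mul_one]
          _ = a * c.z y * a⁻¹ * (a * c.z y * a) := by group
          _ = a * c.z y * a⁻¹ * ((c.z y * c.z y) * (a * c.z y * a)) := by rw [e, one_mul]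
          _ = a * c.z y * a⁻¹ * (c.z y * (c.z y * a * c.z y * a)) := by simp only [mul_assoc]
      rw [h6]
      exact mul_mem h5 (mul_mem hz h4)
    · rw [not_or] at h1
      have h2 := c.cls.z_inv r hr y hy h1.1 h1.2 h0 a ha
      have hz := hzS r hr
      have h5 := hconj a haL _ hz
      have h6 : a * a = a * c.z r * a⁻¹ * c.z r := by
        rw [← h2]
        have e := c.cls.z_sq r hr
        calc a * a = a * (c.z r * c.z r) * a * (c.z r * c.z r) := by rw [e]; group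
          _ = a * c.z r * (c.z r * a * c.z r) * c.z r := by group
      rw [h6]
      exact mul_mem h5 hz
  · intro K hK hKL
    obtain ⟨r, hr, g, hg, rfl⟩ := om_conj c hK hKL
    obtain ⟨y, hy, h1, h2, h3⟩ := FrameOfFr.exists_not_orth c hnt (c.cls.root r hr)
    obtain ⟨a, ha⟩ := Subgroup.ne_bot_iff_exists_ne_one.1 (Nodes.StdConn.X_ne_bot c.cls hy)
    have ha1 : (a : G) ≠ 1 := fun h => ha (Subtype.ext h)
    have haL : (a : G) ∈ L := Nodes.StdConn.X_le c hy a.2
    refine ⟨g * a * g⁻¹, mul_mem (mul_mem hg haL) (inv_mem hg), fun h4 => ?_⟩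
    rw [hyp.zz_cj (c.om r hr), Nodes.StdConn.zz_eq hyp c hr (hz1 r hr)] at h4
    have h5 : (a : G) * c.z r = c.z r * a := by
      calc (a : G) * c.z r = g⁻¹ * (g * a * g⁻¹ * (g * c.z r * g⁻¹)) * g := by group
        _ = g⁻¹ * (g * c.z r * g⁻¹ * (g * a * g⁻¹)) * g := by rw [h4]
        _ = c.z r * a := by group
    have h6 := c.cls.z_inv r hr y hy h1 h2 h3 a a.2
    rw [← h5, mul_assoc, c.cls.z_sq r hr, mul_one] at h6
    refine ha1 (eq_one_of_odd (odd_orderOf c.prime c.odd (c.cls.rgd.pgrp' hy) a.2) ?_)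
    nth_rw 1 [h6]
    rw [inv_mul_cancel]
  · intro K hK hKL J hJ hJL
    obtain ⟨r, hr, g, hg, rfl⟩ := om_conj c hK hKL
    obtain ⟨s, hs, k, hk, rfl⟩ := om_conj c hJ hJL
    obtain ⟨w, rfl⟩ := c.trans r hr s hs
    obtain ⟨n, hn⟩ := exists_rp c.cs c.cls.rgd.nsys w
    have hnL := n_mem_GG c hn
    have e1 : cj n (c.Z r ⊔ c.Z (-r)) = c.Z (rep c.cs c.h w r) ⊔ c.Z (-rep c.cs c.h w r) := by
      rw [Cit.cj_sup, cj_Z c hn hr, cj_Z c hn (neg_mem c.cls hr), map_neg]
    refine ⟨k * n * g⁻¹, mul_mem (mul_mem hk hnL) (inv_mem hg), ?_⟩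
    rw [Cit.cj_mul, Cit.cj_mul, Cit.cj_inv_cj, e1]
  · obtain ⟨r, hr⟩ := c.Rne
    exact ⟨_, c.om r hr, Nodes.StdConn.K_le c hr⟩

/-- Stability of the set of root groups centralised by `a` under simple reflections. -/
theorem commute_refl (c : Chart Om p L) {a : G} {i : c.I} (h1 : ∀ u ∈ c.X (sr i), a * u = u * a)
    (h2 : ∀ u ∈ c.X (-sr i), a * u = u * a) {y : c.I → ℤ} (hy : IsRoot c.cs c.h y)
    (h3 : ∀ u ∈ c.X y, a * u = u * a) :
    ∀ u ∈ c.X (rep c.cs c.h (c.cs.simple i) y), a * u = u * a := by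
  obtain ⟨m, hm, hmr⟩ := exists_m c.cls.rgd i
  exact commute_conj (c.cls.rgd.conj_rp hmr hy) (commute_sup h1 h2 m hm) h3

/-- An element commuting with all `X (± sr j)` commutes with `L`. -/
theorem commute_all (c : Chart Om p L) {a : G} (h1 : ∀ j, ∀ u ∈ c.X (sr j), a * u = u * a)
    (h2 : ∀ j, ∀ u ∈ c.X (-sr j), a * u = u * a) : ∀ x ∈ L, a * x = x * a := by
  have key : ∀ w : c.W, ∀ j, ∀ u ∈ c.X (rep c.cs c.h w (sr j)), a * u = u * a := by
    intro w j
    induction w using c.cs.simple_induction_left with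
    | one => rw [map_one]; exact h1 j
    | mul_simple_left w i ih =>
      rw [rep_mul_apply]
      exact commute_refl c (h1 i) (h2 i) ((isRoot_sr c.cs c.h j).act w) ih
  have h3 : L ≤ Subgroup.centralizer {a} := by
    rw [← c.gen]
    refine RGD.Sup_le fun y hy => ?_
    obtain ⟨w, j, rfl⟩ := hy
    exact fun u hu => Subgroup.mem_centralizer_singleton_iff.2 (key w j u hu).symm
  exact fun x hx => (Subgroup.mem_centralizer_singleton_iff.1 (h3 hx)).symm

/-- `X r = Z r` if the involution of `r` is the involution of an orthogonal classical root. -/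
theorem X_eq_Z [Finite G] (c : Chart Om p L) {r s : c.I → ℤ} (hr : r ∈ c.R) (hs : s ∈ c.R)
    (h0 : form c.cs c.h r s = 0) (hz : c.z r = c.z s) : ∀ r' ∈ c.R, c.Z r' = c.X r' := by
  have h1 : c.Z r = c.X r := by
    refine le_antisymm (c.cls.le r hr) fun a ha => ?_
    refine mem_of_sq c.prime c.odd (c.cls.rgd.pgrp' (c.cls.root r hr)) ha ?_
    have h2 := c.cls.z_inv_self r hr a ha
    have h3 : a * c.z s = c.z s * a :=
      Nodes.ZRel.z_cent_of_orth c.cls hs (c.cls.root r hr) h0 ha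
    rw [hz, ← h3, mul_assoc a, c.cls.z_sq s hs, mul_one] at h2
    exact h2
  intro r' hr'
  obtain ⟨w, rfl⟩ := c.trans r hr r' hr'
  obtain ⟨n, hn⟩ := exists_rp c.cs c.cls.rgd.nsys w
  rw [← cj_Z c hn hr, ← cj_X c hn (c.cls.root r hr), h1]

/-- The involutions of a chart, rank at least two. -/
theorem z_ne_one (c : Chart Om p L) (hnt : Nontrivial c.I) {r : c.I → ℤ} (hr : r ∈ c.R) : c.z r ≠ 1 := by
  obtain ⟨y, hy, h1, h2, h3⟩ := FrameOfFr.exists_not_orth c hnt (c.cls.root r hr)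
  exact Nodes.StdConn.z_ne_one c.cls c.prime c.odd hr hy h1 h2 h3

theorem zz_eq [Finite G] (hyp : Hyp Om) (c : Chart Om p L) (hnt : Nontrivial c.I) {r : c.I → ℤ} (hr : r ∈ c.R) :
    zz (c.Z r ⊔ c.Z (-r)) = c.z r := Nodes.StdConn.zz_eq hyp c hr (z_ne_one c hnt hr)

end Cfsg.Agent.Cit.BDChart
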