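import Mathlib
import Cfsg.Agent.Cit.BDCore
import Cfsg.Agent.Nodes.TypeCForm
import Cfsg.Agent.Nodes.TypeD

/-!
# Root combinatorics for the identification of types `B_n`, `²D_{n+1}`, `D_n` (project CIT)

* `ip_rep_D`, `form_nonneg_iff_D`, `form_eq_zero_iff_D` : the sign of the invariant form in type `D`;
* `closes_C`, `closes_D` : the closure condition `Core.Closes` for the types `C_m` (`m ≥ 2`, `g = ε₀ - ε₁`,
  `d = ε₀ + ε₁`, also for the labels `B_m`) and `D_m` (`m ≥ 3`).
-/

set_option autoImplicit false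
set_option linter.unusedSectionVars false

namespace Cfsg.Agent.Cit.BDRoots

open Cfsg.Agent.ChevalleyStructure.CoxeterGeom Cfsg.Agent.Tits.Roots Cfsg.Agent.Nodes
open Cfsg.Agent.Nodes.TypeC (wt ng wt_apply wt_ng)
open Cfsg.Agent.Nodes.TypeCForm (ip ip_comm ip_add_left ip_add_right ip_smul_left ip_smul_right ip_sub_left
  ip_sub_right ip_wt_right sn ip_wt_self ip_wt_ng ip_wt_ne)

/-! ### The form in type `D` -/

section FormD

variable {n : ℕ}

theorem ip_bt_D (i : Fin (n + 2)) (v : Fin (n + 2) → ℤ) : ip v (TypeD.bt i) = TypeD.Cf i v := by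
  rw [TypeD.bt, ip_add_right, ip_wt_right, ip_wt_right]
  by_cases h : (i : ℕ) + 1 < n + 2
  · simp only [TypeD.Cf, TypeD.nx, sn, h, dif_pos, if_true]
    simp
    ring
  · simp only [TypeD.Cf, TypeD.nx, sn, h, dif_neg, if_true, not_false_eq_true]
    ring

theorem Cf_bt_self_D (i : Fin (n + 2)) : TypeD.Cf i (TypeD.bt i) = 2 := by
  have := TypeD.A_apply i i
  rw [if_pos rfl] at this
  exact this

variable {W : Type*} [Group W] (cs : CoxeterSystem (TypeD.M n) W)

theorem ip_rep_D (w : W) (x y : Fin (n + 2) → ℤ) :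
    ip (TypeD.ee (rep cs (TypeD.isCartan n) w x)) (TypeD.ee (rep cs (TypeD.isCartan n) w y)) =
      ip (TypeD.ee x) (TypeD.ee y) := by
  induction w using cs.simple_induction_left with
  | one => rw [map_one, Module.End.one_apply, Module.End.one_apply]
  | mul_simple_left w i ih =>
    rw [rep_mul_apply, rep_mul_apply, rep_simple, TypeD.ee_refl, TypeD.ee_refl, ip_sub_left, ip_sub_right,
      ip_sub_right, ip_smul_left, ip_smul_left, ip_smul_right, ip_smul_right, ih, ip_comm (TypeD.bt i) (TypeD.ee _),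
      ip_bt_D, ip_bt_D, ip_bt_D, Cf_bt_self_D]
    ring

variable [Fintype W]

theorem form_eq_D {r : Fin (n + 2) → ℤ} (hr : IsRoot cs (TypeD.isCartan n) r) : ∃ c : ℤ, 0 < c ∧ ∀ x,
    c * form cs (TypeD.isCartan n) x r = ip (TypeD.ee x) (TypeD.ee r) * form cs (TypeD.isCartan n) r r := by
  obtain ⟨w, i, rfl⟩ := hr
  refine ⟨2, two_pos, fun x => ?_⟩
  have h1 := two_form cs (TypeD.isCartan n) i (rep cs (TypeD.isCartan n) w⁻¹ x)
  have h2 : form cs (TypeD.isCartan n) x (rep cs (TypeD.isCartan n) w (sr i)) =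
      form cs (TypeD.isCartan n) (rep cs (TypeD.isCartan n) w⁻¹ x) (sr i) := by
    rw [form_rep_left, inv_inv]
  have h3 := ip_rep_D cs w⁻¹ x (rep cs (TypeD.isCartan n) w (sr i))
  rw [rep_inv_apply, TypeD.ee_sr, ip_bt_D, TypeD.Cf_ee] at h3
  rw [form_rep, h2, ← h3]
  exact h1

theorem form_pos_iff_D {x r : Fin (n + 2) → ℤ} (hr : IsRoot cs (TypeD.isCartan n) r) :
    0 < form cs (TypeD.isCartan n) x r ↔ 0 < ip (TypeD.ee x) (TypeD.ee r) := by
  obtain ⟨c, hc, h1⟩ := form_eq_D cs hr
  have h2 := form_pos cs (TypeD.isCartan n) hr.ne_zero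
  have h3 := h1 x
  constructor
  · intro h
    have h4 := mul_pos hc h
    rw [h3] at h4
    exact (mul_pos_iff_of_pos_right h2).1 h4
  · intro h
    have h4 := mul_pos h h2
    rw [← h3] at h4
    exact (mul_pos_iff_of_pos_left hc).1 h4

theorem form_neg_iff_D {x r : Fin (n + 2) → ℤ} (hr : IsRoot cs (TypeD.isCartan n) r) :
    form cs (TypeD.isCartan n) x r < 0 ↔ ip (TypeD.ee x) (TypeD.ee r) < 0 := by
  have h1 := form_pos_iff_D cs (x := -x) hr
  rw [form_neg_left, TypeD.ee_neg] at h1
  have h2 : ip (-TypeD.ee x) (TypeD.ee r) = -ip (TypeD.ee x) (TypeD.ee r) := by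
    have := ip_smul_left (-1) (TypeD.ee x) (TypeD.ee r)
    rw [neg_one_smul] at this
    rw [this]; ring
  rw [h2] at h1
  constructor
  · intro h; have := h1.1 (by omega); omega
  · intro h; have := h1.2 (by omega); omega

theorem form_eq_zero_iff_D {x r : Fin (n + 2) → ℤ} (hr : IsRoot cs (TypeD.isCartan n) r) :
    form cs (TypeD.isCartan n) x r = 0 ↔ ip (TypeD.ee x) (TypeD.ee r) = 0 := by
  have h1 := form_pos_iff_D cs (x := x) hr
  have h2 := form_neg_iff_D cs (x := x) hr
  constructor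
  · intro h
    rcases lt_trichotomy (ip (TypeD.ee x) (TypeD.ee r)) 0 with h3 | h3 | h3
    · have := h2.2 h3; omega
    · exact h3
    · have := h1.2 h3; omega
  · intro h
    rcases lt_trichotomy (form cs (TypeD.isCartan n) x r) 0 with h3 | h3 | h3
    · have := h2.1 h3; omega
    · exact h3
    · have := h1.1 h3; omega

end FormD

/-! ### Signs for the pairs `g = ε₀ - ε₁`, `d = ε₀ + ε₁` -/

section Signs

variable {m : ℕ}

theorem ip_gd {i0 i1 : Fin m} {b : Fin m × Bool} (h0 : b.1 ≠ i0) (hb : b ≠ (i1, false))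
    (h01 : i0 ≠ i1) : 0 < ip (wt (i1, true) + wt b) (wt (i0, true) + wt (i1, true)) ∧
      ip (wt (i1, true) + wt b) (wt (i0, true) + wt (i1, false)) < 0 := by
  obtain ⟨k, s⟩ := b
  simp only at h0
  rw [ip_add_right, ip_add_right, ip_wt_right, ip_wt_right, ip_wt_right]
  simp only [Pi.add_apply, wt_apply, sn]
  rw [if_neg h01, if_neg h0.symm]
  by_cases h1 : k = i1
  · subst h1
    have hs : s = true := by
      cases s
      · exact absurd rfl hb
      · rfl
    subst hs
    simp
  · rw [if_neg (Ne.symm h1)]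
    simp

end Signs

/-! ### The closure condition, type `C` -/

section TypeC

variable {m : ℕ} {W : Type*} [Group W] [Fintype W] (cs : CoxeterSystem (CoxeterMatrix.B m) W)

theorem form_pos_iff_C {x r : Fin m → ℤ} (hr : IsRoot cs (TypeC.isCartan m) r) :
    0 < form cs (TypeC.isCartan m) x r ↔ 0 < ip (TypeC.ee x) (TypeC.ee r) := by
  have h1 := TypeCForm.form_nonneg_iff cs (x := x) hr
  have h2 := TypeCForm.form_eq_zero_iff cs (x := x) hr
  constructor
  · intro h
    exact lt_of_le_of_ne (h1.1 h.le) fun h3 => absurd (h2.2 h3.symm) h.ne'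
  · intro h
    exact lt_of_le_of_ne (h1.2 h.le) fun h3 => absurd (h2.1 h3.symm) h.ne'

theorem form_neg_iff_C {x r : Fin m → ℤ} (hr : IsRoot cs (TypeC.isCartan m) r) :
    form cs (TypeC.isCartan m) x r < 0 ↔ ip (TypeC.ee x) (TypeC.ee r) < 0 := by
  have h1 := TypeCForm.form_nonneg_iff cs (x := x) hr
  constructor
  · intro h
    by_contra h3
    have := h1.2 (by omega)
    omega
  · intro h
    by_contra h3
    have := h1.1 (by omega)
    omega

/-- **The closure condition in type `C_m` / `B_m`**, `m ≥ 2`. -/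
theorem closes_C {g d : Fin m → ℤ} {i0 i1 : Fin m} (e0 : (i0 : ℕ) = 0) (e1 : (i1 : ℕ) = 1)
    (hg : TypeC.ee g = wt (i0, true) + wt (i1, false)) (hd : TypeC.ee d = wt (i0, true) + wt (i1, true)) :
    BDCore.Core.Closes cs (TypeC.isCartan m) g d i0 := by
  have h01 : i0 ≠ i1 := by intro h; rw [h] at e0; omega
  have hgr : IsRoot cs (TypeC.isCartan m) g :=
    TypeC.isRoot_iff.2 ⟨(i0, true), (i1, false), Or.inl h01, hg⟩
  have hdr : IsRoot cs (TypeC.isCartan m) d :=
    TypeC.isRoot_iff.2 ⟨(i0, true), (i1, true), Or.inl h01, hd⟩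
  intro S hS hst
  -- the roots `ε_j ± ε_k`, `k > j`, and `2 ε_j`
  have key : ∀ k : ℕ, ∀ j : Fin m, (j : ℕ) = k + 1 → ∀ y, IsRoot cs (TypeC.isCartan m) y → ∀ b : Fin m × Bool,
      ((j : ℕ) < b.1 ∨ b = (j, true)) → TypeC.ee y = wt (j, true) + wt b → y ∈ S ∧ -y ∈ S := by
    intro k
    induction k with
    | zero =>
      intro j hj y hy b hb e
      have hj1 : j = i1 := Fin.ext (by omega)
      subst hj1
      have hb0 : b.1 ≠ i0 := by
        rcases hb with hb | hb
        · intro h; rw [h] at hb; omega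
        · rw [hb]; exact h01.symm
      have hbf : b ≠ (j, false) := by
        rcases hb with hb | hb
        · rintro rfl; simp at hb
        · rw [hb]; simp
      obtain ⟨h1, h2⟩ := ip_gd hb0 hbf h01
      refine hS y hy ((form_pos_iff_C cs hdr).2 ?_) ((form_neg_iff_C cs hgr).2 ?_)
      · rw [e, hd]; exact h1
      · rw [e, hg]; exact h2
    | succ k ih =>
      intro j hj y hy b hb e
      have hi : k + 1 < m := by have := j.2; omega
      obtain ⟨i, hid⟩ : ∃ i : Fin m, (i : ℕ) = k + 1 := ⟨⟨k + 1, hi⟩, rfl⟩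
      have him : (i : ℕ) + 1 < m := by have := j.2; omega
      have hj' : j = ⟨(i : ℕ) + 1, him⟩ := Fin.ext (by simp; omega)
      -- the simple root `α_i`
      have hs := ih i hid (sr i) (isRoot_sr cs _ i) (j, false) (Or.inl (by simp; omega)) (by
        rw [TypeC.ee_sr, TypeC.bt, TypeC.nx, dif_pos him, hj'])
      have h1 := hst i hs.1 hs.2
      -- the image of `y`
      have e2 : TypeC.ee (rep cs (TypeC.isCartan m) (cs.simple i) y) =
          wt (i, true) + wt (TypeC.sg i b) := by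
        rw [rep_simple, TypeC.ee_refl_of e]
        rw [hj', TypeC.sg_down him]
      have hb2 : (i : ℕ) < (TypeC.sg i b).1 ∨ TypeC.sg i b = (i, true) := by
        rcases hb with hb | hb
        · left
          rw [TypeC.sg_of_ne (by intro h; rw [h] at hb; omega) (by omega)]
          omega
        · right
          rw [hb, hj', TypeC.sg_down him]
      have h3 := ih i hid _ (hy.act (cs.simple i)) _ hb2 e2
      have h4 := h1 _ (hy.act (cs.simple i)) h3.1
      have h5 := h1 _ (hy.act (cs.simple i)).neg h3.2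
      rw [map_neg] at h5
      have e3 : rep cs (TypeC.isCartan m) (cs.simple i) (rep cs (TypeC.isCartan m) (cs.simple i) y) = y := by
        rw [← rep_mul_apply, cs.simple_mul_simple_self, map_one, Module.End.one_apply]
      rw [e3] at h4 h5
      exact ⟨h4, h5⟩
  intro j hj
  have hj0 : (j : ℕ) ≠ 0 := fun h => hj (Fin.ext (by omega))
  refine key (j - 1) j (by omega) (sr j) (isRoot_sr cs _ j) (TypeC.nx j) ?_ (by rw [TypeC.ee_sr, TypeC.bt])
  unfold TypeC.nx
  split_ifs with h
  · left; simp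
  · right; rfl

end TypeC

/-! ### The closure condition, type `D` -/

section TypeD

variable {n : ℕ} {W : Type*} [Group W] [Fintype W] (cs : CoxeterSystem (TypeD.M n) W)

/-- **The closure condition in type `D_{n+2}`**, `n ≥ 1`. -/
theorem closes_D (hn : 1 ≤ n) {g d : Fin (n + 2) → ℤ} {i0 i1 : Fin (n + 2)} (e0 : (i0 : ℕ) = 0) (e1 : (i1 : ℕ) = 1)
    (hg : TypeD.ee g = wt (i0, true) + wt (i1, false)) (hd : TypeD.ee d = wt (i0, true) + wt (i1, true)) :
    BDCore.Core.Closes cs (TypeD.isCartan n) g d i0 := by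
  have h01 : i0 ≠ i1 := by intro h; rw [h] at e0; omega
  have hgr : IsRoot cs (TypeD.isCartan n) g := TypeD.isRoot_iff.2 ⟨(i0, true), (i1, false), h01, hg⟩
  have hdr : IsRoot cs (TypeD.isCartan n) d := TypeD.isRoot_iff.2 ⟨(i0, true), (i1, true), h01, hd⟩
  intro S hS hst
  -- the roots `ε_j ± ε_k`, `k > j`
  have key : ∀ k : ℕ, ∀ j : Fin (n + 2), (j : ℕ) = k + 1 → ∀ y, IsRoot cs (TypeD.isCartan n) y →
      ∀ b : Fin (n + 2) × Bool, (j : ℕ) < b.1 → TypeD.ee y = wt (j, true) + wt b → y ∈ S ∧ -y ∈ S := by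
    intro k
    induction k with
    | zero =>
      intro j hj y hy b hb e
      have hj1 : j = i1 := Fin.ext (by omega)
      subst hj1
      have hb0 : b.1 ≠ i0 := by intro h; rw [h] at hb; omega
      have hbf : b ≠ (j, false) := by rintro rfl; simp at hb
      obtain ⟨h1, h2⟩ := ip_gd hb0 hbf h01
      refine hS y hy ((form_pos_iff_D cs hdr).2 ?_) ((form_neg_iff_D cs hgr).2 ?_)
      · rw [e, hd]; exact h1
      · rw [e, hg]; exact h2
    | succ k ih =>
      intro j hj y hy b hb e
      have hi : k + 1 < n + 2 := by have := j.2; omega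
      obtain ⟨i, hid⟩ : ∃ i : Fin (n + 2), (i : ℕ) = k + 1 := ⟨⟨k + 1, hi⟩, rfl⟩
      have him : (i : ℕ) + 1 < n + 2 := by have := j.2; omega
      have hj' : j = ⟨(i : ℕ) + 1, him⟩ := Fin.ext (by simp; omega)
      have hs := ih i hid (sr i) (isRoot_sr cs _ i) (j, false) (by simp; omega) (by
        rw [TypeD.ee_sr, TypeD.bt, TypeD.nx, dif_pos him, hj'])
      have h1 := hst i hs.1 hs.2
      have e2 : TypeD.ee (rep cs (TypeD.isCartan n) (cs.simple i) y) =
          wt (i, true) + wt (TypeD.sg i b) := by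
        rw [rep_simple, TypeD.ee_refl_of e]
        rw [hj', TypeD.sg_down him]
      have hb2 : (i : ℕ) < (TypeD.sg i b).1 := by
        rw [TypeD.sg_of_ne him (by intro h; rw [h] at hb; omega) (by omega)]
        omega
      have h3 := ih i hid _ (hy.act (cs.simple i)) _ hb2 e2
      have h4 := h1 _ (hy.act (cs.simple i)) h3.1
      have h5 := h1 _ (hy.act (cs.simple i)).neg h3.2
      rw [map_neg] at h5
      have e3 : rep cs (TypeD.isCartan n) (cs.simple i) (rep cs (TypeD.isCartan n) (cs.simple i) y) = y := by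
        rw [← rep_mul_apply, cs.simple_mul_simple_self, map_one, Module.End.one_apply]
      rw [e3] at h4 h5
      exact ⟨h4, h5⟩
  intro j hj
  have hj0 : (j : ℕ) ≠ 0 := fun h => hj (Fin.ext (by omega))
  by_cases hjl : (j : ℕ) + 1 < n + 2
  · refine key (j - 1) j (by omega) (sr j) (isRoot_sr cs _ j) (TypeD.nx j) ?_ (by rw [TypeD.ee_sr, TypeD.bt])
    unfold TypeD.nx
    rw [dif_pos hjl]
    simp
  · have hpd : ((TypeD.pd n : Fin (n + 2)) : ℕ) = n := rfl
    refine key (n - 1) (TypeD.pd n) (by omega) (sr j) (isRoot_sr cs _ j) (j, true) ?_ ?_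
    · have := j.2; simp only [hpd]; omega
    · rw [TypeD.ee_sr, TypeD.bt, TypeD.nx, dif_neg hjl]
      exact _root_.add_comm _ _

end TypeD

end Cfsg.Agent.Cit.BDRoots
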