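import Mathlib
import Cfsg.Agent.Cit.BDRoots
import Cfsg.Agent.Cit.NodeGlue

/-!
# Nodes and pairs for the types `B_n`, `²D_{n+1}`, `D_n` (project CIT)

* `Ext M j₀ M'` : the diagram `M'` (on `Fin (m + 2)`) is the diagram `M` (on `Fin m`) extended by the chain
  `0 - 1 - (j₀ + 2)`; `ext_C`, `ext_D`;
* `exists_rgd` : the root group datum of type `M'` from the core.
-/

set_option autoImplicit false
set_option linter.unusedSectionVars false

namespace Cfsg.Agent.Cit.BDPairs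

open CoxeterSystem Cfsg.Agent.ChevalleyStructure.CoxeterGeom Cfsg.Agent.Tits.Roots Cfsg.Agent.Tits.Core
  Cfsg.Agent.Nodes.Reps Cfsg.Agent.Nodes.BNOf Cfsg.Agent.Nodes.StabComb Cfsg.Agent.Nodes.Bruhat
  Cfsg.Agent.Nodes.Chart Cfsg.Agent.Nodes.ClsNorm Cfsg.Agent.Cit.BDCore
open Cfsg.Agent.Cit.NodeGlue (RankOne rankOne_of_rgd RankOne.pairData exists_rgd_of_pairs)
open Cfsg.Agent.RootAmalgam (PairData)

/-- The diagram `M'` is `M` extended by the chain `0 - 1 - (j₀ + 2)`. -/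
structure Ext {m : ℕ} (M : CoxeterMatrix (Fin m)) (j₀ : Fin m) (M' : CoxeterMatrix (Fin (m + 2))) : Prop where
  m01 : M' 0 1 = 3
  m0 : ∀ k : Fin m, M' 0 k.succ.succ = 2
  m1 : M' 1 j₀.succ.succ = 3
  m1' : ∀ k : Fin m, k ≠ j₀ → M' 1 k.succ.succ = 2
  mm : ∀ k l : Fin m, k ≠ l → M' k.succ.succ l.succ.succ = M k l

theorem B_apply {m : ℕ} {i j : Fin m} (hij : i ≠ j) : CoxeterMatrix.B m i j =
    if (i : ℕ) = m - 1 ∧ (j : ℕ) = m - 2 ∨ (j : ℕ) = m - 1 ∧ (i : ℕ) = m - 2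
      then 4 else (if (j : ℕ) + 1 = i ∨ (i : ℕ) + 1 = j then 3 else 2) := by
  show (if i = j then 1 else _) = _
  rw [if_neg hij]

/-- The extension for the types `C_m`, `B_m`. -/
theorem ext_C {m : ℕ} (hm : 2 ≤ m) {j₀ : Fin m} (hj : (j₀ : ℕ) = 0) :
    Ext (CoxeterMatrix.B m) j₀ (CoxeterMatrix.B (m + 2)) := by
  refine ⟨?_, ?_, ?_, ?_, ?_⟩
  · rw [B_apply (by simp [Fin.ext_iff]), if_neg (by simp; omega), if_pos (by simp)]
  · intro k
    have := k.2
    rw [B_apply (by simp [Fin.ext_iff]), if_neg (by simp; omega), if_neg (by simp)]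
  · rw [B_apply (by simp [Fin.ext_iff]), if_neg (by simp [hj]; omega), if_pos (by simp [hj])]
  · intro k hk
    have hk' : (k : ℕ) ≠ 0 := fun h => hk (Fin.ext (by omega))
    have := k.2
    rw [B_apply (by simp [Fin.ext_iff]), if_neg (by simp; omega), if_neg (by simp; omega)]
  · intro k l hkl
    have h1 : (k.succ.succ : Fin (m + 2)) ≠ l.succ.succ := by simpa using hkl
    have := k.2
    have := l.2
    rw [B_apply h1, B_apply hkl]
    simp only [Fin.val_succ]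
    split_ifs <;> first | rfl | (exfalso; omega)

/-- The extension for the types `D_{n+2}`, `n ≥ 1`. -/
theorem ext_D {n : ℕ} (hn : 1 ≤ n) {j₀ : Fin (n + 2)} (hj : (j₀ : ℕ) = 0) :
    Ext (Nodes.TypeD.M n) j₀ (Nodes.TypeD.M (n + 2)) := by
  have v0 : ((0 : Fin (n + 2 + 2)) : ℕ) = 0 := Fin.val_zero _
  have v1 : ((1 : Fin (n + 2 + 2)) : ℕ) = 1 := Fin.val_one _
  have vs : ∀ k : Fin (n + 2), ((k.succ.succ : Fin (n + 2 + 2)) : ℕ) = k + 2 := fun k => rfl
  have ne : ∀ {i j : Fin (n + 2 + 2)}, (i : ℕ) ≠ j → i ≠ j := fun h h' => h (congrArg _ h')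
  refine ⟨?_, ?_, ?_, ?_, ?_⟩
  · rw [Nodes.TypeD.M_apply, if_neg (ne (by rw [v0, v1]; omega)), if_pos]
    left; unfold Nodes.TypeD.Adj; rw [v0, v1]; omega
  · intro k
    have := k.2
    rw [Nodes.TypeD.M_apply, if_neg (ne (by rw [v0, vs]; omega)), if_neg]
    unfold Nodes.TypeD.Adj; rw [v0, vs]; omega
  · rw [Nodes.TypeD.M_apply, if_neg (ne (by rw [v1, vs]; omega)), if_pos]
    left; unfold Nodes.TypeD.Adj; rw [v1, vs]; omega
  · intro k hk
    have hk' : (k : ℕ) ≠ 0 := fun h => hk (Fin.ext (by omega))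
    have := k.2
    rw [Nodes.TypeD.M_apply, if_neg (ne (by rw [v1, vs]; omega)), if_neg]
    unfold Nodes.TypeD.Adj; rw [v1, vs]; omega
  · intro k l hkl
    have h1 : (k.succ.succ : Fin (n + 2 + 2)) ≠ l.succ.succ := by
      intro h2
      apply hkl
      have h3 := congrArg (fun x : Fin (n + 2 + 2) => (x : ℕ)) h2
      simp only [vs] at h3
      exact Fin.ext (by omega)
    have := k.2
    have := l.2
    rw [Nodes.TypeD.M_apply, Nodes.TypeD.M_apply, if_neg h1, if_neg hkl]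
    unfold Nodes.TypeD.Adj
    simp only [vs]
    split_ifs <;> first | rfl | (exfalso; omega)

section Main

universe u

variable {G : Type u} [Group G] {m : ℕ}
  {W : Type*} [Group W] [Fintype W] {M : CoxeterMatrix (Fin m)}
  {cs : CoxeterSystem M W} {A : Fin m → Fin m → ℤ} {h : IsCartan M A} {p : ℕ} {T : Subgroup G} {n : Fin m → G}
  {X : (Fin m → ℤ) → Subgroup G} {R : Set (Fin m → ℤ)} {Z : (Fin m → ℤ) → Subgroup G} {z : (Fin m → ℤ) → G}
  {J V : Type*} [Fintype J] [DecidableEq J] [Group V] [Fintype V] {MD : CoxeterMatrix J}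
  {cd : CoxeterSystem MD V} {AD : J → J → ℤ} {hd : IsCartan MD AD} {TD : Subgroup G} {nD : J → G}
  {XD : (J → ℤ) → Subgroup G} {RD : Set (J → ℤ)} {ZD : (J → ℤ) → Subgroup G} {zD : (J → ℤ) → G}
  {d : Fin m → ℤ} {α β γ δ : J} {ζ : G} {j₀ : Fin m}

/-- The node groups. -/
def nod (P Q : Subgroup G) (F : Fin m → Subgroup G) : Fin (m + 2) → Subgroup G := Fin.cons P (Fin.cons Q F)

@[simp] theorem nod_zero (P Q : Subgroup G) (F : Fin m → Subgroup G) : nod P Q F 0 = P := rfl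
@[simp] theorem nod_one (P Q : Subgroup G) (F : Fin m → Subgroup G) : nod P Q F 1 = Q := rfl
@[simp] theorem nod_succ (P Q : Subgroup G) (F : Fin m → Subgroup G) (k : Fin m) :
    nod P Q F k.succ.succ = F k := rfl

theorem fin_cases_two {P : Fin (m + 2) → Prop} (h0 : P 0) (h1 : P 1) (h2 : ∀ k : Fin m, P k.succ.succ) :
    ∀ i, P i := fun i => Fin.cases h0 (fun j => Fin.cases h1 h2 j) i

/-- **Root group datum of the extended type.** -/
theorem exists_rgd [Finite G]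
    (H : Core cs h p T n X R Z z cd hd TD nD XD RD ZD zD (sr j₀) d α β γ δ ζ)
    (hcl : Core.Closes cs h (sr j₀) d j₀) (hZX : Z (sr j₀) = X (sr j₀)) (hZX' : Z (-sr j₀) = X (-sr j₀))
    {W' : Type*} [Group W'] [Finite W'] {M' : CoxeterMatrix (Fin (m + 2))} (cs' : CoxeterSystem M' W')
    {A' : Fin (m + 2) → Fin (m + 2) → ℤ} (h' : IsCartan M' A') (E : Ext M j₀ M') :
    ∃ (T' : Subgroup G) (n' : Fin (m + 2) → G) (X' : (Fin (m + 2) → ℤ) → Subgroup G),
      RGD cs' h' p T' n' X' ∧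
      (∀ i, X' (sr i) = nod (XD (sr α)) (XD (sr β)) (fun k => X (sr k)) i) ∧
      (∀ i, X' (-sr i) = nod (XD (-sr α)) (XD (-sr β)) (fun k => X (-sr k)) i) ∧
      (∀ i, n' i ∈ X' (sr i) ⊔ X' (-sr i)) ∧
      T' ≤ ⨆ i, (X' (sr i) ⊔ X' (-sr i)) ∧
      ∀ x, IsRoot cs' h' x → X' x ≤ ⨆ i, (X' (sr i) ⊔ X' (-sr i)) := by
  have := Fact.mk H.prime
  have : Nontrivial (Fin (m + 2)) := inferInstance
  set N : Fin (m + 2) → Subgroup G := nod (XD (sr α)) (XD (sr β)) (fun k => X (sr k)) with hN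
  set N' : Fin (m + 2) → Subgroup G := nod (XD (-sr α)) (XD (-sr β)) (fun k => X (-sr k)) with hN'
  -- rank one groups
  have rα : RankOne p (XD (sr α)) (XD (-sr α)) := rankOne_of_rgd H.D.rgd (isRoot_sr cd hd α)
  have rβ : RankOne p (XD (sr β)) (XD (-sr β)) := rankOne_of_rgd H.D.rgd (isRoot_sr cd hd β)
  have rk : ∀ k : Fin m, RankOne p (X (sr k)) (X (-sr k)) := fun k => rankOne_of_rgd H.C.rgd (isRoot_sr cs h k)
  have hr : ∀ i, RankOne p (N i) (N' i) := fin_cases_two rα rβ rk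
  -- the groups of `E`
  have hle : ∀ k : Fin m, X (sr k) ⊔ X (-sr k) ≤ GG cs h T X := fun k =>
    sup_le (X_le_GG (isRoot_sr cs h k)) (X_le_GG (isRoot_sr cs h k).neg)
  -- the pairs
  have p01 : ∃ Z, PairData (M' 0 1) (N 0) (N' 0) (N 1) (N' 1) Z := by
    rw [E.m01]
    exact ⟨_, H.pd⟩
  have p0 : ∀ k : Fin m, ∃ Z, PairData (M' 0 k.succ.succ) (N 0) (N' 0) (N k.succ.succ) (N' k.succ.succ) Z := by
    intro k
    rw [E.m0 k]
    exact ⟨_, RankOne.pairData rα (rk k) fun a ha b hb => (H.cent b (hle k hb) a ha).symm⟩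
  have hβγ : β ≠ γ := by
    rintro rfl
    have h1 := H.aβγ
    rw [hd.diag] at h1
    omega
  have p1 : ∃ Z, PairData (M' 1 j₀.succ.succ) (N 1) (N' 1) (N j₀.succ.succ) (N' j₀.succ.succ) Z := by
    rw [E.m1]
    have h1 := Nodes.ZFam.pairData H.D.rgd hβγ
    have h2 : MD β γ = 3 := by
      rcases hd.rel β γ hβγ with h3 | h3 | h3 | h3
      · have := H.aβγ; omega
      · exact h3.1
      · have := H.aβγ; have := H.aγβ; omega
      · have := H.aβγ; have := H.aγβ; omega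
    rw [h2] at h1
    have h3 : XD (sr γ) = X (sr j₀) := by rw [← H.ZX _ H.rγ, H.Zg, hZX]
    have h4 : XD (-sr γ) = X (-sr j₀) := by rw [← H.ZX _ (neg_mem H.D H.rγ), H.Zg', hZX']
    rw [h3, h4] at h1
    exact ⟨_, h1⟩
  have p1' : ∀ k : Fin m, k ≠ j₀ →
      ∃ Z, PairData (M' 1 k.succ.succ) (N 1) (N' 1) (N k.succ.succ) (N' k.succ.succ) Z := by
    intro k hk
    rw [E.m1' k hk]
    exact ⟨_, RankOne.pairData rβ (rk k) fun a ha b hb => (H.main hcl hk b hb a ha).symm⟩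
  have pk : ∀ k l : Fin m, k ≠ l →
      ∃ Z, PairData (M' k.succ.succ l.succ.succ) (N k.succ.succ) (N' k.succ.succ) (N l.succ.succ) (N' l.succ.succ) Z := by
    intro k l hkl
    rw [E.mm k l hkl]
    exact ⟨_, Nodes.ZFam.pairData H.C.rgd hkl⟩
  have hZ : ∀ i j, i ≠ j → (∃ Z, PairData (M' i j) (N i) (N' i) (N j) (N' j) Z) ∨
      ∃ Z, PairData (M' i j) (N j) (N' j) (N i) (N' i) Z := by
    refine fin_cases_two ?_ ?_ ?_
    · refine fin_cases_two (fun h => absurd rfl h) (fun _ => Or.inl p01) (fun k _ => Or.inl (p0 k))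
    · refine fin_cases_two (fun _ => Or.inr ?_) (fun h => absurd rfl h) (fun k _ => Or.inl ?_)
      · rw [M'.symmetric 1 0]; exact p01
      · by_cases hk : k = j₀
        · subst hk; exact p1
        · exact p1' k hk
    · intro k
      refine fin_cases_two (fun _ => Or.inr ?_) (fun _ => Or.inr ?_) (fun l hkl => Or.inl ?_)
      · rw [M'.symmetric k.succ.succ 0]; exact p0 k
      · rw [M'.symmetric k.succ.succ 1]
        by_cases hk : k = j₀
        · subst hk; exact p1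
        · exact p1' k hk
      · exact pk k l (fun h => hkl (by rw [h]))
  obtain ⟨T', n', X', h1, h2, h3, h4, h5, h6⟩ := exists_rgd_of_pairs cs' h' N N' hr hZ
  refine ⟨T', n', X', h1, h2, h3, ?_, ?_, ?_⟩
  · intro i; rw [h2, h3]; exact h4 i
  · have e : (⨆ i, (X' (sr i) ⊔ X' (-sr i))) = ⨆ i, (N i ⊔ N' i) := iSup_congr fun i => by rw [h2, h3]
    rw [e]; exact h5
  · have e : (⨆ i, (X' (sr i) ⊔ X' (-sr i))) = ⨆ i, (N i ⊔ N' i) := iSup_congr fun i => by rw [h2, h3]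
    rw [e]; exact h6

end Main

end Cfsg.Agent.Cit.BDPairs
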