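import Mathlib
import Cfsg.Agent.Nodes.Coroot
import Cfsg.Agent.Nodes.PosPair
import Cfsg.Agent.Nodes.OrthRoot

/-!
# Recognition of type `D_4` (project CIT)

An irreducible root system with four pairwise orthogonal roots `r i` of the same `W`-orbit `R` such that every root
`y ≠ ± r i` is orthogonal to all or to none of the `r i` is of type `D_4`, `R` consists of all roots, and for
`2 β = -(r 0 + r 1 + r 2 + r 3)` some `w` maps `r 1, β, r 2, r 3` to the four simple roots.
-/

set_option autoImplicit false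
set_option linter.unusedSectionVars false

namespace Cfsg.Agent.Cit.BDFour

open CoxeterSystem Cfsg.Agent.ChevalleyStructure.CoxeterGeom Cfsg.Agent.Tits.Roots Cfsg.Agent.Tits.Core
  Cfsg.Agent.Nodes.Coroot Cfsg.Agent.Nodes.Comb

variable {I W : Type*} [Fintype I] [DecidableEq I] [Group W] [Fintype W] {M : CoxeterMatrix I}
  (cs : CoxeterSystem M W) {A : I → I → ℤ} (h : IsCartan M A)

/-- The hypotheses. -/
structure Four (R : Set (I → ℤ)) (r : Fin 4 → I → ℤ) : Prop where
  irr : ∀ J : Set I, J.Nonempty → J ≠ Set.univ → ∃ a ∈ J, ∃ b, b ∉ J ∧ M a b ≠ 2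
  root : ∀ s ∈ R, IsRoot cs h s
  act : ∀ s ∈ R, ∀ w, rep cs h w s ∈ R
  trans : ∀ s ∈ R, ∀ s' ∈ R, ∃ w, s' = rep cs h w s
  mem : ∀ i, r i ∈ R
  orth : ∀ i j, i ≠ j → form cs h (r i) (r j) = 0
  iso : ∀ y, IsRoot cs h y → (∀ i, y ≠ r i) → (∀ i, y ≠ -r i) →
    ∀ i j, form cs h y (r i) = 0 → form cs h y (r j) = 0

namespace Four

variable {cs h} {R : Set (I → ℤ)} {r : Fin 4 → I → ℤ} (H : Four cs h R r)

include H

theorem refl_mem {s : I → ℤ} (hs : s ∈ R) {y : I → ℤ} (hy : IsRoot cs h y) : s - cpr cs h s y • y ∈ R := by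
  obtain ⟨w, i, rfl⟩ := hy
  rw [← rep_rfl'_eq]
  exact H.act s hs _

theorem neg_mem {s : I → ℤ} (hs : s ∈ R) : -s ∈ R := by
  have h1 := H.refl_mem hs (H.root s hs)
  rw [cpr_self cs h (H.root s hs)] at h1
  have e : s - (2 : ℤ) • s = -s := by module
  rwa [e] at h1

theorem norm {s : I → ℤ} (hs : s ∈ R) : form cs h s s = form cs h (r 0) (r 0) := by
  obtain ⟨w, hw⟩ := H.trans (r 0) (H.mem 0) s hs
  rw [hw, form_rep]

theorem pos : 0 < form cs h (r 0) (r 0) := form_pos cs h (H.root _ (H.mem 0)).ne_zero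

theorem gram (i j : Fin 4) : form cs h (r i) (r j) = if i = j then form cs h (r 0) (r 0) else 0 := by
  split_ifs with hij
  · rw [hij]; exact H.norm (H.mem j)
  · exact H.orth i j hij

theorem ne {i j : Fin 4} (hij : i ≠ j) : r i ≠ r j := by
  intro e
  have h1 := H.orth i j hij
  rw [e, H.norm (H.mem j)] at h1
  exact H.pos.ne' h1

/-- Roots of `R` which are not orthogonal to the frame. -/
theorem half_of_mem {y : I → ℤ} (hy : y ∈ R) (h1 : ∀ i, y ≠ r i) (h2 : ∀ i, y ≠ -r i) (h0 : form cs h y (r 0) ≠ 0) :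
    ∃ ε : Fin 4 → ℤ, (∀ i, ε i = 1 ∨ ε i = -1) ∧ (2 : ℤ) • y = ∑ i, ε i • r i ∧
      ∀ i, 2 * form cs h y (r i) = ε i * form cs h (r 0) (r 0) := by
  have hN := H.pos
  set N := form cs h (r 0) (r 0) with hNd
  have hyr := H.root y hy
  have hall : ∀ i, form cs h y (r i) ≠ 0 := fun i hi => h0 (H.iso y hyr h1 h2 i 0 hi)
  have hc : ∀ i, 2 * form cs h y (r i) = cpr cs h y (r i) * N := by
    intro i
    have h3 := two_form_cpr cs h y (H.root _ (H.mem i))
    rwa [H.norm (H.mem i)] at h3
  have hb : ∀ i, cpr cs h y (r i) = 1 ∨ cpr cs h y (r i) = -1 := by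
    intro i
    have h3 := Nodes.PosPair.gram_pos cs h hyr (H.root _ (H.mem i)) (h1 i) (h2 i)
    rw [H.norm hy, H.norm (H.mem i), ← hNd] at h3
    have h4 := hc i
    have h5 := hall i
    set c := cpr cs h y (r i)
    set f := form cs h y (r i)
    have h6 : c ≠ 0 := by
      intro h7
      rw [h7, zero_mul] at h4
      exact h5 (by omega)
    have h7 : c * c * (N * N) < 4 * (N * N) := by
      calc c * c * (N * N) = (c * N) * (c * N) := by ring
        _ = (2 * f) * (2 * f) := by rw [h4]
        _ = 4 * (f * f) := by ring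
        _ < 4 * (N * N) := by omega
    have h8 : c * c < 4 := lt_of_mul_lt_mul_right h7 (by positivity)
    have h9 : c < 2 := by nlinarith
    have h10 : -2 < c := by nlinarith
    omega
  refine ⟨fun i => cpr cs h y (r i), hb, ?_, hc⟩
  have hsq : ∀ i, cpr cs h y (r i) * cpr cs h y (r i) = 1 := by
    intro i
    rcases hb i with h3 | h3 <;> rw [h3] <;> norm_num
  by_contra hne
  have h3 := form_pos cs h (sub_ne_zero.2 hne)
  have h4 : form cs h ((2 : ℤ) • y - ∑ i, cpr cs h y (r i) • r i) ((2 : ℤ) • y - ∑ i, cpr cs h y (r i) • r i) = 0 := by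
    have g0 := hc 0
    have g1 := hc 1
    have g2 := hc 2
    have g3 := hc 3
    have s0 := hsq 0
    have s1 := hsq 1
    have s2 := hsq 2
    have s3 := hsq 3
    have o01 := H.orth 0 1 (by decide)
    have o02 := H.orth 0 2 (by decide)
    have o03 := H.orth 0 3 (by decide)
    have o10 := H.orth 1 0 (by decide)
    have o12 := H.orth 1 2 (by decide)
    have o13 := H.orth 1 3 (by decide)
    have o20 := H.orth 2 0 (by decide)
    have o21 := H.orth 2 1 (by decide)
    have o23 := H.orth 2 3 (by decide)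
    have o30 := H.orth 3 0 (by decide)
    have o31 := H.orth 3 1 (by decide)
    have o32 := H.orth 3 2 (by decide)
    have n1 := H.norm (H.mem 1)
    have n2 := H.norm (H.mem 2)
    have n3 := H.norm (H.mem 3)
    rw [Fin.sum_univ_four]
    simp only [form_sub_left, form_sub_right, form_add_left, form_add_right, form_smul_left, form_smul_right,
      H.norm hy, form_comm cs h (r _) y, o01, o02, o03, o10, o12, o13, o20, o21, o23, o30, o31, o32, n1, n2, n3]
    rw [← hNd]
    set c0 := cpr cs h y (r 0)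
    set c1 := cpr cs h y (r 1)
    set c2 := cpr cs h y (r 2)
    set c3 := cpr cs h y (r 3)
    linear_combination (-2 * c0) * g0 + (-2 * c1) * g1 + (-2 * c2) * g2 + (-2 * c3) * g3 - N * s0 - N * s1 -
      N * s2 - N * s3
  exact absurd h4 h3.ne'

/-- All roots not orthogonal to the frame lie in `R`. -/
theorem mem_of_ne {y : I → ℤ} (hy : IsRoot cs h y) (h1 : ∀ i, y ≠ r i) (h2 : ∀ i, y ≠ -r i)
    (h0 : form cs h y (r 0) ≠ 0) : y ∈ R := by
  have hN := H.pos
  have hall : ∀ i, form cs h y (r i) ≠ 0 := fun i hi => h0 (H.iso y hy h1 h2 i 0 hi)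
  have hyy := form_pos cs h hy.ne_zero
  -- the image of `r 0` under the reflection in `y`
  set c := cpr cs h (r 0) y with hc
  have hc2 : 2 * form cs h (r 0) y = c * form cs h y y := two_form_cpr cs h (r 0) hy
  have hc0 : c ≠ 0 := by
    intro h3
    rw [h3, zero_mul, form_comm] at hc2
    exact hall 0 (by omega)
  have hs : r 0 - c • y ∈ R := H.refl_mem (H.mem 0) hy
  have hf : ∀ i, i ≠ 0 → form cs h (r 0 - c • y) (r i) ≠ 0 := by
    intro i hi
    rw [form_sub_left, form_smul_left, H.orth 0 i hi.symm, zero_sub]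
    exact neg_ne_zero.2 (mul_ne_zero hc0 (hall i))
  -- it is not in the frame
  have hne : ∀ i, r 0 - c • y ≠ r i ∧ r 0 - c • y ≠ -r i := by
    intro i
    obtain ⟨j, hj0, hji⟩ : ∃ j : Fin 4, j ≠ 0 ∧ j ≠ i := by
      by_cases hi : i = 1
      · exact ⟨2, by decide, by rw [hi]; decide⟩
      · exact ⟨1, by decide, fun h => hi h.symm⟩
    constructor
    · intro e
      apply hf j hj0
      rw [e]
      exact H.orth i j hji.symm
    · intro e
      apply hf j hj0
      rw [e, form_neg_left, H.orth i j hji.symm, neg_zero]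
  have hsr := H.root _ hs
  have h3 : form cs h (r 0 - c • y) (r 0) ≠ 0 := fun h4 =>
    hf 1 (by decide) (H.iso _ hsr (fun i => (hne i).1) (fun i => (hne i).2) 0 1 h4)
  obtain ⟨ε, hε, hsum, hform⟩ := H.half_of_mem hs (fun i => (hne i).1) (fun i => (hne i).2) h3
  rw [Fin.sum_univ_four] at hsum
  rcases hε 0 with e0 | e0
  · -- then `c • y` is a root
    have h4 : IsRoot cs h (r 0 - (r 0 - c • y)) := by
      have h5 : cpr cs h (r 0) (r 0 - c • y) = 1 := by
        apply cpr_eq_of_form cs h hsr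
        rw [form_comm, hform 0, e0, H.norm hs]
      have h6 := isRoot_refl cs h (H.root _ (H.mem 0)) hsr
      rwa [h5, one_smul] at h6
    have h5 : r 0 - (r 0 - c • y) ∈ R := by
      have h5 : cpr cs h (r 0) (r 0 - c • y) = 1 := by
        apply cpr_eq_of_form cs h hsr
        rw [form_comm, hform 0, e0, H.norm hs]
      have h6 := H.refl_mem (H.mem 0) hsr
      rwa [h5, one_smul] at h6
    have e1 : r 0 - (r 0 - c • y) = c • y := by abel
    rw [e1] at h4 h5
    have e2 : c • y = (1 : ℤ) • (c • y) := (one_smul _ _).symm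
    rcases Nodes.PosPair.eq_or_eq_neg_of_smul cs h hy h4 hc0 e2 with h6 | h6
    · rw [h6]; exact h5
    · rw [h6]; exact H.neg_mem h5
  · -- impossible
    exfalso
    have hy2 : (2 * c) • y = (3 : ℤ) • r 0 - ε 1 • r 1 - ε 2 • r 2 - ε 3 • r 3 := by
      have h4 : (2 : ℤ) • (r 0 - c • y) = (2 : ℤ) • r 0 - (2 * c) • y := by module
      rw [h4, e0] at hsum
      have h5 : (2 * c) • y = (2 : ℤ) • r 0 - ((-1 : ℤ) • r 0 + ε 1 • r 1 + ε 2 • r 2 + ε 3 • r 3) := by
        rw [← hsum]; module
      rw [h5]; module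
    have o10 := H.orth 1 0 (by decide)
    have n1 := H.norm (H.mem 1)
    -- `⟨y, r 1^∨⟩`
    have h4 : 2 * c * form cs h y (r 1) = -ε 1 * form cs h (r 0) (r 0) := by
      have h5 := congrArg (fun x => form cs h x (r 1)) hy2
      simp only [form_sub_left, form_smul_left, H.orth 0 1 (by decide), H.orth 2 1 (by decide),
        H.orth 3 1 (by decide), n1] at h5
      linarith
    have h5 := two_form_cpr cs h y (H.root _ (H.mem 1))
    rw [n1] at h5
    have h6 : c * cpr cs h y (r 1) = -ε 1 := by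
      have h7 : c * cpr cs h y (r 1) * form cs h (r 0) (r 0) = -ε 1 * form cs h (r 0) (r 0) := by
        rw [← h4, mul_assoc, ← h5]; ring
      exact mul_right_cancel₀ hN.ne' h7
    have hcc : c * c = 1 := by
      have h7 : IsUnit c := by
        refine IsUnit.of_mul_eq_one (-(cpr cs h y (r 1) * ε 1)) ?_
        have h8 : ε 1 * ε 1 = 1 := by rcases hε 1 with h | h <;> rw [h] <;> norm_num
        linear_combination (-ε 1) * h6 + h8
      rcases Int.isUnit_iff.1 h7 with h | h <;> rw [h] <;> norm_num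
    -- the norm of `y`
    have h7 : 2 * form cs h (r 0) y = c * form cs h y y := hc2
    have h8 : 2 * c * form cs h y (r 0) = 3 * form cs h (r 0) (r 0) := by
      have h9 := congrArg (fun x => form cs h x (r 0)) hy2
      simp only [form_sub_left, form_smul_left, o10, H.orth 2 0 (by decide), H.orth 3 0 (by decide)] at h9
      linarith
    have h9 := two_form_cpr cs h (r 1) hy
    rw [form_comm] at h9
    rw [form_comm] at h7
    -- `form y y = 3 N`, `2 form y (r 1) = ∓ N`
    have h10 : form cs h y y = 3 * form cs h (r 0) (r 0) := by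
      linear_combination h8 - c * h7 - (form cs h y y) * hcc
    have h11 : 3 * (c * cpr cs h (r 1) y) = -ε 1 := by
      have h12 : 3 * (c * cpr cs h (r 1) y) * form cs h (r 0) (r 0) = -ε 1 * form cs h (r 0) (r 0) := by
        linear_combination h4 - c * h9 - c * cpr cs h (r 1) y * h10
      exact mul_right_cancel₀ hN.ne' h12
    rcases hε 1 with h | h <;> rw [h] at h11 <;> omega

/-- There are no roots orthogonal to the frame. -/
theorem form_ne_zero {y : I → ℤ} (hy : IsRoot cs h y) (h1 : ∀ i, y ≠ r i) (h2 : ∀ i, y ≠ -r i) :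
    form cs h y (r 0) ≠ 0 := by
  intro h0
  have hN := H.pos
  -- the roots orthogonal to the frame are orthogonal to all others
  have hS : ∀ x, IsRoot cs h x → ∀ y, IsRoot cs h y → (∀ i, form cs h y (r i) = 0) →
      (∃ i, form cs h x (r i) ≠ 0) → form cs h x y = 0 := by
    intro x hx y hy hy0 ⟨i, hi⟩
    by_cases hxr : ∃ j, x = r j ∨ x = -r j
    · obtain ⟨j, e | e⟩ := hxr
      · rw [e, form_comm]; exact hy0 j
      · rw [e, form_neg_left, form_comm, hy0 j, neg_zero]
    · rw [not_exists] at hxr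
      have hx1 : ∀ i, x ≠ r i := fun i hi => hxr i (Or.inl hi)
      have hx2 : ∀ i, x ≠ -r i := fun i hi => hxr i (Or.inr hi)
      have hx0 : form cs h x (r 0) ≠ 0 := fun h3 => hi (H.iso x hx hx1 hx2 0 i h3)
      obtain ⟨ε, hε, hsum, -⟩ := H.half_of_mem (H.mem_of_ne hx hx1 hx2 hx0) hx1 hx2 hx0
      have h3 := congrArg (fun v => form cs h v y) hsum
      simp only [Fin.sum_univ_four, form_add_left, form_smul_left, form_comm cs h (r _) y, hy0] at h3
      omega
  have hy0 : ∀ i, form cs h y (r i) = 0 := fun i => H.iso y hy h1 h2 0 i h0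
  -- the simple roots
  have hsimple : ∀ k, ∃ i, form cs h (sr k) (r i) ≠ 0 := by
    by_contra hcon
    rw [not_forall] at hcon
    obtain ⟨k₀, hk₀⟩ := hcon
    have hk₀' : ∀ i, form cs h (sr k₀) (r i) = 0 := by
      intro i
      by_contra h3
      exact hk₀ ⟨i, h3⟩
    by_cases hJ : {k | ∀ i, form cs h (sr k) (r i) = 0} = Set.univ
    · have h3 : form cs h (r 0) (r 0) = 0 := by
        rw [form_eq_sum]
        apply Finset.sum_eq_zero
        intro k _
        have h4 : k ∈ {k | ∀ i, form cs h (sr k) (r i) = 0} := by rw [hJ]; trivial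
        rw [form_comm, h4 0, mul_zero]
      exact hN.ne' h3
    · obtain ⟨a, ha, b, hb, hab⟩ := H.irr {k | ∀ i, form cs h (sr k) (r i) = 0} ⟨k₀, hk₀'⟩ hJ
      have hb' : ∃ i, form cs h (sr b) (r i) ≠ 0 := by
        by_contra h3
        apply hb
        intro i
        by_contra h4
        exact h3 ⟨i, h4⟩
      have h3 := hS _ (isRoot_sr cs h b) _ (isRoot_sr cs h a) ha hb'
      have hne : a ≠ b := by rintro rfl; exact hb ha
      have h4 := Nodes.OrthRoot.two_form_sr cs h a b
      rw [h3, mul_zero] at h4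
      have h5 := form_pos cs h (sr_ne_zero a)
      have h6 : A a b = 0 := (mul_eq_zero.1 h4.symm).resolve_right h5.ne'
      rcases h.rel a b hne with h7 | h7 | h7 | h7
      · exact hab h7.1
      · omega
      · omega
      · omega
  have h3 : form cs h y y = 0 := by
    rw [form_eq_sum]
    apply Finset.sum_eq_zero
    intro k _
    rw [form_comm, hS _ (isRoot_sr cs h k) y hy hy0 (hsimple k), mul_zero]
  exact (form_pos cs h hy.ne_zero).ne' h3

/-- All roots. -/
theorem cases {y : I → ℤ} (hy : IsRoot cs h y) : (∃ i, y = r i ∨ y = -r i) ∨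
    ((∀ i, y ≠ r i) ∧ (∀ i, y ≠ -r i) ∧ y ∈ R ∧ ∃ ε : Fin 4 → ℤ, (∀ i, ε i = 1 ∨ ε i = -1) ∧
      (2 : ℤ) • y = ∑ i, ε i • r i ∧ ∀ i, 2 * form cs h y (r i) = ε i * form cs h (r 0) (r 0)) := by
  by_cases h0 : ∃ i, y = r i ∨ y = -r i
  · exact Or.inl h0
  · rw [not_exists] at h0
    have h1 : ∀ i, y ≠ r i := fun i hi => h0 i (Or.inl hi)
    have h2 : ∀ i, y ≠ -r i := fun i hi => h0 i (Or.inr hi)
    have h3 := H.form_ne_zero hy h1 h2
    have h4 := H.mem_of_ne hy h1 h2 h3
    exact Or.inr ⟨h1, h2, h4, H.half_of_mem h4 h1 h2 h3⟩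

theorem mem_R {y : I → ℤ} (hy : IsRoot cs h y) : y ∈ R := by
  rcases H.cases hy with ⟨i, h1 | h1⟩ | h1
  · rw [h1]; exact H.mem i
  · rw [h1]; exact H.neg_mem (H.mem i)
  · exact h1.2.2.1

/-- There is a root outside the frame. -/
theorem exists_out : ∃ y, IsRoot cs h y ∧ (∀ i, y ≠ r i) ∧ (∀ i, y ≠ -r i) := by
  by_contra hcon
  have hall : ∀ y, IsRoot cs h y → ∃ i, y = r i ∨ y = -r i := by
    intro y hy
    by_contra h1
    rw [not_exists] at h1
    exact hcon ⟨y, hy, fun i hi => h1 i (Or.inl hi), fun i hi => h1 i (Or.inr hi)⟩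
  have hN := H.pos
  -- `J` : the simple roots not orthogonal to `r 0`
  have key : ∀ j : Fin 4, ∃ k, form cs h (sr k) (r j) ≠ 0 := by
    intro j
    by_contra h1
    have h2 : form cs h (r j) (r j) = 0 := by
      rw [form_eq_sum]
      apply Finset.sum_eq_zero
      intro k _
      have h4 : form cs h (sr k) (r j) = 0 := by
        by_contra h5
        exact h1 ⟨k, h5⟩
      rw [form_comm, h4, mul_zero]
    rw [H.norm (H.mem j)] at h2
    exact hN.ne' h2
  have hor : ∀ {k : I} {j : Fin 4}, form cs h (sr k) (r j) ≠ 0 → sr k = r j ∨ sr k = -r j := by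
    intro k j hk
    obtain ⟨i, hi⟩ := hall _ (isRoot_sr cs h k)
    have hij : i = j := by
      by_contra hij
      apply hk
      rcases hi with e | e
      · rw [e]; exact H.orth i j hij
      · rw [e, form_neg_left, H.orth i j hij, neg_zero]
    rwa [hij] at hi
  obtain ⟨k0, hk0⟩ := key 0
  obtain ⟨k1, hk1⟩ := key 1
  obtain ⟨a, ha, b, hb, hab⟩ := H.irr {k | form cs h (sr k) (r 0) ≠ 0} ⟨k0, hk0⟩ (by
    intro e
    have h1 : k1 ∈ {k | form cs h (sr k) (r 0) ≠ 0} := by rw [e]; trivial
    rcases hor hk1 with h2 | h2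
    · apply h1
      rw [h2]; exact H.orth 1 0 (by decide)
    · apply h1
      rw [h2, form_neg_left, H.orth 1 0 (by decide), neg_zero])
  have hb' : form cs h (sr b) (r 0) = 0 := by
    by_contra h1
    exact hb h1
  have h3 : form cs h (sr b) (sr a) = 0 := by
    rcases hor ha with h2 | h2
    · rw [h2]; exact hb'
    · rw [h2, form_neg_right, hb', neg_zero]
  have hne : a ≠ b := by rintro rfl; exact hb ha
  have h4 := Nodes.OrthRoot.two_form_sr cs h a b
  rw [h3, mul_zero] at h4
  have h5 := form_pos cs h (sr_ne_zero a)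
  have h6 : A a b = 0 := (mul_eq_zero.1 h4.symm).resolve_right h5.ne'
  rcases h.rel a b hne with h7 | h7 | h7 | h7
  · exact hab h7.1
  · omega
  · omega
  · omega

/-- Prescribed signs. -/
theorem exists_sign (F : Finset (Fin 4)) : ∃ y ∈ R, ∃ ε : Fin 4 → ℤ, (∀ i, ε i = 1 ∨ ε i = -1) ∧
    (∀ i ∈ F, ε i = -1) ∧ (2 : ℤ) • y = ∑ i, ε i • r i := by
  induction F using Finset.induction_on with
  | empty =>
    obtain ⟨y, hy, h1, h2⟩ := H.exists_out
    rcases H.cases hy with ⟨i, h3 | h3⟩ | ⟨-, -, hyR, ε, hε, hsum, -⟩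
    · exact absurd h3 (h1 i)
    · exact absurd h3 (h2 i)
    · exact ⟨y, hyR, ε, hε, by simp, hsum⟩
  | insert j F hj ih =>
    obtain ⟨y, hy, ε, hε, hF, hsum⟩ := ih
    by_cases hj1 : ε j = -1
    · refine ⟨y, hy, ε, hε, fun i hi => ?_, hsum⟩
      rcases Finset.mem_insert.1 hi with h1 | h1
      · rw [h1]; exact hj1
      · exact hF i h1
    · have hj2 : ε j = 1 := (hε j).resolve_right hj1
      -- `2 form y (r j) = N`
      have h1 : 2 * form cs h y (r j) = form cs h (r 0) (r 0) := by
        have h2 := congrArg (fun v => form cs h v (r j)) hsum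
        simp only [form_smul_left] at h2
        rw [h2]
        have h3 : form cs h (∑ i, ε i • r i) (r j) = ∑ i, ε i * form cs h (r i) (r j) := by
          simp only [Fin.sum_univ_four, form_add_left, form_smul_left]
        rw [h3, Finset.sum_eq_single j, hj2, H.norm (H.mem j), one_mul]
        · intro i _ hij
          rw [H.orth i j hij, mul_zero]
        · intro h4; exact absurd (Finset.mem_univ _) h4
      have h2 : cpr cs h y (r j) = 1 := by
        apply cpr_eq_of_form cs h (H.root _ (H.mem j))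
        rw [h1, H.norm (H.mem j), one_mul]
      have h3 := H.refl_mem hy (H.root _ (H.mem j))
      rw [h2, one_smul] at h3
      refine ⟨y - r j, h3, Function.update ε j (-1), fun i => ?_, fun i hi => ?_, ?_⟩
      · by_cases hij : i = j
        · subst hij; right; simp
        · rw [Function.update_of_ne hij]; exact hε i
      · by_cases hij : i = j
        · subst hij; simp
        · rw [Function.update_of_ne hij]
          exact hF i (Finset.mem_of_mem_insert_of_ne hi hij)
      · rw [smul_sub, hsum, ← Finset.add_sum_erase _ _ (Finset.mem_univ j),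
          ← Finset.add_sum_erase (a := j) _ _ (Finset.mem_univ j), Function.update_self, hj2]
        have h4 : ∑ x ∈ Finset.univ.erase j, Function.update ε j (-1) x • r x = ∑ x ∈ Finset.univ.erase j, ε x • r x :=
          Finset.sum_congr rfl fun i hi => by rw [Function.update_of_ne (Finset.ne_of_mem_erase hi)]
        rw [h4]
        module

/-- The root `β`. -/
theorem exists_beta : ∃ β ∈ R, (2 : ℤ) • β = -(r 0 + r 1 + r 2 + r 3) := by
  obtain ⟨y, hy, ε, -, hF, hsum⟩ := H.exists_sign Finset.univ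
  refine ⟨y, hy, ?_⟩
  rw [hsum, Fin.sum_univ_four, hF 0 (Finset.mem_univ _), hF 1 (Finset.mem_univ _), hF 2 (Finset.mem_univ _),
    hF 3 (Finset.mem_univ _)]
  module

theorem form_beta {β : I → ℤ} (hβ : (2 : ℤ) • β = -(r 0 + r 1 + r 2 + r 3)) (j : Fin 4) :
    2 * form cs h β (r j) = -form cs h (r 0) (r 0) := by
  have h2 := congrArg (fun v => form cs h v (r j)) hβ
  simp only [form_smul_left, form_neg_left] at h2
  rw [h2]
  have h3 : form cs h (r 0 + r 1 + r 2 + r 3) (r j) = ∑ i, form cs h (r i) (r j) := by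
    simp only [Fin.sum_univ_four, form_add_left]
  rw [h3, Finset.sum_eq_single j, H.norm (H.mem j)]
  · intro i _ hij
    exact H.orth i j hij
  · intro h4; exact absurd (Finset.mem_univ _) h4

/-- A nonnegative combination with value one. -/
theorem eq_single {c k : I → ℤ} (hc : ∀ i, 0 ≤ c i) (hk : ∀ i, 1 ≤ k i) (hs : ∑ i, c i * k i = 1) :
    ∃ i, c = sr i := by
  obtain ⟨i, hi⟩ : ∃ i, c i ≠ 0 := by
    by_contra h1
    rw [Finset.sum_eq_zero] at hs
    · omega
    · intro i _
      have : c i = 0 := by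
        by_contra h2
        exact h1 ⟨i, h2⟩
      rw [this, zero_mul]
  have hnn : ∀ j, 0 ≤ c j * k j := fun j => mul_nonneg (hc j) (by have := hk j; omega)
  rw [← Finset.add_sum_erase _ _ (Finset.mem_univ i)] at hs
  have h2 : 0 ≤ ∑ x ∈ Finset.univ.erase i, c x * k x := Finset.sum_nonneg fun j _ => hnn j
  have h3 : 1 ≤ c i := by have := hc i; omega
  have h4 : c i ≤ c i * k i := le_mul_of_one_le_right (hc i) (hk i)
  have h5 : ∑ x ∈ Finset.univ.erase i, c x * k x = 0 := by omega
  refine ⟨i, ?_⟩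
  funext j
  by_cases hij : j = i
  · subst hij
    rw [sr_self]; omega
  · rw [sr_ne hij]
    have h6 := (Finset.sum_eq_zero_iff_of_nonneg (fun x _ => hnn x)).1 h5 j (Finset.mem_erase.2 ⟨hij, Finset.mem_univ _⟩)
    rcases mul_eq_zero.1 h6 with h7 | h7
    · exact h7
    · have := hk j; omega

/-- **Recognition of type `D_4`.** -/
theorem exists_nodes {β : I → ℤ} (hβR : β ∈ R) (hβ : (2 : ℤ) • β = -(r 0 + r 1 + r 2 + r 3)) :
    ∃ (w : W) (a b c d : I), rep cs h w (r 1) = sr a ∧ rep cs h w β = sr b ∧ rep cs h w (r 2) = sr c ∧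
      rep cs h w (r 3) = sr d := by
  have hN := H.pos
  set N := form cs h (r 0) (r 0) with hNd
  have b0 := H.form_beta hβ 0
  have b1 := H.form_beta hβ 1
  have b2 := H.form_beta hβ 2
  have b3 := H.form_beta hβ 3
  have nβ := H.norm hβR
  have n1 := H.norm (H.mem 1)
  have n2 := H.norm (H.mem 2)
  have n3 := H.norm (H.mem 3)
  rw [← hNd] at b0 b1 b2 b3 nβ n1 n2 n3
  set u : I → ℤ := (3 : ℤ) • r 1 + (3 : ℤ) • r 2 + (3 : ℤ) • r 3 + (5 : ℤ) • β with hu
  -- the values on the frame and on `β`
  have u0 : 2 * form cs h (r 0) u = (-5) * N := by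
    rw [hu]
    simp only [form_add_right, form_smul_right, H.orth 0 1 (by decide), H.orth 0 2 (by decide),
      H.orth 0 3 (by decide), form_comm cs h (r 0) β]
    linear_combination 5 * b0
  have u1 : 2 * form cs h (r 1) u = N := by
    rw [hu]
    simp only [form_add_right, form_smul_right, H.orth 1 2 (by decide), H.orth 1 3 (by decide),
      form_comm cs h (r 1) β, n1]
    linear_combination 5 * b1
  have u2 : 2 * form cs h (r 2) u = N := by
    rw [hu]
    simp only [form_add_right, form_smul_right, H.orth 2 1 (by decide), H.orth 2 3 (by decide),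
      form_comm cs h (r 2) β, n2]
    linear_combination 5 * b2
  have u3 : 2 * form cs h (r 3) u = N := by
    rw [hu]
    simp only [form_add_right, form_smul_right, H.orth 3 1 (by decide), H.orth 3 2 (by decide),
      form_comm cs h (r 3) β, n3]
    linear_combination 5 * b3
  have uβ : 2 * form cs h β u = N := by
    rw [hu]
    simp only [form_add_right, form_smul_right, nβ]
    linear_combination 3 * b1 + 3 * b2 + 3 * b3
  -- all values are non-zero multiples of `N`
  have hval : ∀ x, IsRoot cs h x → ∃ k : ℤ, k ≠ 0 ∧ 2 * form cs h x u = k * N := by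
    intro x hx
    have hr : ∀ i, ∃ k : ℤ, k ≠ 0 ∧ 2 * form cs h (r i) u = k * N := by
      intro i
      fin_cases i
      · exact ⟨-5, by norm_num, u0⟩
      · exact ⟨1, by norm_num, by rw [one_mul]; exact u1⟩
      · exact ⟨1, by norm_num, by rw [one_mul]; exact u2⟩
      · exact ⟨1, by norm_num, by rw [one_mul]; exact u3⟩
    rcases H.cases hx with ⟨i, h1 | h1⟩ | ⟨-, -, -, ε, hε, hsum, -⟩
    · rw [h1]; exact hr i
    · obtain ⟨k, hk, e⟩ := hr i
      exact ⟨-k, neg_ne_zero.2 hk, by rw [h1, form_neg_left]; linear_combination -e⟩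
    · have h2 := congrArg (fun v => form cs h v u) hsum
      simp only [form_smul_left, Fin.sum_univ_four, form_add_left] at h2
      have h3 : 4 * form cs h x u = (-5 * ε 0 + ε 1 + ε 2 + ε 3) * N := by
        linear_combination 2 * h2 + ε 0 * u0 + ε 1 * u1 + ε 2 * u2 + ε 3 * u3
      have h4 : ∃ k : ℤ, k ≠ 0 ∧ -5 * ε 0 + ε 1 + ε 2 + ε 3 = 2 * k := by
        rcases hε 0 with e0 | e0 <;> rcases hε 1 with e1 | e1 <;> rcases hε 2 with e2 | e2 <;>
          rcases hε 3 with e3 | e3 <;> rw [e0, e1, e2, e3]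
        · exact ⟨-1, by norm_num, by norm_num⟩
        · exact ⟨-2, by norm_num, by norm_num⟩
        · exact ⟨-2, by norm_num, by norm_num⟩
        · exact ⟨-3, by norm_num, by norm_num⟩
        · exact ⟨-2, by norm_num, by norm_num⟩
        · exact ⟨-3, by norm_num, by norm_num⟩
        · exact ⟨-3, by norm_num, by norm_num⟩
        · exact ⟨-4, by norm_num, by norm_num⟩
        · exact ⟨4, by norm_num, by norm_num⟩
        · exact ⟨3, by norm_num, by norm_num⟩
        · exact ⟨3, by norm_num, by norm_num⟩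
        · exact ⟨2, by norm_num, by norm_num⟩
        · exact ⟨3, by norm_num, by norm_num⟩
        · exact ⟨2, by norm_num, by norm_num⟩
        · exact ⟨2, by norm_num, by norm_num⟩
        · exact ⟨1, by norm_num, by norm_num⟩
      obtain ⟨k, hk, e⟩ := h4
      refine ⟨k, hk, ?_⟩
      rw [e] at h3
      linarith
  -- the dominant representative
  obtain ⟨w, hw⟩ := exists_dom_rep cs h u
  have hk : ∀ i, ∃ k : ℤ, 1 ≤ k ∧ 2 * form cs h (rep cs h w u) (sr i) = k * N := by
    intro i
    obtain ⟨k, hk, e⟩ := hval _ ((isRoot_sr cs h i).act w⁻¹)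
    have e1 : form cs h (rep cs h w⁻¹ (sr i)) u = form cs h (rep cs h w u) (sr i) := by
      rw [form_comm, form_rep_left]
    rw [e1] at e
    refine ⟨k, ?_, e⟩
    have h1 := (form_sr_nonneg_iff cs h i (rep cs h w u)).2 (hw i)
    by_contra h2
    have h3 : k ≤ -1 := by omega
    have h4 : k * N ≤ (-1) * N := mul_le_mul_of_nonneg_right h3 hN.le
    omega
  choose k hk1 hk2 using hk
  have key : ∀ x, IsRoot cs h x → 2 * form cs h x u = N → ∃ i, rep cs h w x = sr i := by
    intro x hx hxu
    have hx' := hx.act w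
    have e1 : ∀ y : I → ℤ, 2 * form cs h (rep cs h w u) y = (∑ i, y i * k i) * N := by
      intro y
      rw [form_eq_sum, Finset.mul_sum, Finset.sum_mul]
      refine Finset.sum_congr rfl fun i _ => ?_
      rw [mul_left_comm, hk2 i, mul_assoc]
    have e2 : 2 * form cs h (rep cs h w u) (rep cs h w x) = N := by rw [form_rep, form_comm]; exact hxu
    rw [e1] at e2
    have e3 : ∑ i, (rep cs h w x) i * k i = 1 :=
      mul_right_cancel₀ hN.ne' (by rw [e2, one_mul])
    rcases hx'.pos_or_neg with h1 | h1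
    · exact H.eq_single h1 hk1 e3
    · exfalso
      have h2 : ∑ i, (rep cs h w x) i * k i ≤ 0 :=
        Finset.sum_nonpos fun i _ => mul_nonpos_of_nonpos_of_nonneg (h1 i) (by have := hk1 i; omega)
      omega
  obtain ⟨a, ha⟩ := key _ (H.root _ (H.mem 1)) u1
  obtain ⟨b, hb⟩ := key _ (H.root _ hβR) uβ
  obtain ⟨c, hc⟩ := key _ (H.root _ (H.mem 2)) u2
  obtain ⟨d, hd⟩ := key _ (H.root _ (H.mem 3)) u3
  exact ⟨w, a, b, c, d, ha, hb, hc, hd⟩

/-- The entries of the Cartan matrix. -/
theorem cartan {x y : I → ℤ} (hx : x ∈ R) (hy : y ∈ R) {w : W} {i j : I} (hi : rep cs h w x = sr i)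
    (hj : rep cs h w y = sr j) {c : ℤ} (hc : 2 * form cs h x y = c * form cs h (r 0) (r 0)) : A i j = c := by
  have h1 := Nodes.OrthRoot.two_form_sr cs h i j
  have h2 : form cs h (sr j) (sr i) = form cs h x y := by
    rw [← hi, ← hj, form_rep, form_comm]
  have h3 : form cs h (sr i) (sr i) = form cs h (r 0) (r 0) := by
    rw [← hi, form_rep, H.norm hx]
  rw [h2, h3, hc] at h1
  exact (mul_right_cancel₀ H.pos.ne' h1).symm

end Four

end Cfsg.Agent.Cit.BDFour
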