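import Mathlib
import Cfsg.Agent.Cit.BDChart
import Cfsg.Agent.Cit.BDFour

/-!
# The piece of `C(z_K z_J)` (project CIT, types `B_n`, `²D_{n+1}`, `D_n`)

`Cfg` : two commuting pairs of twins `K, K'`; `J, J'`, a chart of `E`, `J = K_g`, `J' = K_d`. If a subgroup `L` of
`C(z_K z_J)` containing the four groups has a chart then the chart is of type `D_4`, with nodes `α, β, γ, δ`,
`K_α = K'`, `Z (± γ) = Z_E (± g)`, `Z (± δ) = Z_E (± d)` (`exists_nds`), and the hypotheses of `BDCore.Core` hold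
(`Nds.core`).
-/

set_option autoImplicit false
set_option linter.unusedSectionVars false

namespace Cfsg.Agent.Cit.BDPiece

open CoxeterSystem Cfsg.Agent.ChevalleyStructure.CoxeterGeom Cfsg.Agent.Tits.Roots Cfsg.Agent.Tits.Core
  Cfsg.Agent.Nodes.Comb Cfsg.Agent.Nodes.Reps Cfsg.Agent.Nodes.BNOf Cfsg.Agent.Nodes.RGDLib
  Cfsg.Agent.Nodes.Chart Cfsg.Agent.Nodes.ClsNorm Cfsg.Agent.Nodes.Bruhat Cfsg.Agent.Nodes.Coroot
  Cfsg.Agent.Cit.BDTwin Cfsg.Agent.Cit.BDCore Cfsg.Agent.Cit.BDChart Cfsg.Agent.Cit.TypeDet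
open Cfsg.Agent.Cit.FrameOf (Dat Adapted conjChart)
open Cfsg.Agent.Cit.ParabSL2 (root rootOp exists_equiv_pair)

variable {G : Type*} [Group G] {Om : Set (Subgroup G)} {p : ℕ} {K K' E J J' F : Subgroup G}

/-- The four groups. -/
def kf (K K' J J' : Subgroup G) : Fin 4 → Subgroup G := ![K, K', J, J']

theorem kf_cases {P : Subgroup G → Prop} (h0 : P K) (h1 : P K') (h2 : P J) (h3 : P J') :
    ∀ i, P (kf K K' J J' i) := by
  intro i
  fin_cases i
  exacts [h0, h1, h2, h3]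

theorem cj_of_comm {x : G} {P : Subgroup G} (h : ∀ b ∈ P, x * b = b * x) : cj x P = P := by
  ext u
  rw [mem_cj]
  constructor
  · intro hu
    have h1 := h _ hu
    have h2 : u = x⁻¹ * u * x := by
      have h3 : x * (x⁻¹ * u * x) = u * x := by group
      rw [h3] at h1
      exact mul_right_cancel h1
    rw [h2]; exact hu
  · intro hu
    have h1 : x⁻¹ * u * x = u := by rw [mul_assoc, ← h u hu]; group
    rwa [h1]

section Two

variable [Finite G] (H : Two Om K K' E J J' F)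

include H

theorem kf_mem : ∀ i, kf K K' J J' i ∈ Om := kf_cases H.tK.mem H.tK.mem' H.tJ.mem H.tJ.mem'

theorem kf_cm : ∀ i j, i ≠ j → cm (kf K K' J J' i) (kf K K' J J' j) := by
  have h01 : cm K K' := H.tK.cm_twin
  have h02 : cm K J := cm_mono le_rfl H.JE H.tK.cm_E
  have h03 : cm K J' := cm_mono le_rfl H.J'E H.tK.cm_E
  have h12 : cm K' J := cm_mono le_rfl H.JE H.tK.cm_E'
  have h13 : cm K' J' := cm_mono le_rfl H.J'E H.tK.cm_E'
  have h23 : cm J J' := H.tJ.cm_twin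
  intro i j hij
  fin_cases i <;> fin_cases j <;>
    first
      | exact absurd rfl hij
      | exact h01
      | exact h02
      | exact h03
      | exact h12
      | exact h13
      | exact h23
      | exact cm_symm h01
      | exact cm_symm h02
      | exact cm_symm h03
      | exact cm_symm h12
      | exact cm_symm h13
      | exact cm_symm h23

theorem all_cm {M : Subgroup G} (hE : M ≤ E) (hF : M ≤ F) : ∀ k, cm M (kf K K' J J' k) :=
  kf_cases (cm_symm (cm_mono le_rfl hE H.tK.cm_E)) (cm_symm (cm_mono le_rfl hE H.tK.cm_E'))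
    (cm_symm (cm_mono le_rfl hF H.tJ.cm_E)) (cm_symm (cm_mono le_rfl hF H.tJ.cm_E'))

theorem four_all (zK : zz K = zz K') (zJ : zz J = zz J') : ∀ i, ∀ M ∈ Om,
    M ≤ Subgroup.centralizer {zz K * zz J} → cm M (kf K K' J J' i) →
      (∃ k, M = kf K K' J J' k) ∨ ∀ k, cm M (kf K K' J J' k) := by
  intro i M hM hMt h
  fin_cases i
  · rcases H.four hM hMt h with h1 | h1 | h1 | ⟨h1, h2⟩
    · exact Or.inl ⟨1, h1⟩
    · exact Or.inl ⟨2, h1⟩
    · exact Or.inl ⟨3, h1⟩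
    · exact Or.inr (all_cm H h1 h2)
  · rcases H.swapK.four hM (by rwa [← zK]) h with h1 | h1 | h1 | ⟨h1, h2⟩
    · exact Or.inl ⟨0, h1⟩
    · exact Or.inl ⟨2, h1⟩
    · exact Or.inl ⟨3, h1⟩
    · exact Or.inr (all_cm H h1 h2)
  · rcases H.symm.four hM (by rwa [← H.zz_comm]) h with h1 | h1 | h1 | ⟨h1, h2⟩
    · exact Or.inl ⟨3, h1⟩
    · exact Or.inl ⟨0, h1⟩
    · exact Or.inl ⟨1, h1⟩
    · exact Or.inr (all_cm H h2 h1)
  · rcases H.swapJ.symm.four hM (by rwa [← zJ, ← H.zz_comm]) h with h1 | h1 | h1 | ⟨h1, h2⟩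
    · exact Or.inl ⟨2, h1⟩
    · exact Or.inl ⟨0, h1⟩
    · exact Or.inl ⟨1, h1⟩
    · exact Or.inr (all_cm H h2 h1)

end Two

/-- The configuration. -/
structure Cfg (Om : Set (Subgroup G)) (p : ℕ) (F' : Type*) [Field F'] (K K' E J J' F : Subgroup G)
    (c : Chart Om p E) (g d : c.I → ℤ) : Prop where
  two : Two Om K K' E J J' F
  nt : Nontrivial c.I
  rg : g ∈ c.R
  rd : d ∈ c.R
  orth : form c.cs c.h g d = 0
  eJ : J = c.Z g ⊔ c.Z (-g)
  eJ' : J' = c.Z d ⊔ c.Z (-d)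
  zK : zz K = zz K'
  zJ : zz J = zz J'
  sl : ∀ M ∈ Om, Nonempty (Matrix.SpecialLinearGroup (Fin 2) F' ≃* M)

namespace Cfg

variable [Finite G] {F' : Type*} [Field F'] [Fintype F'] {c : Chart Om p E} {g d : c.I → ℤ}
  (C : Cfg Om p F' K K' E J J' F c g d)

include C

theorem hyp : Hyp Om := C.two.am.hyp

theorem z_g : c.z g = zz J := by
  rw [C.eJ]; exact (BDChart.zz_eq C.hyp c C.nt C.rg).symm

theorem z_d : c.z d = zz J := by
  rw [C.zJ, C.eJ']; exact (BDChart.zz_eq C.hyp c C.nt C.rd).symm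

theorem ZX : ∀ r ∈ c.R, c.Z r = c.X r :=
  BDChart.X_eq_Z c C.rg C.rd C.orth (by rw [C.z_g, C.z_d])

theorem exists_e [CharP F' p] : ∃ e : ∀ i, Matrix.SpecialLinearGroup (Fin 2) F' ≃* kf K K' J J' i,
    root (e 2) = c.Z g ∧ rootOp (e 2) = c.Z (-g) ∧ root (e 3) = c.Z d ∧ rootOp (e 3) = c.Z (-d) := by
  have : Fact p.Prime := ⟨c.prime⟩
  have key : ∀ r ∈ c.R, ∃ e : Matrix.SpecialLinearGroup (Fin 2) F' ≃* ↥(c.Z r ⊔ c.Z (-r)),
      root e = c.Z r ∧ rootOp e = c.Z (-r) := by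
    intro r hr
    have hr' := neg_mem c.cls hr
    obtain ⟨e⟩ := C.sl _ (c.om r hr)
    have h1 := Nodes.ChartLoc.card_Z c.cls c.odd hr e
    have h2 : Nat.card (c.Z (-r)) = Fintype.card F' := by
      have h3 : c.Z r ⊔ c.Z (-r) = c.Z (-r) ⊔ c.Z (- -r) := by rw [neg_neg, sup_comm]
      exact Nodes.ChartLoc.card_Z c.cls c.odd hr' (e.trans (MulEquiv.subgroupCongr h3))
    refine exists_equiv_pair e le_sup_left h1 le_sup_right h2 fun h3 => ?_
    have h4 := Z_injective c.cls hr' hr h3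
    have h5 := (c.cls.root r hr).ne_zero
    apply h5
    funext k
    have := congrFun h4 k
    rw [Pi.neg_apply] at this
    change r k = 0
    omega
  have h1 := C.eJ
  have h2 := C.eJ'
  obtain ⟨e0⟩ := C.sl K C.two.tK.mem
  obtain ⟨e1⟩ := C.sl K' C.two.tK.mem'
  obtain ⟨e2, a1, a2⟩ := key g C.rg
  obtain ⟨e3, a3, a4⟩ := key d C.rd
  clear C key
  subst h1 h2
  exact ⟨fun i => match i with
    | 0 => e0
    | 1 => e1
    | 2 => e2
    | 3 => e3, a1, a2, a3, a4⟩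

theorem dat (e : ∀ i, Matrix.SpecialLinearGroup (Fin 2) F' ≃* kf K K' J J' i) :
    Dat Om F' (kf K K' J J') (fun i s => if s = 1 then root (e i) else rootOp (e i)) where
  hyp := C.hyp
  mem := kf_mem C.two
  comm i j hij := kf_cm C.two i j hij
  sl i := ⟨e i, if_pos rfl, if_neg (by decide)⟩

variable {L : Subgroup G} (hLt : L ≤ Subgroup.centralizer {zz K * zz J}) (hKL : ∀ i, kf K K' J J' i ≤ L)

include hLt hKL

theorem iso (cL : Chart Om p L) {X : Fin 4 → SignType → Subgroup G} (D : Dat Om F' (kf K K' J J') X)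
    {r : Fin 4 → cL.I → ℤ} (A : Adapted (kf K K' J J') X cL r) {y : cL.I → ℤ} (hy : IsRoot cL.cs cL.h y)
    (h1 : ∀ i, y ≠ r i) (h2 : ∀ i, y ≠ -r i) (i j : Fin 4) (h0 : form cL.cs cL.h y (r i) = 0) :
    form cL.cs cL.h y (r j) = 0 := by
  by_contra h3
  have hij : i ≠ j := by rintro rfl; exact h3 h0
  obtain ⟨a, ha⟩ := Subgroup.ne_bot_iff_exists_ne_one.1 (Nodes.StdConn.X_ne_bot cL.cls hy)
  obtain ⟨x, hx⟩ := a
  have hx1 : x ≠ 1 := fun h => ha (Subtype.ext h)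
  have hxL : x ∈ L := Nodes.StdConn.X_le cL hy hx
  have hodd : ∀ {u : G}, u ∈ cL.X y → u * u = 1 → u = 1 := fun hu =>
    eq_one_of_odd (odd_orderOf cL.prime cL.odd (cL.cls.rgd.pgrp' hy) hu)
  have hKi : ∀ b ∈ kf K K' J J' i, x * b = b * x := by
    intro b hb
    rw [D.K_eq i, ← A.pos i (hKL i), ← A.neg i (hKL i)] at hb
    exact Nodes.Perp.X_cm_KK cL.cls (A.mem i (hKL i)) hy h0 x hx b hb
  set z := zz (kf K K' J J' j) with hzd
  have hz2 : z * z = 1 := C.hyp.zz_mul (kf_mem C.two j)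
  have hz : z * x * z = x⁻¹ := by
    rw [hzd, ← A.zz j (hKL j)]
    exact cL.cls.z_inv (r j) (A.mem j (hKL j)) y hy (h1 j) (h2 j) h3 x hx
  have e1 : x * z * x⁻¹ = x * x * z := by
    rw [← hz]
    calc x * z * (z * x * z) = x * (z * z) * x * z := by group
      _ = x * x * z := by rw [hz2, mul_one]
  have hM : cj x (kf K K' J J' j) ∈ Om := C.hyp.conj _ (kf_mem C.two j) x
  have hMt : cj x (kf K K' J J' j) ≤ Subgroup.centralizer {zz K * zz J} :=
    (cj_le_of_mem (hKL j) hxL).trans hLt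
  have hcm : cm (cj x (kf K K' J J' j)) (kf K K' J J' i) := by
    have h4 := (cm_cj (g := x)).2 (kf_cm C.two j i hij.symm)
    rwa [cj_of_comm hKi] at h4
  have hzM : x * x * z ∈ cj x (kf K K' J J' j) := by
    rw [← e1]
    exact conj_mem_cj (C.hyp.zz_mem (kf_mem C.two j))
  have key : ¬ cm (cj x (kf K K' J J' j)) (kf K K' J J' j) := by
    intro h4
    have h5 := h4 _ hzM z (C.hyp.zz_mem (kf_mem C.two j))
    have h6 : x * x * (x * x) = 1 := by
      have e2 : z * (x * x * z) = x⁻¹ * x⁻¹ := by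
        calc z * (x * x * z) = z * x * (z * z) * x * z := by rw [hz2]; group
          _ = (z * x * z) * (z * x * z) := by group
          _ = x⁻¹ * x⁻¹ := by rw [hz]
      have e3 : x * x * z * z = x * x := by rw [mul_assoc, hz2, mul_one]
      rw [e2, e3] at h5
      nth_rw 2 [h5]
      group
    exact hx1 (hodd hx (hodd (mul_mem hx hx) h6))
  rcases four_all C.two C.zK C.zJ i _ hM hMt hcm with ⟨k, hk⟩ | h4
  · by_cases hkj : k = j
    · subst hkj
      have h5 : zz (cj x (kf K K' J J' k)) = z := by rw [hk]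
      rw [C.hyp.zz_cj (kf_mem C.two k), ← hzd, e1] at h5
      have h6 : x * x = 1 := by
        have := congrArg (· * z) h5
        simp only [mul_assoc, hz2, mul_one] at this
        exact this
      exact hx1 (hodd hx h6)
    · exact key (by rw [hk]; exact kf_cm C.two k j hkj)
  · exact key (h4 j)

omit [Fintype F'] in
/-- `L` is not a member. -/
theorem notMem : L ∉ Om := by
  intro hL
  have h0 := hKL 0
  have h1 := hKL 1
  have key : ∀ M ∈ Om, M ≤ L → M = L := by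
    intro M hM hML
    obtain ⟨g, hg⟩ := C.two.am.one M hM L hL
    refine Subgroup.eq_of_le_of_card_ge hML ?_
    rw [hg, card_cj]
  have e0 := key _ C.two.tK.mem h0
  have e1 := key _ C.two.tK.mem' h1
  exact C.two.tK.ne C.two.am (e0.trans e1.symm)

theorem four (cL : Chart Om p L) {X : Fin 4 → SignType → Subgroup G} (D : Dat Om F' (kf K K' J J') X)
    {r : Fin 4 → cL.I → ℤ} (A : Adapted (kf K K' J J') X cL r) : BDFour.Four cL.cs cL.h cL.R r where
  irr := cL.irr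
  root := cL.cls.root
  act := cL.cls.act
  trans := cL.trans
  mem i := A.mem i (hKL i)
  orth i j hij := A.orth i (hKL i) j (hKL j) hij
  iso y hy h1 h2 i j h0 := C.iso hLt hKL cL D A hy h1 h2 i j h0

end Cfg

/-- There are only four nodes. -/
theorem mem_nodes {I W : Type*} [Fintype I] [DecidableEq I] [Group W] [Fintype W] {M : CoxeterMatrix I}
    {cs : CoxeterSystem M W} {A : I → I → ℤ} {h : IsCartan M A} {R : Set (I → ℤ)} {r : Fin 4 → I → ℤ}
    (H : BDFour.Four cs h R r) {β : I → ℤ} (hβ : (2 : ℤ) • β = -(r 0 + r 1 + r 2 + r 3)) {w : W} {a b c d : I}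
    (e1 : rep cs h w (r 1) = sr a) (e2 : rep cs h w β = sr b) (e3 : rep cs h w (r 2) = sr c)
    (e4 : rep cs h w (r 3) = sr d) (k : I) : k = a ∨ k = b ∨ k = c ∨ k = d := by
  by_contra hcon
  rw [not_or, not_or, not_or] at hcon
  obtain ⟨h1, h2, h3, h4⟩ := hcon
  have f1 : rep cs h w (r 1) k = 0 := by rw [e1, sr_ne h1]
  have f2 : rep cs h w (r 2) k = 0 := by rw [e3, sr_ne h3]
  have f3 : rep cs h w (r 3) k = 0 := by rw [e4, sr_ne h4]
  have fb : rep cs h w β k = 0 := by rw [e2, sr_ne h2]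
  have f0 : rep cs h w (r 0) k = 0 := by
    have h5 := congrFun (congrArg (rep cs h w) hβ) k
    simp only [map_smul, map_neg, map_add, Pi.smul_apply, Pi.neg_apply, Pi.add_apply, f1, f2, f3, fb,
      smul_zero, add_zero] at h5
    omega
  have f : ∀ i, rep cs h w (r i) k = 0 := by
    intro i
    fin_cases i
    exacts [f0, f1, f2, f3]
  have hy : IsRoot cs h (rep cs h w⁻¹ (sr k)) := (isRoot_sr cs h k).act _
  have hk : rep cs h w (rep cs h w⁻¹ (sr k)) = sr k := by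
    rw [← rep_mul_apply, mul_inv_cancel, map_one, Module.End.one_apply]
  rcases H.cases hy with ⟨i, h5 | h5⟩ | ⟨-, -, -, ε, -, h5, -⟩
  · rw [h5] at hk
    have := congrFun hk k
    rw [f, sr_self] at this
    omega
  · rw [h5] at hk
    have := congrFun hk k
    rw [map_neg, Pi.neg_apply, f, sr_self] at this
    omega
  · have h6 := congrArg (rep cs h w) h5
    rw [map_smul, hk, map_sum] at h6
    have h7 := congrFun h6 k
    simp only [map_smul, Pi.smul_apply, Finset.sum_apply, f, sr_self, smul_eq_mul, mul_one, mul_zero,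
      Finset.sum_const_zero] at h7
    omega

/-- The nodes of the chart of the piece. -/
structure Nds {L : Subgroup G} (K' J J' : Subgroup G) (c : Chart Om p E) (g d : c.I → ℤ) (cD : Chart Om p L)
    (α β γ δ : cD.I) : Prop where
  all : ∀ y, IsRoot cD.cs cD.h y → y ∈ cD.R
  norm : ∀ i, form cD.cs cD.h (sr i) (sr i) = form cD.cs cD.h (sr α) (sr α)
  ZX : ∀ r ∈ cD.R, cD.Z r = cD.X r
  aαβ : cD.A α β = -1
  aβα : cD.A β α = -1
  aβγ : cD.A β γ = -1
  aγβ : cD.A γ β = -1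
  aβδ : cD.A β δ = -1
  aδβ : cD.A δ β = -1
  aγδ : cD.A γ δ = 0
  aδγ : cD.A δ γ = 0
  ne : γ ≠ δ
  nodes : ∀ i, i = α ∨ i = β ∨ i = γ ∨ i = δ
  Kα : cD.Z (sr α) ⊔ cD.Z (-sr α) = K'
  Zγ : cD.Z (sr γ) = c.Z g
  Zγ' : cD.Z (-sr γ) = c.Z (-g)
  Zδ : cD.Z (sr δ) = c.Z d
  Zδ' : cD.Z (-sr δ) = c.Z (-d)
  zα : cD.z (sr α) = zz K'
  zγ : cD.z (sr γ) = zz J
  zδ : cD.z (sr δ) = zz J'

theorem uniq [Finite G] (hyp : Hyp Om) {L : Subgroup G} (cL : Chart Om p L) (hnt : Nontrivial cL.I) :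
    Nodes.ZRel.Uniq cL.R cL.Z cL.z := by
  intro r hr x hx h2 h1
  have h3 := hyp.eq_zz (cL.om r hr) hx h2 h1
  rw [h3]
  exact BDChart.zz_eq hyp cL hnt hr

/-- In a chart in which two simple roots of `R` are joined by a simple bond, `Z = X`. -/
theorem ZX_of_bond [Finite G] (hyp : Hyp Om) {L : Subgroup G} (cL : Chart Om p L) {i j : cL.I} (hij : i ≠ j)
    (hi : sr i ∈ cL.R) (hj : sr j ∈ cL.R) (h1 : cL.A i j * cL.A j i = 1) : ∀ r ∈ cL.R, cL.Z r = cL.X r := by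
  have hnt : Nontrivial cL.I := ⟨i, j, hij⟩
  have h2 : cL.X (sr i) = cL.Z (sr i) := by
    refine Nodes.ZRel.X_eq_Z cL.cls cL.prime cL.odd (uniq hyp cL hnt) hi hj ?_ ?_ ?_
    · intro e
      have := congrFun e j
      rw [sr_self, sr_ne hij.symm] at this
      omega
    · intro e
      have := congrFun e j
      rw [sr_self, Pi.neg_apply, sr_ne hij.symm] at this
      omega
    · rw [cpr_sr, cpr_sr, sr, sr, pairing_single, pairing_single, mul_one, mul_one]
      exact h1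
  intro r hr
  obtain ⟨w, rfl⟩ := cL.trans _ hi r hr
  obtain ⟨n, hn⟩ := exists_rp cL.cs cL.cls.rgd.nsys w
  rw [← cj_Z cL hn hi, ← cj_X cL hn (isRoot_sr _ _ i), h2]

namespace Cfg

variable [Finite G] {F' : Type*} [Field F'] [Fintype F'] [CharP F' p] {c : Chart Om p E} {g d : c.I → ℤ}
  (C : Cfg Om p F' K K' E J J' F c g d) {L : Subgroup G} (hLt : L ≤ Subgroup.centralizer {zz K * zz J})
  (hKL : ∀ i, kf K K' J J' i ≤ L)

include C hLt hKL

/-- **Type `D_4`.** -/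
theorem exists_nds (cL : Chart Om p L) : ∃ (cD : Chart Om p L) (α β γ δ : cD.I), Nds K' J J' c g d cD α β γ δ := by
  obtain ⟨e, a1, a2, a3, a4⟩ := C.exists_e
  have D := C.dat e
  obtain ⟨c1, r, A⟩ : ∃ (c1 : Chart Om p L) (r : Fin 4 → c1.I → ℤ),
      Adapted (kf K K' J J') (fun i s => if s = 1 then root (e i) else rootOp (e i)) c1 r := by
    obtain ⟨y, hy, r, A⟩ := FrameOfFr.exists_adapted' cL (C.notMem hLt hKL) D
    exact ⟨conjChart cL hy D.hyp.conj, r, A⟩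
  have H4 := C.four hLt hKL c1 D A
  obtain ⟨β, hβR, hβ⟩ := H4.exists_beta
  obtain ⟨w, i1, i2, i3, i4, e1, e2, e3, e4⟩ := H4.exists_nodes hβR hβ
  obtain ⟨n, hn⟩ := exists_rp c1.cs c1.cls.rgd.nsys w
  have hnL : n⁻¹ ∈ L := inv_mem (n_mem_GG c1 hn)
  set cD := conjChart c1 hnL C.hyp.conj with hcD
  have hZ : ∀ x ∈ c1.R, cD.Z (rep c1.cs c1.h w x) = c1.Z x := by
    intro x hx
    change cj n⁻¹ (c1.Z (rep c1.cs c1.h w x)) = c1.Z x
    rw [← cj_Z c1 hn hx, Cit.cj_inv_cj]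
  have hz : ∀ x ∈ c1.R, cD.z (rep c1.cs c1.h w x) = c1.z x := by
    intro x hx
    change n⁻¹ * c1.z (rep c1.cs c1.h w x) * n⁻¹⁻¹ = c1.z x
    rw [← conj_z c1.cls hn hx]; group
  have hall : ∀ y, IsRoot cD.cs cD.h y → y ∈ cD.R := fun y hy => H4.mem_R hy
  have r1 := A.mem 1 (hKL 1)
  have r2 := A.mem 2 (hKL 2)
  have r3 := A.mem 3 (hKL 3)
  have b1 := H4.form_beta hβ 1
  have b2 := H4.form_beta hβ 2
  have b3 := H4.form_beta hβ 3
  have A12 : cD.A i1 i2 = -1 := H4.cartan r1 hβR e1 e2 (by rw [form_comm, b1]; ring)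
  have A21 : cD.A i2 i1 = -1 := H4.cartan hβR r1 e2 e1 (by rw [b1]; ring)
  have A23 : cD.A i2 i3 = -1 := H4.cartan hβR r2 e2 e3 (by rw [b2]; ring)
  have A32 : cD.A i3 i2 = -1 := H4.cartan r2 hβR e3 e2 (by rw [form_comm, b2]; ring)
  have A24 : cD.A i2 i4 = -1 := H4.cartan hβR r3 e2 e4 (by rw [b3]; ring)
  have A42 : cD.A i4 i2 = -1 := H4.cartan r3 hβR e4 e2 (by rw [form_comm, b3]; ring)
  have A34 : cD.A i3 i4 = 0 := H4.cartan r2 r3 e3 e4 (by rw [H4.orth 2 3 (by decide)]; ring)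
  have A43 : cD.A i4 i3 = 0 := H4.cartan r3 r2 e4 e3 (by rw [H4.orth 3 2 (by decide)]; ring)
  have h12 : i1 ≠ i2 := by
    rintro rfl
    have h1 := cD.h.diag i1
    rw [A12] at h1
    omega
  have hneg : ∀ {x : c1.I → ℤ} {i : c1.I}, rep c1.cs c1.h w x = sr i → rep c1.cs c1.h w (-x) = -sr i := by
    intro x i h1
    rw [map_neg, h1]
  have n1 := neg_mem c1.cls r1
  have n2 := neg_mem c1.cls r2
  have n3 := neg_mem c1.cls r3
  refine ⟨cD, i1, i2, i3, i4, ?_⟩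
  constructor
  · exact hall
  · intro i
    exact (H4.norm (hall _ (isRoot_sr cD.cs cD.h i))).trans (H4.norm (hall _ (isRoot_sr cD.cs cD.h i1))).symm
  · exact ZX_of_bond C.hyp cD h12 (hall _ (isRoot_sr _ _ _)) (hall _ (isRoot_sr _ _ _)) (by rw [A12, A21]; norm_num)
  · exact A12
  · exact A21
  · exact A23
  · exact A32
  · exact A24
  · exact A42
  · exact A34
  · exact A43
  · rintro rfl
    rw [← e4] at e3
    exact H4.ne (by decide : (2 : Fin 4) ≠ 3) (rep_injective_apply c1.cs c1.h w e3)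
  · exact mem_nodes H4 hβ e1 e2 e3 e4
  · have q1 : cD.Z (sr i1 : c1.I → ℤ) = c1.Z (r 1) := by rw [← hZ _ r1, e1]
    have q2 : cD.Z (-(sr i1 : c1.I → ℤ)) = c1.Z (-r 1) := by rw [← hZ _ n1, hneg e1]
    refine (congrArg₂ (· ⊔ ·) q1 q2).trans ?_
    rw [A.pos 1 (hKL 1), A.neg 1 (hKL 1)]
    exact (D.K_eq 1).symm
  · have q1 : cD.Z (sr i3 : c1.I → ℤ) = c1.Z (r 2) := by rw [← hZ _ r2, e3]
    refine q1.trans ?_
    rw [A.pos 2 (hKL 2), ← a1]
    exact if_pos rfl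
  · have q2 : cD.Z (-(sr i3 : c1.I → ℤ)) = c1.Z (-r 2) := by rw [← hZ _ n2, hneg e3]
    refine q2.trans ?_
    rw [A.neg 2 (hKL 2), ← a2]
    exact if_neg (by decide)
  · have q1 : cD.Z (sr i4 : c1.I → ℤ) = c1.Z (r 3) := by rw [← hZ _ r3, e4]
    refine q1.trans ?_
    rw [A.pos 3 (hKL 3), ← a3]
    exact if_pos rfl
  · have q2 : cD.Z (-(sr i4 : c1.I → ℤ)) = c1.Z (-r 3) := by rw [← hZ _ n3, hneg e4]
    refine q2.trans ?_
    rw [A.neg 3 (hKL 3), ← a4]
    exact if_neg (by decide)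
  · have q1 : cD.z (sr i1 : c1.I → ℤ) = c1.z (r 1) := by rw [← hz _ r1, e1]
    exact q1.trans (A.zz 1 (hKL 1))
  · have q1 : cD.z (sr i3 : c1.I → ℤ) = c1.z (r 2) := by rw [← hz _ r2, e3]
    exact q1.trans (A.zz 2 (hKL 2))
  · have q1 : cD.z (sr i4 : c1.I → ℤ) = c1.z (r 3) := by rw [← hz _ r3, e4]
    exact q1.trans (A.zz 3 (hKL 3))

end Cfg

theorem mem_normalizer_of_swap [Finite G] {x : G} {P Q : Subgroup G} (hx : Odd (orderOf x))
    (h : cj x P = Q ∧ cj x Q = P) : x ∈ Subgroup.normalizer (P : Set G) := by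
  obtain ⟨k, hk⟩ := hx
  have h1 : x * x ∈ Subgroup.normalizer (P : Set G) := by
    rw [mem_normalizer_iff_cj, Cit.cj_mul, h.1, h.2]
  have h2 : (x * x) ^ (k + 1) = x := by
    rw [← pow_two, ← pow_mul]
    have e : 2 * (k + 1) = orderOf x + 1 := by omega
    rw [e, pow_succ, pow_orderOf_eq_one, one_mul]
  rw [← h2]
  exact pow_mem h1 _

/-- **The hypotheses of the core.** -/
theorem Nds.core [Finite G] {F' : Type*} [Field F'] [Fintype F'] [CharP F' p] {c : Chart Om p E} {g d : c.I → ℤ}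
    (C : Cfg Om p F' K K' E J J' F c g d) {L : Subgroup G} {cD : Chart Om p L} {α β γ δ : cD.I}
    (N : Nds K' J J' c g d cD α β γ δ) : Core c.cs c.h p c.T c.n c.X c.R c.Z c.z cD.cs cD.h cD.T cD.n cD.X cD.R cD.Z
      cD.z g d α β γ δ (zz J) := by
  have hGG : GG c.cs c.h c.T c.X = E := FrameOf.GG_eq c
  have hr : ∀ i, sr i ∈ cD.R := fun i => N.all _ (isRoot_sr _ _ i)
  have hr' : ∀ i, -sr i ∈ cD.R := fun i => N.all _ (isRoot_sr _ _ i).neg
  have hαβ : α ≠ β := by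
    rintro rfl
    have h1 := cD.h.diag α
    rw [N.aαβ] at h1
    omega
  have hnt : Nontrivial cD.I := ⟨α, β, hαβ⟩
  have hX : ∀ i, cD.X (sr i) ⊔ cD.X (-sr i) = cD.Z (sr i) ⊔ cD.Z (-sr i) := fun i => by
    rw [N.ZX _ (hr i), N.ZX _ (hr' i)]
  have hK : ∀ i, cD.X (sr i) ⊔ cD.X (-sr i) ∈ Om := fun i => by
    rw [hX]; exact cD.om _ (hr i)
  have hzβ : cD.z (sr β) = zz (cD.X (sr β) ⊔ cD.X (-sr β)) := by
    rw [hX]; exact (BDChart.zz_eq C.hyp cD hnt (hr β)).symm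
  have hJ : cD.X (sr γ) ⊔ cD.X (-sr γ) = J := by rw [hX, N.Zγ, N.Zγ', C.eJ]
  have hJ' : cD.X (sr δ) ⊔ cD.X (-sr δ) = J' := by rw [hX, N.Zδ, N.Zδ', C.eJ']
  have : Fact p.Prime := ⟨c.prime⟩
  constructor
  · exact c.prime
  · exact c.odd
  · exact c.cls
  · exact cD.cls
  · exact C.rg
  · exact C.rd
  · exact C.orth
  · exact C.z_g
  · exact C.z_d
  · exact N.aαβ
  · exact N.aβα
  · exact N.aβγ
  · exact N.aγβ
  · exact N.aβδ
  · exact N.aδβ
  · exact N.aγδ
  · exact N.aδγ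
  · rcases cD.h.rel α β hαβ with h3 | h3 | h3 | h3
    · have := N.aαβ; omega
    · exact h3.1
    · have := N.aαβ; have := N.aβα; omega
    · have := N.aαβ; have := N.aβα; omega
  · exact N.ne
  · exact hr β
  · exact hr γ
  · exact hr δ
  · exact hr α
  · exact N.ZX
  · exact N.Zγ
  · exact N.Zγ'
  · exact N.Zδ
  · exact N.Zδ'
  · exact N.zγ
  · rw [N.zδ, C.zJ]
  · intro u hu h2
    by_cases h1 : u = 1
    · exact Or.inl h1
    · right
      rw [hJ] at hu
      exact C.hyp.eq_zz C.two.tJ.mem hu h2 h1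
  · intro u hu h2
    by_cases h1 : u = 1
    · exact Or.inl h1
    · right
      rw [hJ'] at hu
      rw [C.zJ]
      exact C.hyp.eq_zz C.two.tJ.mem' hu h2 h1
  · intro P hP x hx hne
    obtain ⟨e⟩ := C.sl _ (hK β)
    have e' : Matrix.SpecialLinearGroup (Fin 2) F' ≃* ↥(cD.Z (sr β) ⊔ cD.Z (-sr β)) :=
      e.trans (MulEquiv.subgroupCongr (hX β))
    have e'' : Matrix.SpecialLinearGroup (Fin 2) F' ≃* ↥(cD.Z (-sr β) ⊔ cD.Z (- -sr β)) :=
      e'.trans (MulEquiv.subgroupCongr (by rw [neg_neg, sup_comm]))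
    have hPle : P ≤ cD.X (sr β) ⊔ cD.X (-sr β) := by
      rcases hP with rfl | rfl
      · exact le_sup_left
      · exact le_sup_right
    have hc : Nat.card P = Fintype.card F' := by
      rcases hP with rfl | rfl
      · rw [← N.ZX _ (hr β)]
        exact Nodes.ChartLoc.card_Z cD.cls cD.odd (hr β) e'
      · rw [← N.ZX _ (hr' β)]
        exact Nodes.ChartLoc.card_Z cD.cls cD.odd (hr' β) e''
    refine ParabSL2.sup_eq e hPle hc ?_ ?_ hne
    · have h1 := Cit.cj_mono x hPle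
      rwa [Cit.mem_normalizer_iff_cj.1 hx] at h1
    · rw [← hc]
      exact card_cj x P
  · intro x hx hxp hxz
    rw [hzβ] at hxz
    obtain ⟨k, hk, t⟩ := C.two.tK.exists_tw C.two.am (hK β)
    have hb := C.two.bE.cj C.hyp k
    have hxo : Odd (orderOf x) := odd_orderOf c.prime c.odd hxp (Subgroup.mem_zpowers x)
    rcases (t.cj_zz C.two.am hb (Subgroup.mem_centralizer_singleton_iff.2 hxz)).1 with h1 | h1
    · exact Cit.mem_normalizer_iff_cj.2 h1.1
    · exact mem_normalizer_of_swap hxo h1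
  · intro x hx u hu
    rw [hGG] at hx
    rw [hX, N.Kα] at hu
    exact (C.two.tK.cm_E' u hu x hx).symm
  · rw [hGG]
    refine Cit.mem_normalizer_iff_cj.2 (C.two.tK.cj_zz C.two.am C.two.bE ?_).2
    rw [Subgroup.mem_centralizer_singleton_iff, C.zK, ← N.zα]
    exact Nodes.ZRel.z_comm cD.cls (hr β) (hr α)

end Cfsg.Agent.Cit.BDPiece
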