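import Mathlib
import Cfsg.Agent.RootAmalgam.Pair
/-!
# Type A identification (CIT3), group theoretic tools

* `pairTwo` : two commuting nodes give `PairData 2`;
* `commute_of_pairTwo` : the converse;
* `exists_move` : in a pair of type `A2` the two nodes are conjugate;
* `inv_dichotomy` : an involution centralising `K` and inverting `C` centralises one of `A`, `B` and inverts the other
  (root groups `e₁ - e₂`, `e₃ - e₀` of `A₃`, `K = X (e₀ - e₁)`, `C = X (e₃ - e₂)`);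
* `centralises_opposite` : an involution centralising `X` and normalising `Xn` does not invert `Xn`.
-/

set_option autoImplicit false

namespace Cfsg.Agent.Cit.TypeAPair

open Cfsg.Agent.RootAmalgam
open scoped commutatorElement

variable {Y : Type*} [Group Y]

theorem onto_of_comm {A : Subgroup Y} {w : Y} (h : ∀ x ∈ A, w * x = x * w) : Onto w A A := by
  intro x
  constructor
  · intro hx
    have h1 := h _ hx
    have e : x = w⁻¹ * (w * x * w⁻¹) * w := by group
    rw [e]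
    have e2 : w⁻¹ * (w * x * w⁻¹) * w = w * x * w⁻¹ := by
      rw [mul_assoc, ← h1, ← mul_assoc, inv_mul_cancel, one_mul]
    rw [e2]; exact hx
  · intro hx
    rw [h x hx, mul_assoc, mul_inv_cancel, mul_one]
    exact hx

/-- The family of a commuting pair. -/
def Z2 (X Xn X' Xn' : Subgroup Y) (k : ℤ) : Subgroup Y :=
  if k % 4 = 1 then X else if k % 4 = 2 then X' else if k % 4 = 3 then Xn else Xn'

section

variable {X Xn X' Xn' : Subgroup Y}

theorem Z2_one {k : ℤ} (hk : k % 4 = 1) : Z2 X Xn X' Xn' k = X := by unfold Z2; rw [if_pos hk]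

theorem Z2_two {k : ℤ} (hk : k % 4 = 2) : Z2 X Xn X' Xn' k = X' := by
  unfold Z2; rw [if_neg (by omega), if_pos hk]

theorem Z2_three {k : ℤ} (hk : k % 4 = 3) : Z2 X Xn X' Xn' k = Xn := by
  unfold Z2; rw [if_neg (by omega), if_neg (by omega), if_pos hk]

theorem Z2_zero {k : ℤ} (hk : k % 4 = 0) : Z2 X Xn X' Xn' k = Xn' := by
  unfold Z2; rw [if_neg (by omega), if_neg (by omega), if_neg (by omega)]

/-- Two commuting nodes. -/
theorem pairTwo (mu : ∀ a ∈ Xn, a ≠ 1 → ∃ x ∈ X, ∃ y ∈ X, Onto (x * a * y) X Xn ∧ Onto (x * a * y) Xn X)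
    (mu' : ∀ a ∈ Xn', a ≠ 1 → ∃ x ∈ X', ∃ y ∈ X', Onto (x * a * y) X' Xn' ∧ Onto (x * a * y) Xn' X')
    (comm : ∀ a ∈ X ⊔ Xn, ∀ b ∈ X' ⊔ Xn', a * b = b * a) :
    PairData 2 X Xn X' Xn' (Z2 X Xn X' Xn') where
  per k := by
    unfold Z2
    have : (k + 2 * ((2 : ℕ) : ℤ)) % 4 = k % 4 := by push_cast; omega
    rw [this]
  z_one := Z2_one (by norm_num)
  z_m := Z2_two (by norm_num)
  z_m1 := Z2_three (by norm_num)
  z_zero := Z2_zero (by norm_num)
  comm k l hk hkl hl x hx y hy := by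
    have h1 : k = 1 := by push_cast at hl; omega
    have h2 : l = 2 := by push_cast at hl; omega
    subst h1 h2
    rw [Z2_one (by norm_num)] at hx
    rw [Z2_two (by norm_num)] at hy
    have h3 : ⁅x, y⁆ = 1 := by
      rw [commutatorElement_def, comm x (le_sup_left (a := X) hx) y (le_sup_left (a := X') hy)]
      group
    rw [h3]; exact one_mem _
  mu a ha ha1 := by
    obtain ⟨x, hx, y, hy, h1, h2⟩ := mu a ha ha1
    refine ⟨x, hx, y, hy, ?_⟩
    have hn : x * a * y ∈ X ⊔ Xn :=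
      mul_mem (mul_mem (le_sup_left (a := X) hx) (le_sup_right (a := X) ha)) (le_sup_left (a := X) hy)
    have h3 : Onto (x * a * y) X' X' := onto_of_comm fun b hb => comm _ hn b (le_sup_left (a := X') hb)
    have h4 : Onto (x * a * y) Xn' Xn' := onto_of_comm fun b hb => comm _ hn b (le_sup_right (a := X') hb)
    intro k
    have h5 : k % 4 = 0 ∨ k % 4 = 1 ∨ k % 4 = 2 ∨ k % 4 = 3 := by omega
    push_cast
    rcases h5 with h5 | h5 | h5 | h5
    · rw [Z2_zero h5, Z2_zero (by omega)]; exact h4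
    · rw [Z2_one h5, Z2_three (by omega)]; exact h1
    · rw [Z2_two h5, Z2_two (by omega)]; exact h3
    · rw [Z2_three h5, Z2_one (by omega)]; exact h2
  mu' a ha ha1 := by
    obtain ⟨x, hx, y, hy, h1, h2⟩ := mu' a ha ha1
    refine ⟨x, hx, y, hy, ?_⟩
    have hn : x * a * y ∈ X' ⊔ Xn' :=
      mul_mem (mul_mem (le_sup_left (a := X') hx) (le_sup_right (a := X') ha)) (le_sup_left (a := X') hy)
    have h3 : Onto (x * a * y) X X := onto_of_comm fun b hb => (comm b (le_sup_left (a := X) hb) _ hn).symm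
    have h4 : Onto (x * a * y) Xn Xn := onto_of_comm fun b hb => (comm b (le_sup_right (a := X) hb) _ hn).symm
    intro k
    have h5 : k % 4 = 0 ∨ k % 4 = 1 ∨ k % 4 = 2 ∨ k % 4 = 3 := by omega
    push_cast
    rcases h5 with h5 | h5 | h5 | h5
    · rw [Z2_zero h5, Z2_two (by omega)]; exact h2
    · rw [Z2_one h5, Z2_one (by omega)]; exact h3
    · rw [Z2_two h5, Z2_zero (by omega)]; exact h1
    · rw [Z2_three h5, Z2_three (by omega)]; exact h4

theorem swap_of_pair {m : ℕ} {Z : ℤ → Subgroup Y} (P : PairData m X Xn X' Xn' Z) :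
    ∀ a ∈ Xn, a ≠ 1 → ∃ x ∈ X, ∃ y ∈ X, Onto (x * a * y) X Xn ∧ Onto (x * a * y) Xn X := by
  intro a ha ha1
  obtain ⟨x, hx, y, hy, h⟩ := P.mu a ha ha1
  exact ⟨x, hx, y, hy, P.swap h⟩

theorem swap_of_pair' {m : ℕ} {Z : ℤ → Subgroup Y} (P : PairData m X Xn X' Xn' Z) :
    ∀ a ∈ Xn', a ≠ 1 → ∃ x ∈ X', ∃ y ∈ X', Onto (x * a * y) X' Xn' ∧ Onto (x * a * y) Xn' X' :=
  swap_of_pair P.symm

/-- The nodes of a pair with `m = 2` commute. -/
theorem commute_of_pairTwo {Z : ℤ → Subgroup Y} (P : PairData 2 X Xn X' Xn' Z) :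
    ∀ a ∈ X ⊔ Xn, ∀ b ∈ X' ⊔ Xn', a * b = b * a := by
  have h1 : ∀ a ∈ X, ∀ b ∈ X', a * b = b * a := by
    intro a ha b hb
    rw [← P.z_one] at ha
    rw [← P.z_m] at hb
    have := P.comm 1 2 le_rfl (by norm_num) (by norm_num) a ha b hb
    have h2 : (⨆ r ∈ Set.Ioo (1 : ℤ) 2, Z r) = ⊥ := by
      rw [iSup₂_eq_bot]
      rintro r ⟨hr1, hr2⟩
      omega
    rw [h2, Subgroup.mem_bot, commutatorElement_def, mul_inv_eq_one, mul_inv_eq_iff_eq_mul] at this
    exact this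
  have hconj : ∀ {n a b : Y}, (n⁻¹ * a * n) * (n⁻¹ * b * n) = (n⁻¹ * b * n) * (n⁻¹ * a * n) → a * b = b * a := by
    intro n a b h
    have e1 : a * b = n * ((n⁻¹ * a * n) * (n⁻¹ * b * n)) * n⁻¹ := by group
    rw [e1, h]; group
  have h2 : ∀ a ∈ Xn, ∀ b ∈ X', a * b = b * a := by
    intro a ha b hb
    by_cases ha1 : a = 1
    · rw [ha1, one_mul, mul_one]
    obtain ⟨x, hx, y, hy, h⟩ := P.mu a ha ha1
    have hs := P.swap h
    have h3 : Onto (x * a * y) X' X' := by rw [← P.z_m]; exact h.onto (by norm_num)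
    exact hconj (h1 _ (hs.1.mem_inv ha) _ (h3.mem_inv hb))
  have h3 : ∀ a, a ∈ X ∨ a ∈ Xn → ∀ b ∈ Xn', a * b = b * a := by
    intro a ha b hb
    by_cases hb1 : b = 1
    · rw [hb1, one_mul, mul_one]
    obtain ⟨x, hx, y, hy, h⟩ := P.mu' b hb hb1
    have h4 : Onto (x * b * y) X' Xn' := by rw [← P.z_m, ← P.z_zero]; exact h.onto (by norm_num)
    have h5 : Onto (x * b * y) X X := by rw [← P.z_one]; exact h.onto (by norm_num)
    have h6 : Onto (x * b * y) Xn Xn := by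
      have h7 : Z (-1) = Xn := by
        rw [← P.z_m1, ← P.per (-1)]; congr 1
      have := h.onto (k := 3) (l := -1) (by norm_num)
      have h8 : Z 3 = Xn := by rw [← P.z_m1]; congr 1
      rwa [h7, h8] at this
    rcases ha with ha | ha
    · exact hconj (h1 _ (h5.mem_inv ha) _ (h4.mem_inv hb))
    · exact hconj (h2 _ (h6.mem_inv ha) _ (h4.mem_inv hb))
  intro a ha b hb
  have key : ∀ a, a ∈ X ∨ a ∈ Xn → X' ⊔ Xn' ≤ Subgroup.centralizer {a} := by
    intro a ha
    refine sup_le (fun b hb => ?_) fun b hb => ?_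
    · rw [Subgroup.mem_centralizer_singleton_iff]
      rcases ha with ha | ha
      · exact (h1 a ha b hb).symm
      · exact (h2 a ha b hb).symm
    · rw [Subgroup.mem_centralizer_singleton_iff]
      exact (h3 a ha b hb).symm
  have key2 : X ⊔ Xn ≤ Subgroup.centralizer {b} := by
    refine sup_le (fun a ha => ?_) fun a ha => ?_
    · have := key a (Or.inl ha) hb
      rw [Subgroup.mem_centralizer_singleton_iff] at this ⊢
      exact this.symm
    · have := key a (Or.inr ha) hb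
      rw [Subgroup.mem_centralizer_singleton_iff] at this ⊢
      exact this.symm
  have := key2 ha
  rwa [Subgroup.mem_centralizer_singleton_iff] at this

/-- The nodes of a pair of type `A2` are conjugate. -/
theorem exists_move {Z : ℤ → Subgroup Y} (P : PairData 3 X Xn X' Xn' Z) (h : Xn ≠ ⊥) (h' : Xn' ≠ ⊥) :
    ∃ g ∈ (X ⊔ Xn) ⊔ (X' ⊔ Xn'), Onto g X' X ∧ Onto g Xn' Xn := by
  obtain ⟨a, ha⟩ := Subgroup.ne_bot_iff_exists_ne_one.1 h
  obtain ⟨b, hb⟩ := Subgroup.ne_bot_iff_exists_ne_one.1 h'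
  obtain ⟨x, hx, y, hy, h1⟩ := P.mu a a.2 (fun e => ha (Subtype.ext e))
  obtain ⟨x', hx', y', hy', h2⟩ := P.mu' b b.2 (fun e => hb (Subtype.ext e))
  have hn : x * a * y ∈ X ⊔ Xn :=
    mul_mem (mul_mem (le_sup_left (a := X) hx) (le_sup_right (a := X) a.2)) (le_sup_left (a := X) hy)
  have hn' : x' * b * y' ∈ X' ⊔ Xn' :=
    mul_mem (mul_mem (le_sup_left (a := X') hx') (le_sup_right (a := X') b.2)) (le_sup_left (a := X') hy')
  refine ⟨x' * b * y' * (x * a * y), mul_mem (le_sup_right (a := X ⊔ Xn) hn') (le_sup_left (b := X' ⊔ Xn') hn),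
    ?_, ?_⟩
  · have h3 := (h2.mul h1).onto (k := 3) (l := 1) (by norm_num)
    have e1 : Z 3 = X' := by rw [← P.z_m]; congr 1
    rwa [e1, P.z_one] at h3
  · have h3 := (h2.mul h1).onto (k := 0) (l := -2) (by norm_num)
    have e1 : Z (-2) = Xn := by
      rw [← P.z_m1, ← P.per (-2)]; congr 1
    rwa [P.z_zero, e1] at h3

end

/-! ### The involution lemma -/

theorem mul_eq_of_comm {a b k y w φ ψ : Y} (hab : a * b = b * a) (hk1 : k * a = y * a * k)
    (hk2 : k * b = w * b * k) (hay : a * y = y * a) (hbw : b * w = w * b) (hyw : y * w = w * y)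
    (haw : a * w = φ * w * a) (hby : b * y = ψ * y * b) (hφy : φ * y = y * φ) (hψw : ψ * w = w * ψ)
    : φ = ψ := by
  -- `k a b = k b a`
  have h1 : k * a * b = φ * (y * w) * (a * b) * k := by
    calc k * a * b = y * a * k * b := by rw [hk1]
      _ = y * a * (k * b) := by group
      _ = y * (a * w) * b * k := by rw [hk2]; group
      _ = (y * φ) * w * a * b * k := by rw [haw]; group
      _ = φ * (y * w) * (a * b) * k := by rw [← hφy]; group
  have h2 : k * b * a = ψ * (w * y) * (b * a) * k := by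
    calc k * b * a = w * b * k * a := by rw [hk2]
      _ = w * b * (k * a) := by group
      _ = w * (b * y) * a * k := by rw [hk1]; group
      _ = (w * ψ) * y * b * a * k := by rw [hby]; group
      _ = ψ * (w * y) * (b * a) * k := by rw [← hψw]; group
  have h3 : k * a * b = k * b * a := by rw [mul_assoc, hab, ← mul_assoc]
  rw [h1, h2, hyw, hab] at h3
  exact mul_right_cancel (mul_right_cancel (mul_right_cancel h3))

/-- The computation behind `inv_dichotomy`. -/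
theorem eq_one_of_comp {a b k y w φ ψ u : Y} (hab : a * b = b * a) (hk1 : k * a = y * a * k)
    (hk2 : k * b = w * b * k) (hay : a * y = y * a) (hbw : b * w = w * b) (hyw : y * w = w * y)
    (haw : a * w = φ * w * a) (hby : b * y = ψ * y * b)
    (hφa : φ * a = a * φ) (hφb : φ * b = b * φ) (hφy : φ * y = y * φ) (hφw : φ * w = w * φ)
    (hψw : ψ * w = w * ψ)
    (huk : u * k = k * u) (hu : u * φ * u⁻¹ = φ⁻¹) (htwo : ∀ j : ℕ, φ ^ (2 ^ j) = 1 → φ = 1)
    (hx : u * (a * b) * u⁻¹ = a * b ∨ u * (a * b) * u⁻¹ = (a * b)⁻¹) : ψ = 1 := by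
  have hφψ : φ = ψ := mul_eq_of_comm hab hk1 hk2 hay hbw hyw haw hby hφy hψw
  subst hφψ
  obtain ⟨x, hxd⟩ : ∃ x, x = a * b := ⟨_, rfl⟩
  obtain ⟨s, hsd⟩ : ∃ s, s = φ * (y * w) := ⟨_, rfl⟩
  have hks : k * x = s * x * k := by
    rw [hxd, hsd]
    calc k * (a * b) = k * a * b := by group
      _ = y * a * k * b := by rw [hk1]
      _ = y * a * (k * b) := by group
      _ = y * (a * w) * b * k := by rw [hk2]; group
      _ = (y * φ) * w * a * b * k := by rw [haw]; group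
      _ = φ * (y * w) * (a * b) * k := by rw [← hφy]; group
  have hφs : φ * s = s * φ := by
    rw [hsd]
    calc φ * (φ * (y * w)) = φ * ((φ * y) * w) := by group
      _ = φ * (y * (φ * w)) := by rw [hφy]; group
      _ = φ * (y * w) * φ := by rw [hφw]; group
  have hφx : φ * x = x * φ := by
    rw [hxd]
    calc φ * (a * b) = φ * a * b := by group
      _ = a * (φ * b) := by rw [hφa]; group
      _ = a * b * φ := by rw [hφb]; group
  have hxs : x * s = φ * φ * s * x := by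
    have h1 : x * (y * w) = φ * φ * (y * w) * x := by
      rw [hxd]
      calc a * b * (y * w) = a * (b * y) * w := by group
        _ = (a * φ) * y * b * w := by rw [hby]; group
        _ = φ * (a * y) * (b * w) := by rw [← hφa]; group
        _ = φ * y * (a * w) * b := by rw [hay, hbw]; group
        _ = φ * (y * φ) * w * a * b := by rw [haw]; group
        _ = φ * φ * (y * w) * (a * b) := by rw [← hφy]; group
    rw [hsd]
    calc x * (φ * (y * w)) = (x * φ) * (y * w) := by group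
      _ = φ * (x * (y * w)) := by rw [← hφx]; group
      _ = φ * φ * (φ * (y * w)) * x := by rw [h1]; group
  obtain ⟨c, hcd⟩ : ∃ c, c = φ * φ := ⟨_, rfl⟩
  have hcs : c * s = s * c := by
    rw [hcd]
    exact (Commute.mul_left (show Commute φ s from hφs) hφs).eq
  have hcx : c * x = x * c := by
    rw [hcd]
    exact (Commute.mul_left (show Commute φ x from hφx) hφx).eq
  have hxs' : x * s = c * s * x := by rw [hcd]; exact hxs
  have huc : u * c * u⁻¹ = c⁻¹ := by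
    rw [hcd]
    calc u * (φ * φ) * u⁻¹ = (u * φ * u⁻¹) * (u * φ * u⁻¹) := by group
      _ = (φ * φ)⁻¹ := by rw [hu]; group
  have hc : c = ⁅x, s⁆ := by
    rw [commutatorElement_def, hxs']; group
  have hs : s = ⁅k, x⁆ := by
    rw [commutatorElement_def, hks]; group
  have huk' : u * k * u⁻¹ = k := by rw [huk]; group
  -- `u` centralises `c`
  have huc' : u * c * u⁻¹ = c := by
    have e : u * c * u⁻¹ = ⁅u * x * u⁻¹, ⁅u * k * u⁻¹, u * x * u⁻¹⁆⁆ := by
      rw [hc, hs]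
      simp only [commutatorElement_def]
      group
    rw [e, huk']
    rcases hx with hx | hx
    · rw [hxd, hx, ← hxd, ← hs, ← hc]
    · rw [hxd, hx, ← hxd]
      -- `[x⁻¹, [k, x⁻¹]] = c`
      have h1 : ⁅k, x⁻¹⁆ = x⁻¹ * s⁻¹ * x := by
        rw [hs]; simp only [commutatorElement_def]; group
      have h2 : s⁻¹ * x * s = c * x := by
        calc s⁻¹ * x * s = s⁻¹ * (x * s) := by group
          _ = s⁻¹ * (c * s) * x := by rw [hxs']; group
          _ = c * x := by rw [hcs]; group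
      have h3 : ⁅x⁻¹, x⁻¹ * s⁻¹ * x⁆ = x⁻¹ * x⁻¹ * (s⁻¹ * x * s) * x := by
        simp only [commutatorElement_def]; group
      rw [h1, h3, h2, hcx]
      have e4 : x⁻¹ * x⁻¹ * (x * c) * x = x⁻¹ * (c * x) := by group
      rw [e4, hcx]; group
  have h4 : c * c = 1 := by
    rw [huc] at huc'
    rw [← inv_eq_iff_mul_eq_one]; exact huc'
  refine htwo 2 ?_
  rw [hcd] at h4
  have : φ ^ (2 ^ 2) = φ * φ * (φ * φ) := by
    norm_num [pow_succ, mul_assoc]
  rw [this, h4]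

/-! ### The dichotomy -/

theorem exists_mul_of_mem_sup {A B : Subgroup Y} (hc : ∀ a ∈ A, ∀ b ∈ B, a * b = b * a) {x : Y} (hx : x ∈ A ⊔ B) :
    ∃ a ∈ A, ∃ b ∈ B, x = a * b := by
  let S : Subgroup Y :=
    { carrier := {x | ∃ a ∈ A, ∃ b ∈ B, x = a * b}
      one_mem' := ⟨1, one_mem _, 1, one_mem _, (mul_one _).symm⟩
      mul_mem' := by
        rintro _ _ ⟨a, ha, b, hb, rfl⟩ ⟨a', ha', b', hb', rfl⟩
        refine ⟨a * a', mul_mem ha ha', b * b', mul_mem hb hb', ?_⟩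
        calc a * b * (a' * b') = a * (b * a') * b' := by group
          _ = a * a' * (b * b') := by rw [← hc a' ha' b hb]; group
      inv_mem' := by
        rintro _ ⟨a, ha, b, hb, rfl⟩
        refine ⟨a⁻¹, inv_mem ha, b⁻¹, inv_mem hb, ?_⟩
        rw [hc a ha b hb, mul_inv_rev] }
  have h1 : A ⊔ B ≤ S := sup_le (fun a ha => ⟨a, ha, 1, one_mem _, (mul_one _).symm⟩)
    fun b hb => ⟨1, one_mem _, b, hb, (one_mul _).symm⟩
  exact h1 hx

/-- An involutory automorphism of the abelian group `A × B` of odd order, such that every element centralised or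
inverted lies in `A` or `B`, centralises one of them and inverts the other. -/
theorem inv_dichotomy {A B : Subgroup Y} {u : Y} (hcomm : ∀ x ∈ A ⊔ B, ∀ y ∈ A ⊔ B, x * y = y * x)
    (hinf : A ⊓ B = ⊥) (hA : A ≠ ⊥) (hB : B ≠ ⊥) (hodd : ∀ x ∈ A ⊔ B, ∃ y ∈ A ⊔ B, x = y * y)
    (huu : u * u = 1) (hnorm : ∀ x ∈ A ⊔ B, u * x * u⁻¹ ∈ A ⊔ B)
    (key : ∀ a ∈ A, ∀ b ∈ B, (u * (a * b) * u⁻¹ = a * b ∨ u * (a * b) * u⁻¹ = (a * b)⁻¹) → a = 1 ∨ b = 1) :
    ((∀ a ∈ A, u * a * u⁻¹ = a) ∧ (∀ b ∈ B, u * b * u⁻¹ = b⁻¹)) ∨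
      ((∀ a ∈ A, u * a * u⁻¹ = a⁻¹) ∧ (∀ b ∈ B, u * b * u⁻¹ = b)) := by
  have hui : u⁻¹ = u := inv_eq_of_mul_eq_one_left huu
  have hAB : ∀ a ∈ A, ∀ b ∈ B, a * b = b * a := fun a ha b hb =>
    hcomm a (le_sup_left (a := A) ha) b (le_sup_right (a := A) hb)
  let S : Subgroup Y :=
    { carrier := {x | x ∈ A ⊔ B ∧ u * x * u⁻¹ = x}
      one_mem' := ⟨one_mem _, by group⟩
      mul_mem' := by
        rintro x y ⟨hx, hx'⟩ ⟨hy, hy'⟩
        refine ⟨mul_mem hx hy, ?_⟩
        have e : u * (x * y) * u⁻¹ = (u * x * u⁻¹) * (u * y * u⁻¹) := by group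
        rw [e, hx', hy']
      inv_mem' := by
        rintro x ⟨hx, hx'⟩
        refine ⟨inv_mem hx, ?_⟩
        have e : u * x⁻¹ * u⁻¹ = (u * x * u⁻¹)⁻¹ := by group
        rw [e, hx'] }
  let V : Subgroup Y :=
    { carrier := {x | x ∈ A ⊔ B ∧ u * x * u⁻¹ = x⁻¹}
      one_mem' := ⟨one_mem _, by group⟩
      mul_mem' := by
        rintro x y ⟨hx, hx'⟩ ⟨hy, hy'⟩
        refine ⟨mul_mem hx hy, ?_⟩
        have e : u * (x * y) * u⁻¹ = (u * x * u⁻¹) * (u * y * u⁻¹) := by group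
        rw [e, hx', hy', hcomm x hx y hy, mul_inv_rev]
      inv_mem' := by
        rintro x ⟨hx, hx'⟩
        refine ⟨inv_mem hx, ?_⟩
        have e : u * x⁻¹ * u⁻¹ = (u * x * u⁻¹)⁻¹ := by group
        rw [e, hx'] }
  have hS : ∀ x, x ∈ S ↔ x ∈ A ⊔ B ∧ u * x * u⁻¹ = x := fun x => Iff.rfl
  have hV : ∀ x, x ∈ V ↔ x ∈ A ⊔ B ∧ u * x * u⁻¹ = x⁻¹ := fun x => Iff.rfl
  have hdec : ∀ x ∈ A ⊔ B, ∃ s ∈ S, ∃ v ∈ V, x = s * v := by
    intro x hx
    obtain ⟨y, hy, rfl⟩ := hodd x hx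
    have h1 := hnorm y hy
    have h2 : u * (u * y * u⁻¹) * u⁻¹ = y := by
      rw [hui]
      calc u * (u * y * u) * u = (u * u) * y * (u * u) := by group
        _ = y := by rw [huu]; group
    refine ⟨y * (u * y * u⁻¹), (hS _).2 ⟨mul_mem hy h1, ?_⟩, y * (u * y * u⁻¹)⁻¹,
      (hV _).2 ⟨mul_mem hy (inv_mem h1), ?_⟩, ?_⟩
    · have e : u * (y * (u * y * u⁻¹)) * u⁻¹ = (u * y * u⁻¹) * (u * (u * y * u⁻¹) * u⁻¹) := by group
      rw [e, h2]
      exact hcomm _ h1 _ hy
    · have e : u * (y * (u * y * u⁻¹)⁻¹) * u⁻¹ = (u * y * u⁻¹) * (u * (u * y * u⁻¹) * u⁻¹)⁻¹ := by group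
      rw [e, h2]
      group
    · have h3 := hcomm _ h1 _ (inv_mem h1)
      calc y * y = y * ((u * y * u⁻¹) * (u * y * u⁻¹)⁻¹) * y := by group
        _ = y * (u * y * u⁻¹) * ((u * y * u⁻¹)⁻¹ * y) := by group
        _ = y * (u * y * u⁻¹) * (y * (u * y * u⁻¹)⁻¹) := by rw [hcomm _ (inv_mem h1) _ hy]
  have hSs : S ≤ A ∨ S ≤ B := by
    rw [← SubgroupClass.subset_union]
    intro x hx
    obtain ⟨hx1, hx2⟩ := (hS x).1 hx
    obtain ⟨a, ha, b, hb, rfl⟩ := exists_mul_of_mem_sup hAB hx1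
    rcases key a ha b hb (Or.inl hx2) with rfl | rfl
    · right; rw [one_mul]; exact hb
    · left; rw [mul_one]; exact ha
  have hVs : V ≤ A ∨ V ≤ B := by
    rw [← SubgroupClass.subset_union]
    intro x hx
    obtain ⟨hx1, hx2⟩ := (hV x).1 hx
    obtain ⟨a, ha, b, hb, rfl⟩ := exists_mul_of_mem_sup hAB hx1
    rcases key a ha b hb (Or.inr hx2) with rfl | rfl
    · right; rw [one_mul]; exact hb
    · left; rw [mul_one]; exact ha
  have hbot : ∀ x, x ∈ A → x ∈ B → x = 1 := by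
    intro x h1 h2
    have : x ∈ A ⊓ B := Subgroup.mem_inf.2 ⟨h1, h2⟩
    rwa [hinf, Subgroup.mem_bot] at this
  rcases hSs with h1 | h1 <;> rcases hVs with h2 | h2
  · exfalso
    apply hB
    rw [Subgroup.eq_bot_iff_forall]
    intro b hb
    obtain ⟨s, hs, v, hv, rfl⟩ := hdec b (le_sup_right (a := A) hb)
    exact hbot _ (mul_mem (h1 hs) (h2 hv)) hb
  · left
    constructor
    · intro a ha
      obtain ⟨s, hs, v, hv, e⟩ := hdec a (le_sup_left (a := A) ha)
      have h3 : v = 1 := hbot v (by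
        have : v = s⁻¹ * a := by rw [e]; group
        rw [this]; exact mul_mem (inv_mem (h1 hs)) ha) (h2 hv)
      rw [e, h3, mul_one]
      exact ((hS s).1 hs).2
    · intro b hb
      obtain ⟨s, hs, v, hv, e⟩ := hdec b (le_sup_right (a := A) hb)
      have h3 : s = 1 := hbot s (h1 hs) (by
        have : s = b * v⁻¹ := by rw [e]; group
        rw [this]; exact mul_mem hb (inv_mem (h2 hv)))
      rw [e, h3, one_mul]
      exact ((hV v).1 hv).2
  · right
    constructor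
    · intro a ha
      obtain ⟨s, hs, v, hv, e⟩ := hdec a (le_sup_left (a := A) ha)
      have h3 : s = 1 := hbot s (by
        have : s = a * v⁻¹ := by rw [e]; group
        rw [this]; exact mul_mem ha (inv_mem (h2 hv))) (h1 hs)
      rw [e, h3, one_mul]
      exact ((hV v).1 hv).2
    · intro b hb
      obtain ⟨s, hs, v, hv, e⟩ := hdec b (le_sup_right (a := A) hb)
      have h3 : v = 1 := hbot v (h2 hv) (by
        have : v = s⁻¹ * b := by rw [e]; group
        rw [this]; exact mul_mem (inv_mem (h1 hs)) hb)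
      rw [e, h3, mul_one]
      exact ((hS s).1 hs).2
  · exfalso
    apply hA
    rw [Subgroup.eq_bot_iff_forall]
    intro a ha
    obtain ⟨s, hs, v, hv, rfl⟩ := hdec a (le_sup_left (a := A) ha)
    exact hbot _ ha (mul_mem (h1 hs) (h2 hv))

theorem onto_pow {A : Subgroup Y} {n : Y} (h : Onto n A A) (m : ℕ) : Onto (n ^ m) A A := by
  induction m with
  | zero => rw [pow_zero]; exact Onto.one
  | succ m ih => rw [pow_succ]; exact ih.mul h

/-- An element which centralises `X` does not invert `Xn`. -/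
theorem not_inverts_opposite {X Xn : Subgroup Y}
    (mu : ∀ a ∈ Xn, a ≠ 1 → ∃ x ∈ X, ∃ y ∈ X, Onto (x * a * y) X Xn ∧ Onto (x * a * y) Xn X)
    (ne : X ≠ Xn) (ne_bot : Xn ≠ ⊥) (hodd : ∀ a ∈ Xn, ∃ m : ℕ, a ^ (2 * m + 1) = 1) {u : Y}
    (hu : ∀ x ∈ X, u * x * u⁻¹ = x) (hu' : ∀ a ∈ Xn, u * a * u⁻¹ = a⁻¹) : False := by
  obtain ⟨a, ha1⟩ := Subgroup.ne_bot_iff_exists_ne_one.1 ne_bot
  have ha2 : (a : Y) ≠ 1 := fun e => ha1 (Subtype.ext e)
  obtain ⟨x, hx, y, hy, h1, h2⟩ := mu a a.2 ha2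
  have hux : Onto u X X := by
    intro z
    constructor
    · intro hz
      have h3 := hu _ hz
      have e : u * z * u⁻¹ = z := by
        have e2 : u * (u * z * u⁻¹) * u⁻¹ = u * z * u⁻¹ := h3
        exact mul_left_cancel (mul_right_cancel e2)
      rwa [e] at hz
    · intro hz
      rw [hu z hz]; exact hz
  have hua : Onto u Xn Xn := by
    intro z
    constructor
    · intro hz
      have h3 := hu' _ (inv_mem hz)
      have e : u * z⁻¹ * u⁻¹ = z := by
        have e2 : u * (u * z⁻¹ * u⁻¹) * u⁻¹ = u * z * u⁻¹ := by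
          have e3 : u * (u * z * u⁻¹)⁻¹ * u⁻¹ = u * (u * z⁻¹ * u⁻¹) * u⁻¹ := by group
          rw [← e3, h3, inv_inv]
        exact mul_left_cancel (mul_right_cancel e2)
      have h4 : u * z⁻¹ * u⁻¹ ∈ Xn := by
        have e4 : u * z⁻¹ * u⁻¹ = (u * z * u⁻¹)⁻¹ := by group
        rw [e4]; exact inv_mem hz
      rwa [e] at h4
    · intro hz
      rw [hu' z hz]; exact inv_mem hz
  -- `u n u⁻¹ = x a⁻¹ y`
  have e1 : u * (x * a * y) * u⁻¹ = x * (a : Y)⁻¹ * y := by
    calc u * (x * a * y) * u⁻¹ = (u * x * u⁻¹) * (u * a * u⁻¹) * (u * y * u⁻¹) := by group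
      _ = x * (a : Y)⁻¹ * y := by rw [hu x hx, hu' a a.2, hu y hy]
  have h3 : Onto (x * (a : Y)⁻¹ * y) X Xn ∧ Onto (x * (a : Y)⁻¹ * y) Xn X := by
    rw [← e1]
    exact ⟨(hua.mul h1).mul hux.inv, (hux.mul h2).mul hua.inv⟩
  have h4 : Onto (y⁻¹ * (a : Y)⁻¹ * x⁻¹) X Xn ∧ Onto (y⁻¹ * (a : Y)⁻¹ * x⁻¹) Xn X := by
    have e : y⁻¹ * (a : Y)⁻¹ * x⁻¹ = (x * a * y)⁻¹ := by group
    rw [e]
    exact ⟨h2.inv, h1.inv⟩
  obtain ⟨h5, h6⟩ := mu_unique mu ne ne_bot hx hy (inv_mem hy) (inv_mem hx) h3 h4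
  obtain ⟨m, hm⟩ := hodd a a.2
  have e2 : x * a * y = x * a * x⁻¹ := by rw [h6]
  rw [e2] at h1 h2
  have h7 : Onto ((x * a * x⁻¹) * ((x * a * x⁻¹) * (x * a * x⁻¹)) ^ m) X Xn := h1.mul (onto_pow (h2.mul h1) m)
  have e3 : (x * a * x⁻¹) * ((x * a * x⁻¹) * (x * a * x⁻¹)) ^ m = 1 := by
    rw [← pow_two, ← pow_mul, ← pow_succ', conj_pow, hm]
    group
  rw [e3] at h7
  exact ne (Onto.one.eq h7)

end Cfsg.Agent.Cit.TypeAPair
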