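import Mathlib
import Cfsg.Agent.Cit.BDPiece
import Cfsg.Agent.Cit.BDPairs
import Cfsg.Agent.Cit.TypeAPair
import Cfsg.Agent.Nodes.TyChart

/-!
# The chart of `G` (project CIT, types `B_n`, `²D_{n+1}`, `D_n`)

* `ExtC` : the Cartan matrix of `E` extended by the chain `0 - 1 - (j₀ + 2)`;
* `exists_chart_ext` : chart of `G₀ = ⟨E, L⟩`;
* `normalizer_zz` : `C(z_K) ≤ N(G₀)`, `clo` : `Om ∩ G₀` is closed; `eq_top` : `G₀ = G`.
-/

set_option autoImplicit false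
set_option linter.unusedSectionVars false

namespace Cfsg.Agent.Cit.BDEnd

open CoxeterSystem Cfsg.Agent.ChevalleyStructure.CoxeterGeom Cfsg.Agent.Tits.Roots Cfsg.Agent.Tits.Core
  Cfsg.Agent.Nodes.Comb Cfsg.Agent.Nodes.Reps Cfsg.Agent.Nodes.BNOf Cfsg.Agent.Nodes.RGDLib
  Cfsg.Agent.Nodes.Chart Cfsg.Agent.Nodes.ClsNorm Cfsg.Agent.Nodes.Bruhat Cfsg.Agent.Nodes.Coroot
  Cfsg.Agent.Nodes.ChartOfCls
  Cfsg.Agent.Cit.BDTwin Cfsg.Agent.Cit.BDCore Cfsg.Agent.Cit.BDChart Cfsg.Agent.Cit.TypeDet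
  Cfsg.Agent.Cit.BDPiece
open Cfsg.Agent.Cit.BDPairs (nod nod_zero nod_one nod_succ fin_cases_two)

/-- The diagram `M'`, `A'` is the diagram `M`, `A` extended by the chain `0 - 1 - (j₀ + 2)`. -/
structure ExtC {I : Type*} (M : CoxeterMatrix I) (A : I → I → ℤ) (j₀ : I) {m : ℕ} (e : I ≃ Fin m)
    (M' : CoxeterMatrix (Fin (m + 2))) (A' : Fin (m + 2) → Fin (m + 2) → ℤ) : Prop where
  m0 : ∀ k : Fin m, M' 0 k.succ.succ = 2
  m1' : ∀ k, k ≠ e j₀ → M' 1 k.succ.succ = 2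
  mm : ∀ a b : I, a ≠ b → M' (e a).succ.succ (e b).succ.succ = M a b
  m01 : M' 0 1 = 3
  m1 : M' 1 (e j₀).succ.succ = 3
  a01 : A' 0 1 = -1
  a10 : A' 1 0 = -1
  a1 : A' 1 (e j₀).succ.succ = -1
  a1' : A' (e j₀).succ.succ 1 = -1
  aa : ∀ a b, A' (e a).succ.succ (e b).succ.succ = A a b

variable {G : Type*} [Group G] {Om : Set (Subgroup G)} {p : ℕ}

/-- A group with a chart is generated by the root groups of the simple roots. -/
theorem le_of_simple {L : Subgroup G} (c : Chart Om p L) {S : Subgroup G} (h1 : ∀ i, c.X (sr i) ≤ S)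
    (h2 : ∀ i, c.X (-sr i) ≤ S) : L ≤ S := by
  rw [← c.gen]
  refine RGD.Sup_le fun y hy => ?_
  obtain ⟨w, j, rfl⟩ := hy
  induction w using c.cs.simple_induction_left with
  | one => rw [map_one]; exact h1 j
  | mul_simple_left w i ih =>
    obtain ⟨m, hm, hmr⟩ := exists_m c.cls.rgd i
    have hmS : m ∈ S := (sup_le (h1 i) (h2 i)) hm
    rw [rep_mul_apply, ← cj_X c hmr ((isRoot_sr c.cs c.h j).act w)]
    exact cj_le_of_mem ih hmS

section Main

variable [Finite G] {F' : Type*} [Field F'] [Fintype F'] [CharP F' p] {K K' E J J' F L : Subgroup G}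
  {c : Chart Om p E} {j₀ : c.I} {d : c.I → ℤ} (C : Cfg Om p F' K K' E J J' F c (sr j₀) d)
  {cD : Chart Om p L} {α β γ δ : cD.I} (N : Nds K' J J' c (sr j₀) d cD α β γ δ)
  {m : ℕ} (e : c.I ≃ Fin m)

/-- The root groups of the nodes. -/
def Xs (c : Chart Om p E) (cD : Chart Om p L) (α β : cD.I) (e : c.I ≃ Fin m) : Fin (m + 2) → Subgroup G :=
  nod (cD.X (sr α)) (cD.X (sr β)) (fun k => c.X (sr (e.symm k)))

/-- The opposite root groups of the nodes. -/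
def Xn (c : Chart Om p E) (cD : Chart Om p L) (α β : cD.I) (e : c.I ≃ Fin m) : Fin (m + 2) → Subgroup G :=
  nod (cD.X (-sr α)) (cD.X (-sr β)) (fun k => c.X (-sr (e.symm k)))

/-- The group `G₀`. -/
def G0 (c : Chart Om p E) (cD : Chart Om p L) (α β : cD.I) (e : c.I ≃ Fin m) : Subgroup G :=
  ⨆ i, (Xs c cD α β e i ⊔ Xn c cD α β e i)

theorem node_le (c : Chart Om p E) (cD : Chart Om p L) (α β : cD.I) (e : c.I ≃ Fin m) (i : Fin (m + 2)) :
    Xs c cD α β e i ≤ G0 c cD α β e ∧ Xn c cD α β e i ≤ G0 c cD α β e :=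
  ⟨le_sup_left.trans (le_iSup (fun i => Xs c cD α β e i ⊔ Xn c cD α β e i) i),
    le_sup_right.trans (le_iSup (fun i => Xs c cD α β e i ⊔ Xn c cD α β e i) i)⟩

theorem E_le (c : Chart Om p E) (cD : Chart Om p L) (α β : cD.I) (e : c.I ≃ Fin m) : E ≤ G0 c cD α β e := by
  refine le_of_simple c (fun i => ?_) (fun i => ?_)
  · have h1 := (node_le c cD α β e (e i).succ.succ).1
    simp only [Xs, nod_succ, Equiv.symm_apply_apply] at h1
    exact h1
  · have h1 := (node_le c cD α β e (e i).succ.succ).2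
    simp only [Xn, nod_succ, Equiv.symm_apply_apply] at h1
    exact h1

include C N

theorem X_γ : cD.X (sr γ) = c.X (sr j₀) := by
  rw [← N.ZX _ (N.all _ (isRoot_sr _ _ _)), N.Zγ, C.ZX _ C.rg]

theorem X_γ' : cD.X (-sr γ) = c.X (-sr j₀) := by
  rw [← N.ZX _ (N.all _ (isRoot_sr _ _ _).neg), N.Zγ', C.ZX _ (neg_mem c.cls C.rg)]

theorem L_le : L ≤ G0 c cD α β e := by
  have h1 : ∀ i, i = α ∨ i = β ∨ i = γ ∨ i = δ := N.nodes
  have hE := E_le c cD α β e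
  have hcX : ∀ {y : c.I → ℤ}, IsRoot c.cs c.h y → c.X y ≤ G0 c cD α β e := fun hy =>
    (Nodes.StdConn.X_le c hy).trans hE
  have hδ : cD.X (sr δ) = c.X d := by rw [← N.ZX _ (N.all _ (isRoot_sr _ _ _)), N.Zδ, C.ZX _ C.rd]
  have hδ' : cD.X (-sr δ) = c.X (-d) := by
    rw [← N.ZX _ (N.all _ (isRoot_sr _ _ _).neg), N.Zδ', C.ZX _ (neg_mem c.cls C.rd)]
  refine le_of_simple cD (fun i => ?_) (fun i => ?_)
  · rcases h1 i with rfl | rfl | rfl | rfl
    · exact (node_le c cD i β e 0).1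
    · exact (node_le c cD α i e 1).1
    · rw [X_γ C N]; exact hcX (isRoot_sr _ _ _)
    · rw [hδ]; exact hcX (c.cls.root _ C.rd)
  · rcases h1 i with rfl | rfl | rfl | rfl
    · exact (node_le c cD i β e 0).2
    · exact (node_le c cD α i e 1).2
    · rw [X_γ' C N]; exact hcX (isRoot_sr _ _ _).neg
    · rw [hδ']; exact hcX (c.cls.root _ C.rd).neg

omit C N in
theorem G0_le (c : Chart Om p E) (cD : Chart Om p L) (α β : cD.I) (e : c.I ≃ Fin m) : G0 c cD α β e ≤ E ⊔ L := by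
  refine iSup_le (fin_cases_two ?_ ?_ ?_)
  · exact sup_le ((Nodes.StdConn.X_le cD (isRoot_sr _ _ _)).trans le_sup_right)
      ((Nodes.StdConn.X_le cD (isRoot_sr _ _ _).neg).trans le_sup_right)
  · exact sup_le ((Nodes.StdConn.X_le cD (isRoot_sr _ _ _)).trans le_sup_right)
      ((Nodes.StdConn.X_le cD (isRoot_sr _ _ _).neg).trans le_sup_right)
  · intro k
    exact sup_le ((Nodes.StdConn.X_le c (isRoot_sr _ _ _)).trans le_sup_left)
      ((Nodes.StdConn.X_le c (isRoot_sr _ _ _).neg).trans le_sup_left)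

theorem G0_eq : G0 c cD α β e = E ⊔ L :=
  le_antisymm (G0_le c cD α β e) (sup_le (E_le c cD α β e) (L_le C N e))

/-- **Chart of `G₀`.** -/
theorem exists_chart_ext (hcl : Core.Closes c.cs c.h (sr j₀) d j₀) (hKL : ∀ i, kf K K' J J' i ≤ L)
    (h6 : ∀ a b, c.M a b ≠ 6) {W' : Type} [Group W'] [Fintype W'] {M' : CoxeterMatrix (Fin (m + 2))}
    {A' : Fin (m + 2) → Fin (m + 2) → ℤ} (cs' : CoxeterSystem M' W') (h' : IsCartan M' A')
    (X : ExtC c.M c.A j₀ e M' A')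
    (irr : ∀ J : Set (Fin (m + 2)), J.Nonempty → J ≠ Set.univ → ∃ a ∈ J, ∃ b, b ∉ J ∧ M' a b ≠ 2)
    (len : Fin (m + 2) → ℤ) (hlen : ∀ i j, A' i j * len i = A' j i * len j) (hlen0 : len 0 ≠ 0)
    (hlong : ∀ a : c.I, len (e a).succ.succ = len 0 → sr a ∈ c.R) (hl0 : len (e j₀).succ.succ = len 0)
    (S : Sylow 2 G) (hS : ∀ M ∈ OmS Om (S : Subgroup G), M = K ∨ cm M K) :
    ∃ (c' : Chart Om p (G0 c cD α β e)) (e' : c'.I ≃ Fin (m + 2)),
      (∀ i j, c'.A i j = A' (e' i) (e' j)) ∧ (∀ i, sr i ∈ c'.R ↔ len (e' i) = len 0) ∧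
      (∀ r ∈ c'.R, c'.Z r = c'.X r) := by
  have core := N.core C
  have aD : ∀ (i : cD.I) (P P' : Subgroup G) (l : Prop), P = cD.X (sr i) → P' = cD.X (-sr i) →
      At cD P P' l (sr i) := fun i P P' l hP hP' =>
    ⟨isRoot_sr _ _ _, hP, hP', fun _ => ⟨N.all _ (isRoot_sr _ _ _), N.ZX _ (N.all _ (isRoot_sr _ _ _))⟩⟩
  have aE : ∀ (a : c.I) (l : Prop), (l → sr a ∈ c.R) →
      At c (Xs c cD α β e (e a).succ.succ) (Xn c cD α β e (e a).succ.succ) l (sr a) := by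
    intro a l hl
    refine ⟨isRoot_sr _ _ _, ?_, ?_, fun h => ⟨hl h, C.ZX _ (hl h)⟩⟩
    · simp only [Xs, nod_succ, Equiv.symm_apply_apply]
    · simp only [Xn, nod_succ, Equiv.symm_apply_apply]
  have h6D : ∀ a b, cD.M a b ≠ 6 := by
    intro a b h1
    by_cases hab : a = b
    · subst hab; rw [CoxeterMatrix.diagonal] at h1; omega
    have h2 := Nodes.OrthRoot.two_form_sr cD.cs cD.h a b
    have h3 := Nodes.OrthRoot.two_form_sr cD.cs cD.h b a
    rw [N.norm a] at h2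
    rw [N.norm b, form_comm, h2] at h3
    have h4 : cD.A a b = cD.A b a :=
      mul_right_cancel₀ (form_pos cD.cs cD.h (sr_ne_zero α)).ne' h3
    rcases cD.h.rel a b hab with h5 | h5 | h5 | h5 <;> omega
  have hcpr : ∀ {I W : Type} [Fintype I] [DecidableEq I] [Group W] [Fintype W] {M : CoxeterMatrix I}
      (cs : CoxeterSystem M W) {A : I → I → ℤ} (h : IsCartan M A) (i j : I), cpr cs h (sr j) (sr i) = A i j := by
    intro I W _ _ _ _ M cs A h i j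
    rw [cpr_sr, sr, pairing_single, mul_one]
  set lg : Fin (m + 2) → Prop := fun i => len i = len 0 with hlg
  have p01 : Plane M' A' Om p (Xs c cD α β e) (Xn c cD α β e) lg 0 1 :=
    ⟨L, cD, sr α, sr β, aD α _ _ _ rfl rfl, aD β _ _ _ rfl rfl,
      (hcpr _ _ _ _).trans (N.aαβ.trans X.a01.symm), (hcpr _ _ _ _).trans (N.aβα.trans X.a10.symm), fun _ => h6D⟩
  have p1j : Plane M' A' Om p (Xs c cD α β e) (Xn c cD α β e) lg 1 (e j₀).succ.succ := by
    refine ⟨L, cD, sr β, sr γ, aD β _ _ _ rfl rfl, aD γ _ _ _ ?_ ?_,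
      (hcpr _ _ _ _).trans (N.aβγ.trans X.a1.symm), (hcpr _ _ _ _).trans (N.aγβ.trans X.a1'.symm), fun _ => h6D⟩
    · rw [X_γ C N]; simp only [Xs, nod_succ, Equiv.symm_apply_apply]
    · rw [X_γ' C N]; simp only [Xn, nod_succ, Equiv.symm_apply_apply]
  have pkl : ∀ a b : c.I, Plane M' A' Om p (Xs c cD α β e) (Xn c cD α β e) lg (e a).succ.succ (e b).succ.succ :=
    fun a b => ⟨E, c, sr a, sr b, aE a _ (hlong a), aE b _ (hlong b), (hcpr _ _ _ _).trans (X.aa a b).symm,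
      (hcpr _ _ _ _).trans (X.aa b a).symm, fun _ => h6⟩
  have hcomm : ∀ i j, i ≠ j → M' i j = 2 → ∀ a ∈ Xs c cD α β e i ⊔ Xn c cD α β e i,
      ∀ b ∈ Xs c cD α β e j ⊔ Xn c cD α β e j, a * b = b * a := by
    have k0 : ∀ k : Fin m, ∀ a ∈ Xs c cD α β e 0 ⊔ Xn c cD α β e 0, ∀ b ∈ Xs c cD α β e k.succ.succ ⊔
        Xn c cD α β e k.succ.succ, a * b = b * a := by
      intro k a ha b hb
      refine (core.cent b ?_ a ha).symm
      rw [FrameOf.GG_eq]
      exact sup_le (Nodes.StdConn.X_le c (isRoot_sr _ _ _)) (Nodes.StdConn.X_le c (isRoot_sr _ _ _).neg) hb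
    have k1 : ∀ k : Fin m, k ≠ e j₀ → ∀ a ∈ Xs c cD α β e 1 ⊔ Xn c cD α β e 1, ∀ b ∈ Xs c cD α β e k.succ.succ ⊔
        Xn c cD α β e k.succ.succ, a * b = b * a := by
      intro k hk a ha b hb
      refine (core.main hcl (j := e.symm k) (fun h0 => hk ?_) b hb a ha).symm
      rw [← h0, Equiv.apply_symm_apply]
    have kk : ∀ k l : Fin m, k ≠ l → M' k.succ.succ l.succ.succ = 2 → ∀ a ∈ Xs c cD α β e k.succ.succ ⊔
        Xn c cD α β e k.succ.succ, ∀ b ∈ Xs c cD α β e l.succ.succ ⊔ Xn c cD α β e l.succ.succ, a * b = b * a := by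
      intro k l hkl h2
      have hne : e.symm k ≠ e.symm l := fun h0 => hkl (e.symm.injective h0)
      have h3 := X.mm (e.symm k) (e.symm l) hne
      rw [Equiv.apply_symm_apply, Equiv.apply_symm_apply, h2] at h3
      have h4 := Nodes.ZFam.pairData c.cls.rgd hne
      rw [← h3] at h4
      exact TypeAPair.commute_of_pairTwo h4
    refine fin_cases_two ?_ ?_ ?_
    · refine fin_cases_two (fun h => absurd rfl h) (fun _ h => ?_) (fun k _ _ => k0 k)
      rw [X.m01] at h; omega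
    · refine fin_cases_two (fun _ h => ?_) (fun h => absurd rfl h) (fun k _ h => ?_)
      · rw [M'.symmetric, X.m01] at h; omega
      · by_cases hk : k = e j₀
        · rw [hk, X.m1] at h; omega
        · exact k1 k hk
    · intro k
      refine fin_cases_two (fun _ _ a ha b hb => (k0 k b hb a ha).symm) (fun _ h a ha b hb => ?_) (fun l hkl h => ?_)
      · by_cases hk : k = e j₀
        · rw [hk, M'.symmetric, X.m1] at h; omega
        · exact (k1 k hk b hb a ha).symm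
      · exact kk k l (fun h0 => hkl (by rw [h0])) h
  have hplane : ∀ i j, i ≠ j → M' i j ≠ 2 → Plane M' A' Om p (Xs c cD α β e) (Xn c cD α β e) lg i j ∨
      Plane M' A' Om p (Xs c cD α β e) (Xn c cD α β e) lg j i := by
    have pkl' : ∀ k l : Fin m, Plane M' A' Om p (Xs c cD α β e) (Xn c cD α β e) lg k.succ.succ l.succ.succ := by
      intro k l
      have h1 := pkl (e.symm k) (e.symm l)
      rwa [Equiv.apply_symm_apply, Equiv.apply_symm_apply] at h1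
    refine fin_cases_two ?_ ?_ ?_
    · refine fin_cases_two (fun h => absurd rfl h) (fun _ _ => Or.inl p01) (fun k _ h => ?_)
      exact absurd (X.m0 k) h
    · refine fin_cases_two (fun _ _ => Or.inr p01) (fun h => absurd rfl h) (fun k _ h => ?_)
      by_cases hk : k = e j₀
      · rw [hk]; exact Or.inl p1j
      · exact absurd (X.m1' k hk) h
    · intro k
      refine fin_cases_two (fun _ h => ?_) (fun _ h => ?_) (fun l _ _ => Or.inl (pkl' k l))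
      · exact absurd (by rw [M'.symmetric]; exact X.m0 k) h
      · by_cases hk : k = e j₀
        · rw [hk]; exact Or.inr p1j
        · exact absurd (by rw [M'.symmetric]; exact X.m1' k hk) h
  have hF : ∀ M ∈ OmS Om (S : Subgroup G), ∃ (D : Subgroup G) (c₁ : Chart Om p D) (i : Fin (m + 2)) (b : c₁.I → ℤ),
      len i = len 0 ∧ At c₁ (Xs c cD α β e i) (Xn c cD α β e i) True b ∧
        D ≤ ⨆ i, (Xs c cD α β e i ⊔ Xn c cD α β e i) ∧ M ≤ D := by
    intro M hM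
    rcases hS M hM with rfl | h1
    · exact ⟨L, cD, 0, sr α, rfl, aD α _ _ _ rfl rfl, L_le C N e, hKL 0⟩
    · rcases C.two.tK.of_cm M hM.1 h1 with rfl | h2
      · exact ⟨L, cD, 0, sr α, rfl, aD α _ _ _ rfl rfl, L_le C N e, hKL 1⟩
      · exact ⟨E, c, (e j₀).succ.succ, sr j₀, hl0, aE j₀ _ (fun _ => C.rg), E_le c cD α β e, h2⟩
  obtain ⟨c', e', h1, -, h3, -, -, h6'⟩ := exists_chart c.prime c.odd C.hyp S cs' h' irr (Xs c cD α β e)
    (Xn c cD α β e) len hlen 0 hlen0 hcomm hplane hF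
  exact ⟨c', e', h1, h3, h6'⟩

end Main

/-! ### Closing -/

section Closing

variable [Finite G] {K K' E J J' F L : Subgroup G} (H : Two Om K K' E J J' F)
  (P : FrameOf.Piece Om (zz K * zz J) L) (hKL : ∀ i, kf K K' J J' i ≤ L)

include H P hKL

/-- `C(z_K)` normalises `⟨E, L⟩`. -/
theorem normalizer_zz {x : G} (hx : x ∈ Subgroup.centralizer {zz K}) : cj x (E ⊔ L) = E ⊔ L := by
  have hE := (H.tK.cj_zz H.am H.bE hx).2
  have h1 : cj x J ≤ E := by
    have := Cit.cj_mono x H.JE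
    rwa [hE] at this
  obtain ⟨y, hy, e⟩ := H.bE.trans J H.tJ.mem H.JE _ (H.am.hyp.conj _ H.tJ.mem x) h1
  have hyK : y ∈ Subgroup.centralizer {zz K} := by
    rw [Subgroup.mem_centralizer_singleton_iff]
    exact (H.tK.cm_E _ (H.am.hyp.zz_mem H.tK.mem) y hy).symm
  have hu : y⁻¹ * x ∈ Subgroup.centralizer {zz K} := mul_mem (inv_mem hyK) hx
  have hJ : cj (y⁻¹ * x) J = J := by rw [Cit.cj_mul, e, Cit.cj_inv_cj]
  have huJ : y⁻¹ * x ∈ Subgroup.centralizer {zz J} :=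
    H.am.hyp.normalizer_le H.tJ.mem (Cit.mem_normalizer_iff_cj.2 hJ)
  have hut : y⁻¹ * x * (zz K * zz J) = zz K * zz J * (y⁻¹ * x) := by
    have h2 := Subgroup.mem_centralizer_singleton_iff.1 hu
    have h3 := Subgroup.mem_centralizer_singleton_iff.1 huJ
    rw [← mul_assoc, h2, mul_assoc, h3, ← mul_assoc]
  have hL : cj (y⁻¹ * x) L = L := by
    rcases P.norm _ hut with h2 | h2
    · exact h2
    · exfalso
      have h3 : J ≤ L := hKL 2
      have h4 : J ≤ cj (y⁻¹ * x) L := by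
        have := Cit.cj_mono (y⁻¹ * x) h3
        rwa [hJ] at this
      exact not_cm_self H.am.hyp H.tJ.mem fun a ha b hb => h2 a (h3 ha) b (h4 hb)
  have hEu : cj (y⁻¹ * x) E = E := (H.tK.cj_zz H.am H.bE hu).2
  have h5 : cj (y⁻¹ * x) (E ⊔ L) = E ⊔ L := by rw [Cit.cj_sup, hEu, hL]
  have h6 : x = y * (y⁻¹ * x) := by group
  rw [h6, Cit.cj_mul, h5]
  exact cj_self_of_mem ((le_sup_left : E ≤ E ⊔ L) hy)

theorem clo (hB : Big Om (E ⊔ L)) : Clo Om {M | M ∈ Om ∧ M ≤ E ⊔ L} := by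
  have hK : K ≤ E ⊔ L := (hKL 0).trans le_sup_right
  have hK' : K' ≤ E ⊔ L := (hKL 1).trans le_sup_right
  have hN : ∀ M ∈ Om, M ≤ E ⊔ L → ∀ x ∈ Subgroup.centralizer {zz M}, cj x (E ⊔ L) = E ⊔ L := by
    intro M hM hML x hx
    obtain ⟨g, hg, rfl⟩ := hB.trans K H.tK.mem hK M hM hML
    have h1 : g⁻¹ * x * g ∈ Subgroup.centralizer {zz K} := by
      rw [H.am.hyp.zz_cj H.tK.mem, ← Cit.cj_centralizer, Cit.mem_cj] at hx
      exact hx
    have h2 := normalizer_zz H P hKL h1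
    have h3 : x = g * (g⁻¹ * x * g) * g⁻¹ := by group
    rw [h3, Cit.cj_mul, Cit.cj_mul, cj_self_of_mem (inv_mem hg), h2]
    exact cj_self_of_mem hg
  constructor
  · exact fun M hM => hM.1
  · exact ⟨K, H.tK.mem, hK⟩
  · rintro M ⟨hM, hML⟩ L' hL' hcm
    obtain ⟨g, hg, rfl⟩ := hB.trans K H.tK.mem hK M hM hML
    refine ⟨hL', ?_⟩
    have h1 : cm (cj g⁻¹ L') K := by
      rw [← cm_cj (g := g), Cit.cj_cj_inv]; exact hcm
    have h2 : cj g⁻¹ L' ≤ E ⊔ L := by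
      rcases H.tK.of_cm _ (H.am.hyp.conj L' hL' g⁻¹) h1 with h3 | h3
      · rw [h3]; exact hK'
      · exact h3.trans le_sup_left
    have h3 := Cit.cj_mono g h2
    rwa [Cit.cj_cj_inv, cj_self_of_mem hg] at h3
  · rintro M ⟨hM, hML⟩ x hx L' ⟨hL', hLL'⟩
    refine ⟨H.am.hyp.conj _ hL' x, ?_⟩
    rw [← hN M hM hML x hx]
    exact Cit.cj_mono x hLL'
  · rintro M ⟨hM, hML⟩ g ⟨-, hg⟩ L' ⟨hL', hLL'⟩
    refine ⟨H.am.hyp.conj _ hL' g, ?_⟩
    obtain ⟨y, hy, e⟩ := hB.trans M hM hML _ (H.am.hyp.conj _ hM g) hg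
    have h1 : cj (y⁻¹ * g) M = M := by rw [Cit.cj_mul, e, Cit.cj_inv_cj]
    have h2 := hN M hM hML _ (H.am.hyp.normalizer_le hM (Cit.mem_normalizer_iff_cj.2 h1))
    have h3 : cj g (E ⊔ L) = E ⊔ L := by
      have h4 : g = y * (y⁻¹ * g) := by group
      rw [h4, Cit.cj_mul, h2]
      exact cj_self_of_mem hy
    rw [← h3]
    exact Cit.cj_mono g hLL'

theorem clo2 (zK : zz K = zz K') (hB : Big Om (E ⊔ L)) : CloW Om {M | M ∈ Om ∧ M ≤ E ⊔ L} := by
  have hclo := clo H P hKL hB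
  have hK : K ≤ E ⊔ L := (hKL 0).trans le_sup_right
  refine ⟨hclo, ?_⟩
  rintro U ⟨hU, hUG⟩ V ⟨hV, hVG⟩ hUV hne x hx M hM
  obtain ⟨g, hg, rfl⟩ := hB.trans K H.tK.mem hK U hU hUG
  have h1 : cm (cj g⁻¹ V) K := by
    rw [← cm_cj (g := g), Cit.cj_cj_inv]; exact cm_symm hUV
  have h2 : cj g⁻¹ V ≤ E := by
    rcases H.tK.of_cm _ (H.am.hyp.conj V hV g⁻¹) h1 with h3 | h3
    · exfalso
      apply hne
      have h4 : V = cj g K' := by rw [← h3, Cit.cj_cj_inv]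
      rw [h4, H.am.hyp.zz_cj H.tK.mem, H.am.hyp.zz_cj H.tK.mem', zK]
    · exact h3
  obtain ⟨y, hy, e⟩ := H.bE.trans J H.tJ.mem H.JE _ (H.am.hyp.conj V hV g⁻¹) h2
  have hyK : cj y K = K := cj_of_cm H.tK.cm_E hy
  have hwK : cj (g * y) K = cj g K := by rw [Cit.cj_mul, hyK]
  have hwJ : cj (g * y) J = V := by rw [Cit.cj_mul, ← e, Cit.cj_cj_inv]
  have hw : g * y ∈ E ⊔ L := mul_mem hg ((le_sup_left : E ≤ E ⊔ L) hy)
  have hx' : (g * y)⁻¹ * x * (g * y) ∈ Subgroup.centralizer {zz K * zz J} := by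
    rw [← hwK, ← hwJ, H.am.hyp.zz_cj H.tK.mem, H.am.hyp.zz_cj H.tJ.mem, conj_mul_eq, ← Cit.cj_centralizer,
      Cit.mem_cj] at hx
    exact hx
  have h5 : cj ((g * y)⁻¹ * x * (g * y)) K ∈ {M | M ∈ Om ∧ M ≤ E ⊔ L} := by
    rcases P.norm _ (Subgroup.mem_centralizer_singleton_iff.1 hx') with h6 | h6
    · refine ⟨H.am.hyp.conj _ H.tK.mem _, ?_⟩
      have h7 := Cit.cj_mono ((g * y)⁻¹ * x * (g * y)) (hKL 0)
      rw [h6] at h7
      exact h7.trans le_sup_right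
    · refine hclo.comm K ⟨H.tK.mem, hK⟩ _ (H.am.hyp.conj _ H.tK.mem _) fun a ha b hb => ?_
      exact (h6 b (hKL 0 hb) a (Cit.cj_mono _ (hKL 0) ha)).symm
  have h6 : cj x (cj g K) = cj (g * y) (cj ((g * y)⁻¹ * x * (g * y)) K) := by
    rw [← hwK, ← Cit.cj_mul, ← Cit.cj_mul]
    congr 1
    group
  refine hclo.fus _ ⟨hU, hUG⟩ x ?_ M hM
  rw [h6]
  refine ⟨H.am.hyp.conj _ h5.1 _, ?_⟩
  have h7 := Cit.cj_mono (g * y) h5.2
  rwa [cj_self_of_mem hw] at h7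

theorem eq_top [IsSimpleGroup G] (zK : zz K = zz K') (hcl : CloseW Om) (hB : Big Om (E ⊔ L)) : E ⊔ L = ⊤ := by
  have h1 := hcl _ (clo2 H P hKL zK hB)
  have h2 : ∀ M ∈ Om, M ≤ E ⊔ L := by
    intro M hM
    have : M ∈ {M | M ∈ Om ∧ M ≤ E ⊔ L} := by rw [h1]; exact hM
    exact this.2
  have hnor : (⨆ M ∈ Om, M : Subgroup G).Normal := by
    refine ⟨fun n hn g => ?_⟩
    have h3 : cj g (⨆ M ∈ Om, M) ≤ ⨆ M ∈ Om, M := by
      rw [Cit.cj_def, Subgroup.map_iSup]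
      refine iSup_le fun M => ?_
      rw [Subgroup.map_iSup]
      exact iSup_le fun hM => le_iSup₂_of_le (cj g M) (H.am.hyp.conj M hM g) le_rfl
    exact h3 (Cit.conj_mem_cj hn)
  rcases hnor.eq_bot_or_eq_top with h3 | h3
  · exfalso
    have h4 : K ≤ ⊥ := by
      rw [← h3]
      exact le_iSup₂_of_le K H.tK.mem le_rfl
    refine not_cm_self H.am.hyp H.tK.mem fun x hx y hy => ?_
    rw [Subgroup.mem_bot.1 (h4 hx), Subgroup.mem_bot.1 (h4 hy)]
  · rw [eq_top_iff, ← h3]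
    exact iSup₂_le h2

end Closing

/-- **Case A**: the chart of `G`. -/
theorem main [Finite G] [IsSimpleGroup G] {F' : Type*} [Field F'] [Fintype F'] [CharP F' p]
    {K K' E J J' F L : Subgroup G} {c : Chart Om p E} {j₀ : c.I} {d : c.I → ℤ}
    (C : Cfg Om p F' K K' E J J' F c (sr j₀) d) (hcl : Core.Closes c.cs c.h (sr j₀) d j₀)
    (P : FrameOf.Piece Om (zz K * zz J) L) (hKL : ∀ i, kf K K' J J' i ≤ L) (cL : Chart Om p L)
    {m : ℕ} (e : c.I ≃ Fin m)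
    (h6 : ∀ a b, c.M a b ≠ 6) {W' : Type} [Group W'] [Fintype W'] {M' : CoxeterMatrix (Fin (m + 2))}
    {A' : Fin (m + 2) → Fin (m + 2) → ℤ} (cs' : CoxeterSystem M' W') (h' : IsCartan M' A')
    (X : ExtC c.M c.A j₀ e M' A')
    (irr : ∀ J : Set (Fin (m + 2)), J.Nonempty → J ≠ Set.univ → ∃ a ∈ J, ∃ b, b ∉ J ∧ M' a b ≠ 2)
    (len : Fin (m + 2) → ℤ) (hlen : ∀ i j, A' i j * len i = A' j i * len j) (hlen0 : len 0 ≠ 0)
    (hlong : ∀ a : c.I, len (e a).succ.succ = len 0 → sr a ∈ c.R) (hl0 : len (e j₀).succ.succ = len 0)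
    (hS : ∃ S : Sylow 2 G, ∀ M ∈ OmS Om (S : Subgroup G), M = K ∨ cm M K) (hclose : CloseW Om) :
    ∃ (c' : Chart Om p (⊤ : Subgroup G)) (e' : c'.I ≃ Fin (m + 2)),
      (∀ i j, c'.A i j = A' (e' i) (e' j)) ∧ (∀ i, sr i ∈ c'.R ↔ len (e' i) = len 0) ∧
      (∀ r ∈ c'.R, c'.Z r = c'.X r) := by
  have hLt : L ≤ Subgroup.centralizer {zz K * zz J} := fun a ha =>
    Subgroup.mem_centralizer_singleton_iff.2 (P.le a ha)
  obtain ⟨cD, α, β, γ, δ, N⟩ := C.exists_nds hLt hKL cL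
  obtain ⟨S, hS⟩ := hS
  obtain ⟨c', e', h1, h2, h3⟩ := exists_chart_ext C N e hcl hKL h6 cs' h' X irr len hlen hlen0 hlong hl0 S hS
  have hnt : Nontrivial c'.I := e'.nontrivial
  have hB := big_of_chart C.hyp c' hnt
  rw [G0_eq C N e] at hB
  have htop := eq_top C.two P hKL C.zK hclose hB
  have hG : G0 c cD α β e = ⊤ := by rw [G0_eq C N e, htop]
  generalize G0 c cD α β e = G₀ at c' hG
  subst hG
  exact ⟨c', e', h1, h2, h3⟩

end Cfsg.Agent.Cit.BDEnd
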