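import Mathlib
import Cfsg.Agent.Cit.BDEnd
import Cfsg.Agent.Nodes.ShortSum
import Cfsg.Agent.Nodes.OppDec

/-!
# Generation in type `B_2` (project CIT, types `B_4`, `²D_5`)

`β = 2ε₁`, `g = ε₀ - ε₁`, `d = ε₀ + ε₁`, `z = z_g = z_d`, `Z = X` on `R`.

* `eq_of_refl` : `n = a₁ c a₂` with `a₁, a₂ ∈ X y`, `c ∈ X (-y)` representing the reflection, `z` commuting with `n` and
  inverting `X y`, `X (-y)` ⇒ `a₁ = a₂`;
* `le_of_step` : a subgroup containing `X_{±g}`, `X_{±d}` and all `X_d^k` with `z^k` commuting with `z` contains `X_{2ε₀}`;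
* `gen_two` : generation.
-/

set_option autoImplicit false
set_option linter.unusedSectionVars false

namespace Cfsg.Agent.Cit.BDConn

open CoxeterSystem Cfsg.Agent.ChevalleyStructure.CoxeterGeom Cfsg.Agent.Tits.Roots Cfsg.Agent.Tits.Core
  Cfsg.Agent.Nodes.Comb Cfsg.Agent.Nodes.Reps Cfsg.Agent.Nodes.BNOf Cfsg.Agent.Nodes.RGDLib
  Cfsg.Agent.Nodes.Chart Cfsg.Agent.Nodes.Bruhat Cfsg.Agent.Nodes.Coroot
  Cfsg.Agent.Nodes.ShortSum Cfsg.Agent.Nodes.Perp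
open scoped commutatorElement

variable {I W Y : Type*} [Fintype I] [DecidableEq I] [Group W] [Fintype W] [Group Y] {M : CoxeterMatrix I}
  {cs : CoxeterSystem M W} {A : I → I → ℤ} {h : IsCartan M A} {p : ℕ} {T : Subgroup Y} {n : I → Y}
  {X : (I → ℤ) → Subgroup Y} {R : Set (I → ℤ)} {Z : (I → ℤ) → Subgroup Y} {z : (I → ℤ) → Y}

/-- The `z`-trick. -/
theorem eq_of_refl (C : Cls cs h p T n X R Z z) (hp : p.Prime) (hodd : p ≠ 2) {y : I → ℤ} (hy : IsRoot cs h y)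
    {ζ : Y} (hζ : ζ * ζ = 1) (hT : ∀ t ∈ T, ζ * t = t * ζ) (h1 : ∀ a ∈ X y, ζ * a * ζ = a⁻¹)
    (h2 : ∀ a ∈ X (-y), ζ * a * ζ = a⁻¹) {k : Y} (hk : k * k ∈ T) (hks : ∀ a ∈ X y, k⁻¹ * a * k ∈ X (-y))
    (hkζ : ζ * k = k * ζ) {a₁ c a₂ : Y} (ha₁ : a₁ ∈ X y) (hc : c ∈ X (-y)) (ha₂ : a₂ ∈ X y) (e : k = a₁ * c * a₂) :
    a₁ = a₂ := by
  have hζi : ζ⁻¹ = ζ := inv_eq_of_mul_eq_one_left hζ
  have e1 : k = a₁⁻¹ * c⁻¹ * a₂⁻¹ := by
    have h3 : ζ * k * ζ = k := by rw [hkζ, mul_assoc, hζ, mul_one]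
    rw [← h3, e]
    calc ζ * (a₁ * c * a₂) * ζ = (ζ * a₁) * 1 * c * 1 * (a₂ * ζ) := by group
      _ = (ζ * a₁) * (ζ * ζ) * c * (ζ * ζ) * (a₂ * ζ) := by rw [hζ]
      _ = (ζ * a₁ * ζ) * (ζ * c * ζ) * (ζ * a₂ * ζ) := by group
      _ = _ := by rw [h1 _ ha₁, h2 _ hc, h1 _ ha₂]
  -- `r = a₂⁻¹ a₁ = v t`
  have hr : a₂⁻¹ * a₁ ∈ X y := mul_mem (inv_mem ha₂) ha₁
  have hv : k⁻¹ * (a₁ * a₂⁻¹) * k ∈ X (-y) := hks _ (mul_mem ha₁ (inv_mem ha₂))
  have ht : k⁻¹ * k⁻¹ ∈ T := by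
    have := inv_mem hk
    rwa [mul_inv_rev] at this
  have e2 : a₂⁻¹ * a₁ = (k⁻¹ * (a₁ * a₂⁻¹) * k) * (k⁻¹ * k⁻¹) := by
    have e3 : c⁻¹ = a₁ * k * a₂ := by rw [e1]; group
    have e4 : c⁻¹ = a₂ * k⁻¹ * a₁ := by rw [e]; group
    have e5 : a₁ * k * a₂ = a₂ * k⁻¹ * a₁ := by rw [← e3, e4]
    calc a₂⁻¹ * a₁ = a₂⁻¹ * (a₁ * k * a₂) * a₂⁻¹ * k⁻¹ := by group
      _ = a₂⁻¹ * (a₂ * k⁻¹ * a₁) * a₂⁻¹ * k⁻¹ := by rw [e5]
      _ = _ := by group
  obtain ⟨r, hrd⟩ : ∃ r, r = a₂⁻¹ * a₁ := ⟨_, rfl⟩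
  obtain ⟨v, hvd⟩ : ∃ v, v = k⁻¹ * (a₁ * a₂⁻¹) * k := ⟨_, rfl⟩
  obtain ⟨t, htd⟩ : ∃ t, t = k⁻¹ * k⁻¹ := ⟨_, rfl⟩
  rw [← hrd, ← hvd, ← htd] at e2
  rw [← hrd] at hr
  rw [← hvd] at hv
  rw [← htd] at ht
  have e3 : r⁻¹ = v⁻¹ * t := by
    rw [← h1 r hr, e2]
    calc ζ * (v * t) * ζ = ζ * v * (t * ζ) := by group
      _ = ζ * v * ζ * t := by rw [← hT t ht]; group
      _ = _ := by rw [h2 v hv]
  have e4 : v * t * v⁻¹ = t⁻¹ := by
    have h5 : v * t * (v⁻¹ * t) = 1 := by rw [← e2, ← e3, mul_inv_cancel]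
    have h6 : v * t * v⁻¹ * t = 1 := by rw [← h5]; group
    exact eq_inv_of_mul_eq_one_left h6
  have e5 : t⁻¹ * t⁻¹ = 1 := by
    have h5 : t⁻¹ * t⁻¹ ∈ X (-y) := by
      have h6 : t * v⁻¹ * t⁻¹ ∈ X (-y) := by
        have := C.rgd.tor (-y) hy.neg t ht
        rw [← this]
        exact Cfsg.Agent.Nodes.Reps.conj_mem_cj.2 (inv_mem hv)
      have h7 : t⁻¹ * t⁻¹ = v * (t * v⁻¹ * t⁻¹) := by
        calc t⁻¹ * t⁻¹ = (v * t * v⁻¹) * t⁻¹ := by rw [e4]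
          _ = _ := by group
      rw [h7]; exact mul_mem hv h6
    have h6 := Nodes.OppDec.X_inf_T C.rgd hy.neg
    exact (Subgroup.mem_bot.1 (h6 ▸ Subgroup.mem_inf.2 ⟨h5, mul_mem (inv_mem ht) (inv_mem ht)⟩ : t⁻¹ * t⁻¹ ∈ (⊥ : Subgroup Y)))
  have e6 : t⁻¹ = t := by
    have := eq_inv_of_mul_eq_one_left e5
    rwa [inv_inv] at this
  have e7 : v * t = t * v := by
    rw [e6] at e4
    calc v * t = (v * t * v⁻¹) * v := by group
      _ = t * v := by rw [e4]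
  have e8 : r * r = v * v := by
    rw [e2]
    calc v * t * (v * t) = v * (t * v) * t := by group
      _ = v * v * (t * t) := by rw [← e7]; group
      _ = v * v := by
        nth_rw 1 [← e6]
        rw [inv_mul_cancel, mul_one]
  have hne : y ≠ -y := by
    intro h0
    have h3 := form_pos cs h hy.ne_zero
    have h4 : form cs h y y = -form cs h y y := by
      nth_rw 1 [h0]
      rw [form_neg_left]
    omega
  have e9 : r * r = 1 := by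
    have h5 := Nodes.OppDec.X_inf_X C.rgd hy hy.neg hne
    have h6 : r * r ∈ (⊥ : Subgroup Y) := by
      rw [← h5]
      exact ⟨mul_mem hr hr, by rw [e8]; exact mul_mem hv hv⟩
    exact Subgroup.mem_bot.1 h6
  have e10 : r = 1 := Nodes.ZRel.eq_one_of_inv C hp hodd hy hr (eq_inv_of_mul_eq_one_left e9)
  rw [hrd, inv_mul_eq_one] at e10
  exact e10.symm

variable {m : ℤ} {y₁ y₂ x b : I → ℤ}

/-- `Sq` for the pair `y₂`, `-y₁`. -/
theorem sq_turn (S : Sq cs h m y₁ y₂ x b) : Sq cs h m y₂ (-y₁) b (-x) where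
  pos := S.pos
  root₁ := S.root₂
  root₂ := S.root₁.neg
  root := S.rootb
  rootb := S.root.neg
  orth := by rw [form_neg_right, form_comm, S.orth, neg_zero]
  len := by rw [form_neg_left, form_neg_right, neg_neg, S.len]
  add := by rw [S.sub]; abel
  sub := by rw [smul_neg, S.add]; abel

/-- The reflection in `x` maps `-y₁` to `y₂`. -/
theorem refl_x (S : Sq cs h m y₁ y₂ x b) : y₁ - cpr cs h y₁ x • x = -y₂ := by
  have h1 := two_form_cpr cs h y₁ S.root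
  have h2 : m * form cs h x y₁ = form cs h y₁ y₁ := S.form_x₁
  have h3 : m * form cs h x x = 2 * form cs h x y₁ := by
    have h4 : form cs h (m • x) x = form cs h y₁ x + form cs h y₂ x := by rw [S.add, form_add_left]
    rw [form_smul_left, form_comm cs h y₁ x, form_comm cs h y₂ x] at h4
    have h5 : m * form cs h x y₂ = form cs h y₁ y₁ := S.form_x₂
    have h6 : form cs h x y₁ = form cs h x y₂ := by
      have := S.pos
      have h7 : m * (form cs h x y₁ - form cs h x y₂) = 0 := by linarith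
      rcases mul_eq_zero.1 h7 with h8 | h8
      · omega
      · linarith
    linarith
  have h4 : cpr cs h y₁ x = m := by
    have h5 := form_pos cs h S.root.ne_zero
    rw [form_comm cs h y₁ x, ← h3] at h1
    exact (mul_right_cancel₀ h5.ne' h1).symm
  rw [h4, S.add]
  abel

/-- **Generation, one step**. -/
theorem le_of_step (C : Cls cs h p T n X R Z z) (hp : p.Prime) (hodd : p ≠ 2) (S : Sq cs h m y₁ y₂ x b)
    (hxR : x ∈ R) (hbR : b ∈ R) (hxR' : -x ∈ R) (hX : X x = Z x) (hX' : X (-x) = Z (-x)) (hB : X b = Z b)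
    (hz : z x = z b) {N : Subgroup Y} (hxN : X x ≤ N) (hbN : X b ≤ N)
    (hstep : ∀ k, (k * z b * k⁻¹) * z b = z b * (k * z b * k⁻¹) → (∃ a₁ ∈ X (-y₁), ∃ c ∈ X y₁, k = a₁ * c) →
      ∀ u ∈ X x, k * u * k⁻¹ ∈ N) : X y₂ ≤ N := by
  have sS := S.flip
  have tS := sq_turn S
  have zz := C.z_sq b hbR
  have zi : (z b)⁻¹ = z b := inv_eq_of_mul_eq_one_left zz
  -- commutations
  have x₁ : ∀ c ∈ X x, ∀ a ∈ X y₁, a * c = c * a := fun c hc a ha =>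
    C.cent x hxR y₁ S.root₁ (by rw [form_comm]; exact S.x₁_pos.le) a ha c (hX ▸ hc)
  have b₁ : ∀ c ∈ X b, ∀ a ∈ X (-y₁), a * c = c * a := fun c hc a ha =>
    C.cent b hbR (-y₁) S.root₁.neg (by rw [form_comm]; exact sS.x₁_pos.le) a ha c (hB ▸ hc)
  have b₂ : ∀ c ∈ X b, ∀ a ∈ X y₂, a * c = c * a := fun c hc a ha =>
    C.cent b hbR y₂ S.root₂ (by rw [form_comm]; exact S.b₂_pos.le) a ha c (hB ▸ hc)
  have x₁' : ∀ c ∈ X (-x), ∀ a ∈ X (-y₁), a * c = c * a := fun c hc a ha =>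
    C.cent (-x) hxR' (-y₁) S.root₁.neg (by
      rw [form_neg_left, form_neg_right, neg_neg, form_comm]; exact S.x₁_pos.le) a ha c (hX' ▸ hc)
  have xb' : ∀ c ∈ X (-x), ∀ a ∈ X b, a * c = c * a := fun c hc a ha =>
    C.cent (-x) hxR' b S.rootb (by
      rw [form_neg_right, form_comm, S.xb, neg_zero]) a ha c (hX' ▸ hc)
  -- the involution
  have zb : ∀ c ∈ X b, z b * c * z b = c := fun c hc => by
    rw [C.z_cent b hbR c (hB ▸ hc), mul_assoc, zz, mul_one]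
  have z₁ : ∀ c ∈ X y₁, z b * c * z b = c⁻¹ := fun c hc =>
    C.z_inv b hbR y₁ S.root₁ S.ne_b.1 S.ne_b.2 (by rw [form_comm]; exact S.b₁_neg.ne) c hc
  have z₁' : ∀ c ∈ X (-y₁), z b * c * z b = c⁻¹ := fun c hc =>
    C.z_inv b hbR (-y₁) S.root₁.neg (fun e => S.ne_b.2 (by rw [← e, neg_neg])) (fun e => S.ne_b.1 (neg_injective e))
      (by rw [form_comm]; exact sS.x₁_pos.ne') c hc
  have z₂ : ∀ c ∈ X y₂, z b * c * z b = c⁻¹ := fun c hc =>
    C.z_inv b hbR y₂ S.root₂ S.ne_b₂.1 S.ne_b₂.2 (by rw [form_comm]; exact S.b₂_pos.ne') c hc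
  -- `X_x^a ≤ N` for `a ∈ X (-y₁)`
  have key : ∀ a ∈ X (-y₁), ∀ u ∈ X x, a * u * a⁻¹ ∈ N := by
    intro a ha u hu
    by_cases ha1 : a = 1
    · rw [ha1, one_mul, inv_one, mul_one]; exact hxN hu
    obtain ⟨c₁, hc₁, c₂, hc₂, w, hw, ew⟩ := exists_refl_LL C.rgd S.root₁ ha ha1
    set k := c₁ * a * c₂ with hk
    have ewb : rep cs h w b = x := by rw [ew]; exact S.refl_b
    have ewy : rep cs h w y₁ = -y₁ := by
      rw [ew, cpr_self cs h S.root₁, two_smul]; abel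
    have hww : w * w = 1 := by
      apply rep_injective cs h
      refine LinearMap.ext fun v => ?_
      rw [rep_mul_apply, map_one, Module.End.one_apply, ew v, map_sub, map_smul, ewy, ew v]
      simp
    have hwi : w⁻¹ = w := inv_eq_of_mul_eq_one_left hww
    have hkk : k * k ∈ T := by
      have := hw.mul hw
      rw [hww] at this
      exact this.mem_of_one
    have hkz : z b * k = k * z b := by
      have h1 := Nodes.ClsNorm.conj_z C hw hbR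
      rw [ewb, hz] at h1
      calc z b * k = (k * z b * k⁻¹) * k := by rw [h1]
        _ = k * z b := by group
    have hki : ∀ v, IsRoot cs h v → ∀ e ∈ X v, k⁻¹ * e * k ∈ X (rep cs h w v) := by
      intro v hv e he
      have := C.rgd.conj_mem' hw hv he
      rwa [hwi] at this
    have hc₁' : k⁻¹ * c₁ * k ∈ X (-y₁) := by
      have := hki _ S.root₁ _ hc₁
      rwa [ewy] at this
    have hka : k = a * c₂ * (k⁻¹ * c₁ * k) := by
      have h1 : a * c₂ = c₁⁻¹ * k := by rw [hk]; group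
      rw [h1]; group
    have hac : a = k⁻¹ * c₁ * k := by
      refine eq_of_refl C hp hodd S.root₁.neg zz (C.z_T b hbR) z₁' (by rw [neg_neg]; exact z₁) hkk ?_ hkz ha
        (by rw [neg_neg]; exact hc₂) hc₁' hka
      intro e he
      have h1 := hki _ S.root₁.neg _ he
      rw [map_neg, ewy] at h1
      exact h1
    rw [← hac] at hka
    obtain ⟨c', hc', hcc⟩ : ∃ c' ∈ X y₁, c' * c' = c₂ := by
      have hod : Odd (orderOf c₂) := BDCore.odd_orderOf hp hodd (C.rgd.pgrp' S.root₁) hc₂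
      obtain ⟨l, hl⟩ := hod
      refine ⟨c₂ ^ (l + 1), pow_mem hc₂ _, ?_⟩
      rw [← pow_add]
      have h1 : l + 1 + (l + 1) = orderOf c₂ + 1 := by omega
      rw [h1, pow_succ, pow_orderOf_eq_one, one_mul]
    have e1 : a * c' * z b * (a * c')⁻¹ = k * z b := by
      have h1 : c' * z b * c'⁻¹ = c₂ * z b := by
        have h2 := z₁ _ (inv_mem hc')
        rw [inv_inv] at h2
        calc c' * z b * c'⁻¹ = c' * (z b * c'⁻¹ * z b) * (z b)⁻¹ := by group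
          _ = (c' * c') * z b := by rw [h2, zi]
          _ = _ := by rw [hcc]
      have h2 := z₁' _ (inv_mem ha)
      rw [inv_inv] at h2
      calc a * c' * z b * (a * c')⁻¹ = a * (c' * z b * c'⁻¹) * a⁻¹ := by group
        _ = a * c₂ * (z b * a⁻¹ * z b) * (z b)⁻¹ := by rw [h1]; group
        _ = a * c₂ * a * z b := by rw [h2, zi]
        _ = _ := by rw [← hka]
    have h3 := hstep (a * c') (by
      rw [e1, mul_assoc, zz, mul_one, hkz.symm, ← mul_assoc, zz, one_mul]) ⟨a, ha, c', hc', rfl⟩ u hu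
    have h4 : a * c' * u * (a * c')⁻¹ = a * u * a⁻¹ := by
      have h5 := x₁ u hu c' hc'
      calc a * c' * u * (a * c')⁻¹ = a * (c' * u) * c'⁻¹ * a⁻¹ := by group
        _ = a * (u * c') * c'⁻¹ * a⁻¹ := by rw [h5]
        _ = _ := by group
    rwa [h4] at h3
  -- the second step
  obtain ⟨u, hu, hu1⟩ : ∃ u ∈ X x, u ≠ 1 := by
    by_contra h0
    push Not at h0
    exact Nodes.StdConn.X_ne_bot C S.root ((Subgroup.eq_bot_iff_forall _).2 h0)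
  obtain ⟨c₁, hc₁, c₂, hc₂, w, hw, ew⟩ := exists_refl_LL C.rgd S.root.neg (b := u)
    (by rw [neg_neg]; exact hu) hu1
  set g := c₁ * u * c₂ with hg
  have ewy : rep cs h w (-y₁) = y₂ := by
    rw [map_neg, ew, cpr_neg_right cs h y₁ S.root, neg_smul, smul_neg, neg_neg, refl_x S, neg_neg]
  intro f hf
  have ha : g⁻¹ * f * g ∈ X (-y₁) := by
    have h0 := C.rgd.conj_mem' hw S.root₂ hf
    rwa [← ewy, rep_inv_apply] at h0
  obtain ⟨a, had⟩ : ∃ a, a = g⁻¹ * f * g := ⟨_, rfl⟩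
  rw [← had] at ha
  have hfa : f = g * a * g⁻¹ := by rw [had]; group
  -- `⁅a, u⁆ = v w'`
  obtain ⟨v, hv, w', hw', h2⟩ : ∃ v ∈ X y₂, ∃ w ∈ X b, ⁅a, u⁆ = v * w := by
    refine mem_sup_of_cm (fun a ha c hc => b₂ c hc a ha) ?_
    refine btw_le ?_ (C.rgd.comm (-y₁) x S.root₁.neg S.root sS.ne_b.1 sS.ne_b.2 a ha u hu)
    intro r hr
    rcases sS.btwn' hr with rfl | rfl
    · exact le_sup_left
    · exact le_sup_right
  have hvN : v ∈ N := by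
    have h3 : v = ⁅a, u⁆ * w'⁻¹ := by rw [h2]; group
    rw [h3, commutatorElement_def]
    exact mul_mem (mul_mem (key a ha u hu) (inv_mem (hxN hu))) (inv_mem (hbN hw'))
  have h3 : u * a * u⁻¹ = w'⁻¹ * v⁻¹ * a := by
    have h4 : (⁅a, u⁆)⁻¹ * a = u * a * u⁻¹ := by rw [commutatorElement_def]; group
    rw [← h4, h2]; group
  -- `c₁ v⁻¹ c₁⁻¹`
  obtain ⟨q₁, hq₁, q₂, hq₂, h5⟩ : ∃ q₁ ∈ X (-y₁), ∃ q₂ ∈ X b, ⁅c₁, v⁻¹⁆ = q₁ * q₂ := by
    refine mem_sup_of_cm (fun a ha c hc => b₁ c hc a ha) ?_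
    refine btw_le ?_ (C.rgd.comm (-x) y₂ S.root.neg S.root₂ (fun e => tS.ne_b.1 e.symm)
      (fun e => tS.ne_b.2 (by rw [e, neg_neg])) c₁ hc₁ v⁻¹ (inv_mem hv))
    intro r hr
    rcases tS.btwn' hr.symm with rfl | rfl
    · exact le_sup_left
    · exact le_sup_right
  obtain ⟨β, hβ, h6⟩ : ∃ β ∈ X b, q₁ * v⁻¹ = β * v⁻¹ * q₁ := by
    refine ⟨⁅q₁, v⁻¹⁆, ?_, by rw [commutatorElement_def]; group⟩
    have h7 := btw_le (K := X b) ?_ (C.rgd.comm (-y₁) y₂ S.root₁.neg S.root₂ sS.ne₁ sS.ne₂ q₁ hq₁ v⁻¹ (inv_mem hv))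
    · exact h7
    · intro r hr
      rw [sS.btwn hr]
  have h7 : c₁ * v⁻¹ * c₁⁻¹ = q₁ * q₂ * v⁻¹ := by
    rw [← h5, commutatorElement_def]; group
  have h8 : c₁ * a * c₁⁻¹ = a := by
    rw [← x₁' c₁ hc₁ a ha]; group
  have h9 : c₁ * w'⁻¹ * c₁⁻¹ = w'⁻¹ := by
    rw [← xb' c₁ hc₁ _ (inv_mem hw')]; group
  have h10 : f = w'⁻¹ * (q₁ * q₂ * v⁻¹) * a := by
    have h11 : c₂ * a * c₂⁻¹ = a := by
      rw [← x₁' c₂ hc₂ a ha]; group
    calc f = c₁ * (u * (c₂ * a * c₂⁻¹) * u⁻¹) * c₁⁻¹ := by rw [hfa, hg]; group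
      _ = c₁ * (w'⁻¹ * v⁻¹ * a) * c₁⁻¹ := by rw [h11, h3]
      _ = (c₁ * w'⁻¹ * c₁⁻¹) * (c₁ * v⁻¹ * c₁⁻¹) * (c₁ * a * c₁⁻¹) := by group
      _ = _ := by rw [h7, h8, h9]
  obtain ⟨V, hVd⟩ : ∃ V, V = w'⁻¹ * q₂ * β := ⟨_, rfl⟩
  have hV : V ∈ X b := by rw [hVd]; exact mul_mem (mul_mem (inv_mem hw') hq₂) hβ
  have h11 : v * f = V * (q₁ * a) := by
    have h12 : q₁ * q₂ = q₂ * q₁ := b₁ q₂ hq₂ q₁ hq₁
    have h13 : v * V = V * v := b₂ V hV v hv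
    calc v * f = v * (w'⁻¹ * ((q₁ * q₂) * v⁻¹) * a) := by rw [h10]
      _ = v * (w'⁻¹ * q₂ * (q₁ * v⁻¹) * a) := by rw [h12]; group
      _ = (v * (w'⁻¹ * q₂ * β)) * v⁻¹ * q₁ * a := by rw [h6]; group
      _ = (V * v) * v⁻¹ * q₁ * a := by rw [← hVd, h13]
      _ = _ := by group
  have hQ : q₁ * a ∈ X (-y₁) := mul_mem hq₁ ha
  have he : v * f ∈ X y₂ := mul_mem hv hf
  have h12 : (v * f)⁻¹ = V * (q₁ * a)⁻¹ := by
    rw [← z₂ _ he, h11]
    calc z b * (V * (q₁ * a)) * z b = (z b * V) * 1 * (q₁ * a) * z b := by group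
      _ = (z b * V) * (z b * z b) * (q₁ * a) * z b := by rw [zz]
      _ = (z b * V * z b) * (z b * (q₁ * a) * z b) := by group
      _ = _ := by rw [zb V hV, z₁' _ hQ]
  have h13 : V * V = 1 := by
    have h14 : (q₁ * a) * V = V * (q₁ * a) := b₁ V hV _ hQ
    calc V * V = V * (V * (q₁ * a)) * (q₁ * a)⁻¹ := by group
      _ = V * ((q₁ * a) * V) * (q₁ * a)⁻¹ := by rw [h14]
      _ = (V * (q₁ * a)) * (V * (q₁ * a)⁻¹) := by group
      _ = (v * f) * (v * f)⁻¹ := by rw [← h11, ← h12]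
      _ = 1 := mul_inv_cancel _
  have h14 : V = 1 := Nodes.ZRel.eq_one_of_inv C hp hodd S.rootb hV (eq_inv_of_mul_eq_one_left h13)
  rw [h14, one_mul] at h11
  have hne : y₂ ≠ -y₁ := fun e => sS.ne₁ e.symm
  have h15 : v * f ∈ (⊥ : Subgroup Y) := by
    rw [← Nodes.OppDec.X_inf_X C.rgd S.root₂ S.root₁.neg hne]
    exact ⟨he, by rw [h11]; exact hQ⟩
  have h16 : f = v⁻¹ := eq_inv_of_mul_eq_one_right (Subgroup.mem_bot.1 h15)
  rw [h16]
  exact inv_mem hvN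

section Chart

variable {G : Type*} [Group G] [Finite G] {Om : Set (Subgroup G)} {p : ℕ} {E : Subgroup G}

theorem rep_sr (c : Chart Om p E) (i j : c.I) :
    rep c.cs c.h (c.cs.simple i) (sr j) = sr j - c.A i j • sr i := by
  rw [rep_simple, refl_apply, Nodes.OrthRoot.pairing_sr]
  congr 1
  funext k
  rw [Pi.smul_apply, sr, Pi.single_apply, Pi.single_apply]
  split_ifs <;> simp

/-- The roots of `B_2`. -/
theorem sq_two (c : Chart Om p E) {j₀ j₁ : c.I} (h1 : c.A j₁ j₀ = -1) (h2 : c.A j₀ j₁ = -2) :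
    rep c.cs c.h (c.cs.simple j₀) (sr j₁) = sr j₁ + (2 : ℤ) • sr j₀ ∧
      Sq c.cs c.h 2 (sr j₁) (sr j₁ + (2 : ℤ) • sr j₀) (sr j₀ + sr j₁) (sr j₀) := by
  have e1 : rep c.cs c.h (c.cs.simple j₀) (sr j₁) = sr j₁ + (2 : ℤ) • sr j₀ := by
    rw [rep_sr, h2]; module
  have e2 : rep c.cs c.h (c.cs.simple j₁) (sr j₀) = sr j₀ + sr j₁ := by
    rw [rep_sr, h1]; module
  refine ⟨e1, by norm_num, isRoot_sr _ _ _, ?_, ?_, isRoot_sr _ _ _, ?_, ?_, ?_, ?_⟩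
  · rw [← e1]; exact (isRoot_sr _ _ _).act _
  · rw [← e2]; exact (isRoot_sr _ _ _).act _
  · have h3 := Nodes.OrthRoot.two_form_sr c.cs c.h j₁ j₀
    rw [h1] at h3
    rw [form_add_right, form_smul_right, form_comm c.cs c.h (sr j₁) (sr j₀)]
    linarith
  · rw [← e1, form_rep]
  · module
  · module

/-- **Generation in type `B_2`**. -/
theorem gen_two (hyp : Hyp Om) (c : Chart Om p E) {j₀ j₁ : c.I} (hI : ∀ i, i = j₀ ∨ i = j₁) (hne : j₀ ≠ j₁)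
    (h1 : c.A j₁ j₀ = -1) (h2 : c.A j₀ j₁ = -2) (hg : sr j₀ ∈ c.R) (hZX : ∀ r ∈ c.R, c.Z r = c.X r) {d : c.I → ℤ}
    (hd : d = sr j₀ + sr j₁) (hz : c.z d = c.z (sr j₀)) {N : Subgroup G}
    (hJ : c.Z (sr j₀) ⊔ c.Z (-sr j₀) ≤ N) (hJ' : c.Z d ⊔ c.Z (-d) ≤ N)
    (hN : ∀ U V, Nodes.StdConn.AdjK Om E U V → U ≤ N → V ≤ N) : E ≤ N := by
  have hnt : Nontrivial c.I := ⟨⟨j₀, j₁, hne⟩⟩
  obtain ⟨e1, S⟩ := sq_two c h1 h2
  rw [← hd] at S
  have hdR : d ∈ c.R := by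
    have h3 := c.cls.act _ hg (c.cs.simple j₁)
    have e2 : rep c.cs c.h (c.cs.simple j₁) (sr j₀) = sr j₀ + sr j₁ := by
      rw [rep_sr, h1]; module
    rwa [e2, ← hd] at h3
  have hdR' := Cfsg.Agent.Nodes.ClsNorm.neg_mem c.cls hdR
  have hgR' := Cfsg.Agent.Nodes.ClsNorm.neg_mem c.cls hg
  have xd : c.X d ≤ N := by rw [← hZX d hdR]; exact le_sup_left.trans hJ'
  have xd' : c.X (-d) ≤ N := by rw [← hZX _ hdR']; exact le_sup_right.trans hJ'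
  have xg : c.X (sr j₀) ≤ N := by rw [← hZX _ hg]; exact le_sup_left.trans hJ
  have xg' : c.X (-sr j₀) ≤ N := by rw [← hZX _ hgR']; exact le_sup_right.trans hJ
  have hy₂ : c.X (sr j₁ + (2 : ℤ) • sr j₀) ≤ N := by
    refine le_of_step c.cls c.prime c.odd S hdR hg hdR' (hZX _ hdR).symm (hZX _ hdR').symm (hZX _ hg).symm hz xd xg
      ?_
    rintro k hk ⟨a, ha, b, hb, rfl⟩ u hu
    have hkE : a * b ∈ E := mul_mem (Nodes.StdConn.X_le c S.root₁.neg ha) (Nodes.StdConn.X_le c S.root₁ hb)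
    have hKd : c.Z d ⊔ c.Z (-d) ≤ E := Nodes.StdConn.K_le c hdR
    have hzz := BDChart.zz_eq hyp c hnt hdR
    have h3 : cj (a * b) (c.Z d ⊔ c.Z (-d)) ≤ N := by
      refine hN _ _ ⟨⟨c.om d hdR, hKd⟩, ⟨hyp.conj _ (c.om d hdR) _, BDTwin.cj_le_of_mem hKd hkE⟩, ?_⟩ hJ'
      rw [hyp.zz_cj (c.om d hdR), hzz, hz]
      exact hk.symm
    refine h3 (Cit.conj_mem_cj ?_)
    rw [← hZX d hdR] at hu
    exact Subgroup.mem_sup_left hu
  have hy₁ : c.X (sr j₁) ≤ N := by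
    obtain ⟨m, hm, hmr⟩ := BDCore.exists_m c.cls.rgd j₀
    have h3 : m ∈ N := (sup_le xg xg') hm
    have h4 := BDChart.cj_X c hmr S.root₂
    rw [← e1, ← rep_mul_apply, c.cs.simple_mul_simple_self, map_one, Module.End.one_apply] at h4
    rw [← h4, e1]
    exact BDTwin.cj_le_of_mem hy₂ h3
  have hy₁' : c.X (-sr j₁) ≤ N := by
    obtain ⟨u, hu, hu1⟩ : ∃ u ∈ c.X d, u ≠ 1 := by
      by_contra h0
      push Not at h0
      exact Nodes.StdConn.X_ne_bot c.cls S.root ((Subgroup.eq_bot_iff_forall _).2 h0)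
    obtain ⟨c₁, hc₁, c₂, hc₂, w, hw, ew⟩ := exists_refl_LL c.cls.rgd S.root.neg (b := u)
      (by rw [neg_neg]; exact hu) hu1
    have ewy : rep c.cs c.h w (-sr j₁) = sr j₁ + (2 : ℤ) • sr j₀ := by
      rw [map_neg, ew, cpr_neg_right c.cs c.h (sr j₁) S.root, neg_smul, smul_neg, neg_neg, refl_x S, neg_neg]
    have h3 : c₁ * u * c₂ ∈ N := mul_mem (mul_mem (xd' hc₁) (xd hu)) (xd' hc₂)
    have h4 := BDChart.cj_X c hw.inv S.root₂
    rw [← ewy, rep_inv_apply] at h4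
    rw [← h4, ewy]
    exact BDTwin.cj_le_of_mem hy₂ (inv_mem h3)
  refine BDEnd.le_of_simple c (fun i => ?_) (fun i => ?_)
  · rcases hI i with rfl | rfl
    · exact xg
    · exact hy₁
  · rcases hI i with rfl | rfl
    · exact xg'
    · exact hy₁'

end Chart

end Cfsg.Agent.Cit.BDConn
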