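import Mathlib
import Cfsg.Agent.Cit.BDPiece

/-!
# The piece of `C(z_K z_J)` contains the four groups (project CIT, types `B_n`, `²D_{n+1}`, `D_n`)

* `zz_central` : if `PN Om J U`, `U ≤ F`, `[z_U, z_K] = 1` then `z_U` centralises `E`;
* `excl` : the case `K ≤ L`, `J, J' ≰ L` is impossible;
* `all_le` : `K, K', J, J' ≤ L`.
-/

set_option autoImplicit false
set_option linter.unusedSectionVars false

namespace Cfsg.Agent.Cit.BDExcl

open CoxeterSystem Cfsg.Agent.ChevalleyStructure.CoxeterGeom Cfsg.Agent.Tits.Roots Cfsg.Agent.Tits.Core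
  Cfsg.Agent.Nodes.Comb Cfsg.Agent.Nodes.Reps Cfsg.Agent.Nodes.BNOf Cfsg.Agent.Nodes.RGDLib
  Cfsg.Agent.Nodes.Chart Cfsg.Agent.Nodes.ClsNorm Cfsg.Agent.Nodes.Bruhat Cfsg.Agent.Nodes.Coroot
  Cfsg.Agent.Nodes.StdConn
  Cfsg.Agent.Cit.BDTwin Cfsg.Agent.Cit.BDCore Cfsg.Agent.Cit.BDChart Cfsg.Agent.Cit.TypeDet
  Cfsg.Agent.Cit.BDPiece Cfsg.Agent.Cit.BDNorm
open Relation

variable {G : Type*} [Group G] [Finite G] {Om : Set (Subgroup G)} {p : ℕ} {K K' E J J' F : Subgroup G}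
  {F' : Type*} [Field F'] [Fintype F'] {c : Chart Om p E} {j₀ : c.I} {d : c.I → ℤ}

/-- `z_U` centralises `E`. -/
theorem zz_central (C : Cfg Om p F' K K' E J J' F c (sr j₀) d) (hcl : Core.Closes c.cs c.h (sr j₀) d j₀)
    {U : Subgroup G} (hU : U ∈ Om) (hUF : U ≤ F) (hPN : PN Om J U) (hz : zz U * zz K = zz K * zz U) :
    ∀ x ∈ E, zz U * x = x * zz U := by
  have : Fact p.Prime := ⟨c.prime⟩
  have hGG : GG c.cs c.h c.T c.X = E := FrameOf.GG_eq c
  have hg := C.rg
  have hd := C.rd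
  have hg' := Cfsg.Agent.Nodes.ClsNorm.neg_mem c.cls hg
  have hd' := Cfsg.Agent.Nodes.ClsNorm.neg_mem c.cls hd
  have hzU := C.hyp.zz_mem hU
  have hUJ : ∀ b ∈ J, zz U * b = b * zz U := fun b hb => (C.two.tJ.cm_E b hb _ (hUF hzU)).symm
  have hUJ' : ∀ b ∈ J', zz U * b = b * zz U := fun b hb => (C.two.tJ.cm_E' b hb _ (hUF hzU)).symm
  have hnor : ∀ {P : Subgroup G}, (∀ b ∈ P, zz U * b = b * zz U) → zz U ∈ Subgroup.normalizer (P : Set G) :=
    fun h => Cit.mem_normalizer_iff_cj.2 (cj_of_comm h)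
  have hgJ : ∀ b ∈ c.Z (sr j₀), zz U * b = b * zz U := fun b hb =>
    hUJ b (by rw [C.eJ]; exact Subgroup.mem_sup_left hb)
  have hgJ' : ∀ b ∈ c.Z (-sr j₀), zz U * b = b * zz U := fun b hb =>
    hUJ b (by rw [C.eJ]; exact Subgroup.mem_sup_right hb)
  have hdJ : ∀ b ∈ c.Z d, zz U * b = b * zz U := fun b hb =>
    hUJ' b (by rw [C.eJ']; exact Subgroup.mem_sup_left hb)
  have hdJ' : ∀ b ∈ c.Z (-d), zz U * b = b * zz U := fun b hb =>
    hUJ' b (by rw [C.eJ']; exact Subgroup.mem_sup_right hb)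
  have haE : zz U ∈ Subgroup.normalizer (GG c.cs c.h c.T c.X : Set G) := by
    rw [hGG]
    exact Cit.mem_normalizer_iff_cj.2
      (C.two.tK.cj_zz C.two.am C.two.bE (Subgroup.mem_centralizer_singleton_iff.2 hz)).2
  have hJc : J ≤ Subgroup.centralizer {zz U * zz J} := by
    intro b hb
    rw [Subgroup.mem_centralizer_singleton_iff, ← mul_assoc, ← hUJ b hb, mul_assoc, mul_assoc,
      Subgroup.mem_centralizer_singleton_iff.1 (C.hyp.le_centralizer C.two.tJ.mem hb)]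
  -- the key
  have key : ∀ r₂, (r₂ = sr j₀ ∨ r₂ = -sr j₀) → ∀ x ∈ GG c.cs c.h c.T c.X,
      (∀ u ∈ c.Z r₂, x * u = u * x) → x * (zz U * zz J) = zz U * zz J * x → x * zz J = zz J * x := by
    intro r₂ hr₂ x _ hxr hxz
    have hM := C.hyp.conj J C.two.tJ.mem x
    have hMt : cj x J ≤ Subgroup.centralizer {zz J * zz U} := by
      have e : zz J * zz U = zz U * zz J := (hUJ _ (C.hyp.zz_mem C.two.tJ.mem)).symm
      have h1 := Cit.cj_mono x hJc
      rw [Cit.cj_centralizer, hxz, mul_inv_cancel_right] at h1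
      rw [e]; exact h1
    rcases hPN _ hM hMt with h1 | h1
    · exact C.hyp.comm_zz C.two.tJ.mem (Cit.mem_normalizer_iff_cj.2 h1)
    · exfalso
      have hr₂J : c.Z r₂ ≤ J := by
        rw [C.eJ]
        rcases hr₂ with rfl | rfl
        · exact le_sup_left
        · exact le_sup_right
      have hr₂M : c.Z r₂ ≤ cj x J := by
        have := Cit.cj_mono x hr₂J
        rwa [cj_of_comm hxr] at this
      have hcm : cm (c.Z r₂) J := cm_mono hr₂M le_rfl h1
      have hp1 : IsPGroup p (c.Z (sr j₀)) := (c.cls.rgd.pgrp' (isRoot_sr _ _ _)).to_le (c.cls.le _ hg)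
      have hp2 : IsPGroup p (c.Z (-sr j₀)) := (c.cls.rgd.pgrp' (isRoot_sr _ _ _).neg).to_le (c.cls.le _ hg')
      apply c.cls.notp _ hg
      have h2 : cm (c.Z (sr j₀)) (c.Z (-sr j₀)) := by
        rcases hr₂ with rfl | rfl
        · exact cm_mono le_rfl (by rw [C.eJ]; exact le_sup_right) hcm
        · exact cm_symm (cm_mono le_rfl (by rw [C.eJ]; exact le_sup_left) hcm)
      refine IsPGroup.to_sup_of_normal_right' hp1 hp2 fun a ha => ?_
      exact Cit.mem_normalizer_iff_cj.2 (cj_of_comm fun b hb => h2 a ha b hb)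
  have haJ : zz U * zz J = zz J * zz U := hUJ _ (C.hyp.zz_mem C.two.tJ.mem)
  have hpos : ∀ y, IsRoot c.cs c.h y → 0 < form c.cs c.h y d → form c.cs c.h y (sr j₀) < 0 →
      ∀ u ∈ c.X y, zz U * u = u * zz U := by
    intro y hy h1 h2
    refine commute_of_cent c.cls c.odd (ζ := zz J) hd hg' ?_ C.z_d ?_ (C.hyp.zz_mul hU) haJ haE
      (hnor hdJ) (hnor hgJ') ?_ hy h1 ?_
    · rw [form_neg_right, form_comm, C.orth, neg_zero]
    · rw [c.cls.z_neg _ hg, C.z_g]
    · intro x hx _ _ hxg hxz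
      exact key _ (Or.inr rfl) x hx hxg hxz
    · rw [form_neg_right]; omega
  have hneg : ∀ y, IsRoot c.cs c.h y → form c.cs c.h y d < 0 → 0 < form c.cs c.h y (sr j₀) →
      ∀ u ∈ c.X y, zz U * u = u * zz U := by
    intro y hy h1 h2
    refine commute_of_cent c.cls c.odd (ζ := zz J) hd' hg ?_ ?_ C.z_g (C.hyp.zz_mul hU) haJ haE
      (hnor hdJ') (hnor hgJ) ?_ hy ?_ h2
    · rw [form_neg_left, form_comm, C.orth, neg_zero]
    · rw [c.cls.z_neg _ hd, C.z_d]
    · intro x hx _ _ hxg hxz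
      exact key _ (Or.inl rfl) x hx hxg hxz
    · rw [form_neg_right]; omega
  have hS := hcl {y | ∀ u ∈ c.X y, zz U * u = u * zz U} (fun y hy h1 h2 => by
    refine ⟨hpos y hy h1 h2, hneg _ hy.neg ?_ ?_⟩
    · rw [form_neg_left]; omega
    · rw [form_neg_left]; omega) (fun i h1 h2 y hy h3 => BDChart.commute_refl c h1 h2 hy h3)
  refine commute_all c (fun j => ?_) (fun j => ?_)
  · by_cases hj : j = j₀
    · subst hj
      rw [← C.ZX _ hg]; exact hgJ
    · exact (hS j hj).1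
  · by_cases hj : j = j₀
    · subst hj
      rw [← C.ZX _ hg']; exact hgJ'
    · exact (hS j hj).2

/-- Members of `F` commuting with `E` are twins with the same partner `E`. -/
theorem cfg_of_cm (C : Cfg Om p F' K K' E J J' F c (sr j₀) d) {U : Subgroup G} (hU : U ∈ Om) (hUF : U ≤ F)
    (hcm : cm U E) : ∃ U', Cfg Om p F' U U' E J J' F c (sr j₀) d := by
  obtain ⟨x, hx, e⟩ := C.two.bF.trans K C.two.tK.mem C.two.K_le U hU hUF
  have t := C.two.tK.cj C.two.am x
  rw [← e] at t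
  have hzU : zz U = zz (cj x K') := by
    rw [e, C.hyp.zz_cj C.two.tK.mem, C.hyp.zz_cj C.two.tK.mem', C.zK]
  have hle : E ≤ cj x E := by
    refine C.two.bE.le fun L hL hLE => ?_
    rcases t.of_cm L hL (cm_symm (cm_mono le_rfl hLE hcm)) with h1 | h1
    · exfalso
      refine C.two.bE.not_central hL hLE fun y hy => ?_
      rw [h1, ← hzU]
      exact (hcm _ (C.hyp.zz_mem hU) y hy).symm
    · exact h1
  have he : E = cj x E := Subgroup.eq_of_le_of_card_ge hle (by rw [card_cj])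
  rw [← he] at t
  exact ⟨_, ⟨⟨C.two.am, t, C.two.tJ, C.two.bE, C.two.bF, C.two.JE, C.two.J'E⟩, C.nt, C.rg, C.rd, C.orth, C.eJ,
    C.eJ', hzU, C.zJ, C.sl⟩⟩

theorem adjK_conj (hyp : Hyp Om) {L U V : Subgroup G} (g : G) (h : AdjK Om L U V) :
    AdjK Om (cj g L) (cj g U) (cj g V) := by
  obtain ⟨⟨h1, h2⟩, ⟨h3, h4⟩, h5⟩ := h
  refine ⟨⟨hyp.conj U h1 g, Cit.cj_mono g h2⟩, ⟨hyp.conj V h3 g, Cit.cj_mono g h4⟩, ?_⟩
  rw [hyp.zz_cj h1, hyp.zz_cj h3, conj_mul_eq, conj_mul_eq, h5]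

variable [IsSimpleGroup G]

/-- The generation property used in the split case. -/
def Gen (Om : Set (Subgroup G)) (E J J' : Subgroup G) : Prop :=
  ∀ N : Subgroup G, J ≤ N → J' ≤ N → (∀ U V, AdjK Om E U V → U ≤ N → V ≤ N) → E ≤ N

omit [Finite G] [IsSimpleGroup G] in
/-- Connectivity implies generation. -/
theorem gen_of_conn (bE : Big Om E) (hJ : J ∈ Om) (hJE : J ≤ E)
    (hconn : ∀ U ∈ Om, U ≤ E → ∀ V ∈ Om, V ≤ E → ReflTransGen (AdjK Om E) U V) : Gen Om E J J' := by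
  intro N h1 _ h2
  refine bE.le fun V hV hVE => ?_
  have h3 := hconn J hJ hJE V hV hVE
  clear hV hVE
  induction h3 with
  | refl => exact h1
  | tail _ h ih => exact h2 _ _ h ih

/-- **The split case.** -/
theorem excl (C : Cfg Om p F' K K' E J J' F c (sr j₀) d) (hcl : Core.Closes c.cs c.h (sr j₀) d j₀)
    (hclose : CloseW Om) (hgen : Gen Om E J J') (hPN : PN Om J K) : False := by
  have key : ∀ U V, AdjK Om F U V → cm U E → cm V E := by
    rintro U V ⟨⟨hU, hUF⟩, ⟨hV, hVF⟩, hz⟩ hcm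
    obtain ⟨U', C'⟩ := cfg_of_cm C hU hUF hcm
    have hPNV : PN Om J V := C.two.symm.pn_of_le hPN hV hVF
    have h1 := zz_central C' hcl hV hVF hPNV hz.symm
    refine cm_symm (C.two.bE.cm_of fun L hL hLE => ?_)
    have h2 : L ≤ Subgroup.centralizer {zz V} := fun x hx =>
      Subgroup.mem_centralizer_singleton_iff.2 (h1 x (hLE hx)).symm
    rcases C.two.am.f4 V hV L hL h2 with h3 | h3
    · exfalso
      refine C.two.bE.not_central hL hLE fun x hx => ?_
      rw [h3]; exact (h1 x hx).symm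
    · exact h3
  obtain ⟨w, w1, w2, w3, w4, w5, w6⟩ := C.two.exists_swap
  have hle : ∀ U : Subgroup G, U ≤ cj w⁻¹ (Subgroup.centralizer (E : Set G)) ↔ cm (cj w U) E := by
    intro U
    rw [cm_iff_le_centralizer]
    constructor
    · intro h
      have := Cit.cj_mono w h
      rwa [Cit.cj_cj_inv] at this
    · intro h
      have := Cit.cj_mono w⁻¹ h
      rwa [Cit.cj_inv_cj] at this
  have h1 := (hle E).1 (hgen _ ((hle J).2 (by rw [w2]; exact C.two.tK.cm_E)) ((hle J').2 (by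
    rw [w4]; exact C.two.tK.cm_E')) fun U V hUV hU => by
      have h2 := adjK_conj C.hyp w hUV
      rw [w5] at h2
      exact (hle V).2 (key _ _ h2 ((hle U).1 hU)))
  rw [w5] at h1
  exact C.two.not_split C.zK C.zJ hPN hclose (cm_symm h1)

omit [IsSimpleGroup G] in
/-- `PN` if `J` is not in the piece of `K`. -/
theorem pn_of_not_le (H : Two Om K K' E J J' F) {L : Subgroup G} (P : FrameOf.Piece Om (zz K * zz J) L)
    (hK : K ≤ L) (hJ : ¬ J ≤ L) (hJ' : ¬ J' ≤ L) : PN Om K J := by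
  have hJt : ∀ a ∈ J, a * (zz K * zz J) = zz K * zz J * a := by
    intro a ha
    have h1 := H.tK.cm_E _ (H.am.hyp.zz_mem H.tK.mem) a (H.JE ha)
    have h2 := Subgroup.mem_centralizer_singleton_iff.1 (H.am.hyp.le_centralizer H.tJ.mem ha)
    rw [← mul_assoc, ← h1, mul_assoc, h2, mul_assoc]
  intro M hM hMt
  have hMt' : ∀ a ∈ M, a * (zz K * zz J) = zz K * zz J * a := fun a ha =>
    Subgroup.mem_centralizer_singleton_iff.1 (hMt ha)
  rcases P.mem M hM hMt' with h1 | h1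
  · have hcm : cm M J := by
      rcases P.mem J H.tJ.mem hJt with h2 | h2
      · exact absurd h2 hJ
      · exact fun a ha b hb => h2 a (h1 ha) b hb
    rcases H.symm.four hM (by rwa [← H.zz_comm]) hcm with h2 | h2 | h2 | ⟨h2, h3⟩
    · exact absurd (h2 ▸ h1) hJ'
    · exact Or.inl h2
    · right; rw [h2]; exact cm_symm H.tK.cm_twin
    · right; exact cm_symm (cm_mono le_rfl h3 H.tK.cm_E)
  · right
    exact fun a ha b hb => (h1 b (hK hb) a ha).symm

omit [IsSimpleGroup G] in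
/-- The four groups lie in `L` if `K` and `J` do. -/
theorem four_le (H : Two Om K K' E J J' F) (zK : zz K = zz K') (zJ : zz J = zz J') {L : Subgroup G}
    (P : FrameOf.Piece Om (zz K * zz J) L) (hK : K ≤ L) (hJ : J ≤ L ∨ J' ≤ L) : ∀ i, kf K K' J J' i ≤ L := by
  have hfix : ∀ y, y * (zz K * zz J) = zz K * zz J * y → ∀ M ∈ Om, M ≤ L → cj y M = M → cj y L = L := by
    intro y hy M hM hML h1
    rcases P.norm y hy with h2 | h2
    · exact h2
    · exfalso
      have h3 : M ≤ cj y L := by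
        have := Cit.cj_mono y hML
        rwa [h1] at this
      exact not_cm_self H.am.hyp hM fun a ha b hb => h2 a (hML ha) b (h3 hb)
  have hzt : ∀ y, y * zz K = zz K * y → y * zz J = zz J * y → y * (zz K * zz J) = zz K * zz J * y := by
    intro y h1 h2
    rw [← mul_assoc, h1, mul_assoc, h2, mul_assoc]
  -- the swap of `J` and `J'`
  have hJJ : J ≤ L ∧ J' ≤ L := by
    obtain ⟨y, hy, e⟩ := H.bE.trans J H.tJ.mem H.JE J' H.tJ.mem' H.J'E
    have t := H.tJ.cj H.am y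
    rw [← e] at t
    obtain ⟨e2, -⟩ := t.unique H.am H.tJ.symm (H.bF.cj H.am.hyp y) H.bF
    have hyK : cj y K = K := cj_of_cm H.tK.cm_E hy
    have h1 : y * zz K = zz K * y := H.am.hyp.comm_zz H.tK.mem (Cit.mem_normalizer_iff_cj.2 hyK)
    have h2 : y * zz J = zz J * y := by
      have h3 := H.am.hyp.zz_cj H.tJ.mem y
      rw [← e, ← zJ] at h3
      nth_rw 2 [h3]
      group
    have h4 := hfix y (hzt y h1 h2) K H.tK.mem hK hyK
    have h5 : J ≤ L → J' ≤ L := fun h => by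
      rw [e, ← h4]; exact Cit.cj_mono y h
    have h6 : J' ≤ L → J ≤ L := fun h => by
      rw [← e2, ← h4]; exact Cit.cj_mono y h
    rcases hJ with h | h
    · exact ⟨h, h5 h⟩
    · exact ⟨h6 h, h⟩
  have hKK : K' ≤ L := by
    obtain ⟨y, hy, e⟩ := H.bF.trans K H.tK.mem H.K_le K' H.tK.mem' H.K'_le
    have hyJ : cj y J = J := cj_of_cm H.tJ.cm_E hy
    have h1 : y * zz J = zz J * y := H.am.hyp.comm_zz H.tJ.mem (Cit.mem_normalizer_iff_cj.2 hyJ)
    have h2 : y * zz K = zz K * y := by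
      have h3 := H.am.hyp.zz_cj H.tK.mem y
      rw [← e, ← zK] at h3
      nth_rw 2 [h3]
      group
    have h4 := hfix y (hzt y h2 h1) J H.tJ.mem hJJ.1 hyJ
    rw [e, ← h4]; exact Cit.cj_mono y hK
  exact kf_cases (P := fun M => M ≤ L) hK hKK hJJ.1 hJJ.2

/-- **All four groups lie in `L`.** -/
theorem all_le (C : Cfg Om p F' K K' E J J' F c (sr j₀) d) (hcl : Core.Closes c.cs c.h (sr j₀) d j₀)
    (hclose : CloseW Om) (hgen : Gen Om E J J') {L : Subgroup G} (P : FrameOf.Piece Om (zz K * zz J) L) (hK : K ≤ L) : ∀ i, kf K K' J J' i ≤ L := by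
  by_cases h1 : J ≤ L ∨ J' ≤ L
  · exact four_le C.two C.zK C.zJ P hK h1
  · exfalso
    rw [not_or] at h1
    exact excl C hcl hclose hgen (C.two.pn_symm (pn_of_not_le C.two P hK h1.1 h1.2))

end Cfsg.Agent.Cit.BDExcl
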