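import Mathlib
import Cfsg.Agent.Cit.BDPiece
import Cfsg.Agent.Cit.BDRoots
import Cfsg.Agent.Nodes.RKindsBC
import Cfsg.Agent.Nodes.RootKindsD

/-!
# The twin of `K_d` in the chart of `E` (project CIT, types `B_n`, `²D_{n+1}`, `D_n`)

* `exists_twin` : the twin of `K_d` is `K_r` for some `r ∈ R` orthogonal to `d` such that all roots `y ≠ ± r`
  orthogonal to `d` are orthogonal to `r`;
* `twin_C`, `twin_D` : `r = ± g`.
-/

set_option autoImplicit false
set_option linter.unusedSectionVars false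

namespace Cfsg.Agent.Cit.BDLabel

open CoxeterSystem Cfsg.Agent.ChevalleyStructure.CoxeterGeom Cfsg.Agent.Tits.Roots Cfsg.Agent.Tits.Core
  Cfsg.Agent.Nodes.Comb Cfsg.Agent.Nodes.Reps Cfsg.Agent.Nodes.BNOf Cfsg.Agent.Nodes.RGDLib
  Cfsg.Agent.Nodes.Chart Cfsg.Agent.Nodes.ClsNorm Cfsg.Agent.Nodes.Bruhat Cfsg.Agent.Nodes.Coroot
  Cfsg.Agent.Cit.BDTwin Cfsg.Agent.Cit.BDCore Cfsg.Agent.Cit.BDChart Cfsg.Agent.Cit.TypeDet
  Cfsg.Agent.Cit.BDPiece
open Cfsg.Agent.Cit.FrameOf (Dat Adapted conjChart)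
open Cfsg.Agent.Cit.ParabSL2 (root rootOp exists_equiv_pair)

section Twin

variable {G : Type*} [Group G] [Finite G] {Om : Set (Subgroup G)} {p : ℕ} {K K' E : Subgroup G}
  {F' : Type*} [Field F'] [Fintype F'] [CharP F' p]

/-- A twin of a member of `E` lies in `E`. -/
theorem twin_le (am : Amb Om) (t : Tw Om K K' E) (bE : Big Om E) {J J₁ F : Subgroup G} (tJ : Tw Om J J₁ F)
    (bF : Big Om F) (hJ : J ≤ E) : J₁ ≤ E := by
  have h1 : cm K J := cm_mono le_rfl hJ t.cm_E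
  have hKF : K ≤ F := by
    rcases tJ.of_cm K t.mem h1 with h2 | h2
    · exfalso
      subst h2
      obtain ⟨h3, -⟩ := tJ.symm.unique am t bF bE
      rw [h3] at hJ
      exact t.symm.not_le am hJ
    · exact h2
  rcases t.of_cm J₁ tJ.mem' (cm_symm (cm_mono hKF le_rfl (cm_symm tJ.cm_E'))) with h2 | h2
  · exfalso
    subst h2
    obtain ⟨h3, -⟩ := tJ.symm.unique am t.symm bF bE
    rw [h3] at hJ
    exact t.not_le am hJ
  · exact h2

/-- **The twin of `K_d`.** -/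
theorem exists_twin (am : Amb Om) (t : Tw Om K K' E) (c : Chart Om p E) (hnt : Nontrivial c.I)
    (sl : ∀ M ∈ Om, Nonempty (Matrix.SpecialLinearGroup (Fin 2) F' ≃* M)) {d : c.I → ℤ} (hd : d ∈ c.R) :
    ∃ r ∈ c.R, form c.cs c.h r d = 0 ∧
      (∀ y, IsRoot c.cs c.h y → y ≠ r → y ≠ -r → form c.cs c.h y d = 0 → form c.cs c.h y r = 0) ∧
      ∃ F, Tw Om (c.Z d ⊔ c.Z (-d)) (c.Z r ⊔ c.Z (-r)) F ∧ Big Om F := by
  have bE := big_of_chart am.hyp c hnt
  obtain ⟨x, hx, tJ⟩ := t.exists_tw am (c.om d hd)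
  have bF := bE.cj am.hyp x
  have hJE : c.Z d ⊔ c.Z (-d) ≤ E := Nodes.StdConn.K_le c hd
  have hJ₁E := twin_le am t bE tJ bF hJE
  generalize cj x K' = J₁ at tJ hJ₁E
  generalize cj x E = F at tJ bF
  clear hx
  set kk : Fin 2 → Subgroup G := ![c.Z d ⊔ c.Z (-d), J₁] with hkk
  have hE : E ∉ Om := fun h => bE.not_central h le_rfl fun u hu =>
    Subgroup.mem_centralizer_singleton_iff.1 (am.hyp.le_centralizer h hu)
  obtain ⟨e0⟩ := sl _ (c.om d hd)
  obtain ⟨e1⟩ := sl J₁ tJ.mem'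
  let e : ∀ i, Matrix.SpecialLinearGroup (Fin 2) F' ≃* kk i := fun i => match i with
    | 0 => e0
    | 1 => e1
  have D : Dat Om F' kk (fun i s => if s = 1 then root (e i) else rootOp (e i)) := by
    refine ⟨am.hyp, ?_, ?_, fun i => ⟨e i, if_pos rfl, if_neg (by decide)⟩⟩
    · intro i
      fin_cases i
      · exact c.om d hd
      · exact tJ.mem'
    · have h01 : cm (c.Z d ⊔ c.Z (-d)) J₁ := tJ.cm_twin
      intro i j hij
      fin_cases i <;> fin_cases j
      · exact absurd rfl hij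
      · exact h01
      · exact cm_symm h01
      · exact absurd rfl hij
  obtain ⟨y, hy, g, A⟩ := FrameOfFr.exists_adapted' c hE D
  have k0 : kk 0 ≤ E := hJE
  have k1 : kk 1 ≤ E := hJ₁E
  have g0 : g 0 ∈ c.R := A.mem 0 k0
  have g1 : g 1 ∈ c.R := A.mem 1 k1
  have hor : form c.cs c.h (g 0) (g 1) = 0 := A.orth 0 k0 1 k1 (by decide)
  have e0' : cj y (c.Z (g 0) ⊔ c.Z (-g 0)) = c.Z d ⊔ c.Z (-d) := by
    have h1 : cj y (c.Z (g 0)) = _ := A.pos 0 k0
    have h2 : cj y (c.Z (-g 0)) = _ := A.neg 0 k0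
    rw [Cit.cj_sup, h1, h2]
    exact (D.K_eq 0).symm
  have e1' : cj y (c.Z (g 1) ⊔ c.Z (-g 1)) = J₁ := by
    have h1 : cj y (c.Z (g 1)) = _ := A.pos 1 k1
    have h2 : cj y (c.Z (-g 1)) = _ := A.neg 1 k1
    rw [Cit.cj_sup, h1, h2]
    exact (D.K_eq 1).symm
  obtain ⟨w, hw⟩ := c.trans _ g0 d hd
  obtain ⟨n, hn⟩ := exists_rp c.cs c.cls.rgd.nsys w
  have hK : ∀ r ∈ c.R, cj n (c.Z r ⊔ c.Z (-r)) = c.Z (rep c.cs c.h w r) ⊔ c.Z (-rep c.cs c.h w r) := by
    intro r hr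
    rw [Cit.cj_sup, cj_Z c hn hr, cj_Z c hn (neg_mem c.cls hr), map_neg]
  have tJ' := tJ.cj am (n * y⁻¹)
  have bF' := bF.cj am.hyp (n * y⁻¹)
  rw [Cit.cj_mul, Cit.cj_mul, ← e0', ← e1', Cit.cj_inv_cj, Cit.cj_inv_cj, hK _ g0, hK _ g1, ← hw] at tJ'
  have hr₁ := c.cls.act _ g1 w
  refine ⟨rep c.cs c.h w (g 1), hr₁, ?_, ?_, _, tJ', bF'⟩
  · rw [hw, form_rep, form_comm]; exact hor
  · intro u hu h1 h2 h3
    by_contra h4
    obtain ⟨a, ha⟩ := Subgroup.ne_bot_iff_exists_ne_one.1 (Nodes.StdConn.X_ne_bot c.cls hu)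
    obtain ⟨a, haX⟩ := a
    have ha1 : a ≠ 1 := fun h => ha (Subtype.ext h)
    have h5 : cj a (c.Z d ⊔ c.Z (-d)) = c.Z d ⊔ c.Z (-d) :=
      cj_of_comm fun b hb => Nodes.Perp.X_cm_KK c.cls hd hu h3 a haX b hb
    have t2 := tJ'.cj am a
    rw [h5] at t2
    obtain ⟨h6, -⟩ := t2.unique am tJ' (bF'.cj am.hyp a) bF'
    have h7 := am.hyp.comm_zz (c.om _ hr₁) (Cit.mem_normalizer_iff_cj.2 h6)
    rw [BDChart.zz_eq am.hyp c hnt hr₁] at h7
    have h8 := c.cls.z_inv _ hr₁ u hu h1 h2 h4 a haX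
    rw [← h7, mul_assoc, c.cls.z_sq _ hr₁, mul_one] at h8
    refine ha1 (eq_one_of_odd (odd_orderOf c.prime c.odd (c.cls.rgd.pgrp' hu) haX) ?_)
    nth_rw 1 [h8]
    rw [inv_mul_cancel]

end Twin

/-! ### Coordinates -/

section Coord

open Cfsg.Agent.Nodes.TypeC (wt wt_apply ng wt_ng)
open Cfsg.Agent.Nodes.TypeCForm (ip ip_wt_right ip_add_right ip_add_left sn)

variable {m : ℕ} {i0 i1 : Fin m}

theorem ip_d (v : Fin m → ℤ) : ip v (wt (i0, true) + wt (i1, true)) = v i0 + v i1 := by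
  rw [ip_add_right, ip_wt_right, ip_wt_right]
  simp [sn]

theorem ip_g (v : Fin m → ℤ) : ip v (wt (i0, true) + wt (i1, false)) = v i0 - v i1 := by
  rw [ip_add_right, ip_wt_right, ip_wt_right]
  simp [sn]
  ring

theorem neg_g : -(wt (i0, true) + wt (i1, false)) = wt (i0, false) + wt (i1, true) := by
  rw [neg_add, ← wt_ng, ← wt_ng]
  rfl

theorem neg_d : -(wt (i0, true) + wt (i1, true)) = wt (i0, false) + wt (i1, false) := by
  rw [neg_add, ← wt_ng, ← wt_ng]
  rfl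

/-- Both indices in `{i0, i1}`. -/
theorem both {a b : Fin m × Bool} (hab : a.1 ≠ b.1) (ha : a.1 = i0 ∨ a.1 = i1) (hb : b.1 = i0 ∨ b.1 = i1) :
    wt a + wt b = wt (i0, true) + wt (i1, false) ∨ wt a + wt b = -(wt (i0, true) + wt (i1, false)) ∨
      wt a + wt b = wt (i0, true) + wt (i1, true) ∨ wt a + wt b = -(wt (i0, true) + wt (i1, true)) := by
  rw [neg_g, neg_d]
  obtain ⟨k, s⟩ := a
  obtain ⟨l, s'⟩ := b
  simp only at hab ha hb
  rcases ha with rfl | rfl <;> rcases hb with rfl | rfl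
  · exact absurd rfl hab
  · cases s <;> cases s'
    · exact Or.inr (Or.inr (Or.inr rfl))
    · exact Or.inr (Or.inl rfl)
    · exact Or.inl rfl
    · exact Or.inr (Or.inr (Or.inl rfl))
  · rw [add_comm (wt (k, s))]
    cases s <;> cases s'
    · exact Or.inr (Or.inr (Or.inr rfl))
    · exact Or.inl rfl
    · exact Or.inr (Or.inl rfl)
    · exact Or.inr (Or.inr (Or.inl rfl))
  · exact absurd rfl hab

theorem sn_ne (a : Fin m × Bool) : sn a ≠ 0 := by
  unfold sn; split_ifs <;> norm_num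

theorem wt_self (a : Fin m × Bool) : wt a a.1 = sn a := by rw [wt_apply, if_pos rfl, sn]

theorem wt_of_ne {a : Fin m × Bool} {k : Fin m} (h : k ≠ a.1) : wt a k = 0 := by rw [wt_apply, if_neg h]

/-- Exactly one index in `{i0, i1}`. -/
theorem not_one {a b : Fin m × Bool} (h01 : i0 ≠ i1) (ha : a.1 = i0 ∨ a.1 = i1) (hb : b.1 ≠ i0) (hb' : b.1 ≠ i1) :
    (wt a + wt b) i0 + (wt a + wt b) i1 ≠ 0 := by
  rw [Pi.add_apply, Pi.add_apply, wt_of_ne hb.symm, wt_of_ne hb'.symm]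
  rcases ha with h | h
  · rw [← h, wt_self, wt_of_ne (by rw [h]; exact h01.symm)]
    have := sn_ne a
    omega
  · rw [← h, wt_self, wt_of_ne (by rw [h]; exact h01)]
    have := sn_ne a
    omega

/-- The indices of a root orthogonal to `d`. -/
theorem cases_of_orth {a b : Fin m × Bool} (h01 : i0 ≠ i1) (hab : a.1 ≠ b.1)
    (h0 : (wt a + wt b) i0 + (wt a + wt b) i1 = 0) :
    (wt a + wt b = wt (i0, true) + wt (i1, false) ∨ wt a + wt b = -(wt (i0, true) + wt (i1, false))) ∨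
      (a.1 ≠ i0 ∧ a.1 ≠ i1 ∧ b.1 ≠ i0 ∧ b.1 ≠ i1) := by
  by_cases ha : a.1 = i0 ∨ a.1 = i1
  · by_cases hb : b.1 = i0 ∨ b.1 = i1
    · left
      rcases both hab ha hb with h | h | h | h
      · exact Or.inl h
      · exact Or.inr h
      · exfalso
        rw [h, Pi.add_apply, Pi.add_apply, wt_apply, wt_apply, wt_apply, wt_apply] at h0
        simp [h01, h01.symm] at h0
      · exfalso
        rw [h, Pi.neg_apply, Pi.neg_apply, Pi.add_apply, Pi.add_apply, wt_apply, wt_apply, wt_apply, wt_apply] at h0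
        simp [h01, h01.symm] at h0
    · rw [not_or] at hb
      exact absurd h0 (not_one h01 ha hb.1 hb.2)
  · rw [not_or] at ha
    by_cases hb : b.1 = i0 ∨ b.1 = i1
    · rw [add_comm (wt a)] at h0
      exact absurd h0 (not_one h01 hb ha.1 ha.2)
    · rw [not_or] at hb
      exact Or.inr ⟨ha.1, ha.2, hb.1, hb.2⟩

/-- A root not equal to `± g`, `± d` is orthogonal to both or to none of them. -/
theorem even_coord {a b : Fin m × Bool} (h01 : i0 ≠ i1) (hab : a.1 ≠ b.1 ∨ a = b)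
    (h1 : wt a + wt b ≠ wt (i0, true) + wt (i1, false)) (h2 : wt a + wt b ≠ -(wt (i0, true) + wt (i1, false)))
    (h3 : wt a + wt b ≠ wt (i0, true) + wt (i1, true)) (h4 : wt a + wt b ≠ -(wt (i0, true) + wt (i1, true))) :
    (wt a + wt b) i0 - (wt a + wt b) i1 = 0 ↔ (wt a + wt b) i0 + (wt a + wt b) i1 = 0 := by
  have key : (wt a + wt b) i0 = 0 ∨ (wt a + wt b) i1 = 0 := by
    rcases hab with hab | rfl
    · by_contra hcon
      rw [not_or] at hcon
      have hm : ∀ k, (wt a + wt b) k ≠ 0 → k = a.1 ∨ k = b.1 := by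
        intro k hk
        by_contra h5
        rw [not_or] at h5
        exact hk (by rw [Pi.add_apply, wt_of_ne h5.1, wt_of_ne h5.2, add_zero])
      have g0 := hm _ hcon.1
      have g1 := hm _ hcon.2
      have ha : a.1 = i0 ∨ a.1 = i1 := by
        rcases g0 with g0 | g0
        · exact Or.inl g0.symm
        · rcases g1 with g1 | g1
          · exact Or.inr g1.symm
          · exact absurd (g0.trans g1.symm) h01
      have hb : b.1 = i0 ∨ b.1 = i1 := by
        rcases g0 with g0 | g0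
        · rcases g1 with g1 | g1
          · exact absurd (g0.trans g1.symm) h01
          · exact Or.inr g1.symm
        · exact Or.inl g0.symm
      rcases both hab ha hb with h | h | h | h
      · exact h1 h
      · exact h2 h
      · exact h3 h
      · exact h4 h
    · by_contra hcon
      rw [not_or] at hcon
      have hm : ∀ k, (wt a + wt a) k ≠ 0 → k = a.1 := by
        intro k hk
        by_contra h5
        exact hk (by rw [Pi.add_apply, wt_of_ne h5, add_zero])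
      exact h01 ((hm _ hcon.1).trans (hm _ hcon.2).symm)
  rcases key with h | h <;> rw [h] <;> constructor <;> intro h' <;> omega

end Coord

/-! ### Type `B` -/

section TypeB

open Cfsg.Agent.Nodes.TypeC (wt ee isRoot_iff ee_injective isCartan ee_neg)
open Cfsg.Agent.Nodes.TypeCForm (ip form_eq_zero_iff)
open Cfsg.Agent.Nodes.KindBC (RB rt ee_rt root_RB isRoot_rt)

variable {m : ℕ} {W : Type*} [Group W] [Fintype W] (cs : CoxeterSystem (CoxeterMatrix.B m) W) {i0 i1 : Fin m}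
  (h01 : i0 ≠ i1) {g d : Fin m → ℤ} (hg : ee g = wt (i0, true) + wt (i1, false))
  (hd : ee d = wt (i0, true) + wt (i1, true))

include h01 hg hd

theorem twin_B {r : Fin m → ℤ} (hr : r ∈ RB m) (h0 : form cs (isCartan m) r d = 0)
    (h1 : ∀ y, IsRoot cs (isCartan m) y → y ≠ r → y ≠ -r → form cs (isCartan m) y d = 0 →
      form cs (isCartan m) y r = 0) : r = g ∨ r = -g := by
  have hdr : IsRoot cs (isCartan m) d := isRoot_iff.2 ⟨_, _, Or.inl h01, hd⟩
  obtain ⟨a, b, hab, he⟩ := hr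
  have hrr : IsRoot cs (isCartan m) r := isRoot_iff.2 ⟨_, _, Or.inl hab, he⟩
  rw [form_eq_zero_iff cs hdr, hd, he, ip_d] at h0
  rcases cases_of_orth h01 hab h0 with (h | h) | ⟨ha, ha', -, -⟩
  · left; apply ee_injective; rw [he, h, hg]
  · right; apply ee_injective; rw [he, h, ee_neg, hg]
  · exfalso
    have hev : ee (rt a a) a.1 = 2 * Cfsg.Agent.Nodes.TypeCForm.sn a := by
      rw [ee_rt, Pi.add_apply, wt_self]; ring
    have hrv : ee r a.1 = Cfsg.Agent.Nodes.TypeCForm.sn a := by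
      rw [he, Pi.add_apply, wt_self, wt_of_ne hab, add_zero]
    have hs := sn_ne a
    have h2 := h1 (rt a a) (isRoot_rt cs (Or.inr rfl)) ?_ ?_ ?_
    · rw [form_eq_zero_iff cs hrr, ee_rt, he, Nodes.TypeCForm.ip_add_right, Nodes.TypeCForm.ip_wt_right,
        Nodes.TypeCForm.ip_wt_right, Pi.add_apply, Pi.add_apply, wt_self, wt_of_ne hab.symm] at h2
      have h3 : Cfsg.Agent.Nodes.TypeCForm.sn a * Cfsg.Agent.Nodes.TypeCForm.sn a = 0 := by nlinarith
      exact hs (mul_self_eq_zero.1 h3)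
    · intro e
      rw [e, hrv] at hev
      omega
    · intro e
      rw [e, ee_neg, Pi.neg_apply, hrv] at hev
      omega
    · rw [form_eq_zero_iff cs hdr, hd, ee_rt, ip_d, Pi.add_apply, Pi.add_apply, wt_of_ne ha.symm,
        wt_of_ne ha'.symm]
      rfl

theorem even_B {y : Fin m → ℤ} (hy : IsRoot cs (isCartan m) y) (h1 : y ≠ g) (h2 : y ≠ -g) (h3 : y ≠ d)
    (h4 : y ≠ -d) : form cs (isCartan m) y g = 0 ↔ form cs (isCartan m) y d = 0 := by
  have hdr : IsRoot cs (isCartan m) d := isRoot_iff.2 ⟨_, _, Or.inl h01, hd⟩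
  have hgr : IsRoot cs (isCartan m) g := isRoot_iff.2 ⟨_, _, Or.inl h01, hg⟩
  obtain ⟨a, b, hab, he⟩ := isRoot_iff.1 hy
  rw [form_eq_zero_iff cs hdr, form_eq_zero_iff cs hgr, hd, hg, he, ip_d, ip_g]
  refine even_coord h01 hab ?_ ?_ ?_ ?_
  · intro h; exact h1 (ee_injective (by rw [he, h, hg]))
  · intro h; exact h2 (ee_injective (by rw [he, h, ee_neg, hg]))
  · intro h; exact h3 (ee_injective (by rw [he, h, hd]))
  · intro h; exact h4 (ee_injective (by rw [he, h, ee_neg, hd]))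

end TypeB

/-! ### Type `D` -/

section TypeD

open Cfsg.Agent.Nodes.TypeC (wt)
open Cfsg.Agent.Nodes.TypeD (ee isRoot_iff ee_injective isCartan ee_neg)
open Cfsg.Agent.Nodes.TypeCForm (ip)
open Cfsg.Agent.Nodes.KindD (rD ee_rD isRoot_rD)
open Cfsg.Agent.Cit.BDRoots (form_eq_zero_iff_D)

variable {n : ℕ} {W : Type*} [Group W] [Fintype W] (cs : CoxeterSystem (Nodes.TypeD.M n) W) {i0 i1 : Fin (n + 2)}
  (h01 : i0 ≠ i1) {g d : Fin (n + 2) → ℤ} (hg : ee g = wt (i0, true) + wt (i1, false))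
  (hd : ee d = wt (i0, true) + wt (i1, true))

include h01 hg hd

theorem twin_D {r : Fin (n + 2) → ℤ} (hrr : IsRoot cs (isCartan n) r) (h0 : form cs (isCartan n) r d = 0)
    (h1 : ∀ y, IsRoot cs (isCartan n) y → y ≠ r → y ≠ -r → form cs (isCartan n) y d = 0 →
      form cs (isCartan n) y r = 0) : (r = g ∨ r = -g) ∨ (n = 2 ∧ ∃ a b : Fin (n + 2) × Bool, a.1 ≠ b.1 ∧
        ee r = wt a + wt b ∧ a.1 ≠ i0 ∧ a.1 ≠ i1 ∧ b.1 ≠ i0 ∧ b.1 ≠ i1) := by
  have hdr : IsRoot cs (isCartan n) d := isRoot_iff.2 ⟨(i0, true), (i1, true), h01, hd⟩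
  obtain ⟨a, b, hab, he⟩ := isRoot_iff.1 hrr
  have hab' : a.1 ≠ b.1 := hab
  rw [form_eq_zero_iff_D cs hdr, hd, he, ip_d] at h0
  rcases cases_of_orth h01 hab' h0 with (h | h) | ⟨ha, ha', hb, hb'⟩
  · left; left; apply ee_injective; rw [he, h, hg]
  · left; right; apply ee_injective; rw [he, h, ee_neg, hg]
  · right
    refine ⟨?_, a, b, hab', he, ha, ha', hb, hb'⟩
    have h4 : ({i0, i1, a.1, b.1} : Finset (Fin (n + 2))).card = 4 := by
      rw [Finset.card_insert_of_notMem, Finset.card_insert_of_notMem, Finset.card_insert_of_notMem,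
        Finset.card_singleton]
      · simpa using hab'
      · simp only [Finset.mem_insert, Finset.mem_singleton, not_or]
        exact ⟨ha'.symm, hb'.symm⟩
      · simp only [Finset.mem_insert, Finset.mem_singleton, not_or]
        exact ⟨h01, ha.symm, hb.symm⟩
    by_contra hn
    obtain ⟨k, hk⟩ : ∃ k, k ∉ ({i0, i1, a.1, b.1} : Finset (Fin (n + 2))) := by
      by_contra hcon
      push Not at hcon
      have h5 : ({i0, i1, a.1, b.1} : Finset (Fin (n + 2))) = Finset.univ := Finset.eq_univ_iff_forall.2 hcon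
      rw [h5, Finset.card_univ, Fintype.card_fin] at h4
      omega
    simp only [Finset.mem_insert, Finset.mem_singleton, not_or] at hk
    have hok : Nodes.TypeD.Ok a (k, true) := hk.2.2.1 ∘ Eq.symm
    have hs := sn_ne a
    have hev : ee (rD a (k, true)) k = 1 := by
      rw [ee_rD hok, Pi.add_apply, wt_of_ne hk.2.2.1, Nodes.TypeC.wt_apply]; simp
    have hrv : ee r k = 0 := by
      rw [he, Pi.add_apply, wt_of_ne hk.2.2.1, wt_of_ne hk.2.2.2, add_zero]
    have h2 := h1 (rD a (k, true)) (isRoot_rD cs hok) ?_ ?_ ?_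
    · rw [form_eq_zero_iff_D cs hrr, ee_rD hok, he, Nodes.TypeCForm.ip_add_right, Nodes.TypeCForm.ip_wt_right,
        Nodes.TypeCForm.ip_wt_right, Pi.add_apply, Pi.add_apply, wt_self, wt_of_ne hab'.symm,
        wt_of_ne (a := (k, true)) (Ne.symm hk.2.2.1), wt_of_ne (a := (k, true)) (Ne.symm hk.2.2.2)] at h2
      have h3 : Cfsg.Agent.Nodes.TypeCForm.sn a * Cfsg.Agent.Nodes.TypeCForm.sn a = 0 := by nlinarith
      exact hs (mul_self_eq_zero.1 h3)
    · intro e
      rw [e, hrv] at hev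
      omega
    · intro e
      rw [e, ee_neg, Pi.neg_apply, hrv] at hev
      omega
    · rw [form_eq_zero_iff_D cs hdr, hd, ee_rD hok, ip_d, Pi.add_apply, Pi.add_apply, wt_of_ne ha.symm,
        wt_of_ne ha'.symm, wt_of_ne (a := (k, true)) (Ne.symm hk.1), wt_of_ne (a := (k, true)) (Ne.symm hk.2.1)]
      rfl

theorem even_D {y : Fin (n + 2) → ℤ} (hy : IsRoot cs (isCartan n) y) (h1 : y ≠ g) (h2 : y ≠ -g) (h3 : y ≠ d)
    (h4 : y ≠ -d) : form cs (isCartan n) y g = 0 ↔ form cs (isCartan n) y d = 0 := by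
  have hdr : IsRoot cs (isCartan n) d := isRoot_iff.2 ⟨(i0, true), (i1, true), h01, hd⟩
  have hgr : IsRoot cs (isCartan n) g := isRoot_iff.2 ⟨(i0, true), (i1, false), h01, hg⟩
  obtain ⟨a, b, hab, he⟩ := isRoot_iff.1 hy
  rw [form_eq_zero_iff_D cs hdr, form_eq_zero_iff_D cs hgr, hd, hg, he, ip_d, ip_g]
  refine even_coord h01 (Or.inl hab) ?_ ?_ ?_ ?_
  · intro h; exact h1 (ee_injective (by rw [he, h, hg]))
  · intro h; exact h2 (ee_injective (by rw [he, h, ee_neg, hg]))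
  · intro h; exact h3 (ee_injective (by rw [he, h, hd]))
  · intro h; exact h4 (ee_injective (by rw [he, h, ee_neg, hd]))

end TypeD

/-! ### Parity -/

section Parity

variable {G : Type*} [Group G] {Om : Set (Subgroup G)} {p : ℕ} {L : Subgroup G}

/-- `z_g z_d` is central in `L`. -/
theorem central_of_even (c : Chart Om p L) (hZX : ∀ r ∈ c.R, c.Z r = c.X r) {g d : c.I → ℤ} (hg : g ∈ c.R)
    (hd : d ∈ c.R) (h0 : form c.cs c.h g d = 0)
    (hev : ∀ y, IsRoot c.cs c.h y → y ≠ g → y ≠ -g → y ≠ d → y ≠ -d →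
      (form c.cs c.h y g = 0 ↔ form c.cs c.h y d = 0)) : ∀ x ∈ L, c.z g * c.z d * x = x * (c.z g * c.z d) := by
  have hcent : ∀ r ∈ c.R, ∀ y, (y = r ∨ y = -r) → ∀ u ∈ c.X y, u * c.z r = c.z r * u := by
    intro r hr y hy u hu
    have hyR : y ∈ c.R := by
      rcases hy with rfl | rfl
      · exact hr
      · exact neg_mem c.cls hr
    have h1 := c.cls.z_cent y hyR u (by rw [hZX y hyR]; exact hu)
    have h2 : c.z y = c.z r := by
      rcases hy with rfl | rfl
      · rfl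
      · exact c.cls.z_neg r hr
    rw [← h2]; exact h1.symm
  have horth : ∀ r ∈ c.R, ∀ y, IsRoot c.cs c.h y → form c.cs c.h y r = 0 → ∀ u ∈ c.X y, u * c.z r = c.z r * u :=
    fun r hr y hy h u hu => Nodes.ZRel.z_cent_of_orth c.cls hr hy h hu
  have hcc : ∀ {u : G}, u * c.z g = c.z g * u → u * c.z d = c.z d * u → c.z g * c.z d * u = u * (c.z g * c.z d) := by
    intro u h1 h2
    rw [mul_assoc, ← h2, ← mul_assoc, ← h1, mul_assoc]
  have key : ∀ y, IsRoot c.cs c.h y → ∀ u ∈ c.X y, c.z g * c.z d * u = u * (c.z g * c.z d) := by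
    intro y hy u hu
    by_cases h1 : y = g ∨ y = -g
    · refine hcc (hcent g hg y h1 u hu) (horth d hd y hy ?_ u hu)
      rcases h1 with rfl | rfl
      · exact h0
      · rw [form_neg_left, h0, neg_zero]
    by_cases h2 : y = d ∨ y = -d
    · refine hcc (horth g hg y hy ?_ u hu) (hcent d hd y h2 u hu)
      rcases h2 with rfl | rfl
      · rw [form_comm]; exact h0
      · rw [form_neg_left, form_comm, h0, neg_zero]
    rw [not_or] at h1 h2
    have h3 := hev y hy h1.1 h1.2 h2.1 h2.2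
    by_cases h4 : form c.cs c.h y g = 0
    · exact hcc (horth g hg y hy h4 u hu) (horth d hd y hy (h3.1 h4) u hu)
    · have h5 : form c.cs c.h y d ≠ 0 := fun h => h4 (h3.2 h)
      have e1 := c.cls.z_inv d hd y hy h2.1 h2.2 h5 u hu
      have e2 := c.cls.z_inv g hg y hy h1.1 h1.2 h4 u⁻¹ (inv_mem hu)
      rw [inv_inv] at e2
      calc c.z g * c.z d * u = c.z g * (c.z d * u * c.z d) * (c.z d)⁻¹ := by group
        _ = c.z g * u⁻¹ * (c.z d)⁻¹ := by rw [e1]
        _ = (c.z g * u⁻¹ * c.z g) * (c.z g)⁻¹ * (c.z d)⁻¹ := by group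
        _ = u * (c.z g)⁻¹ * (c.z d)⁻¹ := by rw [e2]
        _ = u * (c.z g * c.z d) := by
          rw [inv_eq_of_mul_eq_one_left (c.cls.z_sq g hg), inv_eq_of_mul_eq_one_left (c.cls.z_sq d hd), mul_assoc]
  exact commute_all c (fun j => key _ (isRoot_sr _ _ j)) (fun j => key _ (isRoot_sr _ _ j).neg)

end Parity

end Cfsg.Agent.Cit.BDLabel
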