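import Mathlib
import Cfsg.Agent.Cit.BDExcl
import Cfsg.Agent.Cit.BDConn
import Cfsg.Agent.Cit.BDLabel
import Cfsg.Agent.Nodes.TyStd
import Cfsg.Agent.Nodes.TyCox

/-!
# Types `B_n`, `²D_{n+1}`, `D_n`: the chart of `G` (project CIT)

* `Inp` : the input;
* `assemble` : the assembly for a chart of `E` with nodes in standard position;
* `exists_chart_B`, `exists_chart_D` : the results.
-/

set_option autoImplicit false
set_option linter.unusedSectionVars false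

namespace Cfsg.Agent.Cit.BDFinal

open CoxeterSystem Cfsg.Agent.ChevalleyStructure.CoxeterGeom Cfsg.Agent.Tits.Roots Cfsg.Agent.Tits.Core
  Cfsg.Agent.Nodes.Comb Cfsg.Agent.Nodes.Reps Cfsg.Agent.Nodes.BNOf Cfsg.Agent.Nodes.RGDLib
  Cfsg.Agent.Nodes.Chart Cfsg.Agent.Nodes.Bruhat Cfsg.Agent.Nodes.Coroot
  Cfsg.Agent.Cit.BDTwin Cfsg.Agent.Cit.BDCore Cfsg.Agent.Cit.BDChart Cfsg.Agent.Cit.TypeDet
  Cfsg.Agent.Cit.BDPiece Cfsg.Agent.Cit.BDEnd Cfsg.Agent.Cit.BDExcl Cfsg.Agent.Cit.BDLabel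

variable {G : Type*} [Group G] {Om : Set (Subgroup G)} {p : ℕ} {F' : Type*} [Field F']
  {K K' E : Subgroup G}

/-- The input for the types `B_n`, `²D_{n+1}`, `D_n`. -/
structure Inp (Om : Set (Subgroup G)) (p : ℕ) (F' : Type*) [Field F'] (K K' E : Subgroup G) : Prop where
  am : Amb Om
  tw : Tw Om K K' E
  sl : ∀ M ∈ Om, Nonempty (Matrix.SpecialLinearGroup (Fin 2) F' ≃* M)
  /-- the pieces of `C(z_K z_J)` -/
  pcs : ∀ J ∈ Om, J ≤ E → ∃ L, K ≤ L ∧ FrameOf.Piece Om (zz K * zz J) L ∧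
    ((∃ M₁ ∈ Om, ∃ M₂ ∈ Om, ∃ M₃ ∈ Om, M₁ ≤ L ∧ M₂ ≤ L ∧ M₃ ≤ L ∧ cm M₁ M₂ ∧ cm M₁ M₃ ∧ cm M₂ M₃) →
      Nonempty (Chart Om p L))
  syl : ∃ S : Sylow 2 G, ∀ M ∈ OmS Om (S : Subgroup G), M = K ∨ cm M K
  close : CloseW Om

/-- The assembly. -/
theorem assemble [Finite G] [IsSimpleGroup G] [Fintype F'] [CharP F' p] (I : Inp Om p F' K K' E) (c : Chart Om p E)
    (hnt : Nontrivial c.I) {m : ℕ} (e : c.I ≃ Fin m) {j₀ : c.I} {d : c.I → ℤ} (hg : sr j₀ ∈ c.R) (hd : d ∈ c.R)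
    (ho : form c.cs c.h (sr j₀) d = 0)
    (htw : ∃ F, Tw Om (c.Z d ⊔ c.Z (-d)) (c.Z (sr j₀) ⊔ c.Z (-sr j₀)) F ∧ Big Om F)
    (hev : ∀ y, IsRoot c.cs c.h y → y ≠ sr j₀ → y ≠ -sr j₀ → y ≠ d → y ≠ -d →
      (form c.cs c.h y (sr j₀) = 0 ↔ form c.cs c.h y d = 0))
    (hkap : zz K = zz K' ∨ (Close Om ∧ ∀ r ∈ c.R, c.Z r = c.X r))
    (hcl : Core.Closes c.cs c.h (sr j₀) d j₀)
    (hgen : c.z d = c.z (sr j₀) → (∀ r ∈ c.R, c.Z r = c.X r) →
      Gen Om E (c.Z (sr j₀) ⊔ c.Z (-sr j₀)) (c.Z d ⊔ c.Z (-d)))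
    (h6 : ∀ a b, c.M a b ≠ 6) {W' : Type} [Group W'] [Fintype W'] {M' : CoxeterMatrix (Fin (m + 2))}
    {A' : Fin (m + 2) → Fin (m + 2) → ℤ} (cs' : CoxeterSystem M' W') (h' : IsCartan M' A')
    (X : ExtC c.M c.A j₀ e M' A')
    (irr : ∀ J : Set (Fin (m + 2)), J.Nonempty → J ≠ Set.univ → ∃ a ∈ J, ∃ b, b ∉ J ∧ M' a b ≠ 2)
    (len : Fin (m + 2) → ℤ) (hlen : ∀ i j, A' i j * len i = A' j i * len j) (hlen0 : len 0 ≠ 0)
    (hlong : ∀ a : c.I, len (e a).succ.succ = len 0 → sr a ∈ c.R) (hl0 : len (e j₀).succ.succ = len 0) :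
    ∃ (c' : Chart Om p (⊤ : Subgroup G)) (e' : c'.I ≃ Fin (m + 2)),
      (∀ i j, c'.A i j = A' (e' i) (e' j)) ∧ (∀ i, sr i ∈ c'.R ↔ len (e' i) = len 0) ∧
      (∀ r ∈ c'.R, c'.Z r = c'.X r) := by
  have hyp := I.am.hyp
  obtain ⟨F, tJ, bF⟩ := htw
  have bE := big_of_chart hyp c hnt
  have H : Two Om K K' E (c.Z (sr j₀) ⊔ c.Z (-sr j₀)) (c.Z d ⊔ c.Z (-d)) F :=
    ⟨I.am, I.tw, tJ.symm, bE, bF, Nodes.StdConn.K_le c hg, Nodes.StdConn.K_le c hd⟩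
  have zg := BDChart.zz_eq hyp c hnt hg
  have zd := BDChart.zz_eq hyp c hnt hd
  have zK : zz K = zz K' := by
    rcases hkap with h | ⟨hclo, hZX⟩
    · exact h
    · refine H.kappa hclo fun x hx => ?_
      rw [zg, zd]
      exact (central_of_even c hZX hg hd ho hev x hx).symm
  have zJ : zz (c.Z (sr j₀) ⊔ c.Z (-sr j₀)) = zz (c.Z d ⊔ c.Z (-d)) := by
    obtain ⟨w, w1, w2, w3, w4, w5, w6⟩ := H.exists_swap
    rw [← w1, ← w3, hyp.zz_cj I.tw.mem, hyp.zz_cj I.tw.mem', zK]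
  have C : Cfg Om p F' K K' E (c.Z (sr j₀) ⊔ c.Z (-sr j₀)) (c.Z d ⊔ c.Z (-d)) F c (sr j₀) d :=
    ⟨H, hnt, hg, hd, ho, rfl, rfl, zK, zJ, I.sl⟩
  obtain ⟨L, hKL, P, hL⟩ := I.pcs _ (c.om _ hg) H.JE
  have hall := all_le C hcl I.close (hgen (by rw [← zd, ← zJ, zg]) C.ZX) P hKL
  obtain ⟨cL⟩ := hL ⟨K, I.tw.mem, K', I.tw.mem', _, c.om _ hg, hall 0, hall 1, hall 2, I.tw.cm_twin,
    cm_mono le_rfl H.JE I.tw.cm_E, cm_mono le_rfl H.JE I.tw.cm_E'⟩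
  exact BDEnd.main C hcl P hall cL e h6 cs' h' X irr len hlen hlen0 hlong hl0 I.syl I.close

theorem tw_of_eq (c : Chart Om p E) {r g d : c.I → ℤ} (h : r = g ∨ r = -g) {F : Subgroup G}
    (t : Tw Om (c.Z d ⊔ c.Z (-d)) (c.Z r ⊔ c.Z (-r)) F) :
    Tw Om (c.Z d ⊔ c.Z (-d)) (c.Z g ⊔ c.Z (-g)) F := by
  rcases h with rfl | rfl
  · exact t
  · rwa [neg_neg, sup_comm (c.Z (-g))] at t

/-! ### Type `B` -/

section TypeB

open Cfsg.Agent.Nodes.TypeC (wt ee isRoot_iff ee_injective isCartan ee_neg ee_sr bt nx ee_add)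
open Cfsg.Agent.Nodes.TypeCForm (ip form_eq_zero_iff)
open Cfsg.Agent.Nodes.KindBC (RB rt ee_rt root_RB isRoot_rt act_RB rt_mem_RB trans_RB)
open Cfsg.Agent.Nodes.RKindsBC (sr_mem_RB)
open Cfsg.Agent.Nodes.TyStd (reindex exists_chart_of_isTy finite_of_isTy)

theorem extC_B {m : ℕ} (hm : 2 ≤ m) {j₀ : Fin m} (hj : (j₀ : ℕ) = 0) :
    ExtC (CoxeterMatrix.B m) (Nodes.TypeC.A m) j₀ (Equiv.refl (Fin m)) (CoxeterMatrix.B (m + 2))
      (Nodes.TypeC.A (m + 2)) := by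
  have E := BDPairs.ext_C hm hj
  have v0 : ((0 : Fin (m + 2)) : ℕ) = 0 := Fin.val_zero _
  have v1 : ((1 : Fin (m + 2)) : ℕ) = 1 := Fin.val_one _
  have vs : ∀ k : Fin m, ((k.succ.succ : Fin (m + 2)) : ℕ) = k + 2 := fun k => rfl
  have ne : ∀ {i j : Fin (m + 2)}, (i : ℕ) ≠ j → i ≠ j := fun h h' => h (congrArg _ h')
  refine ⟨E.m0, E.m1', E.mm, E.m01, E.m1, ?_, ?_, ?_, ?_, ?_⟩
  · rw [Nodes.TypeC.A_apply, if_neg (ne (by rw [v0, v1]; omega)), if_pos (by rw [v0, v1]), if_pos (by rw [v1]; omega)]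
  · rw [Nodes.TypeC.A_apply, if_neg (ne (by rw [v0, v1]; omega)), if_neg (by rw [v0, v1]; omega),
      if_pos (by rw [v0, v1])]
  · rw [Equiv.refl_apply, Nodes.TypeC.A_apply, if_neg (ne (by rw [v1, vs]; omega)), if_pos (by rw [v1, vs, hj]),
      if_pos (by rw [vs, hj]; omega)]
  · rw [Equiv.refl_apply, Nodes.TypeC.A_apply, if_neg (ne (by rw [v1, vs]; omega)), if_neg (by rw [v1, vs, hj]; omega),
      if_pos (by rw [v1, vs, hj])]
  · intro a b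
    have := a.2
    have := b.2
    rw [Equiv.refl_apply, Equiv.refl_apply, Nodes.TypeC.A_apply, Nodes.TypeC.A_apply]
    simp only [Fin.ext_iff, vs]
    split_ifs <;> first | rfl | (exfalso; omega)

theorem B_ne_six {m : ℕ} (a b : Fin m) : CoxeterMatrix.B m a b ≠ 6 := by
  by_cases h : a = b
  · rw [h, CoxeterMatrix.diagonal]; decide
  · rw [BDPairs.B_apply h]
    split_ifs <;> decide

theorem diag_B {m : ℕ} (hm : 3 ≤ m) : Tits.RootComb.Diag (CoxeterMatrix.B m) := by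
  refine ⟨fun i j hij => ?_, (Ty.B m).irr (show 2 ≤ m by omega), fun i j => ?_⟩
  · rw [BDPairs.B_apply hij]
    split_ifs
    · exact Or.inr (Or.inr (Or.inl rfl))
    · exact Or.inr (Or.inl rfl)
    · exact Or.inl rfl
  · by_contra hcon
    push Not at hcon
    have h1 : (Finset.univ : Finset (Fin m)) ⊆ {i, j} := by
      intro k _
      rw [Finset.mem_insert, Finset.mem_singleton]
      by_cases hk : k = i
      · exact Or.inl hk
      · exact Or.inr (hcon k hk)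
    have h2 := Finset.card_le_card h1
    rw [Finset.card_univ, Fintype.card_fin] at h2
    have h3 := Finset.card_le_two (a := i) (b := j)
    omega

/-- **Types `B_n`, `²D_{n+1}`.** -/
theorem exists_chart_B [Finite G] [IsSimpleGroup G] [Fintype F'] [CharP F' p] (I : Inp Om p F' K K' E)
    (c₁ : Chart Om p E) {n : ℕ} (hn : 2 ≤ n) (hτ : c₁.IsTy (.B n)) (hkap : zz K = zz K' ∨ (Close Om ∧ 3 ≤ n)) :
    ∃ c : Chart Om p (⊤ : Subgroup G), c.IsTy (.B (n + 2)) ∧ ∀ r ∈ c.R, c.Z r = c.X r := by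
  have hyp := I.am.hyp
  let cs : CoxeterSystem (CoxeterMatrix.B n) (CoxeterMatrix.B n).Group := (CoxeterMatrix.B n).toCoxeterSystem
  have hf : Finite (CoxeterMatrix.B n).Group := finite_of_isTy c₁ hτ cs
  let _ : Fintype (CoxeterMatrix.B n).Group := Fintype.ofFinite _
  obtain ⟨e, hM, hA, hR, h1⟩ := exists_chart_of_isTy c₁ hτ (W' := (CoxeterMatrix.B n).Group) cs (R' := RB n)
    (fun r hr => root_RB cs hr) (fun r hr w => act_RB cs hr w) (fun i => sr_mem_RB) (trans_RB cs)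
  let c : Chart Om p E := reindex c₁ e hM hA cs (Ty.B n).isCartan (fun r hr => root_RB cs hr)
    (fun r hr w => act_RB cs hr w) hR (trans_RB cs)
  obtain ⟨i0, e0⟩ : ∃ i : Fin n, (i : ℕ) = 0 := ⟨⟨0, by omega⟩, rfl⟩
  obtain ⟨i1, e1⟩ : ∃ i : Fin n, (i : ℕ) = 1 := ⟨⟨1, by omega⟩, rfl⟩
  have h01 : i0 ≠ i1 := by intro h; rw [h] at e0; omega
  have hnt : Nontrivial c.I := ⟨⟨i0, i1, h01⟩⟩
  have hg : ee (sr i0) = wt (i0, true) + wt (i1, false) := by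
    rw [ee_sr, bt, nx, dif_pos (by omega)]
    congr 2
    rw [Prod.mk.injEq]
    exact ⟨Fin.ext (by simp [e0, e1]), rfl⟩
  obtain ⟨d, hdd⟩ : ∃ d, d = rt (i0, true) (i1, true) := ⟨_, rfl⟩
  have hd : ee d = wt (i0, true) + wt (i1, true) := by rw [hdd, ee_rt]
  have hgR : sr i0 ∈ RB n := sr_mem_RB.2 (by omega)
  have hdR : d ∈ RB n := by rw [hdd]; exact rt_mem_RB h01
  have hdr : IsRoot cs (isCartan n) d := root_RB cs hdR
  have hgr : IsRoot cs (isCartan n) (sr i0) := root_RB cs hgR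
  have ho : form cs (isCartan n) (sr i0) d = 0 := by
    rw [form_eq_zero_iff cs hdr, hg, hd, ip_d]
    simp [Nodes.TypeC.wt_apply, h01, h01.symm]
  obtain ⟨r, hr, hr0, hr1, F, tF, bF⟩ := exists_twin I.am I.tw c hnt I.sl (d := d) hdR
  have hrg := twin_B cs h01 hg hd hr hr0 hr1
  have htw : ∃ F, Tw Om (c.Z d ⊔ c.Z (-d)) (c.Z (sr i0) ⊔ c.Z (-sr i0)) F ∧ Big Om F :=
    ⟨F, tw_of_eq c (g := sr i0) (d := d) hrg tF, bF⟩
  have hf' : Finite (CoxeterMatrix.B (n + 2)).Group := Ty.finite_group (.B (n + 2))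
  let _ : Fintype (CoxeterMatrix.B (n + 2)).Group := Fintype.ofFinite _
  have hlen0 : (Ty.B (n + 2)).len (0 : Fin (n + 2)) = 1 := by
    change (if ((0 : Fin (n + 2)) : ℕ) + 1 = n + 2 then (2 : ℤ) else 1) = 1
    rw [Fin.val_zero, if_neg (by omega)]
  have hlen : ∀ a : Fin n, (Ty.B (n + 2)).len (a.succ.succ : Fin (n + 2)) = if (a : ℕ) + 1 = n then 2 else 1 := by
    intro a
    change (if ((a.succ.succ : Fin (n + 2)) : ℕ) + 1 = n + 2 then (2 : ℤ) else 1) = _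
    simp only [Fin.val_succ]
    by_cases h : (a : ℕ) + 1 = n
    · rw [if_pos (by omega), if_pos h]
    · rw [if_neg (by omega), if_neg h]
  have hkap' : zz K = zz K' ∨ (Close Om ∧ ∀ r ∈ c.R, c.Z r = c.X r) := by
    refine hkap.imp_right fun ⟨h1, h3⟩ => ⟨h1, ?_⟩
    have hgR1 : sr i1 ∈ RB n := sr_mem_RB.2 (by omega)
    refine ZX_of_bond hyp c (i := i0) (j := i1) h01 hgR hgR1 ?_
    change Nodes.TypeC.A n i0 i1 * Nodes.TypeC.A n i1 i0 = 1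
    rw [Nodes.TypeC.A_apply, Nodes.TypeC.A_apply, if_neg h01, if_neg h01.symm, if_pos (by omega), if_pos (by omega),
      if_neg (by omega), if_pos (by omega)]
    rfl
  have hgen : c.z d = c.z (sr i0) → (∀ r ∈ c.R, c.Z r = c.X r) →
      Gen Om E (c.Z (sr i0) ⊔ c.Z (-sr i0)) (c.Z d ⊔ c.Z (-d)) := by
    intro hz hZX
    by_cases hn3 : 3 ≤ n
    · exact gen_of_conn (big_of_chart hyp c hnt) (c.om _ hgR) (Nodes.StdConn.K_le c hgR)
        fun U hU hUE V hV hVE => Nodes.StdConn.conn_of_diag hyp c (diag_B hn3) hU hUE hV hVE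
    · intro N hJ hJ' hN
      have hI : ∀ i : Fin n, i = i0 ∨ i = i1 := by
        intro i
        have h1 := i.2
        by_cases h : (i : ℕ) = 0
        · exact Or.inl (Fin.ext (by omega))
        · exact Or.inr (Fin.ext (by omega))
      have ha1 : Nodes.TypeC.A n i1 i0 = -1 := by
        rw [Nodes.TypeC.A_apply, if_neg h01.symm, if_neg (by omega), if_pos (by omega)]
      have ha2 : Nodes.TypeC.A n i0 i1 = -2 := by
        rw [Nodes.TypeC.A_apply, if_neg h01, if_pos (by omega), if_neg (by omega)]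
      have hdd' : d = sr i0 + sr i1 := by
        apply ee_injective
        rw [hd, ee_add, hg, ee_sr, bt, nx, dif_neg (by omega)]
        have h1 : wt (i1, false) = -wt (i1, true) := by rw [← Nodes.TypeC.wt_ng]; rfl
        rw [h1]
        abel
      exact BDConn.gen_two hyp c (j₀ := i0) (j₁ := i1) hI h01 ha1 ha2 hgR hZX (d := d) hdd' hz hJ hJ' hN
  have hlong : ∀ a : Fin n, (Ty.B (n + 2)).len (a.succ.succ : Fin (n + 2)) = (Ty.B (n + 2)).len (0 : Fin (n + 2)) →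
      sr a ∈ RB n := by
    intro a ha
    rw [hlen, hlen0] at ha
    refine sr_mem_RB.2 ?_
    have := a.2
    split_ifs at ha with h
    · norm_num at ha
    · omega
  have hl0 : (Ty.B (n + 2)).len (i0.succ.succ : Fin (n + 2)) = (Ty.B (n + 2)).len (0 : Fin (n + 2)) := by
    rw [hlen, hlen0, if_neg (by omega)]
  obtain ⟨c', e', h2, h3, h4⟩ := assemble I c hnt (Equiv.refl (Fin n)) (j₀ := i0) (d := d) hgR hdR ho htw
    (fun y hy a1 a2 a3 a4 => even_B cs h01 hg hd hy a1 a2 a3 a4) hkap' (BDRoots.closes_C cs e0 e1 hg hd)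
    hgen (fun a b => B_ne_six a b) (CoxeterMatrix.B (n + 2)).toCoxeterSystem
    (Nodes.TypeC.isCartan (n + 2)) (extC_B hn e0) ((Ty.B (n + 2)).irr (show 2 ≤ n + 2 by omega))
    (Ty.B (n + 2)).len (Ty.B (n + 2)).len_rel (by rw [hlen0]; decide) hlong hl0
  refine ⟨c', ⟨e', h2, fun i => ?_⟩, h4⟩
  rw [h3, Ty.long_iff, hlen0]
  rfl

end TypeB

/-! ### Type `D` -/

section TypeD

open Cfsg.Agent.Nodes.TypeC (wt)
open Cfsg.Agent.Nodes.TypeD (ee isRoot_iff ee_injective isCartan ee_neg ee_sr bt nx ee_add)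
open Cfsg.Agent.Nodes.TypeCForm (ip)
open Cfsg.Agent.Nodes.KindD (rD ee_rD isRoot_rD)
open Cfsg.Agent.Cit.BDRoots (form_eq_zero_iff_D)
open Cfsg.Agent.Nodes.TyStd (reindex sr_comp_equiv)

theorem extC_D {ν : ℕ} (hν : 1 ≤ ν) {j₀ : Fin (ν + 2)} (hj : (j₀ : ℕ) = 0) :
    ExtC (Nodes.TypeD.M ν) (Nodes.TypeD.A ν) j₀ (Equiv.refl (Fin (ν + 2))) (Nodes.TypeD.M (ν + 2))
      (Nodes.TypeD.A (ν + 2)) := by
  have E := BDPairs.ext_D hν hj
  have v0 : ((0 : Fin (ν + 2 + 2)) : ℕ) = 0 := Fin.val_zero _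
  have v1 : ((1 : Fin (ν + 2 + 2)) : ℕ) = 1 := Fin.val_one _
  have vs : ∀ k : Fin (ν + 2), ((k.succ.succ : Fin (ν + 2 + 2)) : ℕ) = k + 2 := fun k => rfl
  have ne : ∀ {i j : Fin (ν + 2 + 2)}, (i : ℕ) ≠ j → i ≠ j := fun h h' => h (congrArg _ h')
  refine ⟨E.m0, E.m1', E.mm, E.m01, E.m1, ?_, ?_, ?_, ?_, ?_⟩
  · rw [Nodes.TypeD.A_apply, if_neg (ne (by rw [v0, v1]; omega)), if_pos]
    left; unfold Nodes.TypeD.Adj; rw [v0, v1]; omega
  · rw [Nodes.TypeD.A_apply, if_neg (ne (by rw [v0, v1]; omega)), if_pos]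
    right; unfold Nodes.TypeD.Adj; rw [v0, v1]; omega
  · rw [Equiv.refl_apply, Nodes.TypeD.A_apply, if_neg (ne (by rw [v1, vs]; omega)), if_pos]
    left; unfold Nodes.TypeD.Adj; rw [v1, vs]; omega
  · rw [Equiv.refl_apply, Nodes.TypeD.A_apply, if_neg (ne (by rw [v1, vs]; omega)), if_pos]
    right; unfold Nodes.TypeD.Adj; rw [v1, vs]; omega
  · intro a b
    have := a.2
    have := b.2
    rw [Equiv.refl_apply, Equiv.refl_apply, Nodes.TypeD.A_apply, Nodes.TypeD.A_apply]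
    unfold Nodes.TypeD.Adj
    simp only [Fin.ext_iff, vs]
    split_ifs <;> first | rfl | (exfalso; omega)

theorem D_cases {ν : ℕ} {a b : Fin (ν + 2)} (hab : a ≠ b) :
    Nodes.TypeD.M ν a b = 2 ∨ Nodes.TypeD.M ν a b = 3 := by
  rw [Nodes.TypeD.M_apply, if_neg hab]
  split_ifs
  · exact Or.inr rfl
  · exact Or.inl rfl

theorem D_ne_six {ν : ℕ} (a b : Fin (ν + 2)) : Nodes.TypeD.M ν a b ≠ 6 := by
  by_cases h : a = b
  · rw [h, CoxeterMatrix.diagonal]; decide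
  · rcases D_cases h with h | h <;> rw [h] <;> decide

theorem exists_third {m : ℕ} (hm : 3 ≤ m) (i j : Fin m) : ∃ k, k ≠ i ∧ k ≠ j := by
  by_contra hcon
  push Not at hcon
  have h1 : (Finset.univ : Finset (Fin m)) ⊆ {i, j} := by
    intro k _
    rw [Finset.mem_insert, Finset.mem_singleton]
    by_cases hk : k = i
    · exact Or.inl hk
    · exact Or.inr (hcon k hk)
  have h2 := Finset.card_le_card h1
  rw [Finset.card_univ, Fintype.card_fin] at h2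
  have h3 := Finset.card_le_two (a := i) (b := j)
  omega

theorem diag_D {ν : ℕ} (hν : 1 ≤ ν) : Tits.RootComb.Diag (Nodes.TypeD.M ν) := by
  refine ⟨fun i j hij => ?_, (Ty.D (ν + 2)).irr (show 3 ≤ ν + 2 by omega), fun i j => exists_third (by omega) i j⟩
  rcases D_cases hij with h | h
  · exact Or.inl h
  · exact Or.inr (Or.inl h)

/-- The group `K_x` for a vector `x` in the standard coordinates. -/
def Ke (c : Chart Om p E) {m : ℕ} (e : c.I ≃ Fin m) (x : Fin m → ℤ) : Subgroup G :=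
  c.Z (fun i => x (e i)) ⊔ c.Z (fun i => (-x) (e i))

/-- Type `D`, if the twin of `K_θ` is `K_g`. -/
theorem finish_D [Finite G] [IsSimpleGroup G] [Fintype F'] [CharP F' p] (I : Inp Om p F' K K' E)
    (c₁ : Chart Om p E) {ν : ℕ} (hν : 1 ≤ ν) (e : c₁.I ≃ Fin (ν + 2))
    (hA : ∀ i j, c₁.A i j = Nodes.TypeD.A ν (e i) (e j)) (hR : ∀ i, sr i ∈ c₁.R) {i0 i1 : Fin (ν + 2)}
    (e0 : (i0 : ℕ) = 0) (e1 : (i1 : ℕ) = 1) {d : Fin (ν + 2) → ℤ} (hd : ee d = wt (i0, true) + wt (i1, true))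
    (htw : ∃ F, Tw Om (Ke c₁ e d) (Ke c₁ e (sr i0)) F ∧ Big Om F) (hkap : zz K = zz K' ∨ Close Om) :
    ∃ c : Chart Om p (⊤ : Subgroup G), c.IsTy (.D (ν + 4)) ∧ ∀ r ∈ c.R, c.Z r = c.X r := by
  have hyp := I.am.hyp
  let cs : CoxeterSystem (Nodes.TypeD.M ν) (Nodes.TypeD.M ν).Group := (Nodes.TypeD.M ν).toCoxeterSystem
  have hf : Finite (Nodes.TypeD.M ν).Group := Nodes.TypeD.finite_W cs
  let _ : Fintype (Nodes.TypeD.M ν).Group := Fintype.ofFinite _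
  have hM : ∀ i j, c₁.M i j = Nodes.TypeD.M ν (e i) (e j) := fun i j => c₁.M_apply (τ := .D (ν + 2)) hA i j
  have hact : ∀ r ∈ {x | IsRoot cs (isCartan ν) x}, ∀ w, rep cs (isCartan ν) w r ∈ {x | IsRoot cs (isCartan ν) x} :=
    fun r hr w => IsRoot.act hr w
  have htr : ∀ r ∈ {x | IsRoot cs (isCartan ν) x}, ∀ s ∈ {x | IsRoot cs (isCartan ν) x},
      ∃ w, s = rep cs (isCartan ν) w r := by
    intro r hr s hs
    obtain ⟨w, hw⟩ := Nodes.KindD.trans cs hν hr hs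
    exact ⟨w, hw.symm⟩
  let c : Chart Om p E := reindex c₁ e hM hA cs (isCartan ν) (R' := {x | IsRoot cs (isCartan ν) x}) (fun r hr => hr)
    hact (fun i => ⟨fun _ => isRoot_sr _ _ _, fun _ => hR i⟩) htr
  have h01 : i0 ≠ i1 := by intro h; rw [h] at e0; omega
  have hnt : Nontrivial c.I := ⟨⟨i0, i1, h01⟩⟩
  have hg : ee (sr i0) = wt (i0, true) + wt (i1, false) := by
    rw [ee_sr, bt, nx, dif_pos (by omega)]
    congr 2
    rw [Prod.mk.injEq]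
    exact ⟨Fin.ext (by simp [e0, e1]), rfl⟩
  have hdr : IsRoot cs (isCartan ν) d := isRoot_iff.2 ⟨(i0, true), (i1, true), h01, hd⟩
  have hgr : IsRoot cs (isCartan ν) (sr i0) := isRoot_sr _ _ _
  have ho : form cs (isCartan ν) (sr i0) d = 0 := by
    rw [form_eq_zero_iff_D cs hdr, hg, hd, ip_d]
    simp [Nodes.TypeC.wt_apply, h01, h01.symm]
  have htw' : ∃ F, Tw Om (c.Z d ⊔ c.Z (-d)) (c.Z (sr i0) ⊔ c.Z (-sr i0)) F ∧ Big Om F := htw
  have hf' : Finite (Nodes.TypeD.M (ν + 2)).Group := Nodes.TypeD.finite_W (Nodes.TypeD.M (ν + 2)).toCoxeterSystem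
  let _ : Fintype (Nodes.TypeD.M (ν + 2)).Group := Fintype.ofFinite _
  have hkap' : zz K = zz K' ∨ (Close Om ∧ ∀ r ∈ c.R, c.Z r = c.X r) := by
    refine hkap.imp_right fun h1 => ⟨h1, ?_⟩
    have ha : Nodes.TypeD.Adj i0 i1 := by unfold Nodes.TypeD.Adj; omega
    refine ZX_of_bond hyp c (i := i0) (j := i1) h01 (isRoot_sr _ _ _) (isRoot_sr _ _ _) ?_
    change Nodes.TypeD.A ν i0 i1 * Nodes.TypeD.A ν i1 i0 = 1
    rw [Nodes.TypeD.A_apply, Nodes.TypeD.A_apply, if_neg h01, if_neg h01.symm, if_pos (Or.inl ha),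
      if_pos (Or.inr ha)]
    rfl
  have hgen : c.z d = c.z (sr i0) → (∀ r ∈ c.R, c.Z r = c.X r) →
      Gen Om E (c.Z (sr i0) ⊔ c.Z (-sr i0)) (c.Z d ⊔ c.Z (-d)) := by
    intro _ _
    exact gen_of_conn (big_of_chart hyp c hnt) (c.om _ hgr) (Nodes.StdConn.K_le c hgr)
      fun U hU hUE V hV hVE => Nodes.StdConn.conn_of_diag hyp c (diag_D hν) hU hUE hV hVE
  obtain ⟨c', e', h2, h3, h4⟩ := assemble I c hnt (Equiv.refl (Fin (ν + 2))) (j₀ := i0) (d := d) hgr hdr ho htw'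
    (fun y hy a1 a2 a3 a4 => even_D cs h01 hg hd hy a1 a2 a3 a4) hkap' (BDRoots.closes_D cs hν e0 e1 hg hd)
    hgen (fun a b => D_ne_six a b) (Nodes.TypeD.M (ν + 2)).toCoxeterSystem
    (isCartan (ν + 2)) (extC_D hν e0) ((Ty.D (ν + 4)).irr (show 3 ≤ ν + 4 by omega))
    (Ty.D (ν + 4)).len (Ty.D (ν + 4)).len_rel (show (1 : ℤ) ≠ 0 by decide) (fun a _ => isRoot_sr _ _ a) rfl
  refine ⟨c', ⟨e', h2, fun i => ?_⟩, h4⟩
  rw [h3, Ty.long_iff]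
  rfl

theorem D4_aux : ∀ a b : Fin 4 × Bool, a.1 ≠ b.1 → a.1 ≠ 0 → a.1 ≠ 1 → b.1 ≠ 0 → b.1 ≠ 1 →
    ∃ j : Fin 4, (j = 2 ∨ j = 3) ∧ (wt a + wt b = bt (n := 2) j ∨ wt a + wt b = -bt (n := 2) j) := by
  decide

/-- The roots `± ε₂ ± ε₃` of `D_4`. -/
theorem D4_cases {r : Fin 4 → ℤ} {a b : Fin 4 × Bool} (hab : a.1 ≠ b.1) (he : ee (n := 2) r = wt a + wt b)
    (ha : a.1 ≠ 0) (ha' : a.1 ≠ 1) (hb : b.1 ≠ 0) (hb' : b.1 ≠ 1) :
    ∃ j : Fin 4, (j = 2 ∨ j = 3) ∧ (r = sr j ∨ r = -sr j) := by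
  obtain ⟨j, hj, h1⟩ := D4_aux a b hab ha ha' hb hb'
  refine ⟨j, hj, ?_⟩
  rcases h1 with h1 | h1
  · left
    apply ee_injective (n := 2)
    rw [he, h1, ee_sr]
  · right
    apply ee_injective (n := 2)
    rw [he, h1, ee_neg, ee_sr]

theorem D4_theta : ee (n := 2) ![1, 2, 1, 1] = wt (0, true) + wt (1, true) := by
  decide

theorem D4_swap : ∀ j : Fin 4, j = 2 ∨ j = 3 → ∀ a b : Fin 4,
    Nodes.TypeD.A 2 (Equiv.swap 0 j a) (Equiv.swap 0 j b) = Nodes.TypeD.A 2 a b := by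
  decide

theorem D4_theta_swap : ∀ j : Fin 4, j = 2 ∨ j = 3 → ∀ a : Fin 4,
    (![1, 2, 1, 1] : Fin 4 → ℤ) (Equiv.swap 0 j a) = (![1, 2, 1, 1] : Fin 4 → ℤ) a := by
  decide

theorem Ke_neg (c : Chart Om p E) {m : ℕ} (e : c.I ≃ Fin m) (x : Fin m → ℤ) : Ke c e (-x) = Ke c e x := by
  unfold Ke
  rw [neg_neg, sup_comm]

theorem Ke_comp (c : Chart Om p E) {m : ℕ} (e : c.I ≃ Fin m) (σ : Equiv.Perm (Fin m)) {x y : Fin m → ℤ}
    (h : ∀ a, x (σ a) = y a) : Ke c (e.trans σ) x = Ke c e y := by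
  unfold Ke
  simp only [Equiv.trans_apply, Pi.neg_apply, h]

/-- The twin in standard coordinates. -/
theorem twin_std [Finite G] [Fintype F'] [CharP F' p] (I : Inp Om p F' K K' E)
    (c₁ : Chart Om p E) {ν : ℕ} (hν : 1 ≤ ν) (e : c₁.I ≃ Fin (ν + 2))
    (hA : ∀ i j, c₁.A i j = Nodes.TypeD.A ν (e i) (e j)) (hR : ∀ i, sr i ∈ c₁.R) {i0 i1 : Fin (ν + 2)}
    (h01 : i0 ≠ i1) (e0 : (i0 : ℕ) = 0) (e1 : (i1 : ℕ) = 1) {d : Fin (ν + 2) → ℤ}
    (hd : ee d = wt (i0, true) + wt (i1, true)) :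
    ∃ r, ((r = sr i0 ∨ r = -sr i0) ∨ (ν = 2 ∧ ∃ a b : Fin (ν + 2) × Bool, a.1 ≠ b.1 ∧
        ee r = wt a + wt b ∧ a.1 ≠ i0 ∧ a.1 ≠ i1 ∧ b.1 ≠ i0 ∧ b.1 ≠ i1)) ∧
      ∃ F, Tw Om (Ke c₁ e d) (Ke c₁ e r) F ∧ Big Om F := by
  have hyp := I.am.hyp
  let cs : CoxeterSystem (Nodes.TypeD.M ν) (Nodes.TypeD.M ν).Group := (Nodes.TypeD.M ν).toCoxeterSystem
  have hf : Finite (Nodes.TypeD.M ν).Group := Nodes.TypeD.finite_W cs
  let _ : Fintype (Nodes.TypeD.M ν).Group := Fintype.ofFinite _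
  have hM : ∀ i j, c₁.M i j = Nodes.TypeD.M ν (e i) (e j) := fun i j => c₁.M_apply (τ := .D (ν + 2)) hA i j
  have hact : ∀ r ∈ {x | IsRoot cs (isCartan ν) x}, ∀ w, rep cs (isCartan ν) w r ∈ {x | IsRoot cs (isCartan ν) x} :=
    fun r hr w => IsRoot.act hr w
  have htr : ∀ r ∈ {x | IsRoot cs (isCartan ν) x}, ∀ s ∈ {x | IsRoot cs (isCartan ν) x},
      ∃ w, s = rep cs (isCartan ν) w r := by
    intro r hr s hs
    obtain ⟨w, hw⟩ := Nodes.KindD.trans cs hν hr hs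
    exact ⟨w, hw.symm⟩
  let c : Chart Om p E := reindex c₁ e hM hA cs (isCartan ν) (R' := {x | IsRoot cs (isCartan ν) x}) (fun r hr => hr)
    hact (fun i => ⟨fun _ => isRoot_sr _ _ _, fun _ => hR i⟩) htr
  have hnt : Nontrivial c.I := ⟨⟨i0, i1, h01⟩⟩
  have hg : ee (sr i0) = wt (i0, true) + wt (i1, false) := by
    rw [ee_sr, bt, nx, dif_pos (by omega)]
    congr 2
    rw [Prod.mk.injEq]
    exact ⟨Fin.ext (by simp [e0, e1]), rfl⟩
  have hdr : IsRoot cs (isCartan ν) d := isRoot_iff.2 ⟨(i0, true), (i1, true), h01, hd⟩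
  obtain ⟨r, hr, hr0, hr1, F, tF, bF⟩ := exists_twin I.am I.tw c hnt I.sl (d := d) hdr
  exact ⟨r, twin_D cs h01 hg hd hr hr0 hr1, F, tF, bF⟩

/-- **Type `D_n`, `n ≥ 5`** (`E` of type `D n`, `n ≥ 3`). -/
theorem exists_chart_D [Finite G] [IsSimpleGroup G] [Fintype F'] [CharP F' p] (I : Inp Om p F' K K' E)
    (c₁ : Chart Om p E) {n : ℕ} (hn : 3 ≤ n) (hτ : c₁.IsTy (.D n)) (hkap : zz K = zz K' ∨ Close Om) :
    ∃ c : Chart Om p (⊤ : Subgroup G), c.IsTy (.D (n + 2)) ∧ ∀ r ∈ c.R, c.Z r = c.X r := by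
  obtain ⟨ν, rfl⟩ : ∃ ν, n = ν + 2 := ⟨n - 2, by omega⟩
  have hν : 1 ≤ ν := by omega
  obtain ⟨e, hA, hR⟩ := hτ
  change c₁.I ≃ Fin (ν + 2) at e
  change ∀ i j, c₁.A i j = Nodes.TypeD.A ν (e i) (e j) at hA
  have hR' : ∀ i, sr i ∈ c₁.R := fun i => (hR i).2 trivial
  have h01 : (⟨0, by omega⟩ : Fin (ν + 2)) ≠ ⟨1, by omega⟩ := by simp
  obtain ⟨d, hd⟩ : ∃ d : Fin (ν + 2) → ℤ, ee d = wt (⟨0, by omega⟩, true) + wt (⟨1, by omega⟩, true) :=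
    ⟨rD (⟨0, by omega⟩, true) (⟨1, by omega⟩, true), ee_rD h01⟩
  obtain ⟨r, hr | ⟨rfl, a, b, hab, he, ha, ha', hb, hb'⟩, F, tF, bF⟩ := twin_std I c₁ hν e hA hR' h01 rfl rfl hd
  · refine finish_D I c₁ hν e hA hR' (i0 := ⟨0, by omega⟩) (i1 := ⟨1, by omega⟩) rfl rfl hd ⟨F, ?_, bF⟩ hkap
    rcases hr with rfl | rfl
    · exact tF
    · rwa [Ke_neg] at tF
  · obtain ⟨j, hj, hrj⟩ := D4_cases hab he ha ha' hb hb'
    have hd' : d = ![1, 2, 1, 1] := ee_injective (n := 2) (hd.trans D4_theta.symm)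
    have tF' : Tw Om (Ke c₁ e d) (Ke c₁ e (sr j)) F := by
      rcases hrj with rfl | rfl
      · exact tF
      · rwa [Ke_neg] at tF
    have k1 : Ke c₁ (e.trans (Equiv.swap 0 j)) d = Ke c₁ e d := by
      refine Ke_comp c₁ e _ fun a => ?_
      rw [hd']
      exact D4_theta_swap j hj a
    have k2 : Ke c₁ (e.trans (Equiv.swap 0 j)) (sr 0) = Ke c₁ e (sr j) := by
      refine Ke_comp c₁ e _ fun a => ?_
      by_cases h : a = j
      · rw [h, Equiv.swap_apply_right, sr_self, sr_self]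
      · rw [sr_ne h, sr_ne]
        intro h1
        apply h
        apply (Equiv.swap 0 j).injective
        rw [h1, Equiv.swap_apply_right]
    refine finish_D I c₁ hν (e.trans (Equiv.swap 0 j)) (fun i k => ?_) hR' (i0 := 0) (i1 := 1) rfl rfl hd
      ⟨F, ?_, bF⟩ hkap
    · rw [hA]
      exact (D4_swap j hj (e i) (e k)).symm
    · rw [k1, k2]
      exact tF'

end TypeD

end Cfsg.Agent.Cit.BDFinal
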