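import Cfsg.Agent.Cit.LongConj
import Cfsg.Agent.Cit.TPieces
import Cfsg.Agent.ClassicalGeometry.PSL2Basic

/-!
# Base leaves of THEOREM T for matrix groups, part 1

`Leaf R F₁`: the data of `F(L)` for `L = Γ ⧸ Z(Γ)`.  For `Om` with `Hyp Om`, `Ty`, every member `K` with `zz K`
conjugate to `z₀` is conjugate to `D₁` (`Leaf.exists_cj`), so `O(K) = 1`.

`hasPieces_of_chart`: a simple group with one class `Om`, one member without odd core, and a chart of the whole
group, has pieces.  `hasPieces_congr`: transport along an isomorphism.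
-/

set_option autoImplicit false

namespace Cfsg.Agent.Cit.LongLeaf

open Subgroup Cfsg Matrix Cfsg.Agent.Cit.LongAbs Cfsg.Agent.Cit.LongBlock Cfsg.Agent.Cit.LongQuot
  Cfsg.Agent.Cit.LongMain Cfsg.Agent.Cit.LongModel Cfsg.Agent.Cit.LongInst Cfsg.Agent.Cit.LongTwo
  Cfsg.Agent.Cit.LongFinal Cfsg.Agent.Cit.LongConj Cfsg.Agent.Nodes.Chart
open scoped commutatorElement

/-! ### `2.A₇` is not `SL₂(F)` -/

theorem card_seven {X : Type*} [Group X] (h : IsNonsplitDoubleCover X ↥(alternatingGroup (Fin 7))) :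
    Nat.card X = 5040 := by
  obtain ⟨h1, ⟨e⟩, -⟩ := h
  rw [Subgroup.card_eq_card_quotient_mul_card_subgroup (center X), h1, Nat.card_congr e.toEquiv,
    nat_card_alternatingGroup]
  simp [Nat.factorial]

theorem not_seven {F : Type*} [Field F] [Fintype F] {X : Type*} [Group X]
    (h : IsNonsplitDoubleCover X ↥(alternatingGroup (Fin 7))) :
    ¬ Nonempty (X ≃* SpecialLinearGroup (Fin 2) F) := by
  rintro ⟨e⟩
  have h1 := card_seven h
  rw [Nat.card_congr e.toEquiv, ClassicalGeometry.PSL2Basic.card_SL2] at h1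
  generalize Fintype.card F = q at h1
  rcases Nat.lt_or_ge q 18 with h2 | h2
  · interval_cases q <;> omega
  · have h3 : 18 * (18 ^ 2 - 1) ≤ q * (q ^ 2 - 1) :=
      Nat.mul_le_mul h2 (Nat.sub_le_sub_right (Nat.pow_le_pow_left h2 2) 1)
    omega

theorem card_three_of_le {F : Type*} [Field F] [Fintype F] (ho : Odd (Fintype.card F))
    (h : Nat.card (SpecialLinearGroup (Fin 2) F) ≤ 24) : Fintype.card F = 3 := by
  rw [ClassicalGeometry.PSL2Basic.card_SL2] at h
  have h0 : 1 < Fintype.card F := Fintype.one_lt_card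
  generalize Fintype.card F = q at *
  rcases Nat.lt_or_ge q 4 with h2 | h2
  · obtain ⟨k, hk⟩ := ho
    omega
  · exfalso
    have h3 : 4 * (4 ^ 2 - 1) ≤ q * (q ^ 2 - 1) :=
      Nat.mul_le_mul h2 (Nat.sub_le_sub_right (Nat.pow_le_pow_left h2 2) 1)
    omega

/-! ### `O(SL₂(F)) = 1` -/

theorem oddCore_eq_bot_of_good {X : Type*} [Group X] [Finite X] (h : Ty.Good X) : oddCore X = ⊥ := by
  rw [eq_bot_iff]
  intro x hx
  rw [mem_bot]
  have hodd : ∀ y ∈ oddCore X, y * y = 1 → y = 1 := fun y hy hyy =>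
    Cfsg.Agent.Cit.LongCore.eq_one_of_sq hy hyy
  obtain ⟨z, hz, -⟩ := h.uniq
  rcases h.one (oddCore X) (Lib.Cores.pPrimeCore_normal 2) with h1 | h1
  · exfalso
    have h2 : Odd (Nat.card X) := by
      rw [← Subgroup.card_mul_index (oddCore X)]
      exact (Nat.coprime_two_right.1 (Lib.Cores.pPrimeCore_coprime 2)).mul h1
    have h3 := orderOf_dvd_natCard z
    rw [hz] at h3
    exact (Nat.not_even_iff_odd.2 h2) (even_iff_two_dvd.2 h3)
  · rcases h1 x hx with h2 | h2
    · exact h2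
    · exact hodd x hx (by rw [← pow_two, ← h2, pow_orderOf_eq_one])

theorem oddCore_eq_bot {F : Type} [Field F] [Fintype F] (ho : Odd (Fintype.card F)) {X : Type*} [Group X]
    [Finite X] (e : X ≃* SpecialLinearGroup (Fin 2) F) : oddCore X = ⊥ :=
  oddCore_eq_bot_of_good (IsTy.good (Or.inl ⟨F, inferInstance, inferInstance, ho, ⟨e⟩⟩))

/-! ### the data -/

section Leaf

variable {Γ : Type*} [Group Γ] {F : Type*} [Field F] {κ : Type*} [Fintype κ] [DecidableEq κ]

/-- the data of `F(L)` -/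
structure Leaf (R : Rep Γ F κ) (F1 : Type) [Field F1] [Fintype F1] : Prop where
  good : Good R F1
  swap : Swap R F1
  eight : Fintype.card F1 = 3 → ∀ a : F, a ≠ 0 → a ^ 8 = 1

variable {R : Rep Γ F κ} {F1 : Type} [Field F1] [Fintype F1]

theorem OO_D1 [Finite Γ] (h : Leaf R F1) : OO (D1 R) = ⊥ := by
  have := h.good.ne
  obtain ⟨e⟩ := h.good.e1
  rw [OO, oddCore_eq_bot h.good.odd ((D1Equiv R).symm.trans e), Subgroup.map_bot]

theorem OC_comm [Finite Γ] (h : Leaf R F1) {x y : Γ ⧸ center Γ} (hx : x ∈ D1 R ⊔ D2 R) (hy : y ∈ OC R) :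
    x * y = y * x := by
  obtain ⟨y, hy, rfl⟩ := hy
  have hxC : x ∈ CC R := (sup_le D1_le_CC D2_le_CC) hx
  refine congrArg Subtype.val (h.good.setup.core_comm (x := ⟨x, hxC⟩) ?_ hy)
  rw [subgroupOf_sup _ _ _ D1_le_CC D2_le_CC]
  exact hx

theorem OC_le_centralizer [Finite Γ] (h : Leaf R F1) :
    OC R ≤ centralizer ((D1 R ⊔ D2 R : Subgroup (Γ ⧸ center Γ)) : Set (Γ ⧸ center Γ)) := by
  intro y hy
  rw [mem_centralizer_iff]
  intro x hx
  exact OC_comm h hx hy

theorem OC_abelian [Finite Γ] (h : Leaf R F1) {x y : Γ ⧸ center Γ} (hx : x ∈ OC R) (hy : y ∈ OC R) :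
    x * y = y * x :=
  h.good.big.comm R (OC_le_centralizer h hx) (OC_le_centralizer h hy)

/-- `O(C(z₀)) = 1` for `|F₁| = 3` -/
theorem OC_eq_bot [Finite Γ] (h : Leaf R F1) (h3 : Fintype.card F1 = 3) : OC R = ⊥ := by
  rw [eq_bot_iff]
  intro x hx
  rw [mem_bot]
  obtain ⟨g, hg, a, b, hab⟩ := h.good.big.centralizer R (OC_le_centralizer h hx)
  have hne := h.good.ne
  obtain ⟨P', S', h', h5, h6, h7, h8⟩ := R.blocks_inv hab
  have ha : a ≠ 0 := by
    rintro rfl
    have := congrFun (congrFun h5 0) 0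
    simp at this
  have hb : b ≠ 0 := by
    rintro rfl
    obtain ⟨k⟩ := hne
    have := congrFun (congrFun h7 k) k
    simp at this
  have hpow : ∀ n : ℕ, R.ρ (g ^ n) = fromBlocks (a ^ n • 1) 0 0 (b ^ n • 1) := by
    intro n
    induction n with
    | zero => simp
    | succ n ih =>
      rw [pow_succ, map_mul, ih, hab, fromBlocks_multiply]
      simp [smul_smul, pow_succ, mul_comm]
  have h9 : g ^ 8 = 1 := by
    apply R.inj
    rw [hpow, h.eight h3 a ha, h.eight h3 b hb, map_one, one_smul, one_smul, fromBlocks_one]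
  have h10 : x ^ 8 = 1 := by rw [← hg, ← map_pow, h9, map_one]
  obtain ⟨y, hy, hyx⟩ := hx
  have hsq : ∀ w ∈ oddCore (CC R), w * w = 1 → w = 1 := fun w hw hww =>
    Cfsg.Agent.Cit.LongCore.eq_one_of_sq hw hww
  have h11 : y ^ 8 = 1 := by
    apply Subtype.ext
    have : ((y ^ 8 : CC R) : Γ ⧸ center Γ) = ((CC R).subtype y) ^ 8 := rfl
    rw [this, hyx, h10]; rfl
  have h12 : y ^ 4 = 1 := hsq _ (pow_mem hy 4) (by rw [← pow_add]; exact h11)
  have h13 : y ^ 2 = 1 := hsq _ (pow_mem hy 2) (by rw [← pow_add]; exact h12)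
  have h14 : y = 1 := hsq _ hy (by rw [← pow_two]; exact h13)
  rw [← hyx, h14, map_one]

/-- a perfect subgroup between `D₁` and `D₁ O(C(z₀))` is `D₁` -/
theorem eq_D1_of_perfect [Finite Γ] (h : Leaf R F1) {K : Subgroup (Γ ⧸ center Γ)} (h1 : D1 R ≤ K)
    (h2 : K ≤ D1 R ⊔ OC R) (hp : ⁅K, K⁆ = K) : K = D1 R := by
  refine le_antisymm ?_ h1
  rw [← hp, commutator_le]
  have key : ∀ x ∈ D1 R ⊔ OC R, ∃ a ∈ D1 R, ∃ b ∈ OC R, x = a * b := fun x hx =>
    LongAbs.mem_sup_comm (fun a ha b hb => OC_comm h (mem_sup_left ha) hb) hx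
  intro x hx y hy
  obtain ⟨a, ha, b, hb, rfl⟩ := key x (h2 hx)
  obtain ⟨c, hc, d, hd, rfl⟩ := key y (h2 hy)
  have e1 : b * c = c * b := (OC_comm h (mem_sup_left hc) hb).symm
  have e2 : a * d = d * a := OC_comm h (mem_sup_left ha) hd
  have e3 : b * d = d * b := OC_abelian h hb hd
  have e4 : a * b = b * a := OC_comm h (mem_sup_left ha) hb
  have e5 : c * d = d * c := OC_comm h (mem_sup_left hc) hd
  have e6 : ⁅a * b, c * d⁆ = ⁅a, c⁆ := by
    rw [commutatorElement_def, commutatorElement_def]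
    have h3 : (a * b) * (c * d) = (a * c) * (b * d) := by
      calc (a * b) * (c * d) = a * (b * c) * d := by group
        _ = a * (c * b) * d := by rw [e1]
        _ = (a * c) * (b * d) := by group
    have h4 : (c * d) * (a * b) = (c * a) * (b * d) := by
      calc (c * d) * (a * b) = c * (d * a) * b := by group
        _ = c * (a * d) * b := by rw [e2]
        _ = (c * a) * (d * b) := by group
        _ = (c * a) * (b * d) := by rw [e3]
    calc a * b * (c * d) * (a * b)⁻¹ * (c * d)⁻¹ = ((a * b) * (c * d)) * ((c * d) * (a * b))⁻¹ := by group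
      _ = (a * c) * (b * d) * ((c * a) * (b * d))⁻¹ := by rw [h3, h4]
      _ = a * c * a⁻¹ * c⁻¹ := by group
  rw [e6]
  exact (D1 R).mul_mem ((D1 R).mul_mem ((D1 R).mul_mem ha hc) ((D1 R).inv_mem ha)) ((D1 R).inv_mem hc)

theorem card_F1 [Finite Γ] (h : Leaf R F1) {K : Subgroup (Γ ⧸ center Γ)} (h1 : D1 R ≤ K)
    (e : Nonempty (↥K ⧸ oddCore ↥K ≃* SolvTwo.X)) : Fintype.card F1 = 3 := by
  apply card_three_of_le h.good.odd
  have := h.good.ne
  obtain ⟨e1⟩ := h.good.e1
  obtain ⟨e⟩ := e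
  rw [← Nat.card_congr ((D1Equiv R).symm.trans e1).toEquiv]
  have : (oddCore ↥K).Normal := Lib.Cores.pPrimeCore_normal 2
  let f : ↥(D1 R) →* ↥K ⧸ oddCore ↥K := (QuotientGroup.mk' (oddCore ↥K)).comp (Subgroup.inclusion h1)
  have hf : Function.Injective f := by
    rw [injective_iff_map_eq_one]
    intro x hx
    have h2 : x ∈ (oddCore ↥K).comap (Subgroup.inclusion h1) := by
      rw [mem_comap]
      exact (QuotientGroup.eq_one_iff _).1 hx
    have h3 : (oddCore ↥K).comap (Subgroup.inclusion h1) ≤ oddCore ↥(D1 R) := by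
      refine le_oddCore (Normal.comap inferInstance _) ?_
      refine not_two_dvd_comap _ (not_two_dvd_ker_of_injective _ (Subgroup.inclusion_injective h1)) ?_
      exact fun hd => not_two_dvd_oddCore ↥K (hd.trans (card_dvd_of_le inf_le_left))
    have h4 := h3 h2
    rwa [oddCore_eq_bot h.good.odd ((D1Equiv R).symm.trans e1), mem_bot] at h4
  have h5 := Nat.card_le_card_of_injective f hf
  have h6 : Nat.card (↥K ⧸ oddCore ↥K) = 24 := by
    rw [Nat.card_congr e.toEquiv, ClassicalGeometry.PSL2Basic.card_SL2, ZMod.card]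
    norm_num
  rwa [h6] at h5

/-- **every member over a conjugate of `z₀` is conjugate to `D₁`** -/
theorem Leaf.exists_cj [Finite Γ] (h : Leaf R F1) {Om : Set (Subgroup (Γ ⧸ center Γ))} (hOm : Hyp Om)
    {K : Subgroup (Γ ⧸ center Γ)} (hK : K ∈ Om) (hT : Cit.Ty K) {g : Γ ⧸ center Γ}
    (hg : g * zz K * g⁻¹ = z0 R) : ∃ g, cj g K = D1 R := by
  have hKc := hOm.le_centralizer hK
  have hsn := hOm.sub K hK
  have hz := hOm.zz_mem hK
  rcases hT with hT | ⟨⟨F', i1, i2, ho', e⟩ | h7, hp⟩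
  · have ho' : Odd (Fintype.card (ZMod 3)) := by rw [ZMod.card]; decide
    obtain ⟨g, hg, h1, h2⟩ := conj_main h.good h.swap hg hKc hsn hz ho' hT
    have h3 : Fintype.card F1 = 3 := by
      refine card_F1 h h1 ?_
      obtain ⟨e⟩ := hT
      exact ⟨(QuotientGroup.congr _ _ (cjEquiv g K) (Lib.Cores.map_equiv_pPrimeCore _ 2)).symm.trans e⟩
    refine ⟨g, le_antisymm ?_ h1⟩
    rw [OC_eq_bot h h3, sup_bot_eq] at h2
    exact h2
  · obtain ⟨g, hg, h1, h2⟩ := conj_main h.good h.swap hg hKc hsn hz ho' e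
    refine ⟨g, eq_D1_of_perfect h h1 h2 ?_⟩
    rw [← cj_commutator, hp]
  · exfalso
    exact conj_false h.good hg hKc hsn hz (Seven.IsBig.quasisimple (Or.inr h7)) (not_seven h7)

end Leaf

/-! ### pieces -/

theorem hasPieces_congr {G L : Type*} [Group G] [Group L] [Finite G] {Om : Set (Subgroup G)} (hOm : Hyp Om)
    (e : G ≃* L) (h : HasPieces (Cit.img e.toMonoidHom Om)) : HasPieces Om := by
  have : Finite L := Finite.of_equiv _ e.toEquiv
  have h1 : Hyp (Cit.img e.toMonoidHom Om) :=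
    hOm.img e.surjective (not_two_dvd_ker_of_injective _ e.injective)
  have h2 := h.img_of_injective h1 e.symm.toMonoidHom e.symm.injective
  rw [img_img] at h2
  have h3 : e.symm.toMonoidHom.comp e.toMonoidHom = MonoidHom.id G := by
    ext x; simp
  rwa [h3, img_id] at h2

variable {G : Type*} [Group G] [Finite G] {Om : Set (Subgroup G)}

/-- a simple group with a member is not abelian -/
theorem exists_comm_ne (hOm : Hyp Om) {K : Subgroup G} (hK : K ∈ Om) : ∃ a b : G, a * b ≠ b * a := by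
  by_contra hcon
  push Not at hcon
  exact hOm.not_le_centralizer_self hK fun x _ y _ => hcon y x

theorem center_eq_bot (hs : IsSimpleGroup G) (hOm : Hyp Om) {K : Subgroup G} (hK : K ∈ Om) :
    center G = ⊥ := by
  rcases hs.eq_bot_or_eq_top_of_normal (center G) inferInstance with h | h
  · exact h
  · exfalso
    obtain ⟨a, b, hab⟩ := exists_comm_ne hOm hK
    have h1 : b ∈ center G := by rw [h]; exact mem_top b
    exact hab (mem_center_iff.1 h1 a)

/-- **a simple group with a chart has pieces** -/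
theorem hasPieces_of_chart (hOm : Hyp Om) (hne : Om.Nonempty) (hcore : ∀ K ∈ Om, OO K = ⊥)
    (hs : IsSimpleGroup G) {p : ℕ} (c : Chart Om p (⊤ : Subgroup G)) (τ : Nodes.Chart.Ty) (kind : c.IsTy τ)
    (ok : KindOk τ) (small : Fintype.card c.I ≤ 2 → IsLieTypeChar p G)
    (sl : ∃ (F : Type) (_ : Field F) (_ : Fintype F), CharP F p ∧
      ∀ K ∈ Om, Nonempty (SpecialLinearGroup (Fin 2) F ≃* ↥K))
    (zx : (∀ r ∈ c.R, c.Z r = c.X r) ∨ ∃ n, τ = .C n) : HasPieces Om := by
  obtain ⟨K, hK⟩ := hne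
  have hcen := center_eq_bot hs hOm hK
  obtain ⟨a, b, hab⟩ := exists_comm_ne hOm hK
  have e : G ≃* ↥(⊤ : Subgroup G) := Subgroup.topEquiv.symm
  have hct : center ↥(⊤ : Subgroup G) = ⊥ := center_eq_bot_congr e hcen
  refine ⟨hcore, {⊤}, ?_, ?_, ?_⟩
  · rintro D rfl
    obtain ⟨F, i1, i2, h1, h2⟩ := sl
    refine Piece.chart ?_ ?_ ?_ p c τ kind ok (fun hI => ?_)
      ⟨F, i1, i2, h1, fun r hr => h2 _ (c.om r hr)⟩ zx
    · intro htop
      have h1 : zz (⊤ : Subgroup G) ∈ center G := by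
        rw [mem_center_iff]
        intro g
        exact mem_centralizer_singleton_iff.1 (hOm.le_centralizer htop (mem_top g))
      rw [hcen, mem_bot] at h1
      exact hOm.zz_ne htop h1
    · exact SignalizersComponents.LayerBasic.quasisimple_congr e
        (SignalizersComponents.IntrinsicDiag.quasisimple_of_simple hs
          fun h => hab (h.is_comm.comm a b))
    · rw [hct]; exact IsPGroup.of_bot
    · refine OddHalf.Known.isLieTypeChar_congr ?_ (small hI)
      exact e.trans ((QuotientGroup.quotientMulEquivOfEq hct).trans QuotientGroup.quotientBot).symm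
  · rintro D rfl E rfl h
    exact absurd rfl h
  · intro J _
    exact ⟨⊤, rfl, le_top⟩

end Cfsg.Agent.Cit.LongLeaf
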