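import Cfsg.Agent.Cit.CloseConn
import Cfsg.Agent.Cit.LongLeaf

/-!
# From the output sentence of the type owners to `HasPieces` (project CIT)

`G0` with a chart of type `τ`, `K ≤ G0`, `delta Om K ≤ G0` for one member `K`, `Om` connected, `MinS Om` :
`HasPieces Om` (`hasPieces_of_conn`; `hasPieces_of_top` if `G0 = G` is known).
-/

set_option autoImplicit false

namespace Cfsg.Agent.Cit.CloseOut

open Subgroup Cfsg Matrix Cfsg.Agent.Nodes.Chart
open Cfsg.Agent.Cit.TypeDet (cm)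
open Cfsg.Agent.Cit.FrameClose (delta)

universe u

variable {G : Type u} [Group G] [Finite G] {Om : Set (Subgroup G)} {G0 : Subgroup G}

theorem hasPieces_of_top (h : MinS Om) (hcore : ∀ K ∈ Om, OO K = ⊥) {p : ℕ} (c : Chart Om p G0)
    (τ : Nodes.Chart.Ty) (kind : c.IsTy τ) (ok : KindOk τ) (small : τ.rk ≤ 2 → IsLieTypeChar p G)
    (sl : ∃ (F : Type) (_ : Field F) (_ : Fintype F), CharP F p ∧
      ∀ K ∈ Om, Nonempty (SpecialLinearGroup (Fin 2) F ≃* ↥K))
    (zx : (∀ r ∈ c.R, c.Z r = c.X r) ∨ ∃ n, τ = .C n) (htop : G0 = ⊤) : HasPieces Om := by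
  subst htop
  refine LongLeaf.hasPieces_of_chart h.hyp h.ne hcore h.simple c τ kind ok (fun hI => small ?_) sl zx
  rwa [kind.card] at hI

/-- **`HasPieces` from the output sentence** (rank at least 3) -/
theorem hasPieces_of_conn (h : MinS Om) (hcore : ∀ K ∈ Om, OO K = ⊥) {p : ℕ} (c : Chart Om p G0)
    (τ : Nodes.Chart.Ty) (kind : c.IsTy τ) (ok : KindOk τ) (h3 : 3 ≤ τ.rk)
    (sl : ∃ (F : Type) (_ : Field F) (_ : Fintype F), CharP F p ∧
      ∀ K ∈ Om, Nonempty (SpecialLinearGroup (Fin 2) F ≃* ↥K))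
    (zx : (∀ r ∈ c.R, c.Z r = c.X r) ∨ ∃ n, τ = .C n) {K : Subgroup G} (hK : K ∈ Om) (hKG : K ≤ G0)
    (hΔ : delta Om K ≤ G0)
    (hconn : ∀ C : Set (Subgroup G), C ⊆ Om → C.Nonempty → (∀ K ∈ C, ∀ L ∈ Om, cm K L → L ∈ C) → C = Om) :
    HasPieces Om :=
  hasPieces_of_top h hcore c τ kind ok (fun h' => absurd h' (by omega)) sl zx
    (CloseConn.eq_top h.hyp h.simple c hK hKG hΔ hconn)

end Cfsg.Agent.Cit.CloseOut
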