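import Cfsg.Agent.Cit.Commute
import Cfsg.Agent.S0215
import Cfsg.Agent.Lib.SylowNormalInf
import Cfsg.Agent.Lib.PComponents

/-!
# LEMMA B of the classical involution theorem

`HYP(G, Om)`, `K ∈ Om` of type `TyOne`, `TyTwo` (e.g. `K/O(K) ≅ SL(2,q)`, `q ≥ 3`, or `2.A7`), `z = zz K`,
`Q` a Sylow 2-subgroup of `K`, `M` a subgroup normalized by `K` with `O(M) = 1` and `[z, M] ≠ 1`.
Then `Q ≤ M`.
-/

set_option autoImplicit false
set_option linter.style.haveILetI false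

namespace Cfsg.Agent.Cit

open Subgroup Cfsg

variable {G : Type*} [Group G]

/-- A normal subgroup of `K` contains the Sylow 2-subgroups of `K` or lies in `O(K)⟨z⟩`. -/
def TyOne (K : Subgroup G) : Prop :=
  ∀ N : Subgroup G, N ≤ K → K ≤ normalizer (N : Set G) →
    (∀ Q, Syl Q K → Q ≤ N) ∨ N ≤ OO K ⊔ zpowers (zz K)

/-- `K` is generated by its elements of odd order. -/
def TyTwo (K : Subgroup G) : Prop := K ≤ closure {c | c ∈ K ∧ Odd (orderOf c)}

namespace LB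

/-! ### Sylow tools -/

/-- a 2-subgroup of `M` lies in a Sylow 2-subgroup of `M` -/
theorem exists_syl_ge [Finite G] {A M : Subgroup G} (hA : IsPGroup 2 A) (hAM : A ≤ M) :
    ∃ T, Syl T M ∧ A ≤ T := by
  haveI : Fact (Nat.Prime 2) := ⟨Nat.prime_two⟩
  have hAp : IsPGroup 2 (A.subgroupOf M) := hA.comap_subtype
  obtain ⟨P, hP⟩ := hAp.exists_le_sylow
  refine ⟨(P : Subgroup M).map M.subtype, ⟨map_subtype_le _, P.isPGroup'.map _, ?_⟩, ?_⟩
  · have h1 : ((P : Subgroup M).map M.subtype).subgroupOf M = P := by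
      rw [subgroupOf, comap_map_eq_self_of_injective M.subtype_injective]
    rw [relIndex, h1]
    exact P.not_dvd_index
  · exact (map_subgroupOf_eq_of_le hAM).symm.le.trans (Subgroup.map_mono hP)

theorem syl_of_le {Q M H : Subgroup G} (hQ : Syl Q M) (hQH : Q ≤ H) (hHM : H ≤ M) : Syl Q H :=
  ⟨hQH, hQ.2.1, fun h => hQ.2.2 (h.trans
    ⟨H.relIndex M, (relIndex_mul_relIndex Q H M hQH hHM).symm⟩)⟩

theorem syl_eq_of_le [Finite G] {Q M R : Subgroup G} (hQ : Syl Q M) (hR : IsPGroup 2 R) (hRM : R ≤ M)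
    (h : Q ≤ R) : Q = R := by
  haveI : Fact (Nat.Prime 2) := ⟨Nat.prime_two⟩
  obtain ⟨k, hk⟩ : ∃ k, Q.relIndex R = 2 ^ k := by
    obtain ⟨k, hk⟩ := hR.index (Q.subgroupOf R)
    exact ⟨k, hk⟩
  have h3 : Q.relIndex R ∣ Q.relIndex M :=
    ⟨R.relIndex M, (relIndex_mul_relIndex Q R M h hRM).symm⟩
  have h5 : k = 0 := by
    by_contra hk0
    apply hQ.2.2
    refine dvd_trans ?_ h3
    rw [hk]
    exact dvd_pow_self 2 hk0
  rw [h5, pow_zero, relIndex_eq_one] at hk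
  exact le_antisymm h hk

/-- the intersection of a Sylow 2-subgroup of `A` with a normal subgroup of `A` -/
theorem syl_inf_normal [Finite G] {S A B : Subgroup G} (hS : Syl S A) (hB : B ≤ A)
    (hn : A ≤ normalizer (B : Set G)) : Syl (S ⊓ B) B := by
  haveI : Fact (Nat.Prime 2) := ⟨Nat.prime_two⟩
  obtain ⟨P, hP⟩ := hS.exists_sylow
  haveI : (B.subgroupOf A).Normal := (normal_subgroupOf_iff_le_normalizer hB).2 hn
  have h1 := Lib.SylowNormalInf.not_dvd_relIndex P (B.subgroupOf A)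
  rw [hP, relIndex_subgroupOf hB] at h1
  exact ⟨inf_le_right, hS.2.1.to_le inf_le_left, by rwa [inf_relIndex_right]⟩

/-- a 2-element of `M` is conjugate in `M` to an element of a given Sylow 2-subgroup -/
theorem exists_conj_mem [Finite G] {T M : Subgroup G} (hT : Syl T M) {m : G} (hm : m ∈ M)
    (h2 : IsPGroup 2 (zpowers m)) : ∃ n ∈ M, n * m * n⁻¹ ∈ T := by
  obtain ⟨R, hR, hmR⟩ := exists_syl_ge h2 (zpowers_le.2 hm)
  obtain ⟨n, hn, h⟩ := hR.exists_conj hT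
  refine ⟨n, hn, ?_⟩
  rw [← h]
  exact conj_mem_cj (hmR (mem_zpowers m))

/-- `T₀ < T` are 2-groups : an element of `T \ T₀` normalizing `T₀` -/
theorem exists_normalizing [Finite G] {T₀ T : Subgroup G} (hT : IsPGroup 2 T) (h : T₀ ≤ T) (hne : T₀ ≠ T) :
    ∃ t ∈ T, t ∉ T₀ ∧ cj t T₀ = T₀ := by
  haveI : Fact (Nat.Prime 2) := ⟨Nat.prime_two⟩
  haveI : Group.IsNilpotent T := hT.isNilpotent
  have h1 : T₀.subgroupOf T < ⊤ := by
    rw [lt_top_iff_ne_top, Ne, subgroupOf_eq_top]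
    exact fun hh => hne (le_antisymm h hh)
  have h2 := Group.normalizerCondition_of_isNilpotent (T₀.subgroupOf T) h1
  obtain ⟨⟨t, ht⟩, ht1, ht2⟩ := Set.exists_of_ssubset h2
  refine ⟨t, ht, fun h3 => ht2 (by simpa [mem_subgroupOf] using h3), ?_⟩
  ext x
  rw [mem_cj]
  constructor
  · intro hx
    have hxT := T.mul_mem (T.mul_mem ht (h hx)) (T.inv_mem ht)
    have h3 : (⟨t, ht⟩ : T) * ⟨t⁻¹ * x * t, h hx⟩ * (⟨t, ht⟩ : T)⁻¹ ∈ T₀.subgroupOf T :=
      (mem_normalizer_iff.1 ht1 _).1 (by simpa [mem_subgroupOf] using hx)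
    have h4 : t * (t⁻¹ * x * t) * t⁻¹ ∈ T₀ := h3
    have h5 : t * (t⁻¹ * x * t) * t⁻¹ = x := by group
    rwa [h5] at h4
  · intro hx
    have hxT : t⁻¹ * x * t ∈ T := T.mul_mem (T.mul_mem (T.inv_mem ht) (h hx)) ht
    have h3 := (mem_normalizer_iff.1 ht1 (⟨t⁻¹ * x * t, hxT⟩ : T)).2 (by
      show t * (t⁻¹ * x * t) * t⁻¹ ∈ T₀
      have h5 : t * (t⁻¹ * x * t) * t⁻¹ = x := by group
      rwa [h5])
    exact h3

/-- A 2-subgroup `Q'` normalizing `M`, if the 2-subgroup `Q` normalizes `L` and `Q'`... : a Sylow 2-subgroup of a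
subgroup `L` normalized by the 2-group `Q` such that the product is a 2-group. -/
theorem exists_two_sup [Finite G] {Q L : Subgroup G} (hQ : IsPGroup 2 Q) (hQL : Q ≤ normalizer (L : Set G)) :
    ∃ R : Subgroup G, IsPGroup 2 R ∧ Q ≤ R ∧ Syl (R ⊓ L) L := by
  obtain ⟨R, hR, hQR⟩ := exists_syl_ge hQ (le_sup_right : Q ≤ L ⊔ Q)
  exact ⟨R, hR.2.1, hQR, syl_inf_normal hR le_sup_left (sup_le le_normalizer hQL)⟩

/-! ### Cores -/

theorem card_zpowers_odd {c : G} (hc : Odd (orderOf c)) : Odd (Nat.card (zpowers c)) := by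
  rwa [Nat.card_zpowers]

theorem odd_of_not_dvd {n : ℕ} (h : ¬ 2 ∣ n) : Odd n := by
  rw [← Nat.not_even_iff_odd, even_iff_two_dvd]; exact h

/-- `OO A` is normalized by every element normalizing `A` -/
theorem cj_OO_eq {g : G} {A : Subgroup G} (h : cj g A = A) : cj g (OO A) = OO A := by
  rw [← OO_cj, h]

/-- subnormal subgroups of odd order -/
theorem le_OO_of_subnormal [Finite G] {D Y : Subgroup G} (hD : D ≤ Y) (hs : (D.subgroupOf Y).IsSubnormal)
    (ho : ¬ 2 ∣ Nat.card D) : D ≤ OO Y := by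
  have h1 : (Nat.card (D.subgroupOf Y)).Coprime 2 := by
    rw [Nat.card_congr (subgroupOfEquivOfLe hD).toEquiv, Nat.coprime_comm]
    exact (Nat.Prime.coprime_iff_not_dvd Nat.prime_two).2 ho
  have h2 := Lib.PComponents.le_pPrimeCore_of_isSubnormal (p := 2) hs h1
  rw [← map_subgroupOf_eq_of_le hD]
  exact Subgroup.map_mono h2

theorem relIndex_sup_of_normalizes {A B : Subgroup G} (hn : B ≤ normalizer (A : Set G)) :
    A.relIndex (A ⊔ B) = A.relIndex B := by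
  haveI : (A.subgroupOf (A ⊔ B)).Normal :=
    (normal_subgroupOf_iff_le_normalizer le_sup_left).2 (sup_le le_normalizer hn)
  rw [← relIndex_subgroupOf (le_sup_right : B ≤ A ⊔ B), ← relIndex_sup_right (B.subgroupOf (A ⊔ B))
    (A.subgroupOf (A ⊔ B)), ← subgroupOf_sup le_sup_right le_sup_left, sup_comm B A, relIndex_subgroupOf le_rfl]

/-- `(MK : MQ)` divides `(K : Q)` -/
theorem relIndex_sup_dvd [Finite G] {M Q K : Subgroup G} (hQ : Q ≤ K) (hM : K ≤ normalizer (M : Set G)) :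
    (M ⊔ Q).relIndex (M ⊔ K) ∣ Q.relIndex K := by
  have h1 : M.relIndex (M ⊔ K) = M.relIndex K := relIndex_sup_of_normalizes hM
  have h2 : M.relIndex (M ⊔ Q) = M.relIndex Q := relIndex_sup_of_normalizes (hQ.trans hM)
  have h3 : M.relIndex (M ⊔ Q) * (M ⊔ Q).relIndex (M ⊔ K) = M.relIndex (M ⊔ K) :=
    relIndex_mul_relIndex M (M ⊔ Q) (M ⊔ K) le_sup_left (sup_le_sup_left hQ M)
  -- `(M ∩ K : K) = (M ∩ K : (M ∩ K) Q) ((M ∩ K) Q : K)`
  have hn : Q ≤ normalizer ((M ⊓ K : Subgroup G) : Set G) := by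
    intro q hq
    rw [mem_normalizer_iff_cj, cj_inf, mem_normalizer_iff_cj.1 (hM (hQ hq)),
      mem_normalizer_iff_cj.1 (le_normalizer (hQ hq))]
  have h4 : (M ⊓ K).relIndex (M ⊓ K ⊔ Q) * (M ⊓ K ⊔ Q).relIndex K = (M ⊓ K).relIndex K :=
    relIndex_mul_relIndex _ _ _ le_sup_left (sup_le inf_le_right hQ)
  rw [relIndex_sup_of_normalizes hn, inf_relIndex_right] at h4
  have h5 : (M ⊓ K).relIndex Q = M.relIndex Q := by
    rw [← inf_relIndex_right (M ⊓ K) Q, inf_assoc, inf_eq_right.2 hQ, inf_relIndex_right]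
  rw [h5] at h4
  rw [h1, h2, ← h4] at h3
  have hpos : M.relIndex Q ≠ 0 := index_ne_zero_of_finite (H := M.subgroupOf Q)
  rw [Nat.eq_of_mul_eq_mul_left (Nat.pos_of_ne_zero hpos) h3]
  exact relIndex_dvd_of_le_left K le_sup_right

theorem odd_sup [Finite G] {A B : Subgroup G} (hA : ¬ 2 ∣ Nat.card A) (hB : ¬ 2 ∣ Nat.card B)
    (hn : B ≤ normalizer (A : Set G)) : ¬ 2 ∣ Nat.card (A ⊔ B : Subgroup G) := by
  have h1 : Nat.card (A ⊔ B : Subgroup G) ∣ Nat.card A * Nat.card B := by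
    have h2 : Nat.card A * A.relIndex (A ⊔ B) = Nat.card (A ⊔ B : Subgroup G) :=
      Lib.SylowNormalInf.card_mul_relIndex A (A ⊔ B) le_sup_left
    rw [← h2]
    refine Nat.mul_dvd_mul_left _ ?_
    have h3 : A.relIndex (A ⊔ B) = A.relIndex B := relIndex_sup_of_normalizes hn
    rw [h3]
    exact relIndex_dvd_card _ _
  intro h
  rcases (Nat.Prime.dvd_mul Nat.prime_two).1 (h.trans h1) with h3 | h3
  · exact hA h3
  · exact hB h3

/-- the elements of a join -/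
theorem exists_mul_of_mem_sup {A B : Subgroup G} (hn : B ≤ normalizer (A : Set G)) {x : G} (hx : x ∈ A ⊔ B) :
    ∃ a ∈ A, ∃ b ∈ B, x = a * b := by
  let E : Subgroup G :=
    { carrier := {x | ∃ a ∈ A, ∃ b ∈ B, x = a * b}
      one_mem' := ⟨1, A.one_mem, 1, B.one_mem, by simp⟩
      mul_mem' := by
        rintro _ _ ⟨a, ha, b, hb, rfl⟩ ⟨a', ha', b', hb', rfl⟩
        refine ⟨a * (b * a' * b⁻¹), A.mul_mem ha ((mem_normalizer_iff.1 (hn hb) _).1 ha'), b * b',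
          B.mul_mem hb hb', by group⟩
      inv_mem' := by
        rintro _ ⟨a, ha, b, hb, rfl⟩
        refine ⟨b⁻¹ * a⁻¹ * b⁻¹⁻¹, (mem_normalizer_iff.1 (hn (B.inv_mem hb)) _).1 (A.inv_mem ha), b⁻¹,
          B.inv_mem hb, by group⟩ }
  have h1 : A ⊔ B ≤ E := sup_le (fun a ha => ⟨a, ha, 1, B.one_mem, by simp⟩)
    (fun b hb => ⟨1, A.one_mem, b, hb, by simp⟩)
  exact h1 hx

/-- A finite group without subgroups of index 2 is generated by its elements of odd order. -/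
theorem tyTwo_of_relIndex [Finite G] {K : Subgroup G} (h : ∀ N : Subgroup G, N ≤ K → N.relIndex K ≠ 2) : TyTwo K := by
  haveI : Fact (Nat.Prime 2) := ⟨Nat.prime_two⟩
  by_contra hcon
  set N := closure {c | c ∈ K ∧ Odd (orderOf c)} with hN
  have hNK : N ≤ K := (closure_le _).2 fun c hc => hc.1
  have hNn : K ≤ normalizer (N : Set G) := by
    intro k hk
    rw [mem_normalizer_iff_cj]
    have key : ∀ k ∈ K, cj k N ≤ N := by
      intro k hk
      rw [hN, cj_def, MonoidHom.map_closure, closure_le]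
      rintro _ ⟨c, hc, rfl⟩
      refine subset_closure ⟨K.mul_mem (K.mul_mem hk hc.1) (K.inv_mem hk), ?_⟩
      have h1 := (MulAut.conj k).orderOf_eq c
      show Odd (orderOf ((MulAut.conj k) c))
      rw [h1]; exact hc.2
    refine le_antisymm (key k hk) ?_
    have h1 := cj_mono k (key k⁻¹ (K.inv_mem hk))
    rwa [cj_cj_inv] at h1
  haveI : (N.subgroupOf K).Normal := (normal_subgroupOf_iff_le_normalizer hNK).2 hNn
  have hp : IsPGroup 2 (K ⧸ N.subgroupOf K) := by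
    intro y
    obtain ⟨x, rfl⟩ := QuotientGroup.mk_surjective y
    obtain ⟨a, m, hm, ham⟩ := Nat.exists_eq_two_pow_mul_odd (orderOf_pos (x : G)).ne'
    refine ⟨a, ?_⟩
    rw [← QuotientGroup.mk_pow, QuotientGroup.eq_one_iff, mem_subgroupOf, coe_pow]
    refine subset_closure ⟨K.pow_mem x.2 _, ?_⟩
    have h1 : orderOf ((x : G) ^ 2 ^ a) = m := by
      rw [orderOf_pow, ham, Nat.gcd_eq_right (Dvd.intro _ rfl), Nat.mul_div_cancel_left _ (by positivity)]
    rwa [h1]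
  obtain ⟨j, hj⟩ := IsPGroup.iff_card.1 hp
  rcases Nat.eq_zero_or_pos j with h0 | h0
  · rw [h0, pow_zero] at hj
    apply hcon
    have h1 : N.relIndex K = 1 := hj
    exact relIndex_eq_one.1 h1
  · obtain ⟨i, rfl⟩ : ∃ i, j = i + 1 := ⟨j - 1, by omega⟩
    obtain ⟨B, hB⟩ := Sylow.exists_subgroup_card_pow_prime 2 (n := i) (by rw [hj]; exact pow_dvd_pow 2 (by omega))
    have hBi : B.index = 2 := by
      have h1 := B.card_mul_index
      rw [hB, hj, pow_succ] at h1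
      exact Nat.eq_of_mul_eq_mul_left (by positivity) h1
    refine h ((B.comap (QuotientGroup.mk' (N.subgroupOf K))).map K.subtype) (map_subtype_le _) ?_
    rw [relIndex, subgroupOf, comap_map_eq_self_of_injective K.subtype_injective,
      index_comap_of_surjective _ (QuotientGroup.mk'_surjective _), hBi]

end LB

open LB

namespace Hyp

variable [Finite G] {Om : Set (Subgroup G)}

/-- elements of odd order of `K` act trivially on `C_M(z) / O(C_M(z))` -/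
theorem core_comm_odd (h : Hyp Om) {K : Subgroup G} (hK : K ∈ Om) {M : Subgroup G}
    (hM : K ≤ normalizer (M : Set G)) (hKM : K ⊓ M ≤ OO K ⊔ zpowers (zz K)) {c : G} (hc : c ∈ K)
    (hco : Odd (orderOf c)) {x : G} (hx : x ∈ M ⊓ centralizer {zz K}) :
    c * x * c⁻¹ * x⁻¹ ∈ OO (M ⊓ centralizer {zz K}) := by
  set z := zz K with hz
  set C := centralizer {z} with hC
  set C₁ := M ⊓ C with hC₁
  have hKC : K ≤ C := h.le_centralizer hK
  have hzK : ∀ k ∈ K, k * z = z * k := fun k hk => h.comm_zz hK (le_normalizer hk)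
  have hcC₁ : cj c C₁ = C₁ := by
    rw [hC₁, cj_inf, mem_normalizer_iff_cj.1 (hM hc), mem_normalizer_iff_cj.1 (le_normalizer (hKC hc))]
  have hcn : zpowers c ≤ normalizer (C₁ : Set G) := by
    rw [zpowers_le, mem_normalizer_iff_cj]; exact hcC₁
  set Y := C₁ ⊔ zpowers c with hY
  have hYC : Y ≤ C := sup_le inf_le_right (by rw [zpowers_le]; exact hKC hc)
  set A := K ⊓ Y with hA
  set B := OO K ⊔ zpowers c with hB
  have hBK : B ≤ K := sup_le (OO_le K) (by rw [zpowers_le]; exact hc)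
  have hBodd : ¬ 2 ∣ Nat.card B := by
    refine odd_sup (odd_OO K) ?_ ?_
    · rw [Nat.card_zpowers]
      intro h2
      rw [← Nat.not_even_iff_odd, even_iff_two_dvd] at hco
      exact hco h2
    · rw [zpowers_le]; exact le_normalizer_OO K hc
  set D := A ⊓ B with hD
  have hDodd : ¬ 2 ∣ Nat.card D := fun h2 => hBodd (h2.trans (card_dvd_of_le inf_le_right))
  -- elements of `A`
  have hAB : ∀ a ∈ A, a ∈ B ∨ z * a ∈ B := by
    rintro a ⟨haK, haY⟩
    obtain ⟨x, hx, y, hy, rfl⟩ := exists_mul_of_mem_sup hcn haY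
    have hyK : y ∈ K := (zpowers_le.2 hc) hy
    have hxK : x ∈ K := by
      have := K.mul_mem haK (K.inv_mem hyK)
      simpa using this
    have hx2 := hKM ⟨hxK, hx.1⟩
    obtain ⟨o, ho, w, hw, rfl⟩ := exists_mul_of_mem_sup (by
      rw [zpowers_le]; exact le_normalizer_OO K (h.zz_mem hK)) hx2
    have hyB : y ∈ B := (le_sup_right : zpowers c ≤ B) hy
    have hoB : o ∈ B := (le_sup_left : OO K ≤ B) ho
    obtain ⟨n, rfl⟩ := mem_zpowers_iff.1 hw
    have hzz : z * z = 1 := h.zz_mul hK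
    rcases Int.even_or_odd' n with ⟨k, rfl | rfl⟩
    · left
      rw [zpow_mul, zpow_ofNat, pow_two, hzz, one_zpow, mul_one]
      exact B.mul_mem hoB hyB
    · right
      have h3 : z * (o * z ^ (2 * k + 1) * y) = o * y := by
        rw [zpow_add, zpow_mul, zpow_ofNat, pow_two, hzz, one_zpow, one_mul, zpow_one]
        have h4 := hzK o (OO_le K ho)
        calc z * (o * z * y) = z * (o * z) * y := by group
          _ = z * (z * o) * y := by rw [h4]
          _ = (z * z) * (o * y) := by group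
          _ = o * y := by rw [hzz, one_mul]
      rw [h3]
      exact B.mul_mem hoB hyB
  -- `D` is normal in `A`
  have hDn : ∀ a ∈ A, ∀ d ∈ D, a * d * a⁻¹ ∈ D := by
    intro a ha d hd
    refine ⟨A.mul_mem (A.mul_mem ha hd.1) (A.inv_mem ha), ?_⟩
    rcases hAB a ha with h3 | h3
    · exact B.mul_mem (B.mul_mem h3 hd.2) (B.inv_mem h3)
    · have h4 := B.mul_mem (B.mul_mem h3 hd.2) (B.inv_mem h3)
      have h5 : z * a * d * (z * a)⁻¹ = a * d * a⁻¹ := by
        have h6 := hzK (a * d * a⁻¹) (K.mul_mem (K.mul_mem ha.1 hd.1.1) (K.inv_mem ha.1))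
        calc z * a * d * (z * a)⁻¹ = z * (a * d * a⁻¹) * z⁻¹ := by group
          _ = a * d * a⁻¹ := by rw [← h6]; group
      rwa [h5] at h4
  have hDY : D ≤ Y := inf_le_left.trans inf_le_right
  have hsn : (D.subgroupOf Y).IsSubnormal := by
    have h3 : (A.subgroupOf Y).IsSubnormal := by
      have h4 := (h.sub K hK).comap (inclusion hYC)
      have h5 : (K.subgroupOf (centralizer {zz K})).comap (inclusion hYC) = A.subgroupOf Y := by
        ext ⟨y, hy⟩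
        simp only [mem_comap, mem_subgroupOf, coe_inclusion, hA, mem_inf]
        exact ⟨fun hh => ⟨hh, hy⟩, fun hh => hh.1⟩
      rwa [h5] at h4
    refine IsSubnormal.trans (H := D.subgroupOf Y) (K := A.subgroupOf Y) ?_ ?_ h3
    · intro y hy
      exact hy.1
    · refine Normal.isSubnormal ⟨?_⟩
      rintro ⟨⟨d, hdY⟩, hdA⟩ hd ⟨⟨a, haY⟩, haA⟩
      exact hDn a haA d hd
  have hcD : c ∈ D := ⟨⟨hc, (le_sup_right : zpowers c ≤ Y) (mem_zpowers c)⟩,
    (le_sup_right : zpowers c ≤ B) (mem_zpowers c)⟩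
  have hcO : c ∈ OO Y := le_OO_of_subnormal hDY hsn hDodd hcD
  have hC₁Y : C₁ ≤ Y := le_sup_left
  have hC₁n : C₁ ≤ normalizer ((C₁ ⊓ OO Y : Subgroup G) : Set G) := by
    intro y hy
    rw [mem_normalizer_iff_cj, cj_inf, mem_normalizer_iff_cj.1 (le_normalizer hy),
      mem_normalizer_iff_cj.1 (le_normalizer_OO Y (hC₁Y hy))]
  have hle : C₁ ⊓ OO Y ≤ OO C₁ := le_OO inf_le_left hC₁n fun h2 =>
    odd_OO Y (h2.trans (card_dvd_of_le inf_le_right))
  apply hle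
  refine ⟨?_, ?_⟩
  · refine C₁.mul_mem ?_ (C₁.inv_mem hx)
    have h3 := conj_mem_cj (g := c) hx
    rwa [hcC₁] at h3
  · have h3 : c * x * c⁻¹ * x⁻¹ = c * (x * c⁻¹ * x⁻¹) := by group
    rw [h3]
    exact (OO Y).mul_mem hcO ((mem_normalizer_iff.1 (le_normalizer_OO Y (hC₁Y hx)) _).1 ((OO Y).inv_mem hcO))

/-- all of `K` acts trivially on `C_M(z) / O(C_M(z))` -/
theorem core_comm (h : Hyp Om) {K : Subgroup G} (hK : K ∈ Om) (h2 : TyTwo K) {M : Subgroup G}
    (hM : K ≤ normalizer (M : Set G)) (hKM : K ⊓ M ≤ OO K ⊔ zpowers (zz K)) {k : G} (hk : k ∈ K)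
    {x : G} (hx : x ∈ M ⊓ centralizer {zz K}) :
    k * x * k⁻¹ * x⁻¹ ∈ OO (M ⊓ centralizer {zz K}) := by
  set C₁ := M ⊓ centralizer {zz K} with hC₁
  have hcj : ∀ c ∈ K, cj c C₁ = C₁ := by
    intro c hc
    rw [hC₁, cj_inf, mem_normalizer_iff_cj.1 (hM hc),
      mem_normalizer_iff_cj.1 (le_normalizer (h.le_centralizer hK hc))]
  let E : Subgroup G :=
    { carrier := {k | cj k C₁ = C₁ ∧ ∀ x ∈ C₁, k * x * k⁻¹ * x⁻¹ ∈ OO C₁}
      one_mem' := ⟨cj_one _, fun x _ => by simp⟩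
      mul_mem' := by
        rintro a b ⟨ha1, ha2⟩ ⟨hb1, hb2⟩
        refine ⟨by rw [cj_mul, hb1, ha1], fun x hx => ?_⟩
        have hbx : b * x * b⁻¹ ∈ C₁ := by
          have := conj_mem_cj (g := b) hx
          rwa [hb1] at this
        have h3 : a * b * x * (a * b)⁻¹ * x⁻¹ =
            a * (b * x * b⁻¹) * a⁻¹ * (b * x * b⁻¹)⁻¹ * (b * x * b⁻¹ * x⁻¹) := by group
        rw [h3]
        exact (OO C₁).mul_mem (ha2 _ hbx) (hb2 x hx)
      inv_mem' := by
        rintro a ⟨ha1, ha2⟩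
        have hainv : cj a⁻¹ C₁ = C₁ := by
          conv_lhs => rw [← ha1]
          exact cj_inv_cj _ _
        refine ⟨hainv, fun x hx => ?_⟩
        have hax : a⁻¹ * x * a ∈ C₁ := by
          have := conj_mem_cj (g := a⁻¹) hx
          rwa [hainv, inv_inv] at this
        have h3 := (OO C₁).inv_mem (ha2 _ hax)
        have h4 : (a * (a⁻¹ * x * a) * a⁻¹ * (a⁻¹ * x * a)⁻¹)⁻¹ = a⁻¹ * x * a⁻¹⁻¹ * x⁻¹ := by group
        rwa [h4] at h3 }
  have hE : K ≤ E := by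
    refine h2.trans ((closure_le _).2 ?_)
    rintro c ⟨hc, hco⟩
    exact ⟨hcj c hc, fun x hx => h.core_comm_odd hK hM hKM hc hco hx⟩
  exact (hE hk).2 x hx

/-- the Sylow subgroup of a conjugate, compatible with a 2-group which normalizes it -/
theorem comm_of_normalizes (h : Hyp Om) {K L Q : Subgroup G} (hK : K ∈ Om) (hL : L ∈ Om) (hne : K ≠ L)
    (hQ : Syl Q K) (hQL : Q ≤ normalizer (L : Set G)) :
    ∃ R, Syl R L ∧ IsPGroup 2 (Q ⊔ R : Subgroup G) ∧ ∀ a ∈ Q, ∀ b ∈ R, a * b = b * a := by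
  obtain ⟨S, hS, hQS, hR⟩ := exists_two_sup hQ.2.1 hQL
  refine ⟨S ⊓ L, hR, hS.to_le (sup_le hQS inf_le_left), ?_⟩
  intro a ha b hb
  have hKS : K ∈ OmS Om S := mem_OmS_of_le hK hQ hQS
  have hLS : L ∈ OmS Om S := mem_OmS_of_le hL hR inf_le_left
  exact h.comm hS hKS hLS hne ⟨hQ.1 ha, hQS ha⟩ ⟨hb.2, hb.1⟩

/-- a Sylow 2-subgroup of `K` which commutes with the involution of `L` normalizes `L` -/
theorem le_normalizer_of_commute (h : Hyp Om) {K L Q : Subgroup G} (hK : K ∈ Om) (hL : L ∈ Om)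
    (hQ : Syl Q K) (hc : ∀ a ∈ Q, a * zz L = zz L * a) : Q ≤ normalizer (L : Set G) := by
  obtain ⟨c, v, n, hgq⟩ := h.exists_gq hK hQ
  refine hgq.le_of_four fun y hy hy4 => ?_
  exact h.norm_four hQ.2.1 hK hL (hQ.1 hy) hy (by omega) (hc y hy)

/-- if `Q`, `Q'` are commuting 2-subgroups mapping onto Sylow subgroups modulo `M` -/
theorem le_sup_of_syl {M Q R A : Subgroup G} (hMA : M ≤ A) (hA : A ≤ normalizer (M : Set G))
    (hR : ¬ 2 ∣ (M ⊔ R).relIndex A) (hRA : R ≤ A) (hQA : Q ≤ A) (hQ : IsPGroup 2 Q)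
    (hQR : Q ≤ normalizer (R : Set G)) : Q ≤ M ⊔ R := by
  haveI : Fact (Nat.Prime 2) := ⟨Nat.prime_two⟩
  -- `Q` normalizes `M ⊔ R`
  have hn : Q ≤ normalizer ((M ⊔ R : Subgroup G) : Set G) := by
    intro q hq
    rw [mem_normalizer_iff_cj, cj_sup, mem_normalizer_iff_cj.1 (hA (hQA hq)), mem_normalizer_iff_cj.1 (hQR hq)]
  have h1 : (M ⊔ R).relIndex (M ⊔ R ⊔ Q) ∣ (M ⊔ R).relIndex A :=
    ⟨(M ⊔ R ⊔ Q).relIndex A, (relIndex_mul_relIndex _ _ _ le_sup_left
      (sup_le (sup_le hMA hRA) hQA)).symm⟩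
  have h2 : (M ⊔ R).relIndex (M ⊔ R ⊔ Q) = (M ⊔ R).relIndex Q := relIndex_sup_of_normalizes hn
  obtain ⟨k, hk⟩ : ∃ k, (M ⊔ R).relIndex Q = 2 ^ k := by
    obtain ⟨k, hk⟩ := hQ.index ((M ⊔ R).subgroupOf Q)
    exact ⟨k, hk⟩
  have h5 : k = 0 := by
    by_contra hk0
    apply hR
    refine dvd_trans ?_ h1
    rw [h2, hk]
    exact dvd_pow_self 2 hk0
  rw [h5, pow_zero, relIndex_eq_one] at hk
  exact hk

/-- **LEMMA B.** -/
theorem lemmaB (h : Hyp Om) {K : Subgroup G} (hK : K ∈ Om) (h1 : TyOne K) (h2 : TyTwo K) {M : Subgroup G}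
    (hM : K ≤ normalizer (M : Set G)) (hO : OO M = ⊥) (hz : ¬ M ≤ centralizer {zz K}) {Q : Subgroup G}
    (hQ : Syl Q K) : Q ≤ M := by
  haveI : Fact (Nat.Prime 2) := ⟨Nat.prime_two⟩
  by_contra hQM
  -- `K ∩ M ≤ O(K)⟨z⟩`
  have hKM : K ⊓ M ≤ OO K ⊔ zpowers (zz K) := by
    rcases h1 (K ⊓ M) inf_le_left (fun k hk => by
      rw [mem_normalizer_iff_cj, cj_inf, mem_normalizer_iff_cj.1 (le_normalizer hk),
        mem_normalizer_iff_cj.1 (hM hk)]) with h3 | h3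
    · exact absurd ((h3 Q hQ).trans inf_le_right) hQM
    · exact h3
  have hcore := fun {k : G} (hk : k ∈ K) {x : G} (hx : x ∈ M ⊓ centralizer {zz K}) =>
    h.core_comm hK h2 hM hKM hk hx
  have hzK : ∀ k ∈ K, k * zz K = zz K * k := fun k hk => h.comm_zz hK (le_normalizer hk)
  obtain ⟨v, c, hvQ, hcQ, hvc⟩ : ∃ v c, v ∈ Q ∧ c ∈ Q ∧ v * c ≠ c * v := by
    obtain ⟨c, v, n, hgq⟩ := h.exists_gq hK hQ
    exact ⟨v, c, hgq.v_mem, hgq.c_mem, hgq.not_comm⟩
  set z := zz K with hzdef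
  set C₁ := M ⊓ centralizer {z} with hC₁
  have hKC₁ : K ≤ normalizer (C₁ : Set G) := by
    intro k hk
    rw [mem_normalizer_iff_cj, hC₁, cj_inf, mem_normalizer_iff_cj.1 (hM hk),
      mem_normalizer_iff_cj.1 (le_normalizer (h.le_centralizer hK hk))]
  -- a Sylow 2-subgroup `T₀` of `C₁` centralized by `Q`
  obtain ⟨S₀, hS₀, hQS₀⟩ := exists_syl_ge hQ.2.1 (le_sup_right : Q ≤ C₁ ⊔ Q)
  have hT₀ : Syl (S₀ ⊓ C₁) C₁ := syl_inf_normal hS₀ le_sup_left
    (sup_le le_normalizer (hQ.1.trans hKC₁))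
  set T₀ := S₀ ⊓ C₁ with hT₀def
  have hQT₀ : ∀ q ∈ Q, ∀ x ∈ T₀, q * x = x * q := by
    intro q hq x hx
    have h3 := hcore (hQ.1 hq) hx.2
    have h4 : q * x * q⁻¹ * x⁻¹ ∈ S₀ :=
      S₀.mul_mem (S₀.mul_mem (S₀.mul_mem (hQS₀ hq) hx.1) (S₀.inv_mem (hQS₀ hq))) (S₀.inv_mem hx.1)
    have h5 := eq_one_of_mem_odd hS₀.2.1 (odd_OO C₁) h4 h3
    rw [mul_inv_eq_one, mul_inv_eq_iff_eq_mul] at h5
    exact h5
  -- a Sylow 2-subgroup of `MQ`
  have hMQ : M ⊔ Q ≤ normalizer (M : Set G) := sup_le le_normalizer (hQ.1.trans hM)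
  have hS₀MQ : S₀ ≤ M ⊔ Q := hS₀.1.trans (sup_le_sup_right inf_le_left _)
  obtain ⟨S, hS, hS₀S⟩ := exists_syl_ge hS₀.2.1 hS₀MQ
  have hQS : Q ≤ S := hQS₀.trans hS₀S
  have hT : Syl (S ⊓ M) M := syl_inf_normal hS le_sup_left hMQ
  set T := S ⊓ M with hTdef
  have hT₀T : T₀ ≤ T := le_inf (inf_le_left.trans hS₀S) (inf_le_right.trans inf_le_left)
  have hTC : ∀ x ∈ T, x * z = z * x → x ∈ T₀ := by
    intro x hx hxz
    have h3 : T₀ = T ⊓ centralizer {z} := by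
      refine syl_eq_of_le hT₀ (hT.2.1.to_le inf_le_left) ?_ ?_
      · exact le_inf (inf_le_left.trans inf_le_right) inf_le_right
      · exact le_inf hT₀T (inf_le_right.trans inf_le_right)
    rw [h3]
    exact ⟨hx, mem_centralizer_singleton_iff.2 hxz⟩
  have hKS : K ∈ OmS Om S := mem_OmS_of_le hK hQ hQS
  -- (1) `T₀ = T`
  have hTT : T₀ = T := by
    by_contra hne
    obtain ⟨t, ht, htT₀, -⟩ := exists_normalizing hT.2.1 hT₀T hne
    have hKt : cj t K ∈ OmS Om S := cj_mem_OmS' h.conj (le_normalizer ht.1) hKS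
    have hneK : K ≠ cj t K := by
      intro h3
      apply htT₀
      apply hTC t ht
      have h4 := h.zz_cj hK t
      rw [← h3] at h4
      rw [← hzdef] at h4
      rw [eq_mul_inv_iff_mul_eq] at h4
      exact h4.symm
    have hcom : ∀ a ∈ Q, ∀ b ∈ Q, a * (t * b * t⁻¹) = t * b * t⁻¹ * a := by
      intro a ha b hb
      exact h.comm hS.2.1 hKS hKt hneK ⟨hQ.1 ha, hQS ha⟩ ⟨conj_mem_cj (hQ.1 hb),
        S.mul_mem (S.mul_mem ht.1 (hQS hb)) (S.inv_mem ht.1)⟩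
    -- `m = c⁻¹ c^t`
    have hm : c⁻¹ * (t * c * t⁻¹) ∈ T := by
      refine ⟨S.mul_mem (S.inv_mem (hQS hcQ)) (S.mul_mem (S.mul_mem ht.1 (hQS hcQ)) (S.inv_mem ht.1)), ?_⟩
      have h3 : c⁻¹ * t * c⁻¹⁻¹ ∈ M := (mem_normalizer_iff.1 (hM (K.inv_mem (hQ.1 hcQ))) _).1 ht.2
      have h4 : c⁻¹ * (t * c * t⁻¹) = c⁻¹ * t * c⁻¹⁻¹ * t⁻¹ := by group
      rw [h4]
      exact M.mul_mem h3 (M.inv_mem ht.2)
    have hmz : c⁻¹ * (t * c * t⁻¹) * z = z * (c⁻¹ * (t * c * t⁻¹)) := by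
      have hzS : z ∈ K ⊓ S := h.zz_mem_inf hS.2.1 hKS
      have h3 : z * (t * c * t⁻¹) = t * c * t⁻¹ * z :=
        h.comm hS.2.1 hKS hKt hneK hzS ⟨conj_mem_cj (hQ.1 hcQ),
          S.mul_mem (S.mul_mem ht.1 (hQS hcQ)) (S.inv_mem ht.1)⟩
      have h4 := hzK _ (K.inv_mem (hQ.1 hcQ))
      calc c⁻¹ * (t * c * t⁻¹) * z = c⁻¹ * (t * c * t⁻¹ * z) := by group
        _ = c⁻¹ * (z * (t * c * t⁻¹)) := by rw [h3]
        _ = (c⁻¹ * z) * (t * c * t⁻¹) := by group
        _ = (z * c⁻¹) * (t * c * t⁻¹) := by rw [h4]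
        _ = _ := by group
    have h3 := hQT₀ v hvQ _ (hTC _ hm hmz)
    have h4 := hcom v hvQ c hcQ
    apply hvc
    -- `v` commutes with `m` and with `c^t = c m`
    have h5 : t * c * t⁻¹ = c * (c⁻¹ * (t * c * t⁻¹)) := by group
    set m := c⁻¹ * (t * c * t⁻¹) with hmdef
    rw [h5] at h4
    have h6 : v * c * m = c * v * m := by
      calc v * c * m = v * (c * m) := by group
        _ = c * m * v := h4
        _ = c * (m * v) := by group
        _ = c * (v * m) := by rw [h3]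
        _ = c * v * m := by group
    exact mul_right_cancel h6
  have hQT : ∀ q ∈ Q, ∀ x ∈ T, q * x = x * q := by rw [← hTT]; exact hQT₀
  -- (2) `Z*`
  have hzQ : z ∈ Q := by
    obtain ⟨c, v, n, hgq⟩ := h.exists_gq hK hQ
    exact hgq.z_mem
  obtain ⟨g, hgMQ, hgS, hgz⟩ : ∃ g ∈ M ⊔ Q, g * z * g⁻¹ ∈ S ∧ g * z * g⁻¹ ≠ z := by
    by_contra hcon
    push Not at hcon
    obtain ⟨P, hP⟩ := hS.exists_sylow
    have hzMQ : z ∈ M ⊔ Q := (le_sup_right : Q ≤ M ⊔ Q) hzQ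
    obtain ⟨N, hN, hNodd, hNz⟩ := Cfsg.Agent.S0215.result P (⟨z, hzMQ⟩ : (M ⊔ Q : Subgroup G))
      (by rw [Subgroup.orderOf_mk]; exact h.orderOf_zz hK)
      (by
        have : (⟨z, hzMQ⟩ : (M ⊔ Q : Subgroup G)) ∈ (P : Subgroup _) := by
          rw [hP]; exact hQS hzQ
        exact this)
      (by
        rintro ⟨g, hg⟩ hgP
        have h3 : g * z * g⁻¹ ∈ S := by
          have h4 : (⟨g, hg⟩ : (M ⊔ Q : Subgroup G)) * ⟨z, hzMQ⟩ * (⟨g, hg⟩ : (M ⊔ Q : Subgroup G))⁻¹ ∈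
              (P : Subgroup _) := hgP
          rw [hP] at h4
          exact h4
        exact Subtype.ext (hcon g hg h3))
    apply hz
    intro m hm
    rw [mem_centralizer_singleton_iff]
    -- the commutator `[z, m]` lies in `N ∩ M`, an odd normal subgroup of `M`
    have hmMQ : m ∈ M ⊔ Q := (le_sup_left : M ≤ M ⊔ Q) hm
    have h3 : z * m * z⁻¹ * m⁻¹ ∈ N.map (M ⊔ Q).subtype ⊓ M := by
      refine ⟨⟨_, hNz ⟨m, hmMQ⟩, rfl⟩, ?_⟩
      exact M.mul_mem ((mem_normalizer_iff.1 (hM (hQ.1 hzQ)) _).1 hm) (M.inv_mem hm)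
    have h4 : N.map (M ⊔ Q).subtype ⊓ M ≤ OO M := by
      refine le_OO inf_le_right ?_ ?_
      · intro y hy
        rw [mem_normalizer_iff_cj, cj_inf, mem_normalizer_iff_cj.1 (le_normalizer hy)]
        congr 1
        rw [← mem_normalizer_iff_cj]
        have h5 := (normal_subgroupOf_iff_le_normalizer (map_subtype_le N : N.map (M ⊔ Q).subtype ≤ _)).1 (by
          rw [subgroupOf, comap_map_eq_self_of_injective (M ⊔ Q).subtype_injective]
          exact hN)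
        exact h5 ((le_sup_left : M ≤ M ⊔ Q) hy)
      · intro h5
        have h6 : Nat.card (N.map (M ⊔ Q).subtype) = Nat.card N :=
          card_map_of_injective (M ⊔ Q).subtype_injective
        have h7 := h5.trans (card_dvd_of_le (inf_le_left : N.map (M ⊔ Q).subtype ⊓ M ≤ _))
        rw [h6] at h7
        rw [← Nat.not_even_iff_odd, even_iff_two_dvd] at hNodd
        exact hNodd h7
    have h5 := h4 h3
    rw [hO, Subgroup.mem_bot, mul_inv_eq_one, mul_inv_eq_iff_eq_mul] at h5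
    exact h5.symm
  -- `Q` centralizes `z' = z^g`
  have hz'T : z⁻¹ * (g * z * g⁻¹) ∈ T := by
    refine ⟨S.mul_mem (S.inv_mem (hQS hzQ)) hgS, ?_⟩
    obtain ⟨m, hm, q, hq, rfl⟩ := exists_mul_of_mem_sup (hQ.1.trans hM) hgMQ
    have hqz := hzK q (hQ.1 hq)
    have h3 : z⁻¹ * (m * q * z * (m * q)⁻¹) = (z⁻¹ * m * z⁻¹⁻¹) * m⁻¹ := by
      calc z⁻¹ * (m * q * z * (m * q)⁻¹) = z⁻¹ * m * (q * z) * q⁻¹ * m⁻¹ := by group
        _ = z⁻¹ * m * (z * q) * q⁻¹ * m⁻¹ := by rw [hqz]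
        _ = _ := by group
    rw [h3]
    exact M.mul_mem ((mem_normalizer_iff.1 (hM (K.inv_mem (hQ.1 hzQ))) _).1 hm) (M.inv_mem hm)
  have hK' : cj g K ∈ Om := h.conj K hK g
  have hzz' : zz (cj g K) = g * z * g⁻¹ := h.zz_cj hK g
  have hQz' : ∀ a ∈ Q, a * zz (cj g K) = zz (cj g K) * a := by
    intro a ha
    rw [hzz']
    have h3 := hQT a ha _ hz'T
    have h4 := hzK a (hQ.1 ha)
    set w := z⁻¹ * (g * z * g⁻¹) with hw
    have h5 : g * z * g⁻¹ = z * w := by rw [hw]; group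
    rw [h5]
    calc a * (z * w) = (a * z) * w := by group
      _ = z * (a * w) := by rw [h4]; group
      _ = z * (w * a) := by rw [h3]
      _ = z * w * a := by group
  have hneK : K ≠ cj g K := by
    intro h3
    apply hgz
    rw [← hzz', ← h3]
  have hQK' := h.le_normalizer_of_commute hK hK' hQ hQz'
  obtain ⟨Q', hQ', hQQ'2, hQQ'⟩ := h.comm_of_normalizes hK hK' hneK hQ hQK'
  -- (3) `Q ≤ M Q'`
  have hgMK : g ∈ M ⊔ K := (sup_le_sup_left hQ.1 M : M ⊔ Q ≤ M ⊔ K) hgMQ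
  have hMKn : M ⊔ K ≤ normalizer (M : Set G) := sup_le le_normalizer hM
  have hcjMK : cj g (M ⊔ K) = M ⊔ K := mem_normalizer_iff_cj.1 (le_normalizer hgMK)
  have hcjM : cj g M = M := mem_normalizer_iff_cj.1 (hMKn hgMK)
  have hMK' : M ⊔ cj g K = M ⊔ K := by
    rw [← hcjMK, cj_sup, hcjM]
  have hQ'MK : Q' ≤ M ⊔ K := by
    rw [← hMK']
    exact hQ'.1.trans le_sup_right
  have hodd : ¬ 2 ∣ (M ⊔ Q').relIndex (M ⊔ K) := by
    rw [← hMK']
    intro h3
    have hKn : cj g K ≤ normalizer (M : Set G) := le_sup_right.trans (hMK'.le.trans hMKn)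
    exact hQ'.2.2 (h3.trans (relIndex_sup_dvd hQ'.1 hKn))
  have hQle : Q ≤ M ⊔ Q' := by
    refine le_sup_of_syl (A := M ⊔ K) le_sup_left hMKn hodd hQ'MK (hQ.1.trans le_sup_right) hQ.2.1 ?_
    intro q hq
    rw [mem_normalizer_iff]
    intro x
    constructor
    · intro hx
      rw [hQQ' q hq x hx]
      have : x * q * q⁻¹ = x := by group
      rwa [this]
    · intro hx
      have h3 := hQQ' q hq _ hx
      have h4 : q * x * q⁻¹ = x := by
        have h5 : q * (q * x * q⁻¹) = q * (x * q⁻¹ * q) := by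
          rw [h3]; group
        have h6 : x * q⁻¹ * q = x := by group
        rw [h6] at h5
        exact mul_left_cancel h5
      rwa [h4] at hx
  -- the contradiction
  have hQ'M : Q' ≤ normalizer (M : Set G) := hQ'MK.trans hMKn
  obtain ⟨m', hm', y', hy', hcy⟩ := exists_mul_of_mem_sup hQ'M (hQle hcQ)
  -- `m = c⁻¹ y'`
  have hmM : c⁻¹ * y' ∈ M := by
    have h3 : c⁻¹ * y' = y'⁻¹ * m'⁻¹ * y'⁻¹⁻¹ := by rw [hcy]; group
    rw [h3]
    exact (mem_normalizer_iff.1 (hQ'M (Q'.inv_mem hy')) _).1 (M.inv_mem hm')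
  have hm2 : IsPGroup 2 (zpowers (c⁻¹ * y')) := by
    refine hQQ'2.to_le (zpowers_le.2 ?_)
    exact (Q ⊔ Q').mul_mem ((le_sup_left : Q ≤ Q ⊔ Q') (Q.inv_mem hcQ)) ((le_sup_right : Q' ≤ Q ⊔ Q') hy')
  have hmQ : c⁻¹ * y' ∈ normalizer (Q : Set G) := by
    rw [mem_normalizer_iff_cj, cj_mul]
    have h3 : cj y' Q = Q := by
      ext x
      rw [mem_cj]
      constructor
      · intro hx
        have h4 := hQQ' _ hx y' hy'
        have h5 : y'⁻¹ * x * y' * y' = x * y' * (y'⁻¹ * y') := by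
          rw [h4]; group
        have h6 : y'⁻¹ * x * y' = x := by
          have h7 : x * y' * (y'⁻¹ * y') = x * y' := by group
          rw [h7] at h5
          exact mul_right_cancel h5
        rwa [h6] at hx
      · intro hx
        have h4 := hQQ' _ hx y' hy'
        have h5 : y'⁻¹ * x * y' = x := by
          rw [mul_assoc, h4]; group
        rwa [h5]
    rw [h3, mem_normalizer_iff_cj.1 (le_normalizer (Q.inv_mem hcQ))]
  have hTn : Syl T (M ⊓ normalizer (Q : Set G)) := by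
    refine syl_of_le hT (le_inf inf_le_right ?_) inf_le_left
    intro x hx
    rw [mem_normalizer_iff]
    intro y
    constructor
    · intro hy
      have h3 := hQT y hy x hx
      rw [← h3]
      have : y * x * x⁻¹ = y := by group
      rwa [this]
    · intro hy
      have h3 := hQT _ hy x hx
      have h4 : x * y * x⁻¹ * x = x * (x * y * x⁻¹) := h3
      have h5 : x * y * x⁻¹ * x = x * y := by group
      rw [h5] at h4
      have h6 := mul_left_cancel h4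
      rw [h6]; exact hy
  obtain ⟨n, ⟨-, hnQ⟩, hnT⟩ := exists_conj_mem hTn ⟨hmM, hmQ⟩ hm2
  -- `m` centralizes `Q`
  have hmv : c⁻¹ * y' * v = v * (c⁻¹ * y') := by
    have h3 := (mem_normalizer_iff.1 hnQ v).1 hvQ
    have h4 := hQT _ h3 _ hnT
    have h5 : n * v * n⁻¹ * (n * (c⁻¹ * y') * n⁻¹) = n * (v * (c⁻¹ * y')) * n⁻¹ := by group
    have h6 : n * (c⁻¹ * y') * n⁻¹ * (n * v * n⁻¹) = n * (c⁻¹ * y' * v) * n⁻¹ := by group
    rw [h5, h6] at h4
    exact (mul_left_cancel (mul_right_cancel h4)).symm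
  apply hvc
  have h3 := hQQ' v hvQ y' hy'
  have h4 : c⁻¹ * v * y' = v * c⁻¹ * y' := by
    calc c⁻¹ * v * y' = c⁻¹ * (v * y') := by group
      _ = c⁻¹ * y' * v := by rw [h3]; group
      _ = v * (c⁻¹ * y') := hmv
      _ = v * c⁻¹ * y' := by group
  have h5 := mul_right_cancel h4
  calc v * c = c * (c⁻¹ * v) * c := by group
    _ = c * (v * c⁻¹) * c := by rw [h5]
    _ = c * v := by group

end Hyp

end Cfsg.Agent.Cit
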