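import Cfsg.Agent.Cit.WeakCl

/-!
# The family `Om[H]` : members of `Om` covered by `H` modulo their core

For `H ≤ G` put `cov Om H = {K ∈ Om : K = (K ⊓ H) O(K)}` and
`restrX Om H = {K ⊓ H : K ∈ cov Om H}` (as subgroups of `↥H`). HYP passes to `restrX Om H`.

For a 2-subgroup `A` and `H = C_G(A)` the condition `K ∈ cov Om H` says that `A` normalises `K` and acts
trivially on `K / O(K)` (`mem_cov_centralizer`).
-/

set_option autoImplicit false
set_option linter.style.haveILetI false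

namespace Cfsg.Agent.Cit.SubCent

open Subgroup Cfsg

variable {G : Type*} [Group G]

/-- the members `K` of `Om` with `K = (K ⊓ H) O(K)` -/
def cov (Om : Set (Subgroup G)) (H : Subgroup G) : Set (Subgroup G) :=
  {K | K ∈ Om ∧ ∀ k ∈ K, ∃ o ∈ OO K, k * o ∈ H}

/-- the family `Om[H]` of subgroups of `↥H` -/
def restrX (Om : Set (Subgroup G)) (H : Subgroup G) : Set (Subgroup H) :=
  (fun K => K.subgroupOf H) '' cov Om H

variable {Om : Set (Subgroup G)} {H K L : Subgroup G}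

theorem mem_cov_of_le (hK : K ∈ Om) (hKH : K ≤ H) : K ∈ cov Om H :=
  ⟨hK, fun k hk => ⟨1, one_mem _, by rw [mul_one]; exact hKH hk⟩⟩

theorem conj_mem_OO {k o : G} (hk : k ∈ K) (ho : o ∈ OO K) : k * o * k⁻¹ ∈ OO K :=
  (mem_normalizer_iff.1 (le_normalizer_OO K hk) o).1 ho

/-- every `k ∈ K` is `o * h`, with `o ∈ O(K)` and `h ∈ K ⊓ H` -/
theorem exists_mul (hK : K ∈ cov Om H) {k : G} (hk : k ∈ K) :
    ∃ o ∈ OO K, ∃ x ∈ K ⊓ H, k = o * x := by
  obtain ⟨o, ho, hH⟩ := hK.2 k hk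
  have hx : k * o ∈ K := K.mul_mem hk (OO_le K ho)
  refine ⟨(k * o) * o⁻¹ * (k * o)⁻¹, conj_mem_OO hx (inv_mem ho), k * o, ⟨hx, hH⟩, by group⟩

theorem mem_cov_iff : K ∈ cov Om H ↔ K ∈ Om ∧ K ≤ (K ⊓ H) ⊔ OO K := by
  constructor
  · intro hK
    refine ⟨hK.1, fun k hk => ?_⟩
    obtain ⟨o, ho, x, hx, rfl⟩ := exists_mul hK hk
    exact mul_mem (mem_sup_right ho) (mem_sup_left hx)
  · rintro ⟨h1, h2⟩
    refine ⟨h1, fun k hk => ?_⟩
    -- the products `x * o` form a subgroup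
    let E : Subgroup G :=
      { carrier := {y | ∃ x ∈ K ⊓ H, ∃ o ∈ OO K, y = x * o}
        one_mem' := ⟨1, one_mem _, 1, one_mem _, by simp⟩
        mul_mem' := by
          rintro _ _ ⟨a, ha, b, hb, rfl⟩ ⟨a', ha', b', hb', rfl⟩
          refine ⟨a * a', mul_mem ha ha', (a'⁻¹ * b * a') * b', mul_mem ?_ hb', by group⟩
          have := conj_mem_OO (K := K) (inv_mem ha'.1) hb
          rwa [inv_inv] at this
        inv_mem' := by
          rintro _ ⟨a, ha, b, hb, rfl⟩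
          exact ⟨a⁻¹, inv_mem ha, a * b⁻¹ * a⁻¹, conj_mem_OO ha.1 (inv_mem hb), by group⟩ }
    have h3 : (K ⊓ H) ⊔ OO K ≤ E := sup_le (fun a ha => ⟨a, ha, 1, one_mem _, by simp⟩)
      (fun b hb => ⟨1, one_mem _, b, hb, by simp⟩)
    obtain ⟨x, hx, o, ho, rfl⟩ := h3 (h2 hk)
    exact ⟨o⁻¹, inv_mem ho, by rw [mul_assoc, mul_inv_cancel, mul_one]; exact hx.2⟩

theorem cov_mono {H' : Subgroup G} (h : H ≤ H') : cov Om H ⊆ cov Om H' := fun _ hK =>
  ⟨hK.1, fun k hk => by obtain ⟨o, ho, h1⟩ := hK.2 k hk; exact ⟨o, ho, h h1⟩⟩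

/-- conjugation -/
theorem cj_mem_cov (hO : ∀ K ∈ Om, ∀ g, cj g K ∈ Om) {g : G} (hK : K ∈ cov Om H) :
    cj g K ∈ cov Om (cj g H) := by
  refine ⟨hO _ hK.1 g, fun k hk => ?_⟩
  obtain ⟨o, ho, h1⟩ := hK.2 _ (mem_cj.1 hk)
  refine ⟨g * o * g⁻¹, by rw [OO_cj]; exact conj_mem_cj ho, ?_⟩
  rw [mem_cj]
  convert h1 using 1
  group

theorem cj_mem_cov_of_mem (hO : ∀ K ∈ Om, ∀ g, cj g K ∈ Om) {g : G}
    (hg : g ∈ normalizer (H : Set G)) (hK : K ∈ cov Om H) : cj g K ∈ cov Om H := by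
  have := cj_mem_cov hO (g := g) hK
  rwa [mem_normalizer_iff_cj.1 hg] at this

/-- `|K : K ⊓ H|` is odd -/
theorem not_dvd_relIndex [Finite G] (hK : K ∈ cov Om H) : ¬ 2 ∣ H.relIndex K := by
  intro h
  have h1 : H.relIndex K ∣ Nat.card (oddCore K) := by
    haveI : MulAction.IsPretransitive (oddCore K) (K ⧸ H.subgroupOf K) := by
      rw [MulAction.isPretransitive_iff_base (((1 : K) : K ⧸ H.subgroupOf K))]
      intro y
      obtain ⟨k, rfl⟩ := QuotientGroup.mk_surjective y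
      obtain ⟨_, ⟨o, ho, rfl⟩, x, hx, hkx⟩ := exists_mul hK k.2
      refine ⟨⟨o, ho⟩, ?_⟩
      change ((o * 1 : K) : K ⧸ H.subgroupOf K) = (k : K ⧸ H.subgroupOf K)
      rw [mul_one, QuotientGroup.eq, mem_subgroupOf]
      have h2 : ((o⁻¹ * k : K) : G) = x := by
        rw [coe_mul, coe_inv, hkx]
        simp
      rw [h2]
      exact hx.2
    have h2 := MulAction.index_stabilizer_of_transitive (G := oddCore K)
      (((1 : K) : K ⧸ H.subgroupOf K))
    have h3 : H.relIndex K = Nat.card (K ⧸ H.subgroupOf K) := rfl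
    rw [h3, ← h2]
    exact index_dvd_card _
  have h2 : Nat.card (oddCore K) = Nat.card (OO K) :=
    (card_map_of_injective K.subtype_injective).symm
  rw [h2] at h1
  exact odd_OO K (h.trans h1)

/-- a Sylow 2-subgroup of `K ⊓ H` is one of `K` -/
theorem syl_of_syl_inf [Finite G] (hK : K ∈ cov Om H) {Q : Subgroup G} (hQ : Syl Q (K ⊓ H)) :
    Syl Q K := by
  refine ⟨hQ.1.trans inf_le_left, hQ.2.1, fun h => ?_⟩
  rw [← relIndex_mul_relIndex Q (K ⊓ H) K hQ.1 inf_le_left, inf_relIndex_left] at h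
  rcases (Nat.Prime.dvd_mul Nat.prime_two).1 h with h1 | h1
  · exact hQ.2.2 h1
  · exact not_dvd_relIndex hK h1

theorem syl_inf_of_syl [Finite G] {Q : Subgroup G} (hQ : Syl Q K) (hQH : Q ≤ H) : Syl Q (K ⊓ H) :=
  ⟨le_inf hQ.1 hQH, hQ.2.1, fun h => hQ.2.2
    (by rw [← relIndex_mul_relIndex Q (K ⊓ H) K (le_inf hQ.1 hQH) inf_le_left]
        exact h.mul_right _)⟩

theorem zz_mem_of_cov [Finite G] (h : Hyp Om) (hK : K ∈ cov Om H) : zz K ∈ H := by
  obtain ⟨Q, hQ⟩ := Hyp.exists_syl (K ⊓ H)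
  obtain ⟨c, v, n, hc⟩ := h.exists_gq hK.1 (syl_of_syl_inf hK hQ)
  exact (hQ.1 hc.z_mem).2

theorem zz_mem_inf [Finite G] (h : Hyp Om) (hK : K ∈ cov Om H) : zz K ∈ K ⊓ H :=
  ⟨h.zz_mem hK.1, zz_mem_of_cov h hK⟩

theorem zz_inf [Finite G] (h : Hyp Om) (hK : K ∈ cov Om H) : zz (K ⊓ H) = zz K := by
  obtain ⟨h1, h2⟩ := zz_spec (K := K ⊓ H) ⟨_, zz_mem_inf h hK, h.orderOf_zz hK.1⟩
  exact h.uniq _ hK.1 _ h1.1 h2

theorem zz_subgroupOf [Finite G] (h : Hyp Om) (hK : K ∈ cov Om H) :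
    ((zz (K.subgroupOf H) : H) : G) = zz K := by
  have h0 : ∃ t ∈ K.subgroupOf H, orderOf t = 2 :=
    ⟨⟨zz K, zz_mem_of_cov h hK⟩, h.zz_mem hK.1, by
      rw [← orderOf_coe]; exact h.orderOf_zz hK.1⟩
  obtain ⟨h1, h2⟩ := zz_spec h0
  exact h.uniq _ hK.1 _ h1 (by rw [orderOf_coe]; exact h2)

/-- `O(K ⊓ H) = O(K) ⊓ H` -/
theorem OO_inf [Finite G] (hK : K ∈ cov Om H) : OO (K ⊓ H) = OO K ⊓ H := by
  apply le_antisymm
  · refine le_inf ?_ ((OO_le _).trans inf_le_right)
    -- `O(K ⊓ H) O(K)` is normal in `K` and of odd order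
    have hn1 : OO (K ⊓ H) ≤ normalizer (OO K : Set G) :=
      ((OO_le _).trans inf_le_left).trans (le_normalizer_OO K)
    have h1 : OO K ⊔ OO (K ⊓ H) ≤ OO K := by
      refine le_OO (sup_le (OO_le K) ((OO_le _).trans inf_le_left)) ?_ ?_
      · intro k hk
        obtain ⟨o, ho, x, hx, rfl⟩ := exists_mul hK hk
        refine mul_mem (le_normalizer (mem_sup_left ho)) ?_
        rw [mem_normalizer_iff_cj, cj_sup]
        congr 1
        · exact mem_normalizer_iff_cj.1 (le_normalizer_OO K hx.1)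
        · exact mem_normalizer_iff_cj.1 (le_normalizer_OO _ hx)
      · intro h2
        have h3 : Nat.card (OO K) * (OO K).relIndex (OO K ⊔ OO (K ⊓ H)) =
            Nat.card (OO K ⊔ OO (K ⊓ H) : Subgroup G) := by
          rw [← relIndex_bot_left (OO K), relIndex_mul_relIndex ⊥ _ _ bot_le le_sup_left,
            relIndex_bot_left]
        haveI : ((OO K).subgroupOf (OO K ⊔ OO (K ⊓ H))).Normal :=
          (normal_subgroupOf_iff_le_normalizer le_sup_left).2 (sup_le le_normalizer hn1)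
        have h4 : (OO K).relIndex (OO K ⊔ OO (K ⊓ H)) = (OO K).relIndex (OO (K ⊓ H)) := by
          rw [← relIndex_subgroupOf (le_sup_right : OO (K ⊓ H) ≤ OO K ⊔ OO (K ⊓ H)),
            ← relIndex_sup_right ((OO (K ⊓ H)).subgroupOf (OO K ⊔ OO (K ⊓ H)))
            ((OO K).subgroupOf (OO K ⊔ OO (K ⊓ H))), ← subgroupOf_sup le_sup_right le_sup_left,
            sup_comm (OO (K ⊓ H)) (OO K), relIndex_subgroupOf le_rfl]
        rw [← h3, h4] at h2
        rcases (Nat.Prime.dvd_mul Nat.prime_two).1 h2 with h5 | h5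
        · exact odd_OO K h5
        · exact odd_OO (K ⊓ H) (h5.trans (relIndex_dvd_card _ _))
    exact le_sup_right.trans h1
  · refine le_OO (inf_le_inf_right _ (OO_le K)) ?_ ?_
    · intro k hk
      rw [mem_normalizer_iff_cj, cj_inf, mem_normalizer_iff_cj.1 (le_normalizer_OO K hk.1),
        mem_normalizer_iff_cj.1 (le_normalizer hk.2)]
    · exact fun h2 => odd_OO K (h2.trans (card_dvd_of_le inf_le_left))

theorem OO_subgroupOf [Finite G] (hK : K ∈ cov Om H) :
    OO (K.subgroupOf H) = (OO K).subgroupOf H := by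
  apply Subgroup.map_injective H.subtype_injective
  rw [← OO_map _ H.subtype_injective, subgroupOf_map_subtype, subgroupOf_map_subtype, OO_inf hK]

/-- two members of `Om` covered by `H` whose traces on `H` have a common member of `Om[H]` are equal;
here: the trace determines the member -/
theorem eq_of_inf_le [Finite G] (h : Hyp Om) (hK : K ∈ cov Om H) (hL : L ∈ Om) (hle : K ⊓ H ≤ L) :
    K = L := by
  have h1 : zz K = zz L :=
    h.uniq _ hL _ (hle (zz_mem_inf h hK)) (h.orderOf_zz hK.1)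
  rcases h.h2 _ hK.1 _ hL h1 with h2 | h2
  · exact h2
  · exfalso
    obtain ⟨Q, hQ⟩ := Hyp.exists_syl (K ⊓ H)
    obtain ⟨c, v, n, hc⟩ := h.exists_gq hK.1 (syl_of_syl_inf hK hQ)
    -- `z = [v, w]` lies in `O(K)`
    have hQL : Q ≤ L := hQ.1.trans hle
    have hQK : Q ≤ K := hQ.1.trans inf_le_left
    have h3 : ⁅Q, Q⁆ ≤ OO K := (commutator_mono hQK hQL).trans (h2.trans inf_le_left)
    obtain ⟨x, hx, y, hy, -, -, -, hxy⟩ := hc.exists_pair
    have h4 : zz K ∈ OO K := by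
      have h5 := h3 (commutator_mem_commutator (inv_mem hy) (inv_mem hx))
      rw [commutatorElement_def, inv_inv, inv_inv] at h5
      have h6 : y⁻¹ * x⁻¹ * y * x = zz K := by
        calc y⁻¹ * x⁻¹ * y * x = y⁻¹ * x⁻¹ * (y * x) := by group
          _ = zz K := by rw [hxy]; group
      rwa [h6] at h5
    refine odd_OO K ?_
    rw [← h.orderOf_zz hK.1, ← Nat.card_zpowers]
    exact card_dvd_of_le (by rwa [zpowers_le])

/-- the trace on `H` determines a member of `cov Om H` -/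
theorem injOn [Finite G] (h : Hyp Om) : Set.InjOn (fun K : Subgroup G => K.subgroupOf H) (cov Om H) := by
  intro K hK L hL hKL
  refine eq_of_inf_le h hK hL.1 ?_
  have h1 := congrArg (Subgroup.map H.subtype) hKL
  simp only [subgroupOf_map_subtype] at h1
  rw [h1]
  exact inf_le_left

theorem mem_restrX [Finite G] (h : Hyp Om) (hK : K ∈ Om) :
    K.subgroupOf H ∈ restrX Om H → zz K ∈ H → K ∈ cov Om H := by
  rintro ⟨L, hL, hLK⟩ -
  have h1 := congrArg (Subgroup.map H.subtype) hLK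
  simp only [subgroupOf_map_subtype] at h1
  have h2 : L = K := eq_of_inf_le h hL hK (by rw [h1]; exact inf_le_left)
  rwa [← h2]

/-- **HYP passes to `Om[H]`** -/
theorem hyp_restrX [Finite G] (h : Hyp Om) (H : Subgroup G) : Hyp (restrX Om H) := by
  refine ⟨?_, ?_, ?_, ?_, ?_, ?_⟩
  · rintro _ ⟨K, hK, rfl⟩ g
    refine ⟨cj (g : G) K, cj_mem_cov_of_mem h.conj (le_normalizer g.2) hK, ?_⟩
    apply Subgroup.map_injective H.subtype_injective
    change ((cj (g : G) K).subgroupOf H).map H.subtype = _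
    rw [cj_map, subgroupOf_map_subtype, subgroupOf_map_subtype, cj_inf]
    congr 1
    exact (mem_normalizer_iff_cj.1 (le_normalizer g.2)).symm
  · rintro _ ⟨K, hK, rfl⟩
    haveI : Fact (Nat.Prime 2) := ⟨Nat.prime_two⟩
    obtain ⟨Q, hQ⟩ := Hyp.exists_syl (K ⊓ H)
    obtain ⟨n, ⟨e⟩⟩ := h.isGQ hK.1 (syl_of_syl_inf hK hQ)
    have h1 : HasQS ↥(K ⊓ H) := by
      obtain ⟨S, hS⟩ := hQ.exists_sylow
      exact ⟨S, n, ⟨((MulEquiv.subgroupCongr hS).trans (subgroupOfEquivOfLe hQ.1)).trans e⟩⟩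
    have e1 : ↥(K ⊓ H) ≃* ↥(K.subgroupOf H) := by
      have h2 : (K ⊓ H).subgroupOf H = K.subgroupOf H := inf_subgroupOf_right K H
      exact (subgroupOfEquivOfLe (inf_le_right : K ⊓ H ≤ H)).symm.trans (MulEquiv.subgroupCongr h2)
    exact h1.of_equiv e1
  · rintro _ ⟨K, hK, rfl⟩ t ht ht2
    apply Subtype.ext
    change (t : G) = (zz (K.subgroupOf H) : H)
    rw [zz_subgroupOf h hK]
    exact h.uniq _ hK.1 _ ht (by rw [orderOf_coe]; exact ht2)
  · rintro _ ⟨K, hK, rfl⟩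
    have h1 := h.sub _ hK.1
    change (((K.subgroupOf H).subgroupOf (centralizer {zz (K.subgroupOf H)})).IsSubnormal)
    let f : centralizer {zz (K.subgroupOf H)} →* centralizer {zz K} :=
      { toFun := fun x => ⟨(x : H), by
          have h2 := mem_centralizer_singleton_iff.1 x.2
          rw [mem_centralizer_singleton_iff, ← zz_subgroupOf h hK]
          exact congrArg Subtype.val h2⟩
        map_one' := rfl
        map_mul' := fun x y => rfl }
    convert h1.comap f using 1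
    ext x
    rfl
  · rintro _ ⟨K, hK, rfl⟩ _ ⟨L, hL, rfl⟩ hKL
    change K.subgroupOf H = L.subgroupOf H ∨ ⁅K.subgroupOf H, L.subgroupOf H⁆ ≤
      OO (K.subgroupOf H) ⊓ OO (L.subgroupOf H)
    have h1 := h.h2 _ hK.1 _ hL.1 (by
      rw [← zz_subgroupOf h hK, ← zz_subgroupOf h hL]; exact congrArg Subtype.val hKL)
    rcases h1 with h1 | h1
    · left; rw [h1]
    · right
      rw [OO_subgroupOf hK, OO_subgroupOf hL]
      rw [commutator_le]
      intro x hx y hy
      exact h1 (commutator_mem_commutator hx hy)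
  · rintro _ ⟨K, hK, rfl⟩ _ ⟨L, hL, rfl⟩ y hy hy2 hy4 hyz
    have h1 := h.h3 _ hK.1 _ hL.1 (y : G) hy (by
      have h2 : zpowers (y : G) = (zpowers y).map H.subtype := by
        rw [MonoidHom.map_zpowers]; rfl
      rw [h2]; exact hy2.map _) (by rw [orderOf_coe]; exact hy4) (by
      rw [← zz_subgroupOf h hL]; exact congrArg Subtype.val hyz)
    change y ∈ normalizer ((L.subgroupOf H : Subgroup H) : Set H)
    rw [mem_normalizer_iff] at h1 ⊢
    intro x
    exact h1 x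

/-- `Om[H](S ⊓ H)` -/
theorem mem_OmS_restrX [Finite G] (hK : K ∈ cov Om H) {S : Subgroup G} (hS : S ≤ H) :
    K.subgroupOf H ∈ OmS (restrX Om H) (S.subgroupOf H) ↔ K ∈ OmS Om S := by
  have h1 : (S.subgroupOf H).relIndex (K.subgroupOf H) = S.relIndex (K ⊓ H) := by
    rw [← relIndex_map_map_of_injective _ _ H.subtype_injective, subgroupOf_map_subtype,
      subgroupOf_map_subtype, inf_of_le_left hS]
  have h2 : S.relIndex K = S.relIndex (K ⊓ H) * H.relIndex K := by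
    have h3 : S ⊓ K = S ⊓ (K ⊓ H) := by
      rw [← inf_assoc, inf_eq_left.2 (inf_le_left.trans hS : S ⊓ K ≤ H)]
    rw [← inf_relIndex_right S K, ← relIndex_mul_relIndex (S ⊓ K) (K ⊓ H) K
      (le_inf inf_le_right (inf_le_left.trans hS)) inf_le_left, inf_relIndex_left, h3,
      inf_relIndex_right]
  rw [mem_OmS, mem_OmS, h1, h2]
  constructor
  · rintro ⟨-, h3⟩
    refine ⟨hK.1, fun h4 => ?_⟩
    rcases (Nat.Prime.dvd_mul Nat.prime_two).1 h4 with h5 | h5
    · exact h3 h5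
    · exact not_dvd_relIndex hK h5
  · rintro ⟨-, h3⟩
    exact ⟨⟨K, hK, rfl⟩, fun h4 => h3 (h4.mul_right _)⟩

/-- `K / O(K)` is covered by `K ⊓ H` -/
noncomputable def quotEquiv [Finite G] (hK : K ∈ cov Om H) :
    (K.subgroupOf H) ⧸ oddCore (K.subgroupOf H) ≃* K ⧸ oddCore K := by
  let f : K.subgroupOf H →* K :=
    { toFun := fun x => ⟨((x : H) : G), x.2⟩
      map_one' := rfl
      map_mul' := fun x y => rfl }
  let g : K.subgroupOf H →* K ⧸ oddCore K := (QuotientGroup.mk' _).comp f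
  have hg : Function.Surjective g := by
    intro y
    obtain ⟨k, rfl⟩ := QuotientGroup.mk_surjective y
    obtain ⟨_, ⟨o, ho, rfl⟩, h1⟩ := hK.2 k k.2
    refine ⟨⟨⟨(k : G) * (o : G), h1⟩, K.mul_mem k.2 o.2⟩, ?_⟩
    change ((k * o : K) : K ⧸ oddCore K) = k
    rw [QuotientGroup.eq]
    simpa using ho
  have hk : g.ker = oddCore (K.subgroupOf H) := by
    apply Subgroup.map_injective (K.subgroupOf H).subtype_injective
    have h1 : (oddCore (K.subgroupOf H)).map (K.subgroupOf H).subtype = (OO K).subgroupOf H :=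
      OO_subgroupOf hK
    rw [h1]
    ext x
    constructor
    · rintro ⟨y, hy, rfl⟩
      have h2 : f y ∈ oddCore K := by
        have h3 : (QuotientGroup.mk (f y) : K ⧸ oddCore K) = 1 := hy
        rwa [QuotientGroup.eq_one_iff] at h3
      exact ⟨f y, h2, rfl⟩
    · rintro ⟨y, hy, hyx⟩
      have hxK : (x : G) ∈ K := by
        have : (y : G) = (x : G) := hyx
        rw [← this]; exact y.2
      refine ⟨⟨x, hxK⟩, ?_, rfl⟩
      have h3 : f ⟨x, hxK⟩ = y := Subtype.ext hyx.symm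
      change (QuotientGroup.mk (f ⟨x, hxK⟩) : K ⧸ oddCore K) = 1
      rw [QuotientGroup.eq_one_iff, h3]
      exact hy
  exact (QuotientGroup.quotientMulEquivOfEq hk.symm).trans (QuotientGroup.quotientKerEquivOfSurjective g hg)

/-! ### Centralisers of 2-groups acting trivially on `K / O(K)` -/

/-- `|N A : A|` divides `|N|` -/
theorem relIndex_sup_dvd_card [Finite G] {A N : Subgroup G} (hn : A ≤ normalizer (N : Set G)) :
    A.relIndex (N ⊔ A) ∣ Nat.card N := by
  haveI : (N.subgroupOf (N ⊔ A)).Normal :=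
    (normal_subgroupOf_iff_le_normalizer le_sup_left).2 (sup_le le_normalizer hn)
  have h1 : N.relIndex (N ⊔ A) = N.relIndex A := by
    rw [← relIndex_subgroupOf (le_sup_right : A ≤ N ⊔ A), ← relIndex_sup_right (A.subgroupOf (N ⊔ A))
      (N.subgroupOf (N ⊔ A)), ← subgroupOf_sup le_sup_right le_sup_left, sup_comm A N,
      relIndex_subgroupOf le_rfl]
  have h2 : Nat.card N * N.relIndex A = Nat.card (N ⊔ A : Subgroup G) := by
    rw [← h1, ← relIndex_bot_left N, relIndex_mul_relIndex ⊥ _ _ bot_le le_sup_left,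
      relIndex_bot_left]
  have h3 : Nat.card A * A.relIndex (N ⊔ A) = Nat.card (N ⊔ A : Subgroup G) := by
    rw [← relIndex_bot_left A, relIndex_mul_relIndex ⊥ _ _ bot_le le_sup_right,
      relIndex_bot_left]
  have h4 : Nat.card (N ⊓ A : Subgroup G) * N.relIndex A = Nat.card A := by
    rw [← inf_relIndex_right N A, ← relIndex_bot_left (N ⊓ A),
      relIndex_mul_relIndex ⊥ _ _ bot_le inf_le_right, relIndex_bot_left]
  have hpos : 0 < N.relIndex A := Nat.pos_of_ne_zero (index_ne_zero_of_finite (H := N.subgroupOf A))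
  have h5 : N.relIndex A * (Nat.card (N ⊓ A : Subgroup G) * A.relIndex (N ⊔ A)) =
      N.relIndex A * Nat.card N := by
    calc _ = (Nat.card (N ⊓ A : Subgroup G) * N.relIndex A) * A.relIndex (N ⊔ A) := by ring
      _ = _ := by rw [h4, h3, ← h2]; ring
  exact ⟨_, (Nat.eq_of_mul_eq_mul_left hpos h5).symm.trans (mul_comm _ _)⟩

/-- a 2-group `A` with `[K,A] ≤ O(K)` normalises `K` -/
theorem le_normalizer_of_comm {A : Subgroup G} (hKA : ⁅K, A⁆ ≤ K) : A ≤ normalizer (K : Set G) := by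
  have h1 : ∀ a ∈ A, ∀ k ∈ K, a * k * a⁻¹ ∈ K := by
    intro a ha k hk
    have h2 := hKA (commutator_mem_commutator (K.inv_mem hk) ha)
    rw [commutatorElement_def, inv_inv] at h2
    have h3 := K.mul_mem hk h2
    convert h3 using 1
    group
  intro a ha
  rw [mem_normalizer_iff]
  intro k
  refine ⟨h1 a ha k, fun h2 => ?_⟩
  have h3 := h1 a⁻¹ (A.inv_mem ha) _ h2
  convert h3 using 1
  group

/-- a 2-group `A` with `[K,A] ≤ N`, `N` of odd order: every `k ∈ K` is in `C(A) N` (`K ≤ N(N)`, `A ≤ N(N)`) -/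
theorem exists_mul_mem_centralizer [Finite G] {A N : Subgroup G} (hA : IsPGroup 2 A)
    (hN : ¬ 2 ∣ Nat.card N) (hAN : A ≤ normalizer (N : Set G)) {k : G} (hkN : k ∈ normalizer (N : Set G))
    (hKA : ∀ a ∈ A, k * a * k⁻¹ * a⁻¹ ∈ N) : ∃ o ∈ N, k * o ∈ centralizer (A : Set G) := by
  set M : Subgroup G := N ⊔ A with hM
  have h1 : Syl A M := ⟨le_sup_right, hA, fun h => hN (h.trans (relIndex_sup_dvd_card hAN))⟩
  have h2 : cj k A ≤ M := by
    rintro _ ⟨a, ha, rfl⟩
    have h3 := M.mul_mem (mem_sup_left (hKA a ha) : _ ∈ N ⊔ A) (mem_sup_right ha : a ∈ N ⊔ A)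
    convert h3 using 1
    simp
  have h4 : Syl (cj k A) M := by
    refine ⟨h2, isPGroup_cj hA, fun h => h1.2.2 ?_⟩
    have h5 : Nat.card A * A.relIndex M = Nat.card M := by
      rw [← relIndex_bot_left A, relIndex_mul_relIndex ⊥ _ _ bot_le h1.1, relIndex_bot_left]
    have h6 : Nat.card (cj k A) * (cj k A).relIndex M = Nat.card M := by
      rw [← relIndex_bot_left (cj k A), relIndex_mul_relIndex ⊥ _ _ bot_le h2, relIndex_bot_left]
    rw [card_cj, ← h5] at h6
    rwa [Nat.eq_of_mul_eq_mul_left Nat.card_pos h6] at h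
  obtain ⟨m, hm, hm2⟩ := h4.exists_conj h1
  -- `m = a * n`
  haveI : (N.subgroupOf M).Normal :=
    (normal_subgroupOf_iff_le_normalizer le_sup_left).2 (sup_le le_normalizer hAN)
  obtain ⟨a, ha, n, hn, rfl⟩ : ∃ a ∈ A, ∃ n ∈ N, a * n = m := by
    let E : Subgroup G :=
      { carrier := {y | ∃ x ∈ A, ∃ o ∈ N, y = x * o}
        one_mem' := ⟨1, one_mem _, 1, one_mem _, by simp⟩
        mul_mem' := by
          rintro _ _ ⟨a, ha, b, hb, rfl⟩ ⟨a', ha', b', hb', rfl⟩
          refine ⟨a * a', mul_mem ha ha', (a'⁻¹ * b * a') * b', mul_mem ?_ hb', by group⟩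
          have := (mem_normalizer_iff.1 (hAN (inv_mem ha')) b).1 hb
          rwa [inv_inv] at this
        inv_mem' := by
          rintro _ ⟨a, ha, b, hb, rfl⟩
          exact ⟨a⁻¹, inv_mem ha, a * b⁻¹ * a⁻¹,
            (mem_normalizer_iff.1 (hAN ha) _).1 (inv_mem hb), by group⟩ }
    have h3 : M ≤ E := sup_le (fun b hb => ⟨1, one_mem _, b, hb, by simp⟩)
      (fun a ha => ⟨a, ha, 1, one_mem _, by simp⟩)
    obtain ⟨x, hx, o, ho, h⟩ := h3 hm
    exact ⟨x, hx, o, ho, h.symm⟩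
  have h7 : cj (n * k) A = A := by
    have h8 : cj a⁻¹ A = A := mem_normalizer_iff_cj.1 (le_normalizer (inv_mem ha))
    rw [cj_mul] at hm2 ⊢
    have h9 := congrArg (cj a⁻¹) hm2
    rwa [cj_inv_cj, h8] at h9
  have h8 : n * k ∈ centralizer (A : Set G) := by
    rw [mem_centralizer_iff]
    intro b hb
    have h9 : (n * k) * b * (n * k)⁻¹ ∈ A := by rw [← h7]; exact conj_mem_cj hb
    have h10 : (n * k) * b * (n * k)⁻¹ * b⁻¹ ∈ A := A.mul_mem h9 (A.inv_mem hb)
    have h11 : (n * k) * b * (n * k)⁻¹ * b⁻¹ ∈ N := by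
      have h12 : b * n⁻¹ * b⁻¹ ∈ N := (mem_normalizer_iff.1 (hAN hb) _).1 (inv_mem hn)
      have h13 := N.mul_mem (N.mul_mem hn (hKA b hb)) h12
      convert h13 using 1
      group
    obtain ⟨e, he⟩ := hA ⟨_, h10⟩
    have h12 := eq_one_of_odd hN h11 (a := e) (congrArg Subtype.val he)
    have h13 : (n * k) * b * (n * k)⁻¹ = b := by
      rw [mul_inv_eq_one] at h12; exact h12
    have h14 : (n * k) * b = b * (n * k) := by
      rw [mul_inv_eq_iff_eq_mul] at h13; exact h13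
    exact h14.symm
  refine ⟨k⁻¹ * n * k, ?_, by convert h8 using 1; group⟩
  have := (mem_normalizer_iff.1 (inv_mem hkN) n).1 hn
  rwa [inv_inv] at this

/-- a 2-group `A` with `[K,A] ≤ O(K)` : `K = C_K(A) O(K)` -/
theorem cov_of_comm [Finite G] (hK : K ∈ Om) {A : Subgroup G} (hA : IsPGroup 2 A)
    (hKA : ⁅K, A⁆ ≤ OO K) : K ∈ cov Om (centralizer (A : Set G)) := by
  refine ⟨hK, fun k hk => ?_⟩
  have h1 : A ≤ normalizer (OO K : Set G) := by
    intro a ha
    rw [mem_normalizer_iff_cj]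
    have h2 := le_normalizer_of_comm (hKA.trans (OO_le K)) ha
    rw [← OO_cj, mem_normalizer_iff_cj.1 h2]
  refine exists_mul_mem_centralizer hA (odd_OO K) h1 (le_normalizer_OO K hk) fun a ha => ?_
  have h2 := hKA (commutator_mem_commutator hk ha)
  rwa [commutatorElement_def] at h2

/-- conversely: if `C_K(A)` covers `K / O(K)`, `A` normalises `K` and `[K,A] ≤ O(K)` -/
theorem comm_of_cov [Finite G] (h : Hyp Om) {A : Subgroup G}
    (hK : K ∈ cov Om (centralizer (A : Set G))) : A ≤ normalizer (K : Set G) ∧ ⁅K, A⁆ ≤ OO K := by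
  have h1 : A ≤ normalizer (K : Set G) := by
    intro a ha
    rw [mem_normalizer_iff_cj]
    refine (eq_of_inf_le h hK (h.conj _ hK.1 a) ?_).symm
    intro x hx
    rw [mem_cj]
    have h2 := mem_centralizer_iff.1 hx.2 a ha
    have h3 : a⁻¹ * x * a = x := by rw [mul_assoc, ← h2]; group
    rw [h3]
    exact hx.1
  refine ⟨h1, ?_⟩
  rw [commutator_le]
  intro k hk a ha
  obtain ⟨o, ho, x, hx, rfl⟩ := exists_mul hK hk
  rw [commutatorElement_def]
  have h2 := mem_centralizer_iff.1 hx.2 a ha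
  have h3 : a * o⁻¹ * a⁻¹ ∈ OO K := by
    have h4 : a ∈ normalizer (OO K : Set G) := by
      rw [mem_normalizer_iff_cj, ← OO_cj, mem_normalizer_iff_cj.1 (h1 ha)]
    exact (mem_normalizer_iff.1 h4 _).1 (inv_mem ho)
  have h4 : o * x * a * (o * x)⁻¹ * a⁻¹ = o * (a * o⁻¹ * a⁻¹) := by
    calc o * x * a * (o * x)⁻¹ * a⁻¹ = o * (x * a) * x⁻¹ * o⁻¹ * a⁻¹ := by group
      _ = o * (a * x) * x⁻¹ * o⁻¹ * a⁻¹ := by rw [h2]
      _ = o * (a * o⁻¹ * a⁻¹) := by group
  rw [h4]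
  exact mul_mem ho h3

/-- `Om[C(A)]` = the traces of the members of `Om` on which `A` acts trivially modulo the core -/
theorem mem_cov_centralizer [Finite G] (h : Hyp Om) {A : Subgroup G} (hA : IsPGroup 2 A) :
    K ∈ cov Om (centralizer (A : Set G)) ↔ K ∈ Om ∧ ⁅K, A⁆ ≤ OO K :=
  ⟨fun hK => ⟨hK.1, (comm_of_cov h hK).2⟩, fun hK => cov_of_comm hK.1 hA hK.2⟩

end Cfsg.Agent.Cit.SubCent
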