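import Cfsg.Agent.Cit.Trivial
import Cfsg.Agent.Cit.SubCent
import Cfsg.Agent.Cit.LemmaB

/-!
# Two commuting members of `Om`

`S` a 2-subgroup, `K ≠ L` in `Om(S)` (equivalently: a Sylow 2-subgroup of `K` normalises `L`). Cores allowed,
no type.

* `commutator_le` : `[K, L ⊓ S] ≤ O(K)` ; `commutator_zz_le`, `mem_cov` : `z_L` is trivial on `K / O(K)`, so
  `K ∈ Om[C(z_L)]`.
* `inf_centralizer_le_normalizer` : `C_K(z_L)` normalises `L`.
* `commutator_inf_le` : `[C_K(z_L), C_L(z_K)] ≤ O(C_K(z_L)) ⊓ O(C_L(z_K))`.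
-/

set_option autoImplicit false
set_option linter.style.haveILetI false

namespace Cfsg.Agent.Cit.PairComm

open Subgroup Cfsg

variable {G : Type*} [Group G] [Finite G] {Om : Set (Subgroup G)} {S K L Q : Subgroup G}

/-- the involution of `L` centralises `K ⊓ S` -/
theorem commutator_le (h : Hyp Om) (hS : IsPGroup 2 S) (hK : K ∈ OmS Om S) (hL : L ∈ OmS Om S)
    (hne : K ≠ L) : ⁅K, L ⊓ S⁆ ≤ OO K :=
  Trivial.commutator_le h hK.1 (syl_inf hS hK) (hS.to_le inf_le_right)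
    (inf_le_normalizer h hS hK hL) fun _ ha _ hx => (h.comm hS hK hL hne hx ha).symm

theorem commutator_zz_le (h : Hyp Om) (hS : IsPGroup 2 S) (hK : K ∈ OmS Om S) (hL : L ∈ OmS Om S)
    (hne : K ≠ L) : ⁅K, zpowers (zz L)⁆ ≤ OO K :=
  (commutator_mono le_rfl (zpowers_le.2 (h.zz_mem_inf hS hL))).trans (commutator_le h hS hK hL hne)

theorem isPGroup_zpowers_zz (h : Hyp Om) (hL : L ∈ Om) : IsPGroup 2 (zpowers (zz L)) := by
  haveI : Fact (Nat.Prime 2) := ⟨Nat.prime_two⟩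
  rw [IsPGroup.iff_card]
  exact ⟨1, by rw [Nat.card_zpowers, h.orderOf_zz hL, pow_one]⟩

omit [Finite G] in
theorem centralizer_zpowers (z : G) : centralizer ((zpowers z : Subgroup G) : Set G) = centralizer {z} := by
  apply le_antisymm
  · intro x hx
    rw [mem_centralizer_singleton_iff]
    exact (mem_centralizer_iff.1 hx z (mem_zpowers z)).symm
  · intro x hx
    rw [mem_centralizer_iff]
    rintro _ ⟨i, rfl⟩
    have h1 : Commute x z := mem_centralizer_singleton_iff.1 hx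
    exact (h1.zpow_right i).eq.symm

/-- `K ∈ Om[C(z_L)]` -/
theorem mem_cov (h : Hyp Om) (hS : IsPGroup 2 S) (hK : K ∈ OmS Om S) (hL : L ∈ OmS Om S)
    (hne : K ≠ L) : K ∈ SubCent.cov Om (centralizer {zz L}) := by
  rw [← centralizer_zpowers]
  exact SubCent.cov_of_comm hK.1 (isPGroup_zpowers_zz h hL.1) (commutator_zz_le h hS hK hL hne)

/-- an element of `O(K)` commuting with an involution `z`: their product is not in a subgroup of odd order -/
theorem not_mem_odd {N N' : Subgroup G} (hN : ¬ 2 ∣ Nat.card N) (hN' : ¬ 2 ∣ Nat.card N') {z a : G}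
    (hz : z * z = 1) (hz1 : z ≠ 1) (ha : a ∈ N') (hza : z * a = a * z) (h : z * a ∈ N) : False := by
  obtain ⟨m, hm⟩ := odd_orderOf hN' ha
  have h1 : (z * a) ^ (2 * m + 1) = z := by
    have hc : Commute z a := hza
    rw [hc.mul_pow, ← hm, pow_orderOf_eq_one, mul_one, hm, pow_succ, pow_mul, pow_two, hz, one_pow, one_mul]
  have h2 : z ∈ N := by rw [← h1]; exact pow_mem h _
  refine hz1 (eq_one_of_odd hN h2 (a := 1) ?_)
  rw [pow_one, pow_two, hz]

/-- **`C_K(z_L)` normalises `L`** -/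
theorem inf_centralizer_le_normalizer (h : Hyp Om) (hS : IsPGroup 2 S) (hK : K ∈ OmS Om S)
    (hL : L ∈ OmS Om S) (hne : K ≠ L) : K ⊓ centralizer {zz L} ≤ normalizer (L : Set G) := by
  intro x hx
  have hxz : x * zz L = zz L * x := mem_centralizer_singleton_iff.1 hx.2
  rw [mem_normalizer_iff_cj]
  have hzz : zz (cj x L) = zz L := by rw [h.zz_cj hL.1, hxz]; group
  rcases h.h2 _ hL.1 _ (h.conj _ hL.1 x) hzz.symm with h1 | h1
  · exact h1.symm
  exfalso
  obtain ⟨c, v, n, hq⟩ := h.exists_gq hL.1 (syl_inf hS hL)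
  obtain ⟨y, hy, w, hw, -, -, -, hyw⟩ := hq.exists_pair
  -- `w y = y w z`
  have hyz : y * zz L = zz L * y := h.comm_zz hL.1 (le_normalizer hy.1)
  have hwz : w * zz L = zz L * w := h.comm_zz hL.1 (le_normalizer hw.1)
  have hzi := h.zz_inv hL.1
  have hz2 := h.zz_mul hL.1
  -- `o = w⁻¹ x w x⁻¹ ∈ O(K)`
  have ho : w⁻¹ * x * w * x⁻¹ ∈ OO K := by
    have h2 := commutator_le h hS hK hL hne (commutator_mem_commutator hx.1 (inv_mem hw))
    rw [commutatorElement_def, inv_inv] at h2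
    have h4 := inv_mem h2
    convert h4 using 1
    group
  set o := w⁻¹ * x * w * x⁻¹ with hodef
  have hyK : y ∈ normalizer (OO K : Set G) := by
    have hyK : y ∈ normalizer (K : Set G) := inf_le_normalizer h hS hK hL hy
    rw [mem_normalizer_iff_cj] at hyK ⊢
    rw [← OO_cj, hyK]
  -- `a = y o y⁻¹ o⁻¹`
  have ha : y * o * y⁻¹ * o⁻¹ ∈ OO K := mul_mem ((mem_normalizer_iff.1 hyK o).1 ho) (inv_mem ho)
  have hoz : o * zz L = zz L * o := by
    have e1 : x⁻¹ * zz L = zz L * x⁻¹ := by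
      rw [inv_mul_eq_iff_eq_mul, ← mul_assoc, hxz]; group
    have e2 : w⁻¹ * zz L = zz L * w⁻¹ := by
      rw [inv_mul_eq_iff_eq_mul, ← mul_assoc, hwz]; group
    calc o * zz L = w⁻¹ * x * w * (x⁻¹ * zz L) := by rw [hodef]; group
      _ = w⁻¹ * x * (w * zz L) * x⁻¹ := by rw [e1]; group
      _ = w⁻¹ * (x * zz L) * w * x⁻¹ := by rw [hwz]; group
      _ = (w⁻¹ * zz L) * x * w * x⁻¹ := by rw [hxz]; group
      _ = zz L * o := by rw [e2, hodef]; group
  have haz : zz L * (y * o * y⁻¹ * o⁻¹) = (y * o * y⁻¹ * o⁻¹) * zz L := by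
    have c1 : Commute (zz L) y := hyz.symm
    have c2 : Commute (zz L) o := hoz.symm
    exact (((c1.mul_right c2).mul_right c1.inv_right).mul_right c2.inv_right).eq
  -- `[y, x w x⁻¹] ∈ O(L)`
  have h2 : y * (w * o) * y⁻¹ * (w * o)⁻¹ ∈ OO L := by
    have h3 : w * o = x * w * x⁻¹ := by rw [hodef]; group
    rw [h3]
    have h4 := (h1 (commutator_mem_commutator hy.1 (conj_mem_cj (g := x) hw.1))).1
    rw [commutatorElement_def] at h4
    exact h4
  have h3 : zz L * (y * o * y⁻¹ * o⁻¹) ∈ OO L := by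
    have hwn : w⁻¹ ∈ normalizer (OO L : Set G) := inv_mem (le_normalizer_OO L hw.1)
    have h4 := (mem_normalizer_iff.1 hwn _).1 h2
    have h5 : y * w * y⁻¹ = w * zz L := by
      have h6 : y * w = w * y * zz L := by
        rw [hyw, mul_assoc, mul_assoc, hz2, mul_one]
      rw [h6, mul_assoc w, hyz]
      group
    have h6 : w⁻¹ * (y * (w * o) * y⁻¹ * (w * o)⁻¹) * w⁻¹⁻¹ = zz L * (y * o * y⁻¹ * o⁻¹) := by
      calc w⁻¹ * (y * (w * o) * y⁻¹ * (w * o)⁻¹) * w⁻¹⁻¹ =
            w⁻¹ * (y * w * y⁻¹) * (y * o * y⁻¹ * o⁻¹) * w⁻¹ * w := by group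
        _ = w⁻¹ * (w * zz L) * (y * o * y⁻¹ * o⁻¹) * w⁻¹ * w := by rw [h5]
        _ = _ := by group
    rwa [h6] at h4
  exact not_mem_odd (odd_OO L) (odd_OO K) hz2 (h.zz_ne hL.1) ha haz h3

/-- the intersection of two commuting members with different involutions has odd order -/
theorem odd_inf (h : Hyp Om) (hK : K ∈ Om) (hL : L ∈ Om) (hne : zz K ≠ zz L) :
    ¬ 2 ∣ Nat.card (K ⊓ L : Subgroup G) := by
  haveI : Fact (Nat.Prime 2) := ⟨Nat.prime_two⟩
  intro h1
  obtain ⟨⟨t, ht⟩, ht2⟩ := exists_prime_orderOf_dvd_card' 2 h1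
  rw [Subgroup.orderOf_mk] at ht2
  exact hne ((h.uniq K hK t ht.1 ht2).symm.trans (h.uniq L hL t ht.2 ht2))

/-- **`[C_K(z_L), C_L(z_K)] ≤ O(C_K(z_L)) ⊓ O(C_L(z_K))`** -/
theorem commutator_inf_le (h : Hyp Om) (hS : IsPGroup 2 S) (hK : K ∈ OmS Om S)
    (hL : L ∈ OmS Om S) (hne : K ≠ L) :
    ⁅K ⊓ centralizer {zz L}, L ⊓ centralizer {zz K}⁆ ≤
      OO (K ⊓ centralizer {zz L}) ⊓ OO (L ⊓ centralizer {zz K}) := by
  by_cases hz : zz K = zz L
  · have e1 : K ⊓ centralizer {zz L} = K := by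
      rw [← hz]; exact inf_eq_left.2 (h.le_centralizer hK.1)
    have e2 : L ⊓ centralizer {zz K} = L := by
      rw [hz]; exact inf_eq_left.2 (h.le_centralizer hL.1)
    rw [e1, e2]
    rcases h.h2 _ hK.1 _ hL.1 hz with h1 | h1
    · exact absurd h1 hne
    · exact h1
  · have hKn := inf_centralizer_le_normalizer h hS hK hL hne
    have hLn := inf_centralizer_le_normalizer h hS hL hK (Ne.symm hne)
    have h1 : ⁅K ⊓ centralizer {zz L}, L ⊓ centralizer {zz K}⁆ ≤ K ⊓ L := by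
      rw [Subgroup.commutator_le]
      intro x hx y hy
      rw [commutatorElement_def]
      refine mem_inf.2 ⟨?_, ?_⟩
      · have h2 := (mem_normalizer_iff.1 (hLn hy) x⁻¹).1 (inv_mem hx.1)
        have h3 := K.mul_mem hx.1 h2
        convert h3 using 1
        group
      · have h2 := (mem_normalizer_iff.1 (hKn hx) y).1 hy.1
        exact L.mul_mem h2 (inv_mem hy.1)
    have hodd := odd_inf h hK.1 hL.1 hz
    refine h1.trans (le_inf ?_ ?_)
    · refine le_OO (le_inf inf_le_left (inf_le_right.trans (h.le_centralizer hL.1))) ?_ hodd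
      intro x hx
      rw [mem_normalizer_iff_cj, cj_inf, mem_normalizer_iff_cj.1 (le_normalizer hx.1),
        mem_normalizer_iff_cj.1 (hKn hx)]
    · refine le_OO (le_inf inf_le_right (inf_le_left.trans (h.le_centralizer hK.1))) ?_ hodd
      intro x hx
      rw [mem_normalizer_iff_cj, cj_inf, mem_normalizer_iff_cj.1 (le_normalizer hx.1),
        mem_normalizer_iff_cj.1 (hLn hx)]

/-- a common 2-group for `K`, `L` when a Sylow 2-subgroup of `K` normalises `L` -/
theorem exists_common (hK : K ∈ Om) (hL : L ∈ Om) (hQ : Syl Q K)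
    (hQL : Q ≤ normalizer (L : Set G)) :
    ∃ S : Subgroup G, IsPGroup 2 S ∧ Q ≤ S ∧ K ∈ OmS Om S ∧ L ∈ OmS Om S := by
  obtain ⟨S, hS, hQS, hR⟩ := LB.exists_two_sup hQ.2.1 hQL
  exact ⟨S, hS, hQS, mem_OmS_of_le hK hQ hQS, mem_OmS_of_le hL hR inf_le_left⟩

/-- a common 2-group when a Sylow 2-subgroup of `K` centralises `z_L` -/
theorem exists_common' (h : Hyp Om) (hK : K ∈ Om) (hL : L ∈ Om) (hQ : Syl Q K)
    (hQL : ∀ a ∈ Q, a * zz L = zz L * a) :
    ∃ S : Subgroup G, IsPGroup 2 S ∧ Q ≤ S ∧ K ∈ OmS Om S ∧ L ∈ OmS Om S :=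
  exists_common hK hL hQ (h.le_normalizer_of_commute hK hL hQ hQL)

/-- two different members each centralising the involution of the other commute modulo cores -/
theorem commutator_le_of_comm (h : Hyp Om) (hK : K ∈ Om) (hL : L ∈ Om) (hne : K ≠ L)
    (hKL : ∀ x ∈ K, x * zz L = zz L * x) (hLK : ∀ x ∈ L, x * zz K = zz K * x) :
    ⁅K, L⁆ ≤ OO K ⊓ OO L := by
  obtain ⟨Q, hQ⟩ := Hyp.exists_syl K
  obtain ⟨S, hS, -, hKS, hLS⟩ := exists_common' h hK hL hQ fun a ha => hKL a (hQ.1 ha)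
  have h1 := commutator_inf_le h hS hKS hLS hne
  rwa [inf_eq_left.2 (show K ≤ centralizer {zz L} from fun x hx =>
      mem_centralizer_singleton_iff.2 (hKL x hx)),
    inf_eq_left.2 (show L ≤ centralizer {zz K} from fun x hx =>
      mem_centralizer_singleton_iff.2 (hLK x hx))] at h1

end Cfsg.Agent.Cit.PairComm
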