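import Cfsg.Agent.Cit.Commute
import Cfsg.Agent.SignalizersComponents.PCompCore

/-!
# Corollary 2: `Om(R) = Om(S)` and `D(R) = D(S)` for every 2-subgroup `R ≥ D(S)`, `S` Sylow; fusion of the `zz K`
-/

set_option autoImplicit false
set_option linter.style.haveILetI false
set_option linter.unusedSectionVars false

namespace Cfsg.Agent.Cit

open Subgroup Cfsg

variable {G : Type*} [Group G]

/-! ### Sylow subgroups of subgroups -/

/-- a 2-subgroup of `C` lies in a Sylow 2-subgroup of `C` -/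
theorem exists_syl_ge [Finite G] {P C : Subgroup G} (hP : IsPGroup 2 P) (hPC : P ≤ C) :
    ∃ T, Syl T C ∧ P ≤ T := by
  haveI : Fact (Nat.Prime 2) := ⟨Nat.prime_two⟩
  have h1 : IsPGroup 2 (P.subgroupOf C) := hP.comap_subtype
  obtain ⟨T, hT⟩ := h1.exists_le_sylow
  refine ⟨(T : Subgroup C).map C.subtype, ⟨map_subtype_le _, T.isPGroup'.map _, ?_⟩, ?_⟩
  · have h2 : ((T : Subgroup C).map C.subtype).subgroupOf C = T := by
      rw [subgroupOf, comap_map_eq_self_of_injective C.subtype_injective]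
    rw [relIndex, h2]
    exact T.not_dvd_index
  · rw [← map_subgroupOf_eq_of_le hPC]
    exact Subgroup.map_mono hT

/-- a 2-subgroup containing a Sylow 2-subgroup (inside `C`) equals it -/
theorem Syl.eq_of_le [Finite G] {T R C : Subgroup G} (hT : Syl T C) (hTR : T ≤ R) (hRC : R ≤ C)
    (hR : IsPGroup 2 R) : T = R := by
  haveI : Fact (Nat.Prime 2) := ⟨Nat.prime_two⟩
  have h1 : T.relIndex R ∣ T.relIndex C := Dvd.intro _ (relIndex_mul_relIndex T R C hTR hRC)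
  have h2 : ¬ 2 ∣ T.relIndex R := fun h => hT.2.2 (h.trans h1)
  obtain ⟨k, hk⟩ := hR.index (T.subgroupOf R)
  have h3 : T.relIndex R = 2 ^ k := hk
  have h4 : k = 0 := by
    by_contra h0
    apply h2
    rw [h3]
    exact dvd_pow_self 2 h0
  rw [h4, pow_zero, relIndex_eq_one] at h3
  exact le_antisymm hTR h3

/-- a Sylow 2-subgroup `S` of `G` meets `C` in a Sylow 2-subgroup for a suitable choice of `S` -/
theorem Syl.exists_sylow_ge [Finite G] {T C : Subgroup G} (hT : Syl T C) :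
    ∃ S : Sylow 2 G, T ≤ S ∧ (S : Subgroup G) ⊓ C = T := by
  haveI : Fact (Nat.Prime 2) := ⟨Nat.prime_two⟩
  obtain ⟨S, hS⟩ := hT.2.1.exists_le_sylow
  exact ⟨S, hS, (hT.eq_of_le (le_inf hS hT.1) inf_le_right (S.isPGroup'.to_le inf_le_left)).symm⟩

theorem exists_le_cj [Finite G] (S : Sylow 2 G) {R : Subgroup G} (hR : IsPGroup 2 R) :
    ∃ g : G, R ≤ cj g S := by
  haveI : Fact (Nat.Prime 2) := ⟨Nat.prime_two⟩
  obtain ⟨T, hT⟩ := hR.exists_le_sylow
  obtain ⟨g, hg⟩ := MulAction.exists_smul_eq G S T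
  refine ⟨g, ?_⟩
  have h1 : (T : Subgroup G) = cj g S := by
    rw [← hg]
    ext x
    rw [mem_cj, Sylow.coe_subgroup_smul, Subgroup.mem_pointwise_smul_iff_inv_smul_mem]
    simp [MulAut.smul_def]
  rw [← h1]
  exact hT

section

variable {Om : Set (Subgroup G)}

theorem OmS_cj (hO : ∀ K ∈ Om, ∀ g, cj g K ∈ Om) (g : G) (S : Subgroup G) :
    OmS Om (cj g S) = cj g '' OmS Om S := by
  ext K
  constructor
  · intro hK
    refine ⟨cj g⁻¹ K, ?_, cj_cj_inv g K⟩
    have := cj_mem_OmS hO g⁻¹ hK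
    rwa [cj_inv_cj] at this
  · rintro ⟨L, hL, rfl⟩
    exact cj_mem_OmS hO g hL

end

namespace Hyp

variable [Finite G] {Om : Set (Subgroup G)}

/-- members meet Sylow 2-subgroups of the centraliser of their involution in Sylow subgroups -/
theorem mem_OmS_of_syl (h : Hyp Om) {K T : Subgroup G} (hK : K ∈ Om) (hT : Syl T (centralizer {zz K})) :
    K ∈ OmS Om T := by
  refine ⟨hK, fun h2 => hT.2.2 (h2.trans ?_)⟩
  have h1 := SignalizersComponents.PCompCore.relIndex_dvd_index_of_subnormal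
    (T.subgroupOf (centralizer {zz K})) (h.sub K hK)
  rwa [relIndex_subgroupOf (h.le_centralizer hK)] at h1

/-- `Om(R) = Om(S)` for every 2-subgroup `R ≥ D(S)`, `S` Sylow in `G` -/
theorem OmS_eq (h : Hyp Om) (S : Sylow 2 G) {R : Subgroup G} (hR : IsPGroup 2 R)
    (hle : DD Om S ≤ R) : OmS Om R = OmS Om S := by
  have h1 : OmS Om S ⊆ OmS Om R := by
    rw [← OmS_DD S.isPGroup']
    exact OmS_mono hle
  obtain ⟨g, hg⟩ := exists_le_cj S hR
  have h2 : OmS Om R ⊆ OmS Om (cj g S) := OmS_mono hg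
  have h3 : (OmS Om (cj g S)).ncard = (OmS Om (S : Subgroup G)).ncard := by
    rw [OmS_cj h.conj]
    exact Set.ncard_image_of_injective _ fun K L hKL => cj_inj.mp hKL
  symm
  apply Set.eq_of_subset_of_ncard_le h1
  rw [← h3]
  exact Set.ncard_le_ncard h2

theorem inf_eq (_h : Hyp Om) (S : Sylow 2 G) {R : Subgroup G} (hR : IsPGroup 2 R)
    (hle : DD Om S ≤ R) {K : Subgroup G} (hK : K ∈ OmS Om S) : K ⊓ R = K ⊓ S := by
  have h1 : K ⊓ (S : Subgroup G) ≤ K ⊓ R := le_inf inf_le_left ((inf_le_DD hK).trans hle)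
  exact ((syl_inf S.isPGroup' hK).eq_of_le h1 inf_le_left (hR.to_le inf_le_right)).symm

/-- `D(R) = D(S)` for every 2-subgroup `R ≥ D(S)`, `S` Sylow in `G` -/
theorem DD_eq (h : Hyp Om) (S : Sylow 2 G) {R : Subgroup G} (hR : IsPGroup 2 R)
    (hle : DD Om S ≤ R) : DD Om R = DD Om S := by
  apply le_antisymm
  · rw [DD_le_iff]
    intro K hK
    rw [h.OmS_eq S hR hle] at hK
    rw [h.inf_eq S hR hle hK]
    exact inf_le_DD hK
  · rw [DD_le_iff]
    intro K hK
    rw [← h.inf_eq S hR hle hK]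
    apply inf_le_DD
    rw [h.OmS_eq S hR hle]
    exact hK

/-- `D(S) ≤ S ⊓ C(zz K)` -/
theorem DD_le_inf (h : Hyp Om) {S : Subgroup G} (hS : IsPGroup 2 S) {K : Subgroup G} (hK : K ∈ OmS Om S) :
    DD Om S ≤ S ⊓ centralizer {zz K} := le_inf DD_le (h.DD_le_centralizer hS hK)

/-- **Corollary 2**: a Sylow 2-subgroup `T` of `C(zz K)` containing `D(S)` has `Om(T) = Om(S)`, `D(T) = D(S)` -/
theorem exists_syl_centralizer (h : Hyp Om) (S : Sylow 2 G) {K : Subgroup G} (hK : K ∈ OmS Om S) :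
    ∃ T, Syl T (centralizer {zz K}) ∧ (S : Subgroup G) ⊓ centralizer {zz K} ≤ T ∧ OmS Om T = OmS Om S ∧
      DD Om T = DD Om S := by
  obtain ⟨T, hT, hle⟩ := exists_syl_ge (P := (S : Subgroup G) ⊓ centralizer {zz K})
    (S.isPGroup'.to_le inf_le_left) inf_le_right
  have h1 := (h.DD_le_inf S.isPGroup' hK).trans hle
  exact ⟨T, hT, hle, h.OmS_eq S hT.2.1 h1, h.DD_eq S hT.2.1 h1⟩

/-- members with the same involution as a member of `Om(S)` are in `Om(S)` -/
theorem mem_OmS_of_zz_eq (h : Hyp Om) (S : Sylow 2 G) {K L : Subgroup G} (hK : K ∈ OmS Om S) (hL : L ∈ Om)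
    (hz : zz L = zz K) : L ∈ OmS Om S := by
  obtain ⟨T, hT, -, hO, -⟩ := h.exists_syl_centralizer S hK
  rw [← hz] at hT
  rw [← hO]
  exact h.mem_OmS_of_syl hL hT

/-- `N_G(D(S))` controls fusion of the involutions `zz K`, `K ∈ Om(S)` -/
theorem exists_normalizer_conj (h : Hyp Om) (S : Sylow 2 G) {K L : Subgroup G} (hK : K ∈ OmS Om S)
    (hL : L ∈ OmS Om S) {g : G} (hg : g * zz K * g⁻¹ = zz L) :
    ∃ n ∈ normalizer (DD Om (S : Subgroup G) : Set G), n * zz K * n⁻¹ = zz L ∧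
      n * g⁻¹ ∈ centralizer {zz L} := by
  obtain ⟨T, hT, -, -, hTD⟩ := h.exists_syl_centralizer S hK
  obtain ⟨U, hU, -, -, hUD⟩ := h.exists_syl_centralizer S hL
  have h1 : Syl (cj g T) (centralizer {zz L}) := by
    have := hT.cj g
    rwa [cj_centralizer, hg] at this
  obtain ⟨c, hc, hcU⟩ := h1.exists_conj hU
  refine ⟨c * g, ?_, ?_, ?_⟩
  · rw [mem_normalizer_iff_cj]
    calc cj (c * g) (DD Om (S : Subgroup G)) = cj (c * g) (DD Om T) := by rw [hTD]
      _ = DD Om (cj (c * g) T) := cj_DD h.conj _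
      _ = DD Om U := by rw [cj_mul, hcU]
      _ = DD Om (S : Subgroup G) := hUD
  · have h2 : c * zz L * c⁻¹ = zz L := by
      rw [mem_centralizer_singleton_iff.mp hc, mul_inv_cancel_right]
    calc c * g * zz K * (c * g)⁻¹ = c * (g * zz K * g⁻¹) * c⁻¹ := by group
      _ = zz L := by rw [hg, h2]
  · rw [mul_inv_cancel_right]
    exact hc

/-- for `J ∈ Om` there is a Sylow 2-subgroup `S` with `J ∈ Om(S)` and `S ⊓ C(zz J)` Sylow in `C(zz J)` -/
theorem exists_sylow (h : Hyp Om) {J : Subgroup G} (hJ : J ∈ Om) :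
    ∃ S : Sylow 2 G, J ∈ OmS Om S ∧ Syl ((S : Subgroup G) ⊓ centralizer {zz J}) (centralizer {zz J}) := by
  obtain ⟨T, hT, -⟩ := exists_syl_ge (P := (⊥ : Subgroup G)) (C := centralizer {zz J}) IsPGroup.of_bot bot_le
  obtain ⟨S, hTS, hST⟩ := hT.exists_sylow_ge
  refine ⟨S, OmS_mono hTS (h.mem_OmS_of_syl hJ hT), ?_⟩
  rw [hST]
  exact hT

/-- `Om(S)` is nonempty for every Sylow 2-subgroup if `Om` is -/
theorem OmS_nonempty (h : Hyp Om) (S : Sylow 2 G) (hO : Om.Nonempty) : (OmS Om (S : Subgroup G)).Nonempty := by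
  haveI : Fact (Nat.Prime 2) := ⟨Nat.prime_two⟩
  obtain ⟨J, hJ⟩ := hO
  obtain ⟨S', hS', -⟩ := h.exists_sylow hJ
  obtain ⟨g, hg⟩ := exists_le_cj S S'.isPGroup'
  have h1 : cj g⁻¹ J ∈ OmS Om (cj g⁻¹ (cj g (S : Subgroup G))) := cj_mem_OmS h.conj g⁻¹ (OmS_mono hg hS')
  rw [cj_inv_cj] at h1
  exact ⟨_, h1⟩

end Hyp

end Cfsg.Agent.Cit
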