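import Mathlib
import Cfsg.Agent.Cit.BDFinal
import Cfsg.Agent.Cit.CloseOut
import Cfsg.Agent.Cit.TypeDet.LemLoc

/-!
# Types `B_n`, `²D_{n+1}`, `D_n`: from `MinS Om` to `HasPieces Om` (project CIT)

* `amb_of` : `Amb Om` from `MinS Om` and `Lem Om`;
* `close_of_conn` : `Close Om` from the connectedness of the commuting graph;
* `syl_of` : the condition on the Sylow subgroup;
* `hasPieces` : `HasPieces Om` from `Inp` and a chart of `E` of type `B n` (`n ≥ 2`) or `D n` (`n ≥ 3`).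
-/

set_option autoImplicit false
set_option linter.unusedSectionVars false

namespace Cfsg.Agent.Cit.BDOut

open Cfsg.Agent.Nodes.Chart Cfsg.Agent.Cit.BDTwin Cfsg.Agent.Cit.BDFinal Cfsg.Agent.Cit.TypeDet

universe u

section

variable {G : Type*} [Group G] {Om : Set (Subgroup G)}

/-- `Close Om` from connectedness. -/
theorem close_of_conn
    (hconn : ∀ C : Set (Subgroup G), C ⊆ Om → C.Nonempty → (∀ K ∈ C, ∀ L ∈ Om, cm K L → L ∈ C) → C = Om) :
    Close Om := fun C hC => hconn C hC.sub hC.ne fun K hK L hL h => hC.comm K hK L hL (cm_symm h)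

/-- `Amb Om` from `Lem Om`. -/
theorem amb_of_lem (hyp : Hyp Om) (hcls : ∀ K ∈ Om, ∀ J ∈ Om, ∃ g, J = cj g K) (hl : Lem Om) : Amb Om where
  hyp := hyp
  one := hcls
  f4 K hK L hL h := hl L hL K hK fun _ hx => Subgroup.mem_centralizer_singleton_iff.1 (h hx)

/-- The condition on the Sylow subgroup. -/
theorem syl_of [Finite G] (hyp : Hyp Om) (hl : Lem Om) (hcore : ∀ K ∈ Om, OO K = ⊥) {K : Subgroup G} (hK : K ∈ Om) :
    ∃ S : Sylow 2 G, ∀ M ∈ OmS Om (S : Subgroup G), M = K ∨ cm M K := by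
  have : Fact (Nat.Prime 2) := ⟨Nat.prime_two⟩
  obtain ⟨Q, hQ⟩ := Hyp.exists_syl K
  obtain ⟨S, hS⟩ := hQ.2.1.exists_le_sylow
  have hKS : K ∈ OmS Om (S : Subgroup G) := mem_OmS_of_le hK hQ hS
  refine ⟨S, fun M hM => ?_⟩
  by_cases h : M = K
  · exact Or.inl h
  · exact Or.inr (hl.comm_OmS hyp hcore S.isPGroup' hM hKS h)

end

/-- **`HasPieces Om`** for the types `B_n`, `²D_{n+1}`, `D_n`. -/
theorem hasPieces {G : Type u} [Group G] [Finite G] {Om : Set (Subgroup G)} (h : MinS Om)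
    (hcore : ∀ K ∈ Om, OO K = ⊥) {p : ℕ} {F : Type} [Field F] [Fintype F] [CharP F p] {K K' E : Subgroup G}
    (I : Inp Om p F K K' E) (c₁ : Chart Om p E) {n : ℕ}
    (hτ : (2 ≤ n ∧ c₁.IsTy (.B n)) ∨ (3 ≤ n ∧ c₁.IsTy (.D n))) (hkap : zz K = zz K' ∨ (Close Om ∧ 3 ≤ n)) :
    HasPieces Om := by
  have := h.simple
  have hsl : ∃ (F : Type) (_ : Field F) (_ : Fintype F), CharP F p ∧
      ∀ K ∈ Om, Nonempty (Matrix.SpecialLinearGroup (Fin 2) F ≃* ↥K) :=
    ⟨F, inferInstance, inferInstance, inferInstance, I.sl⟩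
  rcases hτ with ⟨hn, hτ⟩ | ⟨hn, hτ⟩
  · obtain ⟨c, h1, h2⟩ := exists_chart_B I c₁ hn hτ hkap
    exact CloseOut.hasPieces_of_top h hcore c (.B (n + 2)) h1 (show 3 ≤ n + 2 by omega)
      (fun h3 => absurd (show n + 2 ≤ 2 from h3) (by omega)) hsl (Or.inl h2) rfl
  · obtain ⟨c, h1, h2⟩ := exists_chart_D I c₁ hn hτ (hkap.imp_right And.left)
    exact CloseOut.hasPieces_of_top h hcore c (.D (n + 2)) h1 (show 4 ≤ n + 2 by omega)
      (fun h3 => absurd (show n + 2 - 2 + 2 ≤ 2 from h3) (by omega)) hsl (Or.inl h2) rfl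

end Cfsg.Agent.Cit.BDOut
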