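import Mathlib

/-!
# A biadditive function on a finite field of odd order which is homogeneous of degree two

If `Φ : F → F → F` is biadditive and `Φ (s u) (s v) = s² Φ u v`, then `Φ u v = u v Φ 1 1`
(used for the identification of the commutator maps of an `A₂`-system of long root groups).
-/

set_option autoImplicit false

namespace Cfsg.Agent.Cit.BiAdd

variable {F : Type*} [Field F] [Finite F]

/-- An additive `g` with `g (u²) = 2 u g u` vanishes. -/
theorem eq_zero_of_sq (h2 : (2 : F) ≠ 0) (g : F → F) (hadd : ∀ u v, g (u + v) = g u + g v)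
    (hsq : ∀ u, g (u * u) = 2 * u * g u) (u : F) : g u = 0 := by
  have hmul : ∀ u v, g (u * v) = u * g v + v * g u := by
    intro u v
    have h1 := hsq (u + v)
    have e : (u + v) * (u + v) = u * u + (u * v + (u * v + v * v)) := by ring
    rw [e, hadd, hadd, hadd, hadd, hsq, hsq] at h1
    have h3 : (2 : F) * g (u * v) = 2 * (u * g v + v * g u) := by linear_combination h1
    exact mul_left_cancel₀ h2 h3
  have h1 : g 1 = 0 := by
    have := hmul 1 1
    simp only [one_mul] at this
    linear_combination -this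
  have hpow : ∀ n : ℕ, ∀ u : F, g (u ^ n) = n * (u ^ (n - 1) * g u) := by
    intro n u
    induction n with
    | zero => simp [h1]
    | succ n ih =>
      rw [pow_succ, hmul, ih]
      rcases Nat.eq_zero_or_pos n with rfl | hn
      · simp
      · have e : u * (n * (u ^ (n - 1) * g u)) = n * (u ^ (n - 1) * u) * g u := by ring
        rw [e, ← pow_succ, Nat.sub_add_cancel hn, Nat.add_sub_cancel]
        push_cast
        ring
  have := Fintype.ofFinite F
  have h4 := hpow (Fintype.card F) u
  rw [FiniteField.pow_card, FiniteField.cast_card_eq_zero, zero_mul] at h4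
  exact h4

theorem eq_mul (h2 : (2 : F) ≠ 0) (Φ : F → F → F)
    (hl : ∀ u u' v, Φ (u + u') v = Φ u v + Φ u' v) (hr : ∀ u v v', Φ u (v + v') = Φ u v + Φ u v')
    (hs : ∀ s u v, Φ (s * u) (s * v) = s * s * Φ u v) (u v : F) : Φ u v = u * v * Φ 1 1 := by
  -- the difference with the standard form
  let Ψ : F → F → F := fun u v => Φ u v - u * v * Φ 1 1
  have hΨl : ∀ u u' v, Ψ (u + u') v = Ψ u v + Ψ u' v := by
    intro u u' v
    simp only [Ψ, hl]; ring
  have hΨr : ∀ u v v', Ψ u (v + v') = Ψ u v + Ψ u v' := by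
    intro u v v'
    simp only [Ψ, hr]; ring
  have hΨs : ∀ s u v, Ψ (s * u) (s * v) = s * s * Ψ u v := by
    intro s u v
    simp only [Ψ, hs]; ring
  have h11 : Ψ 1 1 = 0 := by simp only [Ψ]; ring
  let g : F → F := fun u => Ψ u 1
  have hg0 : g 0 = 0 := by
    have := hΨl 0 0 1
    simp only [add_zero] at this
    show Ψ 0 1 = 0
    linear_combination -this
  have hginv : ∀ u : F, u ≠ 0 → Ψ 1 u⁻¹ * (u * u) = g u := by
    intro u hu
    have := hΨs u 1 u⁻¹
    rw [mul_one, mul_inv_cancel₀ hu] at this
    show _ = Ψ u 1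
    rw [this]; ring
  have hgadd : ∀ u v, g (u + v) = g u + g v := fun u v => hΨl u v 1
  have hg1 : g 1 = 0 := h11
  have hgneg : ∀ u, g (-u) = - g u := by
    intro u
    have := hgadd u (-u)
    rw [add_neg_cancel, hg0] at this
    linear_combination -this
  have hgsq : ∀ u, g (u * u) = 2 * u * g u := by
    intro u
    by_cases hu : u = 0
    · subst hu; simp [hg0]
    by_cases hu1 : u + 1 = 0
    · have : u = -1 := by linear_combination hu1
      subst this
      have e : (-1 : F) * (-1) = 1 := by ring
      rw [e, hgneg, hg1]; ring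
    have a1 := hginv u hu
    have a2 := hginv (u + 1) hu1
    have a3 := hginv (u * (u + 1)) (mul_ne_zero hu hu1)
    rw [hgadd, hg1, add_zero] at a2
    have e3 : u * (u + 1) = u * u + u := by ring
    have hga : g (u * (u + 1)) = g (u * u) + g u := by rw [e3, hgadd]
    rw [hga] at a3
    have e : u⁻¹ = (u + 1)⁻¹ + (u * (u + 1))⁻¹ := by
      field_simp
    have a4 := hΨr 1 (u + 1)⁻¹ (u * (u + 1))⁻¹
    rw [← e] at a4
    -- (u+1)² u² times a4
    have a5 : (u + 1) * (u + 1) * g u = u * u * g u + (g (u * u) + g u) := by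
      calc (u + 1) * (u + 1) * g u = (u + 1) * (u + 1) * (Ψ 1 u⁻¹ * (u * u)) := by rw [a1]
        _ = u * u * (Ψ 1 (u + 1)⁻¹ * ((u + 1) * (u + 1))) +
            Ψ 1 (u * (u + 1))⁻¹ * (u * (u + 1) * (u * (u + 1))) := by rw [a4]; ring
        _ = u * u * g u + (g (u * u) + g u) := by rw [a2, a3]
    linear_combination -a5
  have hgz : ∀ u, g u = 0 := eq_zero_of_sq h2 g hgadd hgsq
  have hΨz : Ψ u v = 0 := by
    by_cases hv : v = 0
    · subst hv
      have := hΨr u 0 0
      simp only [add_zero] at this
      linear_combination -this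
    · have h5 := hΨs v (u * v⁻¹) 1
      have e : v * (u * v⁻¹) = u := by field_simp
      rw [e, mul_one] at h5
      rw [h5]
      have : Ψ (u * v⁻¹) 1 = 0 := hgz _
      rw [this, mul_zero]
  have : Φ u v - u * v * Φ 1 1 = 0 := hΨz
  linear_combination this

end Cfsg.Agent.Cit.BiAdd
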