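import Cfsg.Agent.Cit.OneBasic
import Cfsg.Agent.Cit.WeakCl

/-!
# Classical involutions, the case `|Om(S)| = 2`, `z_K ≠ z_L`: basic facts

`Two Om`: `Hyp Om`, `Om` is one class, every Sylow 2-subgroup of `G` contains Sylow 2-subgroups of exactly two
members, and different members have different involutions.  (bb R18 #6419, (0.1)-(0.8))
-/

set_option autoImplicit false
set_option linter.style.haveILetI false
set_option linter.unusedSectionVars false

namespace Cfsg.Agent.Cit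

open Subgroup Cfsg

variable {G : Type*} [Group G]

/-! ### An involution acting on a 2-group with one involution -/

/-- normalisers grow in 2-groups -/
theorem exists_normalizing [Finite G] {A R : Subgroup G} (hR : IsPGroup 2 R) (hAR : A ≤ R) (hne : A ≠ R) :
    ∃ b ∈ R, b ∉ A ∧ cj b A = A := by
  haveI : Fact (Nat.Prime 2) := ⟨Nat.prime_two⟩
  haveI : Group.IsNilpotent R := hR.isNilpotent
  have h1 : A.subgroupOf R < normalizer (A.subgroupOf R : Set R) := by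
    apply Group.normalizerCondition_of_isNilpotent
    rw [lt_top_iff_ne_top, Ne, subgroupOf_eq_top]
    exact fun h => hne (le_antisymm hAR h)
  obtain ⟨b, hb1, hb2⟩ := SetLike.exists_of_lt h1
  refine ⟨b, b.2, fun h => hb2 h, ?_⟩
  rw [mem_normalizer_iff_cj] at hb1
  have h3 := congrArg (Subgroup.map R.subtype) hb1
  rw [cj_map, map_subgroupOf_eq_of_le hAR] at h3
  exact h3

/-- (0.4) `y` an involution normalising a 2-group `Q` with a unique involution `z`, not centralising `Q`: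
then `y` is `Q`-conjugate to `y z` -/
theorem exists_conj_mul [Finite G] {Q : Subgroup G} (hQ : IsPGroup 2 Q) {z y : G}
    (huniq : ∀ t ∈ Q, t * t = 1 → t ≠ 1 → t = z) (hy : y * y = 1)
    (hyQ : y ∈ normalizer (Q : Set G)) (hne : ∃ q ∈ Q, y * q ≠ q * y) :
    ∃ b ∈ Q, b * y * b⁻¹ = z * y ∧ z ∈ Q := by
  haveI : Fact (Nat.Prime 2) := ⟨Nat.prime_two⟩
  obtain ⟨q0, hq0, hq0y⟩ := hne
  have hy2 : IsPGroup 2 (zpowers y) := by
    rw [IsPGroup.iff_card]
    have h1 : orderOf y ∣ 2 ^ 1 := orderOf_dvd_of_pow_eq_one (by rw [pow_one, pow_two, hy])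
    obtain ⟨k, -, hk⟩ := (Nat.dvd_prime_pow Nat.prime_two).1 h1
    exact ⟨k, by rw [Nat.card_zpowers, hk]⟩
  set R : Subgroup G := zpowers y ⊔ Q with hR
  have hR2 : IsPGroup 2 R := OneBasic.isPGroup_sup_of_normalizes hy2 hQ (zpowers_le.2 hyQ)
  have hyR : y ∈ R := mem_sup_left (mem_zpowers y)
  have hQR : Q ≤ R := le_sup_right
  set A : Subgroup G := R ⊓ centralizer {y} with hA
  have hAR : A ≤ R := inf_le_left
  have hAne : A ≠ R := by
    intro h1
    have h2 : q0 ∈ A := by rw [h1]; exact hQR hq0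
    exact hq0y (mem_centralizer_singleton_iff.1 h2.2).symm
  obtain ⟨b, hbR, hbA, hb⟩ := exists_normalizing hR2 hAR hAne
  obtain ⟨a, ha, q, hq, rfl⟩ := OneBasic.exists_mul_of_mem_sup (zpowers_le.2 hyQ) hbR
  have hay : a * y = y * a := by
    obtain ⟨k, rfl⟩ := ha
    exact ((Commute.refl y).zpow_left k).eq
  have haA : a ∈ A := ⟨mem_sup_left ha, mem_centralizer_singleton_iff.2 hay⟩
  have hqA : q ∉ A := fun h => hbA (A.mul_mem haA h)
  have hq2 : cj q A = A := by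
    rw [cj_mul] at hb
    have h1 := congrArg (cj a⁻¹) hb
    rw [cj_inv_cj] at h1
    rw [h1]
    rw [← mem_normalizer_iff_cj]
    exact le_normalizer (A.inv_mem haA)
  have hyA : y ∈ A := ⟨hyR, mem_centralizer_singleton_iff.2 rfl⟩
  have h3 : q * y * q⁻¹ ∈ A := by
    have h4 := conj_mem_cj (g := q) hyA
    rwa [hq2] at h4
  have h5 : q * y * q⁻¹ * y = y * (q * y * q⁻¹) := mem_centralizer_singleton_iff.1 h3.2
  have hy1 : y⁻¹ = y := inv_eq_of_mul_eq_one_right hy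
  -- `t = q y q⁻¹ y ∈ Q`
  have htQ : q * y * q⁻¹ * y ∈ Q := by
    have h6 : y * q⁻¹ * y⁻¹ ∈ Q := (mem_normalizer_iff.1 hyQ q⁻¹).1 (Q.inv_mem hq)
    have h7 := Q.mul_mem hq h6
    rw [hy1] at h7
    simpa [mul_assoc] using h7
  have ht2 : (q * y * q⁻¹ * y) * (q * y * q⁻¹ * y) = 1 := by
    calc (q * y * q⁻¹ * y) * (q * y * q⁻¹ * y) = (q * y * q⁻¹ * y) * (y * (q * y * q⁻¹)) := by rw [← h5]
      _ = q * y * q⁻¹ * (y * y) * (q * y * q⁻¹) := by group
      _ = q * y * q⁻¹ * 1 * (q * y * q⁻¹) := by rw [hy]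
      _ = q * (y * y) * q⁻¹ := by group
      _ = 1 := by rw [hy]; group
  have ht1 : q * y * q⁻¹ * y ≠ 1 := by
    intro h6
    apply hqA
    refine ⟨hQR hq, mem_centralizer_singleton_iff.2 ?_⟩
    have h7 : q * y * q⁻¹ = y := by
      calc q * y * q⁻¹ = (q * y * q⁻¹ * y) * y⁻¹ := by group
        _ = y := by rw [h6, one_mul, hy1]
    calc q * y = (q * y * q⁻¹) * q := by group
      _ = y * q := by rw [h7]
  have h8 := huniq _ htQ ht2 ht1
  refine ⟨q, hq, ?_, by rw [← h8]; exact htQ⟩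
  calc q * y * q⁻¹ = (q * y * q⁻¹ * y) * y⁻¹ := by group
    _ = z * y := by rw [h8, hy1]

/-! ### The case `|Om(S)| = 2`, different involutions -/

/-- two members sharing a 2-group which contains Sylow 2-subgroups of both ("partners") -/
def Pt (Om : Set (Subgroup G)) (K L : Subgroup G) : Prop :=
  K ≠ L ∧ ∃ R : Subgroup G, IsPGroup 2 R ∧ K ∈ OmS Om R ∧ L ∈ OmS Om R

/-- the products of the involutions of partners -/
def ZZ (Om : Set (Subgroup G)) : Set G := {w | ∃ K L, Pt Om K L ∧ w = zz K * zz L}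

/-- the involutions of members and their products for partners -/
def II (Om : Set (Subgroup G)) : Set G := {x | (∃ K ∈ Om, x = zz K) ∨ x ∈ ZZ Om}

/-- `|Om(S)| = 2`, one class, different involutions -/
structure Two (Om : Set (Subgroup G)) : Prop where
  hyp : Hyp Om
  cls : ∀ K ∈ Om, ∀ L ∈ Om, ∃ g, cj g K = L
  two : ∀ S : Sylow 2 G, (OmS Om (S : Subgroup G)).ncard = 2
  inj : ∀ K ∈ Om, ∀ L ∈ Om, zz K = zz L → K = L

theorem Pt.symm {Om : Set (Subgroup G)} {K L : Subgroup G} (h : Pt Om K L) : Pt Om L K := by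
  obtain ⟨h1, R, hR, hK, hL⟩ := h
  exact ⟨h1.symm, R, hR, hL, hK⟩

theorem Pt.left {Om : Set (Subgroup G)} {K L : Subgroup G} (h : Pt Om K L) : K ∈ Om := by
  obtain ⟨-, R, -, hK, -⟩ := h
  exact hK.1

theorem Pt.right {Om : Set (Subgroup G)} {K L : Subgroup G} (h : Pt Om K L) : L ∈ Om := h.symm.left

theorem Pt.exists_sylow {Om : Set (Subgroup G)} {K L : Subgroup G} (h : Pt Om K L) :
    ∃ S : Sylow 2 G, K ∈ OmS Om (S : Subgroup G) ∧ L ∈ OmS Om (S : Subgroup G) := by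
  obtain ⟨-, R, hR, hK, hL⟩ := h
  obtain ⟨S, hS⟩ := hR.exists_le_sylow
  exact ⟨S, OmS_mono hS hK, OmS_mono hS hL⟩

namespace Two

variable [Finite G] {Om : Set (Subgroup G)}

theorem mem_normalizer (h : Two Om) {K : Subgroup G} (hK : K ∈ Om) {g : G} (hg : g * zz K = zz K * g) :
    g ∈ normalizer (K : Set G) := by
  rw [mem_normalizer_iff_cj]
  apply h.inj _ (h.hyp.conj K hK g) _ hK
  rw [h.hyp.zz_cj hK, mul_inv_eq_iff_eq_mul]
  exact hg

theorem cj_eq_iff (h : Two Om) {K : Subgroup G} (hK : K ∈ Om) {g : G} :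
    cj g K = K ↔ g * zz K = zz K * g := by
  constructor
  · intro h1
    exact h.hyp.comm_zz hK (mem_normalizer_iff_cj.2 h1)
  · intro h1
    exact mem_normalizer_iff_cj.1 (h.mem_normalizer hK h1)

theorem centralizer_zz (h : Two Om) {K : Subgroup G} (hK : K ∈ Om) :
    centralizer {zz K} = normalizer (K : Set G) :=
  le_antisymm (fun _ hg => h.mem_normalizer hK (mem_centralizer_singleton_iff.1 hg)) (h.hyp.normalizer_le hK)

theorem cj_eq (h : Two Om) {K L : Subgroup G} (hK : K ∈ Om) (hL : L ∈ Om) {g : G}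
    (hg : g * zz K * g⁻¹ = zz L) : cj g K = L := by
  apply h.inj _ (h.hyp.conj K hK g) _ hL
  rw [h.hyp.zz_cj hK, hg]

/-- a 2-group contains Sylow 2-subgroups of at most two members -/
theorem pair (h : Two Om) {R : Subgroup G} (hR : IsPGroup 2 R) {K L M : Subgroup G} (hK : K ∈ OmS Om R)
    (hL : L ∈ OmS Om R) (hM : M ∈ OmS Om R) (hne : K ≠ L) : M = K ∨ M = L := by
  haveI : Fact (Nat.Prime 2) := ⟨Nat.prime_two⟩
  obtain ⟨S, hS⟩ := hR.exists_le_sylow
  by_contra hc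
  rw [not_or] at hc
  have h1 : ({K, L, M} : Set (Subgroup G)) ⊆ OmS Om (S : Subgroup G) := by
    rintro X (rfl | rfl | rfl)
    · exact OmS_mono hS hK
    · exact OmS_mono hS hL
    · exact OmS_mono hS hM
  have h2 := Set.ncard_le_ncard h1 (Set.toFinite _)
  have h3 : ({K, L, M} : Set (Subgroup G)).ncard = 3 :=
    Set.ncard_eq_three.2 ⟨K, L, M, hne, fun h => hc.1 h.symm, fun h => hc.2 h.symm, rfl⟩
  rw [h.two S, h3] at h2
  omega

/-- an element normalising a 2-group `R` with `K, L ∈ Om(R)` fixes or swaps `K`, `L` -/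
theorem cj_or (h : Two Om) {R : Subgroup G} (hR : IsPGroup 2 R) {K L : Subgroup G} (hK : K ∈ OmS Om R)
    (hL : L ∈ OmS Om R) (hne : K ≠ L) {x : G} (hx : x ∈ normalizer (R : Set G)) :
    (cj x K = K ∧ cj x L = L) ∨ (cj x K = L ∧ cj x L = K) := by
  have h1 := h.pair hR hK hL (cj_mem_OmS' h.hyp.conj hx hK) hne
  have h2 := h.pair hR hK hL (cj_mem_OmS' h.hyp.conj hx hL) hne
  have h3 : cj x K ≠ cj x L := fun h4 => hne (cj_inj.1 h4)
  rcases h1 with h1 | h1 <;> rcases h2 with h2 | h2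
  · exact absurd (h1.trans h2.symm) h3
  · exact Or.inl ⟨h1, h2⟩
  · exact Or.inr ⟨h1, h2⟩
  · exact absurd (h1.trans h2.symm) h3

end Two

namespace Pt

variable [Finite G] {Om : Set (Subgroup G)} {K L : Subgroup G}

theorem cj (hO : ∀ K ∈ Om, ∀ g, Cit.cj g K ∈ Om) (h : Pt Om K L) (g : G) :
    Pt Om (Cit.cj g K) (Cit.cj g L) := by
  obtain ⟨h1, R, hR, hK, hL⟩ := h
  exact ⟨fun h2 => h1 (cj_inj.1 h2), Cit.cj g R, isPGroup_cj hR, cj_mem_OmS hO g hK, cj_mem_OmS hO g hL⟩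

/-- the involutions of partners commute -/
theorem comm (hO : Hyp Om) (h : Pt Om K L) : zz K * zz L = zz L * zz K := by
  obtain ⟨h1, R, hR, hK, hL⟩ := h
  exact hO.comm hR hK hL h1 (hO.zz_mem_inf hR hK) (hO.zz_mem_inf hR hL)

end Pt

namespace Two

variable [Finite G] {Om : Set (Subgroup G)}

/-- (0.6) a member `L` whose involution centralises a Sylow 2-subgroup of `K ≠ L` is a partner of `K` -/
theorem pt_of_cent (h : Two Om) {K L Q : Subgroup G} (hK : K ∈ Om) (hL : L ∈ Om) (hne : K ≠ L)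
    (hQ : Syl Q K) (hc : ∀ x ∈ Q, zz L * x = x * zz L) : Pt Om K L := by
  have h1 : Q ≤ normalizer (L : Set G) := fun x hx => h.mem_normalizer hL (hc x hx).symm
  obtain ⟨R, hR, hQR, -, hLR⟩ := OneBasic.exists_two_sup hQ.2.1 h1
  exact ⟨hne, R, hR, mem_OmS_of_le hK hQ hQR, mem_OmS_of_le hL hLR inf_le_right⟩

/-- conversely the involution of a partner `L` of `K` centralises every Sylow 2-subgroup of `K` which it
normalises -/
theorem cent_of_pt (h : Two Om) {K L Q : Subgroup G} (hP : Pt Om K L) (hQ : Syl Q K)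
    (hn : zz L ∈ normalizer (Q : Set G)) : ∀ x ∈ Q, zz L * x = x * zz L := by
  obtain ⟨h1, R, hR, hK, hL⟩ := hP
  refine h.hyp.rigid hK.1 (syl_inf hR hK) hQ ?_ ?_ ?_ hn
  · exact h.mem_normalizer hK.1 (h.hyp.comm hR hL hK h1.symm (h.hyp.zz_mem_inf hR hL)
      (h.hyp.zz_mem_inf hR hK))
  · rw [IsPGroup.iff_card]
    exact ⟨1, by rw [Nat.card_zpowers, h.hyp.orderOf_zz hL.1, pow_one]⟩
  · intro x hx
    exact h.hyp.comm hR hL hK h1.symm (h.hyp.zz_mem_inf hR hL) hx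

/-- for partners `K`, `L` in a 2-group `R`, `R` centralises `zz K * zz L` -/
theorem comm_mul (h : Two Om) {R : Subgroup G} (hR : IsPGroup 2 R) {K L : Subgroup G} (hK : K ∈ OmS Om R)
    (hL : L ∈ OmS Om R) (hne : K ≠ L) {x : G} (hx : x ∈ normalizer (R : Set G)) :
    x * (zz K * zz L) = (zz K * zz L) * x := by
  have h0 : zz K * zz L = zz L * zz K := Pt.comm h.hyp ⟨hne, R, hR, hK, hL⟩
  rcases h.cj_or hR hK hL hne hx with ⟨h1, h2⟩ | ⟨h1, h2⟩
  · have h3 := (h.cj_eq_iff hK.1).1 h1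
    have h4 := (h.cj_eq_iff hL.1).1 h2
    calc x * (zz K * zz L) = (x * zz K) * zz L := by group
      _ = zz K * (x * zz L) := by rw [h3]; group
      _ = _ := by rw [h4]; group
  · have h3 := h.hyp.zz_cj hK.1 x
    have h4 := h.hyp.zz_cj hL.1 x
    rw [h1] at h3
    rw [h2] at h4
    calc x * (zz K * zz L) = (x * zz K * x⁻¹) * (x * zz L * x⁻¹) * x := by group
      _ = (zz K * zz L) * x := by rw [← h3, ← h4, h0]

/-- the involution of no member is a product of the involutions of partners -/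
theorem not_zz_mul (h : Two Om) {K L M : Subgroup G} (hP : Pt Om K L) (hM : M ∈ Om) :
    zz M ≠ zz K * zz L := by
  intro hc
  obtain ⟨S, hK, hL⟩ := hP.exists_sylow
  have h1 : (S : Subgroup G) ≤ normalizer (M : Set G) := by
    intro x hx
    apply h.mem_normalizer hM
    rw [hc]
    exact h.comm_mul S.isPGroup' hK hL hP.1 (le_normalizer hx)
  obtain ⟨R, hR, hSR, -, hMR⟩ := OneBasic.exists_two_sup S.isPGroup' h1
  have h2 : R = S := S.is_maximal' hR hSR
  rw [h2] at hMR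
  have hM' : M ∈ OmS Om (S : Subgroup G) := mem_OmS_of_le hM hMR inf_le_right
  rcases h.pair S.isPGroup' hK hL hM' hP.1 with h3 | h3
  · rw [h3] at hc
    exact h.hyp.zz_ne hL.1 (by simpa using hc.symm)
  · rw [h3] at hc
    exact h.hyp.zz_ne hK.1 (by simpa using hc.symm)

/-- Sylow subgroups of the centraliser of `w = zz K * zz L`, `K`, `L` partners -/
theorem sylow_of_comm (h : Two Om) {w : G} (hw : w ∈ ZZ Om) {A : Subgroup G} (hA : IsPGroup 2 A)
    (hAw : ∀ a ∈ A, a * w = w * a) : ∃ S : Sylow 2 G, ∃ K L, A ≤ S ∧ K ∈ OmS Om (S : Subgroup G) ∧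
      L ∈ OmS Om (S : Subgroup G) ∧ K ≠ L ∧ w = zz K * zz L := by
  haveI : Fact (Nat.Prime 2) := ⟨Nat.prime_two⟩
  obtain ⟨K, L, hP, rfl⟩ := hw
  obtain ⟨S, hK, hL⟩ := hP.exists_sylow
  have hSw : (S : Subgroup G) ≤ centralizer {zz K * zz L} := fun x hx =>
    mem_centralizer_singleton_iff.2 (h.comm_mul S.isPGroup' hK hL hP.1 (le_normalizer hx))
  have hS1 : Syl (S : Subgroup G) (centralizer {zz K * zz L}) := by
    refine ⟨hSw, S.isPGroup', fun h2 => S.not_dvd_index (h2.trans ?_)⟩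
    exact ⟨_, (relIndex_mul_index hSw).symm⟩
  obtain ⟨T, hT, hAT⟩ := OneBasic.exists_syl_ge hA
    (fun a ha => mem_centralizer_singleton_iff.2 (hAw a ha) : A ≤ centralizer {zz K * zz L})
  obtain ⟨c, hc, hcST⟩ := hS1.exists_conj hT
  refine ⟨c • S, Cit.cj c K, Cit.cj c L, ?_, ?_, ?_, fun h2 => hP.1 (cj_inj.1 h2), ?_⟩
  · have : ((c • S : Sylow 2 G) : Subgroup G) = Cit.cj c (S : Subgroup G) := rfl
    rw [this, hcST]
    exact hAT
  · exact cj_mem_OmS h.hyp.conj c hK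
  · exact cj_mem_OmS h.hyp.conj c hL
  · rw [h.hyp.zz_cj hK.1, h.hyp.zz_cj hL.1]
    have h3 := mem_centralizer_singleton_iff.1 hc
    calc zz K * zz L = (zz K * zz L) * c * c⁻¹ := by group
      _ = c * (zz K * zz L) * c⁻¹ := by rw [h3]
      _ = _ := by group

/-- some element of a Sylow 2-subgroup `S` swaps the two members of `Om(S)` -/
theorem exists_swap (h : Two Om) (S : Sylow 2 G) {K L : Subgroup G} (hK : K ∈ OmS Om (S : Subgroup G))
    (hL : L ∈ OmS Om (S : Subgroup G)) (hne : K ≠ L) : ∃ s ∈ (S : Subgroup G), cj s K = L ∧ cj s L = K := by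
  haveI : Fact (Nat.Prime 2) := ⟨Nat.prime_two⟩
  obtain ⟨g, hg⟩ := h.cls K hK.1 L hL.1
  have hg' : g * zz K * g⁻¹ = zz L := by rw [← h.hyp.zz_cj hK.1, hg]
  obtain ⟨x, hx, hxn⟩ := control_zz h.hyp S hK hL hg'
  obtain ⟨n, hn⟩ : ∃ n, n = g * x := ⟨_, rfl⟩
  rw [← hn] at hxn
  have h1 : cj n K = L := by
    rw [hn, cj_mul, (h.cj_eq_iff hK.1).2 (mem_centralizer_singleton_iff.1 hx), hg]
  have hD2 : IsPGroup 2 (DD Om (S : Subgroup G)) := S.isPGroup'.to_le DD_le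
  have hKD : K ∈ OmS Om (DD Om (S : Subgroup G)) := by rw [OmS_DD S.isPGroup']; exact hK
  have hLD : L ∈ OmS Om (DD Om (S : Subgroup G)) := by rw [OmS_DD S.isPGroup']; exact hL
  have h2 : cj n L = K := by
    rcases h.cj_or hD2 hKD hLD hne hxn with ⟨h3, -⟩ | ⟨-, h3⟩
    · exact absurd (h3.symm.trans h1) hne
    · exact h3
  -- the 2-part of `n`
  obtain ⟨k, m, hm, hkm⟩ := Nat.exists_eq_two_pow_mul_odd (orderOf_pos n).ne'
  obtain ⟨j, hj⟩ := hm
  obtain ⟨u, hu⟩ : ∃ u, u = n ^ m := ⟨_, rfl⟩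
  have hu2 : IsPGroup 2 (zpowers u) := by
    rw [IsPGroup.iff_card]
    have h3 : orderOf u ∣ 2 ^ k := by
      apply orderOf_dvd_of_pow_eq_one
      rw [hu, ← pow_mul, Nat.mul_comm, ← hkm, pow_orderOf_eq_one]
    obtain ⟨i, -, hi⟩ := (Nat.dvd_prime_pow Nat.prime_two).1 h3
    exact ⟨i, by rw [Nat.card_zpowers, hi]⟩
  have hnn : n ^ 2 ∈ normalizer (K : Set G) := by
    rw [mem_normalizer_iff_cj, pow_two, cj_mul, h1, h2]
  have hnn' : n ^ 2 ∈ normalizer (L : Set G) := by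
    rw [mem_normalizer_iff_cj, pow_two, cj_mul, h2, h1]
  have huK : cj u K = L := by
    rw [hu, hj, pow_succ', pow_mul, cj_mul, mem_normalizer_iff_cj.1 (pow_mem hnn j), h1]
  have huL : cj u L = K := by
    rw [hu, hj, pow_succ', pow_mul, cj_mul, mem_normalizer_iff_cj.1 (pow_mem hnn' j), h2]
  have huD : u ∈ normalizer (DD Om (S : Subgroup G) : Set G) := by rw [hu]; exact pow_mem hxn m
  have hR : IsPGroup 2 (zpowers u ⊔ DD Om (S : Subgroup G) : Subgroup G) :=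
    OneBasic.isPGroup_sup_of_normalizes hu2 hD2 (zpowers_le.2 huD)
  obtain ⟨T, hT⟩ := hR.exists_le_sylow
  have hTO : OmS Om (T : Subgroup G) = OmS Om (S : Subgroup G) :=
    OmS_eq_of_sylow h.hyp.conj S T.isPGroup' (le_sup_right.trans hT)
  obtain ⟨c, hc⟩ := exists_cj_sylow T S
  have huT : u ∈ (T : Subgroup G) := hT (mem_sup_left (mem_zpowers u))
  refine ⟨c * u * c⁻¹, by rw [← hc]; exact conj_mem_cj huT, ?_⟩
  have hK' : K ∈ OmS Om (T : Subgroup G) := by rw [hTO]; exact hK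
  have hL' : L ∈ OmS Om (T : Subgroup G) := by rw [hTO]; exact hL
  have hcK := cj_mem_OmS h.hyp.conj c hK'
  have hcL := cj_mem_OmS h.hyp.conj c hL'
  rw [hc] at hcK hcL
  have e1 : cj (c * u * c⁻¹) (cj c K) = cj c L := by
    rw [← cj_mul, inv_mul_cancel_right, cj_mul, huK]
  have e2 : cj (c * u * c⁻¹) (cj c L) = cj c K := by
    rw [← cj_mul, inv_mul_cancel_right, cj_mul, huL]
  have hcne : cj c K ≠ cj c L := fun h4 => hne (cj_inj.1 h4)
  rcases h.pair S.isPGroup' hK hL hcK hne with h4 | h4 <;> rcases h.pair S.isPGroup' hK hL hcL hne with h5 | h5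
  · exact absurd (h4.trans h5.symm) hcne
  · rw [h4, h5] at e1 e2
    exact ⟨e1, e2⟩
  · rw [h4, h5] at e1 e2
    exact ⟨e2, e1⟩
  · exact absurd (h4.trans h5.symm) hcne

/-- ordered pairs of partners are conjugate -/
theorem pt_trans (h : Two Om) {K L K' L' : Subgroup G} (hP : Pt Om K L) (hP' : Pt Om K' L') :
    ∃ g, cj g K = K' ∧ cj g L = L' := by
  obtain ⟨S, hK, hL⟩ := hP.exists_sylow
  obtain ⟨T, hK', hL'⟩ := hP'.exists_sylow
  obtain ⟨g, hg⟩ := exists_cj_sylow S T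
  have h1 := cj_mem_OmS h.hyp.conj g hK
  have h2 := cj_mem_OmS h.hyp.conj g hL
  rw [hg] at h1 h2
  have hne : cj g K ≠ cj g L := fun h4 => hP.1 (cj_inj.1 h4)
  rcases h.pair T.isPGroup' hK' hL' h1 hP'.1 with h4 | h4 <;>
    rcases h.pair T.isPGroup' hK' hL' h2 hP'.1 with h5 | h5
  · exact absurd (h4.trans h5.symm) hne
  · exact ⟨g, h4, h5⟩
  · obtain ⟨s, -, hs1, hs2⟩ := h.exists_swap T hK' hL' hP'.1
    exact ⟨s * g, by rw [cj_mul, h4, hs2], by rw [cj_mul, h5, hs1]⟩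
  · exact absurd (h4.trans h5.symm) hne

/-- partners of `K` are conjugate under `N(K)` -/
theorem pt_conj (h : Two Om) {K L M : Subgroup G} (hP : Pt Om K L) (hP' : Pt Om K M) :
    ∃ g, cj g K = K ∧ cj g L = M := h.pt_trans hP hP'

/-! ### Products of commuting involutions from `II` -/

theorem ZZ_cj (h : Two Om) {w : G} (hw : w ∈ ZZ Om) (g : G) : g * w * g⁻¹ ∈ ZZ Om := by
  obtain ⟨K, L, hP, rfl⟩ := hw
  refine ⟨cj g K, cj g L, hP.cj h.hyp.conj g, ?_⟩
  rw [h.hyp.zz_cj hP.left, h.hyp.zz_cj hP.right]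
  group

theorem ZZ_conj (h : Two Om) {w w' : G} (hw : w ∈ ZZ Om) (hw' : w' ∈ ZZ Om) : ∃ g, g * w * g⁻¹ = w' := by
  obtain ⟨K, L, hP, rfl⟩ := hw
  obtain ⟨K', L', hP', rfl⟩ := hw'
  obtain ⟨g, hg1, hg2⟩ := h.pt_trans hP hP'
  refine ⟨g, ?_⟩
  rw [← hg1, ← hg2, h.hyp.zz_cj hP.left, h.hyp.zz_cj hP.right]
  group

theorem ZZ_mul_self (h : Two Om) {w : G} (hw : w ∈ ZZ Om) : w * w = 1 := by
  obtain ⟨K, L, hP, rfl⟩ := hw
  calc zz K * zz L * (zz K * zz L) = zz K * (zz L * zz K) * zz L := by group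
    _ = zz K * (zz K * zz L) * zz L := by rw [hP.comm h.hyp]
    _ = (zz K * zz K) * (zz L * zz L) := by group
    _ = 1 := by rw [h.hyp.zz_mul hP.left, h.hyp.zz_mul hP.right, one_mul]

theorem ZZ_ne_one (h : Two Om) {w : G} (hw : w ∈ ZZ Om) : w ≠ 1 := by
  obtain ⟨K, L, hP, rfl⟩ := hw
  intro h1
  apply hP.1
  apply h.inj _ hP.left _ hP.right
  rw [mul_eq_one_iff_eq_inv.1 h1, h.hyp.zz_inv hP.right]

theorem disj (h : Two Om) {K : Subgroup G} (hK : K ∈ Om) : zz K ∉ ZZ Om := by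
  rintro ⟨L, M, hP, hc⟩
  exact h.not_zz_mul hP hK hc

theorem II_mul_self (h : Two Om) {x : G} (hx : x ∈ II Om) : x * x = 1 := by
  rcases hx with ⟨K, hK, rfl⟩ | hx
  · exact h.hyp.zz_mul hK
  · exact h.ZZ_mul_self hx

theorem II_cj (h : Two Om) {x : G} (hx : x ∈ II Om) (g : G) : g * x * g⁻¹ ∈ II Om := by
  rcases hx with ⟨K, hK, rfl⟩ | hx
  · exact Or.inl ⟨cj g K, h.hyp.conj K hK g, (h.hyp.zz_cj hK g).symm⟩
  · exact Or.inr (h.ZZ_cj hx g)

theorem isPGroup_zpowers_of_sq {x : G} (hx : x * x = 1) : IsPGroup 2 (zpowers x) := by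
  haveI : Fact (Nat.Prime 2) := ⟨Nat.prime_two⟩
  rw [IsPGroup.iff_card]
  have h1 : orderOf x ∣ 2 ^ 1 := orderOf_dvd_of_pow_eq_one (by rw [pow_one, pow_two, hx])
  obtain ⟨k, -, hk⟩ := (Nat.dvd_prime_pow Nat.prime_two).1 h1
  exact ⟨k, by rw [Nat.card_zpowers, hk]⟩

/-- (0.4) for a Sylow 2-subgroup of a member -/
theorem conj_mul_of_not_cent (h : Two Om) {K Q : Subgroup G} (hK : K ∈ Om) (hQ : Syl Q K) {y : G}
    (hy : y * y = 1) (hn : y ∈ normalizer (Q : Set G)) (hne : ¬ ∀ x ∈ Q, y * x = x * y) :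
    ∃ b ∈ Q, b * y * b⁻¹ = zz K * y := by
  push Not at hne
  obtain ⟨b, hb, hby, -⟩ := exists_conj_mul hQ.2.1 (fun t ht h2 h1 => h.hyp.eq_zz hK (hQ.1 ht) h2 h1) hy hn hne
  exact ⟨b, hb, hby⟩

/-- (0.7a) `w ∈ ZZ` centralising a Sylow 2-subgroup of `K` -/
theorem ZZ_of_cent (h : Two Om) {K Q : Subgroup G} (hK : K ∈ Om) (hQ : Syl Q K) {w : G} (hw : w ∈ ZZ Om)
    (hc : ∀ x ∈ Q, w * x = x * w) : ∃ M, Pt Om K M ∧ w = zz K * zz M := by
  obtain ⟨S, U, V, hQS, hU, hV, hne, hwUV⟩ := h.sylow_of_comm hw hQ.2.1 (fun a ha => (hc a ha).symm)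
  have hKS : K ∈ OmS Om (S : Subgroup G) := mem_OmS_of_le hK hQ hQS
  rcases h.pair S.isPGroup' hU hV hKS hne with rfl | rfl
  · exact ⟨V, ⟨hne, S, S.isPGroup', hU, hV⟩, hwUV⟩
  · have hP : Pt Om K U := ⟨hne.symm, S, S.isPGroup', hV, hU⟩
    exact ⟨U, hP, by rw [hwUV, hP.comm h.hyp]⟩

/-- (0.7) -/
theorem ZZ_or (h : Two Om) {K Q : Subgroup G} (hK : K ∈ Om) (hQ : Syl Q K) {w : G} (hw : w ∈ ZZ Om)
    (hn : w ∈ normalizer (Q : Set G)) :
    (∃ M, Pt Om K M ∧ w = zz K * zz M) ∨ ∃ b ∈ Q, b * w * b⁻¹ = zz K * w := by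
  by_cases hc : ∀ x ∈ Q, w * x = x * w
  · exact Or.inl (h.ZZ_of_cent hK hQ hw hc)
  · exact Or.inr (h.conj_mul_of_not_cent hK hQ (h.ZZ_mul_self hw) hn hc)

/-- (0.6) for members -/
theorem zz_or (h : Two Om) {K L Q : Subgroup G} (hK : K ∈ Om) (hL : L ∈ Om) (hne : K ≠ L) (hQ : Syl Q K)
    (hn : zz L ∈ normalizer (Q : Set G)) : Pt Om K L ∨ ∃ b ∈ Q, b * zz L * b⁻¹ = zz K * zz L := by
  by_cases hc : ∀ x ∈ Q, zz L * x = x * zz L
  · exact Or.inl (h.pt_of_cent hK hL hne hQ hc)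
  · exact Or.inr (h.conj_mul_of_not_cent hK hQ (h.hyp.zz_mul hL) hn hc)

/-- an involution commuting with `zz K` normalises a Sylow 2-subgroup of `K` -/
theorem exists_syl_norm (h : Two Om) {K : Subgroup G} (hK : K ∈ Om) {y : G} (hy : y * y = 1)
    (hyK : y * zz K = zz K * y) : ∃ Q, Syl Q K ∧ y ∈ normalizer (Q : Set G) := by
  obtain ⟨Q, hQ, hn⟩ := OneBasic.exists_syl_normalized (isPGroup_zpowers_of_sq hy)
    (zpowers_le.2 (h.mem_normalizer hK hyK))
  exact ⟨Q, hQ, hn (mem_zpowers y)⟩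

theorem mul_mem_aux (h : Two Om) {K : Subgroup G} (hK : K ∈ Om) {y : G} (hy : y ∈ II Om)
    (hc : zz K * y = y * zz K) (hne : zz K ≠ y) : zz K * y ∈ II Om := by
  obtain ⟨Q, hQ, hn⟩ := h.exists_syl_norm hK (h.II_mul_self hy) hc.symm
  rcases hy with ⟨L, hL, rfl⟩ | hy
  · have hKL : K ≠ L := fun h1 => hne (by rw [h1])
    rcases h.zz_or hK hL hKL hQ hn with h1 | ⟨b, hb, hby⟩
    · exact Or.inr ⟨K, L, h1, rfl⟩
    · rw [← hby]
      exact h.II_cj (Or.inl ⟨L, hL, rfl⟩) b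
  · rcases h.ZZ_or hK hQ hy hn with ⟨M, hM, rfl⟩ | ⟨b, hb, hby⟩
    · left
      refine ⟨M, hM.right, ?_⟩
      rw [← mul_assoc, h.hyp.zz_mul hK, one_mul]
    · rw [← hby]
      exact Or.inr (h.ZZ_cj hy b)

/-- (0.8) **`II` is closed under products of commuting elements** -/
theorem mul_mem (h : Two Om) {x y : G} (hx : x ∈ II Om) (hy : y ∈ II Om) (hc : x * y = y * x)
    (hne : x ≠ y) : x * y ∈ II Om := by
  rcases hx with ⟨K, hK, rfl⟩ | hx
  · exact h.mul_mem_aux hK hy hc hne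
  rcases hy with ⟨K, hK, rfl⟩ | hy
  · rw [hc]
    exact h.mul_mem_aux hK (Or.inr hx) hc.symm hne.symm
  obtain ⟨S, U, V, hyS, hU, hV, hUV, hxUV⟩ := h.sylow_of_comm hx
    (isPGroup_zpowers_of_sq (h.ZZ_mul_self hy)) (by
      rintro a ⟨k, rfl⟩
      exact ((show Commute y x from hc.symm).zpow_left k).eq)
  have hP : Pt Om U V := ⟨hUV, S, S.isPGroup', hU, hV⟩
  have hy' : y ∈ (S : Subgroup G) := hyS (mem_zpowers y)
  rcases h.cj_or S.isPGroup' hU hV hUV (le_normalizer hy') with ⟨h1, h2⟩ | ⟨h1, h2⟩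
  · have h3 := (h.cj_eq_iff hU.1).1 h1
    have h4 := (h.cj_eq_iff hV.1).1 h2
    have h5 : zz U * y ∈ II Om :=
      h.mul_mem_aux hU.1 (Or.inr hy) h3.symm (fun h6 => h.disj hU.1 (by rw [h6]; exact hy))
    have h6 : x * y = zz V * (zz U * y) := by rw [hxUV, hP.comm h.hyp]; group
    rw [h6]
    apply h.mul_mem_aux hV.1 h5
    · calc zz V * (zz U * y) = (zz V * zz U) * y := by group
        _ = (zz U * zz V) * y := by rw [hP.comm h.hyp]
        _ = zz U * (zz V * y) := by group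
        _ = zz U * (y * zz V) := by rw [h4]
        _ = _ := by group
    · intro h7
      apply hne
      rw [hxUV, hP.comm h.hyp, h7]
      calc zz U * y * zz U = zz U * (y * zz U) := by group
        _ = (zz U * zz U) * y := by rw [h3]; group
        _ = y := by rw [h.hyp.zz_mul hU.1, one_mul]
  · have h3 := h.hyp.zz_cj hU.1 y
    rw [h1] at h3
    have h6 : x * y = zz U * y * (zz U)⁻¹ := by
      rw [hxUV, h3, h.hyp.zz_inv hU.1]
      group
    rw [h6]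
    exact Or.inr (h.ZZ_cj hy _)

end Two

end Cfsg.Agent.Cit
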