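import Cfsg.Agent.Cit.TDef
import Cfsg.Agent.Cit.CorTwo
import Cfsg.Agent.Cit.TwoBasic

/-!
# The branches of the core case of THEOREM T (project CIT, S1310)

`MinS Om` (`G` simple, `Om` one class, THEOREM T for smaller groups) is split by the number `|Om(S)|`, `S` a Sylow
2-subgroup of `G`, and for `|Om(S)| = 2` by `z_K ≠ z_L` / `z_K = z_L`.  `core_of_branches` : the six branches give
`MinS Om → HasPieces Om` for all `G`, `Om`.
-/

set_option autoImplicit false
set_option linter.style.haveILetI false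

namespace Cfsg.Agent.Cit.Branches

open Subgroup Cfsg

universe u

variable {G : Type*} [Group G]

/-- `|Om(S)| = n` for every Sylow 2-subgroup `S` -/
def Card (Om : Set (Subgroup G)) (n : ℕ) : Prop := ∀ S : Sylow 2 G, (OmS Om (S : Subgroup G)).ncard = n

theorem ncard_eq [Finite G] {Om : Set (Subgroup G)} (h : Hyp Om) (S S' : Sylow 2 G) :
    (OmS Om (S : Subgroup G)).ncard = (OmS Om (S' : Subgroup G)).ncard := by
  obtain ⟨g, hg⟩ := exists_cj_sylow S S'
  rw [← hg, ncard_OmS_cj h.conj]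

theorem card_of [Finite G] {Om : Set (Subgroup G)} (h : Hyp Om) (S : Sylow 2 G) :
    Card Om (OmS Om (S : Subgroup G)).ncard := fun S' => ncard_eq h S' S

theorem Card.pos [Finite G] {Om : Set (Subgroup G)} (h : Hyp Om) (hne : Om.Nonempty) {n : ℕ} (hc : Card Om n) :
    0 < n := by
  obtain ⟨S⟩ : Nonempty (Sylow 2 G) := inferInstance
  rw [← hc S, Set.ncard_pos (Set.toFinite _)]
  exact h.OmS_nonempty S hne

/-- every 2-subgroup is contained in a Sylow 2-subgroup -/
theorem exists_ge {S : Subgroup G} (hS : IsPGroup 2 ↥S) : ∃ S' : Sylow 2 G, S ≤ (S' : Subgroup G) :=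
  hS.exists_le_sylow

theorem one_of_card [Finite G] {Om : Set (Subgroup G)} (h : Hyp Om) (hc : Card Om 1) : One Om := by
  refine ⟨h, fun S hS K hK L hL => ?_⟩
  obtain ⟨S', hS'⟩ := exists_ge hS
  obtain ⟨M, hM⟩ := Set.ncard_eq_one.1 (hc S')
  have h1 := OmS_mono hS' hK
  have h2 := OmS_mono hS' hL
  rw [hM] at h1 h2
  rw [Set.mem_singleton_iff.1 h1, Set.mem_singleton_iff.1 h2]

theorem Card.unique [Finite G] {Om : Set (Subgroup G)} {m n : ℕ} (h : Card Om m) (h' : Card Om n) : m = n := by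
  obtain ⟨S⟩ : Nonempty (Sylow 2 G) := inferInstance
  rw [← h S, ← h' S]

/-- all members of every `Om(S)` have the same involution -/
def AllEq (Om : Set (Subgroup G)) : Prop :=
  ∀ S : Sylow 2 G, ∀ K ∈ OmS Om (S : Subgroup G), ∀ L ∈ OmS Om (S : Subgroup G), zz K = zz L

/-- `|Om(S)| = 2`: either different members have different involutions or `AllEq` -/
theorem two_cases [Finite G] {Om : Set (Subgroup G)} (h : Hyp Om) (hc : Card Om 2) :
    (∀ K ∈ Om, ∀ L ∈ Om, zz K = zz L → K = L) ∨ AllEq Om := by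
  by_contra hcon
  push Not at hcon
  obtain ⟨⟨K, hK, L, hL, hz, hne⟩, h2⟩ := hcon
  apply h2
  obtain ⟨S₀, hKS, -⟩ := h.exists_sylow hK
  have hLS := h.mem_OmS_of_zz_eq S₀ hKS hL hz.symm
  -- `Om(S₀) = {K, L}`
  have hS₀ : ∀ M ∈ OmS Om (S₀ : Subgroup G), M = K ∨ M = L := by
    intro M hM
    by_contra hM2
    push Not at hM2
    have h3 : ({K, L, M} : Set (Subgroup G)) ⊆ OmS Om (S₀ : Subgroup G) := by
      rintro x (rfl | rfl | rfl) <;> assumption
    have h4 := Set.ncard_le_ncard h3 (Set.toFinite _)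
    have h5 : ({K, L, M} : Set (Subgroup G)).ncard = 3 := by
      rw [Set.ncard_eq_three]
      exact ⟨K, L, M, hne, fun e => hM2.1 e.symm, fun e => hM2.2 e.symm, rfl⟩
    rw [h5, hc S₀] at h4
    omega
  have hS₀z : ∀ M ∈ OmS Om (S₀ : Subgroup G), zz M = zz K := by
    intro M hM
    rcases hS₀ M hM with rfl | rfl
    · rfl
    · exact hz.symm
  intro S A hA B hB
  obtain ⟨g, hg⟩ := exists_cj_sylow S S₀
  have hA' : cj g A ∈ OmS Om (S₀ : Subgroup G) := by
    rw [← hg]; exact cj_mem_OmS h.conj g hA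
  have hB' : cj g B ∈ OmS Om (S₀ : Subgroup G) := by
    rw [← hg]; exact cj_mem_OmS h.conj g hB
  have h6 := (hS₀z _ hA').trans (hS₀z _ hB').symm
  rw [h.zz_cj hA.1, h.zz_cj hB.1] at h6
  have h7 : g * zz A * g⁻¹ = g * zz B * g⁻¹ := h6
  exact mul_left_cancel (mul_right_cancel h7)

/-! ### The branches -/

/-- rows C of the master list: `|Om(S)| = 1` -/
def CoreOne : Prop := ∀ (G : Type u) [Group G] [Finite G] (Om : Set (Subgroup G)), MinS Om → One Om → HasPieces Om

/-- rows D1-D4: `|Om(S)| = 2`, different members have different involutions -/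
def CoreTwoNe : Prop := ∀ (G : Type u) [Group G] [Finite G] (Om : Set (Subgroup G)), MinS Om → Two Om → HasPieces Om

/-- rows D5-D8: `|Om(S)| = 2`, the two members of `Om(S)` have the same involution -/
def CoreTwoEq : Prop := ∀ (G : Type u) [Group G] [Finite G] (Om : Set (Subgroup G)), MinS Om → Card Om 2 → AllEq Om →
  HasPieces Om

/-- rows E: `|Om(S)| = 3` -/
def CoreThree : Prop := ∀ (G : Type u) [Group G] [Finite G] (Om : Set (Subgroup G)), MinS Om → Card Om 3 → HasPieces Om

/-- rows F: `|Om(S)| = 4` -/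
def CoreFour : Prop := ∀ (G : Type u) [Group G] [Finite G] (Om : Set (Subgroup G)), MinS Om → Card Om 4 → HasPieces Om

/-- rows G: `|Om(S)| ≥ 5` -/
def CoreMany : Prop := ∀ (G : Type u) [Group G] [Finite G] (Om : Set (Subgroup G)), MinS Om →
  ∀ n, 5 ≤ n → Card Om n → HasPieces Om

/-- **the core case of THEOREM T from the branches** -/
theorem core_of_branches (h1 : CoreOne.{u}) (h2 : CoreTwoNe.{u}) (h2' : CoreTwoEq.{u}) (h3 : CoreThree.{u})
    (h4 : CoreFour.{u}) (h5 : CoreMany.{u}) (G : Type u) [Group G] [Finite G] (Om : Set (Subgroup G))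
    (h : MinS Om) : HasPieces Om := by
  obtain ⟨S⟩ : Nonempty (Sylow 2 G) := inferInstance
  have hc := card_of h.hyp S
  generalize (OmS Om (S : Subgroup G)).ncard = n at hc
  have hpos := hc.pos h.hyp h.ne
  rcases Nat.lt_or_ge n 5 with hn | hn
  · interval_cases n
    · exact h1 G Om h (one_of_card h.hyp hc)
    · rcases two_cases h.hyp hc with h6 | h6
      · exact h2 G Om h ⟨h.hyp, fun K hK L hL => by
          obtain ⟨g, hg⟩ := h.cls K hK L hL
          exact ⟨g, hg.symm⟩, hc, h6⟩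
      · exact h2' G Om h hc h6
    · exact h3 G Om h hc
    · exact h4 G Om h hc
  · exact h5 G Om h n hn hc

end Cfsg.Agent.Cit.Branches
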