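import Cfsg.Agent.Cit.Defs
import Cfsg.Agent.Cit.AutQuat

/-!
# Lemma 1 (helper443): for every 2-subgroup `S` the Sylow 2-subgroups `K ⊓ S`, `K ∈ Om(S)`, commute pairwise

Main results: `Hyp.commute_inf`, `DD` (the subgroup `D(S)`), `Hyp.DD_le_normalizer`, and the facts on `D(S)`.
-/

set_option autoImplicit false
set_option linter.style.haveILetI false
set_option linter.unusedSectionVars false

namespace Cfsg.Agent.Cit

open Subgroup Cfsg

variable {G : Type*} [Group G]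

/-! ### Elementary facts -/

theorem isPGroup_zpowers {S : Subgroup G} (hS : IsPGroup 2 S) {y : G} (hy : y ∈ S) :
    IsPGroup 2 (zpowers y) := hS.to_le (zpowers_le.2 hy)

/-- a `2`-element of a subgroup of odd order is trivial -/
theorem eq_one_of_mem_odd [Finite G] {S N : Subgroup G} (hS : IsPGroup 2 S) (hN : ¬ 2 ∣ Nat.card N) {g : G}
    (h1 : g ∈ S) (h2 : g ∈ N) : g = 1 := by
  obtain ⟨k, hk⟩ := hS ⟨g, h1⟩
  have hk' : g ^ 2 ^ k = 1 := congrArg Subtype.val hk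
  have h3 : orderOf g ∣ 2 ^ k := orderOf_dvd_of_pow_eq_one hk'
  have h4 : orderOf g ∣ Nat.card N := by
    have := orderOf_dvd_natCard (⟨g, h2⟩ : N)
    rwa [Subgroup.orderOf_mk] at this
  have h5 : Nat.Coprime (2 ^ k) (Nat.card N) :=
    Nat.Coprime.pow_left k ((Nat.Prime.coprime_iff_not_dvd Nat.prime_two).2 hN)
  exact orderOf_eq_one_iff.mp (Nat.eq_one_of_dvd_coprimes h5 h3 h4)

namespace Hyp

variable [Finite G] {Om : Set (Subgroup G)}

/-- `(H3)` for an element of a 2-subgroup -/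
theorem norm_four (h : Hyp Om) {S K L : Subgroup G} (hS : IsPGroup 2 S) (hK : K ∈ Om) (hL : L ∈ Om)
    {y : G} (hy : y ∈ K) (hyS : y ∈ S) (h4 : 4 ≤ orderOf y) (hc : y * zz L = zz L * y) :
    y ∈ normalizer (L : Set G) :=
  h.h3 K hK L hL y hy (isPGroup_zpowers hS hyS) h4 hc

/-- `(H2)` : members with the same involution commute on 2-subgroups -/
theorem comm_of_zz_eq (h : Hyp Om) {S K L : Subgroup G} (hS : IsPGroup 2 S) (hK : K ∈ Om) (hL : L ∈ Om)
    (hz : zz K = zz L) (hne : K ≠ L) {a b : G} (ha : a ∈ K) (haS : a ∈ S) (hb : b ∈ L) (hbS : b ∈ S) :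
    a * b = b * a := by
  rcases h.h2 K hK L hL hz with h1 | h1
  · exact absurd h1 hne
  · have h2 : a * b * a⁻¹ * b⁻¹ ∈ OO K := (h1 (commutator_mem_commutator ha hb)).1
    have h3 : a * b * a⁻¹ * b⁻¹ ∈ S :=
      S.mul_mem (S.mul_mem (S.mul_mem haS hbS) (S.inv_mem haS)) (S.inv_mem hbS)
    have h4 := eq_one_of_mem_odd hS (odd_OO K) h3 h2
    rw [mul_inv_eq_one, mul_inv_eq_iff_eq_mul] at h4
    exact h4

theorem zz_mem_inf (h : Hyp Om) {S K : Subgroup G} (hS : IsPGroup 2 S) (hK : K ∈ OmS Om S) :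
    zz K ∈ K ⊓ S := by
  obtain ⟨c, v, n, hc⟩ := h.exists_gq hK.1 (syl_inf hS hK)
  exact hc.z_mem

theorem exists_four (h : Hyp Om) {S K : Subgroup G} (hS : IsPGroup 2 S) (hK : K ∈ OmS Om S) :
    ∃ x ∈ K ⊓ S, orderOf x = 4 := by
  obtain ⟨c, v, n, hc⟩ := h.exists_gq hK.1 (syl_inf hS hK)
  exact ⟨v, hc.v_mem, hc.orderOf_v⟩

theorem sq_eq_zz (h : Hyp Om) {K : Subgroup G} (hK : K ∈ Om) {x : G} (hx : x ∈ K) (h4 : orderOf x = 4) :
    x * x = zz K := by
  rw [← pow_two]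
  exact AutQuat.IsQ.sq_eq (h.uniq K hK) hx h4

theorem inf_le_of_four (h : Hyp Om) {S K H : Subgroup G} (hS : IsPGroup 2 S) (hK : K ∈ OmS Om S)
    (hH : ∀ x ∈ K ⊓ S, orderOf x = 4 → x ∈ H) : K ⊓ S ≤ H := by
  obtain ⟨c, v, n, hc⟩ := h.exists_gq hK.1 (syl_inf hS hK)
  exact hc.le_of_four hH

end Hyp

/-! ### Step 2 -/

/-- the situation of Step 2 of Lemma 1 -/
structure Fr (Om : Set (Subgroup G)) (D N : Subgroup G) : Prop where
  hN : IsPGroup 2 N
  hDN : D ≤ N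
  hND : N ≤ normalizer (D : Set G)
  hcomm : ∀ K ∈ OmS Om D, ∀ M ∈ OmS Om D, K ≠ M → ∀ a ∈ K ⊓ D, ∀ b ∈ M ⊓ D, a * b = b * a
  hD : ∀ K ∈ OmS Om D, D ≤ normalizer (K : Set G)

namespace Fr

variable [Finite G] {Om : Set (Subgroup G)} {D N : Subgroup G}

theorem hDp (fr : Fr Om D N) : IsPGroup 2 D := fr.hN.to_le fr.hDN

theorem cj_mem (fr : Fr Om D N) (h : Hyp Om) {g : G} (hg : g ∈ N) {K : Subgroup G} (hK : K ∈ OmS Om D) :
    cj g K ∈ OmS Om D := cj_mem_OmS' h.conj (fr.hND hg) hK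

theorem conj_mem (fr : Fr Om D N) {g : G} (hg : g ∈ N) {x : G} (hx : x ∈ D) : g * x * g⁻¹ ∈ D :=
  (mem_normalizer_iff.mp (fr.hND hg) x).mp hx

theorem conj_mem_inf (fr : Fr Om D N) {g : G} (hg : g ∈ N) {K : Subgroup G} {x : G} (hx : x ∈ K ⊓ D) :
    g * x * g⁻¹ ∈ cj g K ⊓ D := ⟨conj_mem_cj hx.1, fr.conj_mem hg hx.2⟩

/-- the involutions of the members of `Om(D)` centralise the Sylow subgroups `K ⊓ D` -/
theorem zz_comm (fr : Fr Om D N) (h : Hyp Om) {K M : Subgroup G} (hK : K ∈ OmS Om D) (hM : M ∈ OmS Om D)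
    {x : G} (hx : x ∈ K ⊓ D) : zz M * x = x * zz M := by
  by_cases hKM : M = K
  · subst hKM
    exact (h.comm_zz hM.1 (le_normalizer hx.1)).symm
  · exact fr.hcomm M hM K hK hKM _ (h.zz_mem_inf fr.hDp hM) x hx

/-- (A) -/
theorem cj_zz (fr : Fr Om D N) (h : Hyp Om) {L : Subgroup G} (hL : L ∈ OmS Om N) {K : Subgroup G}
    (hK : K ∈ OmS Om D) : cj (zz L) K = K := by
  by_contra hmove
  set z' := zz L with hz'
  have hz'N : z' ∈ N := (h.zz_mem_inf fr.hN hL).2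
  have hz'2 : z' * z' = 1 := h.zz_mul hL.1
  obtain ⟨y, hy, hy4⟩ := h.exists_four fr.hN hL
  have hyN := hy.2
  have hyy : y * y = z' := h.sq_eq_zz hL.1 hy.1 hy4
  have hyz : y * z' = z' * y := by rw [← hyy, mul_assoc]
  -- `z'` is not in `D`
  have hz'D : z' ∉ D := fun hh => hmove (mem_normalizer_iff_cj.mp (fr.hD K hK hh))
  have hK2 := fr.cj_mem h hz'N hK
  have hne1 : K ≠ cj y K := by
    intro hh
    apply hmove
    rw [← hyy, cj_mul, ← hh, ← hh]
  have hne2 : K ≠ cj y (cj z' K) := by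
    intro hh
    apply hne1
    have h1 : cj y K = cj y (cj y (cj z' K)) := by rw [← hh]
    rw [h1, ← cj_mul, ← cj_mul, hyy, hz'2, cj_one]
  obtain ⟨q, hq, hq4⟩ := h.exists_four fr.hDp hK
  obtain ⟨q1, hq1⟩ : ∃ t, t = z' * q * z'⁻¹ := ⟨_, rfl⟩
  have hq1m : q1 ∈ cj z' K ⊓ D := by rw [hq1]; exact fr.conj_mem_inf hz'N hq
  have hqq1 : q * q1 = q1 * q := fr.hcomm K hK _ hK2 (fun hh => hmove hh.symm) q hq q1 hq1m
  obtain ⟨w, hw⟩ : ∃ t, t = q * q1 := ⟨_, rfl⟩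
  have hwD : w ∈ D := by rw [hw]; exact D.mul_mem hq.2 hq1m.2
  have hwN : w ∈ N := fr.hDN hwD
  have hz'i : z'⁻¹ = z' := h.zz_inv hL.1
  have hwz : w * z' = z' * w := by
    have h1 : z' * w * z'⁻¹ = w := by
      have h2 : z' * q1 * z'⁻¹ = q := by
        rw [hq1, hz'i]
        calc z' * (z' * q * z') * z' = (z' * z') * q * (z' * z') := by group
          _ = q := by rw [hz'2, one_mul, mul_one]
      calc z' * w * z'⁻¹ = (z' * q * z'⁻¹) * (z' * q1 * z'⁻¹) := by rw [hw]; group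
        _ = q1 * q := by rw [← hq1, h2]
        _ = w := by rw [hw, hqq1]
    rw [mul_inv_eq_iff_eq_mul] at h1
    exact h1.symm
  obtain ⟨v, hv⟩ : ∃ t, t = (w * y * w⁻¹) * y⁻¹ := ⟨_, rfl⟩
  have hvD : v ∈ D := by
    have h1 : v = w * (y * w⁻¹ * y⁻¹) := by rw [hv]; group
    rw [h1]
    exact D.mul_mem hwD (fr.conj_mem hyN (D.inv_mem hwD))
  have hv1 : v ≠ 1 := by
    intro hh
    rw [hv, mul_inv_eq_one, mul_inv_eq_iff_eq_mul] at hh
    -- `w = y w y⁻¹`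
    have h1 : w = (y * q * y⁻¹) * (y * q1 * y⁻¹) := by
      calc w = w * y * y⁻¹ := by group
        _ = y * w * y⁻¹ := by rw [hh]
        _ = _ := by rw [hw]; group
    have h2 : q = (y * q * y⁻¹) * (y * q1 * y⁻¹) * q1⁻¹ := by
      rw [← h1, hw]; group
    obtain ⟨c, u, n, hc⟩ := h.exists_gq hK.1 (syl_inf fr.hDp hK)
    obtain ⟨q2, hq2, hq24, hinv⟩ := hc.exists_inverting hq hq4
    have c1 : q2 * (y * q * y⁻¹) = (y * q * y⁻¹) * q2 :=
      fr.hcomm K hK _ (fr.cj_mem h hyN hK) hne1 q2 hq2 _ (fr.conj_mem_inf hyN hq)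
    have c2 : q2 * (y * q1 * y⁻¹) = (y * q1 * y⁻¹) * q2 :=
      fr.hcomm K hK _ (fr.cj_mem h hyN hK2) hne2 q2 hq2 _ (fr.conj_mem_inf hyN hq1m)
    have c3 : q2 * q1 = q1 * q2 := fr.hcomm K hK _ hK2 (fun hh => hmove hh.symm) q2 hq2 q1 hq1m
    have c4 : Commute q2 q := by
      rw [h2]
      exact (Commute.mul_right (Commute.mul_right c1 c2) (Commute.inv_right c3))
    have h3 : q = q⁻¹ := by
      rw [← hinv, c4.eq, mul_inv_cancel_right]
    have h4 : q * q = 1 := by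
      nth_rewrite 2 [h3]
      exact mul_inv_cancel q
    have h5 := orderOf_dvd_of_pow_eq_one (by rw [pow_two]; exact h4 : q ^ 2 = 1)
    rw [hq4] at h5
    omega
  by_cases hwL : cj w L = L
  · have hvL : v ∈ L ⊓ N := by
      refine ⟨?_, fr.hDN hvD⟩
      have h1 : w * y * w⁻¹ ∈ L := (mem_normalizer_iff.mp (mem_normalizer_iff_cj.mpr hwL) y).mp hy.1
      rw [hv]
      exact L.mul_mem h1 (L.inv_mem hy.1)
    have h1 : z' ∈ zpowers v :=
      AutQuat.IsQ.mem_zpowers (h.isGQ hL.1 (syl_inf fr.hN hL)) (fun t ht => h.uniq L hL.1 t ht.1) hvL hv1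
    exact hz'D ((zpowers_le.mpr hvD) h1)
  · have hzw : zz (cj w L) = zz L := by
      rw [h.zz_cj hL.1, ← hz', hwz, mul_inv_cancel_right]
    obtain ⟨c, u, n, hc⟩ := h.exists_gq hL.1 (syl_inf fr.hN hL)
    obtain ⟨y1, hy1, hy14, hinv⟩ := hc.exists_inverting hy hy4
    have hwyN : w * y * w⁻¹ ∈ N := N.mul_mem (N.mul_mem hwN hyN) (N.inv_mem hwN)
    have c1 : y1 * (w * y * w⁻¹) = (w * y * w⁻¹) * y1 :=
      h.comm_of_zz_eq fr.hN hL.1 (h.conj L hL.1 w) hzw.symm (fun hh => hwL hh.symm) hy1.1 hy1.2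
        (conj_mem_cj hy.1) hwyN
    have h1 : y1 * v * y1⁻¹ = (w * y * w⁻¹) * y := by
      calc y1 * v * y1⁻¹ = (y1 * (w * y * w⁻¹)) * y1⁻¹ * (y1 * y * y1⁻¹)⁻¹ := by rw [hv]; group
        _ = (w * y * w⁻¹) * y1 * y1⁻¹ * (y⁻¹)⁻¹ := by rw [c1, hinv]
        _ = _ := by group
    have h2 : z' = v⁻¹ * (y1 * v * y1⁻¹) := by
      rw [h1, ← hyy, hv]; group
    apply hz'D
    rw [h2]
    exact D.mul_mem (D.inv_mem hvD) (fr.conj_mem hy1.2 hvD)

/-- (B) -/
theorem cj_four (fr : Fr Om D N) (h : Hyp Om) {L : Subgroup G} (hL : L ∈ OmS Om N) {y : G}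
    (hy : y ∈ L ⊓ N) (hy4 : orderOf y = 4) {K : Subgroup G} (hK : K ∈ OmS Om D) : cj y K = K := by
  by_contra hmove
  set z' := zz L with hz'
  have hz'fix := fr.cj_zz h hL hK
  rw [← hz'] at hz'fix
  have hz'N : z' ∈ N := (h.zz_mem_inf fr.hN hL).2
  have hyN := hy.2
  have hyy : y * y = z' := h.sq_eq_zz hL.1 hy.1 hy4
  have hne : K ≠ cj y K := fun hh => hmove hh.symm
  have hK1 := fr.cj_mem h hyN hK
  set z := zz K with hz
  have hzz : z * z = 1 := h.zz_mul hK.1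
  have hzi : z⁻¹ = z := h.zz_inv hK.1
  have hzD : z ∈ D := (h.zz_mem_inf fr.hDp hK).2
  have hzN : z ∈ N := fr.hDN hzD
  have hz'z : z' * z = z * z' := h.comm_zz hK.1 (mem_normalizer_iff_cj.mpr hz'fix)
  obtain ⟨z1, hz1⟩ : ∃ t, t = y * z * y⁻¹ := ⟨_, rfl⟩
  have hzzK1 : zz (cj y K) = z1 := by rw [hz1]; exact h.zz_cj hK.1 y
  have hz1ne : z ≠ z1 := by
    intro hh
    apply hmove
    rw [← mem_normalizer_iff_cj]
    apply h.norm_four fr.hN hL.1 hK.1 hy.1 hyN hy4.ge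
    rw [← hz]
    nth_rewrite 2 [hh]
    rw [hz1, inv_mul_cancel_right]
  have hcom : ∀ x ∈ K ⊓ D, z * x = x * z := fun x hx => fr.zz_comm h hK hK hx
  have hcom1 : ∀ x ∈ K ⊓ D, z1 * x = x * z1 := fun x hx => by
    rw [← hzzK1]; exact fr.zz_comm h hK hK1 hx
  have hzK : z ∈ K ⊓ D := h.zz_mem_inf fr.hDp hK
  have hz1z : z1 * z = z * z1 := hcom1 z hzK
  have hz1z1 : z1 * z1 = 1 := by
    rw [hz1]
    calc y * z * y⁻¹ * (y * z * y⁻¹) = y * (z * z) * y⁻¹ := by group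
      _ = 1 := by rw [hzz]; group
  obtain ⟨e, he⟩ : ∃ t, t = z * z1 := ⟨_, rfl⟩
  have hee : e * e = 1 := by
    calc e * e = z * (z1 * z) * z1 := by rw [he]; group
      _ = (z * z) * (z1 * z1) := by rw [hz1z]; group
      _ = 1 := by rw [hzz, hz1z1, one_mul]
  have he1 : e ≠ 1 := by
    intro hh
    rw [he, mul_eq_one_iff_eq_inv] at hh
    apply hz1ne
    rw [hh]
    exact inv_eq_of_mul_eq_one_left hz1z1
  have hecom : ∀ x ∈ K ⊓ D, e * x = x * e := fun x hx => by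
    rw [he, mul_assoc, hcom1 x hx, ← mul_assoc, hcom x hx, mul_assoc]
  by_cases hi : ∃ q ∈ K ⊓ D, orderOf q = 4 ∧ q * z' = z' * q
  · obtain ⟨q, hq, hq4, hqz⟩ := hi
    -- the map `x ↦ x⁻¹ (y x y⁻¹)`
    have hd : ∀ x ∈ K ⊓ D, x ∈ normalizer (L : Set G) → x⁻¹ * (y * x * y⁻¹) ∈ L := by
      intro x hx hxL
      have h1 : x⁻¹ * y * x⁻¹⁻¹ ∈ L := (mem_normalizer_iff.mp (inv_mem hxL) y).mp hy.1
      have h2 := L.mul_mem h1 (L.inv_mem hy.1)
      have h3 : x⁻¹ * y * x⁻¹⁻¹ * y⁻¹ = x⁻¹ * (y * x * y⁻¹) := by group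
      rwa [h3] at h2
    have hdq := hd q hq (h.norm_four fr.hDp hK.1 hL.1 hq.1 hq.2 hq4.ge hqz)
    have hqK : q * q = z := h.sq_eq_zz hK.1 hq.1 hq4
    have hsq : (q⁻¹ * (y * q * y⁻¹)) * (q⁻¹ * (y * q * y⁻¹)) = e := by
      have c1 : q * (y * q * y⁻¹) = (y * q * y⁻¹) * q :=
        fr.hcomm K hK _ hK1 hne q hq _ (fr.conj_mem_inf hyN hq)
      have c2 : q⁻¹ * (y * q * y⁻¹) = (y * q * y⁻¹) * q⁻¹ := (Commute.inv_left c1)
      calc (q⁻¹ * (y * q * y⁻¹)) * (q⁻¹ * (y * q * y⁻¹))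
          = q⁻¹ * ((y * q * y⁻¹) * q⁻¹) * (y * q * y⁻¹) := by group
        _ = q⁻¹ * (q⁻¹ * (y * q * y⁻¹)) * (y * q * y⁻¹) := by rw [c2]
        _ = (q * q)⁻¹ * (y * (q * q) * y⁻¹) := by group
        _ = e := by rw [hqK, hzi, ← hz1, he]
    have heL : e ∈ L := by rw [← hsq]; exact L.mul_mem hdq hdq
    have hez : e = z' := h.eq_zz hL.1 heL hee he1
    have hall : K ⊓ D ≤ normalizer (L : Set G) := by
      apply h.inf_le_of_four fr.hDp hK
      intro x hx hx4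
      apply h.norm_four fr.hDp hK.1 hL.1 hx.1 hx.2 hx4.ge
      rw [← hz', ← hez]
      exact (hecom x hx).symm
    obtain ⟨c, u, n, hc⟩ := h.exists_gq hK.1 (syl_inf fr.hDp hK)
    obtain ⟨q1, hq1, q2, hq2, h14, h24, h124, h21⟩ := hc.exists_pair
    have d1 := hd q1 hq1 (hall hq1)
    have d2 := hd q2 hq2 (hall hq2)
    have hq12 : q1 * q2 ∈ K ⊓ D := mul_mem hq1 hq2
    have d12 := hd (q1 * q2) hq12 (hall hq12)
    have c1 : q2 * (y * q1 * y⁻¹) = (y * q1 * y⁻¹) * q2 :=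
      fr.hcomm K hK _ hK1 hne q2 hq2 _ (fr.conj_mem_inf hyN hq1)
    have c2 : q2⁻¹ * (y * q1 * y⁻¹) = (y * q1 * y⁻¹) * q2⁻¹ := Commute.inv_left c1
    have hzL : z ∈ L := by
      have h1 : (q1⁻¹ * (y * q1 * y⁻¹)) * (q2⁻¹ * (y * q2 * y⁻¹)) *
          ((q1 * q2)⁻¹ * (y * (q1 * q2) * y⁻¹))⁻¹ = z := by
        have h2 : (q2 * q1)⁻¹ = z * (q1 * q2)⁻¹ := by
          rw [h21, mul_inv_rev, ← hz, hzi]
        calc (q1⁻¹ * (y * q1 * y⁻¹)) * (q2⁻¹ * (y * q2 * y⁻¹)) *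
          ((q1 * q2)⁻¹ * (y * (q1 * q2) * y⁻¹))⁻¹
            = q1⁻¹ * ((y * q1 * y⁻¹) * q2⁻¹) * (y * q2 * y⁻¹) *
              ((q1 * q2)⁻¹ * (y * (q1 * q2) * y⁻¹))⁻¹ := by group
          _ = q1⁻¹ * (q2⁻¹ * (y * q1 * y⁻¹)) * (y * q2 * y⁻¹) *
              ((q1 * q2)⁻¹ * (y * (q1 * q2) * y⁻¹))⁻¹ := by rw [c2]
          _ = (q2 * q1)⁻¹ * (y * (q1 * q2) * y⁻¹) *
              ((q1 * q2)⁻¹ * (y * (q1 * q2) * y⁻¹))⁻¹ := by group
          _ = z * (q1 * q2)⁻¹ * (y * (q1 * q2) * y⁻¹) *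
              ((q1 * q2)⁻¹ * (y * (q1 * q2) * y⁻¹))⁻¹ := by rw [h2]
          _ = z := by group
      rw [← h1]
      exact L.mul_mem (L.mul_mem d1 d2) (L.inv_mem d12)
    have h2 : z = z' := h.eq_zz hL.1 hzL hzz (h.zz_ne hK.1)
    have h3 : z * z1 = z := by rw [← he, hez, ← h2]
    have h4 : z1 = 1 := by simpa using h3
    rw [hz1, mul_inv_eq_one] at h4
    exact h.zz_ne hK.1 (by simpa using h4)
  · -- case (ii)
    push Not at hi
    obtain ⟨q0, hq0, hq04⟩ := h.exists_four fr.hDp hK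
    have hbad : ∀ t : G, (∀ x ∈ K ⊓ D, t * x = x * t) → z' ≠ t := by
      intro t ht htz
      apply hi q0 hq0 hq04
      rw [htz]
      exact (ht q0 hq0).symm
    by_cases hLL : cj z L = L
    · apply hbad e hecom
      have h1 : z * y * z⁻¹ ∈ L := (mem_normalizer_iff.mp (mem_normalizer_iff_cj.mpr hLL) y).mp hy.1
      have h2 : e ∈ L := by
        have h3 : e = (z * y * z⁻¹) * y⁻¹ := by rw [he, hz1, hzi]; group
        rw [h3]
        exact L.mul_mem h1 (L.inv_mem hy.1)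
      exact (h.eq_zz hL.1 h2 hee he1).symm
    · have hzz2 : zz (cj z L) = zz L := by
        rw [h.zz_cj hL.1, ← hz', ← hz'z, mul_inv_cancel_right]
      obtain ⟨c, u, n, hc⟩ := h.exists_gq hL.1 (syl_inf fr.hN hL)
      obtain ⟨y1, hy1, hy14, hinv⟩ := hc.exists_inverting hy hy4
      have hzyN : z * y1 * z⁻¹ ∈ N := N.mul_mem (N.mul_mem hzN hy1.2) (N.inv_mem hzN)
      have c1 : y * (z * y1 * z⁻¹) = (z * y1 * z⁻¹) * y :=
        h.comm_of_zz_eq fr.hN hL.1 (h.conj L hL.1 z) hzz2.symm (fun hh => hLL hh.symm) hy.1 hy.2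
          (conj_mem_cj hy1.1) hzyN
      by_cases hy1K : cj y1 K = K
      · have h1 : y1 * z = z * y1 := h.comm_zz hK.1 (mem_normalizer_iff_cj.mpr hy1K)
        rw [← h1, mul_inv_cancel_right] at c1
        rw [← c1, mul_inv_cancel_right] at hinv
        have h4 : y * y = 1 := by
          nth_rewrite 2 [hinv]
          exact mul_inv_cancel y
        have h5 := orderOf_dvd_of_pow_eq_one (by rw [pow_two]; exact h4 : y ^ 2 = 1)
        rw [hy4] at h5
        omega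
      · have hK2 := fr.cj_mem h hy1.2 hK
        obtain ⟨z2, hz2⟩ : ∃ t, t = y1 * z * y1⁻¹ := ⟨_, rfl⟩
        have hzzK2 : zz (cj y1 K) = z2 := by rw [hz2]; exact h.zz_cj hK.1 y1
        have hK3 := fr.cj_mem h hyN hK2
        have hzzK3 : zz (cj y (cj y1 K)) = y * z2 * y⁻¹ := by rw [h.zz_cj hK2.1 y, hzzK2]
        obtain ⟨e1, he1'⟩ : ∃ t, t = z * z2 := ⟨_, rfl⟩
        have h1 : z * y1 * z⁻¹ = e1 * y1 := by
          rw [he1', hz2, hzi]; group
        rw [h1] at c1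
        -- `y e1 y1 = e1 y1 y = e1 y⁻¹ y1`
        have h2 : y1 * y = y⁻¹ * y1 := by rw [← hinv]; group
        have h3 : y * e1 = e1 * y⁻¹ := by
          have h4 : y * e1 * y1 = e1 * y⁻¹ * y1 := by
            rw [mul_assoc, c1, mul_assoc, h2, ← mul_assoc]
          exact mul_right_cancel h4
        have hz2z2 : z2 * z2 = 1 := by
          rw [hz2]
          calc y1 * z * y1⁻¹ * (y1 * z * y1⁻¹) = y1 * (z * z) * y1⁻¹ := by group
            _ = 1 := by rw [hzz]; group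
        have hfin : z' = (y * e1 * y⁻¹) * e1⁻¹ := by
          have h4 : y = e1 * y⁻¹ * e1⁻¹ := by rw [← h3]; group
          calc z' = y * y := hyy.symm
            _ = y * (e1 * y⁻¹ * e1⁻¹) := by rw [← h4]
            _ = _ := by group
        have hfin2 : z' = z1 * (y * z2 * y⁻¹) * (z2⁻¹ * z⁻¹) := by
          rw [hfin, he1', hz1]; group
        apply hbad _ _ hfin2
        intro x hx
        have k1 : Commute z1 x := hcom1 x hx
        have k2 : Commute (y * z2 * y⁻¹) x := by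
          rw [← hzzK3]; exact fr.zz_comm h hK hK3 hx
        have k3 : Commute z2 x := by
          rw [← hzzK2]; exact fr.zz_comm h hK hK2 hx
        have k4 : Commute z x := hcom x hx
        exact ((k1.mul_left k2).mul_left (k3.inv_left.mul_left k4.inv_left)).eq

/-- the CLAIM of Step 2 -/
theorem claim (fr : Fr Om D N) (h : Hyp Om) {L : Subgroup G} (hL : L ∈ OmS Om N) {K : Subgroup G}
    (hK : K ∈ OmS Om D) (hne : K ≠ L) : ∀ a ∈ K ⊓ D, ∀ b ∈ L ⊓ N, a * b = b * a := by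
  intro a ha b hb
  by_cases hz : zz K = zz L
  · exact h.comm_of_zz_eq fr.hN hK.1 hL.1 hz hne ha.1 (fr.hDN ha.2) hb.1 hb.2
  · have hLK : L ⊓ N ≤ normalizer (K : Set G) := by
      apply h.inf_le_of_four fr.hN hL
      intro y hy hy4
      rw [mem_normalizer_iff_cj]
      exact fr.cj_four h hL hy hy4 hK
    have hLQ : L ⊓ N ≤ normalizer ((K ⊓ D : Subgroup G) : Set G) := by
      intro y hy
      rw [mem_normalizer_iff_cj, cj_inf, mem_normalizer_iff_cj.mp (hLK hy),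
        mem_normalizer_iff_cj.mp (fr.hND hy.2)]
    have hzK := h.zz_mem_inf fr.hDp hK
    have hzL := h.zz_mem_inf fr.hN hL
    refine (AutQuat.IsQ.commute_of_normalizes (Q := K ⊓ D) (R := L ⊓ N)
      (h.isGQ hK.1 (syl_inf fr.hDp hK)) (h.isGQ hL.1 (syl_inf fr.hN hL))
      hzK (h.orderOf_zz hK.1) hzL (h.orderOf_zz hL.1) (fun t ht => h.uniq L hL.1 t ht.1) hz hLQ
      ?_ b hb a ha).symm
    intro x hx hx4 hxz
    have h1 : x ∈ normalizer (L : Set G) := h.norm_four fr.hDp hK.1 hL.1 hx.1 hx.2 hx4 hxz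
    rw [mem_normalizer_iff_cj, cj_inf, mem_normalizer_iff_cj.mp h1,
      mem_normalizer_iff_cj.mp (le_normalizer (fr.hDN hx.2))]

end Fr

/-! ### The subgroup `D(S)` and the main theorem -/

/-- `D(S) = ⟨K ⊓ S | K ∈ Om(S)⟩` -/
def DD (Om : Set (Subgroup G)) (S : Subgroup G) : Subgroup G := ⨆ K ∈ OmS Om S, K ⊓ S

section DD

variable {Om : Set (Subgroup G)} {S : Subgroup G}

theorem DD_le : DD Om S ≤ S := iSup₂_le fun _ _ => inf_le_right

theorem inf_le_DD {K : Subgroup G} (hK : K ∈ OmS Om S) : K ⊓ S ≤ DD Om S :=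
  le_iSup₂ (f := fun (K : Subgroup G) (_ : K ∈ OmS Om S) => K ⊓ S) K hK

theorem inf_DD {K : Subgroup G} (hK : K ∈ OmS Om S) : K ⊓ DD Om S = K ⊓ S :=
  le_antisymm (inf_le_inf_left _ DD_le) (le_inf inf_le_left (inf_le_DD hK))

theorem DD_le_iff {H : Subgroup G} : DD Om S ≤ H ↔ ∀ K ∈ OmS Om S, K ⊓ S ≤ H := iSup₂_le_iff

theorem OmS_DD [Finite G] (hS : IsPGroup 2 S) : OmS Om (DD Om S) = OmS Om S :=
  Set.Subset.antisymm (OmS_mono DD_le) fun _ hK => mem_OmS_of_le hK.1 (syl_inf hS hK) (inf_le_DD hK)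

theorem cj_DD (hO : ∀ K ∈ Om, ∀ g, cj g K ∈ Om) (g : G) : cj g (DD Om S) = DD Om (cj g S) := by
  have key : ∀ (g : G) (S : Subgroup G), cj g (DD Om S) ≤ DD Om (cj g S) := by
    intro g S
    rw [cj, map_le_iff_le_comap, DD_le_iff]
    intro K hK
    rw [← map_le_iff_le_comap]
    change cj g (K ⊓ S) ≤ _
    rw [cj_inf]
    exact inf_le_DD (cj_mem_OmS hO g hK)
  apply le_antisymm (key g S)
  have h1 := key g⁻¹ (cj g S)
  rw [cj_inv_cj] at h1
  have h2 := cj_mono g h1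
  rwa [cj_cj_inv] at h2

/-- the normaliser of `S` normalises `D(S)` -/
theorem normalizer_le_normalizer_DD (hO : ∀ K ∈ Om, ∀ g, cj g K ∈ Om) :
    normalizer (S : Set G) ≤ normalizer (DD Om S : Set G) := by
  intro g hg
  rw [mem_normalizer_iff_cj, cj_DD hO, mem_normalizer_iff_cj.mp hg]

end DD

/-- a proper subgroup of a `2`-subgroup `S` lies in a proper normal subgroup of `S` -/
theorem exists_lt_normal [Finite G] {Q S : Subgroup G} (hS : IsPGroup 2 S) (hQS : Q ≤ S) (hne : Q ≠ S) :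
    ∃ M : Subgroup G, Q ≤ M ∧ M ≤ S ∧ M ≠ S ∧ S ≤ normalizer (M : Set G) := by
  haveI : Fact (Nat.Prime 2) := ⟨Nat.prime_two⟩
  have h1 : Q.subgroupOf S ≠ ⊤ := by
    rw [Ne, subgroupOf_eq_top]
    exact fun hh => hne (le_antisymm hQS hh)
  obtain ⟨M, hM, hQM⟩ : ∃ M, IsCoatom M ∧ Q.subgroupOf S ≤ M :=
    (eq_top_or_exists_le_coatom (Q.subgroupOf S)).resolve_left h1
  haveI : Group.IsNilpotent S := hS.isNilpotent
  have hMn : M.Normal := NormalizerCondition.normal_of_coatom M Group.normalizerCondition_of_isNilpotent hM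
  refine ⟨M.map S.subtype, ?_, map_subtype_le _, ?_, ?_⟩
  · rw [← map_subgroupOf_eq_of_le hQS]
    exact Subgroup.map_mono hQM
  · intro hh
    apply hM.1
    apply Subgroup.map_injective S.subtype_injective
    rw [hh, ← MonoidHom.range_eq_map, range_subtype]
  · rw [← normal_subgroupOf_iff_le_normalizer (map_subtype_le _)]
    rw [subgroupOf, comap_map_eq_self_of_injective S.subtype_injective]
    exact hMn

namespace Hyp

variable [Finite G] {Om : Set (Subgroup G)}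

/-- given commutation, `D(S)` normalises the members of `Om(S)` -/
theorem DD_le_normalizer_aux (h : Hyp Om) {S : Subgroup G} (hS : IsPGroup 2 S)
    (hc : ∀ K ∈ OmS Om S, ∀ L ∈ OmS Om S, K ≠ L → ∀ a ∈ K ⊓ S, ∀ b ∈ L ⊓ S, a * b = b * a)
    {K : Subgroup G} (hK : K ∈ OmS Om S) : DD Om S ≤ normalizer (K : Set G) := by
  rw [DD_le_iff]
  intro L hL
  by_cases hKL : K = L
  · subst hKL
    exact inf_le_left.trans le_normalizer
  · apply h.inf_le_of_four hS hL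
    intro x hx hx4
    apply h.norm_four hS hL.1 hK.1 hx.1 hx.2 hx4.ge
    exact hc L hL K hK (Ne.symm hKL) x hx _ (h.zz_mem_inf hS hK)

/-- **Lemma 1** -/
theorem commute_inf (h : Hyp Om) : ∀ (n : ℕ) (S : Subgroup G), Nat.card S = n → IsPGroup 2 S →
    ∀ K ∈ OmS Om S, ∀ L ∈ OmS Om S, K ≠ L → ∀ a ∈ K ⊓ S, ∀ b ∈ L ⊓ S, a * b = b * a := by
  intro n
  induction n using Nat.strong_induction_on with
  | _ n ih =>
    intro S hn hS K hK L hL hKL a ha b hb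
    by_cases hKS : K ⊓ S = S
    · have h1 : zz L ∈ K := by
        have h2 := (h.zz_mem_inf hS hL).2
        rw [← hKS] at h2
        exact h2.1
      have h2 : zz L = zz K := h.uniq K hK.1 _ h1 (h.orderOf_zz hL.1)
      exact h.comm_of_zz_eq hS hK.1 hL.1 h2.symm hKL ha.1 ha.2 hb.1 hb.2
    · obtain ⟨M, hQM, hMS, hMne, hSM⟩ := exists_lt_normal hS inf_le_right hKS
      have hM : IsPGroup 2 M := hS.to_le hMS
      have hcard : Nat.card M < n := by
        rw [← hn]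
        refine lt_of_le_of_ne (Nat.le_of_dvd Nat.card_pos (card_dvd_of_le hMS)) ?_
        intro hh
        exact hMne (eq_of_le_of_card_ge hMS hh.ge)
      have hcM := ih _ hcard M rfl hM
      have hKM : K ∈ OmS Om M := mem_OmS_of_le hK.1 (syl_inf hS hK) hQM
      have fr : Fr Om (DD Om M) S := by
        refine ⟨hS, DD_le.trans hMS, hSM.trans (normalizer_le_normalizer_DD h.conj), ?_, ?_⟩
        · intro K' hK' L' hL' hne' a' ha' b' hb'
          rw [OmS_DD hM] at hK' hL'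
          rw [inf_DD hK'] at ha'
          rw [inf_DD hL'] at hb'
          exact hcM K' hK' L' hL' hne' a' ha' b' hb'
        · intro K' hK'
          rw [OmS_DD hM] at hK'
          exact h.DD_le_normalizer_aux hM hcM hK'
      refine fr.claim h hL (K := K) (by rw [OmS_DD hM]; exact hKM) hKL a ?_ b hb
      rw [inf_DD hKM]
      exact ⟨ha.1, hQM ha⟩

/-- **Lemma 1** : the Sylow 2-subgroups `K ⊓ S`, `K ∈ Om(S)`, commute pairwise (`S` any 2-subgroup) -/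
theorem comm (h : Hyp Om) {S : Subgroup G} (hS : IsPGroup 2 S) {K L : Subgroup G} (hK : K ∈ OmS Om S)
    (hL : L ∈ OmS Om S) (hne : K ≠ L) {a b : G} (ha : a ∈ K ⊓ S) (hb : b ∈ L ⊓ S) : a * b = b * a :=
  h.commute_inf _ S rfl hS K hK L hL hne a ha b hb

/-- `D(S)` normalises all members of `Om(S)` -/
theorem DD_le_normalizer (h : Hyp Om) {S : Subgroup G} (hS : IsPGroup 2 S) {K : Subgroup G}
    (hK : K ∈ OmS Om S) : DD Om S ≤ normalizer (K : Set G) :=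
  h.DD_le_normalizer_aux hS (h.commute_inf _ S rfl hS) hK

/-- `D(S)` centralises the involutions of the members of `Om(S)` -/
theorem DD_le_centralizer (h : Hyp Om) {S : Subgroup G} (hS : IsPGroup 2 S) {K : Subgroup G}
    (hK : K ∈ OmS Om S) : DD Om S ≤ centralizer {zz K} :=
  (h.DD_le_normalizer hS hK).trans (h.normalizer_le hK.1)

end Hyp

end Cfsg.Agent.Cit
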