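import Cfsg.Agent.Cit.SolvTwo
import Cfsg.Agent.Cit.Commute

/-!
# Lemma A, unconditional form
-/

set_option autoImplicit false

namespace Cfsg.Agent.Cit.SolvTwo

open Subgroup Cfsg Cfsg.Agent.Cit

variable {G : Type*} [Group G] {Om : Set (Subgroup G)}

/-- **Lemma A**: if all members of `Om` are of `SL₂(3)`-type and `P` is a normal 2-subgroup of `G` with
`C_G(P) ≤ P`, then all members of `Om` are isomorphic to `SL₂(3)`, all 2-elements of the members lie in `P` and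
different members commute -/
theorem main [Finite G] (h : Hyp Om) (hT : ∀ K ∈ Om, IsT K) (P : Subgroup G) [P.Normal]
    (hP : IsPGroup 2 P) (hC : centralizer (P : Set G) ≤ P) :
    (∀ K ∈ Om, OO K = ⊥ ∧ T3 K (zz K) ∧ ∀ Q : Subgroup G, Q ≤ K → IsPGroup 2 Q → Q ≤ P) ∧
      ∀ K ∈ Om, ∀ L ∈ Om, K ≠ L → ∀ x ∈ K, ∀ y ∈ L, x * y = y * x := by
  refine lemmaA h hT P hP hC ?_
  intro S K hK L hL hKL x hx y hy
  exact h.comm S.isPGroup' hK hL hKL hx hy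

/-- the form with `O₂(G)` -/
theorem main_pCore [Finite G] (h : Hyp Om) (hT : ∀ K ∈ Om, IsT K)
    (hC : centralizer (pCore 2 G : Set G) ≤ pCore 2 G) :
    (∀ K ∈ Om, OO K = ⊥ ∧ T3 K (zz K) ∧ ∀ Q : Subgroup G, Q ≤ K → IsPGroup 2 Q → Q ≤ pCore 2 G) ∧
      ∀ K ∈ Om, ∀ L ∈ Om, K ≠ L → ∀ x ∈ K, ∀ y ∈ L, x * y = y * x := by
  have : (pCore 2 G).Normal := Lib.Cores.pCore_normal 2
  exact main h hT _ (Lib.Cores.pCore_isPGroup 2) hC

end Cfsg.Agent.Cit.SolvTwo
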