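import Cfsg.Agent.Cit.OneComp
import Cfsg.Agent.Cit.SolvTwoMain

/-!
# THEOREM R (d) (helper149, bb #5989): `zz K` centralises all components

Then `O(C(zz K)) = 1`, `O(K) = 1`, and either `K` is quasisimple and a component of `G`, or (type `SL₂(3)`)
`K` centralises `E(G)` and the 2-elements of `K` lie in `O_2(G)`.
-/

set_option autoImplicit false
set_option linter.style.haveILetI false
set_option linter.unusedSectionVars false

namespace Cfsg.Agent.Cit.OneCompD

open Subgroup Cfsg Cfsg.Agent.Cit Cfsg.Agent.Cit.Comp Cfsg.Agent.Cit.OneComp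
open Cfsg.Agent.SignalizersComponents.Components
open scoped commutatorElement

variable {G : Type*} [Group G] [Finite G] {Om : Set (Subgroup G)} (h : Hyp Om)
  (hO : pPrimeCore 2 G = ⊥) (hev : EvQ G)
  {K : Subgroup G} (hK : K ∈ Om) (hall : ∀ L : Subgroup G, IsComponent L → L ≤ centralizer {zz K})

include h hO hev hK hall

/-- `O(C(zz K)) = 1` -/
theorem pPrimeCore_centralizer_eq_bot : pPrimeCore 2 (centralizer ({zz K} : Set G)) = ⊥ := by
  haveI : Fact (Nat.Prime 2) := ⟨Nat.prime_two⟩
  set z := zz K with hz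
  set C := centralizer ({z} : Set G) with hCdef
  set W : Subgroup G := (pPrimeCore 2 C).map C.subtype with hW
  set P := pCore 2 G with hPdef
  have hPn : P.Normal := Lib.Cores.pCore_normal 2
  have hP : IsPGroup 2 P := Lib.Cores.pCore_isPGroup 2
  have hWC : W ≤ C := map_subtype_le _
  have hWcop : (Nat.card W).Coprime 2 := by
    rw [hW, card_map_of_injective C.subtype_injective]
    exact Lib.Cores.pPrimeCore_coprime 2
  have hWn : ∀ x ∈ C, ∀ w ∈ W, x * w * x⁻¹ ∈ W := by
    rintro x hx _ ⟨w, hw, rfl⟩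
    have hn : (pPrimeCore 2 C).Normal := Lib.Cores.pPrimeCore_normal 2
    exact ⟨_, hn.conj_mem w hw ⟨x, hx⟩, rfl⟩
  have hWP : W ≤ centralizer (P : Set G) := by
    refine SolvTwo.le_cent (z := z) (h.zz_mul hK) hP hWcop ?_ ?_
    · intro w hw
      exact mem_centralizer_singleton_iff.1 (hWC hw)
    · intro x hxP hxz w hw
      have hxC : x ∈ C := mem_centralizer_singleton_iff.2 hxz
      have h1 : x * w * x⁻¹ * w⁻¹ = 1 := by
        refine SolvTwo.eq_one_of_coprime hP hWcop ?_ ?_
        · have h2 := P.mul_mem hxP (hPn.conj_mem _ (P.inv_mem hxP) w)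
          simpa [mul_assoc] using h2
        · exact W.mul_mem (hWn x hxC w hw) (W.inv_mem hw)
      rw [mul_inv_eq_one, mul_inv_eq_iff_eq_mul] at h1
      exact h1
  have hWL : ∀ L : Subgroup G, IsComponent L → W ≤ centralizer (L : Set G) := by
    intro L hL
    have hLC := hall L hL
    have hn : (pPrimeCore 2 C).Normal := Lib.Cores.pPrimeCore_normal 2
    rcases component_le_or_commutator_eq_bot (isComponent_subgroupOf hLC hL) hn.isSubnormal with h1 | h1
    · exfalso
      have h2 := Subgroup.map_mono (f := C.subtype) h1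
      rw [map_subgroupOf_eq_of_le hLC] at h2
      have h3 := (hev L hL.2).trans (card_dvd_of_le h2)
      have h4 := Nat.dvd_gcd h3 (dvd_refl 2)
      rw [hWcop] at h4
      omega
    · have h2 := congrArg (Subgroup.map C.subtype) h1
      rw [map_commutator, map_subgroupOf_eq_of_le hLC, Subgroup.map_bot, commutator_comm,
        commutator_eq_bot_iff_le_centralizer] at h2
      exact h2
  have hWbot : W = ⊥ := by
    rw [eq_bot_iff]
    intro x hx
    have h1 : x ∈ centralizer (generalizedFittingSubgroup G : Set G) :=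
      mem_centralizer_genFit hO (fun L hL => hWL L hL hx) (hWP hx)
    exact mem_bot.2 (SolvTwo.eq_one_of_coprime hP hWcop (centralizer_genFit_le hO h1) hx)
  rw [hW, Subgroup.map_eq_bot_iff, ker_subtype] at hWbot
  exact le_bot_iff.1 hWbot

/-- `O(K) = 1` -/
theorem OO_eq_bot : OO K = ⊥ := by
  haveI : Fact (Nat.Prime 2) := ⟨Nat.prime_two⟩
  have hcore := pPrimeCore_centralizer_eq_bot h hO hev hK hall
  have hKC : K ≤ centralizer {zz K} := h.le_centralizer hK
  have h1 := Lib.PComponents.map_pPrimeCore_le_of_isSubnormal (p := 2) (h.sub K hK)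
  rw [hcore, le_bot_iff, Subgroup.map_eq_bot_iff, ker_subtype, le_bot_iff] at h1
  have h2 := Lib.Cores.map_equiv_pPrimeCore (subgroupOfEquivOfLe hKC) 2
  rw [h1, Subgroup.map_bot] at h2
  rw [OO, oddCore, ← h2, Subgroup.map_bot]

omit hev hall in
/-- if `K` centralises all components and the normal 2-subgroup `K ⊓ O_2(G)` of `K` is central in `K` then
all elements of odd order of `K` are trivial -/
theorem eq_one_of_odd_of_central (hcomp : ∀ L : Subgroup G, IsComponent L → K ≤ centralizer (L : Set G))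
    (hcen : ∀ x ∈ K ⊓ pCore 2 G, ∀ y ∈ K, x * y = y * x) {k : G} (hk : k ∈ K)
    (hk2 : Odd (orderOf k)) : k = 1 := by
  haveI : Fact (Nat.Prime 2) := ⟨Nat.prime_two⟩
  set z := zz K with hz
  set C := centralizer ({z} : Set G) with hCdef
  set P := pCore 2 G with hPdef
  haveI hPn : P.Normal := Lib.Cores.pCore_normal 2
  have hP : IsPGroup 2 P := Lib.Cores.pCore_isPGroup 2
  have hKC : K ≤ C := h.le_centralizer hK
  have hAcop : (Nat.card (zpowers k)).Coprime 2 := by
    rw [Nat.card_zpowers]
    exact Nat.coprime_two_right.2 hk2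
  set A := zpowers k with hA
  have hAK : A ≤ K := by rwa [hA, zpowers_le]
  set D := ⁅P ⊓ C, A⁆ with hD
  have hAC : A ≤ C := hAK.trans hKC
  have hAn : A ≤ normalizer ((P ⊓ C : Subgroup G) : Set G) := by
    intro a ha
    rw [mem_normalizer_iff_cj, cj_inf]
    have h1 : cj a P = P := by
      rw [← mem_normalizer_iff_cj, normalizer_eq_top]; trivial
    have h2 : cj a C = C := by
      rw [← mem_normalizer_iff_cj]; exact le_normalizer (hAC ha)
    rw [h1, h2]
  have hDD : ⁅D, A⁆ = D := by
    refine Lib.CoprimeCommutator.commutator_commutator_eq A (P ⊓ C) hAn ?_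
    obtain ⟨n, hn⟩ := (IsPGroup.iff_card (p := 2)).1 (hP.to_le (inf_le_left : P ⊓ C ≤ P))
    rw [hn]
    exact Nat.Coprime.pow_right n hAcop
  have hDC : D ≤ C := (Subgroup.commutator_mono inf_le_right hAC).trans (Subgroup.commutator_le_self C)
  have hDP : D ≤ P := (Subgroup.commutator_mono inf_le_left (le_refl A)).trans (Subgroup.commutator_le_left P A)
  have hDK : D ≤ K := by
    have h1 := SolvTwo.le_of_isSubnormal (C := C) (A := A) (D := D) hDC hDD.ge (h.sub K hK)
    rw [map_subgroupOf_eq_of_le hKC] at h1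
    exact h1 hAK
  have h2 : D = ⊥ := by
    rw [← hDD, Subgroup.commutator_eq_bot_iff_le_centralizer]
    intro x hx
    rw [mem_centralizer_iff]
    intro a ha
    exact (hcen x ⟨hDK hx, hDP hx⟩ a (hAK ha)).symm
  rw [hD, Subgroup.commutator_eq_bot_iff_le_centralizer] at h2
  have h3 : A ≤ centralizer (P : Set G) := by
    refine SolvTwo.le_cent (z := z) (h.zz_mul hK) hP hAcop ?_ ?_
    · intro a ha; exact mem_centralizer_singleton_iff.1 (hAC ha)
    · intro x hx hxz a ha
      exact (mem_centralizer_iff.1 (h2 ⟨hx, mem_centralizer_singleton_iff.2 hxz⟩) a ha).symm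
  have h4 : k ∈ centralizer (generalizedFittingSubgroup G : Set G) :=
    mem_centralizer_genFit hO (fun L hL => hcomp L hL hk) (h3 (mem_zpowers k))
  exact SolvTwo.eq_one_of_coprime hP hAcop (centralizer_genFit_le hO h4) (mem_zpowers k)

/-- **THEOREM R (d)**, big types: a quasisimple member whose involution centralises all components is a
component -/
theorem isComponent_of_quasisimple (hq : IsQuasisimple K) : IsComponent K := by
  haveI : Fact (Nat.Prime 2) := ⟨Nat.prime_two⟩
  by_cases hex : ∃ F : Subgroup G, IsComponent F ∧ F ≤ K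
  · obtain ⟨F, hF, hFK⟩ := hex
    have h1 := quasisimple_subnormal hq (hF.1.subgroupOf (K := K))
    rcases h1 with h1 | h1
    · have h2 : K ≤ F := subgroupOf_eq_top.1 h1
      rw [← le_antisymm hFK h2]
      exact hF
    · exfalso
      apply quasisimple_not_isMulCommutative hF.2
      refine ⟨⟨fun a b => Subtype.ext ?_⟩⟩
      have h2 := h1 (show (⟨b, hFK b.2⟩ : K) ∈ F.subgroupOf K from b.2)
      have h3 := mem_center_iff.1 h2 ⟨a, hFK a.2⟩
      have h4 : (a : G) * b = b * a := congrArg (fun t : K => (t : G)) h3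
      exact h4
  · exfalso
    push Not at hex
    have hcomp : ∀ L : Subgroup G, IsComponent L → K ≤ centralizer (L : Set G) := by
      intro L hL
      rcases le_or_comm_of_le_centralizer h hK hL (hall L hL) with h1 | h1
      · exact absurd h1 (hex L hL)
      · intro y hy
        rw [mem_centralizer_iff]
        exact fun x hx => h1 x hx y hy
    haveI hPn : (pCore 2 G).Normal := Lib.Cores.pCore_normal 2
    have hcen : ∀ x ∈ K ⊓ pCore 2 G, ∀ y ∈ K, x * y = y * x := by
      have hn : ((K ⊓ pCore 2 G).subgroupOf K).Normal := by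
        rw [inf_subgroupOf_left]
        exact normal_subgroupOf
      rcases quasisimple_normal hq _ hn with h1 | h1
      · exfalso
        have h2 : K ≤ pCore 2 G := (subgroupOf_eq_top.1 h1).trans inf_le_right
        have h3 : IsPGroup 2 K := (Lib.Cores.pCore_isPGroup 2).to_le h2
        have h4 : Group.IsNilpotent K := h3.isNilpotent
        exact quasisimple_not_isSolvable hq inferInstance
      · intro x hx y hy
        have h2 := h1 (show (⟨x, hx.1⟩ : K) ∈ (K ⊓ pCore 2 G).subgroupOf K from hx)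
        exact (congrArg Subtype.val (mem_center_iff.1 h2 ⟨y, hy⟩)).symm
    -- `K` is a 2-group
    have h1 : IsPGroup 2 K := by
      rw [IsPGroup.iff_orderOf]
      intro x
      obtain ⟨b, m, hm, hbm⟩ := Nat.exists_eq_two_pow_mul_odd (orderOf_pos (x : G)).ne'
      have h2 : (x : G) ^ 2 ^ b = 1 := by
        refine eq_one_of_odd_of_central h hO hK hcomp hcen (K.pow_mem x.2 _) ?_
        rw [orderOf_pow' _ (by positivity), hbm, Nat.gcd_eq_right (Dvd.intro _ rfl),
          Nat.mul_div_cancel_left _ (by positivity)]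
        exact hm
      have h3 : orderOf (x : G) ∣ 2 ^ b := orderOf_dvd_of_pow_eq_one h2
      rw [Subgroup.orderOf_coe] at h3
      obtain ⟨n, -, hn⟩ := (Nat.dvd_prime_pow Nat.prime_two).1 h3
      exact ⟨n, hn⟩
    have h4 : Group.IsNilpotent K := h1.isNilpotent
    exact quasisimple_not_isSolvable hq inferInstance

/-- **THEOREM R (d)**, type `SL₂(3)` : `K` centralises `E(G)` -/
theorem le_centralizer_component (hs : Group.IsSolvable K) {L : Subgroup G} (hL : IsComponent L) :
    K ≤ centralizer (L : Set G) := by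
  rcases le_or_comm_of_le_centralizer h hK hL (hall L hL) with h1 | h1
  · exfalso
    have h2 : Group.IsSolvable (L.subgroupOf K) := inferInstance
    have h3 : Group.IsSolvable L :=
      Group.isSolvable_of_surjective (f := (subgroupOfEquivOfLe h1).toMonoidHom)
        (subgroupOfEquivOfLe h1).surjective
    exact quasisimple_not_isSolvable hL.2 h3
  · intro y hy
    rw [mem_centralizer_iff]
    exact fun x hx => h1 x hx y hy

/-- **THEOREM R (d)**, type `SL₂(3)` : the elements of order 4 of `K` lie in `O_2(G)` -/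
theorem mem_pCore (hs : Group.IsSolvable K) (hT : SolvTwo.T3 K (zz K)) :
    ∀ y ∈ K, y * y = zz K → y ∈ pCore 2 G := by
  haveI hPn : (pCore 2 G).Normal := Lib.Cores.pCore_normal 2
  have hP : IsPGroup 2 (pCore 2 G) := Lib.Cores.pCore_isPGroup 2
  obtain ⟨c, hc, hc3, hc1⟩ := hT.ex3
  have hco : orderOf c = 3 := orderOf_eq_prime (by rw [← hc3]; simp only [pow_succ, pow_zero, one_mul]) hc1
  have hex : ∃ x ∈ K, x ∈ pCore 2 G ∧ x ≠ 1 ∧ x ≠ zz K := by
    by_contra hcon
    push Not at hcon
    apply hc1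
    refine eq_one_of_odd_of_central h hO hK
      (fun L hL => le_centralizer_component h hO hev hK hall hs hL) ?_ hc (by rw [hco]; decide)
    rintro x ⟨hxK, hxP⟩ y hy
    by_cases hx1 : x = 1
    · rw [hx1, one_mul, mul_one]
    · rw [hcon x hxK hxP hx1]
      exact (h.comm_zz hK (le_normalizer hy)).symm
  obtain ⟨x, hxK, hxP, hx1, hxz⟩ := hex
  obtain ⟨n, hn⟩ := hP ⟨x, hxP⟩
  have hn' : x ^ 2 ^ n = 1 := congrArg Subtype.val hn
  have hxx : x * x = zz K := by
    rcases hT.cases_two hxK hn' with h1 | h1 | h1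
    · exact h1
    · exact absurd h1 hx1
    · exact absurd h1 hxz
  intro y hy hyy
  obtain ⟨g, hg, rfl⟩ := hT.conj x hxK y hy hxx hyy
  exact hPn.conj_mem x hxP g

/-- **THEOREM R (d)**, type `SL₂(3)` : the 2-subgroups of `K` lie in `O_2(G)` -/
theorem le_pCore (hs : Group.IsSolvable K) (hT : SolvTwo.T3 K (zz K)) {Q : Subgroup G} (hQK : Q ≤ K)
    (hQ : IsPGroup 2 Q) : Q ≤ pCore 2 G := by
  intro x hx
  obtain ⟨n, hn⟩ := hQ ⟨x, hx⟩
  have hn' : x ^ 2 ^ n = 1 := congrArg Subtype.val hn
  have h4 := mem_pCore h hO hev hK hall hs hT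
  rcases hT.cases_two (hQK hx) hn' with h1 | h1 | h1
  · exact h4 x (hQK hx) h1
  · rw [h1]; exact one_mem _
  · obtain ⟨y, hy, _, _, hyy, _, _⟩ := hT.ex4
    rw [h1, ← hyy]
    exact mul_mem (h4 y hy hyy) (h4 y hy hyy)

end Cfsg.Agent.Cit.OneCompD
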