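import Cfsg.Agent.Cit.CoresClose
import Cfsg.Agent.Cit.OneCompD

/-!
# (CT) : `O(C(b))` centralises the Sylow 2-subgroups of the members (helper533, bb #5967, LEMMA 2)

`G` finite, `O(G) = 1`, `XX b = O(C_G(b))`, `b` an involution.

* `XX_le_centralizer_pCore` : `XX b` centralises `O_2(G)`;
* `XX_le_centralizer_component` : and the components contained in `C(b)`;
* `FixP p L` : THEOREM FIX for the subgroup `L` of `G`;
* `Tame Q` : `Q ≤ O_2(G)`, or `Q` lies in a component `L` and commutes with `O(C_L(b))` for all `b`;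
* `Tame.comm` : **(CT)** for `O(G) = 1`;
* `eq_one_of_gen` : (2B) abstractly.
-/

set_option autoImplicit false
set_option linter.style.haveILetI false

namespace Cfsg.Agent.Cit.CT

open Subgroup Cfsg Cfsg.Agent.Cit Cfsg.Agent.Cit.Comp Cfsg.Agent.Cit.OneComp
open Cfsg.Agent.SignalizersComponents.Components

variable {G : Type*} [Group G]

theorem odd_iff_coprime (X : Subgroup G) : ¬ 2 ∣ Nat.card X ↔ (Nat.card X).Coprime 2 := by
  rw [Nat.coprime_comm, Nat.Prime.coprime_iff_not_dvd Nat.prime_two]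

/-- `C(b)` normalises `XX b` -/
theorem conj_mem_XX {b c x : G} (hc : c * b = b * c) (hx : x ∈ XX b) : c * x * c⁻¹ ∈ XX b :=
  (mem_normalizer_iff.1 (centralizer_le_normalizer_XX b (mem_centralizer_singleton_iff.2 hc)) x).1 hx

theorem comm_of_mem_XX {b x : G} (hx : x ∈ XX b) : x * b = b * x :=
  mem_centralizer_singleton_iff.1 (XX_le b hx)

/-- a 2-element `q` commuting with `[q, x] ∈ X`, `X` odd, commutes with `x` -/
theorem comm_of_comm_comm [Finite G] {X : Subgroup G} (hX : ¬ 2 ∣ Nat.card X) {q x : G}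
    (hq : IsPGroup 2 (zpowers q)) (hw : q * x * q⁻¹ * x⁻¹ ∈ X)
    (hc : q * (q * x * q⁻¹ * x⁻¹) = (q * x * q⁻¹ * x⁻¹) * q) : q * x = x * q := by
  set w := q * x * q⁻¹ * x⁻¹ with hwd
  have h1 : ∀ n : ℕ, q ^ n * x * (q ^ n)⁻¹ = w ^ n * x := by
    intro n
    induction n with
    | zero => simp
    | succ n ih =>
      have h2 : q * w ^ n = w ^ n * q := (Commute.pow_right (show Commute q w from hc) n).eq
      calc q ^ (n + 1) * x * (q ^ (n + 1))⁻¹ = q * (q ^ n * x * (q ^ n)⁻¹) * q⁻¹ := by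
            rw [pow_succ']; group
        _ = (q * w ^ n) * x * q⁻¹ := by rw [ih]; group
        _ = w ^ n * (q * x * q⁻¹ * x⁻¹) * x := by rw [h2]; group
        _ = w ^ (n + 1) * x := by rw [← hwd, pow_succ]
  obtain ⟨k, hk⟩ := hq ⟨q, mem_zpowers q⟩
  have hk' : q ^ 2 ^ k = 1 := congrArg Subtype.val hk
  have h2 := h1 (2 ^ k)
  rw [hk', one_mul, inv_one, mul_one] at h2
  have h3 : w ^ 2 ^ k = 1 := by simpa using h2.symm
  have h4 : w = 1 := eq_one_of_odd hX hw h3
  rw [hwd, mul_inv_eq_one, mul_inv_eq_iff_eq_mul] at h4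
  exact h4

/-- a product of two commuting elements of 2-power order -/
theorem pow_mul_eq_one {x y : G} (hxy : x * y = y * x) {k l : ℕ} (hx : x ^ 2 ^ k = 1) (hy : y ^ 2 ^ l = 1) :
    (x * y) ^ 2 ^ (k + l) = 1 := by
  rw [(show Commute x y from hxy).mul_pow, pow_add, pow_mul, hx, one_pow, one_mul, mul_comm, pow_mul, hy,
    one_pow]

variable [Finite G]

/-- `O(C(b))` centralises `O_2(G)` -/
theorem XX_le_centralizer_pCore {b : G} (hb : b * b = 1) : XX b ≤ centralizer (pCore 2 G : Set G) := by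
  haveI : Fact (Nat.Prime 2) := ⟨Nat.prime_two⟩
  have hPn : (pCore 2 G).Normal := Lib.Cores.pCore_normal 2
  have hP : IsPGroup 2 (pCore 2 G) := Lib.Cores.pCore_isPGroup 2
  have hW := (odd_iff_coprime (XX b)).1 (odd_XX b)
  refine SolvTwo.le_cent (z := b) hb hP hW (fun w hw => comm_of_mem_XX hw) ?_
  intro x hxP hxb w hw
  have h1 : x * w * x⁻¹ * w⁻¹ = 1 := by
    refine SolvTwo.eq_one_of_coprime hP hW ?_ ?_
    · have h2 := (pCore 2 G).mul_mem hxP (hPn.conj_mem _ ((pCore 2 G).inv_mem hxP) w)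
      simpa [mul_assoc] using h2
    · exact (XX b).mul_mem (conj_mem_XX hxb hw) ((XX b).inv_mem hw)
  rw [mul_inv_eq_one, mul_inv_eq_iff_eq_mul] at h1
  exact h1

/-- `O(C(b))` centralises the components of `G` contained in `C(b)` -/
theorem XX_le_centralizer_component (hev : EvQ G) {L : Subgroup G} (hL : IsComponent L) {b : G}
    (hLb : L ≤ centralizer {b}) : XX b ≤ centralizer (L : Set G) := by
  haveI : Fact (Nat.Prime 2) := ⟨Nat.prime_two⟩
  have hn : (pPrimeCore 2 (centralizer ({b} : Set G))).Normal := Lib.Cores.pPrimeCore_normal 2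
  rcases component_le_or_commutator_eq_bot (isComponent_subgroupOf hLb hL) hn.isSubnormal with h1 | h1
  · exfalso
    have h2 := Subgroup.map_mono (f := (centralizer ({b} : Set G)).subtype) h1
    rw [map_subgroupOf_eq_of_le hLb] at h2
    exact odd_XX b ((hev L hL.2).trans (card_dvd_of_le h2))
  · have h2 := congrArg (Subgroup.map (centralizer ({b} : Set G)).subtype) h1
    rw [map_commutator, map_subgroupOf_eq_of_le hLb, Subgroup.map_bot, commutator_comm,
      commutator_eq_bot_iff_le_centralizer] at h2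
    exact h2

omit [Finite G] in
/-- an element centralising a non-central element of the component `L` normalises `L` -/
theorem mem_normalizer_of_comm {L : Subgroup G} (hL : IsComponent L) {b q l : G} (hq : q ∈ L) (hl : l ∈ L)
    (hql : q * l ≠ l * q) (hbq : q * b = b * q) : b ∈ normalizer (L : Set G) := by
  rw [mem_normalizer_iff_cj]
  by_contra hne
  apply hql
  have h1 : q ∈ cj b L := by
    rw [mem_cj]
    have h2 : b⁻¹ * q * b = q := by rw [mul_assoc, hbq]; group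
    rw [h2]; exact hq
  exact comm_of_ne (isComponent_cj hL b) hL hne h1 hl

/-- `O(C(b))` normalises the component `L` if `b` centralises a 2-element of `L`, not central in `L` -/
theorem XX_le_normalizer {L : Subgroup G} (hL : IsComponent L) {b q l : G} (hq : q ∈ L) (hl : l ∈ L)
    (hql : q * l ≠ l * q) (hbq : q * b = b * q) (hq2 : IsPGroup 2 (zpowers q)) :
    XX b ≤ normalizer (L : Set G) := by
  intro u hu
  rw [mem_normalizer_iff_cj]
  by_contra hne
  apply hql
  obtain ⟨k, hk⟩ := hq2 ⟨q, mem_zpowers q⟩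
  have hk' : q ^ 2 ^ k = 1 := congrArg Subtype.val hk
  set q' := u * q * u⁻¹ with hq'
  have h1 : q' ∈ cj u L := conj_mem_cj hq
  have h2 : q' * q⁻¹ = q⁻¹ * q' := comm_of_ne (isComponent_cj hL u) hL hne h1 (L.inv_mem hq)
  have h3 : q' ^ 2 ^ k = 1 := by
    have h4 : q' ^ 2 ^ k = u * q ^ 2 ^ k * u⁻¹ := by rw [hq']; exact conj_pow
    rw [h4, hk']; group
  have h4 := pow_mul_eq_one h2 h3 (l := k) (by rw [inv_pow, hk', inv_one])
  have h5 : q' * q⁻¹ ∈ XX b := by
    have h6 : q' * q⁻¹ = u * (q * u⁻¹ * q⁻¹) := by rw [hq']; group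
    rw [h6]
    exact mul_mem hu (conj_mem_XX hbq (inv_mem hu))
  have h6 := eq_one_of_odd (odd_XX b) h5 h4
  rw [mul_inv_eq_one] at h6
  rw [h6] at h1
  exact comm_of_ne (isComponent_cj hL u) hL hne h1 hl

omit [Finite G] in
/-- `[x, y] ∈ O(C_L(b))` for `x ∈ O(C(b)) ⊓ N(L)`, `y ∈ C_L(b)` -/
theorem comm_mem_OO [Finite G] {L : Subgroup G} {b x y : G} (hx : x ∈ XX b)
    (hxL : x ∈ normalizer (L : Set G)) (hy : y ∈ L) (hyb : y * b = b * y) :
    y * x * y⁻¹ * x⁻¹ ∈ OO (L ⊓ centralizer {b}) := by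
  have h1 : XX b ⊓ L ≤ OO (L ⊓ centralizer {b}) := by
    refine le_OO (le_inf inf_le_right (inf_le_left.trans (XX_le b))) ?_ ?_
    · rintro c ⟨hcL, hcb⟩
      rw [mem_normalizer_iff_cj, cj_inf, mem_normalizer_iff_cj.1 (le_normalizer hcL),
        mem_normalizer_iff_cj.1 (centralizer_le_normalizer_XX b hcb)]
    · intro h2
      exact odd_XX b (h2.trans (card_dvd_of_le inf_le_left))
  apply h1
  refine ⟨(XX b).mul_mem (conj_mem_XX hyb hx) ((XX b).inv_mem hx), ?_⟩
  have h2 : y * x * y⁻¹ * x⁻¹ = y * (x * y⁻¹ * x⁻¹) := by group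
  rw [h2]
  exact L.mul_mem hy ((mem_normalizer_iff.1 hxL _).1 (L.inv_mem hy))

/-- THEOREM FIX for the subgroup `L` -/
def FixP (p : ℕ) (L : Subgroup G) : Prop :=
  ∀ b : G, b * b = 1 → b ∈ normalizer (L : Set G) → ¬ p ∣ Nat.card (OO (L ⊓ centralizer {b})) ∧
    ∀ v ∈ L, v * b = b * v → IsPGroup p (zpowers v) → ∀ w ∈ OO (L ⊓ centralizer {b}), v * w = w * v

/-- `O(C(b)) ⊓ N(L)` centralises the `p`-elements of `C_L(b)` -/
theorem FixP.comm {p : ℕ} [Fact p.Prime] {L : Subgroup G} (hF : FixP p L) {b x v : G} (hb : b * b = 1)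
    (hbL : b ∈ normalizer (L : Set G)) (hx : x ∈ XX b) (hxL : x ∈ normalizer (L : Set G)) (hv : v ∈ L)
    (hvb : v * b = b * v) (hvp : IsPGroup p (zpowers v)) : v * x = x * v := by
  obtain ⟨h1, h2⟩ := hF b hb hbL
  have h3 := comm_mem_OO hx hxL hv hvb
  set e := v * x * v⁻¹ * x⁻¹ with he
  have hve := h2 v hv hvb hvp e h3
  obtain ⟨k, hk⟩ := hvp ⟨v, mem_zpowers v⟩
  have hk' : v ^ p ^ k = 1 := congrArg Subtype.val hk
  -- `x v x⁻¹ = e⁻¹ v`
  have h4 : x * v * x⁻¹ = e⁻¹ * v := by rw [he]; group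
  have h5 : (e⁻¹ * v) ^ p ^ k = 1 := by
    rw [← h4, conj_pow, hk']; group
  have h6 : Commute e⁻¹ v := ((show Commute v e from hve).symm).inv_left
  rw [h6.mul_pow, hk', mul_one, inv_pow, inv_eq_one] at h5
  have h7 : orderOf e ∣ p ^ k := orderOf_dvd_of_pow_eq_one h5
  have h8 : orderOf e ∣ Nat.card (OO (L ⊓ centralizer {b})) := by
    rw [← Subgroup.orderOf_mk e h3]; exact orderOf_dvd_natCard _
  have h9 : Nat.Coprime (p ^ k) (Nat.card (OO (L ⊓ centralizer {b}))) :=
    Nat.Coprime.pow_left k (((Nat.Prime.coprime_iff_not_dvd Fact.out).2 h1))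
  have h10 : orderOf e = 1 := Nat.eq_one_of_dvd_coprimes h9 h7 h8
  rw [orderOf_eq_one_iff, he, mul_inv_eq_one, mul_inv_eq_iff_eq_mul] at h10
  exact h10

/-- the property of a 2-subgroup `Q` used for (CT) -/
def Tame (Q : Subgroup G) : Prop :=
  Q ≤ pCore 2 G ∨ ∃ L : Subgroup G, IsComponent L ∧ Q ≤ L ∧ (∃ q ∈ Q, ∃ l ∈ L, q * l ≠ l * q) ∧
    ∀ b, b * b = 1 → b ∈ normalizer (L : Set G) → (∀ q ∈ Q, q * b = b * q) →
      ∀ w ∈ OO (L ⊓ centralizer {b}), ∀ q ∈ Q, q * w = w * q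

/-- **(CT)** for `O(G) = 1` -/
theorem Tame.comm {Q : Subgroup G} (hT : Tame Q) (hQ : IsPGroup 2 Q) {b : G} (hb : b * b = 1)
    (hQb : ∀ q ∈ Q, q * b = b * q) {x q : G} (hx : x ∈ XX b) (hq : q ∈ Q) : q * x = x * q := by
  have hq2 : ∀ q ∈ Q, IsPGroup 2 (zpowers q) := fun q hq => hQ.to_le (zpowers_le.2 hq)
  rcases hT with hT | ⟨L, hL, hQL, ⟨q0, hq0, l0, hl0, hne⟩, hfix⟩
  · exact (mem_centralizer_iff.1 (XX_le_centralizer_pCore hb hx)) q (hT hq)
  · have h1 := mem_normalizer_of_comm hL (hQL hq0) hl0 hne (hQb q0 hq0)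
    have h2 := XX_le_normalizer hL (hQL hq0) hl0 hne (hQb q0 hq0) (hq2 q0 hq0)
    have h3 := comm_mem_OO hx (h2 hx) (hQL hq) (hQb q hq)
    refine comm_of_comm_comm (X := OO (L ⊓ centralizer {b})) (odd_OO _) (hq2 q hq) h3 ?_
    exact hfix b hb h1 hQb _ h3 q hq

/-! ### (2B) -/

/-- the subgroup generated by the `C(b) ⊓ C(O(C(b)))`, `b ∈ B` -/
def GB (B : Set G) : Subgroup G := ⨆ (b : G) (_ : b ∈ B), centralizer {b} ⊓ centralizer (XX b : Set G)

omit [Finite G] in
theorem le_GB {B : Set G} {b : G} (hb : b ∈ B) : centralizer {b} ⊓ centralizer (XX b : Set G) ≤ GB B :=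
  le_iSup₂ (f := fun (b : G) (_ : b ∈ B) => centralizer {b} ⊓ centralizer (XX b : Set G)) b hb

omit [Finite G] in
theorem GB_le_iff {B : Set G} {H : Subgroup G} : GB B ≤ H ↔
    ∀ b ∈ B, centralizer {b} ⊓ centralizer (XX b : Set G) ≤ H := iSup₂_le_iff

omit [Finite G] in
/-- an element of all `O(C(b))`, `b ∈ B`, centralises `GB B` -/
theorem mem_centralizer_GB {B : Set G} {u : G} (hu : ∀ b ∈ B, u ∈ XX b) : u ∈ centralizer (GB B : Set G) := by
  have h1 : GB B ≤ centralizer (zpowers u : Set G) := by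
    rw [GB_le_iff]
    intro b hb
    rw [le_centralizer_iff, zpowers_le, mem_centralizer_iff]
    intro y hy
    exact (mem_centralizer_iff.1 hy.2 u (hu b hb)).symm
  rw [le_centralizer_iff, zpowers_le] at h1
  exact h1

/-- **(2B)** -/
theorem eq_one_of_gen (hO : pPrimeCore 2 G = ⊥) {B : Set G} {b : G} (hbB : b ∈ B) (hb : b * b = 1) {u : G}
    (hu : ∀ b ∈ B, u ∈ XX b) (hgen : ∀ L : Subgroup G, IsComponent L → L ≤ GB B) : u = 1 := by
  haveI : Fact (Nat.Prime 2) := ⟨Nat.prime_two⟩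
  have h1 : u ∈ centralizer (generalizedFittingSubgroup G : Set G) := by
    refine mem_centralizer_genFit hO (fun L hL => ?_) (XX_le_centralizer_pCore hb (hu b hbB))
    exact centralizer_le (hgen L hL) (mem_centralizer_GB hu)
  exact SolvTwo.eq_one_of_coprime (Lib.Cores.pCore_isPGroup 2) ((odd_iff_coprime (XX b)).1 (odd_XX b))
    (centralizer_genFit_le hO h1) (hu b hbB)

/-- a component centralised by a member of `B` -/
theorem le_GB_of_centralizes (hev : EvQ G) {L : Subgroup G} (hL : IsComponent L) {B : Set G} {b : G}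
    (hb : b ∈ B) (hLb : L ≤ centralizer {b}) : L ≤ GB B :=
  le_trans (le_inf hLb (le_centralizer_iff.1 (XX_le_centralizer_component hev hL hLb))) (le_GB hb)

end Cfsg.Agent.Cit.CT
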