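import Mathlib
import Cfsg.Agent.Cit.Defs
import Cfsg.Agent.SignalizersComponents.BalEndM11

/-!
# `GL(2,3)`: the subgroups with generalised quaternion Sylow 2-subgroups

Facts used for the sheet of `M₁₁` in the classical involution theorem: a subgroup of `GL(2,3)` with
generalised quaternion Sylow 2-subgroups is `Q₈` or `SL(2,3)`, and its centraliser is `{1, -1}`.
-/

set_option autoImplicit false

namespace Cfsg.Agent.Cit.Eleven

open Subgroup Matrix

/-- `GL(2,3)` -/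
abbrev X := GL (Fin 2) (ZMod 3)

theorem card_X : Nat.card X = 48 := SignalizersComponents.BalEndM11.card_gl

theorem mat_eq (g : X) : (g : Matrix (Fin 2) (Fin 2) (ZMod 3)) = !![g.1 0 0, g.1 0 1; g.1 1 0, g.1 1 1] := by
  ext i j
  fin_cases i <;> fin_cases j <;> rfl

theorem det_eq (g : X) : (g : Matrix (Fin 2) (Fin 2) (ZMod 3)).det =
    g.1 0 0 * g.1 1 1 - g.1 0 1 * g.1 1 0 := Matrix.det_fin_two _

theorem det_cases (g : X) : g.1.det = 1 ∨ g.1.det = -1 := by
  have hne : g.1.det ≠ 0 := (Matrix.GeneralLinearGroup.det g).ne_zero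
  have : ∀ a : ZMod 3, a ≠ 0 → a = 1 ∨ a = -1 := by decide
  exact this _ hne

theorem val_eq_one {g : X} : g = 1 ↔ (g : Matrix (Fin 2) (Fin 2) (ZMod 3)) = 1 :=
  ⟨fun h => by rw [h]; rfl, fun h => Units.ext h⟩

theorem val_eq_neg_one {g : X} : g = -1 ↔ (g : Matrix (Fin 2) (Fin 2) (ZMod 3)) = -1 :=
  ⟨fun h => by rw [h]; rfl, fun h => Units.ext h⟩

/-- `SL(2,3)` inside `GL(2,3)` -/
def SLs : Subgroup X := (Matrix.GeneralLinearGroup.det : X →* (ZMod 3)ˣ).ker

theorem mem_SLs {g : X} : g ∈ SLs ↔ g.1.det = 1 := by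
  rw [SLs, MonoidHom.mem_ker]
  constructor
  · intro h
    exact congrArg Units.val h
  · intro h
    exact Units.ext h

instance SLs_normal : SLs.Normal := by unfold SLs; infer_instance

/-- `diag(-1,1)` -/
def dd : X := ⟨!![-1, 0; 0, 1], !![-1, 0; 0, 1], by decide, by decide⟩

theorem card_SLs : Nat.card SLs = 24 := by
  have h1 : SLs.index = 2 := by
    rw [SLs, Subgroup.index_ker]
    have h2 : (Matrix.GeneralLinearGroup.det : X →* (ZMod 3)ˣ).range = ⊤ := by
      rw [MonoidHom.range_eq_top]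
      intro u
      have h3 : ∀ u : (ZMod 3)ˣ, u = 1 ∨ u = -1 := by decide
      rcases h3 u with rfl | rfl
      · exact ⟨1, map_one _⟩
      · refine ⟨dd, Units.ext ?_⟩
        change (!![-1, 0; 0, 1] : Matrix (Fin 2) (Fin 2) (ZMod 3)).det = -1
        decide
    rw [h2, Nat.card_congr Subgroup.topEquiv.toEquiv, Nat.card_eq_fintype_card]
    decide
  have h2 := SLs.card_mul_index
  rw [h1, card_X] at h2
  omega

theorem index_SLs : SLs.index = 2 := by
  have h2 := SLs.card_mul_index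
  rw [card_SLs, card_X] at h2
  omega

/-- the entries of an element of `Q₈` -/
def qb (a b c d : ZMod 3) : Bool :=
  decide (a * d - b * c = 1) && (decide (a + d = 0) || (decide (b = 0) && decide (c = 0)))

theorem qb_iff (a b c d : ZMod 3) :
    qb a b c d = true ↔ a * d - b * c = 1 ∧ (a + d = 0 ∨ (b = 0 ∧ c = 0)) := by
  simp [qb]

theorem qb_mul : ∀ a b c d : ZMod 3, qb a b c d = true → ∀ a' b' c' d' : ZMod 3,
    qb a' b' c' d' = true →
    qb (a * a' + b * c') (a * b' + b * d') (c * a' + d * c') (c * b' + d * d') = true := by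
  decide +kernel

theorem q_mul (a b c d a' b' c' d' : ZMod 3)
    (h1 : a * d - b * c = 1) (h2 : a + d = 0 ∨ (b = 0 ∧ c = 0))
    (h3 : a' * d' - b' * c' = 1) (h4 : a' + d' = 0 ∨ (b' = 0 ∧ c' = 0)) :
    ((a * a' + b * c') + (c * b' + d * d') = 0 ∨ (a * b' + b * d' = 0 ∧ c * a' + d * c' = 0)) :=
  ((qb_iff _ _ _ _).1 (qb_mul a b c d ((qb_iff _ _ _ _).2 ⟨h1, h2⟩) a' b' c' d'
    ((qb_iff _ _ _ _).2 ⟨h3, h4⟩))).2

/-- `Q₈` inside `GL(2,3)` -/
def Q8 : Subgroup X where
  carrier := {g | g.1.det = 1 ∧ (g.1 0 0 + g.1 1 1 = 0 ∨ (g.1 0 1 = 0 ∧ g.1 1 0 = 0))}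
  mul_mem' := by
    rintro g h ⟨hg, hg'⟩ ⟨hh, hh'⟩
    refine ⟨by rw [Units.val_mul, Matrix.det_mul, hg, hh, one_mul], ?_⟩
    rw [det_eq] at hg hh
    have h1 := q_mul _ _ _ _ _ _ _ _ hg hg' hh hh'
    simpa [Units.val_mul, Matrix.mul_apply, Fin.sum_univ_two] using h1
  one_mem' := by
    refine ⟨by simp, Or.inr ?_⟩
    simp
  inv_mem' := by
    rintro g ⟨hg, hg'⟩
    have h1 : (g⁻¹ : X).1 = !![g.1 1 1, -g.1 0 1; -g.1 1 0, g.1 0 0] := by
      apply Units.inv_eq_of_mul_eq_one_right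
      rw [det_eq] at hg
      rw [mat_eq g]
      ext i j
      fin_cases i <;> fin_cases j <;> simp [Matrix.mul_apply, Fin.sum_univ_two] <;>
        first | linear_combination hg | ring
    refine ⟨?_, ?_⟩
    · rw [h1, Matrix.det_fin_two_of]
      rw [det_eq] at hg
      linear_combination hg
    · rw [h1]
      rcases hg' with h2 | h2
      · left
        simp
        linear_combination h2
      · right
        simp [h2]

theorem mem_Q8 {g : X} : g ∈ Q8 ↔
    g.1.det = 1 ∧ (g.1 0 0 + g.1 1 1 = 0 ∨ (g.1 0 1 = 0 ∧ g.1 1 0 = 0)) := Iff.rfl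

theorem Q8_le : Q8 ≤ SLs := fun _ hg => mem_SLs.2 hg.1

theorem sq_aux : ∀ a b c d : ZMod 3,
    (!![a, b; c, d] * !![a, b; c, d] : Matrix (Fin 2) (Fin 2) (ZMod 3)) = -1 →
    a * d - b * c = 1 ∧ a + d = 0 := by decide +kernel

theorem sq_aux' : ∀ a b c d : ZMod 3, a * d - b * c = 1 → (a + d = 0 ∨ (b = 0 ∧ c = 0)) →
    (!![a, b; c, d] : Matrix (Fin 2) (Fin 2) (ZMod 3)) = 1 ∨
    (!![a, b; c, d] : Matrix (Fin 2) (Fin 2) (ZMod 3)) = -1 ∨
    (!![a, b; c, d] * !![a, b; c, d] : Matrix (Fin 2) (Fin 2) (ZMod 3)) = -1 := by decide +kernel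

/-- `Q₈` consists of `1`, `-1` and the square roots of `-1` -/
theorem mem_Q8_iff {g : X} : g ∈ Q8 ↔ g = 1 ∨ g = -1 ∨ g * g = -1 := by
  constructor
  · intro h
    have h1 := h.1
    rw [det_eq] at h1
    have h2 := sq_aux' _ _ _ _ h1 h.2
    rw [← mat_eq] at h2
    rcases h2 with h2 | h2 | h2
    · exact Or.inl (Units.ext h2)
    · exact Or.inr (Or.inl (Units.ext h2))
    · exact Or.inr (Or.inr (Units.ext (by rw [Units.val_mul]; exact h2)))
  · rintro (rfl | rfl | h)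
    · exact one_mem _
    · refine ⟨?_, Or.inr ⟨?_, ?_⟩⟩ <;> decide
    · have h1 : (g : Matrix (Fin 2) (Fin 2) (ZMod 3)) * g = -1 := by
        rw [← Units.val_mul, h]; rfl
      rw [mat_eq g] at h1
      obtain ⟨h2, h3⟩ := sq_aux _ _ _ _ h1
      exact ⟨by rw [det_eq]; exact h2, Or.inl h3⟩

instance Q8_normal : Q8.Normal where
  conj_mem := by
    intro n hn g
    rw [mem_Q8_iff] at hn ⊢
    rcases hn with rfl | rfl | hn
    · left; group
    · right; left
      rw [mul_neg, mul_one, neg_mul, mul_inv_cancel]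
    · right; right
      calc g * n * g⁻¹ * (g * n * g⁻¹) = g * (n * n) * g⁻¹ := by group
        _ = -1 := by rw [hn, mul_neg, mul_one, neg_mul, mul_inv_cancel]

/-- generators of `Q₈` -/
def gi : X := ⟨!![0, 1; -1, 0], !![0, -1; 1, 0], by decide, by decide⟩
def gj : X := ⟨!![1, 1; 1, -1], !![-1, -1; -1, 1], by decide, by decide⟩

/-- the parametrisation of `Q₈` -/
def qf : QuaternionGroup 2 → X
  | QuaternionGroup.a i => gi ^ i.val
  | QuaternionGroup.xa i => gj * gi ^ i.val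

theorem qf_mul : ∀ x y : QuaternionGroup 2, qf (x * y) = qf x * qf y := by decide +kernel

theorem qf_inj : ∀ x y : QuaternionGroup 2, qf x = qf y → x = y := by decide +kernel

theorem gi_mem : gi ∈ Q8 := mem_Q8_iff.2 (Or.inr (Or.inr (by decide +kernel)))
theorem gj_mem : gj ∈ Q8 := mem_Q8_iff.2 (Or.inr (Or.inr (by decide +kernel)))

theorem q_cover : ∀ a b c d : ZMod 3, a * d - b * c = 1 → (a + d = 0 ∨ (b = 0 ∧ c = 0)) →
    ∃ x : QuaternionGroup 2, (qf x).1 = !![a, b; c, d] := by decide +kernel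

/-- `Q₈` is the quaternion group -/
noncomputable def qEquiv : QuaternionGroup 2 ≃* Q8 :=
  MulEquiv.ofBijective
    ({ toFun := fun x => ⟨qf x, by
          rcases x with i | i
          · exact Q8.pow_mem gi_mem _
          · exact Q8.mul_mem gj_mem (Q8.pow_mem gi_mem _)⟩
       map_one' := Subtype.ext (by
          have h := qf_mul 1 1
          rw [mul_one] at h
          exact mul_eq_left.1 h.symm)
       map_mul' := fun x y => Subtype.ext (qf_mul x y) } : QuaternionGroup 2 →* Q8)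
    ⟨fun x y h => qf_inj x y (congrArg Subtype.val h), fun ⟨g, hg⟩ => by
      have h1 := hg.1
      rw [det_eq] at h1
      obtain ⟨x, hx⟩ := q_cover _ _ _ _ h1 hg.2
      refine ⟨x, Subtype.ext (Units.ext ?_)⟩
      rw [mat_eq g]
      exact hx⟩

theorem card_Q8 : Nat.card Q8 = 8 := by
  rw [← Nat.card_congr qEquiv.toEquiv, Nat.card_eq_fintype_card, QuaternionGroup.card]

theorem isGQ_Q8 : IsGQ Q8 := ⟨0, ⟨qEquiv.symm⟩⟩

theorem relIndex_Q8 : Q8.relIndex SLs = 3 := by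
  have h := relIndex_mul_index Q8_le
  have h2 := Q8.card_mul_index
  rw [card_Q8, card_X] at h2
  rw [index_SLs] at h
  omega

theorem syl_Q8_SLs : Syl Q8 SLs :=
  ⟨Q8_le, IsPGroup.of_card (n := 3) (by rw [card_Q8]; norm_num), by rw [relIndex_Q8]; norm_num⟩

theorem syl_Q8_Q8 : Syl Q8 Q8 :=
  ⟨le_rfl, IsPGroup.of_card (n := 3) (by rw [card_Q8]; norm_num), by rw [relIndex_self]; norm_num⟩

/-! ### Elements -/

theorem tr_aux : ∀ a b c d : ZMod 3, a * d - b * c = -1 → a + d = 0 →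
    (!![a, b; c, d] * !![a, b; c, d] : Matrix (Fin 2) (Fin 2) (ZMod 3)) = 1 := by decide +kernel

/-- an element of determinant `-1` conjugate to its inverse has square `1` -/
theorem sq_eq_one {g v : X} (hg : g.1.det = -1) (h : v * g * v⁻¹ = g⁻¹) : g * g = 1 := by
  have h1 : (g⁻¹ : X).1 = !![-g.1 1 1, g.1 0 1; g.1 1 0, -g.1 0 0] := by
    apply Units.inv_eq_of_mul_eq_one_right
    rw [det_eq] at hg
    rw [mat_eq g]
    ext i j
    fin_cases i <;> fin_cases j <;> simp [Matrix.mul_apply, Fin.sum_univ_two] <;>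
      first | linear_combination -hg | ring
  have h2 : g.1.trace = (g⁻¹ : X).1.trace := by
    rw [← h, Units.val_mul, Units.val_mul, Matrix.trace_units_conj]
  rw [h1, Matrix.trace_fin_two, Matrix.trace_fin_two_of] at h2
  have h3 : g.1 0 0 + g.1 1 1 = 0 := by
    have : ∀ a d : ZMod 3, a + d = -d + -a → a + d = 0 := by decide
    exact this _ _ h2
  rw [det_eq] at hg
  have h4 := tr_aux _ _ _ _ hg h3
  rw [← mat_eq] at h4
  exact Units.ext (by rw [Units.val_mul]; exact h4)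

theorem invol_aux : ∀ a b c d : ZMod 3, a * d - b * c = 1 →
    (!![a, b; c, d] * !![a, b; c, d] : Matrix (Fin 2) (Fin 2) (ZMod 3)) = 1 →
    (!![a, b; c, d] : Matrix (Fin 2) (Fin 2) (ZMod 3)) = 1 ∨
    (!![a, b; c, d] : Matrix (Fin 2) (Fin 2) (ZMod 3)) = -1 := by decide +kernel

/-- the involution of `SL(2,3)` -/
theorem eq_neg_one {g : X} (hd : g.1.det = 1) (h : g * g = 1) (h1 : g ≠ 1) : g = -1 := by
  have h2 : (g : Matrix (Fin 2) (Fin 2) (ZMod 3)) * g = 1 := by
    rw [← Units.val_mul, h]; rfl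
  rw [mat_eq g] at h2
  rw [det_eq] at hd
  rcases invol_aux _ _ _ _ hd h2 with h3 | h3
  · rw [← mat_eq] at h3
    exact absurd (Units.ext h3) h1
  · rw [← mat_eq] at h3
    exact Units.ext h3

theorem pow_aux : ∀ a b c d : ZMod 3, a * d - b * c = 1 →
    (!![a, b; c, d] ^ 8 : Matrix (Fin 2) (Fin 2) (ZMod 3)) = 1 →
    (a + d = 0 ∨ (b = 0 ∧ c = 0)) := by decide +kernel

theorem mem_Q8_of_pow {g : X} (hd : g.1.det = 1) (h : g ^ 8 = 1) : g ∈ Q8 := by
  refine ⟨hd, ?_⟩
  have h2 : (g : Matrix (Fin 2) (Fin 2) (ZMod 3)) ^ 8 = 1 := by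
    rw [← Units.val_pow_eq_pow_val, h]; rfl
  rw [mat_eq g] at h2
  rw [det_eq] at hd
  exact pow_aux _ _ _ _ hd h2

theorem cent_aux : ∀ a b c d : ZMod 3, a * d - b * c ≠ 0 →
    (!![a, b; c, d] * !![0, 1; -1, 0] : Matrix (Fin 2) (Fin 2) (ZMod 3)) =
      !![0, 1; -1, 0] * !![a, b; c, d] →
    (!![a, b; c, d] * !![1, 1; 1, -1] : Matrix (Fin 2) (Fin 2) (ZMod 3)) =
      !![1, 1; 1, -1] * !![a, b; c, d] →
    (!![a, b; c, d] : Matrix (Fin 2) (Fin 2) (ZMod 3)) = 1 ∨
    (!![a, b; c, d] : Matrix (Fin 2) (Fin 2) (ZMod 3)) = -1 := by decide +kernel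

/-- the centraliser of `Q₈` -/
theorem eq_of_comm {g : X} (h : ∀ x ∈ Q8, g * x = x * g) : g = 1 ∨ g = -1 := by
  have h1 := congrArg Units.val (h gi gi_mem)
  have h2 := congrArg Units.val (h gj gj_mem)
  rw [Units.val_mul, Units.val_mul, mat_eq g] at h1 h2
  have hne : g.1.det ≠ 0 := (Matrix.GeneralLinearGroup.det g).ne_zero
  rw [det_eq] at hne
  rcases cent_aux _ _ _ _ hne h1 h2 with h3 | h3
  · rw [← mat_eq] at h3
    exact Or.inl (Units.ext h3)
  · rw [← mat_eq] at h3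
    exact Or.inr (Units.ext h3)

/-! ### Subgroups with generalised quaternion Sylow 2-subgroups -/

theorem det_conj (g h : X) : (g * h * g⁻¹).1.det = h.1.det := by
  rw [Units.val_mul, Units.val_mul, Matrix.det_units_conj]

/-- a generalised quaternion subgroup of `GL(2,3)` is `Q₈` -/
theorem eq_Q8 {P : Subgroup X} (hP : IsGQ P) : P = Q8 := by
  obtain ⟨c, v, z, n, hc⟩ := exists_gq hP
  have hz : z.1.det = 1 := by
    rw [← hc.v_sq, Units.val_mul, Matrix.det_mul]
    rcases det_cases v with h | h <;> rw [h] <;> decide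
  have hz1 : z = -1 := eq_neg_one hz hc.z_mul hc.z_ne
  have hcd : c.1.det = 1 := by
    rcases det_cases c with h | h
    · exact h
    · exact absurd (sq_eq_one h hc.conj) hc.c_sq_ne
  have hvd : v ∈ Q8 := by
    rw [mem_Q8_iff, hc.v_sq, hz1]
    exact Or.inr (Or.inr rfl)
  have hle : P ≤ SLs := by
    intro x hx
    rcases hc.cov x hx with ⟨i, rfl⟩ | ⟨i, rfl⟩
    · exact SLs.pow_mem (mem_SLs.2 hcd) _
    · exact SLs.mul_mem (Q8_le hvd) (SLs.pow_mem (mem_SLs.2 hcd) _)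
  obtain ⟨m, ⟨e⟩⟩ := hP
  have : NeZero (2 ^ (m + 1)) := ⟨by positivity⟩
  have hcard : Nat.card P = 2 ^ (m + 3) := by
    rw [Nat.card_congr e.toEquiv, Nat.card_eq_fintype_card, QuaternionGroup.card]
    ring
  have h24 : 2 ^ (m + 3) ∣ 24 := by
    rw [← hcard, ← card_SLs]
    exact Subgroup.card_dvd_of_le hle
  have hm : m = 0 := by
    by_contra hm
    have h1 : 2 ^ 4 ∣ 24 := (pow_dvd_pow 2 (by omega)).trans h24
    norm_num at h1
  subst hm
  have h8 : P ≤ Q8 := by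
    intro x hx
    refine mem_Q8_of_pow (mem_SLs.1 (hle hx)) ?_
    have h1 : orderOf (⟨x, hx⟩ : P) ∣ 8 := by
      have := orderOf_dvd_natCard (⟨x, hx⟩ : P)
      rwa [hcard] at this
    rw [Subgroup.orderOf_mk] at h1
    exact orderOf_dvd_iff_pow_eq_one.1 h1
  have : Finite X := Nat.finite_of_card_ne_zero (by rw [card_X]; norm_num)
  exact Subgroup.eq_of_le_of_card_ge h8 (by rw [card_Q8, hcard]; norm_num)

/-- a subgroup of `GL(2,3)` with generalised quaternion Sylow 2-subgroups is `Q₈` or `SL(2,3)` -/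
theorem eq_or_eq {K P : Subgroup X} (hPK : Syl P K) (hP : IsGQ P) : K = Q8 ∨ K = SLs := by
  have hPe := eq_Q8 hP
  subst hPe
  have : Finite X := Nat.finite_of_card_ne_zero (by rw [card_X]; norm_num)
  have h1 : SLs.relIndex K ∣ Q8.relIndex K := relIndex_dvd_of_le_left K Q8_le
  have h2 : SLs.relIndex K ∣ 2 := (SLs.relIndex_dvd_index_of_normal K).trans index_SLs.dvd
  have h3 : SLs.relIndex K = 1 := by
    rcases (Nat.dvd_prime Nat.prime_two).1 h2 with h | h
    · exact h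
    · rw [h] at h1
      exact absurd h1 hPK.2.2
  have hKS : K ≤ SLs := relIndex_eq_one.1 h3
  have h4 : Q8.relIndex K * K.relIndex SLs = 3 := by
    rw [relIndex_mul_relIndex _ _ _ hPK.1 hKS, relIndex_Q8]
  have h5 : Q8.relIndex K ∣ 3 := Dvd.intro _ h4
  rcases (Nat.dvd_prime Nat.prime_three).1 h5 with h | h
  · left
    exact le_antisymm (relIndex_eq_one.1 h) hPK.1
  · right
    rw [h] at h4
    exact le_antisymm hKS (relIndex_eq_one.1 (by omega))

end Cfsg.Agent.Cit.Eleven
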