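import Mathlib
import Cfsg.Prelude.Def_SporadicB
import Cfsg.Agent.Cit.ElevenGL
import Cfsg.Agent.Schreier.MEleven
import Cfsg.Agent.SporadicA.M11Facts
import Cfsg.Agent.TwoFusion.SLTwoFacts

/-!
# The fact sheet of `M₁₁` for the classical involution theorem

`L` is a group with `h : IsoM11 L` (from `IsM11 L` : `TwoGenCore.IsoMEleven.isoM11`), `z` an involution of `L`.

`QQ z` is the subgroup generated by the square roots of `z`; `SS z` the subgroup generated by the elements
of order 3 commuting with `z`.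

* (H2) `exists_equiv : C(z) ≃ GL(2,3)`, `z ↦ -1`; `card_centralizer = 48`, `OO_centralizer : O(C(z)) = 1`,
  `card_QQ = 8`, `isGQ_QQ`, `card_SS = 24`, `SS_equiv : SS z ≃ SL(2,3)`, `syl_QQ_SS`, `QQ_le_SS`, `SS_le`,
  `normalizer_QQ`, `normalizer_SS : N(SS z) = C(z)`, `mem_QQ`, `centralizer_eq : C(K) = ⟨z⟩`, `index_centralizer`.
* (H3) `isConj` : one class of involutions.
* (H4) `eq_or_eq'` : a subgroup of `C(z)` with generalised quaternion Sylow 2-subgroups is `QQ z` or `SS z`;
  `eq_or_eq_of_sylow`; `eq_SS_of_SL` (`K/O(K) ≃ SL(2,q)`), `not_two_A7`.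
* (H5) `aut_eq` : an automorphism of `L` centralising `QQ z` is `1` or conjugation by `z`;
  `mem_or_mem` : for `L ≤ G`, an element of `G` normalising `L` and centralising `QQ z` is in `C(L)` or `C(L) z`.
* involutions `t ≠ z` of `C(z)` : `exists_conj_mul` (`t ~ z t` under `QQ z`), `exists_conj_eq` (one class under
  `SS z`).
-/

set_option autoImplicit false

namespace Cfsg.Agent.Cit.Eleven

open Subgroup Matrix
open scoped Pointwise

section Basic

variable {L : Type*} [Group L]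

theorem isM11 (h : Cfsg.Spor.IsoM11 L) : Cfsg.IsM11 L := by
  obtain ⟨e⟩ := h
  let f := e.trans Schreier.MEleven.equiv.symm
  obtain ⟨h1, h2⟩ := Schreier.MEleven.isM11
  refine ⟨?_, ?_⟩
  · exact (MulEquiv.isSimpleGroup_congr f).2 h1
  · rw [← h2]; exact Nat.card_congr f.toEquiv

theorem finite (h : Cfsg.Spor.IsoM11 L) : Finite L :=
  Nat.finite_of_card_ne_zero (by rw [(isM11 h).2]; norm_num)

/-- the square roots of `z` generate `QQ z` -/
def QQ (z : L) : Subgroup L := closure {x | x * x = z}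

/-- the elements of order `3` of `C(z)` generate `SS z` -/
def SS (z : L) : Subgroup L := closure {x | x * x * x = 1 ∧ x * z = z * x}

theorem mem_cent {z x : L} : x ∈ centralizer ({z} : Set L) ↔ x * z = z * x :=
  mem_centralizer_singleton_iff

theorem self_mem (z : L) : z ∈ centralizer ({z} : Set L) := mem_cent.2 rfl

theorem QQ_le' (z : L) : QQ z ≤ centralizer {z} := by
  rw [QQ, closure_le]
  intro x hx
  have hx' : x * x = z := hx
  exact mem_cent.2 (by rw [← hx', mul_assoc])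

theorem SS_le (z : L) : SS z ≤ centralizer {z} := by
  rw [SS, closure_le]
  exact fun x hx => mem_cent.2 hx.2

theorem cj_QQ (g z : L) : cj g (QQ z) = QQ (g * z * g⁻¹) := by
  rw [cj, QQ, QQ, MonoidHom.map_closure]
  congr 1
  ext x
  constructor
  · rintro ⟨y, hy, rfl⟩
    have hy' : y * y = z := hy
    show (MulAut.conj g y) * (MulAut.conj g y) = g * z * g⁻¹
    rw [← map_mul, hy']; rfl
  · intro hx
    have hx' : x * x = g * z * g⁻¹ := hx
    refine ⟨g⁻¹ * x * g, ?_, by simp [mul_assoc]⟩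
    show g⁻¹ * x * g * (g⁻¹ * x * g) = z
    calc g⁻¹ * x * g * (g⁻¹ * x * g) = g⁻¹ * (x * x) * g := by group
      _ = z := by rw [hx']; group

theorem cj_SS (g z : L) : cj g (SS z) = SS (g * z * g⁻¹) := by
  rw [cj, SS, SS, MonoidHom.map_closure]
  congr 1
  ext x
  constructor
  · rintro ⟨y, ⟨hy, hy'⟩, rfl⟩
    refine ⟨?_, ?_⟩
    · rw [← map_mul, ← map_mul, hy, map_one]
    · show (MulAut.conj g y) * (MulAut.conj g z) = (MulAut.conj g z) * (MulAut.conj g y)
      rw [← map_mul, hy', map_mul]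
  · rintro ⟨hx, hx'⟩
    refine ⟨g⁻¹ * x * g, ⟨?_, ?_⟩, by simp [mul_assoc]⟩
    · calc g⁻¹ * x * g * (g⁻¹ * x * g) * (g⁻¹ * x * g) = g⁻¹ * (x * x * x) * g := by group
        _ = 1 := by rw [hx]; group
    · calc g⁻¹ * x * g * z = g⁻¹ * (x * (g * z * g⁻¹)) * g := by group
        _ = g⁻¹ * ((g * z * g⁻¹) * x) * g := by rw [hx']
        _ = z * (g⁻¹ * x * g) := by group

end Basic

/-! ### Generators of `SL(2,3)` -/

def gu : X := ⟨!![1, 1; 0, 1], !![1, -1; 0, 1], by decide, by decide⟩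
def gl : X := ⟨!![1, 0; 1, 1], !![1, 0; -1, 1], by decide, by decide⟩

theorem gen_aux : ∀ a b c d : ZMod 3, a * d - b * c = 1 → ∃ i j k l : Fin 3,
    (gu.1 ^ i.val * gl.1 ^ j.val * gu.1 ^ k.val * gl.1 ^ l.val :
      Matrix (Fin 2) (Fin 2) (ZMod 3)) = !![a, b; c, d] := by decide +kernel

theorem cube_aux : ∀ a : ZMod 3, a * a * a = 1 → a = 1 := by decide

theorem closure_cubes : Subgroup.closure {g : X | g * g * g = 1} = SLs := by
  apply le_antisymm
  · rw [Subgroup.closure_le]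
    intro g hg
    have hg' : g * g * g = 1 := hg
    refine mem_SLs.2 (cube_aux _ ?_)
    have h1 := congrArg (fun x : X => x.1.det) hg'
    simpa [Units.val_mul, Matrix.det_mul] using h1
  · intro g hg
    have hg' := mem_SLs.1 hg
    rw [det_eq] at hg'
    obtain ⟨i, j, k, l, h⟩ := gen_aux _ _ _ _ hg'
    have h1 : g = gu ^ i.val * gl ^ j.val * gu ^ k.val * gl ^ l.val := by
      apply Units.ext
      rw [mat_eq g, ← h]
      rfl
    have hu : gu ∈ Subgroup.closure {g : X | g * g * g = 1} := subset_closure (by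
      show gu * gu * gu = 1
      decide +kernel)
    have hl : gl ∈ Subgroup.closure {g : X | g * g * g = 1} := subset_closure (by
      show gl * gl * gl = 1
      decide +kernel)
    rw [h1]
    exact mul_mem (mul_mem (mul_mem (pow_mem hu _) (pow_mem hl _)) (pow_mem hu _)) (pow_mem hl _)

theorem closure_roots : Subgroup.closure {g : X | g * g = -1} = Q8 := by
  apply le_antisymm
  · rw [Subgroup.closure_le]
    intro g hg
    exact mem_Q8_iff.2 (Or.inr (Or.inr hg))
  · intro g hg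
    have hi : gi ∈ Subgroup.closure {g : X | g * g = -1} := subset_closure (by
      show gi * gi = -1
      decide +kernel)
    rcases mem_Q8_iff.1 hg with rfl | rfl | h
    · exact one_mem _
    · have h1 : gi * gi = (-1 : X) := by decide +kernel
      have h2 := mul_mem hi hi
      rw [h1] at h2
      exact h2
    · exact subset_closure h

/-- a subgroup of `GL(2,3)` isomorphic to `SL(2,F)`, `|F| = 3`, is `SL(2,3)` -/
theorem eq_SLs {K : Subgroup X} {F : Type*} [Field F] [Fintype F] (hF : Fintype.card F = 3)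
    (f : SpecialLinearGroup (Fin 2) F ≃* K) : K = SLs := by
  have : Finite X := Nat.finite_of_card_ne_zero (by rw [card_X]; norm_num)
  have h1 : K ≤ SLs := by
    intro x hx
    let φ : SpecialLinearGroup (Fin 2) F →* (ZMod 3)ˣ :=
      (Matrix.GeneralLinearGroup.det : X →* (ZMod 3)ˣ).comp (K.subtype.comp f.toMonoidHom)
    have h2 : IsPGroup 2 (ZMod 3)ˣ := IsPGroup.of_card (n := 1) (by
      rw [Nat.card_eq_fintype_card]; decide)
    have h3 := TwoFusion.SLTwoFacts.hom_eq_one (by rw [hF]; decide) h2 φ (f.symm ⟨x, hx⟩)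
    have h4 : (Matrix.GeneralLinearGroup.det : X →* (ZMod 3)ˣ) ((f (f.symm ⟨x, hx⟩) : K) : X) = 1 := h3
    rw [f.apply_symm_apply] at h4
    exact h4
  refine Subgroup.eq_of_le_of_card_ge h1 ?_
  rw [card_SLs, ← Nat.card_congr f.toEquiv, TwoFusion.SLTwoFacts.card_eq_24 hF]

/-! ### Involutions of `GL(2,3)` -/

theorem inv_aux1 : ∀ a b c d : ZMod 3, a * d - b * c = -1 →
    (!![a, b; c, d] * !![a, b; c, d] : Matrix (Fin 2) (Fin 2) (ZMod 3)) = 1 →
    ∃ x : QuaternionGroup 2, ((qf x).1 * !![a, b; c, d] : Matrix (Fin 2) (Fin 2) (ZMod 3)) =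
      -(!![a, b; c, d] * (qf x).1) := by decide +kernel

theorem inv_aux2 : ∀ a b c d : ZMod 3, a * d - b * c = -1 →
    (!![a, b; c, d] * !![a, b; c, d] : Matrix (Fin 2) (Fin 2) (ZMod 3)) = 1 →
    ∃ (x : QuaternionGroup 2) (i : Fin 3), ((gu.1 ^ i.val * (qf x).1) * !![a, b; c, d] :
      Matrix (Fin 2) (Fin 2) (ZMod 3)) = dd.1 * (gu.1 ^ i.val * (qf x).1) := by decide +kernel

theorem qf_mem (x : QuaternionGroup 2) : qf x ∈ Q8 := by
  rcases x with i | i
  · exact Q8.pow_mem gi_mem _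
  · exact Q8.mul_mem gj_mem (Q8.pow_mem gi_mem _)

theorem gu_mem : gu ∈ SLs := mem_SLs.2 (by decide +kernel)

theorem det_of_invol {t : X} (h : t * t = 1) (h1 : t ≠ 1) (h2 : t ≠ -1) : t.1.det = -1 := by
  rcases det_cases t with h3 | h3
  · exact absurd (eq_neg_one h3 h h1) h2
  · exact h3

theorem exists_Q8_conj {t : X} (h : t * t = 1) (h1 : t ≠ 1) (h2 : t ≠ -1) :
    ∃ k ∈ Q8, k * t * k⁻¹ = -1 * t := by
  have h3 := det_of_invol h h1 h2
  have h4 : (t : Matrix (Fin 2) (Fin 2) (ZMod 3)) * t = 1 := by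
    rw [← Units.val_mul, h]; rfl
  rw [det_eq] at h3
  rw [mat_eq t] at h4
  obtain ⟨x, hx⟩ := inv_aux1 _ _ _ _ h3 h4
  rw [← mat_eq] at hx
  refine ⟨qf x, qf_mem x, ?_⟩
  have h5 : qf x * t = -(t * qf x) := Units.ext (by
    rw [Units.val_mul, hx, Units.val_neg, Units.val_mul])
  rw [h5, neg_mul, mul_inv_cancel_right, neg_mul, one_mul]

theorem exists_SLs_conj {t : X} (h : t * t = 1) (h1 : t ≠ 1) (h2 : t ≠ -1) :
    ∃ k ∈ SLs, k * t * k⁻¹ = dd := by
  have h3 := det_of_invol h h1 h2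
  have h4 : (t : Matrix (Fin 2) (Fin 2) (ZMod 3)) * t = 1 := by
    rw [← Units.val_mul, h]; rfl
  rw [det_eq] at h3
  rw [mat_eq t] at h4
  obtain ⟨x, i, hx⟩ := inv_aux2 _ _ _ _ h3 h4
  rw [← mat_eq] at hx
  refine ⟨gu ^ i.val * qf x, mul_mem (pow_mem gu_mem _) (Q8_le (qf_mem x)), ?_⟩
  rw [mul_inv_eq_iff_eq_mul]
  exact Units.ext hx

section Main

variable {L : Type*} [Group L]

/-- `C(z) ≃ GL(2,3)` -/
theorem nonempty_equiv (h : Cfsg.Spor.IsoM11 L) {z : L} (hz : orderOf z = 2) :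
    Nonempty (↥(centralizer ({z} : Set L)) ≃* X) := by
  obtain ⟨e⟩ := h
  let φ := e.trans Schreier.MEleven.equiv.symm
  have hφx : orderOf (φ z) = 2 := by
    rw [← hz]; exact orderOf_injective φ.toMonoidHom φ.injective z
  obtain ⟨k⟩ := Cfsg.Agent.S1603.result _ Schreier.MEleven.squareDodecad_mem _
    Schreier.MEleven.zero_mem (φ z) hφx
  have hmap : (centralizer ({z} : Set L)).map φ.toMonoidHom = centralizer {φ z} := by
    ext y
    constructor
    · rintro ⟨x, hx, rfl⟩
      have hx' : x * z = z * x := mem_centralizer_singleton_iff.mp hx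
      rw [mem_centralizer_singleton_iff]
      show φ x * φ z = φ z * φ x
      rw [← map_mul, hx', map_mul]
    · intro hy
      rw [mem_centralizer_singleton_iff] at hy
      refine ⟨φ.symm y, ?_, φ.apply_symm_apply y⟩
      show φ.symm y ∈ centralizer ({z} : Set L)
      rw [mem_centralizer_singleton_iff]
      apply φ.injective
      rw [map_mul, map_mul, φ.apply_symm_apply, hy]
  let k1 : ↥(centralizer ({z} : Set L)) ≃* ↥(centralizer {φ z}) :=
    ((centralizer ({z} : Set L)).equivMapOfInjective φ.toMonoidHom φ.injective).trans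
      (MulEquiv.subgroupCongr hmap)
  exact ⟨k1.trans k⟩

/-- an isomorphism `C(z) ≃ GL(2,3)` maps `z` to `-1` -/
theorem equiv_z {z : L} (hz : orderOf z = 2) (e : ↥(centralizer ({z} : Set L)) ≃* X) :
    e ⟨z, self_mem z⟩ = -1 := by
  have hne : z ≠ 1 := by rintro rfl; simp at hz
  rcases eq_of_comm (g := e ⟨z, self_mem z⟩) (fun x _ => by
    obtain ⟨y, rfl⟩ := e.surjective x
    rw [← map_mul, ← map_mul]
    congr 1
    exact Subtype.ext (mem_cent.1 y.2).symm) with h | h
  · exfalso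
    apply hne
    have h1 : (⟨z, self_mem z⟩ : centralizer ({z} : Set L)) = 1 := e.injective (by rw [h, map_one])
    exact congrArg Subtype.val h1
  · exact h

/-- **(H2)** `C(z) ≃ GL(2,3)`, `z ↦ -1` -/
theorem exists_equiv (h : Cfsg.Spor.IsoM11 L) {z : L} (hz : orderOf z = 2) :
    ∃ e : ↥(centralizer ({z} : Set L)) ≃* X, e ⟨z, self_mem z⟩ = -1 := by
  obtain ⟨e⟩ := nonempty_equiv h hz
  exact ⟨e, equiv_z hz e⟩

/-- transport of a subgroup of `GL(2,3)` to `L` -/
def tr {z : L} (e : ↥(centralizer ({z} : Set L)) ≃* X) (K : Subgroup X) : Subgroup L :=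
  K.map ((centralizer ({z} : Set L)).subtype.comp e.symm.toMonoidHom)

theorem tr_inj_aux {z : L} (e : ↥(centralizer ({z} : Set L)) ≃* X) :
    Function.Injective ((centralizer ({z} : Set L)).subtype.comp e.symm.toMonoidHom) :=
  (Subtype.val_injective).comp e.symm.injective

theorem mem_tr {z : L} (e : ↥(centralizer ({z} : Set L)) ≃* X) {K : Subgroup X} {x : L} :
    x ∈ tr e K ↔ ∃ hx : x ∈ centralizer ({z} : Set L), e ⟨x, hx⟩ ∈ K := by
  constructor
  · rintro ⟨y, hy, rfl⟩
    refine ⟨(e.symm y).2, ?_⟩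
    have h2 : e (e.symm y) = y := e.apply_symm_apply y
    have h3 : e (e.symm y) ∈ K := by rw [h2]; exact hy
    exact h3
  · rintro ⟨hx, h⟩
    exact ⟨e ⟨x, hx⟩, h, by simp⟩

theorem coe_mem_tr {z : L} (e : ↥(centralizer ({z} : Set L)) ≃* X) {K : Subgroup X}
    {x : centralizer ({z} : Set L)} : (x : L) ∈ tr e K ↔ e x ∈ K := by
  rw [mem_tr]
  exact ⟨fun ⟨_, h⟩ => h, fun h => ⟨x.2, h⟩⟩

theorem tr_le {z : L} (e : ↥(centralizer ({z} : Set L)) ≃* X) (K : Subgroup X) :
    tr e K ≤ centralizer {z} := fun _ hx => ((mem_tr e).1 hx).1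

theorem tr_mono {z : L} (e : ↥(centralizer ({z} : Set L)) ≃* X) {K K' : Subgroup X} (h : K ≤ K') :
    tr e K ≤ tr e K' := Subgroup.map_mono h

theorem card_tr {z : L} (e : ↥(centralizer ({z} : Set L)) ≃* X) (K : Subgroup X) :
    Nat.card (tr e K) = Nat.card K := card_map_of_injective (tr_inj_aux e)

/-- the isomorphism `tr e K ≃ K` -/
noncomputable def trEquiv {z : L} (e : ↥(centralizer ({z} : Set L)) ≃* X) (K : Subgroup X) :
    K ≃* tr e K := K.equivMapOfInjective _ (tr_inj_aux e)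

theorem relIndex_tr {z : L} (e : ↥(centralizer ({z} : Set L)) ≃* X) (K K' : Subgroup X) :
    (tr e K).relIndex (tr e K') = K.relIndex K' :=
  relIndex_map_map_of_injective K K' (tr_inj_aux e)

theorem exists_tr {z : L} (e : ↥(centralizer ({z} : Set L)) ≃* X) {K : Subgroup L}
    (hK : K ≤ centralizer {z}) : ∃ K' : Subgroup X, tr e K' = K := by
  refine ⟨(K.subgroupOf (centralizer {z})).map e.toMonoidHom, ?_⟩
  ext x
  rw [mem_tr]
  constructor
  · rintro ⟨hx, y, hy, hyx⟩
    have h1 : y = ⟨x, hx⟩ := e.injective hyx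
    rw [h1] at hy
    exact hy
  · intro hx
    exact ⟨hK hx, ⟨x, hK hx⟩, hx, rfl⟩

theorem tr_top {z : L} (e : ↥(centralizer ({z} : Set L)) ≃* X) : tr e ⊤ = centralizer {z} := by
  ext x
  rw [mem_tr]
  exact ⟨fun h => h.1, fun h => ⟨h, trivial⟩⟩

variable {z : L}

theorem QQ_eq (hz : orderOf z = 2) (e : ↥(centralizer ({z} : Set L)) ≃* X) : QQ z = tr e Q8 := by
  rw [tr, ← closure_roots, MonoidHom.map_closure, QQ]
  congr 1
  ext x
  constructor
  · intro hx
    have hx' : x * x = z := hx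
    have hxc : x ∈ centralizer ({z} : Set L) := mem_cent.2 (by rw [← hx', mul_assoc])
    refine ⟨e ⟨x, hxc⟩, ?_, by simp⟩
    show e ⟨x, hxc⟩ * e ⟨x, hxc⟩ = -1
    rw [← map_mul, ← equiv_z hz e]
    congr 1
    exact Subtype.ext hx'
  · rintro ⟨y, hy, rfl⟩
    have hy' : y * y = -1 := hy
    show ((e.symm y : centralizer ({z} : Set L)) : L) * (e.symm y : centralizer ({z} : Set L)) = z
    rw [← Subgroup.coe_mul, ← map_mul, hy', ← equiv_z hz e, e.symm_apply_apply]

theorem SS_eq (e : ↥(centralizer ({z} : Set L)) ≃* X) : SS z = tr e SLs := by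
  rw [tr, ← closure_cubes, MonoidHom.map_closure, SS]
  congr 1
  ext x
  constructor
  · rintro ⟨hx, hx'⟩
    refine ⟨e ⟨x, mem_cent.2 hx'⟩, ?_, by simp⟩
    show e ⟨x, _⟩ * e ⟨x, _⟩ * e ⟨x, _⟩ = 1
    rw [← map_mul, ← map_mul, ← map_one e]
    congr 1
    exact Subtype.ext hx
  · rintro ⟨y, hy, rfl⟩
    have hy' : y * y * y = 1 := hy
    refine ⟨?_, mem_cent.1 (e.symm y).2⟩
    show ((e.symm y : centralizer ({z} : Set L)) : L) * (e.symm y : centralizer ({z} : Set L)) *
      (e.symm y : centralizer ({z} : Set L)) = 1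
    rw [← Subgroup.coe_mul, ← Subgroup.coe_mul, ← map_mul, ← map_mul, hy', map_one]
    rfl

variable (h : Cfsg.Spor.IsoM11 L) (hz : orderOf z = 2)

include h hz

theorem card_centralizer : Nat.card (centralizer ({z} : Set L)) = 48 := by
  obtain ⟨e⟩ := nonempty_equiv h hz
  rw [Nat.card_congr e.toEquiv, card_X]

theorem card_QQ : Nat.card (QQ z) = 8 := by
  obtain ⟨e⟩ := nonempty_equiv h hz
  rw [QQ_eq hz e, card_tr, card_Q8]

theorem card_SS : Nat.card (SS z) = 24 := by
  obtain ⟨e⟩ := nonempty_equiv h hz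
  rw [SS_eq e, card_tr, card_SLs]

theorem QQ_equiv : Nonempty (QQ z ≃* QuaternionGroup 2) := by
  obtain ⟨e⟩ := nonempty_equiv h hz
  rw [QQ_eq hz e]
  exact ⟨(trEquiv e Q8).symm.trans qEquiv.symm⟩

theorem isGQ_QQ : IsGQ (QQ z) := ⟨0, QQ_equiv h hz⟩

omit h hz in
/-- `SL(2,3)` -/
theorem SLs_equiv : Nonempty (SLs ≃* SpecialLinearGroup (Fin 2) (ZMod 3)) := by
  have hr : (SpecialLinearGroup.toGL : SpecialLinearGroup (Fin 2) (ZMod 3) →* X).range = SLs := by
    ext g
    rw [mem_SLs]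
    constructor
    · rintro ⟨y, rfl⟩
      exact y.2
    · intro hg
      exact ⟨⟨g.1, hg⟩, Units.ext rfl⟩
  have hi : Function.Injective (SpecialLinearGroup.toGL : SpecialLinearGroup (Fin 2) (ZMod 3) →* X) := by
    intro x y hxy
    exact Subtype.ext (congrArg Units.val hxy)
  exact ⟨((MonoidHom.ofInjective hi).trans (MulEquiv.subgroupCongr hr)).symm⟩

theorem SS_equiv : Nonempty (SS z ≃* SpecialLinearGroup (Fin 2) (ZMod 3)) := by
  obtain ⟨e⟩ := nonempty_equiv h hz
  obtain ⟨f⟩ := SLs_equiv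
  rw [SS_eq e]
  exact ⟨(trEquiv e SLs).symm.trans f⟩

theorem QQ_le_SS : QQ z ≤ SS z := by
  obtain ⟨e⟩ := nonempty_equiv h hz
  rw [QQ_eq hz e, SS_eq e]
  exact tr_mono e Q8_le

theorem mem_QQ {x : L} : x ∈ QQ z ↔ x = 1 ∨ x = z ∨ x * x = z := by
  obtain ⟨e⟩ := nonempty_equiv h hz
  constructor
  · intro hx
    rw [QQ_eq hz e, mem_tr] at hx
    obtain ⟨hx, hx'⟩ := hx
    rcases mem_Q8_iff.1 hx' with h1 | h1 | h1
    · left
      rw [← map_one e] at h1
      exact congrArg Subtype.val (e.injective h1)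
    · right; left
      rw [← equiv_z hz e] at h1
      exact congrArg Subtype.val (e.injective h1)
    · right; right
      rw [← equiv_z hz e, ← map_mul] at h1
      exact congrArg Subtype.val (e.injective h1)
  · rintro (rfl | rfl | hx)
    · exact one_mem _
    · rw [QQ_eq hz e, mem_tr]
      exact ⟨self_mem _, by rw [equiv_z hz e]; exact mem_Q8_iff.2 (Or.inr (Or.inl rfl))⟩
    · exact subset_closure hx

theorem z_mem_QQ : z ∈ QQ z := (mem_QQ h hz).2 (Or.inr (Or.inl rfl))

/-- the only involution of `SS z` is `z` -/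
theorem eq_z {x : L} (hx : x ∈ SS z) (h2 : orderOf x = 2) : x = z := by
  obtain ⟨e⟩ := nonempty_equiv h hz
  rw [SS_eq e, mem_tr] at hx
  obtain ⟨hx, hx'⟩ := hx
  have h3 : x * x = 1 := by rw [← pow_two, ← h2, pow_orderOf_eq_one]
  have h4 : x ≠ 1 := by rintro rfl; simp at h2
  have h5 : e ⟨x, hx⟩ = -1 := by
    apply eq_neg_one (mem_SLs.1 hx')
    · rw [← map_mul, ← map_one e]
      congr 1
      exact Subtype.ext h3
    · intro h6
      rw [← map_one e] at h6
      exact h4 (congrArg Subtype.val (e.injective h6))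
  rw [← equiv_z hz e] at h5
  exact congrArg Subtype.val (e.injective h5)

theorem zz_SS : zz (SS z) = z := by
  have h1 : ∃ t ∈ SS z, orderOf t = 2 := ⟨z, QQ_le_SS h hz (z_mem_QQ h hz), hz⟩
  obtain ⟨h2, h3⟩ := zz_spec h1
  exact eq_z h hz h2 h3

theorem zz_QQ : zz (QQ z) = z := by
  have h1 : ∃ t ∈ QQ z, orderOf t = 2 := ⟨z, z_mem_QQ h hz, hz⟩
  obtain ⟨h2, h3⟩ := zz_spec h1
  exact eq_z h hz (QQ_le_SS h hz h2) h3

theorem syl_QQ_SS : Syl (QQ z) (SS z) := by
  obtain ⟨e⟩ := nonempty_equiv h hz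
  refine ⟨QQ_le_SS h hz, IsPGroup.of_card (n := 3) (by rw [card_QQ h hz]; norm_num), ?_⟩
  rw [QQ_eq hz e, SS_eq e, relIndex_tr, relIndex_Q8]
  norm_num

theorem syl_QQ_QQ : Syl (QQ z) (QQ z) :=
  ⟨le_rfl, IsPGroup.of_card (n := 3) (by rw [card_QQ h hz]; norm_num), by rw [relIndex_self]; norm_num⟩

/-- `C(QQ z) = {1, z}` -/
theorem eq_of_comm_QQ {x : L} (hx : ∀ y ∈ QQ z, x * y = y * x) : x = 1 ∨ x = z := by
  obtain ⟨e⟩ := nonempty_equiv h hz
  have hxc : x ∈ centralizer ({z} : Set L) := mem_cent.2 (hx z (z_mem_QQ h hz))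
  rcases eq_of_comm (g := e ⟨x, hxc⟩) (fun y hy => by
    obtain ⟨y, rfl⟩ := e.surjective y
    rw [← map_mul, ← map_mul]
    congr 1
    refine Subtype.ext (hx y ?_)
    rw [QQ_eq hz e]
    exact (coe_mem_tr e).2 hy) with h1 | h1
  · left
    rw [← map_one e] at h1
    exact congrArg Subtype.val (e.injective h1)
  · right
    rw [← equiv_z hz e] at h1
    exact congrArg Subtype.val (e.injective h1)

/-- `C(K) = ⟨z⟩` for `QQ z ≤ K ≤ C(z)` -/
theorem centralizer_eq {K : Subgroup L} (hK : QQ z ≤ K) (hKz : K ≤ centralizer {z}) :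
    centralizer (K : Set L) = zpowers z := by
  apply le_antisymm
  · intro x hx
    rcases eq_of_comm_QQ h hz (x := x) (fun y hy => (mem_centralizer_iff.1 hx y (hK hy)).symm) with rfl | rfl
    · exact one_mem _
    · exact mem_zpowers _
  · rw [zpowers_le]
    exact mem_centralizer_iff.2 fun y hy => mem_cent.1 (hKz hy)

theorem normalizer_SS : normalizer (SS z : Set L) = centralizer {z} := by
  apply le_antisymm
  · intro g hg
    have h1 := mem_normalizer_iff_cj.1 hg
    rw [cj_SS] at h1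
    have hz' : orderOf (g * z * g⁻¹) = 2 := by
      rw [← hz]; exact (MulAut.conj g).orderOf_eq z
    have h2 := zz_SS h hz'
    rw [h1, zz_SS h hz] at h2
    rw [mem_cent]
    calc g * z = g * z * g⁻¹ * g := by group
      _ = z * g := by rw [← h2]
  · intro g hg
    rw [mem_normalizer_iff_cj, cj_SS]
    congr 1
    rw [mem_cent.1 hg, mul_inv_cancel_right]

theorem normalizer_QQ : normalizer (QQ z : Set L) = centralizer {z} := by
  apply le_antisymm
  · intro g hg
    have h1 := mem_normalizer_iff_cj.1 hg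
    rw [cj_QQ] at h1
    have hz' : orderOf (g * z * g⁻¹) = 2 := by
      rw [← hz]; exact (MulAut.conj g).orderOf_eq z
    have h2 := zz_QQ h hz'
    rw [h1, zz_QQ h hz] at h2
    rw [mem_cent]
    calc g * z = g * z * g⁻¹ * g := by group
      _ = z * g := by rw [← h2]
  · intro g hg
    rw [mem_normalizer_iff_cj, cj_QQ]
    congr 1
    rw [mem_cent.1 hg, mul_inv_cancel_right]

/-- `O(C(z)) = 1` -/
theorem OO_centralizer : OO (centralizer ({z} : Set L)) = ⊥ :=
  SignalizersComponents.BalEndM11.core_eq_bot_M11 h hz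

omit hz in
/-- **(H3)** one class of involutions -/
theorem isConj {z z' : L} (hz : orderOf z = 2) (hz' : orderOf z' = 2) : IsConj z z' := by
  have := finite h
  exact SporadicA.M11Facts.isConj_involutions (isM11 h) hz hz'

/-- **(H4)** the subgroups of `C(z)` with generalised quaternion Sylow 2-subgroups are `QQ z` and `SS z` -/
theorem eq_or_eq' {K P : Subgroup L} (hK : K ≤ centralizer {z}) (hPK : Syl P K) (hP : IsGQ P) :
    K = QQ z ∨ K = SS z := by
  obtain ⟨e⟩ := nonempty_equiv h hz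
  obtain ⟨K', rfl⟩ := exists_tr e hK
  obtain ⟨P', rfl⟩ := exists_tr e (hPK.1.trans hK)
  have h1 : Syl P' K' := by
    refine ⟨?_, ?_, ?_⟩
    · intro x hx
      obtain ⟨y, rfl⟩ := e.surjective x
      exact (coe_mem_tr e).1 (hPK.1 ((coe_mem_tr e).2 hx))
    · exact hPK.2.1.of_equiv (trEquiv e P').symm
    · rw [← relIndex_tr e]
      exact hPK.2.2
  have h2 : IsGQ P' := by
    obtain ⟨n, ⟨f⟩⟩ := hP
    exact ⟨n, ⟨(trEquiv e P').trans f⟩⟩
  rw [QQ_eq hz e, SS_eq e]
  rcases Eleven.eq_or_eq h1 h2 with h3 | h3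
  · left; rw [h3]
  · right; rw [h3]

/-- **(H4)**, in the form of the hypothesis of Aschbacher's theorem -/
theorem eq_or_eq_of_sylow {K : Subgroup L} (hK : K ≤ centralizer {z})
    (hQ : ∃ S : Sylow 2 K, ∃ n : ℕ, Nonempty (↥(S : Subgroup K) ≃* QuaternionGroup (2 ^ (n + 1)))) :
    K = QQ z ∨ K = SS z := by
  obtain ⟨S, n, ⟨f⟩⟩ := hQ
  have := finite h
  have : Fact (Nat.Prime 2) := ⟨Nat.prime_two⟩
  refine eq_or_eq' h hz hK (P := (S : Subgroup K).map K.subtype)
    ⟨map_subtype_le _, S.isPGroup'.map _, ?_⟩ ⟨n, ⟨?_⟩⟩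
  · have h1 : ((S : Subgroup K).map K.subtype).subgroupOf K = S := by
      rw [subgroupOf, comap_map_eq_self_of_injective K.subtype_injective]
    rw [relIndex, h1]
    exact S.not_dvd_index
  · exact ((S : Subgroup K).equivMapOfInjective _ K.subtype_injective).symm.trans f

/-- **(H4)** for `K/O(K) ≃ SL(2,q)` -/
theorem eq_SS_of_SL {K : Subgroup L} (hK : K ≤ centralizer {z}) {F : Type*} [Field F] [Fintype F]
    (hF : Odd (Fintype.card F)) (f : K ⧸ Cfsg.oddCore K ≃* SpecialLinearGroup (Fin 2) F) :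
    K = SS z := by
  have hfin := finite h
  have h1 : Nat.card K ∣ 48 := by
    rw [← card_centralizer h hz]
    exact Subgroup.card_dvd_of_le hK
  have h2 : Nat.card K = Nat.card (K ⧸ Cfsg.oddCore K) * Nat.card (Cfsg.oddCore K) :=
    (Cfsg.oddCore K).card_eq_card_quotient_mul_card_subgroup
  have h3 : Fintype.card F = 3 := by
    have h4 : Nat.card (K ⧸ Cfsg.oddCore K) ≤ 48 := Nat.le_of_dvd (by norm_num)
      ((Dvd.intro _ h2.symm).trans h1)
    rw [Nat.card_congr f.toEquiv, ClassicalGeometry.PSL2Basic.card_SL2] at h4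
    have h1 := Fintype.one_lt_card (α := F)
    obtain ⟨k, hk⟩ := hF
    by_contra h3
    have h5 : 5 ≤ Fintype.card F := by omega
    have h6 : 5 * (5 ^ 2 - 1) ≤ Fintype.card F * (Fintype.card F ^ 2 - 1) := by
      apply Nat.mul_le_mul h5
      have : 5 ^ 2 ≤ Fintype.card F ^ 2 := Nat.pow_le_pow_left h5 2
      omega
    omega
  have h4 : Nat.card (K ⧸ Cfsg.oddCore K) = 24 := by
    rw [Nat.card_congr f.toEquiv, TwoFusion.SLTwoFacts.card_eq_24 h3]
  have hO : Cfsg.oddCore K = ⊥ := by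
    rw [← Subgroup.card_eq_one]
    have h5 : Nat.card (Cfsg.oddCore K) ∣ 2 := by
      rw [h2, h4] at h1
      exact Nat.dvd_of_mul_dvd_mul_left (by norm_num : 0 < 24) (by simpa using h1)
    have h6 := Lib.Cores.pPrimeCore_coprime (G := K) 2
    rcases (Nat.dvd_prime Nat.prime_two).1 h5 with h7 | h7
    · exact h7
    · exfalso
      have h8 : Nat.gcd (Nat.card (Cfsg.oddCore K)) 2 = 1 := h6
      rw [h7] at h8
      norm_num at h8
  obtain ⟨e⟩ := nonempty_equiv h hz
  obtain ⟨K', rfl⟩ := exists_tr e hK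
  let g : tr e K' →* SpecialLinearGroup (Fin 2) F :=
    f.toMonoidHom.comp (QuotientGroup.mk' (Cfsg.oddCore (tr e K')))
  have hg : Function.Bijective g := by
    constructor
    · rw [← MonoidHom.ker_eq_bot_iff, eq_bot_iff]
      intro x hx
      have h5 : f (QuotientGroup.mk' (Cfsg.oddCore (tr e K')) x) = 1 := hx
      rw [← map_one f] at h5
      have h6 := f.injective h5
      have h7 : x ∈ (QuotientGroup.mk' (Cfsg.oddCore (tr e K'))).ker := by
        rw [MonoidHom.mem_ker, h6]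
      rwa [QuotientGroup.ker_mk', hO] at h7
    · exact f.surjective.comp (QuotientGroup.mk'_surjective _)
  have h5 := eq_SLs h3 ((MulEquiv.ofBijective g hg).symm.trans (trEquiv e K').symm)
  rw [SS_eq e, h5]

/-- **(H4)** for `K/O(K) ≃ 2.A₇` -/
theorem not_two_A7 {K : Subgroup L} (hK : K ≤ centralizer {z})
    (hA : Cfsg.IsNonsplitDoubleCover (K ⧸ Cfsg.oddCore K) ↥(alternatingGroup (Fin 7))) : False := by
  have hfin := finite h
  obtain ⟨-, ⟨f⟩, -⟩ := hA
  have h1 : Nat.card K ∣ 48 := by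
    rw [← card_centralizer h hz]
    exact Subgroup.card_dvd_of_le hK
  have h2 : Nat.card (K ⧸ Cfsg.oddCore K) ∣ Nat.card K :=
    Subgroup.card_quotient_dvd_card _
  have h3 : Nat.card (alternatingGroup (Fin 7)) ∣ Nat.card (K ⧸ Cfsg.oddCore K) := by
    rw [← Nat.card_congr f.toEquiv]
    exact Subgroup.card_quotient_dvd_card _
  have h4 : Nat.card (alternatingGroup (Fin 7)) = 2520 := by
    rw [nat_card_alternatingGroup, Nat.card_eq_fintype_card, Fintype.card_fin]
    decide
  have h5 := Nat.le_of_dvd (by norm_num) ((h3.trans h2).trans h1)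
  omega

/-! ### Involutions of `C(z)` -/

/-- an involution `t ≠ z` of `C(z)` is conjugate to `z t` under `QQ z` -/
theorem exists_conj_mul {t : L} (ht : orderOf t = 2) (htz : t * z = z * t) (hne : t ≠ z) :
    ∃ k ∈ QQ z, k * t * k⁻¹ = z * t := by
  obtain ⟨e⟩ := nonempty_equiv h hz
  have h3 : t * t = 1 := by rw [← pow_two, ← ht, pow_orderOf_eq_one]
  have h4 : t ≠ 1 := by rintro rfl; simp at ht
  obtain ⟨k, hk, hkt⟩ := exists_Q8_conj (t := e ⟨t, mem_cent.2 htz⟩) (by
      rw [← map_mul, ← map_one e]; congr 1; exact Subtype.ext h3)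
    (by
      rw [← map_one e]
      exact fun h5 => h4 (congrArg Subtype.val (e.injective h5)))
    (by
      rw [← equiv_z hz e]
      exact fun h5 => hne (congrArg Subtype.val (e.injective h5)))
  obtain ⟨k, rfl⟩ := e.surjective k
  refine ⟨k, ?_, ?_⟩
  · rw [QQ_eq hz e]; exact (coe_mem_tr e).2 hk
  · rw [← equiv_z hz e, ← map_inv, ← map_mul, ← map_mul, ← map_mul] at hkt
    exact congrArg Subtype.val (e.injective hkt)

/-- the involutions `≠ z` of `C(z)` are conjugate under `SS z` -/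
theorem exists_conj_eq {t t' : L} (ht : orderOf t = 2) (htz : t * z = z * t) (hne : t ≠ z)
    (ht' : orderOf t' = 2) (htz' : t' * z = z * t') (hne' : t' ≠ z) :
    ∃ k ∈ SS z, k * t * k⁻¹ = t' := by
  obtain ⟨e⟩ := nonempty_equiv h hz
  have key : ∀ t : L, orderOf t = 2 → ∀ htz : t * z = z * t, t ≠ z →
      ∃ k : centralizer ({z} : Set L), (k : L) ∈ SS z ∧ k * ⟨t, mem_cent.2 htz⟩ * k⁻¹ = e.symm dd := by
    intro t ht htz hne
    have h3 : t * t = 1 := by rw [← pow_two, ← ht, pow_orderOf_eq_one]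
    have h4 : t ≠ 1 := by rintro rfl; simp at ht
    obtain ⟨k, hk, hkt⟩ := exists_SLs_conj (t := e ⟨t, mem_cent.2 htz⟩) (by
        rw [← map_mul, ← map_one e]; congr 1; exact Subtype.ext h3)
      (by
        rw [← map_one e]
        exact fun h5 => h4 (congrArg Subtype.val (e.injective h5)))
      (by
        rw [← equiv_z hz e]
        exact fun h5 => hne (congrArg Subtype.val (e.injective h5)))
    obtain ⟨k, rfl⟩ := e.surjective k
    refine ⟨k, ?_, ?_⟩
    · rw [SS_eq e]; exact (coe_mem_tr e).2 hk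
    · rw [← hkt, ← map_inv, ← map_mul, ← map_mul, e.symm_apply_apply]
  obtain ⟨k, hk, hkt⟩ := key t ht htz hne
  obtain ⟨k', hk', hkt'⟩ := key t' ht' htz' hne'
  refine ⟨(k' : L)⁻¹ * k, mul_mem (inv_mem hk') hk, ?_⟩
  have h5 : (k : L) * t * (k : L)⁻¹ = k' * t' * (k' : L)⁻¹ := by
    have := hkt.trans hkt'.symm
    exact congrArg Subtype.val this
  calc (k' : L)⁻¹ * k * t * ((k' : L)⁻¹ * k)⁻¹ = (k' : L)⁻¹ * (k * t * (k : L)⁻¹) * k' := by group
    _ = t' := by rw [h5]; group

/-- `C(z)` contains a Sylow 2-subgroup -/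
theorem index_centralizer : (centralizer ({z} : Set L)).index = 165 := by
  have h1 := (centralizer ({z} : Set L)).card_mul_index
  rw [card_centralizer h hz, (isM11 h).2] at h1
  omega

/-! ### (H5) -/

omit hz in
/-- every automorphism is inner -/
theorem aut_inner (t : MulAut L) : ∃ g : L, t = MulAut.conj g := by
  have := finite h
  obtain ⟨g, hg⟩ := SectRankFour.AutM11.exists_conj (isM11 h) t
  exact ⟨g, hg⟩

/-- **(H5)** -/
theorem aut_eq (t : MulAut L) (ht : ∀ x ∈ QQ z, t x = x) : t = 1 ∨ t = MulAut.conj z := by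
  obtain ⟨g, rfl⟩ := aut_inner h t
  rcases eq_of_comm_QQ h hz (x := g) (fun y hy => by
    have h1 : g * y * g⁻¹ = y := ht y hy
    rw [mul_inv_eq_iff_eq_mul] at h1
    exact h1) with rfl | rfl
  · left; exact map_one _
  · right; rfl

end Main

/-- **(H5)** inside a bigger group -/
theorem mem_or_mem {G : Type*} [Group G] {L : Subgroup G} (h : Cfsg.Spor.IsoM11 L) {z : L}
    (hz : orderOf z = 2) {x : G} (hx : x ∈ normalizer (L : Set G))
    (hc : ∀ y ∈ QQ z, x * (y : G) = y * x) :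
    x ∈ centralizer (L : Set G) ∨ (z : G)⁻¹ * x ∈ centralizer (L : Set G) := by
  have key : ∀ y : L, ((L.normalizerMonoidHom ⟨x, hx⟩ y : L) : G) = x * y * x⁻¹ := fun y => rfl
  rcases aut_eq h hz (L.normalizerMonoidHom ⟨x, hx⟩) (fun y hy => Subtype.ext (by
    rw [key, hc y hy, mul_inv_cancel_right])) with h1 | h1
  · left
    refine mem_centralizer_iff.2 fun y hy => ?_
    have h2 := congrArg Subtype.val (congrArg (fun f : MulAut L => f ⟨y, hy⟩) h1)
    simp only [key, MulAut.one_apply] at h2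
    calc y * x = x * y * x⁻¹ * x := by rw [h2]
      _ = x * y := by group
  · right
    refine mem_centralizer_iff.2 fun y hy => ?_
    have h2 := congrArg Subtype.val (congrArg (fun f : MulAut L => f ⟨y, hy⟩) h1)
    simp only [key, MulAut.conj_apply, Subgroup.coe_mul, Subgroup.coe_inv] at h2
    calc y * ((z : G)⁻¹ * x) = (z : G)⁻¹ * (z * y * (z : G)⁻¹) * x := by group
      _ = (z : G)⁻¹ * (x * y * x⁻¹) * x := by rw [h2]
      _ = (z : G)⁻¹ * x * y := by group

end Cfsg.Agent.Cit.Eleven
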