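import Cfsg.Agent.Cit.PairComm

/-!
# HYP passes to central quotients

`f : G →* G'` surjective with central kernel, `K ⊓ ker f = 1` for all `K ∈ Om`: then `Hyp (img f Om)`.
-/

set_option autoImplicit false
set_option linter.style.haveILetI false

namespace Cfsg.Agent.Cit.QuoCen

open Subgroup Cfsg

variable {G G' : Type*} [Group G] [Group G'] {f : G →* G'} {Om : Set (Subgroup G)} {K L : Subgroup G}

/-- a sub-family closed under conjugation -/
theorem hyp_subset {Om' : Set (Subgroup G)} (h : Hyp Om) (hsub : Om' ⊆ Om)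
    (hc : ∀ K ∈ Om', ∀ g, cj g K ∈ Om') : Hyp Om' :=
  { conj := hc
    quat := fun K hK => h.quat K (hsub hK)
    uniq := fun K hK => h.uniq K (hsub hK)
    sub := fun K hK => h.sub K (hsub hK)
    h2 := fun K hK L hL => h.h2 K (hsub hK) L (hsub hL)
    h3 := fun K hK L hL => h.h3 K (hsub hK) L (hsub hL) }

/-- `f` restricted to `K` is injective -/
theorem injOn_of_inf (hK : K ⊓ f.ker = ⊥) : Function.Injective (f.comp K.subtype) := by
  rw [injective_iff_map_eq_one]
  intro x hx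
  have h1 : (x : G) ∈ K ⊓ f.ker := ⟨x.2, hx⟩
  rw [hK, mem_bot] at h1
  exact Subtype.ext h1

/-- `K ≃* K.map f` -/
noncomputable def equivMap (hK : K ⊓ f.ker = ⊥) : K ≃* K.map f :=
  MulEquiv.ofBijective (f.subgroupMap K)
    ⟨fun _ _ hxy => injOn_of_inf hK (congrArg Subtype.val hxy), f.subgroupMap_surjective K⟩

theorem coe_equivMap (hK : K ⊓ f.ker = ⊥) (x : K) : (equivMap hK x : G') = f x := rfl

theorem OO_map_of_inf (hK : K ⊓ f.ker = ⊥) : OO (K.map f) = (OO K).map f := by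
  have h1 := Lib.Cores.map_equiv_pPrimeCore (equivMap hK) 2
  rw [OO, oddCore, ← h1, OO, Subgroup.map_map, Subgroup.map_map]
  rfl

theorem orderOf_map (hK : K ⊓ f.ker = ⊥) {x : G} (hx : x ∈ K) : orderOf (f x) = orderOf x := by
  have h1 := orderOf_injective (f.comp K.subtype) (injOn_of_inf hK) ⟨x, hx⟩
  rw [Subgroup.orderOf_mk] at h1
  exact h1

theorem zz_map_of_inf [Finite G] (h : Hyp Om) (hK : K ∈ Om) (hKf : K ⊓ f.ker = ⊥) :
    zz (K.map f) = f (zz K) := by
  have h1 : ∃ t ∈ K.map f, orderOf t = 2 :=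
    ⟨f (zz K), ⟨_, h.zz_mem hK, rfl⟩, by rw [orderOf_map hKf (h.zz_mem hK)]; exact h.orderOf_zz hK⟩
  obtain ⟨⟨k, hk, hk1⟩, h3⟩ := zz_spec h1
  rw [← hk1] at h3 ⊢
  rw [orderOf_map hKf hk] at h3
  rw [h.uniq K hK k hk h3]

variable [Finite G]

/-- a 2-element `y ∈ K` of order at least 4 which commutes with `z_L` modulo the centre commutes with `z_L` -/
theorem comm_of_central (h : Hyp Om) (hK : K ∈ Om) (hL : L ∈ Om) {C : Subgroup G} (hC : C ≤ center G)
    (hKC : K ⊓ C = ⊥) {y : G} (hy : y ∈ K) (hy2 : IsPGroup 2 (zpowers y)) (hy4 : 4 ≤ orderOf y)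
    (hu : y * zz L * y⁻¹ * (zz L)⁻¹ ∈ C) : y * zz L = zz L * y := by
  haveI : Fact (Nat.Prime 2) := ⟨Nat.prime_two⟩
  set t := zz L with ht
  have ht2 : t * t = 1 := h.zz_mul hL
  have hti : t⁻¹ = t := h.zz_inv hL
  set u := y * t * y⁻¹ * t⁻¹ with hudef
  have hcen : ∀ g : G, g * u = u * g := fun g => mem_center_iff.1 (hC hu) g
  have hui : ∀ g : G, g * u⁻¹ = u⁻¹ * g := by
    intro g
    rw [eq_inv_mul_iff_mul_eq, ← mul_assoc, ← hcen, mul_assoc, mul_inv_cancel, mul_one]
  -- `t y t = y u⁻¹`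
  have h1 : t * y * t⁻¹ = y * u⁻¹ := by
    have e1 : u * t = y * t * y⁻¹ := by rw [hudef]; group
    have e3 : y * t * y⁻¹ * u⁻¹ = t := by
      rw [← e1, hui (u * t)]; group
    calc t * y * t⁻¹ = (y * t * y⁻¹ * u⁻¹) * y * t⁻¹ := by rw [e3]
      _ = y * t * y⁻¹ * (u⁻¹ * y) * t⁻¹ := by group
      _ = y * t * y⁻¹ * (y * u⁻¹) * t⁻¹ := by rw [hui y]
      _ = y * t * (u⁻¹ * t⁻¹) := by group
      _ = y * t * (t⁻¹ * u⁻¹) := by rw [hui t⁻¹]
      _ = y * u⁻¹ := by group
  -- `y u⁻¹ ∈ K^t`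
  have hyu : y * u⁻¹ ∈ cj t K := by rw [← h1]; exact conj_mem_cj hy
  -- `u² = 1`
  have hu2 : u * u = 1 := by
    have e1 : u * t = y * t * y⁻¹ := by rw [hudef]; group
    have e2 : (u * t) * (u * t) = 1 := by
      rw [e1]
      calc y * t * y⁻¹ * (y * t * y⁻¹) = y * (t * t) * y⁻¹ := by group
        _ = 1 := by rw [ht2]; group
    calc u * u = u * (u * (t * t)) := by rw [ht2, mul_one]
      _ = u * ((u * t) * t) := by rw [mul_assoc u t t]
      _ = u * (t * u * t) := by rw [hcen t]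
      _ = (u * t) * (u * t) := by group
      _ = 1 := e2
  obtain ⟨e, he⟩ := (IsPGroup.iff_card (p := 2)).1 hy2
  rw [Nat.card_zpowers] at he
  have he2 : 2 ≤ e := by
    by_contra hlt
    have : e ≤ 1 := by omega
    have h3 : 2 ^ e ≤ 2 ^ 1 := Nat.pow_le_pow_right (by omega) this
    omega
  obtain ⟨k, rfl⟩ : ∃ k, e = k + 2 := ⟨e - 2, by omega⟩
  -- `y ^ 2 ^ (k+1) = z_K`
  have hyz : y ^ 2 ^ (k + 1) = zz K := by
    refine h.uniq K hK _ (pow_mem hy _) ?_
    rw [orderOf_pow_of_dvd (by positivity) (by rw [he]; exact pow_dvd_pow 2 (by omega)), he,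
      Nat.pow_div (by omega) (by omega), show k + 2 - (k + 1) = 1 by omega, pow_one]
  have hcomm_u : Commute y u⁻¹ := hui y
  have hu2' : u⁻¹ ^ 2 = 1 := by rw [inv_pow, pow_two, hu2, inv_one]
  have hyuz : (y * u⁻¹) ^ 2 ^ (k + 1) = zz K := by
    rw [hcomm_u.mul_pow, hyz, pow_succ', pow_mul u⁻¹, hu2', one_pow, mul_one]
  have hzt : zz K = zz (cj t K) := by
    refine h.uniq _ (h.conj K hK t) _ ?_ (h.orderOf_zz hK)
    rw [← hyuz]
    exact pow_mem hyu _
  rcases h.h2 K hK _ (h.conj K hK t) hzt with h2 | h2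
  · -- `u ∈ K`
    rw [← h2] at hyu
    have h3 : u⁻¹ ∈ K := by
      have := K.mul_mem (K.inv_mem hy) hyu
      rwa [inv_mul_cancel_left] at this
    have h4 : u⁻¹ ∈ K ⊓ C := mem_inf.2 ⟨h3, C.inv_mem hu⟩
    rw [hKC, mem_bot, inv_eq_one, hudef, mul_inv_eq_one, mul_inv_eq_iff_eq_mul] at h4
    exact h4
  · exfalso
    -- `y` is central modulo `O(K)`
    have h3 : ∀ k ∈ K, k * y * k⁻¹ * y⁻¹ ∈ OO K := by
      intro k hk
      have h4 := (h2 (commutator_mem_commutator hk hyu)).1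
      rw [commutatorElement_def] at h4
      have h5 : k * (y * u⁻¹) * k⁻¹ * (y * u⁻¹)⁻¹ = k * y * k⁻¹ * y⁻¹ := by
        calc k * (y * u⁻¹) * k⁻¹ * (y * u⁻¹)⁻¹ = k * y * (u⁻¹ * k⁻¹) * (u * y⁻¹) := by group
          _ = k * y * (k⁻¹ * u⁻¹) * (u * y⁻¹) := by rw [hui k⁻¹]
          _ = _ := by group
      rwa [h5] at h4
    -- the powers of `y`
    have h4 : ∀ (m : ℕ), ∀ k ∈ K, k * y ^ m * k⁻¹ * (y ^ m)⁻¹ ∈ OO K := by
      intro m k hk
      induction m with
      | zero => simp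
      | succ m ih =>
        have h5 := (mem_normalizer_iff.1 (le_normalizer_OO K (K.mul_mem (K.mul_mem hk (pow_mem hy m))
          (K.inv_mem hk))) _).1 (h3 k hk)
        have h6 := mul_mem h5 ih
        have h8 : k * y ^ (m + 1) * k⁻¹ * (y ^ (m + 1))⁻¹ =
            k * y ^ m * k⁻¹ * (k * y * k⁻¹ * y⁻¹) * (k * y ^ m * k⁻¹)⁻¹ *
              (k * y ^ m * k⁻¹ * (y ^ m)⁻¹) := by
          rw [pow_succ]
          group
        rw [h8]
        exact h6
    -- an element of order four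
    obtain ⟨Q, hQ, hyQ⟩ := LB.exists_syl_ge hy2 (zpowers_le.2 hy)
    obtain ⟨c, v, n, hq⟩ := h.exists_gq hK hQ
    have h5 : orderOf (y ^ 2 ^ k) = 4 := by
      rw [orderOf_pow_of_dvd (by positivity) (by rw [he]; exact pow_dvd_pow 2 (by omega)), he,
        Nat.pow_div (by omega) (by omega)]
      simp
    obtain ⟨w, hw, -, hwy⟩ := hq.exists_inverting (pow_mem (hyQ (mem_zpowers y)) _) h5
    have h6 := h4 (2 ^ k) w (hQ.1 hw)
    rw [hwy] at h6
    have h7 : (y ^ 2 ^ k)⁻¹ * (y ^ 2 ^ k)⁻¹ = zz K := by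
      rw [← mul_inv_rev, ← pow_two, ← pow_mul, ← pow_succ, hyz, h.zz_inv hK]
    rw [h7] at h6
    refine odd_OO K ?_
    rw [← h.orderOf_zz hK, ← Nat.card_zpowers]
    exact card_dvd_of_le (by rwa [zpowers_le])

/-- **HYP passes to central quotients** `G / C` with `K ⊓ C = 1` for all `K ∈ Om` -/
theorem hyp_img_central (h : Hyp Om) (hf : Function.Surjective f) (hC : f.ker ≤ center G)
    (hKC : ∀ K ∈ Om, K ⊓ f.ker = ⊥) : Hyp (img f Om) := by
  haveI : Fact (Nat.Prime 2) := ⟨Nat.prime_two⟩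
  haveI : Finite G' := Finite.of_surjective f hf
  refine ⟨?_, ?_, ?_, ?_, ?_, ?_⟩
  · rintro _ ⟨K, hK, rfl⟩ g'
    obtain ⟨g, rfl⟩ := hf g'
    exact ⟨cj g K, h.conj K hK g, cj_map f g K⟩
  · rintro _ ⟨K, hK, rfl⟩
    exact HasQS.of_equiv (equivMap (hKC K hK)) (h.quat K hK)
  · rintro _ ⟨K, hK, rfl⟩ t ⟨k, hk, rfl⟩ ht2
    rw [zz_map_of_inf h hK (hKC K hK)]
    rw [orderOf_map (hKC K hK) hk] at ht2
    rw [h.uniq K hK k hk ht2]
  · rintro _ ⟨K, hK, rfl⟩
    rw [zz_map_of_inf h hK (hKC K hK)]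
    -- the preimage `N` of `C(f z)`
    set z := zz K with hz
    set N : Subgroup G := (centralizer {f z}).comap f with hN
    have hCN : centralizer {z} ≤ N := by
      intro x hx
      rw [hN, mem_comap, mem_centralizer_singleton_iff, ← map_mul, ← map_mul,
        mem_centralizer_singleton_iff.1 hx]
    have hn : ((centralizer {z}).subgroupOf N).Normal := by
      rw [normal_subgroupOf_iff_le_normalizer hCN]
      intro g hg
      rw [mem_normalizer_iff_cj, cj_centralizer]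
      rw [hN, mem_comap, mem_centralizer_singleton_iff, ← map_mul, ← map_mul] at hg
      -- `g z g⁻¹ = u z`, `u` central
      have hu : g * z * g⁻¹ * z⁻¹ ∈ f.ker := by
        rw [MonoidHom.mem_ker, map_mul, map_mul, map_inv, hg, map_inv, map_mul]
        group
      have hcen : ∀ x : G, x * (g * z * g⁻¹ * z⁻¹) = g * z * g⁻¹ * z⁻¹ * x :=
        fun x => mem_center_iff.1 (hC hu) x
      have he : g * z * g⁻¹ = (g * z * g⁻¹ * z⁻¹) * z := by group
      set u := g * z * g⁻¹ * z⁻¹ with hudef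
      rw [he]
      ext x
      rw [mem_centralizer_singleton_iff, mem_centralizer_singleton_iff]
      constructor
      · intro hx
        have h1 : u * (x * z) = u * (z * x) := by
          calc u * (x * z) = x * u * z := by rw [hcen x]; group
            _ = x * (u * z) := by group
            _ = u * z * x := hx
            _ = u * (z * x) := by group
        exact mul_left_cancel h1
      · intro hx
        calc x * (u * z) = x * u * z := by group
          _ = u * x * z := by rw [hcen x]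
          _ = u * (x * z) := by group
          _ = u * z * x := by rw [hx]; group
    have h1 : (K.subgroupOf N).IsSubnormal := by
      refine IsSubnormal.trans (H := K.subgroupOf N) (K := (centralizer {z}).subgroupOf N)
        (fun x hx => h.le_centralizer hK hx) ?_ hn.isSubnormal
      -- transport along `C(z) = (C(z)).subgroupOf N`
      have h2 := h.sub K hK
      let e : ((centralizer {z}).subgroupOf N) →* centralizer {z} :=
        { toFun := fun x => ⟨((x : N) : G), x.2⟩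
          map_one' := rfl
          map_mul' := fun _ _ => rfl }
      convert h2.comap e using 1
      ext x
      rfl
    let φ : N →* centralizer {f z} :=
      { toFun := fun x => ⟨f x, x.2⟩
        map_one' := by apply Subtype.ext; simp
        map_mul' := fun x y => by apply Subtype.ext; simp }
    have hφ : Function.Surjective φ := by
      rintro ⟨x, hx⟩
      obtain ⟨g, rfl⟩ := hf x
      exact ⟨⟨g, hx⟩, rfl⟩
    convert h1.map hφ using 1
    ext x
    simp only [mem_subgroupOf, mem_map]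
    constructor
    · rintro ⟨k, hk, hkx⟩
      exact ⟨⟨k, hCN (h.le_centralizer hK hk)⟩, hk, Subtype.ext hkx⟩
    · rintro ⟨k, hk, rfl⟩
      exact ⟨k, hk, rfl⟩
  · rintro _ ⟨K, hK, rfl⟩ _ ⟨L, hL, rfl⟩ hKL
    by_cases hne : K = L
    · left; rw [hne]
    right
    rw [zz_map_of_inf h hK (hKC K hK), zz_map_of_inf h hL (hKC L hL)] at hKL
    have hu : zz L * (zz K)⁻¹ ∈ f.ker := by
      rw [MonoidHom.mem_ker, map_mul, map_inv, hKL, mul_inv_cancel]
    have hcen : ∀ x : G, x * (zz L * (zz K)⁻¹) = zz L * (zz K)⁻¹ * x := fun x => mem_center_iff.1 (hC hu) x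
    have hcomm : ∀ x : G, x * zz K = zz K * x → x * zz L = zz L * x := by
      intro x hx
      have he : zz L = zz L * (zz K)⁻¹ * zz K := by group
      calc x * zz L = x * (zz L * (zz K)⁻¹) * zz K := by rw [mul_assoc x, ← he]
        _ = zz L * (zz K)⁻¹ * (x * zz K) := by rw [hcen x]; group
        _ = zz L * x := by rw [hx]; group
    have hcomm' : ∀ x : G, x * zz L = zz L * x → x * zz K = zz K * x := by
      intro x hx
      have he : zz K = (zz L * (zz K)⁻¹)⁻¹ * zz L := by group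
      have hci : ∀ x : G, x * (zz L * (zz K)⁻¹)⁻¹ = (zz L * (zz K)⁻¹)⁻¹ * x := fun x =>
        mem_center_iff.1 (hC (inv_mem hu)) x
      calc x * zz K = x * (zz L * (zz K)⁻¹)⁻¹ * zz L := by rw [mul_assoc x, ← he]
        _ = (zz L * (zz K)⁻¹)⁻¹ * (x * zz L) := by rw [hci x]; group
        _ = zz K * x := by rw [hx]; group
    have h1 := PairComm.commutator_le_of_comm h hK hL hne
      (fun x hx => hcomm x (h.comm_zz hK (le_normalizer hx)))
      (fun x hx => hcomm' x (h.comm_zz hL (le_normalizer hx)))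
    rw [← map_commutator, OO_map_of_inf (hKC K hK), OO_map_of_inf (hKC L hL)]
    exact (Subgroup.map_mono h1).trans (map_inf_le _ _ _)
  · rintro _ ⟨K, hK, rfl⟩ _ ⟨L, hL, rfl⟩ _ ⟨y, hy, rfl⟩ hy2 hy4 hyz
    rw [zz_map_of_inf h hL (hKC L hL)] at hyz
    rw [orderOf_map (hKC K hK) hy] at hy4
    have hy2' : IsPGroup 2 (zpowers y) := by
      obtain ⟨e, he⟩ := (IsPGroup.iff_card (p := 2)).1 hy2
      rw [Nat.card_zpowers, orderOf_map (hKC K hK) hy] at he
      rw [IsPGroup.iff_card]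
      exact ⟨e, by rw [Nat.card_zpowers, he]⟩
    have h1 := comm_of_central h hK hL hC (hKC K hK) hy hy2' hy4 (by
      rw [MonoidHom.mem_ker, map_mul, map_mul, map_mul, map_inv, map_inv, hyz]
      group)
    have h2 := h.h3 K hK L hL y hy hy2' hy4 h1
    rw [mem_normalizer_iff_cj] at h2 ⊢
    rw [← cj_map, h2]

end Cfsg.Agent.Cit.QuoCen
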