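import Cfsg.Agent.Cit.CoresComm
import Cfsg.Agent.Cit.OneComp
import Cfsg.Agent.S0144

/-!
# Subnormal subgroups of type `SL₂(q)`, `2.A₇` in a group with two normal ones

`Two C A B z` : `A`, `B` are normal subgroups of `C`, of type `SL₂(q)` or `2.A₇` with trivial cores, `[A, B] = 1`,
`C_C(A) ≤ B`, `C_C(B) ≤ A`, all squares of `C` lie in `A B`. Then `A`, `B` are the only subnormal subgroups of `C` of
this type (`Two.eq_or_eq`).
-/

set_option autoImplicit false
set_option linter.style.haveILetI false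

namespace Cfsg.Agent.Cit.TwoSub

open Subgroup Cfsg Cfsg.Agent.Cit Cfsg.Agent.Cit.SolvTwo Cfsg.Agent.Cit.OneComp
open Cfsg.Agent.SignalizersComponents.Components
open scoped commutatorElement

set_option maxRecDepth 100000 in
theorem X_comm : ∀ t : X, t * t * t = 1 → t ≠ 1 → ∀ q : X, q * q = zX → ∃ a : X, a * a = zX ∧
    (a * t * a⁻¹ * t⁻¹ = q ∨ a * t * a⁻¹ * t⁻¹ = zX * q) := by
  decide +kernel

set_option maxRecDepth 100000 in
theorem X_gen : ∀ t : X, t * t * t = 1 → t ≠ 1 → ∀ x : X, x * x = zX ∨ x = 1 ∨ x = zX ∨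
    x * t * (x * t) = zX ∨ x * t = 1 ∨ x * t = zX ∨
    x * t * t * (x * t * t) = zX ∨ x * t * t = 1 ∨ x * t * t = zX := by
  decide +kernel

set_option maxRecDepth 100000 in
theorem card_X : Nat.card X = 24 := by
  rw [Nat.card_eq_fintype_card]
  decide +kernel

variable {G : Type*} [Group G]

/-- `K ≃ SL₂(3)` with involution `z` -/
structure ST (K : Subgroup G) (z : G) : Prop where
  t3 : T3 K z
  comm : ∀ t ∈ K, t * t * t = 1 → t ≠ 1 → ∀ q ∈ K, q * q = z → ∃ a ∈ K, a * a = z ∧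
    (a * t * a⁻¹ * t⁻¹ = q ∨ a * t * a⁻¹ * t⁻¹ = z * q)
  gen : ∀ t ∈ K, t * t * t = 1 → t ≠ 1 → ∀ x ∈ K, x * x = z ∨ x = 1 ∨ x = z ∨
    x * t * (x * t) = z ∨ x * t = 1 ∨ x * t = z ∨
    x * t * t * (x * t * t) = z ∨ x * t * t = 1 ∨ x * t * t = z
  card : Nat.card K = 24

theorem ST.of_equiv {K : Subgroup G} (e : K ≃* X) : ST K ((e.symm zX : K) : G) := by
  have hm : ∀ x y : X, ((e.symm x : K) : G) * ((e.symm y : K) : G) = ((e.symm (x * y) : K) : G) := by
    intro x y; rw [map_mul]; rfl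
  have hi : ∀ x : X, (((e.symm x : K) : G))⁻¹ = ((e.symm x⁻¹ : K) : G) := by
    intro x; rw [map_inv]; rfl
  have h1 : ((e.symm 1 : K) : G) = 1 := by rw [map_one]; rfl
  have hinj : ∀ x y : X, ((e.symm x : K) : G) = ((e.symm y : K) : G) ↔ x = y := by
    intro x y
    rw [← Subtype.ext_iff, e.symm.injective.eq_iff]
  have hex : ∀ x ∈ K, ∃ y : X, ((e.symm y : K) : G) = x := by
    intro x hx
    exact ⟨e ⟨x, hx⟩, by rw [e.symm_apply_apply]⟩
  have hmem : ∀ x : X, ((e.symm x : K) : G) ∈ K := fun x => (e.symm x).2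
  refine ⟨T3.of_equiv e, ?_, ?_, ?_⟩
  · intro t ht h3 ht1 q hq hqq
    obtain ⟨t, rfl⟩ := hex t ht
    obtain ⟨q, rfl⟩ := hex q hq
    rw [hm, hm, ← h1, hinj] at h3
    rw [← h1, Ne, hinj] at ht1
    rw [hm, hinj] at hqq
    obtain ⟨a, ha, hb⟩ := X_comm t h3 ht1 q hqq
    refine ⟨_, hmem a, by rw [hm, ha], ?_⟩
    rw [hi, hi, hm, hm, hm, hm, hinj, hinj]
    exact hb
  · intro t ht h3 ht1 x hx
    obtain ⟨t, rfl⟩ := hex t ht
    obtain ⟨x, rfl⟩ := hex x hx
    rw [hm, hm, ← h1, hinj] at h3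
    rw [← h1, Ne, hinj] at ht1
    have h2 := X_gen t h3 ht1 x
    simp only [hm]
    simp only [← h1, hinj]
    exact h2
  · rw [Nat.card_congr e.toEquiv, card_X]

theorem ST.finite {K : Subgroup G} {z : G} (h : ST K z) : Finite K :=
  Nat.finite_of_card_ne_zero (by rw [h.card]; norm_num)

/-- the only involution -/
theorem ST.eq_z {K : Subgroup G} {z : G} (h : ST K z) {u : G} (hu : u ∈ K) (huu : u * u = 1) : u = 1 ∨ u = z := by
  rcases h.t3.cases u hu with h1 | h1 | h1 | h1 | h1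
  · exact absurd (h1.symm.trans huu) h.t3.z_ne
  · exact Or.inl h1
  · exact Or.inr h1
  · rw [huu, one_mul] at h1; exact Or.inl h1
  · rw [huu, one_mul] at h1; exact Or.inr h1

theorem ST.z_eq {K : Subgroup G} {z z' : G} (h : ST K z) (hz : z' ∈ K) (hzz : z' * z' = 1) (h1 : z' ≠ 1) :
    z = z' := ((h.eq_z hz hzz).resolve_left h1).symm

/-- quasisimple or `SL₂(3)` -/
def QX (K : Subgroup G) : Prop := IsQuasisimple K ∨ Nonempty (K ≃* X)

theorem QX.of_isType {K : Subgroup G} (h : IsType K) (hO : OO K = ⊥) : QX K := by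
  have h1 : oddCore K = ⊥ := by
    rw [OO_def] at hO
    exact (Subgroup.map_eq_bot_iff_of_injective _ K.subtype_injective).1 hO
  let e : ↥K ⧸ oddCore ↥K ≃* K :=
    (QuotientGroup.quotientMulEquivOfEq h1).trans QuotientGroup.quotientBot
  rcases Ty.IsTy.cases h with h2 | ⟨⟨f⟩⟩
  · exact Or.inl (SignalizersComponents.LayerBasic.quasisimple_congr e h2.quasisimple)
  · exact Or.inr ⟨e.symm.trans f⟩

theorem solvable_of_equiv {K : Subgroup G} (e : K ≃* X) : Group.IsSolvable K := by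
  haveI : Finite K := Finite.of_equiv _ e.symm.toEquiv
  have h6 : Nat.card K = 2 ^ 3 * 3 ^ 1 := by rw [Nat.card_congr e.toEquiv, card_X]; norm_num
  exact S0144.result 2 3 3 1 Nat.prime_two Nat.prime_three h6

theorem not_quasisimple_le {K A : Subgroup G} (hK : IsQuasisimple K) (e : A ≃* X) (h : K ≤ A) : False :=
  quasisimple_not_isSolvable hK (by
    haveI := solvable_of_equiv e
    exact Group.isSolvable_of_isSolvable_injective (f := inclusion h) (inclusion_injective h))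

theorem QX.not_comm {K : Subgroup G} (h : QX K) (hc : ∀ x ∈ K, ∀ y ∈ K, x * y = y * x) : False := by
  rcases h with h | h
  · exact quasisimple_not_isMulCommutative h ⟨⟨fun x y => Subtype.ext (hc x x.2 y y.2)⟩⟩
  · obtain ⟨e⟩ := h
    obtain ⟨x, hx, y, hy, -, -, hxy⟩ := (ST.of_equiv e).t3.ex4
    exact hxy (hc x hx y hy)

/-- subnormal subgroups of the same kind are equal -/
theorem QX.eq_of_le {K A : Subgroup G} (hK : QX K) (hA : QX A) (h : K ≤ A) (hs : (K.subgroupOf A).IsSubnormal) :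
    K = A := by
  rcases hA with hA | hA
  · rcases quasisimple_subnormal hA hs with h1 | h1
    · exact le_antisymm h (subgroupOf_eq_top.1 h1)
    · exfalso
      refine hK.not_comm fun x hx y hy => ?_
      have h2 : (⟨x, h hx⟩ : A) ∈ center A := h1 (mem_subgroupOf.2 hx)
      exact (congrArg Subtype.val (Subgroup.mem_center_iff.1 h2 ⟨y, h hy⟩)).symm
  · obtain ⟨e⟩ := hA
    rcases hK with hK | hK
    · exact (not_quasisimple_le hK e h).elim
    · obtain ⟨f⟩ := hK
      have h1 := ST.of_equiv e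
      haveI := h1.finite
      exact Subgroup.eq_of_le_of_card_ge h (by rw [h1.card, (ST.of_equiv f).card])

/-- two normal subgroups `A`, `B` of `C` -/
structure Two (C A B : Subgroup G) (z : G) : Prop where
  leA : A ≤ C
  leB : B ≤ C
  nA : C ≤ normalizer (A : Set G)
  nB : C ≤ normalizer (B : Set G)
  comm : ∀ a ∈ A, ∀ b ∈ B, a * b = b * a
  cA : ∀ g ∈ C, (∀ a ∈ A, g * a = a * g) → g ∈ B
  cB : ∀ g ∈ C, (∀ b ∈ B, g * b = b * g) → g ∈ A
  sq : ∀ g ∈ C, ∃ a ∈ A, ∃ b ∈ B, g * g = a * b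
  qA : QX A
  qB : QX B
  zA : z ∈ A
  zB : z ∈ B
  zz : z * z = 1
  ne : z ≠ 1

namespace Two

variable {C A B : Subgroup G} {z : G}

theorem symm (h : Two C A B z) : Two C B A z where
  leA := h.leB
  leB := h.leA
  nA := h.nB
  nB := h.nA
  comm := fun a ha b hb => (h.comm b hb a ha).symm
  cA := h.cB
  cB := h.cA
  sq := fun g hg => by
    obtain ⟨a, ha, b, hb, e⟩ := h.sq g hg
    exact ⟨b, hb, a, ha, by rw [e, h.comm a ha b hb]⟩
  qA := h.qB
  qB := h.qA
  zA := h.zB
  zB := h.zA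
  zz := h.zz
  ne := h.ne

theorem subnormal_sub {K : Subgroup G} (h : Two C A B z) (hs : (K.subgroupOf C).IsSubnormal) :
    (K.subgroupOf A).IsSubnormal := hs.comap (inclusion h.leA)

/-- `K ≤ A` implies `K = A` -/
theorem eq_of_le (h : Two C A B z) {K : Subgroup G} (hK : QX K) (hs : (K.subgroupOf C).IsSubnormal)
    (hKA : K ≤ A) : K = A := hK.eq_of_le h.qA hKA (h.subnormal_sub hs)

/-- a component of `C` -/
theorem le_or_comm {K N : Subgroup G} (hK : IsQuasisimple K) (hKC : K ≤ C) (hNC : N ≤ C)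
    (hs : (K.subgroupOf C).IsSubnormal) (hn : (N.subgroupOf C).IsSubnormal) :
    K ≤ N ∨ ∀ x ∈ K, ∀ y ∈ N, x * y = y * x := by
  have hc : IsComponent (K.subgroupOf C) :=
    ⟨hs, isQuasisimple_of_mulEquiv (subgroupOfEquivOfLe hKC).symm hK⟩
  rcases component_le_or_commutator_eq_bot hc hn with h1 | h1
  · left
    have h2 := Subgroup.map_mono (f := C.subtype) h1
    rwa [map_subgroupOf_eq_of_le hKC, map_subgroupOf_eq_of_le hNC] at h2
  · right
    intro x hx y hy
    rw [commutator_eq_bot_iff_le_centralizer] at h1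
    have h2 := mem_centralizer_iff.1 (h1 (x := ⟨x, hKC hx⟩) (mem_subgroupOf.2 hx)) ⟨y, hNC hy⟩ (mem_subgroupOf.2 hy)
    exact (congrArg Subtype.val h2).symm

theorem isSubnormalA (h : Two C A B z) : (A.subgroupOf C).IsSubnormal :=
  ((normal_subgroupOf_iff_le_normalizer h.leA).2 h.nA).isSubnormal

theorem stA (h : Two C A B z) (e : A ≃* X) : ST A z := by
  have h1 := ST.of_equiv e
  rwa [h1.z_eq h.zA h.zz h.ne] at h1

/-- if `K ≃ SL₂(3)` contains an element of order 3 of `A`, then `K ≤ A` -/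
theorem le_of_mem (h : Two C A B z) {K : Subgroup G} {z' : G} (hK : ST K z') (hKC : K ≤ C) {t : G} (ht : t ∈ K)
    (h3 : t * t * t = 1) (ht1 : t ≠ 1) (htA : t ∈ A) : K ≤ A := by
  have hz' : z' * z' = 1 := hK.t3.z_sq
  have hcomm : ∀ a ∈ K, a * t * a⁻¹ * t⁻¹ ∈ A := fun a ha =>
    A.mul_mem ((mem_normalizer_iff.1 (h.nA (hKC ha)) t).1 htA) (A.inv_mem htA)
  have hq : ∀ q ∈ K, q * q = z' → z' ∈ A ∧ q ∈ A := by
    intro q hq hqq
    obtain ⟨a, ha, -, h1⟩ := hK.comm t ht h3 ht1 q hq hqq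
    rcases h1 with h1 | h1
    · have h2 : q ∈ A := by rw [← h1]; exact hcomm a ha
      exact ⟨by rw [← hqq]; exact A.mul_mem h2 h2, h2⟩
    · have h2 : z' * q ∈ A := by rw [← h1]; exact hcomm a ha
      have h4 : q * z' = z' * q := by rw [← hqq, mul_assoc]
      have h5 : z' * q * (z' * q) = z' := by
        calc z' * q * (z' * q) = z' * (q * z') * q := by group
          _ = z' * z' * (q * q) := by rw [h4]; group
          _ = z' := by rw [hz', hqq, one_mul]
      have h6 : z' ∈ A := by rw [← h5]; exact A.mul_mem h2 h2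
      refine ⟨h6, ?_⟩
      have h7 : q = z' * (z' * q) := by rw [← mul_assoc, hz', one_mul]
      rw [h7]
      exact A.mul_mem h6 h2
  obtain ⟨q, hqK, -, -, hqq, -, -⟩ := hK.t3.ex4
  have hzA := (hq q hqK hqq).1
  have key : ∀ x ∈ K, x * x = z' ∨ x = 1 ∨ x = z' → x ∈ A := by
    intro x hx hc
    rcases hc with hc | hc | hc
    · exact (hq x hx hc).2
    · rw [hc]; exact one_mem _
    · rw [hc]; exact hzA
  intro x hx
  have hxt : x * t ∈ K := K.mul_mem hx ht
  have hxtt : x * t * t ∈ K := K.mul_mem hxt ht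
  have e1 : x * t ∈ A → x ∈ A := fun h1 => (Subgroup.mul_mem_cancel_right A htA).1 h1
  have e2 : x * t * t ∈ A → x ∈ A := fun h1 => e1 ((Subgroup.mul_mem_cancel_right A htA).1 h1)
  rcases hK.gen t ht h3 ht1 x hx with h1 | h1 | h1 | h1 | h1 | h1 | h1 | h1 | h1
  · exact key x hx (Or.inl h1)
  · exact key x hx (Or.inr (Or.inl h1))
  · exact key x hx (Or.inr (Or.inr h1))
  · exact e1 (key _ hxt (Or.inl h1))
  · exact e1 (key _ hxt (Or.inr (Or.inl h1)))
  · exact e1 (key _ hxt (Or.inr (Or.inr h1)))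
  · exact e2 (key _ hxtt (Or.inl h1))
  · exact e2 (key _ hxtt (Or.inr (Or.inl h1)))
  · exact e2 (key _ hxtt (Or.inr (Or.inr h1)))

/-- `O₂(A) ≤ K` if `K` contains an element `a b`, `a ∈ A` of order 3, `b ∈ B` -/
theorem mem_of_mul (h : Two C A B z) (hA : ST A z) {K : Subgroup G} (hKC : K ≤ C)
    (hs : (K.subgroupOf C).IsSubnormal) {a b : G} (ha : a ∈ A) (hb : b ∈ B) (h3 : a * a * a = 1) (h1 : a ≠ 1)
    (hab : a * b ∈ K) {q : G} (hq : q ∈ A) (hqq : q * q = z) : q ∈ K := by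
  set D := closure {q | q ∈ A ∧ q * q = z} with hD
  have hDA : D ≤ A := (closure_le _).2 fun x hx => hx.1
  have h2 : D ≤ ⁅D, zpowers (a * b)⁆ := by
    rw [hD, closure_le, ← hD]
    rintro x ⟨hx, hxx⟩
    obtain ⟨c, hc, hcc, h4⟩ := hA.comm a ha h3 h1 x hx hxx
    have h5 : c * a * c⁻¹ * a⁻¹ ∈ ⁅D, zpowers (a * b)⁆ := by
      have h6 : c * a * c⁻¹ * a⁻¹ = ⁅c, a * b⁆ := by
        rw [commutatorElement_def, mul_inv_rev]
        have h7 := h.comm c⁻¹ (A.inv_mem hc) b hb
        calc c * a * c⁻¹ * a⁻¹ = c * a * c⁻¹ * (b * b⁻¹) * a⁻¹ := by group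
          _ = c * a * (c⁻¹ * b) * b⁻¹ * a⁻¹ := by group
          _ = c * a * (b * c⁻¹) * b⁻¹ * a⁻¹ := by rw [h7]
          _ = _ := by group
      rw [h6]
      exact commutator_mem_commutator (Subgroup.subset_closure ⟨hc, hcc⟩) (mem_zpowers _)
    have h6 := hA.t3.z_sq
    rcases h4 with h4 | h4
    · rw [← h4]; exact h5
    · rw [h4] at h5
      have h7 : x * z = z * x := by rw [← hxx, mul_assoc]
      have h8 : z * x * (z * x) = z := by
        calc z * x * (z * x) = z * (x * z) * x := by group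
          _ = z * z * (x * x) := by rw [h7]; group
          _ = z := by rw [h6, hxx, one_mul]
      have h9 : z ∈ ⁅D, zpowers (a * b)⁆ := by
        have := mul_mem h5 h5
        rwa [h8] at this
      have h10 : x = z * (z * x) := by rw [← mul_assoc, h6, one_mul]
      rw [SetLike.mem_coe, h10]
      exact mul_mem h9 h5
  have h4 := le_of_isSubnormal (hDA.trans h.leA) h2 hs (by
    rw [map_subgroupOf_eq_of_le hKC, zpowers_le]; exact hab)
  rw [map_subgroupOf_eq_of_le hKC] at h4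
  exact h4 (Subgroup.subset_closure ⟨hq, hqq⟩)

/-- the case `SL₂(3)` -/
theorem special (h : Two C A B z) (eA : A ≃* X) (eB : B ≃* X) {K : Subgroup G} (eK : K ≃* X) (hKC : K ≤ C)
    (hs : (K.subgroupOf C).IsSubnormal) : K = A ∨ K = B := by
  have hA := h.stA eA
  have hB := h.symm.stA eB
  have hK := ST.of_equiv eK
  set z' := ((eK.symm zX : K) : G) with hz'
  have hAB : ∀ x ∈ A, x ∈ B → x = 1 ∨ x = z := fun x hx hxB =>
    hA.t3.cen x hx fun y hy _ => (h.comm y hy x hxB).symm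
  have hzA : ∀ a ∈ A, a * z = z * a := fun a ha => h.comm a ha z h.zB
  have hzB : ∀ b ∈ B, b * z = z * b := fun b hb => (h.comm z h.zA b hb).symm
  obtain ⟨t, ht, h3, ht1⟩ := hK.t3.ex3
  -- `t = a b`
  obtain ⟨a, ha, b, hb, hab, ha3, hb3⟩ : ∃ a ∈ A, ∃ b ∈ B, t = a * b ∧ a * a * a = 1 ∧ b * b * b = 1 := by
    obtain ⟨a, ha, b, hb, hab⟩ := h.sq t (hKC ht)
    have h4 : t = a⁻¹ * b⁻¹ := by
      have h5 : t = (t * t)⁻¹ := eq_inv_of_mul_eq_one_left (by rw [← mul_assoc]; exact h3)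
      rw [h5, hab, h.comm a ha b hb, mul_inv_rev]
    have ha' := A.inv_mem ha
    have hb' := B.inv_mem hb
    generalize a⁻¹ = a at h4 ha'
    generalize b⁻¹ = b at h4 hb'
    have hc := h.comm a ha' b hb'
    have h5 : a * a * a * (b * b * b) = 1 := by
      rw [← h3, h4]
      have e1 : Commute a b := hc
      have e2 : (a * b) ^ 3 = a ^ 3 * b ^ 3 := e1.mul_pow 3
      simpa only [pow_succ, pow_zero, one_mul] using e2.symm
    have h6 : a * a * a = 1 ∨ a * a * a = z := by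
      refine hAB _ (A.mul_mem (A.mul_mem ha' ha') ha') ?_
      rw [eq_inv_of_mul_eq_one_left h5]
      exact B.inv_mem (B.mul_mem (B.mul_mem hb' hb') hb')
    rcases h6 with h6 | h6
    · refine ⟨a, ha', b, hb', h4, h6, ?_⟩
      rwa [h6, one_mul] at h5
    · have h7 : b * b * b = z := by
        rw [h6] at h5
        rw [eq_comm, eq_inv_of_mul_eq_one_left h5]
        have h8 : (b * b * b)⁻¹ * (b * b * b)⁻¹ = 1 := by
          rw [← eq_inv_of_mul_eq_one_left h5, h.zz]
        have h9 := inv_eq_of_mul_eq_one_left h8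
        rw [inv_inv] at h9
        exact h9.symm
      have hcube : ∀ x : G, x * z = z * x → x * x * x = z → x * z * (x * z) * (x * z) = 1 := by
        intro x hxz hx3
        have e1 : Commute x z := hxz
        have e2 : (x * z) ^ 3 = x ^ 3 * z ^ 3 := e1.mul_pow 3
        have e3 : x ^ 3 = z := by rw [← hx3]; simp only [pow_succ, pow_zero, one_mul]
        have e4 : z ^ 3 = z := by rw [pow_succ, pow_two, h.zz, one_mul]
        rw [e3, e4, h.zz] at e2
        simpa only [pow_succ, pow_zero, one_mul] using e2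
      refine ⟨a * z, A.mul_mem ha' h.zA, b * z, B.mul_mem hb' h.zB, ?_, hcube a (hzA a ha') h6,
        hcube b (hzB b hb') h7⟩
      rw [h4]
      calc a * b = a * (z * z) * b := by rw [h.zz, mul_one]
        _ = a * z * (z * b) := by group
        _ = a * z * (b * z) := by rw [hzB b hb']
  by_cases hb1 : b = 1
  · left
    have htA : t ∈ A := by rw [hab, hb1, mul_one]; exact ha
    exact h.eq_of_le (Or.inr ⟨eK⟩) hs (h.le_of_mem hK hKC ht h3 ht1 htA)
  by_cases ha1 : a = 1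
  · right
    have htB : t ∈ B := by rw [hab, ha1, one_mul]; exact hb
    exact h.symm.eq_of_le (Or.inr ⟨eK⟩) hs (h.symm.le_of_mem hK hKC ht h3 ht1 htB)
  exfalso
  obtain ⟨q, hqA, -, -, hqq, -, -⟩ := hA.t3.ex4
  obtain ⟨r, hrB, -, -, hrr, -, -⟩ := hB.t3.ex4
  have hqK : q ∈ K := h.mem_of_mul hA hKC hs ha hb ha3 ha1 (by rw [← hab]; exact ht) hqA hqq
  have hrK : r ∈ K := h.symm.mem_of_mul hB hKC hs hb ha hb3 hb1 (by
    rw [← h.comm a ha b hb, ← hab]; exact ht) hrB hrr
  have hqr := h.comm q hqA r hrB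
  have h4 : q * r * (q * r) = 1 := by
    calc q * r * (q * r) = q * (r * q) * r := by group
      _ = (q * q) * (r * r) := by rw [← hqr]; group
      _ = 1 := by rw [hqq, hrr, h.zz]
  have hzz' : z' = z := hK.z_eq (by rw [← hqq]; exact K.mul_mem hqK hqK) h.zz h.ne
  have h5 : r ∈ A := by
    rcases hK.eq_z (K.mul_mem hqK hrK) h4 with h6 | h6
    · rw [← inv_eq_of_mul_eq_one_right h6]
      exact A.inv_mem hqA
    · rw [hzz'] at h6
      rw [(eq_inv_mul_of_mul_eq h6 : r = q⁻¹ * z)]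
      exact A.mul_mem (A.inv_mem hqA) h.zA
  rcases hAB r h5 hrB with h6 | h6
  · rw [h6, one_mul] at hrr
    exact h.ne hrr.symm
  · rw [h6, h.zz] at hrr
    exact h.ne hrr.symm

/-- **the subnormal subgroups of type `SL₂(q)`, `2.A₇`** -/
theorem eq_or_eq (h : Two C A B z) {K : Subgroup G} (hK : QX K) (hKC : K ≤ C)
    (hs : (K.subgroupOf C).IsSubnormal) : K = A ∨ K = B := by
  -- if `[K, A] = 1` then `K = B`
  have keyA : (∀ x ∈ K, ∀ a ∈ A, x * a = a * x) → K = B := fun hc =>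
    h.symm.eq_of_le hK hs fun x hx => h.cA x (hKC hx) (hc x hx)
  have keyB : (∀ x ∈ K, ∀ b ∈ B, x * b = b * x) → K = A := fun hc =>
    h.eq_of_le hK hs fun x hx => h.cB x (hKC hx) (hc x hx)
  rcases id hK with hK | hK'
  · rcases le_or_comm hK hKC h.leA hs h.isSubnormalA with h1 | h1
    · exact Or.inl (h.eq_of_le (Or.inl hK) hs h1)
    · exact Or.inr (keyA h1)
  · obtain ⟨eK⟩ := hK'
    rcases h.qA with hA | hA
    · rcases le_or_comm hA h.leA hKC h.isSubnormalA hs with h1 | h1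
      · exact (not_quasisimple_le hA eK h1).elim
      · exact Or.inr (keyA fun x hx a ha => (h1 a ha x hx).symm)
    · obtain ⟨eA⟩ := hA
      rcases h.qB with hB | hB
      · rcases le_or_comm hB h.leB hKC h.symm.isSubnormalA hs with h1 | h1
        · exact (not_quasisimple_le hB eK h1).elim
        · exact Or.inl (keyB fun x hx b hb => (h1 b hb x hx).symm)
      · obtain ⟨eB⟩ := hB
        exact h.special eA eB eK hKC hs

end Two

end Cfsg.Agent.Cit.TwoSub
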