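import Cfsg.Agent.Cit.FixEnd
import Cfsg.Agent.Cit.TwoSub
import Cfsg.Agent.Cit.AutAct
import Cfsg.Agent.Cit.QuoCen
import Cfsg.Agent.Cit.Eleven

/-!
# (CT) : `O(C(b))` centralises the Sylow 2-subgroups of the members which commute with `b`

* `comm_K` : an involution centralising a Sylow 2-subgroup of a member `K` with trivial core centralises `K`;
* `FPair M` : an involutory automorphism of `M` trivial on a member-like subgroup `K ≤ C(w)` is `1` or conjugation by
  `w`; `OCen M` : `O(M) = 1` and `O(C(w)) = 1` for all involutions `w`;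
* `ct` : (CT), for pieces `D / Z(D)` with `FPair`, `OCen` in the cases `exc`, `mathieu`.
-/

set_option autoImplicit false
set_option linter.style.haveILetI false

namespace Cfsg.Agent.Cit.CTEnd

open Subgroup Cfsg Cfsg.Agent.Cit Cfsg.Agent.Cit.Comp Cfsg.Agent.Cit.OneComp Cfsg.Agent.Cit.CT
open Cfsg.Agent.SignalizersComponents.Components

section

variable {G : Type*} [Group G] [Finite G] {Om : Set (Subgroup G)}

/-- an involution centralising a Sylow 2-subgroup of `K` centralises `K` -/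
theorem comm_K (h : Hyp Om) {K : Subgroup G} (hK : K ∈ Om) (ty : IsType K) (hO : OO K = ⊥) {Q : Subgroup G}
    (hQ : Syl Q K) {b : G} (hb : b * b = 1) (hQb : ∀ q ∈ Q, q * b = b * q) : ∀ k ∈ K, b * k = k * b := by
  obtain ⟨c, v, n, hq⟩ := h.exists_gq hK hQ
  have hzb : zz K * b = b * zz K := hQb _ hq.z_mem
  have hbK : b ∈ normalizer (K : Set G) := by
    rw [mem_normalizer_iff_cj]
    have h1 : zz (cj b K) = zz K := by
      rw [h.zz_cj hK, ← hzb, mul_inv_cancel_right]
    rcases h.h2 _ (h.conj K hK b) K hK h1 with h2 | h2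
    · exact h2
    · exfalso
      rw [hO, inf_bot_eq, le_bot_iff, commutator_eq_bot_iff_le_centralizer] at h2
      have h3 : ∀ q ∈ Q, q ∈ cj b K := by
        intro q hq'
        rw [mem_cj]
        have h4 : b⁻¹ * q * b = q := by rw [mul_assoc, hQb q hq', inv_mul_cancel_left]
        rw [h4]
        exact hQ.1 hq'
      apply hq.not_comm
      exact (mem_centralizer_iff.1 (h2 (h3 v hq.v_mem)) c (hQ.1 hq.c_mem)).symm
  have h1 := AutAct.triv_of_cent ty hQ hbK (b := 1) (by rw [pow_one, pow_two]; exact hb)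
    (fun x hx => (hQb x hx).symm)
  intro k hk
  have h2 := h1 k hk
  rw [hO, mem_bot, mul_inv_eq_one, mul_inv_eq_iff_eq_mul] at h2
  exact h2

/-! ### A single member -/

set_option maxRecDepth 100000 in
theorem X_mul : ∀ x : SolvTwo.X, (x * x = SolvTwo.zX ∨ x = 1 ∨ x = SolvTwo.zX) → ∀ y : SolvTwo.X,
    (y * y = SolvTwo.zX ∨ y = 1 ∨ y = SolvTwo.zX) →
    (x * y * (x * y) = SolvTwo.zX ∨ x * y = 1 ∨ x * y = SolvTwo.zX) := by
  decide +kernel

set_option maxRecDepth 100000 in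
theorem X_central : ∀ y : SolvTwo.X, y * SolvTwo.zX = SolvTwo.zX * y := by
  decide +kernel

omit [Finite G] in
/-- `O₂(K)` for `K ≃ SL₂(3)` -/
theorem exists_two {K : Subgroup G} (e : K ≃* SolvTwo.X) :
    ∃ V : Subgroup G, V ≤ K ∧ K ≤ normalizer (V : Set G) ∧ IsPGroup 2 V ∧
      ∀ x ∈ K, (∃ n : ℕ, x ^ 2 ^ n = 1) → x ∈ V := by
  have h := SolvTwo.T3.of_equiv e
  set z := ((e.symm SolvTwo.zX : K) : G) with hz
  have hzK : ∀ x ∈ K, x * z = z * x := by
    intro x hx
    obtain ⟨y, rfl⟩ : ∃ y : SolvTwo.X, ((e.symm y : K) : G) = x := ⟨e ⟨x, hx⟩, by rw [e.symm_apply_apply]⟩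
    rw [hz, ← Subgroup.coe_mul, ← Subgroup.coe_mul, ← map_mul, ← map_mul]
    congr 2
    exact X_central y
  let V : Subgroup G :=
    { carrier := {x | x ∈ K ∧ (x * x = z ∨ x = 1 ∨ x = z)}
      one_mem' := ⟨K.one_mem, Or.inr (Or.inl rfl)⟩
      mul_mem' := by
        rintro x y ⟨hx, hxx⟩ ⟨hy, hyy⟩
        refine ⟨K.mul_mem hx hy, ?_⟩
        obtain ⟨x, rfl⟩ : ∃ y : SolvTwo.X, ((e.symm y : K) : G) = x := ⟨e ⟨x, hx⟩, by rw [e.symm_apply_apply]⟩
        obtain ⟨y, rfl⟩ : ∃ x : SolvTwo.X, ((e.symm x : K) : G) = y := ⟨e ⟨y, hy⟩, by rw [e.symm_apply_apply]⟩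
        have hinj : ∀ x y : SolvTwo.X, ((e.symm x : K) : G) = ((e.symm y : K) : G) ↔ x = y := by
          intro x y
          rw [← Subtype.ext_iff, e.symm.injective.eq_iff]
        have h1 : ((e.symm 1 : K) : G) = 1 := by rw [map_one]; rfl
        have hm : ∀ x y : SolvTwo.X, ((e.symm x : K) : G) * ((e.symm y : K) : G) = ((e.symm (x * y) : K) : G) := by
          intro x y; rw [map_mul]; rfl
        rw [hz, ← h1] at hxx hyy ⊢
        simp only [hm, hinj] at hxx hyy ⊢
        exact X_mul x hxx y hyy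
      inv_mem' := by
        rintro x ⟨hx, hxx⟩
        refine ⟨K.inv_mem hx, ?_⟩
        have hzi : z⁻¹ = z := inv_eq_of_mul_eq_one_right h.z_sq
        rcases hxx with h1 | h1 | h1
        · left; rw [← mul_inv_rev, h1, hzi]
        · right; left; rw [h1, inv_one]
        · right; right; rw [h1, hzi] }
  have hmem : ∀ x, x ∈ V ↔ x ∈ K ∧ (x * x = z ∨ x = 1 ∨ x = z) := fun x => Iff.rfl
  refine ⟨V, fun x hx => hx.1, ?_, ?_, ?_⟩
  · have key : ∀ k ∈ K, ∀ x ∈ V, k * x * k⁻¹ ∈ V := by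
      rintro k hk x ⟨hx, hxx⟩
      rw [hmem]
      refine ⟨K.mul_mem (K.mul_mem hk hx) (K.inv_mem hk), ?_⟩
      have hkz : k * z * k⁻¹ = z := by rw [hzK k hk, mul_inv_cancel_right]
      rcases hxx with h1 | h1 | h1
      · left
        calc k * x * k⁻¹ * (k * x * k⁻¹) = k * (x * x) * k⁻¹ := by group
          _ = z := by rw [h1, hkz]
      · right; left; rw [h1, mul_one, mul_inv_cancel]
      · right; right; rw [h1, hkz]
    intro k hk
    rw [mem_normalizer_iff]
    refine fun x => ⟨key k hk x, fun h1 => ?_⟩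
    have h2 := key k⁻¹ (K.inv_mem hk) _ h1
    have e1 : k⁻¹ * (k * x * k⁻¹) * k⁻¹⁻¹ = x := by group
    rwa [e1] at h2
  · rintro ⟨x, hx, hxx⟩
    refine ⟨2, Subtype.ext ?_⟩
    change x ^ 2 ^ 2 = 1
    have e1 : x ^ 2 ^ 2 = x * x * (x * x) := by
      rw [show (2 : ℕ) ^ 2 = 2 + 2 by norm_num, pow_add, pow_two]
    rw [e1]
    rcases hxx with h1 | h1 | h1
    · rw [h1, h.z_sq]
    · rw [h1]; simp
    · rw [h1, h.z_sq, mul_one]
  · rintro x hx ⟨n, hn⟩
    exact ⟨hx, h.cases_two hx hn⟩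

/-- (CT) for a subnormal member -/
theorem ct_single (h : Hyp Om) {K : Subgroup G} (hK : K ∈ Om) (ty : IsType K) (hO : OO K = ⊥)
    (hs : K.IsSubnormal) {Q : Subgroup G} (hQ : Syl Q K) {b : G} (hb : b * b = 1)
    (hQb : ∀ q ∈ Q, q * b = b * q) {x : G} (hx : x ∈ XX b) {q : G} (hq : q ∈ Q) : q * x = x * q := by
  rcases TwoSub.QX.of_isType ty hO with h1 | h1
  · have hKb : K ≤ centralizer {b} := fun k hk =>
      mem_centralizer_singleton_iff.2 (comm_K h hK ty hO hQ hb hQb k hk).symm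
    have hc : IsComponent (K.subgroupOf (centralizer {b})) := isComponent_subgroupOf hKb ⟨hs, h1⟩
    have hn : (pPrimeCore 2 (centralizer ({b} : Set G))).Normal := Lib.Cores.pPrimeCore_normal 2
    rcases component_le_or_commutator_eq_bot hc hn.isSubnormal with h2 | h2
    · exfalso
      have h3 := Subgroup.map_mono (f := (centralizer ({b} : Set G)).subtype) h2
      rw [map_subgroupOf_eq_of_le hKb] at h3
      apply odd_XX b
      have h4 : orderOf (zz K) ∣ Nat.card (XX b) := by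
        rw [← Subgroup.orderOf_mk (zz K) (h3 (h.zz_mem hK))]
        exact orderOf_dvd_natCard _
      rwa [h.orderOf_zz hK] at h4
    · have h3 := congrArg (Subgroup.map (centralizer ({b} : Set G)).subtype) h2
      rw [map_commutator, map_subgroupOf_eq_of_le hKb, Subgroup.map_bot, commutator_comm,
        commutator_eq_bot_iff_le_centralizer] at h3
      exact mem_centralizer_iff.1 (h3 hx) q (hQ.1 hq)
  · obtain ⟨e⟩ := h1
    obtain ⟨V, hVK, hKV, hV2, hVm⟩ := exists_two e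
    have hVs : V.IsSubnormal := IsSubnormal.step _ _ hVK hs ((normal_subgroupOf_iff_le_normalizer hVK).2 hKV)
    have hVp := SignalizersComponents.CompBasic.subnormal_pGroup_le_pCore hVs hV2
    have hqV : q ∈ V := by
      obtain ⟨n, hn⟩ := hQ.2.1 ⟨q, hq⟩
      exact hVm q (hQ.1 hq) ⟨n, congrArg Subtype.val hn⟩
    exact mem_centralizer_iff.1 (XX_le_centralizer_pCore hb hx) q (hVp hqV)

/-! ### A piece with a chart -/

omit [Finite G] in
/-- a member contained in a subgroup with a chart of characteristic `p` is generated by its `p`-elements -/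
theorem pgen_of_chart {p : ℕ} {D : Subgroup G} (c : Nodes.Chart.Chart Om p D) {K : Subgroup G} (hK : K ∈ Om)
    (hKD : K ≤ D) {H : Subgroup G} (hH : ∀ y ∈ K, IsPGroup p (zpowers y) → y ∈ H) : K ≤ H := by
  obtain ⟨r, hr, g, hg, rfl⟩ := c.om_conj K hK hKD
  have key : ∀ s, s ∈ c.R → c.Z s ≤ c.Z r ⊔ c.Z (-r) → Nodes.Reps.cj g (c.Z s) ≤ H := by
    rintro s hs hle _ ⟨a, ha, rfl⟩
    have h1 : IsPGroup p (zpowers a) :=
      (c.cls.rgd.pgrp' (c.cls.root s hs)).to_le (zpowers_le.2 (c.cls.le s hs ha))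
    refine hH _ (Subgroup.mem_map_of_mem _ (hle ha)) ?_
    have h2 : zpowers ((MulAut.conj g).toMonoidHom a) = (zpowers a).map (MulAut.conj g).toMonoidHom :=
      (MonoidHom.map_zpowers _ a).symm
    rw [h2]
    exact h1.map _
  rw [Nodes.Reps.cj_sup]
  exact sup_le (key r hr le_sup_left) (key (-r) (Nodes.StdConn.neg_mem c.cls hr) le_sup_right)

/-- `b` and `O(C(b))` normalise the component containing a Sylow 2-subgroup of a member centralised by `b` -/
theorem norm_of_comm (h : Hyp Om) {K : Subgroup G} (hK : K ∈ Om) {D : Subgroup G} (hD : IsComponent D) (hKD : K ≤ D)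
    {Q : Subgroup G} (hQ : Syl Q K) {b : G} (hQb : ∀ q ∈ Q, q * b = b * q) :
    b ∈ normalizer (D : Set G) ∧ XX b ≤ normalizer (D : Set G) := by
  obtain ⟨c, v, n, hq⟩ := h.exists_gq hK hQ
  have h1 : v * c ≠ c * v := fun h1 => hq.not_comm h1
  have hv : v ∈ D := hKD (hQ.1 hq.v_mem)
  have hc : c ∈ D := hKD (hQ.1 hq.c_mem)
  exact ⟨mem_normalizer_of_comm hD hv hc h1 (hQb v hq.v_mem),
    XX_le_normalizer hD hv hc h1 (hQb v hq.v_mem) (hQ.2.1.to_le (zpowers_le.2 hq.v_mem))⟩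

/-- (CT) for a member of a piece with a chart -/
theorem ct_chart (h : Hyp Om) (hG : pPrimeCore 2 G = ⊥) {K : Subgroup G} (hK : K ∈ Om) (ty : IsType K)
    (hO : OO K = ⊥) {p : ℕ} {D : Subgroup G} (hD : IsComponent D) (c : Nodes.Chart.Chart Om p D) (hKD : K ≤ D)
    {Q : Subgroup G} (hQ : Syl Q K) {b : G} (hb : b * b = 1)
    (hQb : ∀ q ∈ Q, q * b = b * q) {x : G} (hx : x ∈ XX b) {q : G} (hq : q ∈ Q) : q * x = x * q := by
  haveI : Fact p.Prime := ⟨c.prime⟩
  have hKb := comm_K h hK ty hO hQ hb hQb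
  obtain ⟨hbD, hXD⟩ := norm_of_comm h hK hD hKD hQ hQb
  have hF : FixP p D := fixP_of_chart c hD.2 (CoresG.isPGroup_center hG hD.1)
  have h1 : K ≤ centralizer {x} := by
    refine pgen_of_chart c hK hKD fun y hy hyp => ?_
    rw [mem_centralizer_singleton_iff]
    exact hF.comm hb hbD hx (hXD hx) (hKD hy) (hKb y hy).symm hyp
  exact mem_centralizer_singleton_iff.1 (h1 (hQ.1 hq))

end

/-! ### Pieces without a chart -/

/-- an involutory automorphism trivial on a subgroup `K` of `C(w)` like a member is `1` or conjugation by `w` -/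
def FPair (M : Type*) [Group M] : Prop :=
  ∀ (K : Subgroup M) (w : M), w ∈ K → w * w = 1 → w ≠ 1 → K ≤ centralizer ({w} : Set M) →
    (K.subgroupOf (centralizer ({w} : Set M))).IsSubnormal → IsType K →
    ∀ a : MulAut M, a * a = 1 → (∀ x ∈ K, a x = x) → a = 1 ∨ a = MulAut.conj w

/-- `O(C(w)) = 1` for all involutions -/
def OCen (M : Type*) [Group M] : Prop :=
  ∀ w : M, w * w = 1 → w ≠ 1 → OO (centralizer ({w} : Set M)) = ⊥

section

variable {G : Type*} [Group G] [Finite G] {Om : Set (Subgroup G)}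

omit [Finite G] in
theorem isType_of_equiv {G' : Type*} [Group G'] {K : Subgroup G} {K' : Subgroup G'} (e : K ≃* K') (h : IsType K) :
    IsType K' := by
  have e' : (↥K ⧸ oddCore ↥K) ≃* (↥K' ⧸ oddCore ↥K') :=
    QuotientGroup.congr _ _ e (Lib.Cores.map_equiv_pPrimeCore e 2)
  rcases h with ⟨F, i1, i2, h1, ⟨f⟩⟩ | h
  · exact Or.inl ⟨F, i1, i2, h1, ⟨e'.symm.trans f⟩⟩
  · exact Or.inr (Intrinsic.Basic.cover_congr e' h)

omit [Finite G] in
/-- a nontrivial 2-element of a member has the involution as a power -/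
theorem zz_mem_zpowers (h : Hyp Om) {K : Subgroup G} (hK : K ∈ Om) {x : G} (hx : x ∈ K) (hx1 : x ≠ 1)
    {k : ℕ} (hk : x ^ 2 ^ k = 1) : zz K ∈ zpowers x := by
  obtain ⟨m, hm⟩ := (Nat.dvd_prime_pow Nat.prime_two).1 (orderOf_dvd_of_pow_eq_one hk)
  obtain ⟨hm1, hm2⟩ := hm
  have hm0 : m ≠ 0 := by
    rintro rfl
    rw [pow_zero, orderOf_eq_one_iff] at hm2
    exact hx1 hm2
  obtain ⟨j, rfl⟩ := Nat.exists_eq_succ_of_ne_zero hm0
  have h1 : orderOf (x ^ 2 ^ j) = 2 := by
    rw [orderOf_pow_of_dvd (by positivity) (by rw [hm2]; exact Nat.pow_dvd_pow 2 (Nat.le_succ j)), hm2,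
      Nat.pow_div (Nat.le_succ j) (by norm_num)]
    simp
  rw [← h.uniq K hK _ (K.pow_mem hx _) h1]
  exact pow_mem (mem_zpowers x) _

/-- the image of a member in `D / Z(D)` -/
theorem image (h : Hyp Om) {D K : Subgroup G} (hD : IsQuasisimple D) (hDO : D ∉ Om) (hZ : IsPGroup 2 (center D))
    (hK : K ∈ Om) (hKD : K ≤ D) (ty : IsType K) :
    ∃ (K' : Subgroup (D ⧸ center D)) (w : D ⧸ center D), w ∈ K' ∧ w * w = 1 ∧ w ≠ 1 ∧
      K' ≤ centralizer {w} ∧ (K'.subgroupOf (centralizer ({w} : Set (D ⧸ center D)))).IsSubnormal ∧ IsType K' ∧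
      (∀ x ∈ K', ∃ k, ∃ hk : k ∈ D, k ∈ K ∧ x = QuotientGroup.mk' (center D) ⟨k, hk⟩) := by
  have hr := h.restr D
  set f : D →* D ⧸ center D := QuotientGroup.mk' (center D) with hf
  have hfs : Function.Surjective f := QuotientGroup.mk'_surjective _
  have hker : f.ker = center D := QuotientGroup.ker_mk' _
  have hinf : ∀ J ∈ restr Om D, J ⊓ f.ker = ⊥ := by
    intro J hJ
    rw [hker, eq_bot_iff]
    rintro x ⟨hxJ, hxc⟩
    rw [mem_bot]
    by_contra hx1
    obtain ⟨k, hk⟩ := hZ ⟨x, hxc⟩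
    have h1 := zz_mem_zpowers hr hJ hxJ hx1 (k := k) (congrArg Subtype.val hk)
    have h2 : zz J ∈ center D := (zpowers_le.2 hxc) h1
    have h3 := CoresH.zz_notMem_center h hD (mem_restr.1 hJ) (map_subtype_le J) hDO
    apply h3
    have h4 : (⟨zz (J.map D.subtype), (map_subtype_le J) (h.zz_mem (mem_restr.1 hJ))⟩ : D) = zz J :=
      Subtype.ext (zz_map h hJ).symm
    rw [h4]
    exact h2
  have hK' : K.subgroupOf D ∈ restr Om D := subgroupOf_mem_restr hK hKD
  have hi := QuoCen.hyp_img_central hr hfs (by rw [hker]) hinf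
  have hm : (K.subgroupOf D).map f ∈ img f (restr Om D) := ⟨_, hK', rfl⟩
  haveI : Finite (D ⧸ center D) := Finite.of_surjective f hfs
  refine ⟨(K.subgroupOf D).map f, zz ((K.subgroupOf D).map f), hi.zz_mem hm, hi.zz_mul hm, ?_,
    hi.le_centralizer hm, hi.sub _ hm, ?_, ?_⟩
  · intro h1
    have h2 := hi.orderOf_zz hm
    rw [h1, orderOf_one] at h2
    omega
  · exact isType_of_equiv ((subgroupOfEquivOfLe hKD).symm.trans (QuoCen.equivMap (hinf _ hK'))) ty
  · rintro _ ⟨x, hx, rfl⟩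
    exact ⟨x, x.2, mem_subgroupOf.1 hx, rfl⟩

/-- (CT) for a member of a piece with `FPair`, `OCen` -/
theorem ct_pair (h : Hyp Om) {K : Subgroup G} (hK : K ∈ Om) (ty : IsType K)
    (hO : OO K = ⊥) {D : Subgroup G} (hD : IsComponent D) (hDO : D ∉ Om) (hZ : IsPGroup 2 (center D))
    (hF : FPair (D ⧸ center D)) (hC : OCen (D ⧸ center D)) (hKD : K ≤ D)
    {Q : Subgroup G} (hQ : Syl Q K) {b : G} (hb : b * b = 1)
    (hQb : ∀ q ∈ Q, q * b = b * q) {x : G} (hx : x ∈ XX b) {q : G} (hq : q ∈ Q) : q * x = x * q := by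
  have hKb := comm_K h hK ty hO hQ hb hQb
  obtain ⟨hbD, hXD⟩ := norm_of_comm h hK hD hKD hQ hQb
  have h1 := comm_mem_OO hx (hXD hx) (hKD (hQ.1 hq)) (hQb q hq)
  have hq2 : IsPGroup 2 (zpowers q) := hQ.2.1.to_le (zpowers_le.2 hq)
  suffices hW : OO (D ⊓ centralizer {b}) = ⊥ by
    rw [hW, mem_bot, mul_inv_eq_one, mul_inv_eq_iff_eq_mul] at h1
    exact h1
  obtain ⟨-, hfix, hnorm, hcard⟩ := exists_image hZ hbD
  set W' := ((OO (D ⊓ centralizer {b})).subgroupOf D).map (QuotientGroup.mk' (center D)) with hW'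
  have hodd : ¬ 2 ∣ Nat.card W' := by rw [hcard]; exact odd_OO _
  suffices hW : W' = ⊥ by
    rw [hW, card_bot] at hcard
    exact Subgroup.eq_bot_of_card_eq _ hcard.symm
  obtain ⟨K', w, hwK', hww, hw1, hK'w, hs, ty', hk⟩ := image h hD.2 hDO hZ hK hKD ty
  have ha : (qAut hbD) * (qAut hbD) = 1 := by
    ext y
    exact qAut_qAut hbD hb y
  rcases hF K' w hwK' hww hw1 hK'w hs ty' (qAut hbD) ha (fun y hy => by
    obtain ⟨k, hkD, hkK, rfl⟩ := hk y hy
    rw [qAut_mk, nAut_of_comm hbD]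
    exact (hKb k hkK).symm) with h2 | h2
  · -- `b` acts trivially
    have h3 : W' ≤ pPrimeCore 2 (D ⧸ center D) := by
      refine Lib.Cores.le_pPrimeCore ⟨fun y hy g => hnorm g (by rw [h2]; rfl) y hy⟩ ?_
      exact (odd_iff_coprime W').1 hodd
    haveI : IsSimpleGroup (D ⧸ center D) := hD.2.2
    rcases (Lib.Cores.pPrimeCore_normal (G := D ⧸ center D) 2).eq_bot_or_eq_top with h4 | h4
    · rw [h4, le_bot_iff] at h3
      exact h3
    · exfalso
      haveI : Finite (D ⧸ center D) := Finite.of_surjective _ (QuotientGroup.mk'_surjective (center D))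
      have h5 := (odd_iff_coprime _).2 (Lib.Cores.pPrimeCore_coprime (G := D ⧸ center D) 2)
      rw [h4] at h5
      apply h5
      have h6 : orderOf w = 2 := orderOf_eq_prime (by rw [pow_two]; exact hww) hw1
      rw [← h6, ← Subgroup.orderOf_mk w (mem_top w)]
      exact orderOf_dvd_natCard _
  · have h3 : W' ≤ OO (centralizer ({w} : Set (D ⧸ center D))) := by
      refine le_OO ?_ ?_ hodd
      · intro y hy
        have h4 := hfix y hy
        rw [h2, MulAut.conj_apply, mul_inv_eq_iff_eq_mul] at h4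
        rw [mem_centralizer_singleton_iff]
        exact h4.symm
      · have key : ∀ g ∈ centralizer ({w} : Set (D ⧸ center D)), ∀ y ∈ W', g * y * g⁻¹ ∈ W' := by
          intro g hg y hy
          refine hnorm g ?_ y hy
          rw [h2, MulAut.conj_apply, mul_inv_eq_iff_eq_mul]
          exact (mem_centralizer_singleton_iff.1 hg).symm
        intro g hg
        rw [mem_normalizer_iff]
        refine fun y => ⟨key g hg y, fun h1 => ?_⟩
        have h4 := key g⁻¹ (inv_mem hg) _ h1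
        have e1 : g⁻¹ * (g * y * g⁻¹) * g⁻¹⁻¹ = y := by group
        rwa [e1] at h4
    rw [hC w hww hw1, le_bot_iff] at h3
    exact h3

end

/-! ### `M₁₁` -/

section

variable {M : Type*} [Group M]

theorem fpair_M11 (h : Spor.IsoM11 M) : FPair M := by
  intro K w hwK hww hw1 hKw _ ty a _ ha
  have hw2 : orderOf w = 2 := orderOf_eq_prime (by rw [pow_two]; exact hww) hw1
  have hK : K = Eleven.SS w := by
    rcases ty with ⟨F, i1, i2, h1, ⟨f⟩⟩ | h2
    · exact Eleven.eq_SS_of_SL h hw2 hKw h1 f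
    · exact (Eleven.not_two_A7 h hw2 hKw h2).elim
  refine Eleven.aut_eq h hw2 a fun x hx => ha x ?_
  rw [hK]
  exact Eleven.QQ_le_SS h hw2 hx

theorem ocen_M11 (h : Spor.IsoM11 M) : OCen M := fun w hww hw1 =>
  Eleven.OO_centralizer h (orderOf_eq_prime (by rw [pow_two]; exact hww) hw1)

end

/-! ### (CT) -/

universe u

/-- the facts on `G₂(q)`, `³D₄(q)` -/
def ExcFact : Prop := ∀ (M : Type u) [Group M] [Finite M] (p : ℕ), p.Prime → p ≠ 2 → IsG2D4 p M → FPair M ∧ OCen M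

/-- **(CT)** -/
theorem ctStmt (hE : ExcFact.{u}) : CoresG.CTStmt.{u} := by
  intro X _ _ Om h ty hp hO K hK Q hQ b hb hQb x hx q hq
  have tyK : IsType K := (ty K hK).isType
  have hOK := hp.core K hK
  have hsub := CoresH.pc_isSubnormal h hK
  have hKD : K ≤ pc Om K := le_pc
  by_cases hDO : pc Om K ∈ Om
  · have h1 : K = pc Om K := h.eq_of_le hK hDO hKD
    exact ct_single h hK tyK hOK (by rw [h1]; exact hsub) hQ hb hQb hx hq
  rcases hp.piece h hK with hm | ⟨_, qs, _, p, c, _⟩ | ⟨qs, two, p, prime, odd, iso, ne, zzc, three⟩ |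
    ⟨qs, two, iso, ne, mem⟩
  · exact absurd hm hDO
  · exact ct_chart h hO hK tyK hOK ⟨hsub, qs⟩ c hKD hQ hb hQb hx hq
  · haveI : Finite (pc Om K ⧸ center (pc Om K)) := Finite.of_surjective _ (QuotientGroup.mk'_surjective _)
    obtain ⟨h1, h2⟩ := hE _ p prime odd iso
    exact ct_pair h hK tyK hOK ⟨hsub, qs⟩ hDO two h1 h2 hKD hQ hb hQb hx hq
  · exact ct_pair h hK tyK hOK ⟨hsub, qs⟩ hDO two (fpair_M11 iso) (ocen_M11 iso) hKD hQ hb hQb hx hq

end Cfsg.Agent.Cit.CTEnd
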