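import Cfsg.Agent.Cit.CloLemmaEnd

/-!
# CONN / CLOSE: the elementary end

helper154's THEOREM CLOSE-A (bb R18 #8757), shortened.  `G` acts on `G/M`; `z ∈ M` an involution fixing only the
point `M`, `v ∈ M` an involution with `C_G(v) ≤ M`, not conjugate to `z`.  If the products `z d`, `v d`, `d` a
conjugate of `z` commuting with `z` (resp. `v`), `d ≠ z`, fix at most one point, then `M = G` (`eq_top`).
-/

set_option autoImplicit false
set_option linter.unusedSectionVars false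
set_option linter.unusedVariables false

namespace Cfsg.Agent.Cit.CloA

open Subgroup Cfsg

variable {G : Type*} [Group G]

/-- `w` fixes at most one point of `G/M` -/
def NB (M : Subgroup G) (w : G) : Prop := ∀ g h, g⁻¹ * w * g ∈ M → h⁻¹ * w * h ∈ M → g⁻¹ * h ∈ M

theorem NB.conj {M : Subgroup G} {w : G} (h : NB M w) (x : G) : NB M (x * w * x⁻¹) := by
  intro a b ha hb
  have h1 := h (x⁻¹ * a) (x⁻¹ * b) (by
    have : (x⁻¹ * a)⁻¹ * w * (x⁻¹ * a) = a⁻¹ * (x * w * x⁻¹) * a := by group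
    rwa [this]) (by
    have : (x⁻¹ * b)⁻¹ * w * (x⁻¹ * b) = b⁻¹ * (x * w * x⁻¹) * b := by group
    rwa [this])
  have h2 : (x⁻¹ * a)⁻¹ * (x⁻¹ * b) = a⁻¹ * b := by group
  rwa [h2] at h1

/-- an element `f ∈ M` which fixes only the point `M` -/
theorem NB.of_mem {M : Subgroup G} {f : G} (h : ∀ g, g * f * g⁻¹ ∈ M → g ∈ M) : NB M f := by
  intro a b ha hb
  have h1 : a⁻¹ ∈ M := h a⁻¹ (by rwa [inv_inv])
  have h2 : b⁻¹ ∈ M := h b⁻¹ (by rwa [inv_inv])
  have h3 := M.mul_mem h1 (M.inv_mem h2)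
  rwa [inv_inv] at h3

theorem NB.of_good [Finite G] {M : Subgroup G} (h2 : CloEnd.HTwo M) {f : G} (h : CloEnd.Good M f) : NB M f :=
  NB.of_mem (h2 f h)

theorem pow_comm {v e : G} (hv : v * v = 1) (he : e * e = 1) (j : ℕ) :
    e * (v * e) ^ j = ((v * e) ^ j)⁻¹ * e ∧ v * (v * e) ^ j = ((v * e) ^ j)⁻¹ * v := by
  have hv' : v⁻¹ = v := inv_eq_of_mul_eq_one_right hv
  have he' : e⁻¹ = e := inv_eq_of_mul_eq_one_right he
  have h1 : e * (v * e) * e⁻¹ = (v * e)⁻¹ := by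
    rw [mul_inv_rev, hv', he']
    calc e * (v * e) * e = e * v * (e * e) := by group
      _ = e * v := by rw [he, mul_one]
  have h2 : v * (v * e) * v⁻¹ = (v * e)⁻¹ := by
    rw [mul_inv_rev, hv', he']
    calc v * (v * e) * v = (v * v) * (e * v) := by group
      _ = e * v := by rw [hv, one_mul]
  constructor
  · have h3 : e * (v * e) ^ j * e⁻¹ = ((v * e) ^ j)⁻¹ := by
      rw [← conj_pow, h1, inv_pow]
    rwa [mul_inv_eq_iff_eq_mul] at h3
  · have h3 : v * (v * e) ^ j * v⁻¹ = ((v * e) ^ j)⁻¹ := by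
      rw [← conj_pow, h2, inv_pow]
    rwa [mul_inv_eq_iff_eq_mul] at h3

/-- the dihedral group `⟨v, e⟩`, `v` not conjugate to `e` -/
theorem exists_central [Finite G] {v e : G} (hv : v * v = 1) (he : e * e = 1) (hve : ∀ x, x * e * x⁻¹ ≠ v) :
    ∃ w, w ≠ 1 ∧ w * w = 1 ∧ w * v = v * w ∧ w * e = e * w ∧
      ((∃ x, x * e * x⁻¹ = e * w) ∨ ∃ x, x * e * x⁻¹ = v * w) := by
  obtain ⟨r, hr⟩ : ∃ r, r = v * e := ⟨_, rfl⟩
  have hj := pow_comm hv he
  rw [← hr] at hj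
  have hvr : v * r = e := by rw [hr, ← mul_assoc, hv, one_mul]
  have hodd : ∀ j, (r ^ j)⁻¹ * e * ((r ^ j)⁻¹)⁻¹ = v * r ^ (2 * j + 1) := by
    intro j
    rw [← (hj j).1]
    calc e * r ^ j * (r ^ j)⁻¹⁻¹ = e * (r ^ j * r ^ j) := by group
      _ = v * r * r ^ (2 * j) := by rw [hvr, ← pow_add, two_mul]
      _ = v * r ^ (2 * j + 1) := by rw [mul_assoc, ← pow_succ']
  have heven : ∀ j, r ^ j * e * (r ^ j)⁻¹ = e * (r ^ (2 * j))⁻¹ := by
    intro j
    have h1 : r ^ j * e = e * (r ^ j)⁻¹ := by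
      have h2 := (hj j).1
      calc r ^ j * e = r ^ j * (e * r ^ j) * (r ^ j)⁻¹ := by group
        _ = r ^ j * ((r ^ j)⁻¹ * e) * (r ^ j)⁻¹ := by rw [h2]
        _ = e * (r ^ j)⁻¹ := by group
    rw [h1, two_mul, pow_add]
    group
  have hn : r ^ orderOf r = 1 := pow_orderOf_eq_one r
  rcases Nat.even_or_odd' (orderOf r) with ⟨k, hk | hk⟩
  · have hk0 : 0 < k := by
      have := orderOf_pos r
      omega
    have hww : r ^ k * r ^ k = 1 := by rw [← pow_add, ← two_mul, ← hk, hn]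
    have hwi : (r ^ k)⁻¹ = r ^ k := inv_eq_of_mul_eq_one_right hww
    have hwe : r ^ k * e = e * r ^ k := by rw [(hj k).1, hwi]
    have hwv : r ^ k * v = v * r ^ k := by rw [(hj k).2, hwi]
    refine ⟨r ^ k, ?_, hww, hwv, hwe, ?_⟩
    · intro h
      have := orderOf_dvd_of_pow_eq_one h
      have := Nat.le_of_dvd hk0 this
      omega
    · rcases Nat.even_or_odd' k with ⟨j, h | h⟩
      · left
        refine ⟨r ^ j, ?_⟩
        rw [heven, ← h, hwi]
      · right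
        refine ⟨(r ^ j)⁻¹, ?_⟩
        rw [hodd, ← h]
  · exfalso
    apply hve (r ^ k)⁻¹
    rw [hodd, ← hk, hn, mul_one]

/-- **THEOREM CLOSE-A'** -/
theorem eq_top [Finite G] {M : Subgroup G} {z v : G} (hzM : z ∈ M) (hzz : z * z = 1)
    (h1 : ∀ g, g * z * g⁻¹ ∈ M → g ∈ M) (hvM : v ∈ M) (hvv : v * v = 1) (hvc : centralizer {v} ≤ M)
    (hvz : ∀ g, g * z * g⁻¹ ≠ v)
    (p1 : ∀ g, g * z * g⁻¹ * z = z * (g * z * g⁻¹) → g * z * g⁻¹ ≠ z → NB M (z * (g * z * g⁻¹)))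
    (p3 : ∀ g, g * z * g⁻¹ * v = v * (g * z * g⁻¹) → NB M (v * (g * z * g⁻¹))) : M = ⊤ := by
  rw [eq_top_iff]
  intro b _
  by_contra hb
  have hee : b * z * b⁻¹ * (b * z * b⁻¹) = 1 := by
    calc b * z * b⁻¹ * (b * z * b⁻¹) = b * (z * z) * b⁻¹ := by group
      _ = 1 := by rw [hzz]; group
  obtain ⟨w, hw1, hww, hwv, hwe, hw⟩ := exists_central hvv hee (fun x h => hvz (x * b) (by
    rw [← h]; group))
  have hwM : w ∈ M := hvc (mem_centralizer_singleton_iff.2 hwv)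
  have hwb : b⁻¹ * w * b ∈ M := by
    apply h1
    have h2 : b⁻¹ * w * b * z * (b⁻¹ * w * b)⁻¹ = z := by
      calc b⁻¹ * w * b * z * (b⁻¹ * w * b)⁻¹ = b⁻¹ * (w * (b * z * b⁻¹)) * w⁻¹ * b := by group
        _ = b⁻¹ * ((b * z * b⁻¹) * w) * w⁻¹ * b := by rw [hwe]
        _ = z := by group
    rw [h2]
    exact hzM
  have hNB : NB M w := by
    rcases hw with ⟨x, hx⟩ | ⟨x, hx⟩
    · have h2 : (b⁻¹ * x * b) * z * (b⁻¹ * x * b)⁻¹ = z * (b⁻¹ * w * b) := by
        calc (b⁻¹ * x * b) * z * (b⁻¹ * x * b)⁻¹ = b⁻¹ * (x * (b * z * b⁻¹) * x⁻¹) * b := by group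
          _ = z * (b⁻¹ * w * b) := by rw [hx]; group
      have hcomm : z * (b⁻¹ * w * b) = (b⁻¹ * w * b) * z := by
        calc z * (b⁻¹ * w * b) = b⁻¹ * ((b * z * b⁻¹) * w) * b := by group
          _ = b⁻¹ * (w * (b * z * b⁻¹)) * b := by rw [hwe]
          _ = _ := by group
      have h3 := p1 (b⁻¹ * x * b) (by
        rw [h2]
        calc z * (b⁻¹ * w * b) * z = z * ((b⁻¹ * w * b) * z) := by group
          _ = z * (z * (b⁻¹ * w * b)) := by rw [hcomm]) (by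
        rw [h2]
        intro h
        apply hw1
        have h4 : b⁻¹ * w * b = 1 := mul_left_cancel (h.trans (mul_one z).symm)
        calc w = b * (b⁻¹ * w * b) * b⁻¹ := by group
          _ = 1 := by rw [h4]; group)
      rw [h2, ← mul_assoc, hzz, one_mul] at h3
      have h5 := h3.conj b
      have h6 : b * (b⁻¹ * w * b) * b⁻¹ = w := by group
      rwa [h6] at h5
    · have h2 : (x * b) * z * (x * b)⁻¹ = v * w := by
        rw [← hx]; group
      have h3 := p3 (x * b) (by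
        rw [h2]
        calc v * w * v = v * (w * v) := by group
          _ = v * (v * w) := by rw [hwv])
      rw [h2, ← mul_assoc, hvv, one_mul] at h3
      exact h3
  apply hb
  have := hNB 1 b (by simpa using hwM) hwb
  simpa using this

end Cfsg.Agent.Cit.CloA

namespace Cfsg.Agent.Cit.CloPoint.Clo

open Subgroup Cfsg OneBasic CloA

variable {G : Type*} [Group G] {M : Subgroup G} {QQ : Set (Subgroup G)}

/-- products of a good involution `u` with a commuting `zz Q`, when `u` normalises some `R` over `zz Q` -/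
theorem good_mul [Finite G] (c : Clo M QQ) {u : G} (hu : CloEnd.Good M u) {Q : Subgroup G} (hQ : Q ∈ QQ)
    (hne : u ≠ zz Q) (hcomm : u * zz Q = zz Q * u) (hfix : ∃ R ∈ QQ, zz R = zz Q ∧ cj u R = R)
    (hC : ∀ R ∈ QQ, ∀ r ∈ M, r * r = 1 → r ≠ 1 → (∀ x ∈ R, r * x = x * r) → centralizer {r} ≤ M) :
    CloEnd.Good M (u * zz Q) := by
  obtain ⟨R, hR, hRQ, huR⟩ := hfix
  have hzM : zz Q ∈ M := c.le Q hQ (c.ord Q hQ).1
  have hsq : u * zz Q * (u * zz Q) = 1 := by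
    calc u * zz Q * (u * zz Q) = u * (zz Q * u) * zz Q := by group
      _ = u * (u * zz Q) * zz Q := by rw [hcomm]
      _ = (u * u) * (zz Q * zz Q) := by group
      _ = 1 := by rw [hu.sq, c.zz_mul hQ, one_mul]
  have hn1 : u * zz Q ≠ 1 := by
    intro h
    apply hne
    calc u = u * (zz Q * zz Q) := by rw [c.zz_mul hQ, mul_one]
      _ = (u * zz Q) * zz Q := by group
      _ = zz Q := by rw [h, one_mul]
  by_cases hcen : ∀ x ∈ R, u * x = x * u
  · refine ⟨M.mul_mem hu.mem hzM, hsq, hn1, hC R hR _ (M.mul_mem hu.mem hzM) hsq hn1 ?_⟩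
    intro x hx
    have h1 := c.EE_comm_mem (c.two R hR) (c.le R hR) hR le_rfl (subset_closure ⟨R, hR, le_rfl, rfl⟩) hx
    rw [hRQ] at h1
    calc u * zz Q * x = u * (zz Q * x) := by group
      _ = u * x * zz Q := by rw [h1]; group
      _ = x * u * zz Q := by rw [hcen x hx]
      _ = x * (u * zz Q) := by group
  · push Not at hcen
    obtain ⟨q, hq, hqu, -⟩ := exists_conj_mul (c.two R hR) (z := zz R) (y := u)
      (fun t ht ht2 ht1 => c.uniq R hR t ht (orderOf_eq_prime (by rw [pow_two]; exact ht2) ht1)) hu.sq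
      (mem_normalizer_iff_cj.2 huR) hcen
    rw [hRQ, ← hcomm] at hqu
    rw [← hqu]
    exact hu.conj (c.le R hR hq)

/-- **the elementary end** -/
theorem eq_top [Finite G] (c : Clo M QQ) {Q : Subgroup G} (hQ : Q ∈ QQ) {v : G} (hv : CloEnd.Good M v)
    (hvz : ∀ g, g * zz Q * g⁻¹ ≠ v)
    (hp : ∀ u, (u = v ∨ u = zz Q) → ∀ R ∈ QQ, (∃ g ∈ M, zz R = g * zz Q * g⁻¹) → u * zz R = zz R * u →
      u ≠ zz R → NB M (u * zz R)) : M = ⊤ := by
  have hzg := c.good_zz hQ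
  have key : ∀ u, CloEnd.Good M u → (u = v ∨ u = zz Q) → ∀ g, g * zz Q * g⁻¹ * u = u * (g * zz Q * g⁻¹) →
      g * zz Q * g⁻¹ ≠ u → NB M (u * (g * zz Q * g⁻¹)) := by
    intro u hu huv g hg hne
    have hgM : g ∈ M := c.h2 Q hQ g (CloEnd.mem_of_comm hu hg)
    have h1 := c.zz_cj hQ g
    rw [← h1] at hg hne ⊢
    exact hp u huv (cj g Q) (c.inv g hgM Q hQ) ⟨g, hgM, h1⟩ hg.symm (Ne.symm hne)
  refine CloA.eq_top hzg.mem hzg.sq (c.h2 Q hQ) hv.mem hv.sq hv.cent hvz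
    (fun g hg hne => key _ hzg (Or.inr rfl) g hg hne) (fun g hg => key v hv (Or.inl rfl) g hg (hvz g))

/-- **the elementary end**, one member over each involution -/
theorem eq_top_of_fix [Finite G] (c : Clo M QQ) {Q : Subgroup G} (hQ : Q ∈ QQ) {v : G} (hv : CloEnd.Good M v)
    (hvz : ∀ g, g * zz Q * g⁻¹ ≠ v)
    (hfix : ∀ u, CloEnd.Good M u → ∀ R ∈ QQ, u * zz R = zz R * u → ∃ R' ∈ QQ, zz R' = zz R ∧ cj u R' = R')
    (hC : ∀ R ∈ QQ, ∀ r ∈ M, r * r = 1 → r ≠ 1 → (∀ x ∈ R, r * x = x * r) → centralizer {r} ≤ M) : M = ⊤ := by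
  refine c.eq_top hQ hv hvz ?_
  rintro u huv R hR - hcomm hne
  have hu : CloEnd.Good M u := by
    rcases huv with rfl | rfl
    · exact hv
    · exact c.good_zz hQ
  exact NB.of_good c.hTwo (c.good_mul hu hR hne hcomm (hfix u hu R hR hcomm) hC)

/-- the same with `v = zz Q * zz R` -/
theorem eq_top_of_mul [Finite G] (c : Clo M QQ) {P Q R : Subgroup G} (hP : IsPGroup 2 P) (hPM : P ≤ M)
    (hQ : Q ∈ QQ) (hR : R ∈ QQ) (hQP : Q ≤ P) (hRP : R ≤ P) (hQR : zz Q ≠ zz R)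
    (hvz : ∀ g, g * zz Q * g⁻¹ ≠ zz Q * zz R)
    (hfix : ∀ u, CloEnd.Good M u → ∀ R ∈ QQ, u * zz R = zz R * u → ∃ R' ∈ QQ, zz R' = zz R ∧ cj u R' = R')
    (hC : ∀ R ∈ QQ, ∀ r ∈ M, r * r = 1 → r ≠ 1 → (∀ x ∈ R, r * x = x * r) → centralizer {r} ≤ M) : M = ⊤ := by
  refine c.eq_top_of_fix hQ (c.good hP hPM (mul_mem (subset_closure ⟨Q, hQ, hQP, rfl⟩)
    (subset_closure ⟨R, hR, hRP, rfl⟩)) ?_) hvz hfix hC
  intro h
  apply hQR
  calc zz Q = zz Q * (zz R * zz R) := by rw [c.zz_mul hR, mul_one]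
    _ = (zz Q * zz R) * zz R := by group
    _ = zz R := by rw [h, one_mul]

end Cfsg.Agent.Cit.CloPoint.Clo
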