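import Mathlib
import Cfsg.Agent.BenderType.Classify

/-!
# CONN / CLOSE: groups with a strongly embedded subgroup contain no two commuting nonabelian 2-subgroups

In the groups of Bender's list the elements `x` with `x * x ≠ 1` of a Sylow 2-subgroup have commutative
centralisers in it (`AC`).
-/

set_option autoImplicit false

namespace Cfsg.Agent.Cit.CloBen

open Cfsg Cfsg.Agent.LieRecognition Cfsg.Agent.LieRecognition.HermHeis Cfsg.Agent.LieRecognition.PSUThreeSylow
open Cfsg.Agent.LieRecognition.SzMatrix Cfsg.Agent.BenderType.Inv Cfsg.Agent.BenderType.Classify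

/-- elements with `x * x ≠ 1` have commutative centralisers -/
def AC (S : Type*) [Group S] : Prop :=
  ∀ x y z : S, x * x ≠ 1 → x * y = y * x → x * z = z * x → y * z = z * y

theorem AC.congr {S T : Type*} [Group S] [Group T] (h : AC S) (e : S ≃* T) : AC T := by
  intro x y z hx hy hz
  apply e.symm.injective
  rw [map_mul, map_mul]
  refine h (e.symm x) _ _ ?_ ?_ ?_
  · intro h1
    apply hx
    apply e.symm.injective
    rw [map_mul, h1, map_one]
  · rw [← map_mul, ← map_mul, hy]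
  · rw [← map_mul, ← map_mul, hz]

theorem AC.of_comm {S : Type*} [Group S] (h : IsMulCommutative S) : AC S :=
  fun _ y z _ _ _ => h.is_comm.comm y z

/-- the algebra behind `AC` for the two families -/
theorem key {F : Type*} [Field F] {σ : F →+* F} {a b c : F} (ha : a ≠ 0) (h1 : a * σ b = b * σ a)
    (h2 : a * σ c = c * σ a) : b * σ c = c * σ b := by
  have hs : σ a ≠ 0 := by rwa [Ne, map_eq_zero]
  have h3 : a * σ a * (b * σ c) = a * σ a * (c * σ b) := by
    linear_combination (b * σ a) * h2 - (c * σ a) * h1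
  exact mul_left_cancel₀ (mul_ne_zero ha hs) h3

theorem ac_heis {F : Type*} [Field F] [CharP F 2] {σ : F →+* F} [hσ : Fact (∀ x, σ (σ x) = x)] :
    AC (Heis σ) := by
  intro x y z hx hy hz
  rw [Ne, HermHeis.mul_self_eq_one_iff] at hx
  rw [commute_iff] at hy hz ⊢
  exact key hx hy hz

theorem ac_unip {F : Type*} [Field F] {θ : F →+* F} {e : ℕ} (H : Good F θ e) : AC H.unip := by
  rintro ⟨x, hx⟩ ⟨y, hy⟩ ⟨z, hz⟩ h1 h2 h3
  obtain ⟨a, b, rfl⟩ := (H.mem_unip_iff x).1 hx
  obtain ⟨c, d, rfl⟩ := (H.mem_unip_iff y).1 hy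
  obtain ⟨f, g, rfl⟩ := (H.mem_unip_iff z).1 hz
  have ha : a ≠ 0 := by
    rintro rfl
    apply h1
    apply Subtype.ext
    show H.u 0 b * H.u 0 b = 1
    rw [H.u_mul, H.add_self, zero_mul, add_zero, H.add_self, H.u_zero]
  have h4 : H.u a b * H.u c d = H.u c d * H.u a b := congrArg Subtype.val h2
  have h5 : H.u a b * H.u f g = H.u f g * H.u a b := congrArg Subtype.val h3
  rw [H.u_mul, H.u_mul] at h4 h5
  have h6 := (H.u_inj h4).2
  have h7 := (H.u_inj h5).2
  have h8 : a * θ c = c * θ a := by linear_combination h6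
  have h9 : a * θ f = f * θ a := by linear_combination h7
  have h10 := key ha h8 h9
  apply Subtype.ext
  show H.u c d * H.u f g = H.u f g * H.u c d
  rw [H.u_mul, H.u_mul]
  congr 1
  · ring
  · linear_combination h10

/-- `AC` for the Sylow 2-subgroups of the groups of Bender's list -/
theorem ac_of_concl {G : Type*} [Group G] [Finite G] (hG : Concl G) (S : Sylow 2 G) :
    AC (S : Subgroup G) := by
  have : Fact (Nat.Prime 2) := ⟨Nat.prime_two⟩
  rcases hG with ⟨F, i1, i2, ⟨k, -, hF⟩, ⟨e⟩⟩ | ⟨F, i1, i2, m, hm, hF, ⟨e⟩⟩ |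
      ⟨F, i1, i2, k, hk, hF, ⟨e⟩⟩
  · by_contra hcon
    refine not_psl S (fun hc => hcon (AC.of_comm hc)) hF e
  · have H := good hF
    have hcF : Nat.card F = 2 ^ (2 * m + 1) := by rw [Nat.card_eq_fintype_card, hF]
    have hodd : ¬ 2 ∣ H.unip.index := by
      have h1 := Subgroup.card_mul_index H.unip
      rw [(S1163.result hm hF).1, H.card_unip, hcF, mul_assoc] at h1
      have h2 := Nat.eq_of_mul_eq_mul_left (by positivity) h1
      rw [h2]
      intro h
      rcases (Nat.Prime.dvd_mul Nat.prime_two).mp h with h | h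
      · have h1 : 1 ≤ 2 ^ (2 * m + 1) := Nat.one_le_two_pow
        have h2 : 2 ∣ 2 ^ (2 * m + 1) := dvd_pow_self 2 (by omega)
        omega
      · have h2 : 2 ∣ (2 ^ (2 * m + 1)) ^ 2 := dvd_pow (dvd_pow_self 2 (by omega)) (by omega)
        omega
    have hpg : IsPGroup 2 H.unip := by
      apply IsPGroup.of_card (n := (2 * m + 1) * 2)
      rw [H.card_unip, hcF, ← pow_mul]
    have : Finite ↥(Cfsg.Lie.Sz F (2 ^ (m + 1))) := Finite.of_equiv G e.toEquiv
    let T : Sylow 2 ↥(Cfsg.Lie.Sz F (2 ^ (m + 1))) := S.mapSurjective (f := e.toMonoidHom) e.surjective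
    have h1 : AC (T : Subgroup ↥(Cfsg.Lie.Sz F (2 ^ (m + 1)))) :=
      (ac_unip H).congr ((hpg.toSylow hodd).equiv T)
    exact h1.congr (e.subgroupMap (S : Subgroup G)).symm
  · have hF' : Nat.card F = (2 ^ k) ^ 2 := by rw [Nat.card_eq_fintype_card, hF]
    obtain ⟨h2, σ, hσ, hs, -, h⟩ := exists_heis_equiv F (show 1 ≤ k by omega) hF'
    obtain ⟨f⟩ := h (S.mapSurjective (f := e.toMonoidHom) e.surjective)
    exact (ac_heis.congr f).congr (e.subgroupMap (S : Subgroup G)).symm

/-- **(BEN)**: in a group of Bender's list a 2-subgroup does not contain an element `x` with `x * x ≠ 1` and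
two elements `y`, `z` commuting with `x` but not with each other. -/
theorem comm_of_concl {G : Type*} [Group G] [Finite G] (hG : Concl G) {P : Subgroup G} (hP : IsPGroup 2 P)
    {x y z : G} (hx : x ∈ P) (hy : y ∈ P) (hz : z ∈ P) (hxx : x * x ≠ 1) (hxy : x * y = y * x)
    (hxz : x * z = z * x) : y * z = z * y := by
  obtain ⟨S, hS⟩ := hP.exists_le_sylow
  have h := ac_of_concl hG S ⟨x, hS hx⟩ ⟨y, hS hy⟩ ⟨z, hS hz⟩ (fun h => hxx (congrArg Subtype.val h))
    (Subtype.ext hxy) (Subtype.ext hxz)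
  exact congrArg Subtype.val h

/-- two commuting nonabelian 2-subgroups do not exist in the groups of Bender's list -/
theorem false_of_concl {G : Type*} [Group G] [Finite G] (hG : Concl G) {P Q R : Subgroup G} (hP : IsPGroup 2 P)
    (hQ : Q ≤ P) (hR : R ≤ P) (hQR : ∀ x ∈ Q, ∀ y ∈ R, x * y = y * x)
    (hQn : ∃ x ∈ Q, ∃ y ∈ Q, x * y ≠ y * x) (hRn : ∃ x ∈ R, ∃ y ∈ R, x * y ≠ y * x) : False := by
  obtain ⟨x, hx, hxx⟩ : ∃ x ∈ Q, x * x ≠ 1 := by
    by_contra hcon
    push Not at hcon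
    obtain ⟨a, ha, b, hb, hab⟩ := hQn
    apply hab
    have h1 : ∀ t ∈ Q, t⁻¹ = t := fun t ht => inv_eq_of_mul_eq_one_left (hcon t ht)
    calc a * b = (a * b)⁻¹ := (h1 _ (Q.mul_mem ha hb)).symm
      _ = b⁻¹ * a⁻¹ := mul_inv_rev a b
      _ = b * a := by rw [h1 a ha, h1 b hb]
  obtain ⟨y, hy, z, hz, hyz⟩ := hRn
  exact hyz (comm_of_concl hG hP (hQ hx) (hR hy) (hR hz) hxx (hQR x hx y hy) (hQR x hx z hz))

end Cfsg.Agent.Cit.CloBen
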