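import Cfsg.Agent.Cit.CloGlue
import Cfsg.Agent.Cit.TwoBasic

/-!
# CONN / CLOSE: LEMMA END (class free reduction of the hypothesis h3 of S1175 to (C))

`c : Clo M QQ`, `S ≤ M` a 2-group, `v ∈ S` an involution, `A` a `v`-invariant set of involutions `zz Q`, `Q ∈ QQ`,
`Q ≤ S`.  Suppose that each `z ∈ A` commuting with `v` is `zz Q` for a `v`-invariant `Q ≤ S` not centralised
by `v`.  Then `v` is conjugate in `S` to `(∏ A) v` (`Clo.exists_conj_prod`).
-/

set_option autoImplicit false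
set_option linter.unusedSectionVars false
set_option linter.unusedVariables false
set_option linter.unusedTactic false

namespace Cfsg.Agent.Cit.CloPoint

open Subgroup Cfsg OneBasic

variable {G : Type*} [Group G]

namespace Clo

variable {M : Subgroup G} {QQ : Set (Subgroup G)}

theorem EE_comm [Finite G] (c : Clo M QQ) {P : Subgroup G} (hP : IsPGroup 2 P) (hPM : P ≤ M) {a b : G}
    (ha : a ∈ EE QQ P) (hb : b ∈ EE QQ P) : a * b = b * a := by
  have h1 := c.EE_sq hP hPM ha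
  have h2 := c.EE_sq hP hPM hb
  have h3 := c.EE_sq hP hPM (mul_mem ha hb)
  calc a * b = a * ((a * b) * (a * b)) * b := by rw [h3, mul_one]
    _ = (a * a) * (b * a) * (b * b) := by group
    _ = b * a := by rw [h1, h2, one_mul, mul_one]

/-- `EE QQ P` centralises the members in `P` -/
theorem EE_comm_mem [Finite G] (c : Clo M QQ) {P : Subgroup G} (hP : IsPGroup 2 P) (hPM : P ≤ M)
    {Q : Subgroup G} (hQ : Q ∈ QQ) (hQP : Q ≤ P) {e : G} (he : e ∈ EE QQ P) {x : G} (hxQ : x ∈ Q) :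
    e * x = x * e := by
  have h5 : EE QQ P ≤ centralizer {x} := by
    rw [EE, closure_le]
    rintro _ ⟨R, hR, hRP, rfl⟩
    rw [SetLike.mem_coe, mem_centralizer_singleton_iff]
    by_cases hQR : Q = R
    · subst hQR
      -- `zz Q` is central in `Q`
      have h6 : x * zz Q * x⁻¹ = zz Q := by
        apply c.uniq Q hQ
        · exact Q.mul_mem (Q.mul_mem hxQ (c.ord Q hQ).1) (Q.inv_mem hxQ)
        · rw [← (c.ord Q hQ).2]
          exact (MulAut.conj x).orderOf_eq _
      rw [mul_inv_eq_iff_eq_mul] at h6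
      exact h6.symm
    · exact c.comm P hP hPM R hR Q hQ hRP hQP (Ne.symm hQR) _ (c.ord R hR).1 _ hxQ
  exact mem_centralizer_singleton_iff.1 (h5 he)

/-- `EE QQ P` is a commutative group -/
@[reducible] def eeGroup [Finite G] (c : Clo M QQ) {P : Subgroup G} (hP : IsPGroup 2 P) (hPM : P ≤ M) :
    CommGroup (EE QQ P) :=
  { (inferInstance : Group (EE QQ P)) with
    mul_comm := fun a b => Subtype.ext (c.EE_comm hP hPM a.2 b.2) }

/-- the product of a finite subset of `EE QQ P`, as an element of `G` -/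
noncomputable def prodE [Finite G] (c : Clo M QQ) {P : Subgroup G} (hP : IsPGroup 2 P) (hPM : P ≤ M)
    (A : Finset (EE QQ P)) : G :=
  letI := c.eeGroup hP hPM
  ((∏ z ∈ A, z : EE QQ P) : G)

section

variable [Finite G] (c : Clo M QQ) {P : Subgroup G} (hP : IsPGroup 2 P) (hPM : P ≤ M)

theorem prodE_mem (A : Finset (EE QQ P)) : c.prodE hP hPM A ∈ EE QQ P := by
  rw [prodE]; exact SetLike.coe_mem _

theorem prodE_empty : c.prodE hP hPM ∅ = 1 := by
  rw [prodE]; rfl

theorem prodE_insert [DecidableEq (EE QQ P)] {A : Finset (EE QQ P)} {z : EE QQ P} (hz : z ∉ A) :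
    c.prodE hP hPM (insert z A) = z * c.prodE hP hPM A := by
  letI := c.eeGroup hP hPM
  have h1 : (∏ x ∈ insert z A, x) = z * ∏ x ∈ A, x := Finset.prod_insert hz
  exact congrArg Subtype.val h1

end

/-- **the conjugating element** -/
theorem exists_conj_prod [Finite G] (c : Clo M QQ) {P : Subgroup G} (hP : IsPGroup 2 P) (hPM : P ≤ M) {v : G}
    (hv : v ∈ P) (hv2 : v * v = 1) (n : ℕ) : ∀ (A : Finset (EE QQ P)), A.card = n →
    (∀ z ∈ A, ∃ Q ∈ QQ, Q ≤ P ∧ zz Q = (z : G)) →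
    (∀ z ∈ A, ∃ z' ∈ A, (z' : G) = v * z * v⁻¹) →
    (∀ z ∈ A, v * (z : G) = z * v → ∃ Q ∈ QQ, Q ≤ P ∧ zz Q = (z : G) ∧ cj v Q = Q ∧ ∃ x ∈ Q, v * x ≠ x * v) →
    ∃ b ∈ closure (⋃ z ∈ A, {x : G | ∃ Q ∈ QQ, Q ≤ P ∧ zz Q = (z : G) ∧ x ∈ Q}),
      b * v * b⁻¹ = c.prodE hP hPM A * v := by
  classical
  induction n using Nat.strong_induction_on with
  | _ n ih =>
    intro A hA h1 h2 h3
    rcases A.eq_empty_or_nonempty with rfl | ⟨z, hz⟩
    · exact ⟨1, one_mem _, by rw [c.prodE_empty hP hPM]; group⟩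
    have hvinv : v⁻¹ = v := inv_eq_of_mul_eq_one_right hv2
    -- elements of the closure commute with `zz Q`, `Q` outside
    have hcl : ∀ (B : Finset (EE QQ P)), B ⊆ A → ∀ b ∈ closure (⋃ z ∈ B, {x : G | ∃ Q ∈ QQ, Q ≤ P ∧ zz Q = (z : G) ∧ x ∈ Q}),
        b ∈ closure (⋃ z ∈ A, {x : G | ∃ Q ∈ QQ, Q ≤ P ∧ zz Q = (z : G) ∧ x ∈ Q}) := by
      intro B hB b hb
      refine closure_mono ?_ hb
      exact Set.biUnion_subset_biUnion_left hB
    have hcomm : ∀ (B : Finset (EE QQ P)), ∀ (e : G), e ∈ EE QQ P →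
        ∀ b ∈ closure (⋃ z ∈ B, {x : G | ∃ Q ∈ QQ, Q ≤ P ∧ zz Q = (z : G) ∧ x ∈ Q}), b * e = e * b := by
      intro B e he b hb
      have h4 : closure (⋃ z ∈ B, {x : G | ∃ Q ∈ QQ, Q ≤ P ∧ zz Q = (z : G) ∧ x ∈ Q})
          ≤ centralizer (EE QQ P : Set G) := by
        rw [closure_le]
        intro x hx
        simp only [Set.mem_iUnion] at hx
        obtain ⟨z, hz, Q, hQ, hQP, -, hxQ⟩ := hx
        rw [SetLike.mem_coe, mem_centralizer_iff]
        intro y hy
        exact c.EE_comm_mem hP hPM hQ hQP hy hxQ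
      exact (mem_centralizer_iff.1 (h4 hb) e he).symm
    by_cases hvz : v * (z : G) = z * v
    · -- `v` fixes `z`
      obtain ⟨Q, hQ, hQP, hQz, hQv, hne⟩ := h3 z hz hvz
      obtain ⟨q, hq, hqv, -⟩ := exists_conj_mul (c.two Q hQ) (z := zz Q) (y := v)
        (fun t ht ht2 ht1 => c.uniq Q hQ t ht (orderOf_eq_prime (by rw [pow_two]; exact ht2) ht1)) hv2
        (mem_normalizer_iff_cj.2 hQv) hne
      obtain ⟨B, hB⟩ : ∃ B, B = A.erase z := ⟨_, rfl⟩
      have hBA : B ⊆ A := by rw [hB]; exact Finset.erase_subset _ _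
      have hzB : z ∉ B := by rw [hB]; exact Finset.notMem_erase _ _
      have hAB : A = insert z B := by rw [hB, Finset.insert_erase hz]
      have hBc : B.card < n := by
        rw [hB, ← hA]; exact Finset.card_erase_lt_of_mem hz
      obtain ⟨b, hb, hbv⟩ := ih B.card hBc B rfl (fun x hx => h1 x (hBA hx)) (by
          intro x hx
          obtain ⟨x', hx', hxx⟩ := h2 x (hBA hx)
          refine ⟨x', ?_, hxx⟩
          rw [hB, Finset.mem_erase]
          refine ⟨?_, hx'⟩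
          rintro rfl
          have h5 : (x : G) = x' := by
            calc (x : G) = v⁻¹ * (v * x * v⁻¹) * v := by group
              _ = v⁻¹ * (x' * v) := by rw [← hxx]; group
              _ = v⁻¹ * (v * x') := by rw [hvz]
              _ = x' := by group
          exact hzB (by rw [← Subtype.ext h5]; exact hx)) (fun x hx => h3 x (hBA hx))
      refine ⟨q * b, mul_mem ?_ (hcl B hBA b hb), ?_⟩
      · apply Subgroup.subset_closure
        simp only [Set.mem_iUnion]
        exact ⟨z, hz, Q, hQ, hQP, hQz, hq⟩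
      · have h5 : q * c.prodE hP hPM B = c.prodE hP hPM B * q := by
          refine hcomm A _ (c.prodE_mem hP hPM B) q (Subgroup.subset_closure ?_)
          simp only [Set.mem_iUnion]
          exact ⟨z, hz, Q, hQ, hQP, hQz, hq⟩
        have h6 : (z : G) * c.prodE hP hPM B = c.prodE hP hPM B * z :=
          c.EE_comm hP hPM z.2 (c.prodE_mem hP hPM B)
        have h7 := c.prodE_insert hP hPM hzB
        rw [← hAB] at h7
        rw [h7]
        calc q * b * v * (q * b)⁻¹ = q * (b * v * b⁻¹) * q⁻¹ := by group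
          _ = (q * c.prodE hP hPM B) * v * q⁻¹ := by rw [hbv]; group
          _ = c.prodE hP hPM B * (q * v * q⁻¹) := by rw [h5]; group
          _ = (c.prodE hP hPM B * z) * v := by rw [hqv, hQz]; group
          _ = z * c.prodE hP hPM B * v := by rw [← h6]
    · -- `v` moves `z`
      obtain ⟨z', hz', hzz⟩ := h2 z hz
      have hne : z' ≠ z := by
        rintro rfl
        apply hvz
        have := hzz.symm
        rwa [mul_inv_eq_iff_eq_mul] at this
      obtain ⟨B, hB⟩ : ∃ B, B = (A.erase z).erase z' := ⟨_, rfl⟩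
      have hz'A : z' ∈ A.erase z := Finset.mem_erase.2 ⟨hne, hz'⟩
      have hBA : B ⊆ A := by
        rw [hB]; exact (Finset.erase_subset _ _).trans (Finset.erase_subset _ _)
      have hz'B : z' ∉ B := by rw [hB]; exact Finset.notMem_erase _ _
      have hA1 : A.erase z = insert z' B := by rw [hB, Finset.insert_erase hz'A]
      have hA2 : A = insert z (A.erase z) := by rw [Finset.insert_erase hz]
      have hBc : B.card < n := by
        rw [hB, ← hA]
        exact (Finset.card_erase_lt_of_mem hz'A).trans (Finset.card_erase_lt_of_mem hz)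
      have hback : v * (z' : G) * v⁻¹ = z := by
        rw [hzz, hvinv]
        calc v * (v * (z : G) * v) * v = (v * v) * z * (v * v) := by group
          _ = z := by rw [hv2]; group
      obtain ⟨b, hb, hbv⟩ := ih B.card hBc B rfl (fun x hx => h1 x (hBA hx)) (by
          intro x hx
          obtain ⟨x', hx', hxx⟩ := h2 x (hBA hx)
          refine ⟨x', ?_, hxx⟩
          have hx2 : x ≠ z' ∧ x ≠ z := by
            rw [hB, Finset.mem_erase, Finset.mem_erase] at hx
            exact ⟨hx.1, hx.2.1⟩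
          rw [hB, Finset.mem_erase, Finset.mem_erase]
          refine ⟨?_, ?_, hx'⟩
          · rintro rfl
            apply hx2.2
            apply Subtype.ext
            have h5 : v * (x : G) * v⁻¹ = v * z * v⁻¹ := by rw [← hxx, hzz]
            exact mul_left_cancel (mul_right_cancel h5)
          · rintro rfl
            apply hx2.1
            apply Subtype.ext
            have h5 : v * (x : G) * v⁻¹ = v * z' * v⁻¹ := by rw [← hxx, hback]
            exact mul_left_cancel (mul_right_cancel h5)) (fun x hx => h3 x (hBA hx))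
      obtain ⟨Q, hQ, hQP, hQz⟩ := h1 z hz
      have hzm : (z : G) ∈ closure (⋃ z ∈ A, {x : G | ∃ Q ∈ QQ, Q ≤ P ∧ zz Q = (z : G) ∧ x ∈ Q}) := by
        apply Subgroup.subset_closure
        simp only [Set.mem_iUnion]
        exact ⟨z, hz, Q, hQ, hQP, hQz, by rw [← hQz]; exact (c.ord Q hQ).1⟩
      refine ⟨z * b, mul_mem hzm (hcl B hBA b hb), ?_⟩
      have h7 := c.prodE_insert hP hPM hz'B
      rw [← hA1] at h7
      have h8 := c.prodE_insert hP hPM (Finset.notMem_erase z A)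
      rw [← hA2, h7] at h8
      rw [h8]
      have hzi : (z : G)⁻¹ = z := inv_eq_of_mul_eq_one_right (c.EE_sq hP hPM z.2)
      have h5 : (z : G) * c.prodE hP hPM B = c.prodE hP hPM B * z :=
        c.EE_comm hP hPM z.2 (c.prodE_mem hP hPM B)
      have h6 : (z' : G) * c.prodE hP hPM B = c.prodE hP hPM B * z' :=
        c.EE_comm hP hPM z'.2 (c.prodE_mem hP hPM B)
      have h9 : v * (z : G) = z' * v := by rw [hzz]; group
      calc (z : G) * b * v * ((z : G) * b)⁻¹ = z * (b * v * b⁻¹) * (z : G)⁻¹ := by group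
        _ = (z * c.prodE hP hPM B) * (v * z) := by rw [hbv, hzi]; group
        _ = z * (c.prodE hP hPM B * z') * v := by rw [h9]; group
        _ = z * (z' * c.prodE hP hPM B) * v := by rw [← h6]
        _ = _ := by group

/-- conjugation of `prodE` -/
theorem conj_prodE [Finite G] (c : Clo M QQ) {P : Subgroup G} (hP : IsPGroup 2 P) (hPM : P ≤ M) {s : G} (hs : s ∈ P)
    (A : Finset (EE QQ P)) (hA : ∀ z ∈ A, ∃ z' ∈ A, (z' : G) = s * z * s⁻¹) :
    s * c.prodE hP hPM A * s⁻¹ = c.prodE hP hPM A := by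
  classical
  letI := c.eeGroup hP hPM
  let φ : EE QQ P →* EE QQ P :=
    { toFun := fun e => ⟨s * e * s⁻¹, c.conj_mem_EE hPM hs e.2⟩
      map_one' := by apply Subtype.ext; simp
      map_mul' := fun e f => by
        apply Subtype.ext
        show s * ((e : G) * f) * s⁻¹ = s * e * s⁻¹ * (s * f * s⁻¹)
        group }
  have hinj : Function.Injective φ := by
    intro e f hef
    have h1 : s * (e : G) * s⁻¹ = s * f * s⁻¹ := congrArg Subtype.val hef
    exact Subtype.ext (mul_left_cancel (mul_right_cancel h1))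
  have himg : A.image φ = A := by
    apply Finset.eq_of_subset_of_card_le
    · intro y hy
      obtain ⟨x, hx, rfl⟩ := Finset.mem_image.1 hy
      obtain ⟨z', hz', h⟩ := hA x hx
      have : φ x = z' := Subtype.ext h.symm
      rw [this]
      exact hz'
    · rw [Finset.card_image_of_injective _ hinj]
  have h1 : φ (∏ z ∈ A, z) = ∏ z ∈ A, z := by
    rw [map_prod]
    conv_rhs => rw [← himg]
    rw [Finset.prod_image (fun x _ y _ h => hinj h)]
  exact congrArg Subtype.val h1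

/-- **(END)**: the hypothesis of `CloEnd.stronglyEmbedded_of_central` from (C) -/
theorem central_le [Finite G] (c : Clo M QQ) (S : Sylow 2 G) (hS : (S : Subgroup G) ≤ M)
    (A : Finset (EE QQ (S : Subgroup G)))
    (hA1 : ∀ z ∈ A, ∃ Q ∈ QQ, Q ≤ (S : Subgroup G) ∧ zz Q = (z : G))
    (hA2 : ∀ s ∈ S, ∀ z ∈ A, ∃ z' ∈ A, (z' : G) = s * z * s⁻¹)
    (hw1 : c.prodE S.isPGroup' hS A ≠ 1)
    (hC : ∀ Q ∈ QQ, Q ≤ (S : Subgroup G) → ∀ r ∈ S, r * r = 1 → r ≠ 1 → (∀ x ∈ Q, r * x = x * r) →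
      centralizer {r} ≤ M)
    (hfix : ∀ s ∈ S, s * s = 1 → ∀ z ∈ A, s * (z : G) = z * s →
      ∃ Q ∈ QQ, Q ≤ (S : Subgroup G) ∧ zz Q = (z : G) ∧ cj s Q = Q) :
    ∀ g ∈ M, c.prodE S.isPGroup' hS A * (g * c.prodE S.isPGroup' hS A * g⁻¹)
        = (g * c.prodE S.isPGroup' hS A * g⁻¹) * c.prodE S.isPGroup' hS A →
      g * c.prodE S.isPGroup' hS A * g⁻¹ ≠ c.prodE S.isPGroup' hS A →
      centralizer ({c.prodE S.isPGroup' hS A * (g * c.prodE S.isPGroup' hS A * g⁻¹)} : Set G) ≤ M := by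
  have hwE := c.prodE_mem S.isPGroup' hS A
  have hwc : ∀ s ∈ S, s * c.prodE S.isPGroup' hS A = c.prodE S.isPGroup' hS A * s := by
    intro s hs
    have h1 := c.conj_prodE S.isPGroup' hS hs A (hA2 s hs)
    rwa [mul_inv_eq_iff_eq_mul] at h1
  have hprod : ∀ v ∈ S, v * v = 1 →
      (∀ z ∈ A, v * (z : G) = z * v → ∃ Q ∈ QQ, Q ≤ (S : Subgroup G) ∧ zz Q = (z : G) ∧ cj v Q = Q ∧
        ∃ x ∈ Q, v * x ≠ x * v) → ∃ b ∈ S, b * v * b⁻¹ = c.prodE S.isPGroup' hS A * v := by
    intro v hv hv2 h3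
    obtain ⟨b, hb, hbv⟩ := c.exists_conj_prod S.isPGroup' hS hv hv2 A.card A rfl hA1 (hA2 v hv) h3
    refine ⟨b, ?_, hbv⟩
    have h4 : closure (⋃ z ∈ A, {x : G | ∃ Q ∈ QQ, Q ≤ (S : Subgroup G) ∧ zz Q = (z : G) ∧ x ∈ Q})
        ≤ (S : Subgroup G) := by
      rw [closure_le]
      intro x hx
      simp only [Set.mem_iUnion] at hx
      obtain ⟨z, hz, Q, hQ, hQP, -, hxQ⟩ := hx
      exact hQP hxQ
    exact h4 hb
  obtain ⟨w, hw⟩ : ∃ w, w = c.prodE S.isPGroup' hS A := ⟨_, rfl⟩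
  rw [← hw] at hwE hwc hprod hw1 ⊢
  have hgood : CloEnd.Good M w := c.good S.isPGroup' hS hwE hw1
  have hwS : w ∈ S := c.EE_le hwE
  intro g hg hcomm hne
  -- move `w' = g w g⁻¹` into `S`
  have hSC : (S : Subgroup G) ≤ centralizer {w} := fun s hs => mem_centralizer_singleton_iff.2 (hwc s hs)
  have hw'sq : (g * w * g⁻¹) * (g * w * g⁻¹) = 1 := (hgood.conj hg).sq
  have hw'C : g * w * g⁻¹ ∈ centralizer {w} := mem_centralizer_singleton_iff.2 hcomm.symm
  have : Fact (Nat.Prime 2) := ⟨Nat.prime_two⟩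
  obtain ⟨T, hT⟩ := (CloEnd.isPGroup_zpowers (t := (⟨g * w * g⁻¹, hw'C⟩ : centralizer {w}))
    (Subtype.ext hw'sq)).exists_le_sylow
  have hTm : (⟨g * w * g⁻¹, hw'C⟩ : centralizer {w}) ∈ T := hT (mem_zpowers _)
  obtain ⟨d, hd⟩ := MulAction.exists_smul_eq (centralizer {w}) T (S.subtype hSC)
  have hdw : (d : G) * w = w * d := mem_centralizer_singleton_iff.1 d.2
  have hdM : (d : G) ∈ M := hgood.cent d.2
  obtain ⟨v, hvdef⟩ : ∃ v, v = (d : G) * (g * w * g⁻¹) * (d : G)⁻¹ := ⟨_, rfl⟩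
  have hvS : v ∈ S := by
    have h1 : d * ⟨g * w * g⁻¹, hw'C⟩ * d⁻¹ ∈ (d • T : Sylow 2 (centralizer {w})) := by
      rw [← SetLike.mem_coe, Sylow.coe_smul]
      exact ⟨⟨g * w * g⁻¹, hw'C⟩, hTm, rfl⟩
    rw [hd] at h1
    rw [hvdef]
    exact h1
  have hvgood : CloEnd.Good M v := by
    rw [hvdef]
    exact (hgood.conj hg).conj hdM
  have hvw : v ≠ w := by
    intro h
    apply hne
    have h1 : (d : G)⁻¹ * v * d = g * w * g⁻¹ := by rw [hvdef]; group
    rw [← h1, h]
    calc (d : G)⁻¹ * w * d = (d : G)⁻¹ * (w * d) := by group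
      _ = (d : G)⁻¹ * (d * w) := by rw [hdw]
      _ = w := by group
  have hvwc : v * w = w * v := hwc v hvS
  have hww : w * w = 1 := hgood.sq
  -- it suffices to treat `w v`
  suffices hmain : centralizer {w * v} ≤ M by
    intro x hx
    rw [mem_centralizer_singleton_iff] at hx
    have h1 : (d : G) * x * (d : G)⁻¹ ∈ M := by
      apply hmain
      rw [mem_centralizer_singleton_iff]
      have h2 : w * v = d * (w * (g * w * g⁻¹)) * (d : G)⁻¹ := by
        rw [hvdef]
        calc w * ((d : G) * (g * w * g⁻¹) * (d : G)⁻¹) = (w * d) * (g * w * g⁻¹) * (d : G)⁻¹ := by group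
          _ = (d * w) * (g * w * g⁻¹) * (d : G)⁻¹ := by rw [hdw]
          _ = _ := by group
      rw [h2]
      calc (d : G) * x * (d : G)⁻¹ * (d * (w * (g * w * g⁻¹)) * (d : G)⁻¹)
          = d * (x * (w * (g * w * g⁻¹))) * (d : G)⁻¹ := by group
        _ = d * ((w * (g * w * g⁻¹)) * x) * (d : G)⁻¹ := by rw [hx]
        _ = _ := by group
    have h3 : x = (d : G)⁻¹ * ((d : G) * x * (d : G)⁻¹) * d := by group
    rw [h3]
    exact M.mul_mem (M.mul_mem (M.inv_mem hdM) h1) hdM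
  by_cases hcase : ∃ z ∈ A, ∃ Q ∈ QQ, Q ≤ (S : Subgroup G) ∧ zz Q = (z : G) ∧ ∀ x ∈ Q, v * x = x * v
  · obtain ⟨z, hz, Q, hQ, hQS, hQz, hvQ⟩ := hcase
    refine hC Q hQ hQS (w * v) (S.mul_mem hwS hvS) ?_ ?_ ?_
    · calc w * v * (w * v) = w * (v * w) * v := by group
        _ = w * (w * v) * v := by rw [hvwc]
        _ = (w * w) * (v * v) := by group
        _ = 1 := by rw [hww, hvgood.sq, one_mul]
    · intro h
      apply hvw
      calc v = (w * w) * v := by rw [hww, one_mul]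
        _ = w * (w * v) := by group
        _ = w := by rw [h, mul_one]
    · intro x hx
      have h1 := c.EE_comm_mem S.isPGroup' hS hQ hQS hwE hx
      calc w * v * x = w * (v * x) := by group
        _ = w * (x * v) := by rw [hvQ x hx]
        _ = (w * x) * v := by group
        _ = (x * w) * v := by rw [h1]
        _ = x * (w * v) := by group
  · push_neg at hcase
    obtain ⟨b, hb, hbv⟩ := hprod v hvS hvgood.sq (by
      intro z hz hvz
      obtain ⟨Q, hQ, hQS, hQz, hQv⟩ := hfix v hvS hvgood.sq z hz hvz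
      exact ⟨Q, hQ, hQS, hQz, hQv, hcase z hz Q hQ hQS hQz⟩)
    rw [← hbv]
    exact (hvgood.conj (hS hb)).cent

/-- **(END)** of the closing -/
theorem false_of_prod [Finite G] (c : Clo M QQ) (hM : M ≠ ⊤) (hB : CloEnd.Bend G) (hc : CloEnd.Crit1175 G)
    (S : Sylow 2 G) (hS : (S : Subgroup G) ≤ M)
    (htwo : ∃ Q ∈ QQ, ∃ R ∈ QQ, Q ≤ (S : Subgroup G) ∧ R ≤ (S : Subgroup G) ∧ Q ≠ R)
    (A : Finset (EE QQ (S : Subgroup G)))
    (hA1 : ∀ z ∈ A, ∃ Q ∈ QQ, Q ≤ (S : Subgroup G) ∧ zz Q = (z : G))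
    (hA2 : ∀ s ∈ S, ∀ z ∈ A, ∃ z' ∈ A, (z' : G) = s * z * s⁻¹)
    (hw1 : c.prodE S.isPGroup' hS A ≠ 1)
    (hC : ∀ Q ∈ QQ, Q ≤ (S : Subgroup G) → ∀ r ∈ S, r * r = 1 → r ≠ 1 → (∀ x ∈ Q, r * x = x * r) →
      centralizer {r} ≤ M)
    (hfix : ∀ s ∈ S, s * s = 1 → ∀ z ∈ A, s * (z : G) = z * s →
      ∃ Q ∈ QQ, Q ≤ (S : Subgroup G) ∧ zz Q = (z : G) ∧ cj s Q = Q) : False := by
  obtain ⟨Q, hQ, R, hR, hQS, hRS, hQR⟩ := htwo
  have hwE := c.prodE_mem S.isPGroup' hS A
  refine CloEnd.false_of_central (c.two' S.isPGroup' hS hQ hR hQS hRS hQR) hB hc hM c.hTwo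
    (c.good S.isPGroup' hS hwE hw1) S (c.EE_le hwE) ?_ (c.central_le S hS A hA1 hA2 hw1 hC hfix)
  intro s hs
  have h1 := c.conj_prodE S.isPGroup' hS hs A (hA2 s hs)
  rwa [mul_inv_eq_iff_eq_mul] at h1

end Clo

end Cfsg.Agent.Cit.CloPoint
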