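import Cfsg.Agent.Cit.CloEven
import Cfsg.Agent.Cit.CloLemmaEnd

/-!
# CONN / CLOSE: every good involution is conjugate to `zz Q`; the end of the closing

bb R18 #9240. `c : Clo M QQ`, one class of involutions `zz Q`, `M ≠ ⊤`,
`(C)` : the centraliser of an involution centralising some `Q ∈ QQ` is in `M`.

* `Prod M QQ` : `(P1)` : `zz Q * zz R` is good for commuting `zz Q ≠ zz R`.
* `Clo.isConj_of` : `(P1)` and `(P4)` for the good involution `v` give `v ∈ D`.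
* `Clo.false_of_class` : if all `e ≠ 1` in `EE QQ S` are in `D`: contradiction (S1175, Bender).
* `Clo.false_of_tau_one` : `τ = 1` : each involution commuting with `zz Q` normalises some `Q' ∈ QQ` with
  `zz Q' = zz Q`.
* `Clo.false_of_tau_two` : `τ = 2`.
-/

set_option autoImplicit false
set_option linter.unusedSectionVars false
set_option linter.style.haveILetI false

namespace Cfsg.Agent.Cit.CloPoint

open Subgroup Cfsg OneBasic

variable {G : Type*} [Group G]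

/-- `D ∩ M` : one class -/
def OneClass (QQ : Set (Subgroup G)) : Prop := ∀ Q ∈ QQ, ∀ R ∈ QQ, ∃ g : G, g * zz Q * g⁻¹ = zz R

/-- `f` normalises some `Q' ∈ QQ` with `zz Q' = zz Q` -/
def Nrm (QQ : Set (Subgroup G)) (Q : Subgroup G) (f : G) : Prop := ∃ R ∈ QQ, zz R = zz Q ∧ cj f R = R

/-- (C) -/
def CC (M : Subgroup G) (QQ : Set (Subgroup G)) : Prop :=
  ∀ Q ∈ QQ, ∀ r : G, r * r = 1 → r ≠ 1 → (∀ x ∈ Q, r * x = x * r) → centralizer {r} ≤ M

/-- (P1) -/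
def PP (M : Subgroup G) (QQ : Set (Subgroup G)) : Prop :=
  ∀ Q ∈ QQ, ∀ R ∈ QQ, zz Q * zz R = zz R * zz Q → zz Q ≠ zz R → CloEnd.Good M (zz Q * zz R)

theorem mul_sq {a b : G} (ha : a * a = 1) (hb : b * b = 1) (hab : a * b = b * a) : a * b * (a * b) = 1 := by
  calc a * b * (a * b) = a * (b * a) * b := by group
    _ = a * (a * b) * b := by rw [hab]
    _ = (a * a) * (b * b) := by group
    _ = 1 := by rw [ha, hb, one_mul]

theorem mul_ne {a b : G} (ha : a * a = 1) (hne : a ≠ b) : a * b ≠ 1 := by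
  intro h
  apply hne
  calc a = a * (a * b) := by rw [h, mul_one]
    _ = (a * a) * b := by group
    _ = b := by rw [ha, one_mul]

namespace Clo

variable {M : Subgroup G} {QQ : Set (Subgroup G)}

/-- `zz Q` commutes with the elements of `Q` -/
theorem zz_comm (c : Clo M QQ) {Q : Subgroup G} (hQ : Q ∈ QQ) {x : G} (hx : x ∈ Q) :
    zz Q * x = x * zz Q := by
  have h6 : x * zz Q * x⁻¹ = zz Q := by
    apply c.uniq Q hQ
    · exact Q.mul_mem (Q.mul_mem hx (c.ord Q hQ).1) (Q.inv_mem hx)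
    · rw [← (c.ord Q hQ).2]
      exact (MulAut.conj x).orderOf_eq _
  rw [mul_inv_eq_iff_eq_mul] at h6
  exact h6.symm

theorem good_mem (c : Clo M QQ) [Finite G] {Q : Subgroup G} (hQ : Q ∈ QQ) {x : G}
    (hx : x * zz Q = zz Q * x) : x ∈ M := CloEnd.mem_of_comm (c.good_zz hQ) hx

/-- an element of `D` in `M` is `zz Q` -/
theorem exists_of_conj [Finite G] (c : Clo M QQ) {Q : Subgroup G} (hQ : Q ∈ QQ) {d : G}
    (hd : IsConj (zz Q) d) (hdM : d ∈ M) : ∃ R ∈ QQ, zz R = d := by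
  obtain ⟨g, rfl⟩ := isConj_iff.1 hd
  have hg : g ∈ M := c.h2 Q hQ g hdM
  exact ⟨cj g Q, c.inv g hg Q hQ, c.zz_cj hQ g⟩

/-- a good involution has exactly one fixed point -/
theorem fix_eq [Finite G] (c : Clo M QQ) {f : G} (hf : CloEnd.Good M f) {a : G ⧸ M} (ha : f • a = a) :
    a = QuotientGroup.mk 1 := by
  induction a using QuotientGroup.induction_on with
  | H g =>
    have e : f • (QuotientGroup.mk g : G ⧸ M) = QuotientGroup.mk (f * g) := rfl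
    rw [e, eq_comm, QuotientGroup.eq] at ha
    have h4 : g⁻¹ * f * (g⁻¹)⁻¹ ∈ M := by rw [inv_inv, mul_assoc]; exact ha
    have h5 := c.hTwo f hf _ h4
    rw [eq_comm, QuotientGroup.eq]
    simpa using h5

theorem smul_one_iff (x : G) : x • (QuotientGroup.mk 1 : G ⧸ M) = QuotientGroup.mk 1 ↔ x ∈ M := by
  have e : x • (QuotientGroup.mk 1 : G ⧸ M) = QuotientGroup.mk (x * 1) := rfl
  rw [e, mul_one, eq_comm, QuotientGroup.eq]; simp

theorem not_bad [Finite G] (c : Clo M QQ) {f : G} (hf : CloEnd.Good M f) : ¬ CloEven.Bad (G ⧸ M) f := by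
  rintro ⟨a, b, hab, ha, hb⟩
  exact hab ((c.fix_eq hf ha).trans (c.fix_eq hf hb).symm)

/-- the action on the cosets -/
theorem act [Finite G] (c : Clo M QQ) (hM : M ≠ ⊤) (hP : PP M QQ) {Q : Subgroup G}
    (hQ : Q ∈ QQ) : CloEven.Act (G ⧸ M) (zz Q) where
  sq := c.zz_mul hQ
  ne := c.zz_ne hQ
  trans a b := by
    obtain ⟨g, hg⟩ := MulAction.exists_smul_eq G a b
    exact ⟨g, hg⟩
  two := by
    by_contra hcon
    push Not at hcon
    apply hM
    rw [Subgroup.eq_top_iff']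
    intro g
    have := hcon (QuotientGroup.mk 1 : G ⧸ M) (QuotientGroup.mk g)
    rw [QuotientGroup.eq] at this
    simpa using this
  pt := by
    refine ⟨QuotientGroup.mk 1, (smul_one_iff _).2 (c.good_zz hQ).mem, ?_⟩
    intro b hb
    exact c.fix_eq (c.good_zz hQ) hb
  p1 := by
    intro d e hd he hcomm hne hbad
    obtain ⟨x, rfl⟩ := isConj_iff.1 hd
    have h1 : IsConj (zz Q) (x⁻¹ * e * x) := he.trans (isConj_iff.2 ⟨x⁻¹, by rw [inv_inv]⟩)
    have h2 : (x⁻¹ * e * x) * zz Q = zz Q * (x⁻¹ * e * x) := by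
      calc (x⁻¹ * e * x) * zz Q = x⁻¹ * (e * (x * zz Q * x⁻¹)) * x := by group
        _ = x⁻¹ * ((x * zz Q * x⁻¹) * e) * x := by rw [hcomm]
        _ = _ := by group
    obtain ⟨R, hR, hRe⟩ := c.exists_of_conj hQ h1 (c.good_mem hQ h2)
    rw [← hRe] at h2
    have h3 : zz Q ≠ zz R := by
      intro h4
      apply hne
      rw [h4, hRe]; group
    have h5 := c.not_bad (hP Q hQ R hR h2.symm h3)
    apply h5
    have h6 := hbad.conj (g := x⁻¹)
    have h7 : x⁻¹ * (x * zz Q * x⁻¹ * e) * x⁻¹⁻¹ = zz Q * zz R := by rw [hRe]; group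
    rwa [h7] at h6

/-- **CLOSE-A** for `Clo` -/
theorem isConj_of [Finite G] (c : Clo M QQ) (hM : M ≠ ⊤) (hP : PP M QQ) {Q : Subgroup G} (hQ : Q ∈ QQ)
    {v : G} (hv : CloEnd.Good M v) (hvQ : v * zz Q = zz Q * v)
    (h4 : ∀ R ∈ QQ, (∃ g : G, g * zz Q * g⁻¹ = zz R) → zz R * v = v * zz R → zz R ≠ v →
      ¬ CloEven.Bad (G ⧸ M) (v * zz R)) : IsConj (zz Q) v := by
  refine (c.act hM hP hQ).isConj_of hv.sq (IsConj.refl _) hvQ (c.not_bad hv) ?_
  intro d hd hdv hne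
  obtain ⟨R, hR, rfl⟩ := c.exists_of_conj hQ hd (CloEnd.mem_of_comm hv hdv)
  exact h4 R hR (isConj_iff.1 hd) hdv hne

/-- the normalising case of (P1) and (P4) -/
theorem good_of_nrm [Finite G] (c : Clo M QQ) (hC : CC M QQ) {Q : Subgroup G} (hQ : Q ∈ QQ)
    {f : G} (hf : CloEnd.Good M f) (hne : zz Q ≠ f) (hfQ : f * zz Q = zz Q * f) (hN : Nrm QQ Q f) :
    CloEnd.Good M (zz Q * f) := by
  obtain ⟨R, hR, hRQ, hRf⟩ := hN
  by_cases hcen : ∀ x ∈ R, f * x = x * f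
  · have h1 : zz Q * f * (zz Q * f) = 1 := mul_sq (c.zz_mul hQ) hf.sq hfQ.symm
    have h2 : zz Q * f ≠ 1 := mul_ne (c.zz_mul hQ) hne
    refine ⟨M.mul_mem (c.good_zz hQ).mem hf.mem, h1, h2, hC R hR _ h1 h2 ?_⟩
    intro x hx
    have h3 := c.zz_comm hR hx
    rw [hRQ] at h3
    calc zz Q * f * x = zz Q * (f * x) := by group
      _ = zz Q * (x * f) := by rw [hcen x hx]
      _ = (zz Q * x) * f := by group
      _ = x * (zz Q * f) := by rw [h3]; group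
  · push Not at hcen
    obtain ⟨b, hb, hbf, -⟩ := exists_conj_mul (c.two R hR) (z := zz R) (y := f)
        (fun t ht ht2 ht1 => c.uniq R hR t ht (orderOf_eq_prime (by rw [pow_two]; exact ht2) ht1)) hf.sq
        (mem_normalizer_iff_cj.2 hRf) hcen
    rw [hRQ] at hbf
    rw [← hbf]
    exact hf.conj (c.le R hR hb)

theorem pp_of_tau_one [Finite G] (c : Clo M QQ) (hC : CC M QQ)
    (hN : ∀ Q ∈ QQ, ∀ f : G, f * f = 1 → f * zz Q = zz Q * f → Nrm QQ Q f) : PP M QQ := by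
  intro Q hQ R hR hcomm hne
  exact c.good_of_nrm hC hQ (c.good_zz hR) hne hcomm.symm (hN Q hQ _ (c.zz_mul hR) hcomm.symm)

/-- `τ = 1` : every good involution commuting with `zz Q` is in `D` -/
theorem isConj_of_tau_one [Finite G] (c : Clo M QQ) (hM : M ≠ ⊤) (hC : CC M QQ)
    (hN : ∀ Q ∈ QQ, ∀ f : G, f * f = 1 → f * zz Q = zz Q * f → Nrm QQ Q f) {Q : Subgroup G} (hQ : Q ∈ QQ)
    {v : G} (hv : CloEnd.Good M v) (hvQ : v * zz Q = zz Q * v) : IsConj (zz Q) v := by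
  refine c.isConj_of hM (c.pp_of_tau_one hC hN) hQ hv hvQ ?_
  intro R hR _ hRv hne
  rw [← hRv]
  exact c.not_bad (c.good_of_nrm hC hR hv hne hRv.symm (hN R hR v hv.sq hRv.symm))

/-- an element `≠ 1` of `EE QQ S` central in the Sylow 2-subgroup `S ≤ M` -/
theorem exists_central [Finite G] (c : Clo M QQ) (S : Sylow 2 G) (hS : (S : Subgroup G) ≤ M) :
    ∃ w ∈ EE QQ (S : Subgroup G), w ≠ 1 ∧ ∀ s ∈ S, s * w = w * s := by
  have : Fact (Nat.Prime 2) := ⟨Nat.prime_two⟩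
  obtain ⟨Q, hQ, hQS⟩ := c.syl S (syl_of_sylow hS)
  have hzE : zz Q ∈ EE QQ (S : Subgroup G) := subset_closure ⟨Q, hQ, hQS, rfl⟩
  have hES : EE QQ (S : Subgroup G) ≤ S := c.EE_le
  have hnorm : (S : Subgroup G) ≤ normalizer (EE QQ (S : Subgroup G) : Set G) := by
    intro s hs
    rw [mem_normalizer_iff]
    intro x
    refine ⟨fun hx => c.conj_mem_EE hS hs hx, fun hx => ?_⟩
    have := c.conj_mem_EE hS (S.inv_mem hs) hx
    simpa [mul_assoc] using this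
  have hnn : ((EE QQ (S : Subgroup G)).subgroupOf S).Normal := (normal_subgroupOf_iff_le_normalizer hES).2 hnorm
  have hne : (EE QQ (S : Subgroup G)).subgroupOf S ≠ ⊥ := by
    intro h
    have h1 : (⟨zz Q, hES hzE⟩ : S) ∈ (EE QQ (S : Subgroup G)).subgroupOf S := mem_subgroupOf.2 hzE
    rw [h, mem_bot] at h1
    exact c.zz_ne hQ (congrArg Subtype.val h1)
  have hnil : Group.IsNilpotent S := S.isPGroup'.isNilpotent
  have h1 := Cfsg.Agent.Lib.NormalAbelian.normal_inf_center_ne_bot ((EE QQ (S : Subgroup G)).subgroupOf S) hne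
  obtain ⟨⟨w, hw⟩, hw1⟩ := Subgroup.ne_bot_iff_exists_ne_one.1 h1
  refine ⟨w, mem_subgroupOf.1 hw.1, fun h => hw1 (Subtype.ext (Subtype.ext h)), ?_⟩
  intro s hs
  exact congrArg Subtype.val (mem_center_iff.1 hw.2 ⟨s, hs⟩)

/-- the end: `w ∈ Z(S) ∩ EE QQ S` is in `D`, S1175 and Bender's theorem -/
theorem false_of_class [Finite G] (c : Clo M QQ) (hM : M ≠ ⊤) (hB : CloEnd.Bend G) (hc : CloEnd.Crit1175 G)
    (hP : PP M QQ) (S : Sylow 2 G) (hS : (S : Subgroup G) ≤ M)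
    (htwo : ∃ Q ∈ QQ, ∃ R ∈ QQ, Q ≤ (S : Subgroup G) ∧ R ≤ (S : Subgroup G) ∧ Q ≠ R)
    (hD : ∀ e ∈ EE QQ (S : Subgroup G), e ≠ 1 → ∃ R ∈ QQ, zz R = e) : False := by
  obtain ⟨Q, hQ, R, hR, hQS, hRS, hQR⟩ := htwo
  obtain ⟨w, hwE, hw1, hwc⟩ := c.exists_central S hS
  refine CloEnd.false_of_central (c.two' S.isPGroup' hS hQ hR hQS hRS hQR) hB hc hM c.hTwo
    (c.good S.isPGroup' hS hwE hw1) S (c.EE_le hwE) hwc ?_
  intro g hg hcomm hne
  obtain ⟨L, hL, rfl⟩ := hD w hwE hw1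
  rw [← c.zz_cj hL g] at hcomm hne ⊢
  exact (hP L hL (cj g L) (c.inv g hg L hL) hcomm (Ne.symm hne)).cent

/-- **THE CLOSING THEOREM FOR `τ = 1`** -/
theorem false_of_tau_one [Finite G] (c : Clo M QQ) (hM : M ≠ ⊤) (hB : CloEnd.Bend G) (hc : CloEnd.Crit1175 G)
    (hC : CC M QQ) (hN : ∀ Q ∈ QQ, ∀ f : G, f * f = 1 → f * zz Q = zz Q * f → Nrm QQ Q f)
    (htwo : ∃ P : Subgroup G, IsPGroup 2 P ∧ P ≤ M ∧ ∃ Q ∈ QQ, ∃ R ∈ QQ, Q ≤ P ∧ R ≤ P ∧ Q ≠ R) : False := by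
  obtain ⟨P, hP, hPM, Q, hQ, R, hR, hQP, hRP, hQR⟩ := htwo
  -- a Sylow subgroup containing `P`
  obtain ⟨S, hPS⟩ := hP.exists_le_sylow
  have hS : (S : Subgroup G) ≤ M :=
    (c.good_zz hQ).le c.hTwo S.isPGroup' (hPS (hQP (c.ord Q hQ).1))
  refine c.false_of_class hM hB hc (c.pp_of_tau_one hC hN) S hS
    ⟨Q, hQ, R, hR, hQP.trans hPS, hRP.trans hPS, hQR⟩ ?_
  intro e he he1
  have h1 := c.isConj_of_tau_one hM hC hN hQ (c.good S.isPGroup' hS he he1)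
    (c.EE_comm_mem S.isPGroup' hS hQ (hQP.trans hPS) he (c.ord Q hQ).1)
  exact c.exists_of_conj hQ h1 (hS (c.EE_le he))

/-- `τ = 1`, without S1175: `zz Q * zz R` is in `D` for all members `Q`, `R` of a common 2-group -/
theorem exists_mul_of_tau_one [Finite G] (c : Clo M QQ) (hM : M ≠ ⊤)
    (hC : CC M QQ) (hN : ∀ Q ∈ QQ, ∀ f : G, f * f = 1 → f * zz Q = zz Q * f → Nrm QQ Q f)
    {P : Subgroup G} (hP : IsPGroup 2 P) (hPM : P ≤ M) {Q : Subgroup G} (hQ : Q ∈ QQ)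
    (hQP : Q ≤ P) {e : G} (he : e ∈ EE QQ P) (he1 : e ≠ 1) : ∃ R ∈ QQ, zz R = e := by
  have h1 := c.isConj_of_tau_one hM hC hN hQ (c.good hP hPM he he1)
    (c.EE_comm_mem hP hPM hQ hQP he (c.ord Q hQ).1)
  exact c.exists_of_conj hQ h1 (hPM (c.EE_le he))

end Clo

end Cfsg.Agent.Cit.CloPoint
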