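import Mathlib

/-!
helper998: LEMMA CP of the connectivity theorem (project CIT, helper89's bb #7038 (A)).

Central products of quaternion groups acting on sets: if the central subgroup `Z` acts semiregularly on the
finite set `Y` and there are `a` pairs `x i, y i` (commuting with each other for different indices and with `Z`)
with `x i * x i ∈ Z` and `⁅x i, y i⁆ = s`, `1 ≠ s ∈ Z`, then `|Z| 2 ^ a ≤ |Y|` (`card_mul_two_pow_le`).

* `false_of_card_le` : `m` pairwise commuting quaternion groups `⟨x i, y i⟩` with involutions `s i` cannot act on a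
  non-empty set `Y` with `|Y| ≤ 2 m` if no element `≠ 1` of `⟨s i⟩` fixes a point of `Y` (**LEMMA CP**);
* `false_of_subgroups` : the same for subgroups `R i` containing such pairs;
* `false_of_conj` : the action by conjugation on a set `Y` of elements of a group.
-/

set_option autoImplicit false
set_option linter.unusedSectionVars false

namespace Cfsg.Agent.Cit.CloCount

open Subgroup

section Abs

variable {P X : Type*} [Group P] [MulAction P X]

/-- `Z ∪ Z x` for an element `x` commuting with `Z`, with `x * x ∈ Z`. -/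
def ext (Z : Subgroup P) (x : P) (hc : ∀ z ∈ Z, z * x = x * z) (hx : x * x ∈ Z) : Subgroup P where
  carrier := {g | g ∈ Z ∨ g * x ∈ Z}
  one_mem' := Or.inl Z.one_mem
  mul_mem' := by
    rintro a b (ha | ha) (hb | hb)
    · exact Or.inl (Z.mul_mem ha hb)
    · refine Or.inr ?_
      rw [mul_assoc]
      exact Z.mul_mem ha hb
    · refine Or.inr ?_
      have e : a * b * x = a * x * b := by rw [mul_assoc, hc b hb, mul_assoc]
      rw [e]
      exact Z.mul_mem ha hb
    · refine Or.inl ?_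
      have e : a * b = a * x * (b * x) * (x * x)⁻¹ := by
        have h1 := hc (b * x) hb
        have h2 : a * x * (b * x) = a * (b * x * x) := by rw [mul_assoc, ← h1]
        rw [h2]; group
      rw [e]
      exact Z.mul_mem (Z.mul_mem ha hb) (Z.inv_mem hx)
  inv_mem' := by
    rintro a (ha | ha)
    · exact Or.inl (Z.inv_mem ha)
    · refine Or.inr ?_
      have h1 := hc _ (Z.inv_mem ha)
      have e : a⁻¹ * x = (a * x)⁻¹ * (x * x) := by
        rw [← mul_assoc, h1]; group
      rw [e]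
      exact Z.mul_mem (Z.inv_mem ha) hx

theorem mem_ext {Z : Subgroup P} {x : P} {hc : ∀ z ∈ Z, z * x = x * z} {hx : x * x ∈ Z} {g : P} :
    g ∈ ext Z x hc hx ↔ g ∈ Z ∨ g * x ∈ Z := Iff.rfl

theorem le_ext {Z : Subgroup P} {x : P} {hc : ∀ z ∈ Z, z * x = x * z} {hx : x * x ∈ Z} : Z ≤ ext Z x hc hx :=
  fun _ hg => Or.inl hg

theorem exists_of_mem_ext {Z : Subgroup P} {x : P} {hc : ∀ z ∈ Z, z * x = x * z} {hx : x * x ∈ Z} {g : P}
    (hg : g ∈ ext Z x hc hx) : g ∈ Z ∨ ∃ z ∈ Z, g = z * x := by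
  rcases hg with hg | hg
  · exact Or.inl hg
  · refine Or.inr ⟨g * x * (x * x)⁻¹, Z.mul_mem hg (Z.inv_mem hx), by group⟩

/-- A subgroup acting semiregularly on a finite non-empty set is finite of order at most the size of the set. -/
theorem card_le_of_free (Z : Subgroup P) {Y : Set X} (hY : Y.Finite) (hne : Y.Nonempty)
    (hinv : ∀ z ∈ Z, ∀ q ∈ Y, z • q ∈ Y) (hfree : ∀ z ∈ Z, ∀ q ∈ Y, z • q = q → z = 1) :
    Finite Z ∧ Nat.card Z ≤ Y.ncard := by
  obtain ⟨q, hq⟩ := hne
  have := hY.to_subtype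
  let f : Z → Y := fun z => ⟨z.1 • q, hinv _ z.2 q hq⟩
  have hf : Function.Injective f := by
    intro a b hab
    have h1 : a.1 • q = b.1 • q := congrArg Subtype.val hab
    have h2 : (b.1⁻¹ * a.1) • q = q := by rw [mul_smul, h1, inv_smul_smul]
    have h3 := hfree _ (Z.mul_mem (Z.inv_mem b.2) a.2) q hq h2
    exact Subtype.ext (inv_mul_eq_one.1 h3).symm
  exact ⟨Finite.of_injective f hf, Nat.card_le_card_of_injective f hf⟩

/-- **The counting lemma.** -/
theorem card_mul_two_pow_le {κ : Type*} (x y : κ → P) {s : P} (t : Finset κ) :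
    ∀ (Z : Subgroup P) (Y : Set X), Y.Finite → Y.Nonempty → s ∈ Z → s ≠ 1 →
      (∀ z ∈ Z, ∀ w ∈ Z, z * w = w * z) →
      (∀ z ∈ Z, ∀ q ∈ Y, z • q ∈ Y) → (∀ z ∈ Z, ∀ q ∈ Y, z • q = q → z = 1) →
      (∀ i ∈ t, ∀ q ∈ Y, x i • q ∈ Y) → (∀ i ∈ t, ∀ q ∈ Y, y i • q ∈ Y) →
      (∀ i ∈ t, ∀ z ∈ Z, z * x i = x i * z) → (∀ i ∈ t, ∀ z ∈ Z, z * y i = y i * z) →
      (∀ i ∈ t, x i * x i ∈ Z) → (∀ i ∈ t, y i * x i = x i * y i * s) →
      (∀ i ∈ t, ∀ j ∈ t, i ≠ j → x i * x j = x j * x i) →
      (∀ i ∈ t, ∀ j ∈ t, i ≠ j → x i * y j = y j * x i) →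
      Nat.card Z * 2 ^ t.card ≤ Y.ncard := by
  classical
  induction t using Finset.induction_on with
  | empty =>
    intro Z Y hY hne _ _ _ hinv hfree _ _ _ _ _ _ _ _
    rw [Finset.card_empty, pow_zero, mul_one]
    exact (card_le_of_free Z hY hne hinv hfree).2
  | insert a t ha ih =>
    intro Z Y hY hne hsZ hs1 hZ hinv hfree hxY hyY hZx hZy hxx hxy hcx hcy
    have haa := Finset.mem_insert_self a t
    have hmem : ∀ {i}, i ∈ t → i ∈ insert a t := fun hi => Finset.mem_insert_of_mem hi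
    have hai : ∀ {i}, i ∈ t → a ≠ i := fun hi e => ha (e ▸ hi)
    rw [Finset.card_insert_of_notMem ha, pow_succ]
    by_cases hfix : ∃ z ∈ Z, ∃ q ∈ Y, x a • q = z • q
    · -- `x' = z⁻¹ x a` has a fixed point
      obtain ⟨z, hz, q₀, hq₀, hzq⟩ := hfix
      set x' := z⁻¹ * x a with hx'
      have hx'0 : x' • q₀ = q₀ := by rw [hx', mul_smul, hzq, inv_smul_smul]
      have hx'Z : ∀ w ∈ Z, w * x' = x' * w := by
        intro w hw
        rw [hx', ← mul_assoc, hZ w hw z⁻¹ (Z.inv_mem hz), mul_assoc, hZx a haa w hw, mul_assoc]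
      set Y₁ : Set X := {q | q ∈ Y ∧ x' • q = q} with hY₁
      have hsub : Y₁ ⊆ Y := fun q hq => hq.1
      have h1 : Nat.card Z * 2 ^ t.card ≤ Y₁.ncard := by
        refine ih Z Y₁ (hY.subset hsub) ⟨q₀, hq₀, hx'0⟩ hsZ hs1 hZ ?_ ?_ ?_ ?_ (fun i hi => hZx i (hmem hi))
          (fun i hi => hZy i (hmem hi)) (fun i hi => hxx i (hmem hi)) (fun i hi => hxy i (hmem hi))
          (fun i hi j hj => hcx i (hmem hi) j (hmem hj)) (fun i hi j hj => hcy i (hmem hi) j (hmem hj))
        · rintro w hw q ⟨hq, hq'⟩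
          refine ⟨hinv w hw q hq, ?_⟩
          rw [← mul_smul, ← hx'Z w hw, mul_smul, hq']
        · exact fun w hw q hq => hfree w hw q hq.1
        · rintro i hi q ⟨hq, hq'⟩
          refine ⟨hxY i (hmem hi) q hq, ?_⟩
          have e : x' * x i = x i * x' := by
            rw [hx', mul_assoc, hcx a haa i (hmem hi) (hai hi), ← mul_assoc,
              hZx i (hmem hi) _ (Z.inv_mem hz), mul_assoc]
          rw [← mul_smul, e, mul_smul, hq']
        · rintro i hi q ⟨hq, hq'⟩
          refine ⟨hyY i (hmem hi) q hq, ?_⟩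
          have e : x' * y i = y i * x' := by
            rw [hx', mul_assoc, hcy a haa i (hmem hi) (hai hi), ← mul_assoc,
              hZy i (hmem hi) _ (Z.inv_mem hz), mul_assoc]
          rw [← mul_smul, e, mul_smul, hq']
      -- `y a` maps `Y₁` into `Y \ Y₁`
      have h2 : (fun q => y a • q) '' Y₁ ⊆ Y \ Y₁ := by
        rintro _ ⟨q, ⟨hq, hq'⟩, rfl⟩
        refine ⟨hyY a haa q hq, fun hcon => ?_⟩
        have hcon' : x' • y a • q = y a • q := hcon.2
        -- `y x' = x' y s`
        have e : y a * x' = x' * y a * s := by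
          rw [hx', ← mul_assoc, ← hZy a haa _ (Z.inv_mem hz), mul_assoc, hxy a haa]
          simp only [mul_assoc]
        have e1 : (x' * y a * s) • q = (x' * y a) • q := by
          rw [← e, mul_smul, hq', mul_smul, hcon']
        rw [mul_smul] at e1
        have e2 : s • q = q := (MulAction.injective (x' * y a)) e1
        exact hs1 (hfree s hsZ q hq e2)
      have h3 : Y₁.ncard ≤ (Y \ Y₁).ncard := by
        rw [← Set.ncard_image_of_injective Y₁ (MulAction.injective (y a))]
        exact Set.ncard_le_ncard h2 (hY.subset Set.sdiff_subset)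
      have h4 : (Y \ Y₁).ncard + Y₁.ncard = Y.ncard := Set.ncard_sdiff_add_ncard_of_subset hsub hY
      calc Nat.card Z * (2 ^ t.card * 2) = Nat.card Z * 2 ^ t.card * 2 := by ring
        _ ≤ Y₁.ncard * 2 := Nat.mul_le_mul_right 2 h1
        _ ≤ Y.ncard := by omega
    · push Not at hfix
      -- replace `Z` by `Z ∪ Z x`
      have hxa := hZx a haa
      set Z₁ := ext Z (x a) hxa (hxx a haa) with hZ₁
      have hZle : Z ≤ Z₁ := le_ext
      have hinv₁ : ∀ z ∈ Z₁, ∀ q ∈ Y, z • q ∈ Y := by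
        intro z hz q hq
        rcases exists_of_mem_ext hz with hz | ⟨w, hw, rfl⟩
        · exact hinv z hz q hq
        · rw [mul_smul]; exact hinv w hw _ (hxY a haa q hq)
      have hfree₁ : ∀ z ∈ Z₁, ∀ q ∈ Y, z • q = q → z = 1 := by
        intro z hz q hq hzq
        rcases exists_of_mem_ext hz with hz | ⟨w, hw, rfl⟩
        · exact hfree z hz q hq hzq
        · exfalso
          rw [mul_smul] at hzq
          refine hfix w⁻¹ (Z.inv_mem hw) q hq ?_
          rw [← hzq, inv_smul_smul]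
          exact congrArg (fun r => x a • r) hzq
      have h1 : Nat.card Z₁ * 2 ^ t.card ≤ Y.ncard := by
        refine ih Z₁ Y hY hne (hZle hsZ) hs1 ?_ hinv₁ hfree₁ (fun i hi => hxY i (hmem hi))
          (fun i hi => hyY i (hmem hi)) ?_ ?_ (fun i hi => hZle (hxx i (hmem hi)))
          (fun i hi => hxy i (hmem hi))
          (fun i hi j hj => hcx i (hmem hi) j (hmem hj)) (fun i hi j hj => hcy i (hmem hi) j (hmem hj))
        · intro z hz w hw
          rcases exists_of_mem_ext hz with hz | ⟨z', hz', rfl⟩ <;>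
            rcases exists_of_mem_ext hw with hw | ⟨w', hw', rfl⟩
          · exact hZ z hz w hw
          · rw [← mul_assoc, hZ z hz w' hw', mul_assoc, hxa z hz, mul_assoc]
          · rw [mul_assoc, ← hxa w hw, ← mul_assoc, hZ z' hz' w hw, mul_assoc]
          · have e1 : z' * x a * (w' * x a) = z' * w' * (x a * x a) := by
              rw [mul_assoc z', ← mul_assoc (x a), ← hxa w' hw']; simp only [mul_assoc]
            have e2 : w' * x a * (z' * x a) = w' * z' * (x a * x a) := by
              rw [mul_assoc w', ← mul_assoc (x a), ← hxa z' hz']; simp only [mul_assoc]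
            rw [e1, e2, hZ z' hz' w' hw']
        · intro i hi z hz
          rcases exists_of_mem_ext hz with hz | ⟨w, hw, rfl⟩
          · exact hZx i (hmem hi) z hz
          · rw [mul_assoc, hcx a haa i (hmem hi) (hai hi), ← mul_assoc, hZx i (hmem hi) w hw, mul_assoc]
        · intro i hi z hz
          rcases exists_of_mem_ext hz with hz | ⟨w, hw, rfl⟩
          · exact hZy i (hmem hi) z hz
          · rw [mul_assoc, hcy a haa i (hmem hi) (hai hi), ← mul_assoc, hZy i (hmem hi) w hw, mul_assoc]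
      -- `|Z₁| ≥ 2 |Z|`
      have hfin : Finite Z₁ := (card_le_of_free Z₁ hY hne hinv₁ hfree₁).1
      have h2 : Nat.card Z * 2 ≤ Nat.card Z₁ := by
        obtain ⟨k, hk⟩ := card_dvd_of_le hZle
        have hpos : 0 < Nat.card Z₁ := Nat.card_pos
        have hk0 : k ≠ 0 := by
          rintro rfl
          rw [mul_zero] at hk
          omega
        have hk1 : k ≠ 1 := by
          rintro rfl
          rw [mul_one] at hk
          have heq : Z = Z₁ := eq_of_le_of_card_ge hZle hk.le
          have hxZ : x a ∈ Z := by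
            rw [heq]
            exact Or.inr (hxx a haa)
          have e1 := hxy a haa
          have e2 := hZy a haa (x a) hxZ
          apply hs1
          have e3 : x a * y a * s = x a * y a * 1 := by rw [← e1, ← e2, mul_one]
          exact mul_left_cancel e3
        rw [hk]
        exact Nat.mul_le_mul_left _ (by omega)
      calc Nat.card Z * (2 ^ t.card * 2) = Nat.card Z * 2 * 2 ^ t.card := by ring
        _ ≤ Nat.card Z₁ * 2 ^ t.card := Nat.mul_le_mul_right _ h2
        _ ≤ Y.ncard := h1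

theorem two_mul_le_two_pow {a : ℕ} (ha : 1 ≤ a) : 2 * a ≤ 2 ^ a := by
  induction a, ha using Nat.le_induction with
  | base => norm_num
  | succ n hn ih => rw [pow_succ]; omega

/-- **LEMMA CP** for pairs of elements. -/
theorem false_of_card_le {κ : Type*} [Finite κ] [Nonempty κ] (x y s : κ → P) {Y : Set X} (hY : Y.Finite)
    (hne : Y.Nonempty) (hcard : Y.ncard ≤ 2 * Nat.card κ)
    (hxx : ∀ i, x i * x i = s i) (hyy : ∀ i, y i * y i = s i) (hss : ∀ i, s i * s i = 1) (hs1 : ∀ i, s i ≠ 1)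
    (hxy : ∀ i, x i * y i * (x i)⁻¹ = (y i)⁻¹)
    (hcx : ∀ i j, i ≠ j → x i * x j = x j * x i)
    (hcxy : ∀ i j, i ≠ j → x i * y j = y j * x i)
    (hxY : ∀ i, ∀ q ∈ Y, x i • q ∈ Y) (hyY : ∀ i, ∀ q ∈ Y, y i • q ∈ Y)
    (hfree : ∀ z ∈ closure (Set.range s), ∀ q ∈ Y, z • q = q → z = 1) : False := by
  classical
  have := Fintype.ofFinite κ
  set Z := closure (Set.range s) with hZdef
  -- `s i` commutes with everything
  have hsx : ∀ i j, s i * x j = x j * s i := by
    intro i j
    by_cases hij : i = j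
    · subst hij; rw [← hxx, mul_assoc]
    · rw [← hxx i, mul_assoc, hcx i j hij, ← mul_assoc, hcx i j hij, mul_assoc]
  have hsy : ∀ i j, s i * y j = y j * s i := by
    intro i j
    by_cases hij : i = j
    · subst hij; rw [← hyy, mul_assoc]
    · rw [← hxx i, mul_assoc, hcxy i j hij, ← mul_assoc, hcxy i j hij, mul_assoc]
  have hsss : ∀ i j, s i * s j = s j * s i := by
    intro i j
    rw [← hxx j, ← mul_assoc, hsx, mul_assoc, hsx, ← mul_assoc]
  have hcen : ∀ g, (∀ i, s i * g = g * s i) → ∀ z ∈ Z, z * g = g * z := by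
    intro g hg z hz
    have h1 : Z ≤ centralizer {g} := by
      rw [hZdef, closure_le]
      rintro _ ⟨i, rfl⟩
      exact mem_centralizer_singleton_iff.2 (hg i)
    exact mem_centralizer_singleton_iff.1 (h1 hz)
  have hsZ : ∀ i, s i ∈ Z := fun i => subset_closure ⟨i, rfl⟩
  have hZZ : ∀ z ∈ Z, ∀ w ∈ Z, z * w = w * z := by
    intro z hz w hw
    refine hcen w (fun i => ?_) z hz
    exact (hcen (s i) (fun j => hsss j i) w hw).symm
  have hinv : ∀ z ∈ Z, ∀ q ∈ Y, z • q ∈ Y := by
    intro z hz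
    rw [hZdef] at hz
    induction hz using closure_induction with
    | mem z hz =>
      obtain ⟨i, rfl⟩ := hz
      intro q hq
      rw [← hxx, mul_smul]
      exact hxY i _ (hxY i q hq)
    | one => intro q hq; rwa [one_smul]
    | mul a b _ _ ha hb => intro q hq; rw [mul_smul]; exact ha _ (hb q hq)
    | inv a _ ha =>
      intro q hq
      -- `a⁻¹` preserves the finite set `Y`
      have h1 : (fun q => a • q) '' Y = Y := by
        apply Set.eq_of_subset_of_ncard_le
        · rintro _ ⟨r, hr, rfl⟩; exact ha r hr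
        · rw [Set.ncard_image_of_injective Y (MulAction.injective a)]
        · exact hY
      rw [← h1] at hq
      obtain ⟨r, hr, rfl⟩ := hq
      change a⁻¹ • a • r ∈ Y
      rwa [inv_smul_smul]
  -- a largest class
  obtain ⟨v, -, hv⟩ := Finset.exists_max_image (Finset.univ : Finset κ)
    (fun i => (Finset.univ.filter fun j => s j = s i).card) Finset.univ_nonempty
  set t := Finset.univ.filter fun j => s j = s v with ht
  have hta : 1 ≤ t.card := Finset.card_pos.2 ⟨v, by rw [ht, Finset.mem_filter]; exact ⟨Finset.mem_univ _, rfl⟩⟩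
  have h1 : Nat.card Z * 2 ^ t.card ≤ Y.ncard := by
    refine card_mul_two_pow_le x y t Z Y hY hne (hsZ v) (hs1 v) hZZ hinv hfree (fun i _ => hxY i)
      (fun i _ => hyY i) (fun i _ z hz => hcen _ (fun j => hsx j i) z hz)
      (fun i _ z hz => hcen _ (fun j => hsy j i) z hz) (fun i _ => by rw [hxx]; exact hsZ i) ?_
      (fun i _ j _ => hcx i j) (fun i _ j _ => hcxy i j)
    intro i hi
    have hsi : s i = s v := (Finset.mem_filter.1 hi).2
    rw [← hsi]
    -- `x y x⁻¹ = y⁻¹`, `y⁻¹ = y s`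
    have e1 : (y i)⁻¹ = y i * s i := by
      rw [eq_comm, ← mul_eq_one_iff_eq_inv, mul_assoc, hsy, ← mul_assoc, hyy, hss]
    have e2 : x i * y i = y i * s i * x i := by
      rw [← e1, ← hxy]; group
    rw [e2, mul_assoc, mul_assoc, ← hsx, ← mul_assoc (s i), hss, one_mul]
  set S := Finset.univ.image s with hS
  have h2 : Fintype.card κ ≤ t.card * S.card := by
    have := Finset.card_le_mul_card_image (f := s) (Finset.univ : Finset κ) t.card (by
      intro a ha
      obtain ⟨i, -, rfl⟩ := Finset.mem_image.1 ha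
      exact hv i (Finset.mem_univ i))
    rwa [Finset.card_univ] at this
  have hfin := (card_le_of_free Z hY hne hinv hfree).1
  have h3 : S.card + 1 ≤ Nat.card Z := by
    have h4 : (1 : P) ∉ S := by
      intro h5
      obtain ⟨i, -, e⟩ := Finset.mem_image.1 h5
      exact hs1 i e
    rw [← Finset.card_insert_of_notMem h4]
    have h5 : ((insert 1 S : Finset P) : Set P) ⊆ (Z : Set P) := by
      intro g hg
      rcases Finset.mem_insert.1 (Finset.mem_coe.1 hg) with rfl | hg
      · exact Z.one_mem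
      · obtain ⟨i, -, rfl⟩ := Finset.mem_image.1 hg
        exact hsZ i
    have h6 := Set.ncard_le_ncard h5 (Set.toFinite _)
    rw [Set.ncard_coe_finset] at h6
    exact h6.trans (le_of_eq (Nat.card_coe_set_eq _).symm)
  have h5 := two_mul_le_two_pow hta
  rw [Nat.card_eq_fintype_card] at hcard
  have h6 : (S.card + 1) * (2 * t.card) ≤ 2 * (t.card * S.card) :=
    calc (S.card + 1) * (2 * t.card) ≤ Nat.card Z * 2 ^ t.card := Nat.mul_le_mul h3 h5
      _ ≤ Y.ncard := h1
      _ ≤ 2 * Fintype.card κ := hcard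
      _ ≤ 2 * (t.card * S.card) := Nat.mul_le_mul_left 2 h2
  have h7 : (S.card + 1) * (2 * t.card) = 2 * (t.card * S.card) + 2 * t.card := by ring
  omega

/-- **LEMMA CP** (helper89). -/
theorem false_of_subgroups {m : ℕ} (hm : 1 ≤ m) [Finite X] (hX : Nat.card X = 2 * m) (R : Fin m → Subgroup P)
    (s : Fin m → P) (hcomm : ∀ i j, i ≠ j → ∀ a ∈ R i, ∀ b ∈ R j, a * b = b * a)
    (hR : ∀ i, ∃ x ∈ R i, ∃ y ∈ R i, x * x = s i ∧ y * y = s i ∧ x * y * x⁻¹ = y⁻¹)
    (hss : ∀ i, s i * s i = 1) (hs1 : ∀ i, s i ≠ 1)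
    (hfree : ∀ z ∈ closure (Set.range s), ∀ q : X, z • q = q → z = 1) : False := by
  choose x hx y hy hxx hyy hxy using hR
  have : Nonempty (Fin m) := ⟨⟨0, hm⟩⟩
  refine false_of_card_le x y s (Y := (Set.univ : Set X)) Set.finite_univ ?_ ?_ hxx hyy hss hs1 hxy
    (fun i j hij => hcomm i j hij _ (hx i) _ (hx j))
    (fun i j hij => hcomm i j hij _ (hx i) _ (hy j)) (fun _ _ _ => trivial) (fun _ _ _ => trivial)
    (fun z hz q _ => hfree z hz q)
  · rw [← Set.ncard_pos Set.finite_univ, Set.ncard_univ, hX]; omega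
  · rw [Set.ncard_univ, hX, Nat.card_fin]

end Abs

/-- The action by conjugation on a set of elements: if `κ` is a finite non-empty index set and `Y` is a
non-empty finite set of at most `2 |κ|` elements permuted by the `x i`, `y i`, then some element `≠ 1` of
`⟨s i⟩` commutes with an element of `Y`. -/
theorem exists_commute {G : Type*} [Group G] {κ : Type*} [Finite κ] [Nonempty κ] (x y s : κ → G) {Y : Set G}
    (hY : Y.Finite) (hne : Y.Nonempty) (hcard : Y.ncard ≤ 2 * Nat.card κ)
    (hxx : ∀ i, x i * x i = s i) (hyy : ∀ i, y i * y i = s i) (hss : ∀ i, s i * s i = 1) (hs1 : ∀ i, s i ≠ 1)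
    (hxy : ∀ i, x i * y i * (x i)⁻¹ = (y i)⁻¹)
    (hcx : ∀ i j, i ≠ j → x i * x j = x j * x i)
    (hcxy : ∀ i j, i ≠ j → x i * y j = y j * x i)
    (hxY : ∀ i, ∀ q ∈ Y, x i * q * (x i)⁻¹ ∈ Y) (hyY : ∀ i, ∀ q ∈ Y, y i * q * (y i)⁻¹ ∈ Y) :
    ∃ z ∈ closure (Set.range s), z ≠ 1 ∧ ∃ q ∈ Y, z * q = q * z := by
  by_contra hcon
  push Not at hcon
  let φ : ConjAct G ≃* G := ConjAct.ofConjAct
  refine false_of_card_le (P := ConjAct G) (X := G) (fun i => ConjAct.toConjAct (x i))
    (fun i => ConjAct.toConjAct (y i)) (fun i => ConjAct.toConjAct (s i)) hY hne hcard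
    (fun i => by rw [← map_mul, hxx]) (fun i => by rw [← map_mul, hyy]) (fun i => by rw [← map_mul, hss, map_one])
    (fun i e => hs1 i (by simpa using e)) (fun i => by rw [← map_inv, ← map_mul, ← map_mul, hxy, map_inv])
    (fun i j hij => by rw [← map_mul, hcx i j hij, map_mul])
    (fun i j hij => by rw [← map_mul, hcxy i j hij, map_mul]) (fun i q hq => by
      rw [ConjAct.toConjAct_smul]; exact hxY i q hq) (fun i q hq => by
      rw [ConjAct.toConjAct_smul]; exact hyY i q hq) ?_
  intro z hz q hq hzq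
  by_contra hz1
  have h1 : ConjAct.ofConjAct z ∈ closure (Set.range s) := by
    have h2 := mem_map_of_mem (ConjAct.ofConjAct : ConjAct G ≃* G).toMonoidHom hz
    rw [MonoidHom.map_closure] at h2
    refine closure_mono ?_ h2
    rintro _ ⟨_, ⟨i, rfl⟩, rfl⟩
    exact ⟨i, rfl⟩
  refine hcon _ h1 (fun e => hz1 (by simpa using e)) q hq ?_
  rw [ConjAct.smul_def] at hzq
  rwa [mul_inv_eq_iff_eq_mul] at hzq

/-- LEMMA CP for the action by conjugation (helper717's form). -/
theorem false_of_conj {G : Type*} [Group G] [Finite G] (X : Set G) (m : ℕ) (hX : X.ncard = 2 * m) (hm : 1 ≤ m)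
    (R : Fin m → Subgroup G) (s : Fin m → G)
    (hxy : ∀ i, ∃ x ∈ R i, ∃ y ∈ R i, x * x = s i ∧ y * y = s i ∧ x * y * x⁻¹ = y⁻¹)
    (hs : ∀ i, s i * s i = 1 ∧ s i ≠ 1)
    (hcomm : ∀ i j, i ≠ j → ∀ a ∈ R i, ∀ b ∈ R j, a * b = b * a)
    (hact : ∀ i, ∀ r ∈ R i, ∀ x ∈ X, r * x * r⁻¹ ∈ X)
    (hfree : ∀ e ∈ closure (Set.range s), e ≠ 1 → ∀ x ∈ X, e * x * e⁻¹ ≠ x) : False := by
  choose x hx y hy hxx hyy hxy using hxy
  have : Nonempty (Fin m) := ⟨⟨0, hm⟩⟩
  obtain ⟨z, hz, hz1, q, hq, hzq⟩ := exists_commute x y s (Set.toFinite X)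
    (by rw [← Set.ncard_pos (Set.toFinite X), hX]; omega) (by rw [hX, Nat.card_fin]) hxx hyy
    (fun i => (hs i).1) (fun i => (hs i).2) hxy (fun i j hij => hcomm i j hij _ (hx i) _ (hx j))
    (fun i j hij => hcomm i j hij _ (hx i) _ (hy j)) (fun i => hact i _ (hx i)) (fun i => hact i _ (hy i))
  exact hfree z hz hz1 q hq (mul_inv_eq_iff_eq_mul.2 hzq)

end Cfsg.Agent.Cit.CloCount
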