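import Mathlib
import Cfsg.Prelude.Def_Involutions
import Cfsg.Prelude.Def_TwoFusion
import Cfsg.Agent.Cit.CloBen
import Cfsg.Agent.Lib.NormalAbelian

/-!
# CONN / CLOSE, part (C): the abstract end

`M` is a subgroup of the finite group `G`. A *good* involution of `M` is an involution `f ∈ M` with
`C_G(f) ≤ M`; `HTwo M` is (h2'): `g f g⁻¹ ∈ M`, `f` good, implies `g ∈ M`.

* `Good.le` : every 2-subgroup containing a good involution lies in `M`;
* `exists_conj` : if every element of the Sylow subgroup `S` commutes with a good involution then `M`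
  controls the fusion of `S`; `sylow_le_commutator` : then `S ≤ M'` if `G` is perfect;
* `stronglyEmbedded_of_normal` : (SC), `stronglyEmbedded_of_central` : (END);
* `false_of_normal`, `false_of_central` : the same with (BEN).
-/

set_option autoImplicit false
set_option linter.unusedSectionVars false

namespace Cfsg.Agent.Cit.CloEnd

open Subgroup Cfsg

variable {G : Type*} [Group G]

open scoped commutatorElement

/-- the cyclic group of an element with square one is a 2-group -/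
theorem isPGroup_zpowers {K : Type*} [Group K] {t : K} (ht : t * t = 1) : IsPGroup 2 (zpowers t) := by
  rcases eq_or_ne t 1 with rfl | h
  · rw [zpowers_one_eq_bot]
    exact IsPGroup.of_bot
  · refine IsPGroup.of_card (n := 1) ?_
    rw [Nat.card_zpowers, orderOf_eq_prime (by rw [pow_two, ht]) h, pow_one]

/-- `f` is a good involution of `M` -/
structure Good (M : Subgroup G) (f : G) : Prop where
  mem : f ∈ M
  sq : f * f = 1
  ne : f ≠ 1
  cent : centralizer {f} ≤ M

/-- (h2') -/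
def HTwo (M : Subgroup G) : Prop :=
  ∀ f, Good M f → ∀ g, g * f * g⁻¹ ∈ M → g ∈ M

theorem Good.orderOf {M : Subgroup G} {f : G} (h : Good M f) : orderOf f = 2 :=
  orderOf_eq_prime (by rw [pow_two, h.sq]) h.ne

theorem Good.conj {M : Subgroup G} {f : G} (h : Good M f) {m : G} (hm : m ∈ M) :
    Good M (m * f * m⁻¹) where
  mem := M.mul_mem (M.mul_mem hm h.mem) (M.inv_mem hm)
  sq := by
    have h1 : m * f * m⁻¹ * (m * f * m⁻¹) = m * (f * f) * m⁻¹ := by group
    rw [h1, h.sq]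
    group
  ne := by
    intro h1
    apply h.ne
    have h2 : f = m⁻¹ * (m * f * m⁻¹) * m := by group
    rw [h2, h1]
    group
  cent := by
    intro c hc
    rw [mem_centralizer_singleton_iff] at hc
    have h1 : m⁻¹ * c * m ∈ M := by
      apply h.cent
      rw [mem_centralizer_singleton_iff]
      calc m⁻¹ * c * m * f = m⁻¹ * (c * (m * f * m⁻¹)) * m := by group
        _ = m⁻¹ * (m * f * m⁻¹ * c) * m := by rw [hc]
        _ = f * (m⁻¹ * c * m) := by group
    have h2 : c = m * (m⁻¹ * c * m) * m⁻¹ := by group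
    rw [h2]
    exact M.mul_mem (M.mul_mem hm h1) (M.inv_mem hm)

theorem mem_of_comm {M : Subgroup G} {f c : G} (h : Good M f) (hc : c * f = f * c) : c ∈ M :=
  h.cent (mem_centralizer_singleton_iff.2 hc)

/-- a 2-subgroup which contains a good involution lies in `M` -/
theorem Good.le [Finite G] {M : Subgroup G} (h2 : HTwo M) {f : G} (h : Good M f) {R : Subgroup G}
    (hR : IsPGroup 2 R) (hf : f ∈ R) : R ≤ M := by
  have : Fact (Nat.Prime 2) := ⟨Nat.prime_two⟩
  have : Group.IsNilpotent R := hR.isNilpotent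
  by_contra hcon
  have hlt : M.subgroupOf R < ⊤ := by
    rw [lt_top_iff_ne_top, Ne, subgroupOf_eq_top]
    exact hcon
  have h1 := Group.normalizerCondition_of_isNilpotent (G := R) _ hlt
  obtain ⟨r, hr, hrM⟩ := SetLike.exists_of_lt h1
  apply hrM
  rw [mem_subgroupOf]
  apply h2 f h
  have h3 := (mem_normalizer_iff.1 hr ⟨f, hf⟩).1 (by rw [mem_subgroupOf]; exact h.mem)
  rw [mem_subgroupOf] at h3
  exact h3

section fusion

variable [Finite G] {M : Subgroup G}

/-- **control of fusion**: elements of `G` which commute with good involutions are conjugate under `M` if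
they are conjugate in `G` -/
theorem exists_conj (h2 : HTwo M) {x y g : G} (hgx : g * x * g⁻¹ = y) (hx : ∃ f, Good M f ∧ f * x = x * f)
    (hy : ∃ f, Good M f ∧ f * y = y * f) : ∃ c, c * y = y * c ∧ c * g ∈ M := by
  have : Fact (Nat.Prime 2) := ⟨Nat.prime_two⟩
  obtain ⟨e, he, hex⟩ := hx
  obtain ⟨f, hf, hfy⟩ := hy
  -- the centraliser of `y`
  have he' : g * e * g⁻¹ ∈ centralizer {y} := by
    rw [mem_centralizer_singleton_iff, ← hgx]
    calc g * e * g⁻¹ * (g * x * g⁻¹) = g * (e * x) * g⁻¹ := by group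
      _ = g * (x * e) * g⁻¹ := by rw [hex]
      _ = _ := by group
  have hf' : f ∈ centralizer {y} := mem_centralizer_singleton_iff.2 hfy
  have key : ∀ t : centralizer {y}, t * t = 1 → ∃ P : Sylow 2 (centralizer {y}), t ∈ P := by
    intro t ht
    obtain ⟨P, hP⟩ := (isPGroup_zpowers ht).exists_le_sylow
    exact ⟨P, hP (mem_zpowers t)⟩
  obtain ⟨P, hP⟩ := key ⟨f, hf'⟩ (Subtype.ext hf.sq)
  obtain ⟨P', hP'⟩ := key ⟨g * e * g⁻¹, he'⟩ (Subtype.ext (by
    show g * e * g⁻¹ * (g * e * g⁻¹) = 1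
    have h1 : g * e * g⁻¹ * (g * e * g⁻¹) = g * (e * e) * g⁻¹ := by group
    rw [h1, he.sq]
    group))
  obtain ⟨c, hc⟩ := MulAction.exists_smul_eq (centralizer {y}) P' P
  have hcy : (c : G) * y = y * c := mem_centralizer_singleton_iff.1 c.2
  refine ⟨c, hcy, ?_⟩
  -- the 2-group `P` lies in `M`
  have hPM : (P : Subgroup (centralizer {y})).map (centralizer {y}).subtype ≤ M :=
    hf.le h2 (P.isPGroup'.map _) ⟨⟨f, hf'⟩, hP, rfl⟩
  apply h2 e he
  apply hPM
  refine ⟨c * ⟨g * e * g⁻¹, he'⟩ * c⁻¹, ?_, ?_⟩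
  · have h1 : c * ⟨g * e * g⁻¹, he'⟩ * c⁻¹ ∈ (c • P' : Sylow 2 (centralizer {y})) := by
      rw [← SetLike.mem_coe, Sylow.coe_smul]
      exact ⟨⟨g * e * g⁻¹, he'⟩, hP', rfl⟩
    rw [hc] at h1
    exact h1
  · show (c : G) * (g * e * g⁻¹) * (c : G)⁻¹ = c * g * e * (c * g)⁻¹
    group

theorem exists_conj_mem (h2 : HTwo M) {x y g : G} (hgx : g * x * g⁻¹ = y)
    (hx : ∃ f, Good M f ∧ f * x = x * f) (hy : ∃ f, Good M f ∧ f * y = y * f) :
    ∃ m ∈ M, m * x * m⁻¹ = y := by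
  obtain ⟨c, hc, hcg⟩ := exists_conj h2 hgx hx hy
  refine ⟨c * g, hcg, ?_⟩
  calc c * g * x * (c * g)⁻¹ = c * (g * x * g⁻¹) * c⁻¹ := by group
    _ = c * y * c⁻¹ := by rw [hgx]
    _ = y := by rw [hc]; group

/-- **(TR)**: if every element of the Sylow 2-subgroup `S` of the perfect group `G` commutes with a good
involution then `S ≤ M'` -/
theorem sylow_le_commutator (h2 : HTwo M) (S : Sylow 2 G) (hS : (S : Subgroup G) ≤ M)
    (hx : ∀ x ∈ S, ∃ f, Good M f ∧ f * x = x * f) (hG : commutator G = ⊤) :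
    (S : Subgroup G) ≤ ⁅M, M⁆ := by
  have : Fact (Nat.Prime 2) := ⟨Nat.prime_two⟩
  have h1 : (S : Subgroup G).focalSubgroup = S := by
    have h3 := Subgroup.commutator_inf_eq_focalSubgroup S
    rw [hG, top_inf_eq] at h3
    exact h3.symm
  rw [← h1, focalSubgroup_def, closure_le]
  rintro g ⟨hg, x, hxS, u, rfl⟩
  -- `[x, u] = x (u x⁻¹ u⁻¹)`, and `u x⁻¹ u⁻¹ = m x⁻¹ m⁻¹` with `m ∈ M`
  have hy : u * x⁻¹ * u⁻¹ ∈ (S : Subgroup G) := by
    have h3 : u * x⁻¹ * u⁻¹ = x⁻¹ * ⁅x, u⁆ := by rw [commutatorElement_def]; group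
    rw [h3]
    exact mul_mem (inv_mem hxS) hg
  obtain ⟨m, hm, hmx⟩ := exists_conj_mem h2 (x := x⁻¹) (g := u) rfl (hx _ (inv_mem hxS)) (hx _ hy)
  have h4 : ⁅x, u⁆ = ⁅x, m⁆ := by
    rw [commutatorElement_def, commutatorElement_def]
    calc x * u * x⁻¹ * u⁻¹ = x * (u * x⁻¹ * u⁻¹) := by group
      _ = x * (m * x⁻¹ * m⁻¹) := by rw [hmx]
      _ = _ := by group
  show ⁅x, u⁆ ∈ ⁅M, M⁆
  rw [h4]
  exact commutator_mem_commutator (hS hxS) hm

/-- a subgroup containing the derived subgroup of `M` contains `S` -/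
theorem sylow_le_of_commutator (h2 : HTwo M) (S : Sylow 2 G) (hS : (S : Subgroup G) ≤ M)
    (hx : ∀ x ∈ S, ∃ f, Good M f ∧ f * x = x * f) (hG : commutator G = ⊤) {N : Subgroup G}
    (hN : ⁅M, M⁆ ≤ N) : (S : Subgroup G) ≤ N :=
  (sylow_le_commutator h2 S hS hx hG).trans hN

/-- no homomorphism from `M` onto a commutative group is nontrivial on `S` -/
theorem hom_eq_one (h2 : HTwo M) (S : Sylow 2 G) (hS : (S : Subgroup G) ≤ M)
    (hx : ∀ x ∈ S, ∃ f, Good M f ∧ f * x = x * f) (hG : commutator G = ⊤) {A : Type*} [CommGroup A]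
    (φ : M →* A) {s : G} (hs : s ∈ S) : φ ⟨s, hS hs⟩ = 1 := by
  have h1 := sylow_le_commutator h2 S hS hx hG hs
  rw [← map_subtype_commutator] at h1
  obtain ⟨t, ht, hts⟩ := h1
  have h3 : t = ⟨s, hS hs⟩ := Subtype.ext hts
  rw [← h3]
  have h4 : commutator M ≤ φ.ker := Abelianization.commutator_subset_ker φ
  exact h4 ht

/-- the hypothesis of `sylow_le_commutator` from a normal subgroup `E` of `S` with good involutions -/
theorem exists_good_of_normal {S E : Subgroup G} (hS : IsPGroup 2 S) (hE : E ≠ ⊥) (hES : E ≤ S)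
    (hn : S ≤ normalizer (E : Set G)) (hgood : ∀ f ∈ E, f * f = 1 → f ≠ 1 → Good M f) {x : G} (hx : x ∈ S) :
    ∃ f, (Good M f ∧ f ∈ E) ∧ f * x = x * f := by
  have : Fact (Nat.Prime 2) := ⟨Nat.prime_two⟩
  -- the 2-group `R = E ⟨x⟩`
  set R : Subgroup G := E ⊔ zpowers x with hR
  have hRS : R ≤ S := sup_le hES (zpowers_le.2 hx)
  have hRp : IsPGroup 2 R := hS.to_le hRS
  have hnil : Group.IsNilpotent R := hRp.isNilpotent
  have hER : E ≤ R := le_sup_left
  have hxR : x ∈ R := mem_sup_right (mem_zpowers x)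
  have hnn : (E.subgroupOf R).Normal := (normal_subgroupOf_iff_le_normalizer hER).2 (hRS.trans hn)
  have hne : E.subgroupOf R ≠ ⊥ := by
    rw [Ne, subgroupOf_eq_bot, disjoint_comm]
    intro hd
    exact hE (le_bot_iff.1 (hd hER le_rfl))
  have h1 := Cfsg.Agent.Lib.NormalAbelian.normal_inf_center_ne_bot (E.subgroupOf R) hne
  have h2 : Even (Nat.card ↥(E.subgroupOf R ⊓ center R)) := by
    have h3 : IsPGroup 2 ↥(E.subgroupOf R ⊓ center R) := hRp.to_subgroup _
    obtain ⟨n, hn⟩ := IsPGroup.iff_card.1 h3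
    rw [hn]
    have h4 : n ≠ 0 := by
      rintro rfl
      rw [pow_zero] at hn
      exact h1 (Subgroup.card_eq_one.1 hn)
    exact (Nat.even_pow.2 ⟨even_two, h4⟩)
  obtain ⟨f, hf⟩ := exists_prime_orderOf_dvd_card' (G := ↥(E.subgroupOf R ⊓ center R)) 2 h2.two_dvd
  rw [orderOf_eq_prime_iff] at hf
  have hfE : ((f : R) : G) ∈ E := f.2.1
  have hff : ((f : R) : G) * ((f : R) : G) = 1 := by
    have h3 : (f : R) * (f : R) = 1 := by
      have h4 := congrArg Subtype.val hf.1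
      rw [pow_two] at h4
      exact h4
    exact congrArg Subtype.val h3
  have hf1 : ((f : R) : G) ≠ 1 := by
    intro h3
    exact hf.2 (Subtype.ext (Subtype.ext h3))
  refine ⟨f, ⟨hgood _ hfE hff hf1, hfE⟩, ?_⟩
  have h4 := mem_center_iff.1 f.2.2 ⟨x, hxR⟩
  exact (congrArg Subtype.val h4).symm

end fusion

section strong

variable [Finite G] {M N : Subgroup G}

/-- an involution of a subgroup of even order -/
theorem exists_involution {N : Subgroup G} (hN : Even (Nat.card N)) : ∃ f ∈ N, f * f = 1 ∧ f ≠ 1 := by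
  have : Fact (Nat.Prime 2) := ⟨Nat.prime_two⟩
  obtain ⟨f, hf⟩ := exists_prime_orderOf_dvd_card' (G := N) 2 hN.two_dvd
  rw [orderOf_eq_prime_iff] at hf
  refine ⟨f, f.2, ?_, fun h => hf.2 (Subtype.ext h)⟩
  have := congrArg Subtype.val hf.1
  rw [pow_two] at this
  exact this

theorem exists_sylow_mem {f : G} (hf : f * f = 1) : ∃ S : Sylow 2 G, f ∈ S := by
  have : Fact (Nat.Prime 2) := ⟨Nat.prime_two⟩
  obtain ⟨P, hP⟩ := (isPGroup_zpowers hf).exists_le_sylow
  exact ⟨P, hP (mem_zpowers f)⟩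

/-- **strong closure of normal subgroups of good type** -/
theorem isStronglyClosed_inf (h2 : HTwo M) (hNM : N ≤ M) (hn : M ≤ normalizer (N : Set G))
    (hgood : ∀ f ∈ N, f * f = 1 → f ≠ 1 → centralizer {f} ≤ M) (S : Sylow 2 G) (hS : (S : Subgroup G) ≤ M) :
    IsStronglyClosed ((S : Subgroup G) ⊓ N) (S : Subgroup G) := by
  have : Fact (Nat.Prime 2) := ⟨Nat.prime_two⟩
  refine ⟨inf_le_left, fun x hx g hg => ⟨hg, ?_⟩⟩
  rcases eq_or_ne x 1 with rfl | hx1
  · simp
  -- a power of `x` is a good involution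
  obtain ⟨k, hk⟩ := IsPGroup.iff_orderOf.1 S.isPGroup' ⟨x, hx.1⟩
  rw [orderOf_mk] at hk
  have hk0 : k ≠ 0 := by
    rintro rfl
    rw [pow_zero, orderOf_eq_one_iff] at hk
    exact hx1 hk
  obtain ⟨j, rfl⟩ := Nat.exists_eq_succ_of_ne_zero hk0
  set f : G := x ^ (2 ^ j) with hf
  have hff : f * f = 1 := by
    rw [hf, ← pow_add, ← two_mul, ← pow_succ', ← hk, pow_orderOf_eq_one]
  have hf1 : f ≠ 1 := by
    intro h
    have h3 := orderOf_dvd_of_pow_eq_one h
    rw [hk, Nat.succ_eq_add_one] at h3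
    exact absurd (Nat.le_of_dvd (by positivity) h3) (by
      have : 2 ^ j < 2 ^ (j + 1) := Nat.pow_lt_pow_right (by norm_num) (by omega)
      omega)
  have hfN : f ∈ N := N.pow_mem hx.2 _
  have hfg : Good M f := ⟨hNM hfN, hff, hf1, hgood f hfN hff hf1⟩
  have hgM : g ∈ M := by
    apply h2 f hfg
    have h4 : g * f * g⁻¹ = (g * x * g⁻¹) ^ (2 ^ j) := by rw [hf, conj_pow]
    rw [h4]
    exact M.pow_mem (hS hg) _
  exact (mem_normalizer_iff.1 (hn hgM) x).1 hx.2

/-- the form of S1174 which is used -/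
def Crit1174 (G : Type*) [Group G] : Prop :=
  ∀ (S : Sylow 2 G) (T : Subgroup G), T ≠ ⊥ → IsStronglyClosed T (S : Subgroup G) →
    (⨆ t : {t : G // t ∈ T ∧ orderOf t = 2}, centralizer ({(t : G)} : Set G)) ≠ ⊤ →
    ∃ H : Subgroup G, IsStronglyEmbedded H

/-- the form of S1175 which is used -/
def Crit1175 (G : Type*) [Group G] : Prop :=
  ∀ (M : Subgroup G), M ≠ ⊤ → ∀ z : G, orderOf z = 2 → z ∈ M →
    (∃ S : Sylow 2 G, z ∈ S ∧ ∀ s ∈ S, Commute s z) → (∀ g : G, g * z * g⁻¹ ∈ M → g ∈ M) →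
    (∀ g : G, Commute z (g * z * g⁻¹) → g * z * g⁻¹ ≠ z →
      centralizer ({z * (g * z * g⁻¹)} : Set G) ≤ M) → ∃ H : Subgroup G, IsStronglyEmbedded H

/-- **(SC)** : a normal subgroup `N` of `M` of even order all of whose involutions are good -/
theorem stronglyEmbedded_of_normal (hc : Crit1174 G) (hM : M ≠ ⊤) (h2 : HTwo M) (hNM : N ≤ M)
    (hn : M ≤ normalizer (N : Set G)) (hN : Even (Nat.card N))
    (hgood : ∀ f ∈ N, f * f = 1 → f ≠ 1 → centralizer {f} ≤ M) :
    ∃ H : Subgroup G, IsStronglyEmbedded H := by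
  have : Fact (Nat.Prime 2) := ⟨Nat.prime_two⟩
  obtain ⟨f, hf, hff, hf1⟩ := exists_involution hN
  have hfg : Good M f := ⟨hNM hf, hff, hf1, hgood f hf hff hf1⟩
  obtain ⟨S, hfS⟩ := exists_sylow_mem hff
  have hS : (S : Subgroup G) ≤ M := hfg.le h2 S.isPGroup' hfS
  refine hc S ((S : Subgroup G) ⊓ N) ?_ (isStronglyClosed_inf h2 hNM hn hgood S hS) ?_
  · intro h
    apply hf1
    have h3 : f ∈ (S : Subgroup G) ⊓ N := ⟨hfS, hf⟩
    rw [h] at h3
    exact mem_bot.1 h3
  · intro h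
    apply hM
    rw [eq_top_iff, ← h]
    refine iSup_le ?_
    rintro ⟨t, ht, ht2⟩
    rw [orderOf_eq_prime_iff, pow_two] at ht2
    exact hgood t ht.2 ht2.1 ht2.2

/-- **(END)** : a good involution in the centre of a Sylow subgroup, the products with its commuting
conjugates have centralisers in `M` -/
theorem stronglyEmbedded_of_central (hc : Crit1175 G) (hM : M ≠ ⊤) (h2 : HTwo M) {w : G} (hw : Good M w)
    (S : Sylow 2 G) (hwS : w ∈ S) (hwc : ∀ s ∈ S, s * w = w * s)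
    (h : ∀ g ∈ M, w * (g * w * g⁻¹) = (g * w * g⁻¹) * w → g * w * g⁻¹ ≠ w →
      centralizer ({w * (g * w * g⁻¹)} : Set G) ≤ M) :
    ∃ H : Subgroup G, IsStronglyEmbedded H := by
  refine hc M hM w hw.orderOf hw.mem ⟨S, hwS, fun s hs => hwc s hs⟩ (fun g hg => h2 w hw g hg) ?_
  intro g hg hne
  refine h g ?_ hg hne
  apply h2 w hw
  exact mem_of_comm hw hg.eq.symm

end strong

/-! ### with Bender's theorem -/

section bender

open Cfsg.Agent.BenderType.Classify

variable [Finite G] {M N : Subgroup G}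

/-- Bender's theorem for `G`, in the form of `StrongEmb.Strong.result` -/
def Bend (G : Type*) [Group G] : Prop := ∀ H : Subgroup G, IsStronglyEmbedded H → Concl G

/-- two nonabelian 2-subgroups which commute and generate a 2-group -/
structure Two (G : Type*) [Group G] : Prop where
  out : ∃ P Q R : Subgroup G, IsPGroup 2 P ∧ Q ≤ P ∧ R ≤ P ∧ (∀ x ∈ Q, ∀ y ∈ R, x * y = y * x) ∧
    (∃ x ∈ Q, ∃ y ∈ Q, x * y ≠ y * x) ∧ (∃ x ∈ R, ∃ y ∈ R, x * y ≠ y * x)

theorem Two.not_stronglyEmbedded (h : Two G) (hB : Bend G) (H : Subgroup G) : ¬ IsStronglyEmbedded H := by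
  intro hH
  obtain ⟨P, Q, R, hP, hQ, hR, hQR, hQn, hRn⟩ := h.out
  exact Cfsg.Agent.Cit.CloBen.false_of_concl (hB H hH) hP hQ hR hQR hQn hRn

theorem false_of_normal (ht : Two G) (hB : Bend G) (hc : Crit1174 G) (hM : M ≠ ⊤) (h2 : HTwo M) (hNM : N ≤ M)
    (hn : M ≤ normalizer (N : Set G)) (hN : Even (Nat.card N))
    (hgood : ∀ f ∈ N, f * f = 1 → f ≠ 1 → centralizer {f} ≤ M) : False := by
  obtain ⟨H, hH⟩ := stronglyEmbedded_of_normal hc hM h2 hNM hn hN hgood
  exact ht.not_stronglyEmbedded hB H hH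

theorem false_of_central (ht : Two G) (hB : Bend G) (hc : Crit1175 G) (hM : M ≠ ⊤) (h2 : HTwo M) {w : G}
    (hw : Good M w) (S : Sylow 2 G) (hwS : w ∈ S) (hwc : ∀ s ∈ S, s * w = w * s)
    (h : ∀ g ∈ M, w * (g * w * g⁻¹) = (g * w * g⁻¹) * w → g * w * g⁻¹ ≠ w →
      centralizer ({w * (g * w * g⁻¹)} : Set G) ≤ M) : False := by
  obtain ⟨H, hH⟩ := stronglyEmbedded_of_central hc hM h2 hw S hwS hwc h
  exact ht.not_stronglyEmbedded hB H hH

end bender

end Cfsg.Agent.Cit.CloEnd
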