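import Cfsg.Agent.Cit.CloPoint
import Cfsg.Agent.Cit.CloEnd

/-!
# CONN / CLOSE: glue between `CloPoint.Clo` and `CloEnd`
-/

set_option autoImplicit false
set_option linter.unusedSectionVars false

namespace Cfsg.Agent.Cit.CloPoint

open Subgroup Cfsg OneBasic

variable {G : Type*} [Group G]

namespace Clo

variable {M : Subgroup G} {QQ : Set (Subgroup G)}

/-- (h2') in the form of `CloEnd` -/
theorem hTwo [Finite G] (c : Clo M QQ) : CloEnd.HTwo M := fun _ hf _ hg => c.h2' hf.sq hf.cent hg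

/-- the elements `≠ 1` of `EE QQ P` are good -/
theorem good [Finite G] (c : Clo M QQ) {P : Subgroup G} (hP : IsPGroup 2 P) (hPM : P ≤ M) {e : G}
    (he : e ∈ EE QQ P) (he1 : e ≠ 1) : CloEnd.Good M e :=
  ⟨hPM (c.EE_le he), c.EE_sq hP hPM he, he1, c.m1 P hP hPM e he he1⟩

theorem good_zz [Finite G] (c : Clo M QQ) {Q : Subgroup G} (hQ : Q ∈ QQ) : CloEnd.Good M (zz Q) :=
  c.good (c.two Q hQ) (c.le Q hQ) (subset_closure ⟨Q, hQ, le_rfl, rfl⟩) (c.zz_ne hQ)

theorem syl_of_sylow [Finite G] {S : Sylow 2 G} (hS : (S : Subgroup G) ≤ M) : Syl (S : Subgroup G) M := by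
  haveI : Fact (Nat.Prime 2) := ⟨Nat.prime_two⟩
  refine ⟨hS, S.isPGroup', fun h => ?_⟩
  have h1 := relIndex_mul_index hS
  exact S.not_dvd_index (h1 ▸ h.mul_right _)

/-- `M` contains a Sylow 2-subgroup of `G` -/
theorem exists_sylow_le [Finite G] (c : Clo M QQ) : ∃ S : Sylow 2 G, (S : Subgroup G) ≤ M := by
  obtain ⟨S, hS⟩ := Hyp.exists_syl M
  obtain ⟨T, hT⟩ := c.sylow hS
  exact ⟨T, by rw [hT]; exact hS.1⟩

/-- every element of a Sylow 2-subgroup of `G` contained in `M` commutes with a good involution -/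
theorem exists_good_comm [Finite G] (c : Clo M QQ) {S : Sylow 2 G} (hS : (S : Subgroup G) ≤ M) {x : G}
    (hx : x ∈ S) : ∃ f, CloEnd.Good M f ∧ f * x = x * f := by
  obtain ⟨e, he, he1, hex⟩ := c.exists_comm (syl_of_sylow hS) hx
  exact ⟨e, c.good S.isPGroup' hS he he1, hex⟩

/-- **(TR)** -/
theorem sylow_le_commutator [Finite G] (c : Clo M QQ) (S : Sylow 2 G) (hS : (S : Subgroup G) ≤ M)
    (hG : commutator G = ⊤) : (S : Subgroup G) ≤ ⁅M, M⁆ :=
  CloEnd.sylow_le_commutator c.hTwo S hS (fun _ hx => c.exists_good_comm hS hx) hG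

/-- two commuting members in a common 2-group -/
theorem two' [Finite G] (c : Clo M QQ) {P Q R : Subgroup G} (hP : IsPGroup 2 P) (hPM : P ≤ M) (hQ : Q ∈ QQ)
    (hR : R ∈ QQ) (hQP : Q ≤ P) (hRP : R ≤ P) (hne : Q ≠ R) : CloEnd.Two G := by
  have key : ∀ Q ∈ QQ, ∃ x ∈ Q, ∃ y ∈ Q, x * y ≠ y * x := by
    intro Q hQ
    obtain ⟨x, hx, y, hy, hxx, hyy, hxy⟩ := c.quat Q hQ
    refine ⟨x, hx, y, hy, fun h => ?_⟩
    rw [h, mul_inv_cancel_right] at hxy
    apply c.zz_ne hQ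
    rw [← hyy]
    nth_rewrite 2 [hxy]
    exact mul_inv_cancel y
  exact ⟨P, Q, R, hP, hQP, hRP, fun x hx y hy => c.comm P hP hPM Q hQ R hR hQP hRP hne x hx y hy,
    key Q hQ, key R hR⟩

end Clo

end Cfsg.Agent.Cit.CloPoint
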