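import Cfsg.Agent.Cit.OneBasic
import Cfsg.Agent.Cit.CloCount

/-!
# Closing of the classical involution theorem: one fixed point

`Clo M QQ` (bb R18 #7038 (B)): `M ≤ G`, `QQ` an `M`-invariant set of subgroups of `M` with a unique involution
`zz Q`, containing "quaternion" pairs `x, y`; distinct members in a common 2-subgroup of `M` commute; every Sylow
2-subgroup of `M` contains a member; `(M1)` the centralisers of the elements `e ≠ 1` of
`EE QQ P = ⟨zz Q : Q ∈ QQ, Q ≤ P⟩` are in `M`; `(h2)` `g (zz Q) g⁻¹ ∈ M` implies `g ∈ M`.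

* `Clo.h2'` : if `f ∈ M` is an involution with `C_G(f) ≤ M`, then `g f g⁻¹ ∈ M` implies `g ∈ M`.
* `Clo.normalizer_le`, `Clo.sylow` : Sylow 2-subgroups of `M` are Sylow in `G`.
* `Clo.strong_control`.
-/

set_option autoImplicit false
set_option linter.style.haveILetI false
set_option linter.unusedSectionVars false
set_option linter.unusedVariables false
set_option linter.unusedTactic false

namespace Cfsg.Agent.Cit.CloPoint

open Subgroup Cfsg OneBasic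

variable {G : Type*} [Group G]

/-- the involutions `zz Q`, `Q ∈ QQ`, `Q ≤ P` -/
def ZS (QQ : Set (Subgroup G)) (P : Subgroup G) : Set G := {z | ∃ Q ∈ QQ, Q ≤ P ∧ zz Q = z}

/-- `⟨zz Q : Q ∈ QQ, Q ≤ P⟩` -/
def EE (QQ : Set (Subgroup G)) (P : Subgroup G) : Subgroup G := closure (ZS QQ P)

/-- see the head of the file -/
structure Clo (M : Subgroup G) (QQ : Set (Subgroup G)) : Prop where
  le : ∀ Q ∈ QQ, Q ≤ M
  two : ∀ Q ∈ QQ, IsPGroup 2 Q
  ord : ∀ Q ∈ QQ, zz Q ∈ Q ∧ orderOf (zz Q) = 2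
  uniq : ∀ Q ∈ QQ, ∀ t ∈ Q, orderOf t = 2 → t = zz Q
  quat : ∀ Q ∈ QQ, ∃ x ∈ Q, ∃ y ∈ Q, x * x = zz Q ∧ y * y = zz Q ∧ x * y * x⁻¹ = y⁻¹
  inv : ∀ m ∈ M, ∀ Q ∈ QQ, cj m Q ∈ QQ
  comm : ∀ P : Subgroup G, IsPGroup 2 P → P ≤ M → ∀ Q ∈ QQ, ∀ Q' ∈ QQ, Q ≤ P → Q' ≤ P → Q ≠ Q' →
    ∀ a ∈ Q, ∀ b ∈ Q', a * b = b * a
  syl : ∀ S, Syl S M → ∃ Q ∈ QQ, Q ≤ S
  m1 : ∀ P : Subgroup G, IsPGroup 2 P → P ≤ M → ∀ e ∈ EE QQ P, e ≠ 1 → centralizer {e} ≤ M
  h2 : ∀ Q ∈ QQ, ∀ g, g * zz Q * g⁻¹ ∈ M → g ∈ M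

theorem zz_cj_of_uniq {Q : Subgroup G} (h1 : zz Q ∈ Q ∧ orderOf (zz Q) = 2)
    (hu : ∀ t ∈ Q, orderOf t = 2 → t = zz Q) (g : G) : zz (cj g Q) = g * zz Q * g⁻¹ := by
  have h2 : ∃ t ∈ cj g Q, orderOf t = 2 :=
    ⟨g * zz Q * g⁻¹, conj_mem_cj h1.1, by rw [← h1.2]; exact (MulAut.conj g).orderOf_eq _⟩
  obtain ⟨h3, h4⟩ := zz_spec h2
  have h5 := hu _ (mem_cj.1 h3) (by
    rw [← h4]
    have := (MulAut.conj g⁻¹).orderOf_eq (zz (cj g Q))
    simpa using this)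
  rw [← h5]; group

/-- half of a finite set with a fixed point free involution -/
theorem exists_half {X : Set G} [Finite G] (τ : G → G) (hX : ∀ z ∈ X, τ z ∈ X) (hτ : ∀ z, τ (τ z) = z)
    (hne : ∀ z ∈ X, τ z ≠ z) : ∃ Y ⊆ X, X.ncard = 2 * Y.ncard ∧ (∀ z ∈ Y, τ z ∉ Y) ∧
      (∀ z ∈ X, z ∈ Y ∨ τ z ∈ Y) := by
  classical
  obtain ⟨n, ⟨e⟩⟩ := Finite.exists_equiv_fin G
  let Y : Set G := {z ∈ X | e z < e (τ z)}
  have hY : ∀ z, z ∈ Y ↔ z ∈ X ∧ e z < e (τ z) := fun z => Iff.rfl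
  have h1 : ∀ z ∈ Y, τ z ∉ Y := by
    intro z hz hz'
    rw [hY] at hz hz'
    rw [hτ] at hz'
    exact lt_asymm hz.2 hz'.2
  have h2 : ∀ z ∈ X, z ∈ Y ∨ τ z ∈ Y := by
    intro z hz
    rcases lt_trichotomy (e z) (e (τ z)) with h | h | h
    · exact Or.inl ⟨hz, h⟩
    · exact absurd (e.injective h).symm (hne z hz)
    · refine Or.inr ⟨hX z hz, ?_⟩
      rwa [hτ]
  refine ⟨Y, fun z hz => hz.1, ?_, h1, h2⟩
  have hinj : Function.Injective τ := fun a b hab => by rw [← hτ a, hab, hτ]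
  have h3 : X = Y ∪ τ '' Y := by
    ext z
    constructor
    · intro hz
      rcases h2 z hz with h | h
      · exact Or.inl h
      · exact Or.inr ⟨τ z, h, hτ z⟩
    · rintro (h | ⟨w, hw, rfl⟩)
      · exact h.1
      · exact hX w hw.1
  have h4 : Disjoint Y (τ '' Y) := by
    rw [Set.disjoint_left]
    rintro z hz ⟨w, hw, rfl⟩
    exact h1 w hw hz
  conv_lhs => rw [h3]
  rw [Set.ncard_union_eq h4 (Set.toFinite _) (Set.toFinite _), Set.ncard_image_of_injective _ hinj]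
  ring

namespace Clo

variable {M : Subgroup G} {QQ : Set (Subgroup G)}

theorem zz_cj (c : Clo M QQ) {Q : Subgroup G} (hQ : Q ∈ QQ) (g : G) : zz (cj g Q) = g * zz Q * g⁻¹ :=
  zz_cj_of_uniq (c.ord Q hQ) (c.uniq Q hQ) g

theorem zz_mul (c : Clo M QQ) {Q : Subgroup G} (hQ : Q ∈ QQ) : zz Q * zz Q = 1 := by
  rw [← pow_two, ← (c.ord Q hQ).2, pow_orderOf_eq_one]

theorem zz_ne (c : Clo M QQ) {Q : Subgroup G} (hQ : Q ∈ QQ) : zz Q ≠ 1 := by
  intro h1
  have := (c.ord Q hQ).2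
  rw [h1, orderOf_one] at this
  omega

theorem zz_mem_ZS {Q P : Subgroup G} (hQ : Q ∈ QQ) (hQP : Q ≤ P) : zz Q ∈ ZS QQ P := ⟨Q, hQ, hQP, rfl⟩

/-- the number of involutions `zz Q`, `Q ≤ S`, is the same for all Sylow 2-subgroups of `M` and their conjugates -/
theorem ncard_ZS (c : Clo M QQ) (g m : G) (hm : m ∈ M) (S : Subgroup G) :
    {z | ∃ Q ∈ QQ, cj g Q ≤ cj (g * m) S ∧ zz (cj g Q) = z}.ncard = (ZS QQ S).ncard := by
  have h1 : {z | ∃ Q ∈ QQ, cj g Q ≤ cj (g * m) S ∧ zz (cj g Q) = z}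
      = (fun z => (g * m) * z * (g * m)⁻¹) '' (ZS QQ S) := by
    ext z
    constructor
    · rintro ⟨Q, hQ, hQS, rfl⟩
      have h2 : cj m⁻¹ Q ∈ QQ := c.inv _ (inv_mem hm) Q hQ
      refine ⟨zz (cj m⁻¹ Q), ⟨cj m⁻¹ Q, h2, ?_, rfl⟩, ?_⟩
      · rw [cj_mul, cj_le_cj] at hQS
        have h3 := cj_mono m⁻¹ hQS
        rwa [cj_inv_cj] at h3
      · change (g * m) * zz (cj m⁻¹ Q) * (g * m)⁻¹ = _
        rw [c.zz_cj hQ, c.zz_cj hQ]; group
    · rintro ⟨_, ⟨Q, hQ, hQS, rfl⟩, rfl⟩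
      refine ⟨cj m Q, c.inv m hm Q hQ, ?_, ?_⟩
      · rw [cj_mul, cj_le_cj]
        exact cj_mono m hQS
      · change _ = (g * m) * zz Q * (g * m)⁻¹
        rw [c.zz_cj (c.inv m hm Q hQ), c.zz_cj hQ]; group
  rw [h1, Set.ncard_image_of_injective]
  intro a b hab
  exact mul_left_cancel (mul_right_cancel (hab : (g * m) * a * (g * m)⁻¹ = (g * m) * b * (g * m)⁻¹))

variable [Finite G]

/-- **(h2')** -/
theorem h2' (c : Clo M QQ) {f g : G} (hf2 : f * f = 1)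
    (hcf : centralizer {f} ≤ M) (hg : g * f * g⁻¹ ∈ M) : g ∈ M := by
  by_contra hgM
  obtain ⟨t, ht⟩ : ∃ t, t = g * f * g⁻¹ := ⟨_, rfl⟩
  rw [← ht] at hg
  have ht2 : t * t = 1 := by
    rw [ht]
    calc g * f * g⁻¹ * (g * f * g⁻¹) = g * (f * f) * g⁻¹ := by group
      _ = 1 := by rw [hf2]; group
  have htinv : t⁻¹ = t := inv_eq_of_mul_eq_one_right ht2
  have hct : ∀ x, x * t = t * x → g⁻¹ * x * g ∈ M := by
    intro x hx
    apply hcf
    rw [mem_centralizer_singleton_iff]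
    have h1 : f = g⁻¹ * t * g := by rw [ht]; group
    rw [h1]
    calc g⁻¹ * x * g * (g⁻¹ * t * g) = g⁻¹ * (x * t) * g := by group
      _ = g⁻¹ * (t * x) * g := by rw [hx]
      _ = _ := by group
  -- no `zz Q` commutes with `t`
  have hzt : ∀ Q ∈ QQ, t * zz Q * t⁻¹ ≠ zz Q := by
    intro Q hQ hcon
    have h1 := hct (zz Q) (by rw [mul_inv_eq_iff_eq_mul] at hcon; exact hcon.symm)
    have h2 := c.h2 Q hQ g⁻¹ (by rwa [inv_inv])
    exact hgM (by simpa using M.inv_mem h2)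
  have htp : IsPGroup 2 (zpowers t) := by
    intro x
    obtain ⟨k, hk⟩ := x.2
    refine ⟨1, Subtype.ext ?_⟩
    have hk' : t ^ k = (x : G) := hk
    rw [pow_one, pow_two]
    change (x : G) * x = 1
    rw [← hk', ← (Commute.refl t).mul_zpow, ht2, one_zpow]
  obtain ⟨S, hS, htS⟩ := exists_syl_ge htp (zpowers_le.2 hg)
  have htS' : t ∈ S := htS (mem_zpowers t)
  -- the half of `X = ZS QQ S`
  obtain ⟨Y, hYX, hXY, hYτ, hXYτ⟩ := exists_half (X := ZS QQ S) (fun z => t * z * t⁻¹)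
    (by
      rintro _ ⟨Q, hQ, hQS, rfl⟩
      refine ⟨cj t Q, c.inv t hg Q hQ, ?_, c.zz_cj hQ t⟩
      have := cj_mono t hQS
      rwa [mem_normalizer_iff_cj.1 (le_normalizer htS')] at this)
    (by
      intro z
      change t * (t * z * t⁻¹) * t⁻¹ = z
      rw [htinv]
      calc t * (t * z * t) * t = (t * t) * z * (t * t) := by group
        _ = z := by rw [ht2]; group)
    (by
      rintro _ ⟨Q, hQ, hQS, rfl⟩
      exact hzt Q hQ)
  have hch : ∀ z : Y, ∃ Q ∈ QQ, Q ≤ S ∧ zz Q = (z : G) := fun z => hYX z.2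
  choose Qf hQf hQS hQz using hch
  have hq : ∀ z : Y, ∃ x ∈ Qf z, ∃ y ∈ Qf z, x * x = zz (Qf z) ∧ y * y = zz (Qf z) ∧ x * y * x⁻¹ = y⁻¹ :=
    fun z => c.quat _ (hQf z)
  choose x hx y hy hxx hyy hxy using hq
  -- commuting
  have hQt : ∀ z, cj t (Qf z) ∈ QQ := fun z => c.inv t hg _ (hQf z)
  have hQtS : ∀ z, cj t (Qf z) ≤ S := by
    intro z
    have := cj_mono t (hQS z)
    rwa [mem_normalizer_iff_cj.1 (le_normalizer htS')] at this
  have cA : ∀ z, ∀ a ∈ Qf z, ∀ b ∈ Qf z, a * (t * b * t⁻¹) = (t * b * t⁻¹) * a := by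
    intro z a ha b hb
    refine c.comm S hS.2.1 hS.1 _ (hQf z) _ (hQt z) (hQS z) (hQtS z) ?_ a ha _ (conj_mem_cj hb)
    intro h1
    apply hzt _ (hQf z)
    rw [← c.zz_cj (hQf z), ← h1]
  have cB : ∀ z z', z ≠ z' → ∀ a ∈ Qf z, ∀ b ∈ Qf z', a * b = b * a := by
    intro z z' hne a ha b hb
    refine c.comm S hS.2.1 hS.1 _ (hQf z) _ (hQf z') (hQS z) (hQS z') ?_ a ha b hb
    intro h1
    apply hne
    apply Subtype.ext
    rw [← hQz z, ← hQz z', h1]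
  have cC : ∀ z z', z ≠ z' → ∀ a ∈ Qf z, ∀ b ∈ Qf z', a * (t * b * t⁻¹) = (t * b * t⁻¹) * a := by
    intro z z' hne a ha b hb
    refine c.comm S hS.2.1 hS.1 _ (hQf z) _ (hQt z') (hQS z) (hQtS z') ?_ a ha _ (conj_mem_cj hb)
    intro h1
    have h2 : (z : G) = t * (z' : G) * t⁻¹ := by
      rw [← hQz z, ← hQz z', ← c.zz_cj (hQf z'), h1]
    apply hYτ z' z'.2
    change t * (z' : G) * t⁻¹ ∈ Y
    rw [← h2]
    exact z.2
  -- diagonal elements
  have key : ∀ z z', (∀ a ∈ Qf z, ∀ b ∈ Qf z', a * b = b * a) →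
      (∀ a ∈ Qf z, ∀ b ∈ Qf z', a * (t * b * t⁻¹) = (t * b * t⁻¹) * a) →
      ∀ a ∈ Qf z, ∀ b ∈ Qf z', (a * (t * a * t⁻¹)) * (b * (t * b * t⁻¹)) =
        (b * (t * b * t⁻¹)) * (a * (t * a * t⁻¹)) := by
    intro z z' h1 h2 a ha b hb
    have e1 := h1 a ha b hb
    have e2 := h2 a ha b hb
    have e3 : (t * a * t⁻¹) * (t * b * t⁻¹) = (t * b * t⁻¹) * (t * a * t⁻¹) := by
      calc (t * a * t⁻¹) * (t * b * t⁻¹) = t * (a * b) * t⁻¹ := by group
        _ = t * (b * a) * t⁻¹ := by rw [e1]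
        _ = _ := by group
    have e4 : (t * a * t⁻¹) * b = b * (t * a * t⁻¹) := by
      have h3 : t * (a * (t * b * t⁻¹)) * t⁻¹ = t * ((t * b * t⁻¹) * a) * t⁻¹ := by rw [e2]
      have h4 : t * (a * (t * b * t⁻¹)) * t⁻¹ = (t * a * t⁻¹) * ((t * t) * b * (t * t)⁻¹) := by group
      have h5 : t * ((t * b * t⁻¹) * a) * t⁻¹ = ((t * t) * b * (t * t)⁻¹) * (t * a * t⁻¹) := by group
      rw [h4, h5, ht2] at h3
      simpa using h3
    generalize t * a * t⁻¹ = a' at *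
    generalize t * b * t⁻¹ = b' at *
    calc a * a' * (b * b') = a * (a' * b) * b' := by group
      _ = (a * b) * (a' * b') := by rw [e4]; group
      _ = (b * a) * (b' * a') := by rw [e1, e3]
      _ = b * (a * b') * a' := by group
      _ = b * b' * (a * a') := by rw [e2]; group
  have hdiag : ∀ z, ∀ a ∈ Qf z, ∀ b ∈ Qf z, (a * (t * a * t⁻¹)) * (b * (t * b * t⁻¹)) =
      (a * b) * (t * (a * b) * t⁻¹) := by
    intro z a ha b hb
    have e2 := cA z b hb a ha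
    calc (a * (t * a * t⁻¹)) * (b * (t * b * t⁻¹)) = a * ((t * a * t⁻¹) * b) * (t * b * t⁻¹) := by group
      _ = a * (b * (t * a * t⁻¹)) * (t * b * t⁻¹) := by rw [e2]
      _ = _ := by group
  have hdt : ∀ z, ∀ a ∈ Qf z, (a * (t * a * t⁻¹)) * t = t * (a * (t * a * t⁻¹)) := by
    intro z a ha
    have e2 := cA z a ha a ha
    have h3 : t * (a * (t * a * t⁻¹)) * t⁻¹ = a * (t * a * t⁻¹) := by
      calc t * (a * (t * a * t⁻¹)) * t⁻¹ = (t * a * t⁻¹) * ((t * t) * a * (t * t)⁻¹) := by group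
        _ = (t * a * t⁻¹) * a := by rw [ht2]; group
        _ = a * (t * a * t⁻¹) := e2.symm
    rw [mul_inv_eq_iff_eq_mul] at h3
    exact h3.symm
  have hdS : ∀ z, ∀ a ∈ Qf z, a * (t * a * t⁻¹) ∈ S := by
    intro z a ha
    exact S.mul_mem (hQS z ha) (S.mul_mem (S.mul_mem htS' (hQS z ha)) (S.inv_mem htS'))
  -- the Sylow subgroup `S1` of `g M g⁻¹`
  set P : Subgroup G := closure {w | ∃ z, ∃ a ∈ Qf z, w = a * (t * a * t⁻¹)} with hP
  have hPS : P ≤ S := by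
    rw [hP, closure_le]
    rintro _ ⟨z, a, ha, rfl⟩
    exact hdS z a ha
  have hPM : P ≤ cj g M := by
    rw [hP, closure_le]
    rintro _ ⟨z, a, ha, rfl⟩
    rw [SetLike.mem_coe, mem_cj]
    exact hct _ (hdt z a ha)
  obtain ⟨S1, hS1, hPS1⟩ := exists_syl_ge (hS.2.1.to_le hPS) hPM
  obtain ⟨k, hk, hkS⟩ := (hS.cj g).exists_conj hS1
  rw [mem_cj] at hk
  obtain ⟨m, hm⟩ : ∃ m, m = g⁻¹ * k * g := ⟨_, rfl⟩
  rw [← hm] at hk
  have hS1' : S1 = cj (g * m) S := by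
    rw [← hkS, ← cj_mul]
    congr 1
    rw [hm]; group
  -- apply CP
  set X1 : Set G := {z | ∃ Q ∈ QQ, cj g Q ≤ cj (g * m) S ∧ zz (cj g Q) = z} with hX1
  have hcard : X1.ncard = 2 * Nat.card Y := by
    rw [hX1, c.ncard_ZS g m hk, hXY, Nat.card_coe_set_eq]
  have hne : Nonempty Y := by
    obtain ⟨Q, hQ, hQS⟩ := c.syl S hS
    rcases hXYτ (zz Q) ⟨Q, hQ, hQS, rfl⟩ with h | h
    · exact ⟨⟨_, h⟩⟩
    · exact ⟨⟨_, h⟩⟩
  have hact : ∀ p ∈ P, ∀ w ∈ X1, p * w * p⁻¹ ∈ X1 := by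
    rintro p hp w ⟨Q, hQ, hQS, rfl⟩
    have hpM : g⁻¹ * p * g ∈ M := mem_cj.1 (hPM hp)
    have h1 : cj p (cj g Q) = cj g (cj (g⁻¹ * p * g) Q) := by
      rw [← cj_mul, ← cj_mul]
      congr 1
      group
    refine ⟨cj (g⁻¹ * p * g) Q, c.inv _ hpM Q hQ, ?_, ?_⟩
    · rw [← h1, ← hS1', ← mem_normalizer_iff_cj.1 (le_normalizer (hPS1 hp)), hS1']
      exact cj_mono p hQS
    · rw [c.zz_cj (c.inv _ hpM Q hQ), c.zz_cj hQ, c.zz_cj hQ]; group
  have hX1ne : X1.Nonempty := by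
    rw [← Set.ncard_pos (Set.toFinite X1), hcard]
    have := Nat.card_pos (α := Y)
    omega
  have hend : ∃ e ∈ closure (Set.range fun z : Y => (z : G) * (t * (z : G) * t⁻¹)), e ≠ 1 ∧ ∃ p ∈ X1,
      e * p = p * e := by
    refine CloCount.exists_commute (fun z => x z * (t * x z * t⁻¹)) (fun z => y z * (t * y z * t⁻¹))
      (fun z => (z : G) * (t * (z : G) * t⁻¹)) (Set.toFinite X1) hX1ne hcard.le ?_ ?_ ?_ ?_ ?_ ?_ ?_ ?_ ?_
    · intro z
      change x z * (t * x z * t⁻¹) * (x z * (t * x z * t⁻¹)) = (z : G) * (t * (z : G) * t⁻¹)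
      rw [hdiag z _ (hx z) _ (hx z), hxx, hQz]
    · intro z
      change y z * (t * y z * t⁻¹) * (y z * (t * y z * t⁻¹)) = (z : G) * (t * (z : G) * t⁻¹)
      rw [hdiag z _ (hy z) _ (hy z), hyy, hQz]
    · intro z
      change (z : G) * (t * (z : G) * t⁻¹) * ((z : G) * (t * (z : G) * t⁻¹)) = 1
      have hzm : (z : G) ∈ Qf z := by rw [← hQz z]; exact (c.ord _ (hQf z)).1
      rw [hdiag z _ hzm _ hzm]
      have h1 : (z : G) * (z : G) = 1 := by rw [← hQz z]; exact c.zz_mul (hQf z)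
      rw [h1]; group
    · intro z h1
      change (z : G) * (t * (z : G) * t⁻¹) = 1 at h1
      have h2 : (z : G) * (z : G) = 1 := by rw [← hQz z]; exact c.zz_mul (hQf z)
      apply hzt _ (hQf z)
      rw [hQz z]
      exact mul_left_cancel (h1.trans h2.symm)
    · intro z
      change x z * (t * x z * t⁻¹) * (y z * (t * y z * t⁻¹)) * (x z * (t * x z * t⁻¹))⁻¹
        = (y z * (t * y z * t⁻¹))⁻¹
      have hyi : (y z)⁻¹ ∈ Qf z := (Qf z).inv_mem (hy z)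
      have h1 : (y z * (t * y z * t⁻¹))⁻¹ = (y z)⁻¹ * (t * (y z)⁻¹ * t⁻¹) := by
        have e2 := cA z _ (hy z) _ (hy z)
        rw [e2]; group
      rw [mul_inv_eq_iff_eq_mul, h1, hdiag z _ (hx z) _ (hy z), hdiag z _ hyi _ (hx z)]
      have h2 : x z * y z = (y z)⁻¹ * x z := by
        rw [← hxy z]; group
      rw [h2]
    · intro z z' hne
      exact key z z' (cB z z' hne) (cC z z' hne) _ (hx z) _ (hx z')
    · intro z z' hne
      exact key z z' (cB z z' hne) (cC z z' hne) _ (hx z) _ (hy z')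
    · intro z p hp
      exact hact _ (subset_closure ⟨z, x z, hx z, rfl⟩) p hp
    · intro z p hp
      exact hact _ (subset_closure ⟨z, y z, hy z, rfl⟩) p hp
  obtain ⟨e, he, he1, p, hp, hep⟩ := hend
  obtain ⟨Q, hQ, -, rfl⟩ := hp
  have heE : e ∈ EE QQ S := by
    have h1 : closure (Set.range fun z : Y => (z : G) * (t * (z : G) * t⁻¹)) ≤ EE QQ S := by
      rw [closure_le]
      rintro _ ⟨z, rfl⟩
      refine (EE QQ S).mul_mem (subset_closure (hYX z.2)) (subset_closure ?_)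
      refine ⟨cj t (Qf z), hQt z, hQtS z, ?_⟩
      rw [c.zz_cj (hQf z), hQz z]
    exact h1 he
  have h2 := c.m1 S hS.2.1 hS.1 e heE he1 (mem_centralizer_singleton_iff.2 hep.symm)
  rw [c.zz_cj hQ] at h2
  exact hgM (c.h2 Q hQ g h2)

/-! ### Corollaries -/

/-- a 2-subgroup of `M` containing a member has its normaliser in `M` -/
theorem normalizer_le (c : Clo M QQ) {P Q : Subgroup G} (hPM : P ≤ M) (hQ : Q ∈ QQ) (hQP : Q ≤ P) :
    normalizer (P : Set G) ≤ M := by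
  intro n hn
  apply c.h2 Q hQ
  exact hPM ((mem_normalizer_iff.1 hn _).1 (hQP (c.ord Q hQ).1))

/-- Sylow 2-subgroups of `M` are Sylow in `G` -/
theorem sylow (c : Clo M QQ) {S : Subgroup G} (hS : Syl S M) : ∃ T : Sylow 2 G, (T : Subgroup G) = S := by
  haveI : Fact (Nat.Prime 2) := ⟨Nat.prime_two⟩
  obtain ⟨T, hT⟩ := hS.2.1.exists_le_sylow
  refine ⟨T, ?_⟩
  by_contra hne
  obtain ⟨Q, hQ, hQS⟩ := c.syl S hS
  have hlt : S < T := lt_of_le_of_ne hT (Ne.symm hne)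
  haveI := T.isPGroup'.isNilpotent
  have hlt' : S.subgroupOf T < ⊤ := by
    rw [lt_top_iff_ne_top]
    intro h
    rw [subgroupOf_eq_top] at h
    exact hlt.not_ge h
  obtain ⟨x, hx1, hx2⟩ := SetLike.exists_of_lt
    (Group.normalizerCondition_of_isNilpotent (G := T) (S.subgroupOf T) hlt')
  have hxS : (x : G) ∉ S := fun h => hx2 (mem_subgroupOf.2 h)
  have hxn : (x : G) ∈ normalizer (S : Set G) := by
    rw [mem_normalizer_iff] at hx1 ⊢
    intro y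
    constructor
    · intro hy
      exact mem_subgroupOf.1 ((hx1 ⟨y, hT hy⟩).1 (mem_subgroupOf.2 hy))
    · intro hy
      have hyT : y ∈ (T : Subgroup G) := by
        have h3 := T.1.mul_mem (T.1.mul_mem (T.1.inv_mem x.2) (hT hy)) x.2
        have h4 : (x : G)⁻¹ * (x * y * (x : G)⁻¹) * x = y := by group
        rwa [h4] at h3
      exact mem_subgroupOf.1 ((hx1 ⟨y, hyT⟩).2 (mem_subgroupOf.2 hy))
  have hxM : (x : G) ∈ M := c.normalizer_le hS.1 hQ hQS hxn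
  -- `S ⟨x⟩` is a larger 2-subgroup of `M`
  have h5 : IsPGroup 2 (zpowers (x : G)) := T.isPGroup'.to_le (zpowers_le.2 x.2)
  have h6 := isPGroup_sup_of_normalizes h5 hS.2.1 (zpowers_le.2 hxn)
  have h7 := syl_eq_of_le hS h6 (sup_le (zpowers_le.2 hxM) hS.1) le_sup_right
  apply hxS
  rw [h7]
  exact mem_sup_left (mem_zpowers _)

/-- `EE QQ P` is elementary abelian -/
theorem EE_sq (c : Clo M QQ) {P : Subgroup G} (hP : IsPGroup 2 P) (hPM : P ≤ M) {e : G}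
    (he : e ∈ EE QQ P) : e * e = 1 := by
  have hcomm : ∀ a ∈ ZS QQ P, ∀ b ∈ ZS QQ P, a * b = b * a := by
    rintro _ ⟨Q, hQ, hQP, rfl⟩ _ ⟨Q', hQ', hQP', rfl⟩
    by_cases h : Q = Q'
    · rw [h]
    · exact c.comm P hP hPM Q hQ Q' hQ' hQP hQP' h _ (c.ord Q hQ).1 _ (c.ord Q' hQ').1
  have hc : ∀ a ∈ EE QQ P, ∀ b ∈ EE QQ P, a * b = b * a := by
    have h1 : EE QQ P ≤ centralizer (ZS QQ P) := by
      rw [EE, closure_le]
      intro a ha
      rw [SetLike.mem_coe, mem_centralizer_iff]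
      intro b hb
      exact hcomm b hb a ha
    have h2 : EE QQ P ≤ centralizer (EE QQ P : Set G) := by
      rw [EE, closure_le]
      intro a ha
      rw [SetLike.mem_coe, mem_centralizer_iff]
      intro b hb
      exact (mem_centralizer_iff.1 (h1 hb) a ha).symm
    intro a ha b hb
    exact (mem_centralizer_iff.1 (h2 ha) b hb).symm
  refine closure_induction (p := fun e _ => e * e = 1) ?_ ?_ ?_ ?_ he
  · rintro _ ⟨Q, hQ, hQP, rfl⟩
    exact c.zz_mul hQ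
  · simp
  · intro a b ha hb h1 h2
    have h3 := hc a ha b hb
    calc a * b * (a * b) = a * (b * a) * b := by group
      _ = a * (a * b) * b := by rw [← h3]
      _ = (a * a) * (b * b) := by group
      _ = 1 := by rw [h1, h2, one_mul]
  · intro a ha h1
    rw [← mul_inv_rev, h1, inv_one]

theorem EE_le (c : Clo M QQ) {P : Subgroup G} : EE QQ P ≤ P := by
  rw [EE, closure_le]
  rintro _ ⟨Q, hQ, hQP, rfl⟩
  exact hQP (c.ord Q hQ).1

/-- elements of `P` normalise `EE QQ P` -/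
theorem conj_mem_EE (c : Clo M QQ) {P : Subgroup G} (hPM : P ≤ M) {a e : G} (ha : a ∈ P) (he : e ∈ EE QQ P) :
    a * e * a⁻¹ ∈ EE QQ P := by
  have h1 : EE QQ P ≤ (EE QQ P).comap (MulAut.conj a).toMonoidHom := by
    conv_lhs => rw [EE]
    rw [closure_le]
    rintro _ ⟨Q, hQ, hQP, rfl⟩
    refine subset_closure ⟨cj a Q, c.inv a (hPM ha) Q hQ, ?_, c.zz_cj hQ a⟩
    have := cj_mono a hQP
    rwa [mem_normalizer_iff_cj.1 (le_normalizer ha)] at this
  exact h1 he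

/-- every element of a Sylow 2-subgroup `S` of `M` commutes with an `e ≠ 1` in `EE QQ S` -/
theorem exists_comm (c : Clo M QQ) {S : Subgroup G} (hS : Syl S M) {x : G} (hx : x ∈ S) :
    ∃ e ∈ EE QQ S, e ≠ 1 ∧ e * x = x * e := by
  haveI : Fact (Nat.Prime 2) := ⟨Nat.prime_two⟩
  obtain ⟨Q, hQ, hQS⟩ := c.syl S hS
  have hzE : zz Q ∈ EE QQ S := subset_closure ⟨Q, hQ, hQS, rfl⟩
  -- `⟨x⟩` acts on `EE QQ S`
  let φ : zpowers x →* MulAut (EE QQ S) :=
    { toFun := fun a =>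
        { toFun := fun e => ⟨a * e * (a : G)⁻¹,
            c.conj_mem_EE hS.1 ((zpowers_le.2 hx) a.2) e.2⟩
          invFun := fun e => ⟨(a : G)⁻¹ * e * a, by
            have := c.conj_mem_EE hS.1 (S.inv_mem ((zpowers_le.2 hx) a.2)) e.2
            simpa using this⟩
          left_inv := fun e => by apply Subtype.ext; simp [mul_assoc]
          right_inv := fun e => by apply Subtype.ext; simp [mul_assoc]
          map_mul' := fun e f => by apply Subtype.ext; simp [mul_assoc] }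
      map_one' := by ext e; simp
      map_mul' := fun a b => by ext e; simp [mul_assoc] }
  letI : MulAction (zpowers x) (EE QQ S) := MulAction.compHom _ φ
  have hp : IsPGroup 2 (zpowers x) := hS.2.1.to_le (zpowers_le.2 hx)
  have hE2 : IsPGroup 2 (EE QQ S) := hS.2.1.to_le c.EE_le
  have hcard : 2 ∣ Nat.card (EE QQ S) := by
    have h1 : orderOf (⟨zz Q, hzE⟩ : EE QQ S) = 2 := by
      rw [← orderOf_coe]
      exact (c.ord Q hQ).2
    rw [← h1]
    exact orderOf_dvd_natCard _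
  have h1 : (1 : EE QQ S) ∈ MulAction.fixedPoints (zpowers x) (EE QQ S) := by
    intro a
    exact map_one (φ a)
  obtain ⟨e, he, hne⟩ := hp.exists_fixed_point_of_prime_dvd_card_of_fixed_point (EE QQ S) hcard h1
  refine ⟨e, e.2, fun h => hne (Subtype.ext h).symm, ?_⟩
  have h2 := he ⟨x, mem_zpowers x⟩
  have h3 : x * (e : G) * x⁻¹ = e := congrArg Subtype.val h2
  rw [mul_inv_eq_iff_eq_mul] at h3
  exact h3.symm

/-- **strong control of fusion** -/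
theorem strong_control (c : Clo M QQ) {S : Subgroup G} (hS : Syl S M) {x g : G} (hx : x ∈ S)
    (hg : ∀ y ∈ S, y * x = x * y → g * y * g⁻¹ ∈ M) : g ∈ M := by
  obtain ⟨e, he, he1, hex⟩ := c.exists_comm hS hx
  exact c.h2' (c.EE_sq hS.2.1 hS.1 he) (c.m1 S hS.2.1 hS.1 e he he1) (hg e (c.EE_le he) hex)

end Clo

end Cfsg.Agent.Cit.CloPoint
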