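import Cfsg.Agent.Cit.Sub
import Mathlib.GroupTheory.PGroup

/-!
# HYP passes to quotients by odd normal subgroups

`img f Om` for a surjective homomorphism `f` with kernel of odd order.
-/

set_option autoImplicit false
set_option linter.style.haveILetI false

namespace Cfsg.Agent.Cit

open Subgroup Cfsg

variable {G : Type*} [Group G]

/-- two involutions whose product has odd order are conjugate by a power of the product -/
theorem inv_conj {z t : G} (hz : z * z = 1) (ht : t * t = 1) (h : Odd (orderOf (z * t))) :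
    ∃ n ∈ zpowers (z * t), n * z * n⁻¹ = t := by
  obtain ⟨k, hk⟩ := h
  have hzi : z⁻¹ = z := inv_eq_of_mul_eq_one_right hz
  have hti : t⁻¹ = t := inv_eq_of_mul_eq_one_right ht
  have hc : z * (z * t) * z⁻¹ = (z * t)⁻¹ := by
    rw [mul_inv_rev, hzi, hti]
    calc z * (z * t) * z = (z * z) * t * z := by group
      _ = t * z := by rw [hz, one_mul]
  -- `n = w ^ k`, `n z n⁻¹ = w ^ (2k) z = w⁻¹ z = t`
  refine ⟨(z * t) ^ k, pow_mem (mem_zpowers _) k, ?_⟩
  have h1 : z * ((z * t) ^ k)⁻¹ = (z * t) ^ k * z := by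
    have h2 : z * (z * t) ^ k * z⁻¹ = ((z * t) ^ k)⁻¹ := by rw [← conj_pow, hc, inv_pow]
    have h3 : z * (z * ((z * t) ^ k) * z⁻¹) = z * ((z * t) ^ k)⁻¹ := by rw [h2]
    rw [← h3, hzi]
    calc z * (z * (z * t) ^ k * z) = (z * z) * (z * t) ^ k * z := by group
      _ = (z * t) ^ k * z := by rw [hz, one_mul]
  rw [mul_assoc, h1, ← mul_assoc, ← pow_add]
  have h4 : (z * t) ^ (k + k) * (z * t) = 1 := by
    rw [← pow_succ, show k + k + 1 = 2 * k + 1 by ring, ← hk, pow_orderOf_eq_one]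
  have h5 : (z * t) ^ (k + k) = t * z := by
    rw [eq_inv_of_mul_eq_one_left h4, mul_inv_rev, hzi, hti]
  rw [h5, mul_assoc, hz, mul_one]

/-- a 2-element in a subgroup of odd order is trivial -/
theorem eq_one_of_odd [Finite G] {N : Subgroup G} (hN : ¬ 2 ∣ Nat.card N) {x : G} (hx : x ∈ N)
    {a : ℕ} (h : x ^ 2 ^ a = 1) : x = 1 := by
  have h1 : orderOf x ∣ Nat.card N := by
    rw [← Nat.card_zpowers]
    exact card_dvd_of_le (by rwa [zpowers_le])
  have h2 : orderOf x ∣ 2 ^ a := orderOf_dvd_of_pow_eq_one h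
  have h3 : Nat.Coprime (Nat.card N) (2 ^ a) := by
    apply Nat.Coprime.pow_right
    rw [Nat.coprime_comm]
    exact (Nat.Prime.coprime_iff_not_dvd Nat.prime_two).2 hN
  have h4 : orderOf x ∣ 1 := by
    rw [← h3]; exact Nat.dvd_gcd h1 h2
  rw [Nat.dvd_one] at h4
  exact orderOf_eq_one_iff.1 h4

theorem odd_orderOf [Finite G] {N : Subgroup G} (hN : ¬ 2 ∣ Nat.card N) {x : G} (hx : x ∈ N) :
    Odd (orderOf x) := by
  rw [← Nat.not_even_iff_odd, even_iff_two_dvd]
  intro h
  apply hN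
  refine h.trans ?_
  rw [← Nat.card_zpowers]
  exact card_dvd_of_le (by rwa [zpowers_le])

variable {G' : Type*} [Group G'] {f : G →* G'}

/-- conjugacy of involutions with the same image -/
theorem exists_ker_conj [Finite G] (hker : ¬ 2 ∣ Nat.card f.ker) {z t : G} (hz : z * z = 1)
    (ht : t * t = 1) (h : f z = f t) : ∃ n ∈ f.ker, n * z * n⁻¹ = t := by
  have h1 : z * t ∈ f.ker := by
    rw [MonoidHom.mem_ker, map_mul, h, ← map_mul, ht, map_one]
  obtain ⟨n, hn, hn2⟩ := inv_conj hz ht (odd_orderOf hker h1)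
  exact ⟨n, (zpowers_le.2 h1) hn, hn2⟩

/-- a power `y = k ^ m` with `m` odd, a 2-element with the same image when the image is a 2-element -/
theorem exists_two_lift [Finite G] {k : G} {a : ℕ} (hk : f k ^ 2 ^ a = 1) :
    ∃ y ∈ zpowers k, f y = f k ∧ ∃ b : ℕ, y ^ 2 ^ b = 1 := by
  obtain ⟨b, m, hm, hbm⟩ := Nat.exists_eq_two_pow_mul_odd (orderOf_pos k).ne'
  have hcop : Nat.Coprime (2 ^ a) m := (Nat.coprime_two_left.2 hm).pow_left a
  obtain ⟨u, hu1, hu2⟩ := Nat.chineseRemainder hcop 1 0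
  refine ⟨k ^ u, pow_mem (mem_zpowers _) u, ?_, b, ?_⟩
  · rw [map_pow]
    have h1 : u ≡ 1 [MOD orderOf (f k)] := hu1.of_dvd (orderOf_dvd_of_pow_eq_one hk)
    rw [(pow_eq_pow_iff_modEq).2 h1, pow_one]
  · rw [← pow_mul]
    apply orderOf_dvd_iff_pow_eq_one.1
    rw [hbm, Nat.mul_comm]
    exact Nat.mul_dvd_mul_right (Nat.modEq_zero_iff_dvd.1 hu2) _

/-- the image of `Om` -/
def img (f : G →* G') (Om : Set (Subgroup G)) : Set (Subgroup G') := (Subgroup.map f) '' Om

variable {Om : Set (Subgroup G)}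

theorem relIndex_map_dvd (f : G →* G') (Q K : Subgroup G) :
    (Q.map f).relIndex (K.map f) ∣ Q.relIndex K := by
  rw [← relIndex_comap]
  exact relIndex_dvd_of_le_left K (le_comap_map f Q)

theorem Syl.map {Q K : Subgroup G} (h : Syl Q K) : Syl (Q.map f) (K.map f) :=
  ⟨Subgroup.map_mono h.1, h.2.1.map _, fun h2 => h.2.2 (h2.trans (relIndex_map_dvd f Q K))⟩

/-- `f` is injective on 2-subgroups -/
theorem injOn_two [Finite G] (hker : ¬ 2 ∣ Nat.card f.ker) {Q : Subgroup G} (h : IsPGroup 2 Q) :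
    Function.Injective (f.comp Q.subtype) := by
  rw [injective_iff_map_eq_one]
  intro x hx
  obtain ⟨a, ha⟩ := h x
  apply Subtype.ext
  exact eq_one_of_odd hker (x := (x : G)) hx (a := a) (by exact_mod_cast congrArg Subtype.val ha)

/-- a 2-element in the image of `K` lifts to a 2-element in `K` -/
theorem exists_two_lift' [Finite G] {K : Subgroup G} {y : G'} (hy : y ∈ K.map f) {a : ℕ}
    (ha : y ^ 2 ^ a = 1) : ∃ k ∈ K, f k = y ∧ ∃ b : ℕ, k ^ 2 ^ b = 1 := by
  obtain ⟨k, hk, rfl⟩ := hy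
  obtain ⟨u, hu, hu2, hu3⟩ := exists_two_lift ha
  exact ⟨u, (zpowers_le.2 hk) hu, hu2, hu3⟩

theorem uniq_map [Finite G] (h : Hyp Om) (hker : ¬ 2 ∣ Nat.card f.ker) {K : Subgroup G} (hK : K ∈ Om)
    {t : G'} (ht : t ∈ K.map f) (ht2 : orderOf t = 2) : t = f (zz K) := by
  have h0 : t ^ 2 = 1 := by rw [← ht2, pow_orderOf_eq_one]
  obtain ⟨k, hk, rfl, b, hb⟩ := exists_two_lift' ht (a := 1) (by rw [pow_one]; exact h0)
  have h1 : k * k = 1 := by
    rw [← pow_two]
    refine eq_one_of_odd hker (x := k ^ 2) ?_ (a := b) ?_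
    · rw [MonoidHom.mem_ker, map_pow, h0]
    · rw [← pow_mul, mul_comm, pow_mul, hb, one_pow]
  rw [h.eq_zz hK hk h1]
  rintro rfl
  rw [map_one, orderOf_one] at ht2
  omega

theorem orderOf_map_zz [Finite G] (h : Hyp Om) (hker : ¬ 2 ∣ Nat.card f.ker) {K : Subgroup G}
    (hK : K ∈ Om) : orderOf (f (zz K)) = 2 := by
  refine orderOf_eq_prime ?_ ?_
  · rw [← map_pow, pow_two, h.zz_mul hK, map_one]
  · intro h1
    refine h.zz_ne hK (eq_one_of_odd hker (x := zz K) h1 (a := 1) ?_)
    rw [pow_one, pow_two, h.zz_mul hK]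

theorem zz_map' [Finite G] (h : Hyp Om) (hker : ¬ 2 ∣ Nat.card f.ker) {K : Subgroup G}
    (hK : K ∈ Om) : zz (K.map f) = f (zz K) := by
  have h1 : ∃ t ∈ K.map f, orderOf t = 2 := ⟨f (zz K), ⟨_, h.zz_mem hK, rfl⟩, orderOf_map_zz h hker hK⟩
  obtain ⟨h2, h3⟩ := zz_spec h1
  exact uniq_map h hker hK h2 h3

/-- the centraliser of the image of an involution -/
theorem centralizer_map [Finite G] (hf : Function.Surjective f) (hker : ¬ 2 ∣ Nat.card f.ker) {z : G}
    (hz : z * z = 1) : (centralizer {z}).map f = centralizer {f z} := by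
  apply le_antisymm
  · rintro _ ⟨g, hg, rfl⟩
    rw [mem_centralizer_singleton_iff]
    have := mem_centralizer_singleton_iff.1 hg
    rw [← map_mul, this, map_mul]
  · intro g' hg'
    obtain ⟨g, rfl⟩ := hf g'
    rw [mem_centralizer_singleton_iff] at hg'
    have h1 : (g * z * g⁻¹) * (g * z * g⁻¹) = 1 := by
      calc (g * z * g⁻¹) * (g * z * g⁻¹) = g * (z * z) * g⁻¹ := by group
        _ = 1 := by rw [hz]; group
    have h2 : f z = f (g * z * g⁻¹) := by
      rw [map_mul, map_mul, map_inv, hg']; group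
    obtain ⟨n, hn, hn2⟩ := exists_ker_conj hker hz h1 h2
    refine ⟨n⁻¹ * g, ?_, ?_⟩
    · rw [SetLike.mem_coe, mem_centralizer_singleton_iff]
      calc n⁻¹ * g * z = n⁻¹ * (g * z * g⁻¹) * g := by group
        _ = n⁻¹ * (n * z * n⁻¹) * g := by rw [hn2]
        _ = z * (n⁻¹ * g) := by group
    · rw [map_mul, map_inv, MonoidHom.mem_ker.1 hn, inv_one, one_mul]

/-- a 2-element centralising `f z` modulo a kernel of odd order centralises a conjugate of `z` -/
theorem exists_conj_comm [Finite G] (hker : ¬ 2 ∣ Nat.card f.ker) {z y : G} (hz : z * z = 1) {a : ℕ}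
    (hy : y ^ 2 ^ a = 1) (hc : f y * f z = f z * f y) :
    ∃ n ∈ f.ker, y * (n * z * n⁻¹) = (n * z * n⁻¹) * y := by
  classical
  haveI : Fact (Nat.Prime 2) := ⟨Nat.prime_two⟩
  let X := {x : G // x * x = 1 ∧ f x = f z}
  -- conjugation by `g` with `f g` commuting with `f z`
  have hX : ∀ g : G, f g * f z = f z * f g → ∀ x : X, (g * x.1 * g⁻¹) * (g * x.1 * g⁻¹) = 1 ∧
      f (g * x.1 * g⁻¹) = f z := by
    intro g hg x
    constructor
    · calc (g * x.1 * g⁻¹) * (g * x.1 * g⁻¹) = g * (x.1 * x.1) * g⁻¹ := by group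
        _ = 1 := by rw [x.2.1]; group
    · rw [map_mul, map_mul, map_inv, x.2.2, hg]; group
  let φ : ∀ g : G, f g * f z = f z * f g → X → X := fun g hg x => ⟨g * x.1 * g⁻¹, hX g hg x⟩
  have hit : ∀ (g : G) (hg : f g * f z = f z * f g) (k : ℕ) (x : X),
      (((φ g hg)^[k] x) : X).1 = g ^ k * x.1 * (g ^ k)⁻¹ := by
    intro g hg k
    induction k with
    | zero => intro x; simp
    | succ k ih =>
      intro x
      rw [Function.iterate_succ_apply', pow_succ']
      change g * ((φ g hg)^[k] x).1 * g⁻¹ = _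
      rw [ih]; group
  have hit' : ∀ (g : G) (hg : f g * f z = f z * f g) (b : ℕ), g ^ 2 ^ b = 1 →
      (φ g hg)^[2 ^ b] = id := by
    intro g hg b hb
    funext x
    apply Subtype.ext
    rw [hit g hg (2 ^ b) x, hb]; simp
  haveI : Fintype X := Fintype.ofFinite X
  have hzz : f z * f z = f z * f z := rfl
  -- `z` has exactly one fixed point on `X`
  have h1 := Equiv.Perm.card_fixedPoints_modEq (α := X) (f := φ z hzz) (p := 2) (n := 1)
    (hit' z hzz 1 (by rw [pow_one, pow_two, hz]))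
  have h2 : Fintype.card (Function.fixedPoints (φ z hzz)) = 1 := by
    rw [Fintype.card_eq_one_iff]
    refine ⟨⟨⟨z, hz, rfl⟩, ?_⟩, ?_⟩
    · apply Subtype.ext
      change z * z * z⁻¹ = z
      group
    · rintro ⟨x, hx⟩
      apply Subtype.ext
      apply Subtype.ext
      change x.1 = z
      have h3 : z * x.1 * z⁻¹ = x.1 := congrArg Subtype.val hx
      have h4 : z * x.1 = x.1 * z := by rw [mul_inv_eq_iff_eq_mul] at h3; exact h3
      have h5 : z * x.1 = 1 := by
        refine eq_one_of_odd hker (x := z * x.1) ?_ (a := 1) ?_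
        · rw [MonoidHom.mem_ker, map_mul, x.2.2, ← map_mul, hz, map_one]
        · rw [pow_one, pow_two]
          calc z * x.1 * (z * x.1) = z * (x.1 * z) * x.1 := by group
            _ = (z * z) * (x.1 * x.1) := by rw [← h4]; group
            _ = 1 := by rw [hz, x.2.1, one_mul]
      have h6 : z⁻¹ = z := inv_eq_of_mul_eq_one_right hz
      exact (eq_inv_of_mul_eq_one_right h5).trans h6
  have h3 := Equiv.Perm.card_fixedPoints_modEq (α := X) (f := φ y hc) (p := 2) (n := a)
    (hit' y hc a hy)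
  have h4 : Fintype.card (Function.fixedPoints (φ y hc)) ≡ 1 [MOD 2] := by
    rw [← h2]
    exact h3.symm.trans h1
  have h5 : 0 < Fintype.card (Function.fixedPoints (φ y hc)) := by
    rcases Nat.eq_zero_or_pos (Fintype.card (Function.fixedPoints (φ y hc))) with h | h
    · rw [h] at h4; exact absurd h4 (by decide)
    · exact h
  obtain ⟨⟨x, hx⟩⟩ := Fintype.card_pos_iff.1 h5
  have h6 : y * x.1 * y⁻¹ = x.1 := congrArg Subtype.val hx
  obtain ⟨n, hn, hn2⟩ := exists_ker_conj hker hz x.2.1 x.2.2.symm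
  refine ⟨n, hn, ?_⟩
  rw [hn2]
  rw [mul_inv_eq_iff_eq_mul] at h6; exact h6

theorem map_cj_ker {n : G} (hn : n ∈ f.ker) (K : Subgroup G) : (cj n K).map f = K.map f := by
  rw [cj_map, MonoidHom.mem_ker.1 hn, cj_one]

/-- **HYP passes to images with kernel of odd order** -/
theorem Hyp.img [Finite G] (h : Hyp Om) (hf : Function.Surjective f) (hker : ¬ 2 ∣ Nat.card f.ker) :
    Hyp (img f Om) := by
  refine ⟨?_, ?_, ?_, ?_, ?_, ?_⟩
  · rintro _ ⟨K, hK, rfl⟩ g'
    obtain ⟨g, rfl⟩ := hf g'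
    exact ⟨cj g K, h.conj K hK g, cj_map f g K⟩
  · rintro _ ⟨K, hK, rfl⟩
    haveI : Fact (Nat.Prime 2) := ⟨Nat.prime_two⟩
    obtain ⟨Q, hQ⟩ := Hyp.exists_syl K
    obtain ⟨n, ⟨e⟩⟩ := h.isGQ hK hQ
    haveI : Finite G' := Finite.of_surjective f hf
    obtain ⟨S, hS⟩ := (hQ.map (f := f)).exists_sylow
    refine ⟨S, n, ⟨?_⟩⟩
    have e1 : ↥Q ≃* ↥(Q.map f) := by
      refine MulEquiv.ofBijective (f.subgroupMap Q) ⟨?_, f.subgroupMap_surjective Q⟩
      intro x y hxy
      exact injOn_two hker hQ.2.1 (congrArg Subtype.val hxy)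
    exact (((MulEquiv.subgroupCongr hS).trans (subgroupOfEquivOfLe (Subgroup.map_mono hQ.1))).trans
      e1.symm).trans e
  · rintro _ ⟨K, hK, rfl⟩ t ht ht2
    rw [zz_map' h hker hK]
    exact uniq_map h hker hK ht ht2
  · rintro _ ⟨K, hK, rfl⟩
    rw [zz_map' h hker hK]
    have h1 := h.sub K hK
    have h2 := centralizer_map hf hker (h.zz_mul hK)
    let φ : centralizer {zz K} →* centralizer {f (zz K)} :=
      { toFun := fun x => ⟨f x, by rw [← h2]; exact ⟨x, x.2, rfl⟩⟩
        map_one' := by apply Subtype.ext; simp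
        map_mul' := fun x y => by apply Subtype.ext; simp }
    have hφ : Function.Surjective φ := by
      rintro ⟨x, hx⟩
      rw [← h2] at hx
      obtain ⟨g, hg, rfl⟩ := hx
      exact ⟨⟨g, hg⟩, rfl⟩
    convert h1.map hφ using 1
    ext x
    simp only [mem_subgroupOf, mem_map]
    constructor
    · rintro ⟨k, hk, hkx⟩
      exact ⟨⟨k, h.le_centralizer hK hk⟩, hk, Subtype.ext hkx⟩
    · rintro ⟨k, hk, rfl⟩
      exact ⟨k, hk, rfl⟩
  · rintro _ ⟨K, hK, rfl⟩ _ ⟨L, hL, rfl⟩ hKL
    rw [zz_map' h hker hK, zz_map' h hker hL] at hKL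
    obtain ⟨n, hn, hn2⟩ := exists_ker_conj hker (h.zz_mul hK) (h.zz_mul hL) hKL
    rw [← map_cj_ker hn K]
    rw [← h.zz_cj hK] at hn2
    rcases h.h2 _ (h.conj K hK n) L hL hn2 with h1 | h1
    · left; rw [h1]
    · right
      rw [← map_commutator]
      exact (Subgroup.map_mono h1).trans ((map_inf_le _ _ _).trans
        (inf_le_inf (map_OO_le f _) (map_OO_le f _)))
  · rintro _ ⟨K, hK, rfl⟩ _ ⟨L, hL, rfl⟩ y' hy hy2 hy4 hyz
    rw [zz_map' h hker hL] at hyz
    obtain ⟨a, ha⟩ := hy2 ⟨y', mem_zpowers y'⟩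
    have ha' : y' ^ 2 ^ a = 1 := congrArg Subtype.val ha
    obtain ⟨y, hyK, rfl, b, hb⟩ := exists_two_lift' hy ha'
    obtain ⟨n, hn, hn2⟩ := exists_conj_comm hker (h.zz_mul hL) hb hyz
    rw [← h.zz_cj hL] at hn2
    have h1 := h.h3 K hK _ (h.conj L hL n) y hyK ?_ ?_ hn2
    · rw [← map_cj_ker hn L, mem_normalizer_iff_cj, ← cj_map, mem_normalizer_iff_cj.1 h1]
    · rintro ⟨x, hx⟩
      obtain ⟨i, rfl⟩ := hx
      refine ⟨b, Subtype.ext ?_⟩
      change (y ^ i) ^ 2 ^ b = 1
      rw [← zpow_natCast, ← zpow_mul, mul_comm, zpow_mul, zpow_natCast, hb, one_zpow]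
    · exact hy4.trans (Nat.le_of_dvd (orderOf_pos y) (orderOf_map_dvd f y))

/-- `Om(S)` of an image with kernel of odd order (`S` a 2-group): every member of `Om(f S)` is the image of
a member of `Om(S)` -/
theorem OmS_img [Finite G] (h : Hyp Om) (hker : ¬ 2 ∣ Nat.card f.ker) {S : Subgroup G}
    (hS : IsPGroup 2 S) : OmS (Cit.img f Om) (S.map f) = (Subgroup.map f) '' OmS Om S := by
  ext K'
  constructor
  · rintro ⟨⟨K, hK, rfl⟩, hK2⟩
    -- `Q` : the elements of `S` with image in `f K`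
    haveI : Fact (Nat.Prime 2) := ⟨Nat.prime_two⟩
    set Q : Subgroup G := S ⊓ (K.map f).comap f with hQ
    have hQ2 : IsPGroup 2 Q := hS.to_le inf_le_left
    have hQf : Q.map f = S.map f ⊓ K.map f := by
      apply le_antisymm
      · exact (map_inf_le _ _ _).trans (inf_le_inf_left _ (map_comap_le _ _))
      · rintro _ ⟨⟨s, hs, rfl⟩, hs2⟩
        exact ⟨s, ⟨hs, hs2⟩, rfl⟩
    -- a Sylow 2-subgroup of `K` is one of `K ⊔ ker`
    set M : Subgroup G := (K.map f).comap f with hM
    have hMK : M = K ⊔ f.ker := comap_map_eq f K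
    have hQM : Syl Q M := by
      refine ⟨inf_le_right, hQ2, ?_⟩
      intro h2
      -- `|M : Q| = |fK : fQ| |ker|`
      have h3 : Nat.card Q * Q.relIndex M = Nat.card M := by
        rw [← relIndex_bot_left Q, relIndex_mul_relIndex ⊥ Q M bot_le inf_le_right, relIndex_bot_left]
      have h4 : Nat.card (Q.map f) * (Q.map f).relIndex (K.map f) = Nat.card (K.map f) := by
        rw [← relIndex_bot_left (Q.map f), relIndex_mul_relIndex ⊥ _ _ bot_le
          (by rw [hQf]; exact inf_le_right), relIndex_bot_left]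
      have h5 : Nat.card (Q.map f) = Nat.card Q := by
        have := Nat.card_congr (MulEquiv.ofBijective (f.subgroupMap Q)
          ⟨fun x y hxy => injOn_two hker hQ2 (congrArg Subtype.val hxy),
            f.subgroupMap_surjective Q⟩).toEquiv
        exact this.symm
      have h6 : Nat.card M = Nat.card f.ker * Nat.card (K.map f) := by
        have h7 : f.ker.relIndex M = Nat.card (M.map f) := relIndex_ker M f
        have h8 : M.map f = K.map f := by
          rw [hM, Subgroup.map_comap_eq, inf_eq_right]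
          exact map_le_range f K
        have h9 : f.ker ≤ M := by rw [hMK]; exact le_sup_right
        rw [← relIndex_bot_left f.ker, ← h8, ← h7, relIndex_mul_relIndex ⊥ _ _ bot_le h9,
          relIndex_bot_left]
      have h7 : Nat.card Q * Q.relIndex M =
          Nat.card Q * (Nat.card f.ker * (Q.map f).relIndex (K.map f)) := by
        rw [h3, h6, ← h4, h5]; ring
      have h8 : Q.relIndex M = Nat.card f.ker * (Q.map f).relIndex (K.map f) :=
        Nat.eq_of_mul_eq_mul_left Nat.card_pos h7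
      rw [h8, hQf, inf_relIndex_right] at h2
      rcases (Nat.Prime.dvd_mul Nat.prime_two).1 h2 with h9 | h9
      · exact hker h9
      · exact hK2 h9
    obtain ⟨R, hR⟩ := Hyp.exists_syl K
    have hRM : Syl R M := by
      refine ⟨hR.1.trans (by rw [hMK]; exact le_sup_left), hR.2.1, ?_⟩
      intro h2
      have h3 : R.relIndex K * K.relIndex M = R.relIndex M :=
        relIndex_mul_relIndex R K M hR.1 (by rw [hMK]; exact le_sup_left)
      have h4 : K.relIndex M ∣ Nat.card f.ker := by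
        have h5 : K.relIndex M = K.relIndex f.ker := by
          rw [hMK]
          have h6 := relIndex_sup_right (H := K) (K := f.ker)
          -- `|K ker : K| = |ker : ker ∩ K|`
          have h7 : Nat.card K * K.relIndex (K ⊔ f.ker) = Nat.card (K ⊔ f.ker : Subgroup G) := by
            rw [← relIndex_bot_left K, relIndex_mul_relIndex ⊥ K _ bot_le le_sup_left,
              relIndex_bot_left]
          have h8 : Nat.card f.ker * f.ker.relIndex (K ⊔ f.ker) = Nat.card (K ⊔ f.ker : Subgroup G) := by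
            rw [← relIndex_bot_left f.ker, relIndex_mul_relIndex ⊥ f.ker _ bot_le le_sup_right,
              relIndex_bot_left]
          have h9 : Nat.card (K ⊓ f.ker : Subgroup G) * f.ker.relIndex K = Nat.card K := by
            rw [← inf_relIndex_left K f.ker, ← relIndex_bot_left (K ⊓ f.ker),
              relIndex_mul_relIndex ⊥ _ _ bot_le inf_le_left, relIndex_bot_left]
          have h10 : Nat.card (K ⊓ f.ker : Subgroup G) * K.relIndex f.ker = Nat.card f.ker := by
            rw [← inf_relIndex_right K f.ker, ← relIndex_bot_left (K ⊓ f.ker),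
              relIndex_mul_relIndex ⊥ _ _ bot_le inf_le_right, relIndex_bot_left]
          have h11 : Nat.card K * K.relIndex (K ⊔ f.ker) = Nat.card K * K.relIndex f.ker := by
            rw [h7, ← h8, h6, ← h10, ← h9]; ring
          exact Nat.eq_of_mul_eq_mul_left Nat.card_pos h11
        rw [h5]; exact relIndex_dvd_card _ _
      rw [← h3] at h2
      rcases (Nat.Prime.dvd_mul Nat.prime_two).1 h2 with h9 | h9
      · exact hR.2.2 h9
      · exact hker (h9.trans h4)
    obtain ⟨m, hm, hm2⟩ := hRM.exists_conj hQM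
    rw [hMK] at hm
    obtain ⟨n, hn, k, hk, rfl⟩ : ∃ n ∈ f.ker, ∃ k ∈ K, n * k = m := by
      rw [sup_comm] at hm
      exact mem_sup_of_normal_left.1 hm
    refine ⟨cj n K, ⟨h.conj K hK n, fun h2 => hR.2.2 ?_⟩, map_cj_ker hn K⟩
    have h3 : cj k K = K := mem_normalizer_iff_cj.1 (le_normalizer hk)
    have h4 : cj (n * k) R ≤ S := by rw [hm2]; exact inf_le_left
    have h5 : cj n K = cj (n * k) K := by rw [cj_mul, h3]
    rw [h5] at h2
    have h6 := h2.trans (relIndex_dvd_of_le_left (cj (n * k) K) h4)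
    rwa [relIndex_cj] at h6
  · rintro ⟨K, hK, rfl⟩
    exact ⟨⟨K, hK.1, rfl⟩, fun h2 => hK.2 (h2.trans (relIndex_map_dvd f S K))⟩

end Cfsg.Agent.Cit
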