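import Cfsg.Agent.S0215
import Cfsg.Agent.Cit.Quo

/-!
# A 2-element centralising a Sylow 2-subgroup of `K ∈ Om` acts trivially on `K / O(K)`

Type free, from Glauberman's `Z*` (S0215).
-/

set_option autoImplicit false
set_option linter.style.haveILetI false

namespace Cfsg.Agent.Cit.Trivial

open Subgroup Cfsg

section Abstract

variable {X : Type*} [Group X] [Finite X]

/-- no element `x` with `φ x = z x` -/
theorem map_ne_mul (S : Sylow 2 X) {z : X} (hz1 : z ≠ 1) (hz2 : z * z = 1) (hzc : ∀ x : X, x * z = z * x)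
    (φ : X ≃* X) (hφS : ∀ s ∈ (S : Subgroup X), φ s = s) (x : X) : φ x ≠ z * x := by
  haveI : Fact (Nat.Prime 2) := ⟨Nat.prime_two⟩
  intro hx
  -- `C` : the fixed points
  let C : Subgroup X := MonoidHom.eqLocus φ.toMonoidHom (MonoidHom.id X)
  have hC : ∀ c, c ∈ C ↔ φ c = c := fun c => Iff.rfl
  have hSC : (S : Subgroup X) ≤ C := fun s hs => hφS s hs
  have hS1 : Syl (S : Subgroup X) C := by
    refine ⟨hSC, S.isPGroup', fun h => S.not_dvd_index (h.trans ?_)⟩
    rw [← relIndex_top_right, ← relIndex_mul_relIndex (S : Subgroup X) C ⊤ hSC le_top]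
    exact dvd_mul_right _ _
  have hcx : cj x (S : Subgroup X) ≤ C := by
    intro y hy
    rw [mem_cj] at hy
    have h1 := hφS _ hy
    rw [map_mul, map_mul, map_inv, hx] at h1
    rw [hC]
    have h2 : (z * x)⁻¹ * φ y * (z * x) = x⁻¹ * φ y * x := by
      have hz3 : z⁻¹ = z := inv_eq_of_mul_eq_one_right hz2
      rw [mul_inv_rev, hz3]
      calc x⁻¹ * z * φ y * (z * x) = x⁻¹ * (z * φ y) * z * x := by group
        _ = x⁻¹ * (φ y * z) * z * x := by rw [← hzc (φ y)]
        _ = x⁻¹ * φ y * (z * z) * x := by group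
        _ = x⁻¹ * φ y * x := by rw [hz2]; group
    rw [h2] at h1
    exact mul_left_cancel (mul_right_cancel h1)
  have hS2 : Syl (cj x (S : Subgroup X)) C := by
    refine ⟨hcx, isPGroup_cj S.isPGroup', fun h => hS1.2.2 ?_⟩
    have h5 : Nat.card (S : Subgroup X) * (S : Subgroup X).relIndex C = Nat.card C := by
      rw [← relIndex_bot_left (S : Subgroup X), relIndex_mul_relIndex ⊥ _ _ bot_le hS1.1,
        relIndex_bot_left]
    have h6 : Nat.card (cj x (S : Subgroup X)) * (cj x (S : Subgroup X)).relIndex C = Nat.card C := by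
      rw [← relIndex_bot_left (cj x (S : Subgroup X)), relIndex_mul_relIndex ⊥ _ _ bot_le hcx,
        relIndex_bot_left]
    rw [card_cj, ← h5] at h6
    rwa [Nat.eq_of_mul_eq_mul_left Nat.card_pos h6] at h
  obtain ⟨c, hc, hcS⟩ := hS2.exists_conj hS1
  rw [← cj_mul] at hcS
  -- `y = c x` normalises `S` and `φ y = z y`
  set y := c * x with hy
  have hyz : φ y = z * y := by
    rw [hy, map_mul, (hC c).1 hc, hx, ← mul_assoc, hzc, mul_assoc]
  have hyN : y ∈ normalizer ((S : Subgroup X) : Set X) := mem_normalizer_iff_cj.2 hcS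
  set H : Subgroup X := normalizer ((S : Subgroup X) : Set X) with hH
  have hSH : (S : Subgroup X) ≤ H := le_normalizer
  have hn : ((S : Subgroup X).subgroupOf H).Normal := (normal_subgroupOf_iff_le_normalizer hSH).2 le_rfl
  have h1 := Subgroup.pow_index_mem ((S : Subgroup X).subgroupOf H) (⟨y, hyN⟩ : H)
  have h2 : ¬ 2 ∣ ((S : Subgroup X).subgroupOf H).index := by
    intro h
    refine S.not_dvd_index (Dvd.dvd.trans h ?_)
    change (S : Subgroup X).relIndex H ∣ (S : Subgroup X).index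
    rw [← relIndex_top_right, ← relIndex_mul_relIndex (S : Subgroup X) H ⊤ hSH le_top]
    exact dvd_mul_right _ _
  obtain ⟨m, hm⟩ : ∃ m, ((S : Subgroup X).subgroupOf H).index = 2 * m + 1 := by
    have h3 : Odd ((S : Subgroup X).subgroupOf H).index := by
      rw [← Nat.not_even_iff_odd, even_iff_two_dvd]; exact h2
    exact h3
  rw [hm] at h1
  have h3 : y ^ (2 * m + 1) ∈ (S : Subgroup X) := h1
  have h4 := hφS _ h3
  have h5 : Commute z y := (hzc y).symm
  rw [map_pow, hyz, h5.mul_pow, pow_succ, pow_mul, pow_two, hz2, one_pow, one_mul] at h4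
  exact hz1 (mul_eq_right.1 h4)

/-- an involutory automorphism fixing a Sylow 2-subgroup pointwise -/
theorem eq_self_of_sq (hO : pPrimeCore 2 X = ⊥) (S : Sylow 2 X) {z : X} (hz1 : z ≠ 1) (hz2 : z * z = 1)
    (hzc : ∀ x : X, x * z = z * x) (hu : ∀ t ∈ (S : Subgroup X), t * t = 1 → t ≠ 1 → t = z)
    (φ : MulAut X) (hφ2 : φ * φ = 1) (hφS : ∀ s ∈ (S : Subgroup X), φ s = s) : φ = 1 := by
  haveI : Fact (Nat.Prime 2) := ⟨Nat.prime_two⟩
  by_contra hne
  set A : Subgroup (MulAut X) := zpowers φ with hA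
  have hφA : ∀ α ∈ A, α = 1 ∨ α = φ := by
    rintro _ ⟨i, rfl⟩
    have h2 : φ ^ 2 = 1 := by rw [pow_two]; exact hφ2
    rcases Int.even_or_odd' i with ⟨k, rfl | rfl⟩
    · left
      change φ ^ (2 * k) = 1
      rw [zpow_mul, zpow_ofNat, h2, one_zpow]
    · right
      change φ ^ (2 * k + 1) = φ
      rw [zpow_add_one, zpow_mul, zpow_ofNat, h2, one_zpow, one_mul]
  have hAS : ∀ α : A, ∀ s ∈ (S : Subgroup X), (α : MulAut X) s = s := by
    intro α s hs
    rcases hφA α α.2 with h | h
    · rw [h]; rfl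
    · rw [h]; exact hφS s hs
  let W := X ⋊[A.subtype] A
  haveI : Finite A := by
    refine Set.Finite.subset (Set.toFinite {1, φ}) ?_ |>.to_subtype
    intro α hα
    rcases hφA α hα with h | h
    · left; exact h
    · right; exact h
  haveI : Finite W := Finite.of_equiv (X × A) (SemidirectProduct.equivProd).symm
  let P0 : Subgroup W :=
    { carrier := {w | w.left ∈ (S : Subgroup X)}
      one_mem' := (S : Subgroup X).one_mem
      mul_mem' := by
        intro a b ha hb
        change (a.left * (A.subtype a.right) b.left) ∈ (S : Subgroup X)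
        have : (A.subtype a.right) b.left = b.left := hAS a.right _ hb
        rw [this]
        exact mul_mem ha hb
      inv_mem' := by
        intro a ha
        change ((A.subtype a.right⁻¹) a.left⁻¹) ∈ (S : Subgroup X)
        have : (A.subtype a.right⁻¹) a.left⁻¹ = a.left⁻¹ := hAS (a.right⁻¹) _ (inv_mem ha)
        rw [this]
        exact inv_mem ha }
  have hP0 : ∀ w : W, w ∈ P0 ↔ w.left ∈ (S : Subgroup X) := fun w => Iff.rfl
  -- `P0` is a Sylow 2-subgroup
  have hcardA : Nat.card A = 2 := by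
    rw [hA, Nat.card_zpowers]
    exact orderOf_eq_prime (by rw [pow_two]; exact hφ2) hne
  have hcardW : Nat.card W = Nat.card X * 2 := by
    rw [Nat.card_congr (SemidirectProduct.equivProd (N := X) (G := A) (φ := A.subtype)), Nat.card_prod,
      hcardA]
  have hcardP : Nat.card P0 = Nat.card (S : Subgroup X) * 2 := by
    let e : ↥P0 ≃ ↥(S : Subgroup X) × ↥A :=
      { toFun := fun w => (⟨w.1.left, w.2⟩, w.1.right)
        invFun := fun w => ⟨⟨(w.1 : X), w.2⟩, w.1.2⟩
        left_inv := fun w => rfl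
        right_inv := fun w => rfl }
    have h1 : Nat.card P0 = Nat.card (↥(S : Subgroup X) × ↥A) := Nat.card_congr e
    rw [h1, Nat.card_prod, hcardA]
  have hPP : IsPGroup 2 P0 := by
    obtain ⟨n, hn⟩ := (IsPGroup.iff_card (p := 2) (G := (S : Subgroup X))).1 S.isPGroup'
    rw [IsPGroup.iff_card]
    exact ⟨n + 1, by rw [hcardP, hn, pow_succ]⟩
  have hPi : ¬ 2 ∣ P0.index := by
    have h1 : Nat.card P0 * P0.index = Nat.card W := P0.card_mul_index
    have h2 : Nat.card (S : Subgroup X) * (S : Subgroup X).index = Nat.card X :=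
      (S : Subgroup X).card_mul_index
    rw [hcardP, hcardW, ← h2] at h1
    have h3 : (Nat.card (S : Subgroup X) * 2) * P0.index =
        (Nat.card (S : Subgroup X) * 2) * (S : Subgroup X).index := by rw [h1]; ring
    have hpos : 0 < Nat.card (S : Subgroup X) * 2 := by
      have : 0 < Nat.card (S : Subgroup X) := Nat.card_pos
      omega
    rw [Nat.eq_of_mul_eq_mul_left hpos h3]
    exact S.not_dvd_index
  let P : Sylow 2 W := hPP.toSylow hPi
  let u : W := ⟨1, ⟨φ, mem_zpowers φ⟩⟩
  have hu1 : u * u = 1 := by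
    have hr : (⟨φ, mem_zpowers φ⟩ : A) * ⟨φ, mem_zpowers φ⟩ = 1 := Subtype.ext hφ2
    apply SemidirectProduct.ext
    · change (1 : X) * (φ 1) = 1
      rw [map_one, one_mul]
    · exact hr
  have hu2 : orderOf u = 2 := by
    refine orderOf_eq_prime (by rw [pow_two]; exact hu1) ?_
    intro h
    exact hne (congrArg Subtype.val (congrArg SemidirectProduct.right h))
  have huP : u ∈ P := (S : Subgroup X).one_mem
  have huinv : u⁻¹ = u := inv_eq_of_mul_eq_one_right hu1
  obtain ⟨N, hN, hNo, hNc⟩ := Cfsg.Agent.S0215.result P u hu2 huP (by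
    intro g hg
    -- `g = x a`
    have hcA : ∀ a b : A, a * b = b * a := fun a b => by
      have h1 : ∀ c d : A, (c : MulAut X) * d = d * c := by
        rintro ⟨_, i, rfl⟩ ⟨_, j, rfl⟩
        exact ((Commute.refl φ).zpow_zpow i j).eq
      exact Subtype.ext (h1 a b)
    have hform : g * u * g⁻¹ = ⟨g.left * φ (g.left⁻¹), u.right⟩ := by
      have hfix : ∀ y : X, (A.subtype (g.right * u.right)) ((A.subtype g.right⁻¹) y) = φ y := by
        intro y
        rw [hcA g.right u.right]
        change ((u.right : MulAut X) * (g.right : MulAut X)) (((g.right : MulAut X)⁻¹) y) = φ y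
        rw [← MulAut.mul_apply]
        simp [u]
      apply SemidirectProduct.ext
      · rw [SemidirectProduct.mul_left, SemidirectProduct.mul_left, SemidirectProduct.inv_left,
          SemidirectProduct.mul_right]
        change g.left * (A.subtype g.right) 1 * (A.subtype (g.right * u.right)) ((A.subtype g.right⁻¹) g.left⁻¹) = _
        rw [hfix, map_one, mul_one]
      · rw [SemidirectProduct.mul_right, SemidirectProduct.mul_right, SemidirectProduct.inv_right,
          hcA g.right u.right, mul_assoc, mul_inv_cancel, mul_one]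
    have hq : g.left * φ (g.left⁻¹) ∈ (S : Subgroup X) := by
      have : g * u * g⁻¹ ∈ P0 := hg
      rw [hform] at this
      exact this
    rw [hform]
    set q := g.left * φ (g.left⁻¹) with hqdef
    have hq1 : q = 1 := by
      by_contra hq1
      have h1 : φ q = q := hφS q hq
      have h2 : φ q = q⁻¹ := by
        rw [hqdef, map_mul]
        have : φ (φ g.left⁻¹) = g.left⁻¹ := by
          rw [← MulAut.mul_apply, hφ2]; rfl
        rw [this, mul_inv_rev, map_inv, inv_inv]
      have h3 : q * q = 1 := by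
        nth_rewrite 1 [← h1]
        rw [h2, inv_mul_cancel]
      have h4 := hu q hq h3 hq1
      refine map_ne_mul S hz1 hz2 hzc φ hφS g.left ?_
      have h5 : φ g.left = q⁻¹ * g.left := by
        rw [hqdef, mul_inv_rev, map_inv, inv_inv]; group
      have h6 : z⁻¹ = z := inv_eq_of_mul_eq_one_right hz2
      rw [h5, h4, h6]
    apply SemidirectProduct.ext
    · exact hq1
    · rfl)
  -- `N ∩ X = 1`
  apply hne
  ext x
  have h1 := hNc (SemidirectProduct.inl x)
  have h2 : u * SemidirectProduct.inl x * u⁻¹ * (SemidirectProduct.inl x)⁻¹ =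
      SemidirectProduct.inl (φ x * x⁻¹) := by
    rw [huinv]
    have h3 : u * SemidirectProduct.inl x * u = SemidirectProduct.inl (φ x) := by
      apply SemidirectProduct.ext
      · change 1 * φ x * ((A.subtype (u.right * 1)) 1) = φ x
        rw [map_one, mul_one, one_mul]
      · have hr : (⟨φ, mem_zpowers φ⟩ : A) * ⟨φ, mem_zpowers φ⟩ = 1 := Subtype.ext hφ2
        change (⟨φ, mem_zpowers φ⟩ : A) * 1 * ⟨φ, mem_zpowers φ⟩ = 1
        rw [mul_one]
        exact hr
    rw [h3, ← map_inv, ← map_mul]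
  rw [h2] at h1
  have h3 : N.comap (SemidirectProduct.inl : X →* W) ≤ pPrimeCore 2 X := by
    refine Lib.Cores.le_pPrimeCore (hN.comap _) ?_
    have h4 : Nat.card (N.comap (SemidirectProduct.inl : X →* W)) ∣ Nat.card N := by
      have h5 : Nat.card ((N.comap (SemidirectProduct.inl : X →* W)).map (SemidirectProduct.inl : X →* W)) =
          Nat.card (N.comap (SemidirectProduct.inl : X →* W)) :=
        card_map_of_injective (f := (SemidirectProduct.inl : X →* W)) SemidirectProduct.inl_injective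
      rw [← h5]
      exact card_dvd_of_le (map_comap_le _ _)
    rw [Nat.coprime_comm, Nat.Prime.coprime_iff_not_dvd Nat.prime_two]
    intro h5
    rw [← Nat.not_even_iff_odd, even_iff_two_dvd] at hNo
    exact hNo (h5.trans h4)
  rw [hO] at h3
  have h4 : φ x * x⁻¹ ∈ (⊥ : Subgroup X) := h3 h1
  rw [mem_bot, mul_inv_eq_one] at h4
  exact h4

/-- an automorphism of 2-power order fixing a Sylow 2-subgroup pointwise -/
theorem eq_self (hO : pPrimeCore 2 X = ⊥) (S : Sylow 2 X) {z : X} (hz1 : z ≠ 1) (hz2 : z * z = 1)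
    (hzc : ∀ x : X, x * z = z * x) (hu : ∀ t ∈ (S : Subgroup X), t * t = 1 → t ≠ 1 → t = z) :
    ∀ (b : ℕ) (φ : MulAut X), φ ^ 2 ^ b = 1 → (∀ s ∈ (S : Subgroup X), φ s = s) → φ = 1 := by
  intro b
  induction b with
  | zero => intro φ h _; simpa using h
  | succ b ih =>
    intro φ h hφ
    have h1 : φ * φ = 1 := by
      apply ih
      · rw [← pow_two, ← pow_mul, ← pow_succ']
        exact h
      · intro s hs
        rw [MulAut.mul_apply, hφ s hs, hφ s hs]
    exact eq_self_of_sq hO S hz1 hz2 hzc hu φ h1 hφ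

end Abstract

variable {G : Type*} [Group G] [Finite G] {Om : Set (Subgroup G)} {K Q : Subgroup G}

/-- **a 2-element centralising a Sylow 2-subgroup of `K ∈ Om` acts trivially on `K / O(K)`** -/
theorem comm_mem_OO (h : Hyp Om) (hK : K ∈ Om) (hQ : Syl Q K) {f : G}
    (hfK : f ∈ normalizer (K : Set G)) {b : ℕ} (hf2 : f ^ 2 ^ b = 1) (hf : ∀ x ∈ Q, f * x = x * f) :
    ∀ k ∈ K, f * k * f⁻¹ * k⁻¹ ∈ OO K := by
  haveI : Fact (Nat.Prime 2) := ⟨Nat.prime_two⟩
  -- the automorphism of `K`
  let φ : MulAut K := (cjEquiv f K).trans (MulEquiv.subgroupCongr (mem_normalizer_iff_cj.1 hfK))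
  have hφ : ∀ k : K, ((φ k : K) : G) = f * k * f⁻¹ := fun k => rfl
  have hφn : ∀ (n : ℕ) (k : K), (((φ ^ n) k : K) : G) = f ^ n * k * (f ^ n)⁻¹ := by
    intro n
    induction n with
    | zero => intro k; simp
    | succ n ih =>
      intro k
      rw [pow_succ', MulAut.mul_apply, hφ, ih, pow_succ']
      group
  have hφ1 : φ ^ 2 ^ b = 1 := by
    ext k
    rw [hφn, hf2]; simp
  -- the automorphism of `K / O(K)`
  let X := K ⧸ oddCore K
  have hchar : (oddCore K).Characteristic := Lib.Cores.pPrimeCore_characteristic 2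
  have hm : ∀ ψ : MulAut K, (oddCore K).map ψ.toMonoidHom = oddCore K := fun ψ =>
    characteristic_iff_map_eq.1 hchar ψ
  let Φ : MulAut K →* MulAut X :=
    { toFun := fun ψ => QuotientGroup.congr (oddCore K) (oddCore K) ψ (hm ψ)
      map_one' := by ext x; obtain ⟨k, rfl⟩ := QuotientGroup.mk_surjective x; rfl
      map_mul' := fun α β => by ext x; obtain ⟨k, rfl⟩ := QuotientGroup.mk_surjective x; rfl }
  have hΦ : ∀ (ψ : MulAut K) (k : K), Φ ψ (k : X) = ((ψ k : K) : X) := fun ψ k => rfl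
  -- the Sylow 2-subgroup
  have hmk : ∀ a : K, ((a : K) : X) = 1 ↔ (a : G) ∈ OO K := by
    intro a
    rw [QuotientGroup.eq_one_iff]
    constructor
    · intro ha; exact ⟨a, ha, rfl⟩
    · rintro ⟨a', ha', h1⟩
      rwa [← (Subtype.ext h1 : a' = a)]
  obtain ⟨S0, hS0⟩ := hQ.exists_sylow
  have hpS : Syl (S0 : Subgroup K) ⊤ :=
    ⟨le_top, S0.isPGroup', by rw [relIndex_top_right]; exact S0.not_dvd_index⟩
  have hpS' := hpS.map (f := QuotientGroup.mk' (oddCore K))
  rw [← MonoidHom.range_eq_map, MonoidHom.range_eq_top.2 (QuotientGroup.mk'_surjective _)] at hpS'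
  let S : Sylow 2 X := hpS'.2.1.toSylow (by rw [← relIndex_top_right]; exact hpS'.2.2)
  have hS : ∀ s, s ∈ (S : Subgroup X) ↔ ∃ k : K, (k : G) ∈ Q ∧ (k : X) = s := by
    intro s
    change s ∈ (S0 : Subgroup K).map (QuotientGroup.mk' (oddCore K)) ↔ _
    rw [hS0]
    rfl
  have hzK := h.zz_mem hK
  have hz1 : ((⟨zz K, hzK⟩ : K) : X) ≠ 1 := by
    rw [Ne, hmk]
    intro h1
    refine odd_OO K ?_
    rw [← h.orderOf_zz hK, ← Nat.card_zpowers]
    exact card_dvd_of_le (by rwa [zpowers_le])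
  have hz2 : ((⟨zz K, hzK⟩ : K) : X) * ((⟨zz K, hzK⟩ : K) : X) = 1 := by
    rw [← QuotientGroup.mk_mul]
    have : (⟨zz K, hzK⟩ : K) * ⟨zz K, hzK⟩ = 1 := Subtype.ext (h.zz_mul hK)
    rw [this]; rfl
  have hzc : ∀ x : X, x * ((⟨zz K, hzK⟩ : K) : X) = ((⟨zz K, hzK⟩ : K) : X) * x := by
    intro x
    obtain ⟨k, rfl⟩ := QuotientGroup.mk_surjective x
    rw [← QuotientGroup.mk_mul, ← QuotientGroup.mk_mul]
    congr 1
    exact Subtype.ext (h.comm_zz hK (le_normalizer k.2))
  have hu : ∀ t ∈ (S : Subgroup X), t * t = 1 → t ≠ 1 → t = ((⟨zz K, hzK⟩ : K) : X) := by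
    intro t ht ht2 ht1
    obtain ⟨k, hk, rfl⟩ := (hS t).1 ht
    have h1 : (k : G) * k ∈ OO K := by
      rw [← QuotientGroup.mk_mul] at ht2
      exact (hmk _).1 ht2
    have h2 : (k : G) * k = 1 := by
      obtain ⟨e, he⟩ := hQ.2.1 ⟨(k : G) * k, mul_mem hk hk⟩
      exact eq_one_of_odd (odd_OO K) h1 (a := e) (congrArg Subtype.val he)
    have h3 : (k : G) = zz K := by
      refine h.eq_zz hK k.2 h2 ?_
      intro h3
      apply ht1
      rw [hmk, h3]
      exact one_mem _
    congr 1
    exact Subtype.ext h3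
  have hfin := eq_self (X := X) (Lib.Cores.pPrimeCore_quotient_pPrimeCore 2) S hz1 hz2 hzc hu b (Φ φ)
    (by rw [← map_pow, hφ1, map_one]) (by
      intro s hs
      obtain ⟨k, hk, rfl⟩ := (hS s).1 hs
      rw [hΦ]
      congr 1
      apply Subtype.ext
      rw [hφ, hf _ hk]
      group)
  intro k hk
  have h1 : ((φ ⟨k, hk⟩ * (⟨k, hk⟩ : K)⁻¹ : K) : X) = 1 := by
    have h2 := congrArg (fun ψ : MulAut X => ψ ((⟨k, hk⟩ : K) : X)) hfin
    simp only [MulAut.one_apply] at h2
    rw [hΦ] at h2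
    rw [QuotientGroup.mk_mul, QuotientGroup.mk_inv, h2, mul_inv_cancel]
  exact (hmk _).1 h1

/-- the same for a 2-subgroup `A` -/
theorem commutator_le (h : Hyp Om) (hK : K ∈ Om) (hQ : Syl Q K) {A : Subgroup G} (hA : IsPGroup 2 A)
    (hAK : A ≤ normalizer (K : Set G)) (hAQ : ∀ a ∈ A, ∀ x ∈ Q, a * x = x * a) : ⁅K, A⁆ ≤ OO K := by
  rw [Subgroup.commutator_le]
  intro k hk a ha
  obtain ⟨b, hb⟩ := hA ⟨a, ha⟩
  have h1 := comm_mem_OO h hK hQ (hAK ha) (b := b) (congrArg Subtype.val hb) (hAQ a ha) k hk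
  have h2 := inv_mem h1
  rw [commutatorElement_def]
  convert h2 using 1
  group

end Cfsg.Agent.Cit.Trivial
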