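import Cfsg.Agent.Cit.CoresClose
import Cfsg.Agent.Cit.SubCent
import Cfsg.Agent.Cit.Trivial
import Cfsg.Agent.Cit.CorTwo
import Cfsg.Agent.Cit.CloPoint

/-!
# CONN / CLOSE: the subgroup `M` of the closing argument (no theorem T)

`OmS Om M = {K ∈ Om | M contains a Sylow 2-subgroup of K}` plays the part of `Γ`.

`Emb Om M`: `C(z_K) ≤ M` for `K ∈ Γ`, and `g ∈ M` as soon as `K, K^g ∈ Γ`.  The stabiliser of a connected
component of the commuting graph is an example (`emb_mst`); it is equal to `G` iff `Om` (one class) is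
connected.  `Emb.clo`: from `(M1)`, `(h2)` to the structure `Clo` of `CloPoint`.
-/

set_option autoImplicit false
set_option linter.unusedSectionVars false
set_option linter.style.haveILetI false

namespace Cfsg.Agent.Cit.CloGraph

open Subgroup Cfsg SubCent

variable {G : Type*} [Group G] [Finite G]

/-- see the head of the file -/
structure Emb (Om : Set (Subgroup G)) (M : Subgroup G) : Prop where
  hyp : Hyp Om
  ne : (OmS Om M).Nonempty
  cent : ∀ K ∈ OmS Om M, centralizer {zz K} ≤ M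
  stab : ∀ K ∈ OmS Om M, ∀ g, cj g K ∈ OmS Om M → g ∈ M

variable {Om : Set (Subgroup G)} {M : Subgroup G}

theorem cj_mem_OmS_of_mem (h : Hyp Om) {m : G} (hm : m ∈ M) {K : Subgroup G} (hK : K ∈ OmS Om M) :
    cj m K ∈ OmS Om M := cj_mem_OmS' h.conj (le_normalizer hm) hK

/-- a member, one of whose Sylow 2-subgroups lies in `M` -/
theorem mem_of_syl {J Q : Subgroup G} (hJ : J ∈ Om) (hQ : Syl Q J) (hQM : Q ≤ M) : J ∈ OmS Om M :=
  mem_OmS_of_le hJ hQ hQM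

namespace Emb

variable (e : Emb Om M) {K J L P S : Subgroup G}

include e

theorem le (hK : K ∈ OmS Om M) : K ≤ M := (e.hyp.le_centralizer hK.1).trans (e.cent K hK)

theorem zz_mem (hK : K ∈ OmS Om M) : zz K ∈ M := e.le hK (e.hyp.zz_mem hK.1)

theorem mem_of_zz_cent (hK : K ∈ OmS Om M) {g : G} (hg : g * zz K = zz K * g) : g ∈ M :=
  e.cent K hK (mem_centralizer_singleton_iff.2 hg)

/-- a Sylow 2-subgroup of `G` meeting a member of `Γ` in a Sylow subgroup of that member -/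
theorem DD_le (S : Sylow 2 G) (hK : K ∈ OmS Om M) (hKS : K ∈ OmS Om (S : Subgroup G)) :
    DD Om (S : Subgroup G) ≤ M :=
  (e.hyp.DD_le_centralizer S.isPGroup' hKS).trans (e.cent K hK)

theorem OmS_subset (S : Sylow 2 G) (hK : K ∈ OmS Om M) (hKS : K ∈ OmS Om (S : Subgroup G)) :
    OmS Om (S : Subgroup G) ⊆ OmS Om M := by
  rw [← OmS_DD S.isPGroup']
  exact OmS_mono (e.DD_le S hK hKS)

theorem normalizer_DD_le (S : Sylow 2 G) (hK : K ∈ OmS Om M) (hKS : K ∈ OmS Om (S : Subgroup G)) :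
    normalizer (DD Om (S : Subgroup G) : Set G) ≤ M := by
  intro g hg
  refine e.stab K hK g (e.OmS_subset S hK hKS ?_)
  rw [← OmS_DD S.isPGroup'] at hKS ⊢
  exact cj_mem_OmS' e.hyp.conj hg hKS

theorem sylow_le (S : Sylow 2 G) (hK : K ∈ OmS Om M) (hKS : K ∈ OmS Om (S : Subgroup G)) :
    (S : Subgroup G) ≤ M :=
  (le_normalizer.trans (normalizer_le_normalizer_DD e.hyp.conj)).trans (e.normalizer_DD_le S hK hKS)

/-- `M` contains a Sylow 2-subgroup of `G` -/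
theorem exists_sylow : ∃ S : Sylow 2 G, (S : Subgroup G) ≤ M := by
  obtain ⟨K, hK⟩ := e.ne
  obtain ⟨S, hS, -⟩ := e.hyp.exists_sylow hK.1
  exact ⟨S, e.sylow_le S hK hS⟩

/-- a Sylow 2-subgroup of `M` is one of `G` -/
theorem sylow (hS : Syl S M) : ∃ T : Sylow 2 G, (T : Subgroup G) = S := by
  haveI : Fact (Nat.Prime 2) := ⟨Nat.prime_two⟩
  obtain ⟨S₀, h0⟩ := e.exists_sylow
  have h1 : Syl (S₀ : Subgroup G) M := by
    refine ⟨h0, S₀.isPGroup', fun h => ?_⟩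
    have h1 := relIndex_mul_index h0
    exact S₀.not_dvd_index (h1 ▸ h.mul_right _)
  obtain ⟨m, -, hm⟩ := h1.exists_conj hS
  refine ⟨m • S₀, ?_⟩
  rw [← hm]; rfl

theorem OmS_nonempty_of_syl (hS : Syl S M) : (OmS Om S).Nonempty := by
  obtain ⟨T, rfl⟩ := e.sylow hS
  obtain ⟨K, hK⟩ := e.ne
  exact e.hyp.OmS_nonempty T ⟨K, hK.1⟩

/-- a Sylow 2-subgroup of `G` meeting a member of `Γ` in a Sylow subgroup, inside `M` -/
theorem exists_sylow_of_mem (hK : K ∈ OmS Om M) : ∃ S : Sylow 2 G, (S : Subgroup G) ≤ M ∧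
    K ∈ OmS Om (S : Subgroup G) := by
  obtain ⟨S, hS, -⟩ := e.hyp.exists_sylow hK.1
  exact ⟨S, e.sylow_le S hK hS, hS⟩

/-- `Γ` is closed under adjacency in the commuting graph -/
theorem mem_of_adj (hK : K ∈ OmS Om M) (hKL : Adj Om K L) : L ∈ OmS Om M := by
  obtain ⟨S, h1, h2⟩ := hKL
  exact e.OmS_subset S hK h1 h2

theorem mem_of_transGen (hK : K ∈ OmS Om M) (hKL : Relation.ReflTransGen (Adj Om) K L) :
    L ∈ OmS Om M := by
  induction hKL with
  | refl => exact hK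
  | tail _ h2 ih => exact e.mem_of_adj ih h2

/-- members with the same involution -/
theorem mem_of_zz_eq (hK : K ∈ OmS Om M) (hL : L ∈ Om) (hz : zz L = zz K) : L ∈ OmS Om M := by
  obtain ⟨S, -, hS⟩ := e.exists_sylow_of_mem hK
  exact e.OmS_subset S hK hS (e.hyp.mem_OmS_of_zz_eq S hS hL hz)

theorem mem_of_cov {f : G} (hf : centralizer {f} ≤ M) (hK : K ∈ cov Om (centralizer {f})) :
    K ∈ OmS Om M := by
  obtain ⟨Q, hQ⟩ := Hyp.exists_syl (K ⊓ centralizer {f})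
  exact mem_of_syl hK.1 (syl_of_syl_inf hK hQ) (hQ.1.trans (inf_le_right.trans hf))

/-- **(G6)** `z_J` trivial on `K / O(K)` -/
theorem mem_of_cov_zz (hJ : J ∈ OmS Om M) (hK : K ∈ cov Om (centralizer {zz J})) : K ∈ OmS Om M :=
  e.mem_of_cov (e.cent J hJ) hK

theorem mem_of_comm_zz (hJ : J ∈ OmS Om M) (hK : K ∈ Om) (hKJ : ⁅K, zpowers (zz J)⁆ ≤ OO K) :
    K ∈ OmS Om M := by
  have h1 : IsPGroup 2 (zpowers (zz J)) :=
    IsPGroup.of_card (n := 1) (by rw [Nat.card_zpowers, e.hyp.orderOf_zz hJ.1, pow_one])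
  have h2 := (mem_cov_centralizer e.hyp h1 (K := K)).2 ⟨hK, hKJ⟩
  have h3 : centralizer ((zpowers (zz J) : Subgroup G) : Set G) = centralizer {zz J} := by
    rw [zpowers_eq_closure, centralizer_closure]
  rw [h3] at h2
  exact e.mem_of_cov_zz hJ h2

/-- if `X` permutes a nonempty family of members of `Γ`, then `X ≤ M` -/
theorem le_of_cov {X : Subgroup G} (hX : cov Om X ⊆ OmS Om M) (hne : (cov Om X).Nonempty) : X ≤ M := by
  obtain ⟨K, hK⟩ := hne
  intro x hx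
  exact e.stab K (hX hK) x (hX (cj_mem_cov_of_mem e.hyp.conj (le_normalizer hx) hK))

end Emb

/-! ### The component of the commuting graph -/

/-- the component of `K₀` -/
def Gam (Om : Set (Subgroup G)) (K₀ : Subgroup G) : Set (Subgroup G) :=
  {K | K ∈ Om ∧ Relation.ReflTransGen (Adj Om) K₀ K}

theorem adj_symm {K L : Subgroup G} (h : Adj Om K L) : Adj Om L K := by
  obtain ⟨S, h1, h2⟩ := h
  exact ⟨S, h2, h1⟩

theorem adj_cj (h : Hyp Om) {K L : Subgroup G} (hKL : Adj Om K L) (g : G) : Adj Om (cj g K) (cj g L) := by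
  haveI : Fact (Nat.Prime 2) := ⟨Nat.prime_two⟩
  obtain ⟨S, h1, h2⟩ := hKL
  refine ⟨g • S, ?_, ?_⟩
  · exact cj_mem_OmS h.conj g h1
  · exact cj_mem_OmS h.conj g h2

theorem trans_symm {K L : Subgroup G} (h : Relation.ReflTransGen (Adj Om) K L) :
    Relation.ReflTransGen (Adj Om) L K := by
  induction h with
  | refl => exact .refl
  | tail _ h2 ih => exact .head (adj_symm h2) ih

theorem trans_cj (h : Hyp Om) {K L : Subgroup G} (hKL : Relation.ReflTransGen (Adj Om) K L) (g : G) :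
    Relation.ReflTransGen (Adj Om) (cj g K) (cj g L) := by
  induction hKL with
  | refl => exact .refl
  | tail _ h2 ih => exact ih.tail (adj_cj h h2 g)

/-- the stabiliser of the component of `K₀` -/
def Mst (h : Hyp Om) (K₀ : Subgroup G) : Subgroup G where
  carrier := {g | Relation.ReflTransGen (Adj Om) K₀ (cj g K₀)}
  one_mem' := by rw [Set.mem_ofPred_eq, cj_one]
  mul_mem' := by
    intro a b ha hb
    rw [Set.mem_ofPred_eq, cj_mul]
    exact ha.trans (trans_cj h hb a)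
  inv_mem' := by
    intro a ha
    have h1 := trans_symm (trans_cj h ha a⁻¹)
    rwa [cj_inv_cj] at h1

theorem mem_Mst (h : Hyp Om) {K₀ : Subgroup G} {g : G} :
    g ∈ Mst h K₀ ↔ Relation.ReflTransGen (Adj Om) K₀ (cj g K₀) := Iff.rfl

/-- `g` is in the stabiliser if it maps one member of the component into it -/
theorem mem_Mst_of (h : Hyp Om) {K₀ K : Subgroup G} (hK : Relation.ReflTransGen (Adj Om) K₀ K) {g : G}
    (hg : Relation.ReflTransGen (Adj Om) K₀ (cj g K)) : g ∈ Mst h K₀ := by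
  rw [mem_Mst]
  exact hg.trans (trans_symm (trans_cj h hK g))

/-- members of `Om` with the same involution are adjacent -/
theorem adj_of_zz_eq (h : Hyp Om) {K L : Subgroup G} (hK : K ∈ Om) (hL : L ∈ Om) (hz : zz L = zz K) :
    Adj Om K L := by
  obtain ⟨S, hS, -⟩ := h.exists_sylow hK
  exact ⟨S, hS, h.mem_OmS_of_zz_eq S hS hL hz⟩

theorem centralizer_le_Mst (h : Hyp Om) {K₀ K : Subgroup G} (hK : K ∈ Gam Om K₀) :
    centralizer {zz K} ≤ Mst h K₀ := by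
  intro g hg
  refine mem_Mst_of h hK.2 (hK.2.tail (adj_of_zz_eq h hK.1 (h.conj K hK.1 g) ?_))
  rw [h.zz_cj hK.1, mem_centralizer_singleton_iff.1 hg, mul_inv_cancel_right]

theorem sylow_le_Mst (h : Hyp Om) {K₀ K : Subgroup G} (hK : K ∈ Gam Om K₀) (S : Sylow 2 G)
    (hS : K ∈ OmS Om (S : Subgroup G)) : (S : Subgroup G) ≤ Mst h K₀ := by
  intro g hg
  exact mem_Mst_of h hK.2 (hK.2.tail ⟨S, hS, cj_mem_OmS' h.conj (le_normalizer hg) hS⟩)

/-- `Γ` = the members with a Sylow 2-subgroup in `M` -/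
theorem OmS_Mst (h : Hyp Om) {K₀ : Subgroup G} (hK₀ : K₀ ∈ Om) : OmS Om (Mst h K₀) = Gam Om K₀ := by
  haveI : Fact (Nat.Prime 2) := ⟨Nat.prime_two⟩
  apply Set.Subset.antisymm
  · intro J hJ
    refine ⟨hJ.1, ?_⟩
    -- a Sylow 2-subgroup of `G` in `M`
    obtain ⟨S₀, h0, -⟩ := h.exists_sylow hK₀
    have hS₀ := sylow_le_Mst h (K := K₀) ⟨hK₀, .refl⟩ S₀ h0
    have h1 : Syl (S₀ : Subgroup G) (Mst h K₀) := by
      refine ⟨hS₀, S₀.isPGroup', fun h => ?_⟩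
      have h1 := relIndex_mul_index hS₀
      exact S₀.not_dvd_index (h1 ▸ h.mul_right _)
    -- a Sylow 2-subgroup of `J` in `M`
    obtain ⟨Q, hQ⟩ := Hyp.exists_syl (J ⊓ Mst h K₀)
    have hQJ : Syl Q J := by
      refine ⟨hQ.1.trans inf_le_left, hQ.2.1, fun h2 => ?_⟩
      rw [← relIndex_mul_relIndex Q (J ⊓ Mst h K₀) J hQ.1 inf_le_left, inf_relIndex_left] at h2
      rcases (Nat.Prime.dvd_mul Nat.prime_two).1 h2 with h3 | h3
      · exact hQ.2.2 h3
      · exact hJ.2 h3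
    obtain ⟨R, hR, hQR⟩ := exists_syl_ge hQ.2.1 (hQ.1.trans inf_le_right)
    obtain ⟨m, hm, hmR⟩ := h1.exists_conj hR
    have h3 : J ∈ OmS Om R := mem_OmS_of_le hJ.1 hQJ hQR
    have h4 : cj m K₀ ∈ OmS Om R := by rw [← hmR]; exact cj_mem_OmS h.conj m h0
    refine ((mem_Mst h).1 hm).tail ⟨m • S₀, ?_, ?_⟩
    · rw [← hmR] at h4; exact h4
    · rw [← hmR] at h3; exact h3
  · intro J hJ
    refine ⟨hJ.1, fun h2 => ?_⟩
    have h1 : J ≤ Mst h K₀ := (h.le_centralizer hJ.1).trans (centralizer_le_Mst h hJ)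
    rw [relIndex_eq_one.2 h1] at h2
    omega

/-- **the stabiliser of a component of the commuting graph** -/
theorem emb_mst (h : Hyp Om) {K₀ : Subgroup G} (hK₀ : K₀ ∈ Om) : Emb Om (Mst h K₀) where
  hyp := h
  ne := ⟨K₀, by rw [OmS_Mst h hK₀]; exact ⟨hK₀, .refl⟩⟩
  cent := fun K hK => centralizer_le_Mst h (by rwa [OmS_Mst h hK₀] at hK)
  stab := fun K hK g hg => by
    rw [OmS_Mst h hK₀] at hK hg
    exact mem_Mst_of h hK.2 hg.2

/-- the commuting graph of one class is connected if the stabiliser is `G` -/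
theorem connected_of_Mst (h : Hyp Om) {K₀ : Subgroup G}
    (hcls : ∀ K ∈ Om, ∃ g, cj g K₀ = K) (htop : Mst h K₀ = ⊤) :
    ∀ K ∈ Om, ∀ L ∈ Om, Relation.ReflTransGen (Adj Om) K L := by
  have key : ∀ K ∈ Om, Relation.ReflTransGen (Adj Om) K₀ K := by
    intro K hK
    obtain ⟨g, rfl⟩ := hcls K hK
    rw [← mem_Mst h, htop]
    exact mem_top g
  intro K hK L hL
  exact (trans_symm (key K hK)).trans (key L hL)

/-! ### The structure `Clo` -/

/-- the Sylow 2-subgroups of the members of `Γ` -/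
def QQ (Om : Set (Subgroup G)) (M : Subgroup G) : Set (Subgroup G) :=
  {Q | ∃ K ∈ OmS Om M, Syl Q K}

namespace Emb

variable (e : Emb Om M) {K J L P S Q : Subgroup G}

include e

theorem zz_of_syl (hK : K ∈ Om) (hQ : Syl Q K) : zz Q = zz K := by
  obtain ⟨c, v, n, hc⟩ := e.hyp.exists_gq hK hQ
  obtain ⟨h1, h2⟩ := zz_spec (K := Q) ⟨_, hc.z_mem, hc.orderOf_z⟩
  exact e.hyp.uniq K hK _ (hQ.1 h1) h2

theorem syl_eq_inf (hP : IsPGroup 2 P) (hQ : Syl Q K) (hQP : Q ≤ P) : Q = K ⊓ P :=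
  hQ.eq_of_le (le_inf hQ.1 hQP) inf_le_left (hP.to_le inf_le_right)

/-- `⟨zz Q : Q ∈ QQ, Q ≤ P⟩ = E(P)` -/
theorem EE_eq (hP : IsPGroup 2 P) (hPM : P ≤ M) : CloPoint.EE (QQ Om M) P = ES Om P := by
  unfold CloPoint.EE ES
  congr 1
  ext z
  constructor
  · rintro ⟨Q, ⟨K, hK, hQ⟩, hQP, rfl⟩
    exact ⟨K, mem_OmS_of_le hK.1 hQ hQP, (e.zz_of_syl hK.1 hQ).symm⟩
  · rintro ⟨K, hK, rfl⟩
    have h1 := syl_inf hP hK
    exact ⟨K ⊓ P, ⟨K, OmS_mono hPM hK, h1⟩, inf_le_right, e.zz_of_syl hK.1 h1⟩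

/-- **the structure `Clo`** from `(M1)` and `(h2)` -/
theorem clo (m1 : ∀ S : Sylow 2 G, (S : Subgroup G) ≤ M → ∀ a ∈ ES Om (S : Subgroup G), a ≠ 1 →
      centralizer {a} ≤ M)
    (h2 : ∀ K ∈ OmS Om M, ∀ g, g * zz K * g⁻¹ ∈ M → g ∈ M) : CloPoint.Clo M (QQ Om M) where
  le := by
    rintro Q ⟨K, hK, hQ⟩
    exact hQ.1.trans (e.le hK)
  two := by
    rintro Q ⟨K, hK, hQ⟩
    exact hQ.2.1
  ord := by
    rintro Q ⟨K, hK, hQ⟩
    obtain ⟨c, v, n, hc⟩ := e.hyp.exists_gq hK.1 hQ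
    exact zz_spec (K := Q) ⟨_, hc.z_mem, hc.orderOf_z⟩
  uniq := by
    rintro Q ⟨K, hK, hQ⟩ t ht ht2
    rw [e.zz_of_syl hK.1 hQ]
    exact e.hyp.uniq K hK.1 t (hQ.1 ht) ht2
  quat := by
    rintro Q ⟨K, hK, hQ⟩
    obtain ⟨c, v, n, hc⟩ := e.hyp.exists_gq hK.1 hQ
    obtain ⟨x, hx, y, hy, hx4, hy4, h1, h3⟩ := hc.exists_pair
    rw [e.zz_of_syl hK.1 hQ]
    have key : ∀ x ∈ Q, orderOf x = 4 → x * x = zz K := by
      intro x hx hx4
      exact e.hyp.sq_eq_zz hK.1 (hQ.1 hx) hx4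
    refine ⟨x, hx, y, hy, key x hx hx4, key y hy hy4, ?_⟩
    have h4 : y * y * (y * y) = 1 := by rw [key y hy hy4]; exact e.hyp.zz_mul hK.1
    have h5 : y * x = x * y⁻¹ := by
      calc y * x = x * y * (y * y) := by rw [h3, key y hy hy4]
        _ = x * y⁻¹ * (y * y * (y * y)) := by group
        _ = x * y⁻¹ := by rw [h4, mul_one]
    calc x * y * x⁻¹ = (x * y⁻¹ * x⁻¹)⁻¹ := by group
      _ = y⁻¹ := by rw [← h5, mul_inv_cancel_right]
  inv := by
    rintro m hm Q ⟨K, hK, hQ⟩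
    exact ⟨cj m K, cj_mem_OmS_of_mem e.hyp hm hK, hQ.cj m⟩
  comm := by
    rintro P hP hPM Q ⟨K, hK, hQ⟩ Q' ⟨K', hK', hQ'⟩ hQP hQP' hne a ha b hb
    have h1 := e.syl_eq_inf hP hQ hQP
    have h3 := e.syl_eq_inf hP hQ' hQP'
    have h4 : K ≠ K' := by
      rintro rfl
      exact hne (h1.trans h3.symm)
    exact e.hyp.comm hP (mem_OmS_of_le hK.1 hQ hQP) (mem_OmS_of_le hK'.1 hQ' hQP') h4
      (h1 ▸ ha) (h3 ▸ hb)
  syl := by
    intro S hS
    obtain ⟨K, hK⟩ := e.OmS_nonempty_of_syl hS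
    exact ⟨K ⊓ S, ⟨K, OmS_mono hS.1 hK, syl_inf hS.2.1 hK⟩, inf_le_right⟩
  m1 := by
    intro P hP hPM a ha ha1
    rw [e.EE_eq hP hPM] at ha
    obtain ⟨R, hR, hPR⟩ := exists_syl_ge hP hPM
    obtain ⟨T, rfl⟩ := e.sylow hR
    refine m1 T hR.1 a ?_ ha1
    have h1 : ES Om P ≤ ES Om (T : Subgroup G) := by
      rw [ES_le_iff]
      intro K hK
      exact zz_mem_ES (OmS_mono hPR hK)
    exact h1 ha
  h2 := by
    rintro Q ⟨K, hK, hQ⟩ g hg
    rw [e.zz_of_syl hK.1 hQ] at hg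
    exact h2 K hK g hg

end Emb

end Cfsg.Agent.Cit.CloGraph
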