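import Cfsg.Agent.Cit.CloseFus
import Cfsg.Agent.Cit.CloGraph
import Cfsg.Agent.Cit.PairComm

/-!
# CONN / CLOSE: (h2) for `|E(S)| ≥ 4`

`e : Emb Om M` (`Cit/CloGraph`), (M1): `C(a) ≤ M` for `a ∈ E(S)`, `a ≠ 1`, `S ≤ M` a Sylow subgroup of `G`,
`|E(S)| ≥ 4`, and (SW): if the involution `v = z_J` moves `z_K`, `K ∈ Om(S)`, `v ∈ S`, then `z_K z_K^v` is trivial on
`J'/O(J')` for some member `J'` over `v`.  Then `z_J ∈ M` implies `J ∈ Γ` (`Emb.mem_of_zz_mem`), so (h2)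
(`Emb.h2`) and `Clo M (QQ Om M)` (`Emb.clo_of_sw`).
-/

set_option autoImplicit false
set_option linter.unusedSectionVars false
set_option linter.style.haveILetI false

namespace Cfsg.Agent.Cit.CloH2

open Subgroup Cfsg SubCent CloGraph CloseFus

variable {G : Type*} [Group G]

/-- **(SW)** -/
def Sw (Om : Set (Subgroup G)) : Prop :=
  ∀ S : Sylow 2 G, ∀ K ∈ OmS Om (S : Subgroup G), ∀ J ∈ Om, zz J ∈ S → zz J * zz K ≠ zz K * zz J →
    ∃ L ∈ Om, zz L = zz J ∧ L ∈ cov Om (centralizer {zz K * zz (cj (zz J) K)})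

variable [Finite G] {Om : Set (Subgroup G)} {M : Subgroup G}

/-- the elements of `E(S)` have square one, two of them distinct from `1` and from each other -/
theorem exists_two_of_card {E : Subgroup G} (h4 : 4 ≤ Nat.card E) : ∃ a ∈ E, ∃ b ∈ E, a ≠ 1 ∧ b ≠ 1 ∧ a ≠ b := by
  classical
  obtain ⟨a, ha⟩ : ∃ a : E, a ≠ 1 := by
    by_contra hcon
    push Not at hcon
    have : Nat.card E ≤ 1 := Finite.card_le_one_iff_subsingleton.2 ⟨fun x y => by rw [hcon x, hcon y]⟩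
    omega
  obtain ⟨b, hb⟩ : ∃ b : E, b ∉ ({1, a} : Finset E) := by
    by_contra hcon
    push Not at hcon
    haveI : Fintype E := Fintype.ofFinite E
    have h1 : Fintype.card E ≤ ({1, a} : Finset E).card := Finset.card_le_card (fun x _ => hcon x)
    have h2 : ({1, a} : Finset E).card ≤ 2 := Finset.card_le_two
    rw [Nat.card_eq_fintype_card] at h4
    omega
  rw [Finset.mem_insert, Finset.mem_singleton, not_or] at hb
  refine ⟨a, a.2, b, b.2, fun h => ha (Subtype.ext h), fun h => hb.1 (Subtype.ext h), fun h => hb.2 (Subtype.ext h).symm⟩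

/-- a member over an element of `E(S)`, `S ≤ M`, is in `Γ` -/
theorem mem_of_zz_mem_ES (e : Emb Om M) (S : Sylow 2 G) (hS : (S : Subgroup G) ≤ M) {J : Subgroup G} (hJ : J ∈ Om)
    (hz : zz J ∈ ES Om (S : Subgroup G)) : J ∈ OmS Om M := by
  have h := e.hyp
  obtain ⟨K, hK⟩ := h.OmS_nonempty S ⟨J, hJ⟩
  have hKM : K ∈ OmS Om M := OmS_mono hS hK
  have hQ := syl_inf S.isPGroup' hK
  have hQz : ∀ x ∈ K ⊓ (S : Subgroup G), x * zz J = zz J * x := by
    intro x hx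
    have h1 : x ∈ DD Om (S : Subgroup G) := inf_le_DD hK hx
    exact (mem_centralizer_iff.1 (DD_le_centralizer_ES h S.isPGroup' h1) _ hz).symm
  obtain ⟨R, hR, -, hKR, hJR⟩ := PairComm.exists_common' h hK.1 hJ hQ hQz
  haveI : Fact (Nat.Prime 2) := ⟨Nat.prime_two⟩
  obtain ⟨T, hT⟩ := hR.exists_le_sylow
  exact e.mem_of_adj hKM ⟨T, OmS_mono hT hKR, OmS_mono hT hJR⟩

/-- **(H2z)** : `z_J ∈ M` implies `J ∈ Γ` -/
theorem mem_of_zz_mem (e : Emb Om M) (hT : ∀ K ∈ Om, TyTwo K) (hsw : Sw Om)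
    (m1 : ∀ S : Sylow 2 G, (S : Subgroup G) ≤ M → ∀ a ∈ ES Om (S : Subgroup G), a ≠ 1 → centralizer {a} ≤ M)
    (h4 : ∀ S : Sylow 2 G, 4 ≤ Nat.card (ES Om (S : Subgroup G))) {J : Subgroup G} (hJ : J ∈ Om)
    (hz : zz J ∈ M) : J ∈ OmS Om M := by
  haveI : Fact (Nat.Prime 2) := ⟨Nat.prime_two⟩
  have h := e.hyp
  have hz2 := h.zz_mul hJ
  have hzp : IsPGroup 2 (zpowers (zz J)) :=
    IsPGroup.of_card (n := 1) (by rw [Nat.card_zpowers, h.orderOf_zz hJ, pow_one])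
  obtain ⟨T', hT', hzT'⟩ := Cit.exists_syl_ge hzp
    (show zpowers (zz J) ≤ M ⊓ centralizer {zz J} from
      zpowers_le.2 ⟨hz, mem_centralizer_singleton_iff.2 rfl⟩)
  obtain ⟨R, hR, hT'R⟩ := Cit.exists_syl_ge hT'.2.1 (hT'.1.trans inf_le_left)
  obtain ⟨S, rfl⟩ := e.sylow hR
  have hSM : (S : Subgroup G) ≤ M := hR.1
  have hzT : zz J ∈ T' := hzT' (mem_zpowers _)
  have hzS : zz J ∈ S := hT'R hzT
  have hnE : (S : Subgroup G) ≤ normalizer (ES Om (S : Subgroup G) : Set G) :=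
    CloseFus.Clo.le_normalizer h S.isPGroup'
  by_cases hE : ES Om (S : Subgroup G) ≤ centralizer {zz J}
  · -- the four-group in `E(S)`
    obtain ⟨a, ha, b, hb, ha1, hb1, hab⟩ := exists_two_of_card (h4 S)
    have hET : ES Om (S : Subgroup G) ≤ T' :=
      OneBasic.syl_le_of_normalizes hT' (S.isPGroup'.to_le (ES_le h S.isPGroup'))
        (le_inf ((ES_le h S.isPGroup').trans hSM) hE) (hT'R.trans hnE)
    have haa := ES_sq h S.isPGroup' ha
    have hab1 : a * b ≠ 1 := by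
      intro h1
      apply hab
      rw [eq_inv_of_mul_eq_one_right h1, inv_eq_self haa]
    have fr : Four T' M (zz J) a b := ⟨hT', hET ha, hET hb, haa, ES_sq h S.isPGroup' hb,
      ES_comm h S.isPGroup' ha hb, m1 S hSM a ha ha1, m1 S hSM b hb hb1, m1 S hSM _ (mul_mem ha hb) hab1⟩
    rcases fr.mem_or h hT hJ ha hb (hT'R.trans hnE) with ⟨L, hL, hLz, Q, hQ, hQM⟩ | h1
    · exact e.mem_of_zz_eq (mem_of_syl hL hQ hQM) hJ hLz.symm
    · exact mem_of_zz_mem_ES e S hSM hJ h1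
  · -- `z_J` moves some `z_K`
    obtain ⟨K, hK, hne⟩ : ∃ K ∈ OmS Om (S : Subgroup G), zz J * zz K ≠ zz K * zz J := by
      by_contra hcon
      push Not at hcon
      apply hE
      rw [ES_le_iff]
      intro K hK
      exact mem_centralizer_singleton_iff.2 (hcon K hK).symm
    obtain ⟨L, hL, hLz, hcov⟩ := hsw S K hK J hJ hzS hne
    have hK' : cj (zz J) K ∈ OmS Om (S : Subgroup G) := cj_mem_OmS' h.conj (le_normalizer hzS) hK
    have hne1 : zz K * zz (cj (zz J) K) ≠ 1 := by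
      intro h1
      apply hne
      have h2 : zz K = zz (cj (zz J) K) := by
        calc zz K = zz K * (zz (cj (zz J) K) * zz (cj (zz J) K)) := by rw [h.zz_mul hK'.1, mul_one]
          _ = (zz K * zz (cj (zz J) K)) * zz (cj (zz J) K) := by group
          _ = _ := by rw [h1, one_mul]
      rw [h.zz_cj hK.1] at h2
      nth_rewrite 2 [h2]
      group
    have h5 := e.mem_of_cov (m1 S hSM _ (mul_mem (zz_mem_ES hK) (zz_mem_ES hK')) hne1) hcov
    exact e.mem_of_zz_eq h5 hJ hLz.symm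

/-- **(h2)** -/
theorem h2 (e : Emb Om M) (hT : ∀ K ∈ Om, TyTwo K) (hsw : Sw Om)
    (m1 : ∀ S : Sylow 2 G, (S : Subgroup G) ≤ M → ∀ a ∈ ES Om (S : Subgroup G), a ≠ 1 → centralizer {a} ≤ M)
    (h4 : ∀ S : Sylow 2 G, 4 ≤ Nat.card (ES Om (S : Subgroup G))) :
    ∀ K ∈ OmS Om M, ∀ g, g * zz K * g⁻¹ ∈ M → g ∈ M := by
  intro K hK g hg
  rw [← e.hyp.zz_cj hK.1] at hg
  exact e.stab K hK g (mem_of_zz_mem e hT hsw m1 h4 (e.hyp.conj K hK.1 g) hg)

/-- **the structure `Clo`** from (M1), (SW) and `|E(S)| ≥ 4` -/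
theorem clo (e : Emb Om M) (hT : ∀ K ∈ Om, TyTwo K) (hsw : Sw Om)
    (m1 : ∀ S : Sylow 2 G, (S : Subgroup G) ≤ M → ∀ a ∈ ES Om (S : Subgroup G), a ≠ 1 → centralizer {a} ≤ M)
    (h4 : ∀ S : Sylow 2 G, 4 ≤ Nat.card (ES Om (S : Subgroup G))) : CloPoint.Clo M (QQ Om M) :=
  e.clo m1 (h2 e hT hsw m1 h4)

end Cfsg.Agent.Cit.CloH2
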