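import Cfsg.Agent.Cit.Defs
import Cfsg.Agent.Cit.AutQuat

/-!
# More facts on coordinates of quaternion groups
-/

set_option autoImplicit false
set_option linter.style.haveILetI false
set_option linter.unusedSectionVars false

namespace Cfsg.Agent.Cit

open Subgroup

variable {G : Type*} [Group G]

namespace GQ

variable {Q : Subgroup G} {c v z : G} {n : ℕ}

theorem pow_ord (h : GQ Q c v z n) : c ^ 2 ^ (n + 2) = 1 := by
  rw [← h.ord, pow_orderOf_eq_one]

theorem zpow_eq_one_iff (h : GQ Q c v z n) (i : ℤ) : c ^ i = 1 ↔ (2 : ℤ) ^ (n + 2) ∣ i := by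
  rw [← orderOf_dvd_iff_zpow_eq_one, h.ord]
  push_cast
  rfl

theorem commute_c_z (h : GQ Q c v z n) : Commute c z := by
  rw [← h.z_eq]; exact (Commute.refl c).pow_right _

theorem commute_v_z (h : GQ Q c v z n) : Commute v z := by
  rw [← h.v_sq]; exact (Commute.refl v).mul_right (Commute.refl v)

/-- `v c^i = c^(-i) v` for integers -/
theorem v_zpow (h : GQ Q c v z n) (i : ℤ) : v * c ^ i = c ^ (-i) * v := by
  have h1 : v * c ^ i * v⁻¹ = (c ^ i)⁻¹ := by
    rw [← conj_zpow, h.conj, inv_zpow]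
  rw [zpow_neg, ← h1]; group

theorem zpow_v (h : GQ Q c v z n) (i : ℤ) : c ^ i * v = v * c ^ (-i) := by
  have := h.v_zpow (-i)
  rw [neg_neg] at this
  exact this.symm

theorem conj_zpow_v (h : GQ Q c v z n) (i : ℤ) : c ^ i * v * (c ^ i)⁻¹ = v * c ^ (-2 * i) := by
  rw [h.zpow_v, mul_assoc, ← zpow_neg, ← zpow_add]
  congr 2
  ring

/-- `z = c^(2^(n+1))` with an integer exponent -/
theorem z_zpow (h : GQ Q c v z n) : c ^ ((2 : ℤ) ^ (n + 1)) = z := by
  rw [← h.z_eq, ← zpow_natCast]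
  push_cast
  rfl

theorem zpow_sq (h : GQ Q c v z n) {i : ℤ} (hi : c ^ (2 * i) = 1) : c ^ i = 1 ∨ c ^ i = z := by
  rw [h.zpow_eq_one_iff] at hi
  have h1 : (2 : ℤ) ^ (n + 1) ∣ i := by
    rw [pow_succ'] at hi
    exact (mul_dvd_mul_iff_left (by norm_num)).1 hi
  obtain ⟨k, rfl⟩ := h1
  rw [zpow_mul, h.z_zpow]
  rcases Int.even_or_odd k with ⟨m, rfl⟩ | ⟨m, rfl⟩
  · left
    rw [← two_mul, zpow_mul]
    have : z ^ (2 : ℤ) = 1 := by
      rw [zpow_ofNat, pow_two, h.z_mul]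
    rw [this, one_zpow]
  · right
    rw [zpow_add, zpow_mul]
    have : z ^ (2 : ℤ) = 1 := by
      rw [zpow_ofNat, pow_two, h.z_mul]
    rw [this, one_zpow, zpow_one, one_mul]

theorem v_not_mem (h : GQ Q c v z n) : v ∉ zpowers c := by
  rintro ⟨k, hk⟩
  apply h.not_comm
  have hk' : c ^ k = v := hk
  rw [← hk']
  exact ((Commute.refl c).zpow_left k).eq

/-- integer version of `cov` -/
theorem covZ (h : GQ Q c v z n) {q : G} (hq : q ∈ Q) : q ∈ zpowers c ∨ ∃ i : ℤ, q = v * c ^ i := by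
  rcases h.cov q hq with ⟨i, rfl⟩ | ⟨i, rfl⟩
  · left; exact pow_mem (mem_zpowers c) i
  · right; exact ⟨i, by rw [zpow_natCast]⟩

theorem zpowers_le (h : GQ Q c v z n) : zpowers c ≤ Q := Subgroup.zpowers_le.2 h.c_mem

theorem vc_not_mem (h : GQ Q c v z n) (i : ℤ) : v * c ^ i ∉ zpowers c := by
  intro hv
  apply h.v_not_mem
  have := (zpowers c).mul_mem hv (zpow_mem (mem_zpowers c) (-i))
  rwa [mul_assoc, ← zpow_add, add_neg_cancel, zpow_zero, mul_one] at this

/-- outside `⟨c⟩` -/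
theorem exists_eq_of_not_mem (h : GQ Q c v z n) {q : G} (hq : q ∈ Q) (hq' : q ∉ zpowers c) :
    ∃ i : ℤ, q = v * c ^ i := (h.covZ hq).resolve_left hq'

/-- `Q` is generated by `c` and any element outside `⟨c⟩` -/
theorem le_of_mem (h : GQ Q c v z n) {H : Subgroup G} (hc : c ∈ H) {q : G} (hq : q ∈ Q)
    (hq' : q ∉ zpowers c) (hqH : q ∈ H) : Q ≤ H := by
  obtain ⟨i, rfl⟩ := h.exists_eq_of_not_mem hq hq'
  have hv : v ∈ H := by
    have := H.mul_mem hqH (H.zpow_mem hc (-i))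
    rwa [mul_assoc, ← zpow_add, add_neg_cancel, zpow_zero, mul_one] at this
  intro x hx
  rcases h.covZ hx with hx | ⟨j, rfl⟩
  · exact (Subgroup.zpowers_le.2 hc) hx
  · exact H.mul_mem hv (H.zpow_mem hc j)

theorem card [Finite G] (h : GQ Q c v z n) : Nat.card Q = 2 ^ (n + 3) := by
  have hi : ((zpowers c).subgroupOf Q).index = 2 := by
    rw [index_eq_two_iff]
    refine ⟨⟨v, h.v_mem⟩, ?_⟩
    rintro ⟨b, hb⟩
    simp only [mem_subgroupOf, MulMemClass.mk_mul_mk]
    rcases h.covZ hb with hb' | ⟨i, rfl⟩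
    · right
      refine ⟨hb', ?_⟩
      intro h1
      apply h.v_not_mem
      have := (zpowers c).mul_mem ((zpowers c).inv_mem hb') h1
      rwa [inv_mul_cancel_left] at this
    · left
      refine ⟨?_, h.vc_not_mem i⟩
      rw [mul_assoc, h.zpow_v, ← mul_assoc, h.v_sq, ← h.z_eq]
      exact (zpowers c).mul_mem (pow_mem (mem_zpowers c) _) (zpow_mem (mem_zpowers c) _)
  have h1 := ((zpowers c).subgroupOf Q).card_mul_index
  rw [hi, Nat.card_congr (subgroupOfEquivOfLe h.zpowers_le).toEquiv, Nat.card_zpowers, h.ord] at h1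
  rw [← h1]; ring

/-- the element `w` of order `4` of `⟨c⟩` -/
theorem w_sq (h : GQ Q c v z n) : c ^ 2 ^ n * c ^ 2 ^ n = z := by
  rw [← pow_add, ← two_mul, ← pow_succ', h.z_eq]

theorem orderOf_w (h : GQ Q c v z n) : orderOf (c ^ 2 ^ n) = 4 := orderOf_of_sq h.w_sq h.z_mul h.z_ne

end GQ

section Coord

variable {Q : Subgroup G}

/-- coordinates adapted to a given cyclic subgroup of index two -/
theorem exists_gq_of_cyclic [Finite G] (hQ : AutQuat.IsQ Q) {z x : G} (hzQ : z ∈ Q) (hz2 : orderOf z = 2)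
    (hz : ∀ t ∈ Q, orderOf t = 2 → t = z) (hx : x ∈ Q) (hx4 : 4 ≤ orderOf x)
    (hxc : 2 * orderOf x = Nat.card Q) : ∃ v n, GQ Q x v z n := by
  obtain ⟨n, hn⟩ := hQ.card
  obtain ⟨v, hv, hvx⟩ := hQ.exists_inverts x hx
  have ho : orderOf x = 2 ^ (n + 2) := by
    have h1 : 2 * orderOf x = 2 * 2 ^ (n + 2) := by rw [hxc, hn]; ring
    exact Nat.eq_of_mul_eq_mul_left (by norm_num) h1
  have hz1 : z ≠ 1 := by
    rintro rfl
    rw [orderOf_one] at hz2
    omega
  have hxx : x * x ≠ 1 := by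
    intro h1
    have h2 := Nat.le_of_dvd (by norm_num) (orderOf_dvd_of_pow_eq_one (by rw [pow_two]; exact h1 : x ^ 2 = 1))
    omega
  have hvn : v ∉ zpowers x := by
    rintro ⟨k, hk⟩
    have hk' : x ^ k = v := hk
    apply hxx
    have h1 : v * x * v⁻¹ = x := by
      rw [← hk', ((Commute.refl x).zpow_left k).eq, mul_inv_cancel_right]
    rw [h1] at hvx
    nth_rewrite 2 [hvx]
    exact mul_inv_cancel x
  have hxQ : zpowers x ≤ Q := zpowers_le.2 hx
  have hi : ((zpowers x).subgroupOf Q).index = 2 := by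
    have h1 := ((zpowers x).subgroupOf Q).card_mul_index
    rw [Nat.card_congr (subgroupOfEquivOfLe hxQ).toEquiv, Nat.card_zpowers, ← hxc, mul_comm 2] at h1
    exact Nat.eq_of_mul_eq_mul_left (by omega) h1
  have hzp : z ∈ zpowers x := hQ.mem_zpowers hz hx (by
    rintro rfl
    exact hxx (by simp))
  have hzeq : x ^ 2 ^ (n + 1) = z := by
    apply hz _ (Q.pow_mem hx _)
    rw [orderOf_pow, ho]
    have : Nat.gcd (2 ^ (n + 2)) (2 ^ (n + 1)) = 2 ^ (n + 1) :=
      Nat.gcd_eq_right (pow_dvd_pow 2 (by omega))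
    rw [this, pow_succ 2 (n + 1), Nat.mul_div_cancel_left _ (by positivity)]
  have hvv : v * v ∈ zpowers x := by
    have h1 := Subgroup.mul_self_mem_of_index_two hi ⟨v, hv⟩
    exact h1
  have hvv4 : (v * v) * (v * v) = 1 := by
    obtain ⟨k, hk⟩ := hvv
    have hk' : x ^ k = v * v := hk
    have h1 : v * (x ^ k) * v⁻¹ = (x ^ k)⁻¹ := by rw [← conj_zpow, hvx, inv_zpow]
    rw [hk'] at h1
    have h2 : v * (v * v) * v⁻¹ = v * v := by group
    rw [h2] at h1
    nth_rewrite 2 [h1]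
    exact mul_inv_cancel _
  have hvv1 : v * v ≠ 1 := by
    intro h1
    have h2 : v ≠ 1 := by
      rintro rfl
      exact hvn (one_mem _)
    have h3 : v = z := hz v hv (orderOf_eq_prime (by rw [pow_two]; exact h1) h2)
    rw [h3] at hvn
    exact hvn hzp
  refine ⟨v, n, hx, hv, ho, hzeq, ?_, hvx, ?_⟩
  · exact hz _ (Q.mul_mem hv hv) (orderOf_eq_prime (by rw [pow_two]; exact hvv4) hvv1)
  · intro q hq
    by_cases hqx : q ∈ zpowers x
    · left
      obtain ⟨k, hk⟩ := (mem_powers_iff_mem_zpowers (x := x) (y := q)).2 hqx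
      exact ⟨k, hk.symm⟩
    · right
      have h1 : v⁻¹ * q ∈ zpowers x := by
        have h2 := (Subgroup.mul_mem_iff_of_index_two hi (a := (⟨v, hv⟩ : Q)⁻¹) (b := ⟨q, hq⟩))
        rw [Subgroup.inv_mem_iff] at h2
        exact h2.2 (iff_of_false hvn hqx)
      obtain ⟨k, hk⟩ := (mem_powers_iff_mem_zpowers (x := x) (y := v⁻¹ * q)).2 h1
      refine ⟨k, ?_⟩
      have hk' : x ^ k = v⁻¹ * q := hk
      rw [hk']; group

end Coord

namespace Hyp

variable [Finite G] {Om : Set (Subgroup G)}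

/-- coordinates for a Sylow 2-subgroup of a member adapted to a 2-group `T` normalising it -/
theorem exists_gq_cyclic (h : Hyp Om) {K Q T : Subgroup G} (hK : K ∈ Om) (hQ : Syl Q K)
    (hT : IsPGroup 2 T) (hTQ : T ≤ normalizer (Q : Set G)) :
    ∃ x y n, GQ Q x y (zz K) n ∧ ∀ w ∈ T, w * x * w⁻¹ ∈ zpowers x := by
  have hIQ : AutQuat.IsQ Q := h.isGQ hK hQ
  obtain ⟨x, hx, hx4, hxc, hxT⟩ := hIQ.exists_cyclic hT hTQ
  obtain ⟨c, v, m, hc⟩ := h.exists_gq hK hQ
  obtain ⟨y, n, hy⟩ := exists_gq_of_cyclic hIQ hc.z_mem hc.orderOf_z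
    (fun t ht => h.uniq K hK t (hQ.1 ht)) hx hx4 hxc
  exact ⟨x, y, n, hy, hxT⟩

end Hyp

namespace GQ

variable {Q : Subgroup G} {c v z : G} {n : ℕ}

/-- action of an element normalising `Q` and `⟨c⟩` -/
theorem exists_act (h : GQ Q c v z n) {g : G} (hg : g ∈ normalizer (Q : Set G))
    (hgc : g⁻¹ * c * g ∈ zpowers c) : ∃ j : ℤ, g * v * g⁻¹ = v * c ^ j := by
  apply h.exists_eq_of_not_mem
  · exact (mem_normalizer_iff.1 hg v).1 h.v_mem
  · rintro ⟨k, hk⟩
    have hk' : c ^ k = g * v * g⁻¹ := hk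
    apply h.v_not_mem
    have h1 : v = (g⁻¹ * c * g) ^ k := by
      have h2 : (g⁻¹ * c * g) ^ k = g⁻¹ * c ^ k * g := by
        have := conj_zpow (i := k) (a := g⁻¹) (b := c)
        simpa using this
      rw [h2, hk']; group
    rw [h1]
    exact zpow_mem hgc k

end GQ

end Cfsg.Agent.Cit
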