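import Cfsg.Agent.Cit.OneBasic
import Cfsg.Agent.Cit.OneQuat

/-!
# Classical involutions, `|Om(S)| = 1`: pairs of commuting classical involutions

`OPair Om K L T Q Q'`: `K ≠ L` are members with commuting involutions `z`, `t`, `T` is a Sylow 2-subgroup of
`C(z) ∩ C(t) = N(K) ∩ N(L)`, and `Q`, `Q'` are `T`-invariant Sylow 2-subgroups of `K`, `L`.
-/

set_option autoImplicit false
set_option linter.style.haveILetI false
set_option linter.unusedSectionVars false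
set_option linter.unusedVariables false

namespace Cfsg.Agent.Cit

open Subgroup Cfsg OneBasic

variable {G : Type*} [Group G]

namespace OneBasic

theorem conj_mem_of {Q : Subgroup G} {g x : G} (hg : g ∈ normalizer (Q : Set G)) (hx : x ∈ Q) :
    g * x * g⁻¹ ∈ Q := (mem_normalizer_iff.1 hg x).1 hx

theorem conj_mem_of' {Q : Subgroup G} {g x : G} (hg : g ∈ normalizer (Q : Set G)) (hx : x ∈ Q) :
    g⁻¹ * x * g ∈ Q := by
  have := conj_mem_of (inv_mem hg) hx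
  simpa using this

end OneBasic

/-- see the head of the file -/
structure OPair (Om : Set (Subgroup G)) (K L T Q Q' : Subgroup G) : Prop where
  hK : K ∈ Om
  hL : L ∈ Om
  ne : K ≠ L
  comm : zz K * zz L = zz L * zz K
  hQ : Syl Q K
  hQ' : Syl Q' L
  hT : Syl T (normalizer (K : Set G) ⊓ normalizer (L : Set G))
  hTQ : T ≤ normalizer (Q : Set G)
  hTQ' : T ≤ normalizer (Q' : Set G)

theorem OPair.symm {Om : Set (Subgroup G)} {K L T Q Q' : Subgroup G} (p : OPair Om K L T Q Q') :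
    OPair Om L K T Q' Q :=
  ⟨p.hL, p.hK, p.ne.symm, p.comm.symm, p.hQ', p.hQ, by rw [inf_comm]; exact p.hT, p.hTQ', p.hTQ⟩

namespace One

variable [Finite G] {Om : Set (Subgroup G)}

theorem exists_pair (h : One Om) {K L A : Subgroup G} (hK : K ∈ Om) (hL : L ∈ Om) (hne : K ≠ L)
    (hc : zz K * zz L = zz L * zz K) (hA : IsPGroup 2 A) (hAK : A ≤ normalizer (K : Set G))
    (hAL : A ≤ normalizer (L : Set G)) : ∃ T Q Q', A ≤ T ∧ OPair Om K L T Q Q' := by
  obtain ⟨T, hT, hAT⟩ := exists_syl_ge hA (le_inf hAK hAL)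
  obtain ⟨Q, hQ, hTQ⟩ := exists_syl_normalized hT.2.1 (hT.1.trans inf_le_left)
  obtain ⟨Q', hQ', hTQ'⟩ := exists_syl_normalized hT.2.1 (hT.1.trans inf_le_right)
  exact ⟨T, Q, Q', hAT, hK, hL, hne, hc, hQ, hQ', hT, hTQ, hTQ'⟩

end One

namespace OPair

variable [Finite G] {Om : Set (Subgroup G)} {K L T Q Q' : Subgroup G}

theorem tp (p : OPair Om K L T Q Q') : IsPGroup 2 T := p.hT.2.1

theorem tK (p : OPair Om K L T Q Q') : T ≤ normalizer (K : Set G) := p.hT.1.trans inf_le_left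

theorem tL (p : OPair Om K L T Q Q') : T ≤ normalizer (L : Set G) := p.hT.1.trans inf_le_right

theorem tz (p : OPair Om K L T Q Q') (h : One Om) {a : G} (ha : a ∈ T) : a * zz K = zz K * a :=
  h.hyp.comm_zz p.hK (p.tK ha)

theorem tt (p : OPair Om K L T Q Q') (h : One Om) {a : G} (ha : a ∈ T) : a * zz L = zz L * a :=
  h.hyp.comm_zz p.hL (p.tL ha)

/-- `C_Q(t) ≤ T` -/
theorem mem_T (p : OPair Om K L T Q Q') (h : One Om) {u : G} (hu : u ∈ Q) (hut : u * zz L = zz L * u) :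
    u ∈ T := by
  have h1 : Q ⊓ centralizer {zz L} ≤ T := by
    refine syl_le_of_normalizes p.hT (p.hQ.2.1.to_le inf_le_left) ?_ ?_
    · refine le_inf (inf_le_left.trans (p.hQ.1.trans le_normalizer)) ?_
      rw [← h.centralizer_zz p.hL]
      exact inf_le_right
    · intro a ha
      rw [mem_normalizer_iff_cj, cj_inf, mem_normalizer_iff_cj.1 (p.hTQ ha), cj_centralizer]
      congr 2
      rw [p.tt h ha, mul_inv_cancel_right]
  exact h1 ⟨hu, mem_centralizer_singleton_iff.2 hut⟩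

theorem zK_mem_Q (p : OPair Om K L T Q Q') (h : One Om) : zz K ∈ Q := by
  obtain ⟨c, v, n, hc⟩ := h.hyp.exists_gq p.hK p.hQ
  exact hc.z_mem

theorem zK_mem (p : OPair Om K L T Q Q') (h : One Om) : zz K ∈ T := p.mem_T h (p.zK_mem_Q h) p.comm

theorem zL_mem (p : OPair Om K L T Q Q') (h : One Om) : zz L ∈ T := p.symm.zK_mem h

theorem z_ne_t (p : OPair Om K L T Q Q') (h : One Om) : zz K ≠ zz L :=
  fun hh => p.ne (h.eq_of_zz_eq p.hK p.hL hh)

/-- `Q ∩ Q' = 1` -/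
theorem disj (p : OPair Om K L T Q Q') (h : One Om) {u : G} (hu : u ∈ Q) (hu' : u ∈ Q') : u = 1 := by
  by_contra hu1
  have hIQ : AutQuat.IsQ Q := h.hyp.isGQ p.hK p.hQ
  have h1 : zz K ∈ zpowers u :=
    hIQ.mem_zpowers (fun t ht => h.hyp.uniq K p.hK t (p.hQ.1 ht)) hu hu1
  have h2 : zz K ∈ Q' := (zpowers_le.2 hu') h1
  exact p.z_ne_t h (h.hyp.uniq L p.hL _ (p.hQ'.1 h2) (h.hyp.orderOf_zz p.hK))

/-- `[C_Q(t), C_Q'(z)] = 1` -/
theorem commute_R (p : OPair Om K L T Q Q') (h : One Om) {u u' : G} (hu : u ∈ Q) (huT : u ∈ T) (hu' : u' ∈ Q')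
    (huT' : u' ∈ T) : u * u' = u' * u := by
  have h1 : u * u' * u⁻¹ * u'⁻¹ ∈ Q' :=
    Q'.mul_mem ((mem_normalizer_iff.1 (p.hTQ' huT) u').1 hu') (Q'.inv_mem hu')
  have h2 : u * u' * u⁻¹ * u'⁻¹ ∈ Q := by
    have h3 := Q.mul_mem hu ((mem_normalizer_iff.1 (p.hTQ huT') u⁻¹).1 (Q.inv_mem hu))
    simpa [mul_assoc] using h3
  have h3 := p.disj h h2 h1
  rw [mul_inv_eq_one, mul_inv_eq_iff_eq_mul] at h3
  exact h3

/-- `t` does not centralise `Q` -/
theorem not_cent (p : OPair Om K L T Q Q') (h : One Om) : ¬ ∀ x ∈ Q, zz L * x = x * zz L :=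
  fun hh => p.ne (h.eq_of_cent p.hK p.hL p.hQ hh)

/-- an element of `Q'` centralising `Q` is trivial -/
theorem faithful (p : OPair Om K L T Q Q') (h : One Om) {u : G} (hu : u ∈ Q')
    (hc : ∀ x ∈ Q, u * x = x * u) : u = 1 := by
  by_contra hu1
  have hIQ : AutQuat.IsQ Q' := h.hyp.isGQ p.hL p.hQ'
  have h1 : zz L ∈ zpowers u :=
    hIQ.mem_zpowers (fun t ht => h.hyp.uniq L p.hL t (p.hQ'.1 ht)) hu hu1
  obtain ⟨k, hk⟩ := h1
  have hk' : u ^ k = zz L := hk
  apply p.not_cent h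
  intro x hx
  rw [← hk']
  exact ((show Commute u x from hc x hx).zpow_left k).eq

/-- `C_T(Q)` centralises `C_Q'(z)` -/
theorem cent_R' (p : OPair Om K L T Q Q') (h : One Om) {a : G} (ha : a ∈ T) (haQ : ∀ x ∈ Q, a * x = x * a)
    {u : G} (hu : u ∈ Q') (huT : u ∈ T) : a * u = u * a := by
  have h1 : a * u * a⁻¹ * u⁻¹ ∈ Q' := Q'.mul_mem (conj_mem_of (p.hTQ' ha) hu) (Q'.inv_mem hu)
  have h2 : ∀ x ∈ Q, (a * u * a⁻¹ * u⁻¹) * x = x * (a * u * a⁻¹ * u⁻¹) := by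
    intro x hx
    have c1 := haQ _ (conj_mem_of' (p.hTQ huT) hx)
    have c2 := haQ x hx
    calc (a * u * a⁻¹ * u⁻¹) * x = a * u * a⁻¹ * (u⁻¹ * x * u) * u⁻¹ := by group
      _ = a * u * a⁻¹ * ((u⁻¹ * x * u) * a) * a⁻¹ * u⁻¹ := by group
      _ = a * u * a⁻¹ * (a * (u⁻¹ * x * u)) * a⁻¹ * u⁻¹ := by rw [c1]
      _ = (a * x) * (u * a⁻¹ * u⁻¹) := by group
      _ = x * (a * u * a⁻¹ * u⁻¹) := by rw [c2]; group
  have h3 := p.faithful h h1 h2
  rw [mul_inv_eq_one, mul_inv_eq_iff_eq_mul] at h3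
  exact h3

end OPair

/-! ### arithmetic -/

namespace OneBasic

theorem arith_one (n : ℕ) (k : ℤ) (h : (2 : ℤ) ^ (n + 2) ∣ k ^ 4 - 1) : (2 : ℤ) ^ (n + 1) ∣ k ^ 2 - 1 := by
  have h2 : (2 : ℤ) ∣ k ^ 4 - 1 := (dvd_pow_self 2 (by omega)).trans h
  have hodd : Odd k := by
    rcases Int.even_or_odd k with hk | hk
    · exfalso
      have h3 : (2 : ℤ) ∣ k ^ 4 := (even_iff_two_dvd.1 hk).trans (dvd_pow_self k (by norm_num))
      omega
    · exact hk
  obtain ⟨a, ha⟩ := hodd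
  have hk2 : k ^ 2 + 1 = 2 * (2 * (a ^ 2 + a) + 1) := by rw [ha]; ring
  have h3 : k ^ 4 - 1 = 2 * ((k ^ 2 - 1) * (2 * (a ^ 2 + a) + 1)) := by
    calc k ^ 4 - 1 = (k ^ 2 - 1) * (k ^ 2 + 1) := by ring
      _ = _ := by rw [hk2]; ring
  rw [h3, pow_succ'] at h
  have h4 : (2 : ℤ) ^ (n + 1) ∣ (k ^ 2 - 1) * (2 * (a ^ 2 + a) + 1) :=
    (mul_dvd_mul_iff_left (by norm_num)).1 h
  have h5 : IsCoprime ((2 : ℤ) ^ (n + 1)) (2 * (a ^ 2 + a) + 1) := by
    apply IsCoprime.pow_left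
    exact ⟨-(a ^ 2 + a), 1, by ring⟩
  exact h5.dvd_of_dvd_mul_right h4

theorem arith_two (n : ℕ) (k : ℤ) (h : (2 : ℤ) ^ (n + 1) ∣ k - 1) : (2 : ℤ) ^ (n + 2) ∣ k ^ 2 - 1 := by
  have h2 : (2 : ℤ) ∣ k - 1 := (dvd_pow_self 2 (by omega)).trans h
  have h3 : (2 : ℤ) ∣ k + 1 := by omega
  have h4 : k ^ 2 - 1 = (k - 1) * (k + 1) := by ring
  rw [h4, pow_succ]
  exact mul_dvd_mul h h3

theorem conj_zpow_pow {g c : G} {k : ℤ} (h : g * c * g⁻¹ = c ^ k) (i : ℤ) : g * c ^ i * g⁻¹ = c ^ (k * i) := by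
  rw [← conj_zpow, h, zpow_mul]

end OneBasic

namespace OPair

variable [Finite G] {Om : Set (Subgroup G)} {K L T Q Q' : Subgroup G}

/-- coordinates adapted to a pair -/
structure Co (Om : Set (Subgroup G)) (K L T Q Q' : Subgroup G) (x y x' y' : G) (n : ℕ) : Prop where
  pair : OPair Om K L T Q Q'
  gq : GQ Q x y (zz K) n
  gq' : GQ Q' x' y' (zz L) n
  inv : ∀ w ∈ T, w * x * w⁻¹ ∈ zpowers x
  inv' : ∀ w ∈ T, w * x' * w⁻¹ ∈ zpowers x'

theorem Co.symm {x y x' y' : G} {n : ℕ} (p : Co Om K L T Q Q' x y x' y' n) :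
    Co Om L K T Q' Q x' y' x y n :=
  ⟨p.pair.symm, p.gq', p.gq, p.inv', p.inv⟩

theorem exists_co (p : OPair Om K L T Q Q') (h : One Om) : ∃ x y x' y' n, Co Om K L T Q Q' x y x' y' n := by
  obtain ⟨x, y, n, hxy, hT⟩ := h.hyp.exists_gq_cyclic p.hK p.hQ p.tp p.hTQ
  obtain ⟨x', y', m, hxy', hT'⟩ := h.hyp.exists_gq_cyclic p.hL p.hQ' p.tp p.hTQ'
  have hmn : m = n := by
    have h1 : Nat.card Q = Nat.card Q' := by
      obtain ⟨g, hg⟩ := h.exists_cj_eq p.hK p.hL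
      have h2 := p.hQ.cj g
      rw [hg] at h2
      obtain ⟨k, -, hk⟩ := h2.exists_conj p.hQ'
      rw [← hk, card_cj, card_cj]
    rw [hxy.card, hxy'.card] at h1
    have := Nat.pow_right_injective (le_refl 2) h1
    omega
  subst hmn
  exact ⟨x, y, x', y', m, p, hxy, hxy', hT, hT'⟩

namespace Co

variable {x y x' y' : G} {n : ℕ}

theorem exp (p : Co Om K L T Q Q' x y x' y' n) {w : G} (hw : w ∈ T) : ∃ k : ℤ, w * x * w⁻¹ = x ^ k := by
  obtain ⟨k, hk⟩ := p.inv w hw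
  exact ⟨k, hk.symm⟩

/-- the dichotomy, first step: if `C_Q(t)` contains an element of order `4` then `z` centralises `x'` -/
theorem key (p : Co Om K L T Q Q' x y x' y' n) (h : One Om) {u : G} (hu : u ∈ Q)
    (hut : u * zz L = zz L * u) (hu2 : u * u = zz K) : zz K * x' = x' * zz K := by
  have huT : u ∈ T := p.pair.mem_T h hu hut
  obtain ⟨k, hk⟩ := p.symm.exp huT
  have h1 : ∀ i : ℤ, zz K * x' ^ i * (zz K)⁻¹ = x' ^ (k ^ 2 * i) := by
    intro i
    have h2 : zz K * x' ^ i * (zz K)⁻¹ = u * (u * x' ^ i * u⁻¹) * u⁻¹ := by rw [← hu2]; group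
    rw [h2, conj_zpow_pow hk, conj_zpow_pow hk]
    congr 1
    ring
  have h4 : (2 : ℤ) ^ (n + 2) ∣ k ^ 4 - 1 := by
    rw [← p.gq'.zpow_eq_one_iff, zpow_sub, zpow_one, mul_inv_eq_one]
    have h3 : zz K * (zz K * x' ^ (1 : ℤ) * (zz K)⁻¹) * (zz K)⁻¹ = x' := by
      have h5 : zz K * (zz K * x' ^ (1 : ℤ) * (zz K)⁻¹) * (zz K)⁻¹
          = (zz K * zz K) * x' * (zz K * zz K)⁻¹ := by group
      rw [h5, h.hyp.zz_mul p.pair.hK]; group
    rw [h1, h1] at h3
    conv_rhs => rw [← h3]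
    congr 1
    ring
  have h5 := arith_one n k h4
  -- `z` centralises `x'^2`
  have h6 : zz K * x' ^ (2 : ℤ) * (zz K)⁻¹ = x' ^ (2 : ℤ) := by
    rw [h1]
    have h7 : (2 : ℤ) ^ (n + 2) ∣ k ^ 2 * 2 - 2 := by
      have : k ^ 2 * 2 - 2 = (k ^ 2 - 1) * 2 := by ring
      rw [this, pow_succ]
      exact mul_dvd_mul h5 dvd_rfl
    rw [← p.gq'.zpow_eq_one_iff, zpow_sub, mul_inv_eq_one] at h7
    exact h7
  have h7 : x' ^ (2 : ℤ) ∈ T := by
    apply p.pair.symm.mem_T h (Q'.zpow_mem p.gq'.c_mem 2)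
    rw [mul_inv_eq_iff_eq_mul] at h6
    exact h6.symm
  have h8 := p.pair.commute_R h hu huT (Q'.zpow_mem p.gq'.c_mem 2) h7
  have h9 : u * x' ^ (2 : ℤ) * u⁻¹ = x' ^ (2 : ℤ) := by rw [h8, mul_inv_cancel_right]
  rw [conj_zpow_pow hk] at h9
  have h10 : (2 : ℤ) ^ (n + 1) ∣ k - 1 := by
    have h11 : (2 : ℤ) ^ (n + 2) ∣ k * 2 - 2 := by
      rw [← p.gq'.zpow_eq_one_iff, zpow_sub, mul_inv_eq_one]
      exact h9
    have : k * 2 - 2 = 2 * (k - 1) := by ring
    rw [this, pow_succ'] at h11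
    exact (mul_dvd_mul_iff_left (by norm_num)).1 h11
  have h11 := arith_two n k h10
  have h12 : zz K * x' * (zz K)⁻¹ = x' := by
    have h13 := h1 1
    rw [zpow_one] at h13
    rw [h13]
    have h14 : x' ^ (k ^ 2 * 1 - 1) = 1 := by
      rw [p.gq'.zpow_eq_one_iff, mul_one]; exact h11
    rw [zpow_sub, zpow_one, mul_inv_eq_one] at h14
    exact h14
  rwa [mul_inv_eq_iff_eq_mul] at h12

/-- elements of `⟨x⟩` of order `4`: `w = x^(2^n)` -/
theorem w_comm (p : Co Om K L T Q Q' x y x' y' n) (hx : zz L * x = x * zz L) :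
    x ^ 2 ^ n * zz L = zz L * x ^ 2 ^ n :=
  ((show Commute x (zz L) from hx.symm).pow_left _).eq

/-- **the dichotomy** -/
theorem dich (p : Co Om K L T Q Q' x y x' y' n) (h : One Om) :
    (zz K * x' = x' * zz K ∧ zz L * x = x * zz L) ∨
    ((∀ u ∈ Q, u * zz L = zz L * u → u = 1 ∨ u = zz K) ∧
      (∀ u ∈ Q', u * zz K = zz K * u → u = 1 ∨ u = zz L)) := by
  by_cases h1 : ∃ u ∈ Q, u * zz L = zz L * u ∧ u * u = zz K
  · left
    obtain ⟨u, hu, hut, hu2⟩ := h1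
    have h2 := p.key h hu hut hu2
    refine ⟨h2, ?_⟩
    exact p.symm.key h (Q'.pow_mem p.gq'.c_mem (2 ^ n)) (p.symm.w_comm h2) p.gq'.w_sq
  · by_cases h2 : ∃ u ∈ Q', u * zz K = zz K * u ∧ u * u = zz L
    · left
      obtain ⟨u, hu, hut, hu2⟩ := h2
      have h3 := p.symm.key h hu hut hu2
      refine ⟨?_, h3⟩
      exact p.key h (Q.pow_mem p.gq.c_mem (2 ^ n)) (p.w_comm h3) p.gq.w_sq
    · right
      have aux : ∀ {K L T Q Q' : Subgroup G} {x y x' y' : G} {n : ℕ} (p : Co Om K L T Q Q' x y x' y' n),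
          (¬ ∃ u ∈ Q, u * zz L = zz L * u ∧ u * u = zz K) →
          ∀ u ∈ Q, u * zz L = zz L * u → u = 1 ∨ u = zz K := by
        intro K L T Q Q' x y x' y' n p hn u hu hut
        by_contra hcon
        push Not at hcon
        obtain ⟨hu1, huz⟩ := hcon
        have hIQ : AutQuat.IsQ Q := h.hyp.isGQ p.pair.hK p.pair.hQ
        have h1 : zz K ∈ zpowers u :=
          hIQ.mem_zpowers (fun t ht => h.hyp.uniq K p.pair.hK t (p.pair.hQ.1 ht)) hu hu1
        -- a power of `u` squares to `z`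
        have h2 : ∃ m : ℕ, u ^ 2 ^ m = zz K := by
          obtain ⟨k, hk⟩ := p.pair.hQ.2.1 ⟨u, hu⟩
          have hk' : u ^ 2 ^ k = 1 := congrArg Subtype.val hk
          obtain ⟨j, hj, hj2⟩ := (Nat.dvd_prime_pow Nat.prime_two).mp (orderOf_dvd_of_pow_eq_one hk')
          have hj0 : j ≠ 0 := by
            rintro rfl
            rw [pow_zero, orderOf_eq_one_iff] at hj2
            exact hu1 hj2
          obtain ⟨i, rfl⟩ := Nat.exists_eq_succ_of_ne_zero hj0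
          refine ⟨i, ?_⟩
          apply h.hyp.uniq K p.pair.hK _ (p.pair.hQ.1 (Q.pow_mem hu _))
          rw [orderOf_pow' u (by positivity), hj2, Nat.succ_eq_add_one, pow_succ, Nat.gcd_mul_right_left,
            Nat.mul_div_cancel_left _ (by positivity)]
        obtain ⟨m, hm⟩ := h2
        rcases Nat.eq_zero_or_pos m with rfl | hm0
        · apply huz
          simpa using hm
        · obtain ⟨j, rfl⟩ := Nat.exists_eq_succ_of_ne_zero hm0.ne'
          apply hn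
          refine ⟨u ^ 2 ^ j, Q.pow_mem hu _, ((show Commute u (zz L) from hut).pow_left _).eq, ?_⟩
          rw [← pow_add, ← two_mul, ← pow_succ']
          exact hm
      exact ⟨aux p h1, aux p.symm h2⟩

/-- elements of `⟨x⟩` with square `z` -/
theorem _root_.Cfsg.Agent.Cit.GQ.eq_w_of_sq {Q : Subgroup G} {c v z : G} {n : ℕ} (h : GQ Q c v z n) {u : G}
    (hu : u ∈ zpowers c) (hu2 : u * u = z) : u = c ^ 2 ^ n ∨ u = c ^ 2 ^ n * z := by
  obtain ⟨i, rfl⟩ := hu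
  have h1 : c ^ (2 * (i - 2 ^ n)) = 1 := by
    have h2 : c ^ (2 * (i - 2 ^ n)) = (c ^ i * c ^ i) * (c ^ 2 ^ n * c ^ 2 ^ n)⁻¹ := by
      rw [← zpow_natCast c (2 ^ n), ← zpow_add, ← zpow_add, ← zpow_sub]
      congr 1
      push_cast
      ring
    rw [h2, h.w_sq]
    change (c ^ i * c ^ i) * z⁻¹ = 1
    change c ^ i * c ^ i = z at hu2
    rw [hu2, mul_inv_cancel]
  have h3 : c ^ i = c ^ 2 ^ n * c ^ (i - 2 ^ n) := by
    rw [← zpow_natCast c (2 ^ n), ← zpow_add]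
    congr 1
    push_cast
    ring
  rcases h.zpow_sq h1 with h2 | h2
  · left
    change c ^ i = _
    rw [h3, h2, mul_one]
  · right
    change c ^ i = _
    rw [h3, h2]

/-- `T` maps `w` to `w` or `w z` -/
theorem conj_w (p : Co Om K L T Q Q' x y x' y' n) (h : One Om) {a : G} (ha : a ∈ T) :
    a * x ^ 2 ^ n * a⁻¹ = x ^ 2 ^ n ∨ a * x ^ 2 ^ n * a⁻¹ = x ^ 2 ^ n * zz K := by
  obtain ⟨k, hk⟩ := p.exp ha
  apply p.gq.eq_w_of_sq
  · refine ⟨k * (2 ^ n : ℕ), ?_⟩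
    have := conj_zpow_pow hk (2 ^ n : ℕ)
    rw [zpow_natCast] at this
    exact this.symm
  · calc a * x ^ 2 ^ n * a⁻¹ * (a * x ^ 2 ^ n * a⁻¹) = a * (x ^ 2 ^ n * x ^ 2 ^ n) * a⁻¹ := by group
      _ = a * zz K * a⁻¹ := by rw [p.gq.w_sq]
      _ = zz K := by rw [p.pair.tz h ha, mul_inv_cancel_right]

/-- action of `a ∈ T` on `y` -/
theorem conj_y (p : Co Om K L T Q Q' x y x' y' n) {a : G} (ha : a ∈ T) :
    ∃ j : ℤ, a * y * a⁻¹ = y * x ^ j := by
  apply p.gq.exists_act (p.pair.hTQ ha)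
  have := p.inv a⁻¹ (T.inv_mem ha)
  simpa using this

/-- the centraliser criterion -/
theorem cent_Q (p : Co Om K L T Q Q' x y x' y' n) {a : G} (hx : a * x = x * a) (hy : a * y = y * a) :
    ∀ u ∈ Q, a * u = u * a := by
  intro u hu
  have h1 : Q ≤ centralizer {a} := by
    apply p.gq.le_of_mem (q := y)
    · exact mem_centralizer_singleton_iff.2 hx.symm
    · exact p.gq.v_mem
    · exact p.gq.v_not_mem
    · exact mem_centralizer_singleton_iff.2 hy.symm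
  exact (mem_centralizer_singleton_iff.1 (h1 hu)).symm

/-- an element of `T` centralising `x` with square centralising `y` maps `y` to `y` or to `y z` -/
theorem conj_y_of_sq (p : Co Om K L T Q Q' x y x' y' n) {a : G} (ha : a ∈ T)
    (hx : a * x = x * a) (hy : (a * a) * y = y * (a * a)) :
    a * y * a⁻¹ = y ∨ a * y * a⁻¹ = y * zz K := by
  obtain ⟨j, hj⟩ := p.conj_y ha
  have h1 : a * x ^ j * a⁻¹ = x ^ j := by
    rw [((show Commute a x from hx).zpow_right j).eq, mul_inv_cancel_right]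
  have h2 : y = y * x ^ (2 * j) := by
    calc y = (a * a) * y * (a * a)⁻¹ := by rw [hy, mul_inv_cancel_right]
      _ = a * (a * y * a⁻¹) * a⁻¹ := by group
      _ = a * (y * x ^ j) * a⁻¹ := by rw [hj]
      _ = (a * y * a⁻¹) * (a * x ^ j * a⁻¹) := by group
      _ = y * x ^ (2 * j) := by rw [hj, h1, mul_assoc, ← zpow_add, two_mul]
  have h3 : x ^ (2 * j) = 1 := by
    have := h2.symm
    simpa using this
  rcases p.gq.zpow_sq h3 with h4 | h4
  · left; rw [hj, h4, mul_one]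
  · right; rw [hj, h4]

/-- type `W`: `t` maps `y` to `y z` -/
theorem t_y (p : Co Om K L T Q Q' x y x' y' n) (h : One Om) (hW : zz L * x = x * zz L) :
    zz L * y * (zz L)⁻¹ = y * zz K := by
  have h2 : zz L * zz L * y = y * (zz L * zz L) := by rw [h.hyp.zz_mul p.pair.hL, one_mul, mul_one]
  rcases p.conj_y_of_sq (p.pair.zL_mem h) hW h2 with h3 | h3
  · exfalso
    apply p.pair.not_cent h
    apply p.cent_Q hW
    rwa [mul_inv_eq_iff_eq_mul] at h3
  · exact h3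

/-- type `SD`: `t` inverts `w` -/
theorem t_w (p : Co Om K L T Q Q' x y x' y' n) (h : One Om)
    (hS : ∀ u ∈ Q, u * zz L = zz L * u → u = 1 ∨ u = zz K) :
    zz L * x ^ 2 ^ n * (zz L)⁻¹ = x ^ 2 ^ n * zz K := by
  rcases p.conj_w h (p.pair.zL_mem h) with h1 | h1
  · exfalso
    rw [mul_inv_eq_iff_eq_mul] at h1
    have h2 := p.gq.orderOf_w
    rcases hS _ (Q.pow_mem p.gq.c_mem _) h1.symm with h3 | h3
    · rw [h3, orderOf_one] at h2; omega
    · rw [h3, h.hyp.orderOf_zz p.pair.hK] at h2; omega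
  · exact h1

end Co

theorem _root_.Cfsg.Agent.Cit.OneBasic.conj_swap {y z t : G} (hzy : z * y = y * z) (hz : z * z = 1) (h : t * y * t⁻¹ = y * z) :
    y * t * y⁻¹ = z * t := by
  rw [mul_inv_eq_iff_eq_mul] at h
  have h1 : z * (y * t) = t * y := by
    calc z * (y * t) = (z * y) * t := by group
      _ = y * z * t := by rw [hzy]
      _ = t * y := h.symm
  calc y * t * y⁻¹ = (z * z) * (y * t) * y⁻¹ := by rw [hz, one_mul]
    _ = z * (z * (y * t)) * y⁻¹ := by group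
    _ = z * (t * y) * y⁻¹ := by rw [h1]
    _ = z * t := by group

/-- **fusion of the four-group** `{1, z, t, zt}` by elements of `Q` and `Q'` -/
theorem exists_swap (p : OPair Om K L T Q Q') (h : One Om) : ∃ q ∈ Q, q * zz L * q⁻¹ = zz K * zz L := by
  obtain ⟨x, y, x', y', n, c⟩ := p.exists_co h
  have hz : ∀ q ∈ Q, zz K * q = q * zz K := fun q hq =>
    (h.hyp.comm_zz p.hK (le_normalizer (p.hQ.1 hq))).symm
  rcases c.dich h with h1 | h1
  · exact ⟨y, c.gq.v_mem, conj_swap (hz y c.gq.v_mem) (h.hyp.zz_mul p.hK) (c.t_y h h1.2)⟩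
  · exact ⟨_, Q.pow_mem c.gq.c_mem _, conj_swap (hz _ (Q.pow_mem c.gq.c_mem _)) (h.hyp.zz_mul p.hK)
      (c.t_w h h1.1)⟩

/-- an element conjugating `z` to `t`, commuting with everything that centralises `Q` and `Q'` -/
theorem exists_zt (p : OPair Om K L T Q Q') (h : One Om) :
    ∃ g ∈ Q ⊔ Q', g * zz K * g⁻¹ = zz L ∧ cj g K = L := by
  obtain ⟨q, hq, hqt⟩ := p.exists_swap h
  obtain ⟨q', hq', hqz⟩ := p.symm.exists_swap h
  have h1 : (q * q') * zz K * (q * q')⁻¹ = zz L := by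
    have hqK : q * zz K = zz K * q := h.hyp.comm_zz p.hK (le_normalizer (p.hQ.1 hq))
    calc (q * q') * zz K * (q * q')⁻¹ = q * (q' * zz K * q'⁻¹) * q⁻¹ := by group
      _ = q * (zz L * zz K) * q⁻¹ := by rw [hqz]
      _ = q * (zz K * zz L) * q⁻¹ := by rw [p.comm]
      _ = (q * zz K) * zz L * q⁻¹ := by group
      _ = zz K * (q * zz L * q⁻¹) := by rw [hqK]; group
      _ = zz K * zz K * zz L := by rw [hqt]; group
      _ = zz L := by rw [h.hyp.zz_mul p.hK, one_mul]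
  exact ⟨q * q', mul_mem (mem_sup_left hq) (mem_sup_right hq'), h1, h.cj_eq p.hK p.hL h1⟩

theorem isP_zpowers (p : OPair Om K L T Q Q') {a : G} (ha : a ∈ T) : IsPGroup 2 (zpowers a) :=
  p.tp.to_le (zpowers_le.2 ha)

/-- `b ∈ T` centralising `Q` and an element conjugating `K` to `L` centralises `Q'` -/
theorem cent_of_comm (p : OPair Om K L T Q Q') (h : One Om) {b g : G} (hb : b ∈ T)
    (hbQ : ∀ x ∈ Q, b * x = x * b) (hg : cj g K = L) (hbg : b * g = g * b) : ∀ x ∈ Q', b * x = x * b := by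
  have h1 : Syl (cj g Q) L := by rw [← hg]; exact p.hQ.cj g
  refine h.hyp.rigid p.hL h1 p.hQ' (p.tL hb) (p.isP_zpowers hb) ?_ (p.hTQ' hb)
  intro x hx
  rw [mem_cj] at hx
  have h2 := hbQ _ hx
  calc b * x = (b * g) * (g⁻¹ * x * g) * g⁻¹ := by group
    _ = g * (b * (g⁻¹ * x * g)) * g⁻¹ := by rw [hbg]; group
    _ = g * ((g⁻¹ * x * g) * b) * g⁻¹ := by rw [h2]
    _ = x * (g * b) * g⁻¹ := by group
    _ = x * b := by rw [← hbg]; group

/-- type `SD`: `C_T(Q) = ⟨z⟩ × C_T(Q Q')` -/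
theorem Co.cent_or_SD {x y x' y' : G} {n : ℕ} (c : Co Om K L T Q Q' x y x' y' n) (h : One Om)
    (hS : ∀ u ∈ Q, u * zz L = zz L * u → u = 1 ∨ u = zz K)
    (hS' : ∀ u ∈ Q', u * zz K = zz K * u → u = 1 ∨ u = zz L) {a : G} (ha : a ∈ T)
    (haQ : ∀ x ∈ Q, a * x = x * a) :
    (∀ x ∈ Q', a * x = x * a) ∨ (∀ x ∈ Q', (zz K * a) * x = x * (zz K * a)) := by
  have p := c.pair
  -- it is enough that `b` centralises `w'`
  have key : ∀ b ∈ T, (∀ x ∈ Q, b * x = x * b) → b * x' ^ 2 ^ n * b⁻¹ = x' ^ 2 ^ n →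
      ∀ x ∈ Q', b * x = x * b := by
    intro b hb hbQ hbw
    have e1 := conj_swap (h.hyp.comm_zz p.hK (le_normalizer (p.hQ.1 (Q.pow_mem c.gq.c_mem _)))).symm
      (h.hyp.zz_mul p.hK) (c.t_w h hS)
    have e2 := conj_swap (h.hyp.comm_zz p.hL (le_normalizer (p.hQ'.1 (Q'.pow_mem c.gq'.c_mem _)))).symm
      (h.hyp.zz_mul p.hL) (c.symm.t_w h hS')
    set w := x ^ 2 ^ n with hw
    set w' := x' ^ 2 ^ n with hw'
    have hwQ : w ∈ Q := Q.pow_mem c.gq.c_mem _
    have h1 : (w * w') * zz K * (w * w')⁻¹ = zz L := by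
      have hqK : w * zz K = zz K * w := h.hyp.comm_zz p.hK (le_normalizer (p.hQ.1 hwQ))
      calc (w * w') * zz K * (w * w')⁻¹ = w * (w' * zz K * w'⁻¹) * w⁻¹ := by group
        _ = w * (zz L * zz K) * w⁻¹ := by rw [e2]
        _ = w * (zz K * zz L) * w⁻¹ := by rw [p.comm]
        _ = (w * zz K) * zz L * w⁻¹ := by group
        _ = zz K * (w * zz L * w⁻¹) := by rw [hqK]; group
        _ = zz K * zz K * zz L := by rw [e1]; group
        _ = zz L := by rw [h.hyp.zz_mul p.hK, one_mul]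
    refine p.cent_of_comm h hb hbQ (h.cj_eq p.hK p.hL h1) ?_
    rw [mul_inv_eq_iff_eq_mul] at hbw
    calc b * (w * w') = (b * w) * w' := by group
      _ = w * (b * w') := by rw [hbQ w hwQ]; group
      _ = w * w' * b := by rw [hbw]; group
  rcases c.symm.conj_w h ha with h1 | h1
  · exact Or.inl (key a ha haQ h1)
  · right
    have hzQ : ∀ x ∈ Q, zz K * x = x * zz K := fun x hx =>
      (h.hyp.comm_zz p.hK (le_normalizer (p.hQ.1 hx))).symm
    refine key (zz K * a) (T.mul_mem (p.zK_mem h) ha) ?_ ?_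
    · intro x hx
      calc zz K * a * x = zz K * (a * x) := by group
        _ = (zz K * x) * a := by rw [haQ x hx]; group
        _ = x * (zz K * a) := by rw [hzQ x hx]; group
    · have h2 := c.symm.t_w h hS'
      calc zz K * a * x' ^ 2 ^ n * (zz K * a)⁻¹ = zz K * (a * x' ^ 2 ^ n * a⁻¹) * (zz K)⁻¹ := by group
        _ = zz K * x' ^ 2 ^ n * (zz K)⁻¹ * (zz K * zz L * (zz K)⁻¹) := by rw [h1]; group
        _ = x' ^ 2 ^ n * zz L * zz L := by rw [h2, p.comm]; group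
        _ = x' ^ 2 ^ n := by rw [mul_assoc, h.hyp.zz_mul p.hL, mul_one]

/-- type `W`: an element of `C_T(Q)` with square `1` -/
theorem Co.cent_or_W {x y x' y' : G} {n : ℕ} (c : Co Om K L T Q Q' x y x' y' n) (h : One Om)
    (hW' : zz K * x' = x' * zz K) {a : G} (ha : a ∈ T)
    (haQ : ∀ x ∈ Q, a * x = x * a) (ha2 : a * a = 1) :
    (∀ x ∈ Q', a * x = x * a) ∨ (∀ x ∈ Q', (zz K * a) * x = x * (zz K * a)) := by
  have p := c.pair
  have hx'T : x' ∈ T := p.symm.mem_T h c.gq'.c_mem hW'.symm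
  have hax : a * x' = x' * a := p.cent_R' h ha haQ c.gq'.c_mem hx'T
  rcases c.symm.conj_y_of_sq ha hax (by rw [ha2, one_mul, mul_one]) with h1 | h1
  · left
    apply c.symm.cent_Q hax
    rwa [mul_inv_eq_iff_eq_mul] at h1
  · right
    apply c.symm.cent_Q
    · calc zz K * a * x' = zz K * (a * x') := by group
        _ = (zz K * x') * a := by rw [hax]; group
        _ = x' * (zz K * a) := by rw [hW']; group
    · have h2 := c.symm.t_y h hW'
      have h3 : zz K * a * y' * (zz K * a)⁻¹ = y' := by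
        calc zz K * a * y' * (zz K * a)⁻¹ = zz K * (a * y' * a⁻¹) * (zz K)⁻¹ := by group
          _ = zz K * y' * (zz K)⁻¹ * (zz K * zz L * (zz K)⁻¹) := by rw [h1]; group
          _ = y' * zz L * zz L := by rw [h2, p.comm]; group
          _ = y' := by rw [mul_assoc, h.hyp.zz_mul p.hL, mul_one]
      rwa [mul_inv_eq_iff_eq_mul] at h3

/-- **involutions of `C_T(Q)`** -/
theorem cent_or (p : OPair Om K L T Q Q') (h : One Om) {a : G} (ha : a ∈ T)
    (haQ : ∀ x ∈ Q, a * x = x * a) (ha2 : a * a = 1) :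
    (∀ x ∈ Q', a * x = x * a) ∨ (∀ x ∈ Q', (zz K * a) * x = x * (zz K * a)) := by
  obtain ⟨x, y, x', y', n, c⟩ := p.exists_co h
  rcases c.dich h with h1 | h1
  · exact c.cent_or_W h h1.1 ha haQ ha2
  · exact c.cent_or_SD h h1.1 h1.2 ha haQ

end OPair

/-! ### `(STAR)` -/

namespace One

variable [Finite G] {Om : Set (Subgroup G)}

/-- **(STAR)** -/
theorem star (h : One Om) {K Q : Subgroup G} (hK : K ∈ Om) (hQ : Syl Q K) {f g : G}
    (hf : ∀ x ∈ Q, f * x = x * f) (hf2 : f * f = 1) (hfz : f ≠ zz K)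
    (hg : (g * f * g⁻¹) * zz K = zz K * (g * f * g⁻¹)) :
    (∃ m, cj m K = K ∧ m * f * m⁻¹ = g * f * g⁻¹) ∨
    ∃ L ∈ Om, L ≠ K ∧ zz K * zz L = zz L * zz K ∧ ∃ f1, f1 * f1 = 1 ∧ f1 ≠ 1 ∧
      g * f * g⁻¹ = zz L * f1 ∧ (∃ Q1, Syl Q1 K ∧ ∀ x ∈ Q1, f1 * x = x * f1) ∧
      (∃ Q2, Syl Q2 L ∧ ∀ x ∈ Q2, f1 * x = x * f1) ∧ ∃ m, cj m K = K ∧ m * f * m⁻¹ = zz K * f1 := by
  obtain ⟨t, ht⟩ : ∃ t, t = g * f * g⁻¹ := ⟨_, rfl⟩
  rw [← ht] at hg ⊢
  have ht2 : t * t = 1 := by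
    rw [ht]
    calc g * f * g⁻¹ * (g * f * g⁻¹) = g * (f * f) * g⁻¹ := by group
      _ = 1 := by rw [hf2]; group
  have hcent : ∀ x ∈ cj g Q, t * x = x * t := by
    intro x hx
    rw [mem_cj] at hx
    have h1 := hf _ hx
    rw [ht]
    calc g * f * g⁻¹ * x = g * (f * (g⁻¹ * x * g)) * g⁻¹ := by group
      _ = g * ((g⁻¹ * x * g) * f) * g⁻¹ := by rw [h1]
      _ = _ := by group
  have h1 : cj g Q ≤ centralizer {t} := fun x hx => mem_centralizer_singleton_iff.2 (hcent x hx).symm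
  have hz2 : IsPGroup 2 (zpowers (zz K)) := by
    refine IsPGroup.of_card (n := 1) ?_
    rw [Nat.card_zpowers, h.hyp.orderOf_zz hK, pow_one]
  have h2 : zpowers (zz K) ≤ centralizer {t} :=
    zpowers_le.2 (mem_centralizer_singleton_iff.2 hg.symm)
  obtain ⟨U, hU, hzU⟩ := exists_syl_ge hz2 h2
  obtain ⟨V, hV, hQV⟩ := exists_syl_ge (hQ.cj g).2.1 h1
  obtain ⟨c, hc, hcVU⟩ := hV.exists_conj hU
  have hct : c * t = t * c := mem_centralizer_singleton_iff.1 hc
  obtain ⟨L, hLdef⟩ : ∃ L, L = cj (c * g) K := ⟨_, rfl⟩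
  have hL : L ∈ Om := by rw [hLdef]; exact h.hyp.conj K hK _
  have hQL : Syl (cj (c * g) Q) L := by rw [hLdef]; exact hQ.cj _
  have hQLU : cj (c * g) Q ≤ U := by rw [cj_mul, ← hcVU]; exact cj_mono c hQV
  have hUL : U ≤ normalizer (L : Set G) :=
    h.le_normalizer_self hU.2.1 (mem_OmS_of_le hL hQL hQLU)
  have hzt : zz K * zz L = zz L * zz K := h.hyp.comm_zz hL (hUL (hzU (mem_zpowers _)))
  have hcgt : (c * g) * f * (c * g)⁻¹ = t := by
    calc (c * g) * f * (c * g)⁻¹ = c * (g * f * g⁻¹) * c⁻¹ := by group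
      _ = (c * t) * c⁻¹ := by rw [← ht]
      _ = t := by rw [hct]; group
  by_cases hLK : L = K
  · left
    refine ⟨c * g, ?_, hcgt⟩
    rw [← hLdef, hLK]
  · have htK : t ∈ normalizer (K : Set G) := h.mem_normalizer hK hg
    have htQL : ∀ x ∈ cj (c * g) Q, t * x = x * t := by
      intro x hx
      exact (mem_centralizer_singleton_iff.1 (hU.1 (hQLU hx))).symm
    have hzLmem : zz L ∈ cj (c * g) Q := by
      obtain ⟨c, v, n, hc⟩ := h.hyp.exists_gq hL hQL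
      exact hc.z_mem
    have htL : t ∈ normalizer (L : Set G) := h.mem_normalizer hL (htQL _ hzLmem)
    have htp : IsPGroup 2 (zpowers t) := by
      intro x
      obtain ⟨k, hk⟩ := x.2
      refine ⟨1, Subtype.ext ?_⟩
      have hk' : t ^ k = (x : G) := hk
      rw [pow_one, pow_two]
      change (x : G) * x = 1
      rw [← hk', ← (Commute.refl t).mul_zpow, ht2, one_zpow]
    obtain ⟨T, Q1, Q2, htT, p⟩ := h.exists_pair hK hL (Ne.symm hLK) hzt htp (zpowers_le.2 htK)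
      (zpowers_le.2 htL)
    have htT' : t ∈ T := htT (mem_zpowers t)
    have htQ2 : ∀ x ∈ Q2, t * x = x * t :=
      h.hyp.rigid hL hQL p.hQ' htL htp htQL (p.hTQ' htT')
    rcases p.symm.cent_or h htT' htQ2 ht2 with h3 | h3
    · left
      obtain ⟨k, hk, hkQ⟩ := hQ.exists_conj p.hQ
      have h4 : ∀ q ∈ Q, ((k⁻¹ * g) * f * (k⁻¹ * g)⁻¹) * q = q * ((k⁻¹ * g) * f * (k⁻¹ * g)⁻¹) := by
        intro q hq
        have h5 : k * q * k⁻¹ ∈ Q1 := by rw [← hkQ]; exact conj_mem_cj hq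
        have h6 := h3 _ h5
        have h7 : (k⁻¹ * g) * f * (k⁻¹ * g)⁻¹ = k⁻¹ * t * k := by rw [ht]; group
        rw [h7]
        calc k⁻¹ * t * k * q = k⁻¹ * (t * (k * q * k⁻¹)) * k := by group
          _ = k⁻¹ * ((k * q * k⁻¹) * t) * k := by rw [h6]
          _ = _ := by group
      obtain ⟨m, hm1, -, hm3⟩ := h.fusion_elem hK hQ hf h4
      refine ⟨k * m, ?_, ?_⟩
      · rw [cj_mul, hm1, mem_normalizer_iff_cj.1 (le_normalizer hk)]
      · calc k * m * f * (k * m)⁻¹ = k * (m * f * m⁻¹) * k⁻¹ := by group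
          _ = k * ((k⁻¹ * g) * f * (k⁻¹ * g)⁻¹) * k⁻¹ := by rw [hm3]
          _ = t := by rw [ht]; group
    · right
      have htt : t * zz L = zz L * t := htQL _ hzLmem
      obtain ⟨f1, hf1⟩ : ∃ f1, f1 = zz L * t := ⟨_, rfl⟩
      rw [← hf1] at h3
      have e1 : zz L * f1 = t := by rw [hf1, ← mul_assoc, h.hyp.zz_mul hL, one_mul]
      have hf1Q2 : ∀ x ∈ Q2, f1 * x = x * f1 := by
        intro x hx
        have h5 : zz L * x = x * zz L := (h.hyp.comm_zz hL (le_normalizer (p.hQ'.1 hx))).symm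
        rw [hf1]
        calc zz L * t * x = zz L * (t * x) := by group
          _ = (zz L * x) * t := by rw [htQ2 x hx]; group
          _ = x * (zz L * t) := by rw [h5]; group
      refine ⟨L, hL, hLK, hzt, f1, ?_, ?_, e1.symm, ⟨Q1, p.hQ, h3⟩, ⟨Q2, p.hQ', hf1Q2⟩, ?_⟩
      · rw [hf1]
        calc zz L * t * (zz L * t) = zz L * (t * zz L) * t := by group
          _ = (zz L * zz L) * (t * t) := by rw [htt]; group
          _ = 1 := by rw [h.hyp.zz_mul hL, ht2, one_mul]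
      · intro hf11
        rw [hf11, mul_one] at e1
        apply hfz
        have h6 : zz L = (c * g) * zz K * (c * g)⁻¹ := by
          have := h.hyp.zz_cj hK (c * g)
          rw [← hLdef] at this
          exact this
        rw [h6, ← hcgt] at e1
        have h7 : (c * g) * zz K = (c * g) * f := mul_right_cancel e1
        exact (mul_left_cancel h7).symm
      · obtain ⟨g', hg', hg't, -⟩ := p.symm.exists_zt h
        have h7 : g' * f1 = f1 * g' := by
          have h8 : Q2 ⊔ Q1 ≤ centralizer {f1} :=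
            sup_le (fun x hx => mem_centralizer_singleton_iff.2 (hf1Q2 x hx).symm)
              (fun x hx => mem_centralizer_singleton_iff.2 (h3 x hx).symm)
          exact mem_centralizer_singleton_iff.1 (h8 hg')
        refine ⟨g' * (c * g), ?_, ?_⟩
        · rw [cj_mul, ← hLdef]
          exact h.cj_eq hL hK hg't
        · calc g' * (c * g) * f * (g' * (c * g))⁻¹ = g' * ((c * g) * f * (c * g)⁻¹) * g'⁻¹ := by group
            _ = g' * (zz L * f1) * g'⁻¹ := by rw [hcgt, e1]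
            _ = (g' * zz L * g'⁻¹) * (g' * f1) * g'⁻¹ := by group
            _ = zz K * f1 := by rw [hg't, h7]; group

end One

end Cfsg.Agent.Cit
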