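import Cfsg.Agent.Cit.OneBasic
import Cfsg.Agent.Cit.OneQuat
import Cfsg.Agent.Cit.OnePair

/-!
# Classical involutions: conjugacy of the elements of order four

* `Hyp.conj_four`: if `K ∈ Om` is generated by its elements of odd order (`TyTwo K`; equivalently `K` has no
  subgroup of index two) then all elements of order `4` of `K` are conjugate in `K` (Thompson transfer).
* `Hyp.conj_four_rel`: then two elements of order `4` of a Sylow 2-subgroup `Q` of `K` are conjugate in `C_K(A)`,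
  for every 2-subgroup `A` of `N(K)` centralising `Q`.
-/

set_option autoImplicit false
set_option linter.style.haveILetI false
set_option linter.unusedSectionVars false
set_option linter.unusedVariables false

namespace Cfsg.Agent.Cit

open Subgroup Cfsg OneBasic

variable {G : Type*} [Group G]

namespace OneK1

/-- a variant of Thompson's transfer lemma -/
theorem exists_hom {K : Type*} [Group K] [Finite K] (M : Subgroup K) {m : ℕ} (hM : M.index = 2 * m)
    (hm : Odd m) (u : K) (hu : u * u ∈ M) (huc : ∀ g : K, g * (u * u) = (u * u) * g)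
    (h : ∀ g : K, g⁻¹ * u * g ∉ M) : ∃ f : K →* ℤˣ, f u = -1 := by
  classical
  have : Fintype (K ⧸ M) := Fintype.ofFinite _
  refine ⟨(Equiv.Perm.sign).comp (MulAction.toPermHom K (K ⧸ M)), ?_⟩
  have h2 : (MulAction.toPermHom K (K ⧸ M) u) ^ 2 = 1 := by
    rw [← map_pow]
    ext x
    refine QuotientGroup.induction_on x ?_
    intro g
    change ((u ^ 2 * g : K) : K ⧸ M) = (g : K ⧸ M)
    rw [QuotientGroup.eq, pow_two, ← huc g]
    have h3 : (g * (u * u))⁻¹ * g = (u * u)⁻¹ := by group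
    rw [h3]
    exact M.inv_mem hu
  change Equiv.Perm.sign (MulAction.toPermHom K (K ⧸ M) u) = -1
  rw [Equiv.Perm.sign_of_pow_two_eq_one h2]
  have hfix : IsEmpty (Function.fixedPoints (MulAction.toPermHom K (K ⧸ M) u)) := by
    constructor
    rintro ⟨x, hx⟩
    revert hx
    refine QuotientGroup.induction_on x ?_
    intro g hg
    have h3 : ((u * g : K) : K ⧸ M) = (g : K ⧸ M) := hg
    have h4 := M.inv_mem (QuotientGroup.eq.1 h3)
    apply h g
    have h5 : ((u * g)⁻¹ * g)⁻¹ = g⁻¹ * u * g := by group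
    rwa [h5] at h4
  have h0 : Fintype.card (Function.fixedPoints (MulAction.toPermHom K (K ⧸ M) u)) = 0 :=
    Fintype.card_eq_zero_iff.2 hfix
  have h1 : Fintype.card (K ⧸ M) = 2 * m := by
    rw [← Nat.card_eq_fintype_card, ← Subgroup.index_eq_card, hM]
  rw [h0, h1, Nat.sub_zero, Nat.mul_div_cancel_left m (by norm_num), hm.neg_one_pow]

/-- homomorphisms to `ℤˣ` are trivial on elements of odd order -/
theorem hom_odd {K : Type*} [Group K] (f : K →* ℤˣ) {x : K} (hx : Odd (orderOf x)) : f x = 1 := by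
  have h1 : f x ^ orderOf x = 1 := by rw [← map_pow, pow_orderOf_eq_one, map_one]
  obtain ⟨m, hm⟩ := hx
  rw [hm, pow_succ, pow_mul, pow_two, Int.units_mul_self, one_pow, one_mul] at h1
  exact h1

/-- a homomorphism to `ℤˣ` of a group generated by elements of odd order is trivial -/
theorem hom_eq_one {K : Subgroup G} (hT : K ≤ closure {c | c ∈ K ∧ Odd (orderOf c)}) (f : K →* ℤˣ) (x : K) :
    f x = 1 := by
  have h1 : closure {c | c ∈ K ∧ Odd (orderOf c)} ≤ f.ker.map K.subtype := by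
    rw [closure_le]
    rintro c ⟨hc, hco⟩
    refine ⟨⟨c, hc⟩, ?_, rfl⟩
    rw [SetLike.mem_coe, MonoidHom.mem_ker]
    apply hom_odd
    rwa [← orderOf_coe]
  obtain ⟨y, hy, hyx⟩ := h1 (hT x.2)
  have : y = x := Subtype.ext hyx
  rw [← this]
  exact hy

end OneK1

open OneK1

namespace GQ

variable {Q : Subgroup G} {c v z : G} {n : ℕ}

theorem relIndex_zpowers [Finite G] (h : GQ Q c v z n) : (zpowers c).relIndex Q = 2 := by
  have h1 := h.card
  have h2 := relIndex_mul_relIndex ⊥ (zpowers c) Q bot_le h.zpowers_le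
  rw [relIndex_bot_left, relIndex_bot_left, h1, Nat.card_zpowers, h.ord] at h2
  have h3 : 2 ^ (n + 2) * (zpowers c).relIndex Q = 2 ^ (n + 2) * 2 := by rw [h2]; ring
  exact Nat.eq_of_mul_eq_mul_left (by positivity) h3

end GQ

namespace Hyp

variable [Finite G] {Om : Set (Subgroup G)} {K Q : Subgroup G}

theorem sq_of_orderOf (h : Hyp Om) (hK : K ∈ Om) {x : G} (hx : x ∈ K) (hx4 : orderOf x = 4) :
    x * x = zz K := by
  apply h.eq_zz hK (K.mul_mem hx hx)
  · have h1 : x ^ 4 = 1 := by rw [← hx4, pow_orderOf_eq_one]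
    have h2 : x ^ 4 = x * x * (x * x) := by simp [pow_succ, mul_assoc]
    rw [← h2, h1]
  · intro h1
    have h2 := orderOf_dvd_of_pow_eq_one (x := x) (n := 2) (by rw [pow_two]; exact h1)
    rw [hx4] at h2
    omega

theorem orderOf_of_sq (h : Hyp Om) (hK : K ∈ Om) {x : G} (hx : x * x = zz K) : orderOf x = 4 :=
  GQ.orderOf_of_sq hx (h.zz_mul hK) (h.zz_ne hK)

/-- every element of square `z` is conjugate to one in the cyclic maximal subgroup of a given Sylow subgroup -/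
theorem exists_conj_zpowers (h : Hyp Om) (hK : K ∈ Om) (hT : K ≤ closure {c | c ∈ K ∧ Odd (orderOf c)})
    (hQ : Syl Q K) {c v : G} {n : ℕ} (hc : GQ Q c v (zz K) n) {x : G} (hx : x ∈ K) (hx2 : x * x = zz K) :
    ∃ k ∈ K, k⁻¹ * x * k ∈ zpowers c := by
  by_contra hcon
  push Not at hcon
  have hle : zpowers c ≤ K := hc.zpowers_le.trans hQ.1
  set M : Subgroup K := (zpowers c).subgroupOf K with hM
  have hMi : ∃ m, M.index = 2 * m ∧ Odd m := by
    refine ⟨Q.relIndex K, ?_, ?_⟩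
    · have h1 := relIndex_mul_relIndex (zpowers c) Q K hc.zpowers_le hQ.1
      rw [hc.relIndex_zpowers] at h1
      exact h1.symm
    · rw [← Nat.not_even_iff_odd, even_iff_two_dvd]
      exact hQ.2.2
  obtain ⟨m, hm, hmo⟩ := hMi
  have hzc : zz K ∈ zpowers c := by
    rw [← hc.z_eq]
    exact pow_mem (mem_zpowers c) _
  obtain ⟨f, hf⟩ := exists_hom M hm hmo (⟨x, hx⟩ : K) (by
      rw [hM, mem_subgroupOf]
      change x * x ∈ _
      rw [hx2]
      exact hzc) (by
      intro g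
      apply Subtype.ext
      change (g : G) * (x * x) = (x * x) * g
      rw [hx2]
      exact h.comm_zz hK (le_normalizer g.2)) (by
      intro g hg
      exact hcon g g.2 hg)
  rw [hom_eq_one hT f] at hf
  exact absurd hf (by decide)

/-- **elements of order `4` of `K` are conjugate** -/
theorem conj_four' (h : Hyp Om) (hK : K ∈ Om) (hT : K ≤ closure {c | c ∈ K ∧ Odd (orderOf c)}) {x y : G}
    (hx : x ∈ K) (hy : y ∈ K) (hx2 : x * x = zz K) (hy2 : y * y = zz K) : ∃ k ∈ K, k * x * k⁻¹ = y := by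
  obtain ⟨Q, hQ⟩ := exists_syl K
  obtain ⟨c, v, n, hc⟩ := h.exists_gq hK hQ
  -- everything is conjugate to `w`
  have key : ∀ x ∈ K, x * x = zz K → ∃ k ∈ K, k * x * k⁻¹ = c ^ 2 ^ n := by
    intro x hx hx2
    obtain ⟨k, hk, hkx⟩ := h.exists_conj_zpowers hK hT hQ hc hx hx2
    have h1 : (k⁻¹ * x * k) * (k⁻¹ * x * k) = zz K := by
      calc (k⁻¹ * x * k) * (k⁻¹ * x * k) = k⁻¹ * (x * x) * k := by group
        _ = k⁻¹ * zz K * k := by rw [hx2]
        _ = zz K * k⁻¹ * k := by rw [h.comm_zz hK (inv_mem (le_normalizer hk))]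
        _ = zz K := by group
    rcases hc.eq_w_of_sq hkx h1 with h2 | h2
    · exact ⟨k⁻¹, K.inv_mem hk, by rw [← h2]; group⟩
    · refine ⟨v * k⁻¹, K.mul_mem (hQ.1 hc.v_mem) (K.inv_mem hk), ?_⟩
      have h3 : v * k⁻¹ * x * (v * k⁻¹)⁻¹ = v * (k⁻¹ * x * k) * v⁻¹ := by group
      rw [h3, h2]
      have h4 : v * (c ^ 2 ^ n * zz K) * v⁻¹ = (v * c * v⁻¹) ^ 2 ^ n * (v * zz K * v⁻¹) := by
        rw [conj_pow]; group
      have h5 : v * zz K * v⁻¹ = zz K := by
        rw [h.comm_zz hK (le_normalizer (hQ.1 hc.v_mem)), mul_inv_cancel_right]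
      rw [h4, h5, hc.conj, inv_pow]
      have h6 := hc.w_sq
      rw [inv_mul_eq_iff_eq_mul]
      exact h6.symm
  obtain ⟨k, hk, hkx⟩ := key x hx hx2
  obtain ⟨l, hl, hly⟩ := key y hy hy2
  refine ⟨l⁻¹ * k, K.mul_mem (K.inv_mem hl) hk, ?_⟩
  calc l⁻¹ * k * x * (l⁻¹ * k)⁻¹ = l⁻¹ * (k * x * k⁻¹) * l := by group
    _ = l⁻¹ * (l * y * l⁻¹) * l := by rw [hkx, hly]
    _ = y := by group

theorem conj_four (h : Hyp Om) (hK : K ∈ Om) (hT : K ≤ closure {c | c ∈ K ∧ Odd (orderOf c)}) {x y : G}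
    (hx : x ∈ K) (hy : y ∈ K) (hx4 : orderOf x = 4) (hy4 : orderOf y = 4) : ∃ k ∈ K, k * x * k⁻¹ = y :=
  h.conj_four' hK hT hx hy (h.sq_of_orderOf hK hx hx4) (h.sq_of_orderOf hK hy hy4)

/-! ### The relative version -/

/-- **elements of order `4` of `Q` are conjugate under `C_K(A)`**, for `A` centralising `Q` -/
theorem conj_four_rel (h : Hyp Om) (hK : K ∈ Om)
    (hk1 : ∀ x ∈ K, ∀ y ∈ K, orderOf x = 4 → orderOf y = 4 → ∃ k ∈ K, k * x * k⁻¹ = y) (hQ : Syl Q K)
    {A : Subgroup G} (hA : IsPGroup 2 A) (hAK : A ≤ normalizer (K : Set G))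
    (hAQ : ∀ a ∈ A, ∀ q ∈ Q, a * q = q * a) {x y : G} (hx : x ∈ Q) (hy : y ∈ Q) (hx4 : orderOf x = 4)
    (hy4 : orderOf y = 4) : ∃ k ∈ K, (∀ a ∈ A, k * a = a * k) ∧ k * x * k⁻¹ = y := by
  haveI : Fact (Nat.Prime 2) := ⟨Nat.prime_two⟩
  obtain ⟨k, hk, hkx⟩ := hk1 x (hQ.1 hx) y (hQ.1 hy) hx4 hy4
  -- `C = C_{AK}(y)` contains `A` and `k A k⁻¹`
  obtain ⟨C, hC⟩ : ∃ C : Subgroup G, C = (A ⊔ K) ⊓ centralizer {y} := ⟨_, rfl⟩
  have hAC : A ≤ C := by
    rw [hC]
    exact le_inf le_sup_left fun a ha => mem_centralizer_singleton_iff.2 (hAQ a ha y hy)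
  have hkAC : cj k A ≤ C := by
    intro a ha
    rw [mem_cj] at ha
    rw [hC]
    refine mem_inf.2 ⟨?_, ?_⟩
    · have h1 : a = k * (k⁻¹ * a * k) * k⁻¹ := by group
      rw [h1]
      exact mul_mem (mul_mem (mem_sup_right hk) (mem_sup_left ha)) (inv_mem (mem_sup_right hk))
    · rw [mem_centralizer_singleton_iff, ← hkx]
      have h2 := hAQ _ ha x hx
      calc a * (k * x * k⁻¹) = k * ((k⁻¹ * a * k) * x) * k⁻¹ := by group
        _ = k * (x * (k⁻¹ * a * k)) * k⁻¹ := by rw [h2]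
        _ = k * x * k⁻¹ * a := by group
  obtain ⟨P, hP, hAP⟩ := exists_syl_ge hA hAC
  obtain ⟨P', hP', hAP'⟩ := exists_syl_ge (isPGroup_cj (g := k) hA) hkAC
  obtain ⟨c, hcC, hcP⟩ := hP'.exists_conj hP
  -- write `c = a l` with `a ∈ A`, `l ∈ K`
  have hcC' : c ∈ A ⊔ K ∧ c * y = y * c := by
    rw [hC] at hcC
    exact ⟨hcC.1, mem_centralizer_singleton_iff.1 hcC.2⟩
  obtain ⟨a, ha, l, hl, hal⟩ := exists_mul_of_mem_sup hAK hcC'.1
  have hly : l * y = y * l := by
    have h1 : a * y = y * a := hAQ a ha y hy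
    have h2 : l = a⁻¹ * c := by rw [hal]; group
    rw [h2]
    have h3 : a⁻¹ * y = y * a⁻¹ := by
      calc a⁻¹ * y = a⁻¹ * (y * a) * a⁻¹ := by group
        _ = a⁻¹ * (a * y) * a⁻¹ := by rw [h1]
        _ = y * a⁻¹ := by group
    calc a⁻¹ * c * y = a⁻¹ * (c * y) := by group
      _ = (a⁻¹ * y) * c := by rw [hcC'.2]; group
      _ = y * (a⁻¹ * c) := by rw [h3]; group
  have hlP : cj l (cj k A) ≤ P := by
    have h1 : cj c (cj k A) ≤ P := by rw [← hcP]; exact cj_mono c hAP'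
    rw [hal, cj_mul] at h1
    have h2 : cj a P = P := mem_normalizer_iff_cj.1 (le_normalizer (hAP ha))
    rw [← h2, cj_le_cj] at h1
    exact h1
  -- `m = l k`
  obtain ⟨m, hm⟩ : ∃ m, m = l * k := ⟨_, rfl⟩
  have hmK : m ∈ K := by rw [hm]; exact K.mul_mem hl hk
  have hmx : m * x * m⁻¹ = y := by
    calc m * x * m⁻¹ = l * (k * x * k⁻¹) * l⁻¹ := by rw [hm]; group
      _ = (l * y) * l⁻¹ := by rw [hkx]
      _ = y := by rw [hly, mul_inv_cancel_right]
  rw [← cj_mul, ← hm] at hlP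
  refine ⟨m, hmK, ?_, hmx⟩
  -- a Sylow subgroup `Q1` of `K` normalised by `P`
  have hPK : P ≤ normalizer (K : Set G) := by
    refine hP.1.trans ?_
    rw [hC]
    exact inf_le_left.trans (sup_le hAK le_normalizer)
  obtain ⟨R, hR, hPR, -, hRK⟩ := exists_two_sup hP.2.1 hPK
  set Q1 : Subgroup G := K ⊓ R with hQ1
  have hRn : ∀ g ∈ P, g ∈ normalizer (Q1 : Set G) := by
    intro g hg
    rw [mem_normalizer_iff_cj, hQ1, cj_inf, mem_normalizer_iff_cj.1 (hPK hg),
      mem_normalizer_iff_cj.1 (le_normalizer (hPR hg))]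
  intro b hb
  have hbP : b ∈ P := hAP hb
  have hbz : b * zz K = zz K * b := h.comm_zz hK (hAK hb)
  have hb2 : IsPGroup 2 (zpowers b) := hA.to_le (zpowers_le.2 hb)
  have hb' : m * b * m⁻¹ ∈ P := hlP (conj_mem_cj hb)
  have hb'2 : IsPGroup 2 (zpowers (m * b * m⁻¹)) := hP.2.1.to_le (zpowers_le.2 hb')
  have c1 : ∀ q ∈ Q1, b * q = q * b :=
    h.rigid hK hQ hRK (hAK hb) hb2 (hAQ b hb) (hRn b hbP)
  have c2 : ∀ q ∈ Q1, (m * b * m⁻¹) * q = q * (m * b * m⁻¹) := by
    have hQm : Syl (cj m Q) K := by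
      have := hQ.cj m
      rwa [mem_normalizer_iff_cj.1 (le_normalizer hmK)] at this
    refine h.rigid hK hQm hRK (hPK hb') hb'2 ?_ (hRn _ hb')
    intro q hq
    rw [mem_cj] at hq
    have h1 := hAQ b hb _ hq
    calc m * b * m⁻¹ * q = m * (b * (m⁻¹ * q * m)) * m⁻¹ := by group
      _ = m * ((m⁻¹ * q * m) * b) * m⁻¹ := by rw [h1]
      _ = _ := by group
  -- `u = [m, b] ∈ Z(Q1)`
  obtain ⟨u, hu⟩ : ∃ u, u = m * b * m⁻¹ * b⁻¹ := ⟨_, rfl⟩
  have huK : u ∈ K := by
    have h1 := (mem_normalizer_iff.1 (hAK hb) m⁻¹).1 (K.inv_mem hmK)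
    have h2 := K.mul_mem hmK h1
    rw [hu]; simpa [mul_assoc] using h2
  have huQ : u ∈ Q1 := by
    refine ⟨huK, ?_⟩
    rw [hu]
    exact R.mul_mem (hPR hb') (R.inv_mem (hPR hbP))
  have huc : ∀ q ∈ Q1, u * q = q * u := by
    intro q hq
    have h1 := c1 q hq
    have h3 : b⁻¹ * q = q * b⁻¹ := by
      calc b⁻¹ * q = b⁻¹ * (q * b) * b⁻¹ := by group
        _ = b⁻¹ * (b * q) * b⁻¹ := by rw [h1]
        _ = q * b⁻¹ := by group
    calc u * q = (m * b * m⁻¹) * (b⁻¹ * q) := by rw [hu]; group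
      _ = ((m * b * m⁻¹) * q) * b⁻¹ := by rw [h3]; group
      _ = q * u := by rw [c2 q hq, hu]; group
  have hub : m * b * m⁻¹ = u * b := by rw [hu]; group
  -- hence `u² = 1`
  obtain ⟨c', v', n', hc'⟩ := h.exists_gq hK hRK
  have hu1 : u = 1 ∨ u = zz K := by
    rcases hc'.covZ huQ with hu' | ⟨i, hi⟩
    · obtain ⟨i, hi⟩ := hu'
      have hi' : c' ^ i = u := hi
      have h1 := huc v' hc'.v_mem
      rw [← hi', hc'.zpow_v] at h1
      have h2 : c' ^ (2 * i) = 1 := by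
        have h3 := mul_left_cancel h1
        rw [two_mul, zpow_add]
        nth_rewrite 1 [← h3]
        rw [← zpow_add, neg_add_cancel, zpow_zero]
      rcases hc'.zpow_sq h2 with h3 | h3
      · left; rw [← hi', h3]
      · right; rw [← hi', h3]
    · exfalso
      have h1 := huc c' hc'.c_mem
      rw [hi] at h1
      have h2 : v' * c' = c' * v' := by
        have h3 : v' * c' ^ i * c' = v' * c' * c' ^ i := by
          rw [mul_assoc, mul_assoc, ((Commute.refl c').zpow_left i).eq]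
        rw [h3, ← mul_assoc] at h1
        exact mul_right_cancel h1
      exact hc'.not_comm h2
  rcases hu1 with hu1 | hu1
  · rw [hu1, one_mul, mul_inv_eq_iff_eq_mul] at hub
    exact hub
  · exfalso
    rw [hu1] at hub
    exact h.not_conj_mul_zz hK hQ (hAQ b hb) hmK hub

end Hyp

end Cfsg.Agent.Cit
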