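import Cfsg.Agent.Cit.CoresClose
import Cfsg.Agent.Cit.LemmaB
import Cfsg.Agent.Cit.OneBasic
import Cfsg.Agent.Cit.OneK1
import Cfsg.Agent.Lib.KleinGen

/-!
# (H2z) and (H2): the closing step for classical involutions

`Hyp Om`, `S` Sylow, `E = E(S)`, `|E| ≥ 8`, `M` a subgroup containing `N(E)` and `C(e)` for all `e ∈ E`, `e ≠ 1`
(`Clo Om S M`), all members of `Om` generated by their elements of odd order (`TyTwo`).

* `Four T' M z a b` : `T'` Sylow in `C_M(z)`, `a, b ∈ T'` commuting involutions, `C(a), C(b), C(ab) ≤ M`.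
  `Four.core` (`z = zz K`): some `L ∈ Om` with `zz L = z` has a Sylow 2-subgroup in `M`, or there is
  `w ∈ T' ∩ K`, `w² = z`, inverted by `a` or `b`. `Four.zz_mem`: `zz L ∈ M` for `L ∈ Om(T)`, `T ≥ T'` a 2-group.
* `Clo.exists_mem` (H2z): `K ∈ Om`, `zz K ∈ M` implies `zz K ∈ cj m E` for some `m ∈ M`.
* `Clo.mem_of_conj` (H2): `e ∈ E`, `e ≠ 1`, `g e g⁻¹ ∈ M` implies `g ∈ M`.
-/

set_option autoImplicit false
set_option linter.style.haveILetI false
set_option linter.unusedSectionVars false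

namespace Cfsg.Agent.Cit.CloseFus

open Subgroup Cfsg Cfsg.Agent.Cit Cfsg.Agent.Cit.OneBasic

variable {G : Type*} [Group G]

/-! ### Elementary tools -/

theorem inv_eq_self {f : G} (hf : f * f = 1) : f⁻¹ = f := inv_eq_of_mul_eq_one_right hf

/-- an involution acting on an element modulo a normalised subgroup of odd order: correct the element to be fixed -/
theorem exists_mul_comm [Finite G] {X : Subgroup G} (hX : ¬ 2 ∣ Nat.card X) {f y : G} (hf : f * f = 1)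
    (hy : y⁻¹ * (f * y * f⁻¹) ∈ X) : ∃ k ∈ X, (y * k) * f = f * (y * k) := by
  have hodd : Odd (Nat.card X) := by
    rw [← Nat.not_even_iff_odd, even_iff_two_dvd]; exact hX
  obtain ⟨n, hn⟩ := Lib.KleinGen.exists_sqrt_exponent X hodd
  have hfi := inv_eq_self hf
  obtain ⟨w, hw⟩ : ∃ w, w = y⁻¹ * (f * y * f⁻¹) := ⟨_, rfl⟩
  rw [← hw] at hy
  -- `f w f⁻¹ = w⁻¹`
  have h1 : f * w * f⁻¹ = w⁻¹ := by
    rw [hw, hfi, mul_inv_rev, mul_inv_rev, mul_inv_rev, inv_inv, hfi]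
    calc f * (y⁻¹ * (f * y * f)) * f = f * y⁻¹ * f * y * (f * f) := by group
      _ = f * (y⁻¹ * f) * y := by rw [hf]; group
  obtain ⟨k, hk⟩ : ∃ k, k = w ^ n := ⟨_, rfl⟩
  have hkX : k ∈ X := by rw [hk]; exact X.pow_mem hy n
  have hkk : k * k = w := by rw [hk]; exact (hn w hy).1
  have hfk : f * k * f⁻¹ = k⁻¹ := by
    rw [hk, ← conj_pow, h1, inv_pow]
  refine ⟨k, hkX, ?_⟩
  -- `f (y k) f⁻¹ = y w k⁻¹ = y k`
  have h2 : f * (y * k) * f⁻¹ = y * k := by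
    calc f * (y * k) * f⁻¹ = y * (y⁻¹ * (f * y * f⁻¹)) * (f * k * f⁻¹) := by group
      _ = y * w * k⁻¹ := by rw [← hw, hfk]
      _ = y * (k * k) * k⁻¹ := by rw [hkk]
      _ = y * k := by group
  rw [mul_inv_eq_iff_eq_mul] at h2
  exact h2.symm

/-- commutators modulo a normal subgroup -/
theorem comm_mem_of_mod {C X H : Subgroup G} (hn : C ≤ normalizer (X : Set G)) (hXH : X ≤ H)
    {l l' n n' : G} (hl : l ∈ C) (hnC : n ∈ C) (h1 : l * l' ∈ H) (h2 : n * n' ∈ H)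
    (c1 : l' * n * l'⁻¹ * n⁻¹ ∈ X) (c2 : l' * n' * l'⁻¹ * n'⁻¹ ∈ X) (c3 : l * n' * l⁻¹ * n'⁻¹ ∈ X) :
    l * n * l⁻¹ * n⁻¹ ∈ H := by
  obtain ⟨x1, e1⟩ : ∃ x, x = l' * n * l'⁻¹ * n⁻¹ := ⟨_, rfl⟩
  obtain ⟨x2, e2⟩ : ∃ x, x = l' * n' * l'⁻¹ * n'⁻¹ := ⟨_, rfl⟩
  obtain ⟨x3, e3⟩ : ∃ x, x = l * n' * l⁻¹ * n'⁻¹ := ⟨_, rfl⟩
  rw [← e1] at c1
  rw [← e2] at c2
  rw [← e3] at c3
  have cj' : ∀ c ∈ C, ∀ x ∈ X, c * x * c⁻¹ ∈ X := fun c hc x hx => (mem_normalizer_iff.1 (hn hc) x).1 hx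
  have hu : (l * l') * (n * n') * (l * l')⁻¹ * (n * n')⁻¹ ∈ H :=
    H.mul_mem (H.mul_mem (H.mul_mem h1 h2) (H.inv_mem h1)) (H.inv_mem h2)
  have key : (l * l') * (n * n') * (l * l')⁻¹ * (n * n')⁻¹ =
      (l * x1 * l⁻¹) * ((l * n) * x2 * (l * n)⁻¹) * (l * n * l⁻¹ * n⁻¹) * (n * x3 * n⁻¹) := by
    have a1 : l' * n = x1 * n * l' := by rw [e1]; group
    have a2 : l' * n' * l'⁻¹ = x2 * n' := by rw [e2]; group
    have a3 : n' * l⁻¹ * n'⁻¹ = l⁻¹ * x3 := by rw [e3]; group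
    calc (l * l') * (n * n') * (l * l')⁻¹ * (n * n')⁻¹
        = l * (l' * n) * (n' * l'⁻¹ * l⁻¹ * n'⁻¹) * n⁻¹ := by group
      _ = l * x1 * n * (l' * n' * l'⁻¹) * l⁻¹ * n'⁻¹ * n⁻¹ := by rw [a1]; group
      _ = l * x1 * n * x2 * (n' * l⁻¹ * n'⁻¹) * n⁻¹ := by rw [a2]; group
      _ = _ := by rw [a3]; group
  rw [key] at hu
  have b1 : l * x1 * l⁻¹ ∈ H := hXH (cj' l hl x1 c1)
  have b2 : (l * n) * x2 * (l * n)⁻¹ ∈ H := hXH (cj' _ (C.mul_mem hl hnC) x2 c2)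
  have b3 : n * x3 * n⁻¹ ∈ H := hXH (cj' n hnC x3 c3)
  have hu2 := H.mul_mem (H.inv_mem (H.mul_mem b1 b2)) (H.mul_mem hu (H.inv_mem b3))
  have e : ((l * x1 * l⁻¹) * ((l * n) * x2 * (l * n)⁻¹))⁻¹ *
      ((l * x1 * l⁻¹) * ((l * n) * x2 * (l * n)⁻¹) * (l * n * l⁻¹ * n⁻¹) * (n * x3 * n⁻¹) *
        (n * x3 * n⁻¹)⁻¹) = l * n * l⁻¹ * n⁻¹ := by group
  rwa [e] at hu2

section TyTwo

variable [Finite G] {Om : Set (Subgroup G)} {L Q H : Subgroup G}

/-- a Sylow 2-subgroup of a member is contained in every subgroup containing the elements of square `zz L` -/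
theorem le_of_sq (h : Hyp Om) (hL : L ∈ Om) (hQ : Syl Q L) (hH : ∀ y ∈ L, y * y = zz L → y ∈ H) : Q ≤ H := by
  obtain ⟨c, v, n, hc⟩ := h.exists_gq hL hQ
  exact hc.le_of_four fun y hy hy4 => hH y (hQ.1 hy) (h.sq_of_orderOf hL (hQ.1 hy) hy4)

/-- if `H` contains the commutators of `L` it contains the Sylow 2-subgroups of `L` -/
theorem le_of_comm (h : Hyp Om) (hL : L ∈ Om) (hT : TyTwo L) (hH : ∀ l ∈ L, ∀ n ∈ L, l * n * l⁻¹ * n⁻¹ ∈ H)
    (hQ : Syl Q L) : Q ≤ H := by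
  obtain ⟨c, v, n, hc⟩ := h.exists_gq hL hQ
  obtain ⟨q₁, hq₁, q₂, hq₂, h1, h2, h12, -⟩ := hc.exists_pair
  have s1 := h.sq_of_orderOf hL (hQ.1 hq₁) h1
  have s2 := h.sq_of_orderOf hL (hQ.1 hq₂) h2
  have s12 := h.sq_of_orderOf hL (L.mul_mem (hQ.1 hq₁) (hQ.1 hq₂)) h12
  obtain ⟨k, hk, hkq⟩ := h.conj_four' hL hT (hQ.1 hq₂) (L.mul_mem (hQ.1 hq₁) (hQ.1 hq₂)) s2 s12
  refine le_of_sq h hL hQ fun y hy hy2 => ?_
  obtain ⟨l, hl, hly⟩ := h.conj_four' hL hT (hQ.1 hq₁) hy s1 hy2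
  have e1 : q₁ = k * q₂ * k⁻¹ * q₂⁻¹ := by rw [hkq]; group
  have e2 : y = (l * k * l⁻¹) * (l * q₂ * l⁻¹) * (l * k * l⁻¹)⁻¹ * (l * q₂ * l⁻¹)⁻¹ := by
    rw [← hly, e1]
    group
  rw [e2]
  exact hH _ (L.mul_mem (L.mul_mem hl hk) (L.inv_mem hl)) _
    (L.mul_mem (L.mul_mem hl (hQ.1 hq₂)) (L.inv_mem hl))

/-- a non-trivial element `e` of a Sylow 2-subgroup of `L` with `e * e ≠ 1` has a power of square `zz L` -/
theorem exists_pow_sq (h : Hyp Om) (hL : L ∈ Om) (hQ : Syl Q L) {e : G} (he : e ∈ Q) (he2 : e * e ≠ 1) :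
    ∃ g ∈ zpowers e, g * g = zz L := by
  obtain ⟨j, hj⟩ := mem_zpowers_iff.1 (AutQuat.IsQ.mem_zpowers (h.isGQ hL hQ)
    (fun t ht ht2 => h.uniq L hL t (hQ.1 ht) ht2) (Q.mul_mem he he) he2)
  refine ⟨e ^ j, zpow_mem (mem_zpowers e) j, ?_⟩
  rw [← hj, (Commute.refl e).mul_zpow]

/-- **Lemma Com** -/
theorem exists_syl_com (h : Hyp Om) (hL : L ∈ Om) (hT : TyTwo L) {f : G} (hf : f * f = 1)
    (hfL : f ∈ normalizer (L : Set G)) (hH : ∀ l ∈ L, l⁻¹ * (f * l * f⁻¹) ∈ H) :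
    ∃ Q, Syl Q L ∧ (Q ≤ centralizer {f} ∨ Q ≤ H) := by
  have hfi := inv_eq_self hf
  have hf2 : IsPGroup 2 (zpowers f) := by
    rintro ⟨x, hx⟩
    obtain ⟨k, rfl⟩ := mem_zpowers_iff.1 hx
    refine ⟨1, Subtype.ext ?_⟩
    change (f ^ k) ^ 2 ^ 1 = 1
    rw [pow_one, pow_two, ← (Commute.refl f).mul_zpow, hf, one_zpow]
  obtain ⟨Q, hQ, hfQ⟩ := exists_syl_normalized hf2 (zpowers_le.2 hfL)
  have hfQ' : f ∈ normalizer (Q : Set G) := hfQ (mem_zpowers f)
  refine ⟨Q, hQ, ?_⟩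
  by_cases hc : Q ≤ centralizer {f}
  · exact Or.inl hc
  right
  -- the commutator subgroup `N = [L, f]`
  obtain ⟨N, hN⟩ : ∃ N : Subgroup G, N = closure {x | ∃ l ∈ L, x = l⁻¹ * (f * l * f⁻¹)} := ⟨_, rfl⟩
  have hNm : ∀ l ∈ L, l⁻¹ * (f * l * f⁻¹) ∈ N := fun l hl => by
    rw [hN]; exact subset_closure ⟨l, hl, rfl⟩
  have hNH : N ≤ H := by
    rw [hN, closure_le]
    rintro _ ⟨l, hl, rfl⟩
    exact hH l hl
  have hNL : N ≤ L := by
    rw [hN, closure_le]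
    rintro _ ⟨l, hl, rfl⟩
    exact L.mul_mem (L.inv_mem hl) ((mem_normalizer_iff.1 hfL l).1 hl)
  have hNn : ∀ k ∈ L, ∀ x ∈ N, k⁻¹ * x * k ∈ N := by
    intro k hk x hx
    rw [hN] at hx
    induction hx using closure_induction with
    | mem x hx =>
      obtain ⟨l, hl, rfl⟩ := hx
      have e : k⁻¹ * (l⁻¹ * (f * l * f⁻¹)) * k =
          ((l * k)⁻¹ * (f * (l * k) * f⁻¹)) * (k⁻¹ * (f * k * f⁻¹))⁻¹ := by group
      rw [e]
      exact N.mul_mem (hNm _ (L.mul_mem hl hk)) (N.inv_mem (hNm k hk))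
    | one => simp
    | mul x y _ _ hx hy =>
      have e : k⁻¹ * (x * y) * k = (k⁻¹ * x * k) * (k⁻¹ * y * k) := by group
      rw [e]; exact N.mul_mem hx hy
    | inv x _ hx =>
      have e : k⁻¹ * x⁻¹ * k = (k⁻¹ * x * k)⁻¹ := by group
      rw [e]; exact N.inv_mem hx
  -- it is enough to find an element of square `z` in `N`
  suffices hs : ∃ g ∈ N, g * g = zz L by
    obtain ⟨g, hg, hg2⟩ := hs
    refine le_of_sq h hL hQ fun y hy hy2 => hNH ?_
    obtain ⟨k, hk, hky⟩ := h.conj_four' hL hT (hNL hg) hy hg2 hy2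
    have e := hNn k⁻¹ (L.inv_mem hk) g hg
    rw [inv_inv, hky] at e
    exact e
  obtain ⟨c, v, n, hgq⟩ := h.exists_gq hL hQ
  obtain ⟨x, hx, hx4, hxf⟩ : ∃ x ∈ Q, orderOf x = 4 ∧ x * f ≠ f * x := by
    by_contra hcon
    push Not at hcon
    exact hc (hgq.le_of_four fun y hy hy4 => mem_centralizer_singleton_iff.2 (hcon y hy hy4))
  have hz := h.zz_mul hL
  have hxx := h.sq_of_orderOf hL (hQ.1 hx) hx4
  have hconjQ : ∀ y ∈ Q, f * y * f⁻¹ ∈ Q := fun y hy => (mem_normalizer_iff.1 hfQ' y).1 hy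
  have hfz : f * zz L = zz L * f := h.comm_zz hL hfL
  -- for `y ∈ Q` either `N` contains an element of square `z`, or `y` is fixed, or `y ↦ y z`
  have tri : ∀ y ∈ Q, (∃ g ∈ N, g * g = zz L) ∨ f * y * f⁻¹ = y ∨ f * y * f⁻¹ = y * zz L := by
    intro y hy
    have he : y⁻¹ * (f * y * f⁻¹) ∈ Q := Q.mul_mem (Q.inv_mem hy) (hconjQ y hy)
    by_cases he2 : (y⁻¹ * (f * y * f⁻¹)) * (y⁻¹ * (f * y * f⁻¹)) = 1
    · right
      by_cases he1 : y⁻¹ * (f * y * f⁻¹) = 1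
      · left
        rw [inv_mul_eq_one] at he1
        exact he1.symm
      · right
        rw [← h.eq_zz hL (hQ.1 he) he2 he1]
        group
    · left
      obtain ⟨g, hg, hg2⟩ := exists_pow_sq h hL hQ he he2
      exact ⟨g, (zpowers_le.2 (hNm y (hQ.1 hy))) hg, hg2⟩
  rcases tri x hx with h1 | h1 | h1
  · exact h1
  · exact absurd (by rw [mul_inv_eq_iff_eq_mul] at h1; exact h1.symm) hxf
  have hzx : zz L * x = x * zz L := (h.comm_zz hL (le_normalizer (hQ.1 hx))).symm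
  have hxi : x⁻¹ = x * zz L := by
    rw [inv_eq_iff_mul_eq_one, ← mul_assoc, hxx, hz]
  -- an inverting element of order four fixed by `f`
  obtain ⟨y, hy, hy4, hyx⟩ := hgq.exists_inverting hx hx4
  have hyy := h.sq_of_orderOf hL (hQ.1 hy) hy4
  obtain h5 | ⟨u, hu, huf, huu, hux⟩ : (∃ g ∈ N, g * g = zz L) ∨
      ∃ u ∈ Q, f * u * f⁻¹ = u ∧ u * u = zz L ∧ u * x * u⁻¹ = x⁻¹ := by
    rcases tri y hy with h2 | h2 | h2
    · exact Or.inl h2
    · exact Or.inr ⟨y, hy, h2, hyy, hyx⟩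
    · right
      refine ⟨x * y, Q.mul_mem hx hy, ?_, ?_, ?_⟩
      · calc f * (x * y) * f⁻¹ = (f * x * f⁻¹) * (f * y * f⁻¹) := by group
          _ = x * zz L * (y * zz L) := by rw [h1, h2]
          _ = x * (zz L * y) * zz L := by group
          _ = x * (y * zz L) * zz L := by rw [h.comm_zz hL (le_normalizer (hQ.1 hy))]
          _ = x * y * (zz L * zz L) := by group
          _ = x * y := by rw [hz, mul_one]
      · calc x * y * (x * y) = x * (y * x * y⁻¹) * (y * y) := by group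
          _ = zz L := by rw [hyx, hyy]; group
      · calc x * y * x * (x * y)⁻¹ = x * (y * x * y⁻¹) * x⁻¹ := by group
          _ = x⁻¹ := by rw [hyx]; group
  · exact h5
  obtain ⟨k, hk, hkx⟩ := h.conj_four' hL hT (hQ.1 hx) (hQ.1 hu) hxx huu
  obtain ⟨g, hg⟩ : ∃ g, g = k⁻¹ * (f * k * f⁻¹) := ⟨_, rfl⟩
  have hgN : g ∈ N := by rw [hg]; exact hNm k hk
  have hfx : f⁻¹ * x⁻¹ * f = x := by
    have h2 : f * x * f⁻¹ = x⁻¹ := by rw [h1, hxi]
    rw [← h2]; group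
  have hgx : g * x * g⁻¹ = x⁻¹ := by
    have h2 : g * x⁻¹ * g⁻¹ = x := by
      calc g * x⁻¹ * g⁻¹ = k⁻¹ * (f * (k * (f⁻¹ * x⁻¹ * f) * k⁻¹) * f⁻¹) * k := by rw [hg]; group
        _ = k⁻¹ * (f * u * f⁻¹) * k := by rw [hfx, hkx]
        _ = x := by rw [huf, ← hkx]; group
    have h3 : (g * x⁻¹ * g⁻¹)⁻¹ = x⁻¹ := by rw [h2]
    rw [← h3]; group
  -- odd powers of `g` invert `x`
  have hx1 : x ≠ x⁻¹ := by
    intro h2
    have h3 : x * x = 1 := by nth_rewrite 2 [h2]; group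
    exact h.zz_ne hL (by rw [← hxx, h3])
  have hpow : ∀ m : ℕ, g ^ (2 * m + 1) * x * (g ^ (2 * m + 1))⁻¹ = x⁻¹ := by
    intro m
    induction m with
    | zero => simpa using hgx
    | succ m ih =>
      have e : g ^ (2 * (m + 1) + 1) = g * g * g ^ (2 * m + 1) := by
        rw [show 2 * (m + 1) + 1 = 2 + (2 * m + 1) by ring, pow_add, pow_two]
      rw [e]
      calc g * g * g ^ (2 * m + 1) * x * (g * g * g ^ (2 * m + 1))⁻¹
          = g * (g * (g ^ (2 * m + 1) * x * (g ^ (2 * m + 1))⁻¹) * g⁻¹) * g⁻¹ := by group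
        _ = g * (g * x⁻¹ * g⁻¹) * g⁻¹ := by rw [ih]
        _ = g * (g * x * g⁻¹)⁻¹ * g⁻¹ := by group
        _ = x⁻¹ := by rw [hgx, inv_inv, hgx]
  have hg0 : 0 < orderOf g := orderOf_pos g
  obtain ⟨i, hi | hi⟩ := Nat.even_or_odd' (orderOf g)
  swap
  · exfalso
    have h2 := hpow i
    rw [← hi, pow_orderOf_eq_one] at h2
    apply hx1
    rw [← h2]; group
  have hgi1 : g ^ i ≠ 1 := by
    intro h2
    have h3 := Nat.le_of_dvd (by omega) (orderOf_dvd_of_pow_eq_one h2)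
    omega
  have hgi2 : g ^ i * g ^ i = 1 := by rw [← pow_add, ← two_mul, ← hi, pow_orderOf_eq_one]
  have hgiz : g ^ i = zz L := h.eq_zz hL (L.pow_mem (hNL hgN) i) hgi2 hgi1
  obtain ⟨j, hj | hj⟩ := Nat.even_or_odd' i
  · refine ⟨g ^ j, N.pow_mem hgN j, ?_⟩
    rw [← pow_add, ← two_mul, ← hj, hgiz]
  · exfalso
    have h2 := hpow j
    rw [← hj, hgiz, hzx, mul_inv_cancel_right] at h2
    exact hx1 h2

end TyTwo

/-! ### Two commuting involutions of `E` centralised by an involution -/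

/-- an involution acting on an elementary abelian group of order at least `8` has at least three fixed points -/
theorem exists_two_fixed [Finite G] {E : Subgroup G} (hc : ∀ a ∈ E, ∀ b ∈ E, a * b = b * a)
    (hs : ∀ a ∈ E, a * a = 1) (h8 : 8 ≤ Nat.card E) {z : G} (hz : z * z = 1)
    (hzE : z ∈ normalizer (E : Set G)) :
    ∃ a ∈ E, ∃ b ∈ E, a ≠ 1 ∧ b ≠ 1 ∧ b ≠ a ∧ a * z = z * a ∧ b * z = z * b := by
  classical
  have hzi := inv_eq_self hz
  have hcE : ∀ e ∈ E, z * e * z⁻¹ ∈ E := fun e he => (mem_normalizer_iff.1 hzE e).1 he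
  let φ : E →* E :=
    { toFun := fun e => ⟨(e : G) * (z * e * z⁻¹), E.mul_mem e.2 (hcE e e.2)⟩
      map_one' := by apply Subtype.ext; simp
      map_mul' := by
        rintro ⟨x, hx⟩ ⟨y, hy⟩
        apply Subtype.ext
        change x * y * (z * (x * y) * z⁻¹) = x * (z * x * z⁻¹) * (y * (z * y * z⁻¹))
        calc x * y * (z * (x * y) * z⁻¹) = x * (y * (z * x * z⁻¹)) * (z * y * z⁻¹) := by group
          _ = x * ((z * x * z⁻¹) * y) * (z * y * z⁻¹) := by rw [hc y hy _ (hcE x hx)]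
          _ = x * (z * x * z⁻¹) * (y * (z * y * z⁻¹)) := by group }
  set F : Subgroup G := E ⊓ centralizer {z} with hF
  have h1 : Nat.card φ.ker ≤ Nat.card F := by
    have hle : φ.ker.map E.subtype ≤ F := by
      rintro _ ⟨⟨e, he⟩, hk, rfl⟩
      have h2 : e * (z * e * z⁻¹) = 1 := congrArg Subtype.val (MonoidHom.mem_ker.1 hk)
      refine ⟨he, mem_centralizer_singleton_iff.2 ?_⟩
      change e * z = z * e
      have h3 : z * e * z⁻¹ = e := by
        rw [← mul_right_inj e, h2, hs e he]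
      rw [mul_inv_eq_iff_eq_mul] at h3
      exact h3.symm
    rw [← card_map_of_injective E.subtype_injective (K := φ.ker)]
    exact card_le_of_le hle
  have h2 : Nat.card φ.range ≤ Nat.card F := by
    have hle : φ.range.map E.subtype ≤ F := by
      rintro _ ⟨_, ⟨⟨e, he⟩, rfl⟩, rfl⟩
      change e * (z * e * z⁻¹) ∈ F
      refine ⟨E.mul_mem he (hcE e he), mem_centralizer_singleton_iff.2 ?_⟩
      have h3 := hc e he _ (hcE e he)
      have h4 : z * (e * (z * e * z⁻¹)) * z⁻¹ = e * (z * e * z⁻¹) := by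
        calc z * (e * (z * e * z⁻¹)) * z⁻¹ = (z * e * z⁻¹) * ((z * z) * e * (z * z)⁻¹) := by group
          _ = (z * e * z⁻¹) * e := by rw [hz]; group
          _ = e * (z * e * z⁻¹) := h3.symm
      rw [mul_inv_eq_iff_eq_mul] at h4
      exact h4.symm
    rw [← card_map_of_injective E.subtype_injective (K := φ.range)]
    exact card_le_of_le hle
  have h3 : Nat.card E = Nat.card φ.range * Nat.card φ.ker := by
    rw [← Subgroup.card_mul_index φ.ker, Subgroup.index_ker, mul_comm]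
  have h4 : 3 ≤ Nat.card F := by
    by_contra h5
    have h6 : Nat.card F ≤ 2 := by omega
    have h7 : Nat.card φ.range * Nat.card φ.ker ≤ 2 * 2 :=
      Nat.mul_le_mul (h2.trans h6) (h1.trans h6)
    omega
  by_contra hcon
  push Not at hcon
  -- then `F ≤ {1, a}`
  have h5 : Nat.card F ≤ 2 := by
    by_cases hb : ∃ a ∈ F, a ≠ 1
    · obtain ⟨a, ha, ha1⟩ := hb
      have h6 : (F : Set G) ⊆ (({1, a} : Finset G) : Set G) := by
        intro b hb
        simp only [Finset.coe_insert, Finset.coe_singleton, Set.mem_insert_iff, Set.mem_singleton_iff]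
        by_contra h7
        push Not at h7
        exact hcon a ha.1 b hb.1 ha1 h7.1 h7.2 (mem_centralizer_singleton_iff.1 ha.2)
          (mem_centralizer_singleton_iff.1 hb.2)
      have h7 : Nat.card F = (F : Set G).ncard := rfl
      rw [h7]
      refine (Set.ncard_le_ncard h6).trans ?_
      rw [Set.ncard_coe_finset]
      exact Finset.card_le_two
    · push Not at hb
      have h6 : F = ⊥ := (eq_bot_iff_forall F).2 hb
      rw [h6, card_bot]
      norm_num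
  omega

/-! ### The closing hypothesis -/

/-- `M` contains `N(E(S))` and the centralisers of the non-trivial elements of `E(S)`; `|E(S)| ≥ 8` -/
structure Clo (Om : Set (Subgroup G)) (S M : Subgroup G) : Prop where
  nor : normalizer (ES Om S : Set G) ≤ M
  cen : ∀ e ∈ ES Om S, e ≠ 1 → centralizer {e} ≤ M
  card : 8 ≤ Nat.card (ES Om S)

namespace Clo

variable [Finite G] {Om : Set (Subgroup G)} {M S : Subgroup G}

theorem cj (h : Hyp Om) (hc : Clo Om S M) {m : G} (hm : m ∈ M) : Clo Om (Cit.cj m S) M := by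
  have hM : Cit.cj m M = M := mem_normalizer_iff_cj.1 (le_normalizer hm)
  have hE : ES Om (Cit.cj m S) = Cit.cj m (ES Om S) := (cj_ES h m).symm
  refine ⟨?_, ?_, ?_⟩
  · rw [hE]
    intro g hg
    have h1 : m⁻¹ * g * m ∈ normalizer (ES Om S : Set G) := by
      rw [mem_normalizer_iff_cj] at hg ⊢
      rw [cj_mul, cj_mul, hg, cj_inv_cj]
    have h2 : g = m * (m⁻¹ * g * m) * m⁻¹ := by group
    rw [h2]
    exact M.mul_mem (M.mul_mem hm (hc.nor h1)) (M.inv_mem hm)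
  · intro e he he1
    rw [hE, mem_cj] at he
    have h1 : m⁻¹ * e * m ≠ 1 := by
      intro h2
      apply he1
      have h3 : e = m * (m⁻¹ * e * m) * m⁻¹ := by group
      rw [h3, h2]; group
    have h2 := hc.cen _ he h1
    have h3 := cj_mono m h2
    rw [hM, cj_centralizer] at h3
    have h4 : m * (m⁻¹ * e * m) * m⁻¹ = e := by group
    rwa [h4] at h3
  · rw [hE, card_cj]; exact hc.card

theorem le (h : Hyp Om) (hS : IsPGroup 2 S) (hc : Clo Om S M) : S ≤ M :=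
  ((le_normalizer.trans (normalizer_le_normalizer_DD h.conj)).trans (normalizer_DD_le h hS)).trans hc.nor

theorem le_normalizer (h : Hyp Om) (hS : IsPGroup 2 S) : S ≤ normalizer (ES Om S : Set G) :=
  (Subgroup.le_normalizer.trans (normalizer_le_normalizer_DD h.conj)).trans (normalizer_DD_le h hS)

end Clo

/-! ### Members and the core `X_z` -/

section Moved

variable [Finite G] {Om : Set (Subgroup G)} {L M : Subgroup G}

/-- `O(L) ≤ O(C(z_L))` -/
theorem OO_le_XX (h : Hyp Om) (hL : L ∈ Om) : OO L ≤ XX (zz L) := by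
  have hLC := h.le_centralizer hL
  refine LB.le_OO_of_subnormal ((OO_le L).trans hLC) ?_ (odd_OO L)
  refine IsSubnormal.trans (K := L.subgroupOf (centralizer {zz L})) ?_ ?_ (h.sub L hL)
  · intro x hx
    exact OO_le L hx
  · refine Normal.isSubnormal ⟨?_⟩
    rintro ⟨⟨d, hdC⟩, hdL⟩ hd ⟨⟨a, haC⟩, haL⟩
    exact (mem_normalizer_iff.1 (le_normalizer_OO L haL) d).1 hd

/-- elements of two different members with the same involution commute modulo `X_z` -/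
theorem comm_mem_XX (h : Hyp Om) {K L : Subgroup G} (hK : K ∈ Om) (hL : L ∈ Om) (hz : zz K = zz L) (hne : K ≠ L)
    {x y : G} (hx : x ∈ K) (hy : y ∈ L) : x * y * x⁻¹ * y⁻¹ ∈ XX (zz L) := by
  rcases h.h2 K hK L hL hz with h1 | h1
  · exact absurd h1 hne
  · exact OO_le_XX h hL (h1 (commutator_mem_commutator hx hy)).2

/-- an involution `f` moving `L`: `l l^f ∈ M` -/
theorem mul_conj_mem (h : Hyp Om) {f : G} (hf : f * f = 1) (hL : L ∈ Om) (hfz : f * zz L = zz L * f)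
    (hX : XX (zz L) ≤ M) (hCf : centralizer {f} ≤ M) (hmv : cj f L ≠ L) {l : G} (hl : l ∈ L) :
    l * (f * l * f⁻¹) ∈ M := by
  have hz : zz (cj f L) = zz L := by
    rw [h.zz_cj hL, hfz, mul_inv_cancel_right]
  have hfi := inv_eq_self hf
  obtain ⟨y, hy⟩ : ∃ y, y = l * (f * l * f⁻¹) := ⟨_, rfl⟩
  have h1 : y⁻¹ * (f * y * f⁻¹) ∈ XX (zz L) := by
    have h2 := comm_mem_XX h (h.conj L hL f) hL hz hmv
      (x := (f * l * f⁻¹)⁻¹) (y := l⁻¹) (Subgroup.inv_mem _ (conj_mem_cj hl)) (L.inv_mem hl)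
    have h3 : y⁻¹ * (f * y * f⁻¹) = (f * l * f⁻¹)⁻¹ * l⁻¹ * (f * l * f⁻¹)⁻¹⁻¹ * l⁻¹⁻¹ := by
      rw [hy]
      calc (l * (f * l * f⁻¹))⁻¹ * (f * (l * (f * l * f⁻¹)) * f⁻¹)
          = (f * l * f⁻¹)⁻¹ * l⁻¹ * (f * l * f⁻¹) * ((f * f) * l * (f * f)⁻¹) := by group
        _ = _ := by rw [hf]; group
    rw [h3]; exact h2
  obtain ⟨k, hk, hkf⟩ := exists_mul_comm (odd_XX _) hf h1
  have h2 : y * k ∈ M := hCf (mem_centralizer_singleton_iff.2 hkf)
  have h3 := M.mul_mem h2 (M.inv_mem (hX hk))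
  rw [mul_inv_cancel_right, hy] at h3
  exact h3

/-- a four-group acting regularly on a set of members with the same involution -/
theorem comm_mem_of_regular (h : Hyp Om) {a b : G} (ha : a * a = 1) (hb : b * b = 1)
    (hL : L ∈ Om) (haz : a * zz L = zz L * a) (hbz : b * zz L = zz L * b)
    (hX : XX (zz L) ≤ M) (hCa : centralizer {a} ≤ M) (hCb : centralizer {b} ≤ M)
    (hma : cj a L ≠ L) (hmb : cj b L ≠ L) (hmab : cj (a * b) L ≠ L) {l n : G} (hl : l ∈ L) (hn : n ∈ L) :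
    l * n * l⁻¹ * n⁻¹ ∈ M := by
  have hza : zz (cj a L) = zz L := by rw [h.zz_cj hL, haz, mul_inv_cancel_right]
  have hzb : zz (cj b L) = zz L := by rw [h.zz_cj hL, hbz, mul_inv_cancel_right]
  have hne : cj a L ≠ cj b L := by
    intro h1
    apply hmab
    rw [cj_mul, ← h1, ← cj_mul, ha, cj_one]
  have hLa := h.conj L hL a
  have hLb := h.conj L hL b
  have hC := h.le_centralizer hL
  refine comm_mem_of_mod (C := centralizer {zz L}) (X := XX (zz L)) (centralizer_le_normalizer_XX _) hX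
    (hC hl) (hC hn) (mul_conj_mem h ha hL haz hX hCa hma hl) (mul_conj_mem h hb hL hbz hX hCb hmb hn) ?_ ?_ ?_
  · exact comm_mem_XX h hLa hL hza hma (conj_mem_cj hl) hn
  · rw [← hzb]
    exact comm_mem_XX h hLa hLb (hza.trans hzb.symm) hne (conj_mem_cj hl) (conj_mem_cj hn)
  · rw [← hzb]
    exact comm_mem_XX h hL hLb hzb.symm (Ne.symm hmb) hl (conj_mem_cj hn)

/-- two commuting involutions, one moving `L`, one fixing `L` -/
theorem exists_of_moved_fixed (h : Hyp Om) {f f0 : G} (hf : f * f = 1) (hf0 : f0 * f0 = 1) (hff : f0 * f = f * f0)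
    (hL : L ∈ Om) (hT : TyTwo (cj f L)) (hfz : f * zz L = zz L * f) (hfz0 : f0 * zz L = zz L * f0)
    (hX : XX (zz L) ≤ M) (hCf : centralizer {f} ≤ M) (hCf0 : centralizer {f0} ≤ M)
    (hCff : centralizer {f0 * f} ≤ M)
    (hmf : cj f L ≠ L) (hf0L : cj f0 L = L) : ∃ Q, Syl Q (cj f L) ∧ Q ≤ M := by
  have hff2 : f0 * f * (f0 * f) = 1 := by
    calc f0 * f * (f0 * f) = f0 * (f * f0) * f := by group
      _ = f0 * (f0 * f) * f := by rw [hff]
      _ = (f0 * f0) * (f * f) := by group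
      _ = 1 := by rw [hf, hf0, one_mul]
  have hffz : f0 * f * zz L = zz L * (f0 * f) := by rw [mul_assoc, hfz, ← mul_assoc, hfz0, mul_assoc]
  have hffL : cj (f0 * f) L = cj f L := by rw [hff, cj_mul, hf0L]
  have h1 : ∀ l' ∈ cj f L, l'⁻¹ * (f0 * l' * f0⁻¹) ∈ M := by
    rintro l' hl'
    rw [mem_cj] at hl'
    obtain ⟨l, hl⟩ : ∃ l, l = f⁻¹ * l' * f := ⟨_, rfl⟩
    rw [← hl] at hl'
    have hl'' : l' = f * l * f⁻¹ := by rw [hl]; group
    have a1 := mul_conj_mem h hf hL hfz hX hCf hmf hl'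
    have a2 := mul_conj_mem h hff2 hL hffz hX hCff (by rw [hffL]; exact hmf) hl'
    have a3 := M.mul_mem (M.inv_mem a1) a2
    have e : (l * (f * l * f⁻¹))⁻¹ * (l * (f0 * f * l * (f0 * f)⁻¹)) = l'⁻¹ * (f0 * l' * f0⁻¹) := by
      rw [hl'']; group
    rwa [e] at a3
  have hf0L' : f0 ∈ normalizer (cj f L : Set G) := by
    rw [mem_normalizer_iff_cj, ← cj_mul, hffL]
  obtain ⟨Q, hQ, hQ2⟩ := exists_syl_com h (h.conj L hL f) hT hf0 hf0L' h1
  exact ⟨Q, hQ, hQ2.elim (fun h2 => h2.trans hCf0) id⟩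

end Moved

/-! ### A four-group commuting with an involution -/

/-- `T'` Sylow in `C_M(z)`, `a, b ∈ T'` commuting involutions, `C(a), C(b), C(ab) ≤ M` -/
structure Four (T' M : Subgroup G) (z a b : G) : Prop where
  syl : Syl T' (M ⊓ centralizer {z})
  a_T : a ∈ T'
  b_T : b ∈ T'
  aa : a * a = 1
  bb : b * b = 1
  comm : a * b = b * a
  Ca : centralizer {a} ≤ M
  Cb : centralizer {b} ≤ M
  Cab : centralizer {a * b} ≤ M

namespace Four

variable [Finite G] {Om : Set (Subgroup G)} {M T' : Subgroup G} {z a b : G}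

theorem az (fr : Four T' M z a b) : a * z = z * a := mem_centralizer_singleton_iff.1 (fr.syl.1 fr.a_T).2
theorem bz (fr : Four T' M z a b) : b * z = z * b := mem_centralizer_singleton_iff.1 (fr.syl.1 fr.b_T).2
theorem abz (fr : Four T' M z a b) : a * b * z = z * (a * b) := by
  rw [mul_assoc, fr.bz, ← mul_assoc, fr.az, mul_assoc]

/-- `X_z ≤ M` -/
theorem XX_le (fr : Four T' M z a b) : XX z ≤ M := by
  have hodd : Odd (Nat.card (XX z)) := by
    rw [← Nat.not_even_iff_odd, even_iff_two_dvd]; exact odd_XX z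
  have hn : ∀ f : G, f * z = z * f → ∀ x ∈ XX z, f * x * f⁻¹ ∈ XX z := fun f hf x hx =>
    (mem_normalizer_iff.1 (centralizer_le_normalizer_XX z (mem_centralizer_singleton_iff.2 hf)) x).1 hx
  exact Lib.KleinGen.le_of_klein (XX z) M hodd a b fr.aa fr.bb fr.comm
    (hn a fr.az) (hn b fr.bz) (inf_le_right.trans fr.Ca) (inf_le_right.trans fr.Cb)
    (inf_le_right.trans fr.Cab)

/-- elements moved by `a`, `b` only by `z` are in `M` -/
theorem mem_of_two (fr : Four T' M z a b) (hz2 : z * z = 1)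
    {v : G} (h1 : a * v * a⁻¹ = v ∨ a * v * a⁻¹ = z * v) (h2 : b * v * b⁻¹ = v ∨ b * v * b⁻¹ = z * v) : v ∈ M := by
  rcases h1 with h1 | h1
  · exact fr.Ca (mem_centralizer_singleton_iff.2 (mul_inv_eq_iff_eq_mul.1 h1).symm)
  rcases h2 with h2 | h2
  · exact fr.Cb (mem_centralizer_singleton_iff.2 (mul_inv_eq_iff_eq_mul.1 h2).symm)
  refine fr.Cab (mem_centralizer_singleton_iff.2 ?_)
  have h3 : a * b * v * (a * b)⁻¹ = v := by
    calc a * b * v * (a * b)⁻¹ = a * (b * v * b⁻¹) * a⁻¹ := by group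
      _ = a * z * v * a⁻¹ := by rw [h2]; group
      _ = z * (a * v * a⁻¹) := by rw [fr.az]; group
      _ = (z * z) * v := by rw [h1]; group
      _ = v := by rw [hz2, one_mul]
  exact (mul_inv_eq_iff_eq_mul.1 h3).symm

/-- the exceptional outcome: `w ∈ K ∩ T'`, `w² = z_K`, `w` inverted by `a` or `b` -/
def Exc (T' K : Subgroup G) (a b : G) : Prop :=
  ∃ w ∈ T', w ∈ K ∧ w * w = zz K ∧ ∃ f, (f = a ∨ f = b) ∧ f * w * f⁻¹ = zz K * w

/-- case (C): `a` and `b` normalise the member `K` with involution `z` -/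
theorem of_fixed {K : Subgroup G} (fr : Four T' M (zz K) a b) (h : Hyp Om) (hK : K ∈ Om) (haK : cj a K = K)
    (hbK : cj b K = K) : (∃ Q, Syl Q K ∧ Q ≤ M) ∨ Exc T' K a b := by
  have hz2 := h.zz_mul hK
  obtain ⟨T0, hT0, hT'0⟩ := Cit.exists_syl_ge fr.syl.2.1 (fr.syl.1.trans inf_le_right)
  have hTM : T0 ⊓ M ≤ T' := by
    rw [← fr.syl.eq_of_le (le_inf hT'0 (fr.syl.1.trans inf_le_left))
      (le_inf inf_le_right (inf_le_left.trans hT0.1)) (hT0.2.1.to_le inf_le_left)]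
  obtain ⟨Q0, hQ0⟩ : ∃ Q0, Q0 = K ⊓ T0 := ⟨_, rfl⟩
  have hQ : Syl Q0 K := by
    rw [hQ0]; exact syl_inf hT0.2.1 (h.mem_OmS_of_syl hK hT0)
  obtain ⟨P, hP⟩ : ∃ P, P = T0 ⊓ normalizer (K : Set G) := ⟨_, rfl⟩
  have hPQ : P ≤ normalizer (Q0 : Set G) := by
    intro t ht
    rw [hP] at ht
    rw [mem_normalizer_iff_cj, hQ0, cj_inf, mem_normalizer_iff_cj.1 ht.2,
      mem_normalizer_iff_cj.1 (le_normalizer ht.1)]
  have haP : a ∈ P := by rw [hP]; exact ⟨hT'0 fr.a_T, mem_normalizer_iff_cj.2 haK⟩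
  have hbP : b ∈ P := by rw [hP]; exact ⟨hT'0 fr.b_T, mem_normalizer_iff_cj.2 hbK⟩
  have hIsQ : AutQuat.IsQ Q0 := h.isGQ hK hQ
  obtain ⟨x, hx, hx4, hxc, hxP⟩ := hIsQ.exists_cyclic (P := P)
    (hT0.2.1.to_le (by rw [hP]; exact inf_le_left)) hPQ
  have hxQ : zpowers x ≤ Q0 := zpowers_le.2 hx
  have hconj : ∀ f ∈ P, ∀ y ∈ zpowers x, f * y * f⁻¹ ∈ zpowers x := by
    intro f hf y hy
    obtain ⟨k, rfl⟩ := mem_zpowers_iff.1 hy
    rw [← conj_zpow]
    exact zpow_mem (hxP f hf) k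
  have hcom : ∀ y ∈ zpowers x, ∀ y' ∈ zpowers x, y * y' = y' * y := by
    intro y hy y' hy'
    obtain ⟨k, rfl⟩ := mem_zpowers_iff.1 hy
    obtain ⟨k', rfl⟩ := mem_zpowers_iff.1 hy'
    rw [← zpow_add, ← zpow_add, add_comm]
  have hx2 : x * x ≠ 1 := by
    intro h1
    have h2 := Nat.le_of_dvd (by norm_num) (orderOf_dvd_of_pow_eq_one (by rw [pow_two]; exact h1 : x ^ 2 = 1))
    omega
  obtain ⟨w, hw, hww⟩ := exists_pow_sq h hK hQ hx hx2
  have hwQ : w ∈ Q0 := hxQ hw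
  have hone : ∀ e ∈ Q0, e * e = 1 → e = 1 ∨ e = zz K := by
    intro e he he2
    by_cases h1 : e = 1
    · exact Or.inl h1
    · exact Or.inr (h.eq_zz hK (hQ.1 he) he2 h1)
  -- two elements of `⟨x⟩` of square `z`
  have hsq : ∀ g ∈ zpowers x, g * g = zz K → g = w ∨ g = zz K * w := by
    intro g hg hgg
    have h1 : g * w⁻¹ * (g * w⁻¹) = 1 := by
      have h2 := hcom w⁻¹ (inv_mem hw) g hg
      calc g * w⁻¹ * (g * w⁻¹) = g * (w⁻¹ * g) * w⁻¹ := by group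
        _ = (g * g) * (w * w)⁻¹ := by rw [h2]; group
        _ = 1 := by rw [hgg, hww, mul_inv_cancel]
    rcases hone _ (mul_mem (hxQ hg) (inv_mem hwQ)) h1 with h2 | h2
    · left
      exact mul_inv_eq_one.1 h2
    · right
      exact mul_inv_eq_iff_eq_mul.1 h2
  have hPz : ∀ f ∈ P, f * zz K = zz K * f := by
    intro f hf
    rw [hP] at hf
    exact h.comm_zz hK hf.2
  have hA : ∀ f ∈ P, f * w * f⁻¹ = w ∨ f * w * f⁻¹ = zz K * w := by
    intro f hf
    refine hsq _ (hconj f hf w hw) ?_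
    calc f * w * f⁻¹ * (f * w * f⁻¹) = f * (w * w) * f⁻¹ := by group
      _ = zz K := by rw [hww, hPz f hf, mul_inv_cancel_right]
  -- `w ∈ M`, so `w` is in `T'`
  have hwM : w ∈ M := fr.mem_of_two hz2 (hA a haP) (hA b hbP)
  have hwT0 : w ∈ T0 := by
    rw [hQ0] at hwQ; exact hwQ.2
  have hwT' : w ∈ T' := hTM ⟨hwT0, hwM⟩
  rcases hA a haP with haw | haw
  swap
  · exact Or.inr ⟨w, hwT', hQ.1 hwQ, hww, a, Or.inl rfl, haw⟩
  rcases hA b hbP with hbw | hbw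
  swap
  · exact Or.inr ⟨w, hwT', hQ.1 hwQ, hww, b, Or.inr rfl, hbw⟩
  left
  -- elements of `⟨x⟩` inverted by `f`
  have hB : ∀ f ∈ P, f * w * f⁻¹ = w → ∀ d ∈ zpowers x, f * d * f⁻¹ = d⁻¹ → d = 1 ∨ d = zz K := by
    intro f hf hfw d hd hfd
    by_cases h1 : d * d = 1
    · exact hone d (hxQ hd) h1
    · exfalso
      obtain ⟨g, hg, hgg⟩ := exists_pow_sq h hK hQ (hxQ hd) h1
      have hgx : g ∈ zpowers x := (zpowers_le.2 hd) hg
      have h2 : f * g * f⁻¹ = g⁻¹ := by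
        obtain ⟨j, rfl⟩ := mem_zpowers_iff.1 hg
        rw [← conj_zpow, hfd, inv_zpow]
      have h3 : f * g * f⁻¹ = g := by
        rcases hsq g hgx hgg with h4 | h4
        · rw [h4, hfw]
        · rw [h4]
          calc f * (zz K * w) * f⁻¹ = (f * zz K) * w * f⁻¹ := by group
            _ = zz K * (f * w * f⁻¹) := by rw [hPz f hf]; group
            _ = zz K * w := by rw [hfw]
      have h4 : g * g = 1 := by
        nth_rewrite 2 [← h3]
        rw [h2, mul_inv_cancel]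
      exact h.zz_ne hK (by rw [← hgg, h4])
  have hidx : ((zpowers x).subgroupOf Q0).index = 2 := by
    have h1 := Subgroup.card_mul_index ((zpowers x).subgroupOf Q0)
    rw [Nat.card_congr (subgroupOfEquivOfLe hxQ).toEquiv, Nat.card_zpowers, ← hxc] at h1
    have h2 : orderOf x * ((zpowers x).subgroupOf Q0).index = orderOf x * 2 := by rw [h1]; ring
    exact Nat.eq_of_mul_eq_mul_left (by omega) h2
  have hC : ∀ f ∈ P, f * f = 1 → f * w * f⁻¹ = w → ∀ v ∈ Q0, f * v * f⁻¹ = v ∨ f * v * f⁻¹ = zz K * v := by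
    intro f hf hff hfw v hv
    have hfv : f * v * f⁻¹ ∈ Q0 := (mem_normalizer_iff.1 (hPQ hf) v).1 hv
    have hfi := inv_eq_self hff
    obtain ⟨d, hd⟩ : ∃ d, d = f * v * f⁻¹ * v⁻¹ := ⟨_, rfl⟩
    have hdx : d ∈ zpowers x := by
      have h1 := (Subgroup.mul_mem_iff_of_index_two hidx (a := (⟨f * v * f⁻¹, hfv⟩ : Q0))
        (b := (⟨v, hv⟩ : Q0)⁻¹)).2 (by
          rw [inv_mem_iff, mem_subgroupOf, mem_subgroupOf]
          change f * v * f⁻¹ ∈ zpowers x ↔ v ∈ zpowers x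
          constructor
          · intro h2
            have h3 := hconj f hf _ h2
            have h4 : f * (f * v * f⁻¹) * f⁻¹ = (f * f) * v * (f * f)⁻¹ := by group
            rw [h4, hff] at h3
            simpa using h3
          · exact hconj f hf v)
      rw [hd]
      exact h1
    have hdi : f * d * f⁻¹ = d⁻¹ := by
      rw [hd]
      calc f * (f * v * f⁻¹ * v⁻¹) * f⁻¹ = (f * f) * v * f⁻¹ * v⁻¹ * f⁻¹ := by group
        _ = v * f⁻¹ * v⁻¹ * f⁻¹ := by rw [hff, one_mul]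
        _ = v * f * v⁻¹ * f⁻¹ := by rw [hfi]
        _ = (f * v * f⁻¹ * v⁻¹)⁻¹ := by group
    rcases hB f hf hfw d hdx hdi with h1 | h1
    · left
      rw [hd] at h1
      exact mul_inv_eq_one.1 h1
    · right
      rw [hd] at h1
      exact mul_inv_eq_iff_eq_mul.1 h1
  exact ⟨Q0, hQ, fun v hv => fr.mem_of_two hz2 (hC a haP fr.aa haw v hv)
    (hC b hbP fr.bb hbw v hv)⟩

/-- `X_z ≤ M`, `z` the involution of a member: some member with the same involution has a Sylow 2-subgroup in `M`,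
or the exceptional outcome holds -/
theorem core {K : Subgroup G} (fr : Four T' M (zz K) a b) (h : Hyp Om) (hT : ∀ K ∈ Om, TyTwo K) (hK : K ∈ Om) :
    (∃ L ∈ Om, zz L = zz K ∧ ∃ Q, Syl Q L ∧ Q ≤ M) ∨ Exc T' K a b := by
  have hX := fr.XX_le
  have ha := fr.aa
  have hb := fr.bb
  have hab := fr.comm
  have hab2 : a * b * (a * b) = 1 := by
    calc a * b * (a * b) = a * (b * a) * b := by group
      _ = (a * a) * (b * b) := by rw [← hab]; group
      _ = 1 := by rw [ha, hb, one_mul]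
  have hzf : ∀ f : G, f * zz K = zz K * f → zz (cj f K) = zz K := by
    intro f hf
    rw [h.zz_cj hK, hf, mul_inv_cancel_right]
  -- a general step: `f` moves, `f0` fixes
  have step : ∀ f f0 : G, f * f = 1 → f0 * f0 = 1 → f0 * f = f * f0 → f * zz K = zz K * f →
      f0 * zz K = zz K * f0 → centralizer {f} ≤ M → centralizer {f0} ≤ M → centralizer {f0 * f} ≤ M →
      cj f K ≠ K → cj f0 K = K → (∃ L ∈ Om, zz L = zz K ∧ ∃ Q, Syl Q L ∧ Q ≤ M) ∨ Exc T' K a b := by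
    intro f f0 h1 h2 h3 h4 h5 h6 h7 h8 h9 h10
    left
    exact ⟨cj f K, h.conj K hK f, hzf f h4,
      exists_of_moved_fixed h h1 h2 h3 hK (hT _ (h.conj K hK f)) h4 h5 hX h6 h7 h8 h9 h10⟩
  have Ca := fr.Ca
  have Cb := fr.Cb
  have Cab := fr.Cab
  have e1 : a * (a * b) = b := by rw [← mul_assoc, ha, one_mul]
  have e2 : b * (a * b) = a := by rw [hab, ← mul_assoc, hb, one_mul]
  by_cases hma : cj a K = K
  · by_cases hmb : cj b K = K
    · rcases fr.of_fixed h hK hma hmb with h1 | h1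
      · exact Or.inl ⟨K, hK, rfl, h1⟩
      · exact Or.inr h1
    · exact step b a hb ha hab fr.bz fr.az Cb Ca Cab hmb hma
  · by_cases hmb : cj b K = K
    · exact step a b ha hb hab.symm fr.az fr.bz Ca Cb (by rw [← hab]; exact Cab) hma hmb
    · by_cases hmab : cj (a * b) K = K
      · refine step a (a * b) ha hab2 ?_ fr.az fr.abz Ca Cab ?_ hma hmab
        · rw [e1, hab, mul_assoc, ha, mul_one]
        · rw [hab, mul_assoc, ha, mul_one]
          exact Cb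
      · left
        obtain ⟨Q, hQ⟩ := Hyp.exists_syl K
        exact ⟨K, hK, rfl, Q, hQ, le_of_comm h hK (hT K hK) (fun l hl n hn =>
          comm_mem_of_regular h ha hb hK fr.az fr.bz hX Ca Cb hma hmb hmab hl hn) hQ⟩

/-- the exceptional outcome, for a subgroup `N` normalised by `T'` -/
theorem Exc.mem {K N : Subgroup G} (he : Exc T' K a b) (ha : a ∈ N) (hb : b ∈ N)
    (hN : T' ≤ normalizer (N : Set G)) : zz K ∈ N := by
  obtain ⟨w, hwT, -, -, f, hf, h1⟩ := he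
  have hf' : f ∈ N := by
    rcases hf with rfl | rfl
    · exact ha
    · exact hb
  have h2 : zz K = f * (w * f⁻¹ * w⁻¹) := by
    calc zz K = (zz K * w) * w⁻¹ := by group
      _ = (f * w * f⁻¹) * w⁻¹ := by rw [h1]
      _ = f * (w * f⁻¹ * w⁻¹) := by group
  rw [h2]
  exact mul_mem hf' ((mem_normalizer_iff.1 (hN hwT) _).1 (inv_mem hf'))

/-- `a, b ∈ N`, `N` normalised by `T'` : some member with involution `z_K` has a Sylow 2-subgroup in `M`, or
`z_K ∈ N` -/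
theorem mem_or {K N : Subgroup G} (fr : Four T' M (zz K) a b) (h : Hyp Om) (hT : ∀ K ∈ Om, TyTwo K) (hK : K ∈ Om)
    (ha : a ∈ N) (hb : b ∈ N) (hN : T' ≤ normalizer (N : Set G)) :
    (∃ L ∈ Om, zz L = zz K ∧ ∃ Q, Syl Q L ∧ Q ≤ M) ∨ zz K ∈ N :=
  (fr.core h hT hK).imp_right fun he => he.mem ha hb hN

/-- for a 2-subgroup `T ≥ T'` and `L ∈ Om(T)` the involution `z_L` is in `M` -/
theorem zz_mem (fr : Four T' M z a b) (h : Hyp Om) {T : Subgroup G} (hT : IsPGroup 2 T) (hT' : T' ≤ T)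
    {L : Subgroup G} (hL : L ∈ OmS Om T) : zz L ∈ M := by
  have ha := fr.aa
  have hb := fr.bb
  have hab := fr.comm
  have fix : ∀ f : G, centralizer {f} ≤ M → cj f L = L → zz L ∈ M := by
    intro f hf hfL
    exact hf (mem_centralizer_singleton_iff.2 (h.comm_zz hL.1 (mem_normalizer_iff_cj.2 hfL)).symm)
  by_cases hma : cj a L = L
  · exact fix a fr.Ca hma
  by_cases hmb : cj b L = L
  · exact fix b fr.Cb hmb
  by_cases hmab : cj (a * b) L = L
  · exact fix (a * b) fr.Cab hmab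
  have hne : cj a L ≠ cj b L := by
    intro h1
    apply hmab
    rw [cj_mul, ← h1, ← cj_mul, ha, cj_one]
  have haT : a ∈ normalizer (T : Set G) := le_normalizer (hT' fr.a_T)
  have hbT : b ∈ normalizer (T : Set G) := le_normalizer (hT' fr.b_T)
  have hLa : cj a L ∈ OmS Om T := cj_mem_OmS' h.conj haT hL
  have hLb : cj b L ∈ OmS Om T := cj_mem_OmS' h.conj hbT hL
  obtain ⟨c, v, n, hgq⟩ := h.exists_gq hL.1 (syl_inf hT hL)
  obtain ⟨q, hq, r, hr, -, -, -, hqr⟩ := hgq.exists_pair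
  have hqa : a * q * a⁻¹ ∈ cj a L ⊓ T := ⟨conj_mem_cj hq.1, (mem_normalizer_iff.1 haT q).1 hq.2⟩
  have hrb : b * r * b⁻¹ ∈ cj b L ⊓ T := ⟨conj_mem_cj hr.1, (mem_normalizer_iff.1 hbT r).1 hr.2⟩
  -- `q q^a ∈ C(a)`
  have fixed : ∀ f q : G, f * f = 1 → q * (f * q * f⁻¹) = (f * q * f⁻¹) * q → centralizer {f} ≤ M →
      q * (f * q * f⁻¹) ∈ M := by
    intro f q hf hq hC
    refine hC (mem_centralizer_singleton_iff.2 ?_)
    have h1 : f * (q * (f * q * f⁻¹)) * f⁻¹ = q * (f * q * f⁻¹) := by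
      calc f * (q * (f * q * f⁻¹)) * f⁻¹ = (f * q * f⁻¹) * ((f * f) * q * (f * f)⁻¹) := by group
        _ = (f * q * f⁻¹) * q := by rw [hf]; group
        _ = q * (f * q * f⁻¹) := hq.symm
    exact (mul_inv_eq_iff_eq_mul.1 h1).symm
  have h1 := fixed a q ha (h.comm hT hL hLa (Ne.symm hma) hq hqa) fr.Ca
  have h2 := fixed b r hb (h.comm hT hL hLb (Ne.symm hmb) hr hrb) fr.Cb
  have h3 : q * r * q⁻¹ * r⁻¹ ∈ M := by
    have tr : ∀ x y : G, x * y = y * x → x * y * x⁻¹ * y⁻¹ ∈ (⊥ : Subgroup G) := by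
      intro x y hxy
      rw [mem_bot, hxy]; group
    refine comm_mem_of_mod (C := ⊤) (X := ⊥) (H := M) ?_ bot_le (mem_top q) (mem_top r) h1 h2 ?_ ?_ ?_
    · rw [normalizer_eq_top]
    · exact tr _ _ (h.comm hT hLa hL hma hqa hr)
    · exact tr _ _ (h.comm hT hLa hLb hne hqa hrb)
    · exact tr _ _ (h.comm hT hL hLb (Ne.symm hmb) hq hrb)
  have h4 : q * r * q⁻¹ * r⁻¹ = zz L := by
    have h5 : q * r * zz L = zz L * (q * r) := h.comm_zz hL.1 (le_normalizer (L.mul_mem hq.1 hr.1))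
    calc q * r * q⁻¹ * r⁻¹ = q * r * (r * q)⁻¹ := by group
      _ = q * r * (q * r * zz L)⁻¹ := by rw [hqr]
      _ = (zz L)⁻¹ := by rw [h5]; group
      _ = zz L := h.zz_inv hL.1
  rwa [h4] at h3

end Four

/-! ### The frame of an involution of `M` -/

/-- the frame: `T'` Sylow in `C_M(z)`, `z ∈ T' ≤ S`, `a, b ∈ E(S)` commuting with `z` -/
structure Fr (Om : Set (Subgroup G)) (S T' M : Subgroup G) (z a b : G) : Prop where
  four : Four T' M z a b
  le : T' ≤ S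
  mem : z ∈ T'
  a_mem : a ∈ ES Om S
  b_mem : b ∈ ES Om S

section Frame

variable [Finite G] {Om : Set (Subgroup G)} {M : Subgroup G}

/-- Sylow's theorem in `M ≥ S` -/
theorem exists_le_cj_of_le (S : Sylow 2 G) (hSM : (S : Subgroup G) ≤ M) {R : Subgroup G} (hR : IsPGroup 2 R)
    (hRM : R ≤ M) : ∃ m ∈ M, R ≤ cj m S := by
  haveI : Fact (Nat.Prime 2) := ⟨Nat.prime_two⟩
  have h1 : Syl (S : Subgroup G) M :=
    ⟨hSM, S.isPGroup', fun h2 => S.not_dvd_index (h2.trans (relIndex_dvd_index_of_le hSM))⟩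
  obtain ⟨T, hT, hRT⟩ := Cit.exists_syl_ge hR hRM
  obtain ⟨m, hm, hmT⟩ := h1.exists_conj hT
  exact ⟨m, hm, by rw [hmT]; exact hRT⟩

theorem exists_fr (h : Hyp Om) (S : Sylow 2 G) (hc : Clo Om (S : Subgroup G) M) {z : G} (hz : z ∈ M)
    (hz2 : z * z = 1) : ∃ m ∈ M, ∃ T' a b, Fr Om (cj m (S : Subgroup G)) T' M z a b := by
  haveI : Fact (Nat.Prime 2) := ⟨Nat.prime_two⟩
  have hz2' : IsPGroup 2 (zpowers z) := by
    rintro ⟨x, hx⟩
    obtain ⟨k, rfl⟩ := mem_zpowers_iff.1 hx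
    refine ⟨1, Subtype.ext ?_⟩
    change (z ^ k) ^ 2 ^ 1 = 1
    rw [pow_one, pow_two, ← (Commute.refl z).mul_zpow, hz2, one_zpow]
  have hzC : zpowers z ≤ M ⊓ centralizer {z} :=
    zpowers_le.2 ⟨hz, mem_centralizer_singleton_iff.2 rfl⟩
  obtain ⟨T', hT', hzT'⟩ := Cit.exists_syl_ge hz2' hzC
  obtain ⟨m, hm, hmT'⟩ := exists_le_cj_of_le S (hc.le h S.isPGroup') hT'.2.1 (hT'.1.trans inf_le_left)
  have hS2 : IsPGroup 2 (cj m (S : Subgroup G)) := isPGroup_cj S.isPGroup'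
  have hc2 : Clo Om (cj m (S : Subgroup G)) M := hc.cj h hm
  have hzT : z ∈ T' := hzT' (mem_zpowers z)
  have hn : cj m (S : Subgroup G) ≤ normalizer (ES Om (cj m (S : Subgroup G)) : Set G) :=
    Clo.le_normalizer h hS2
  obtain ⟨a, ha, b, hb, ha1, hb1, hab, haz, hbz⟩ := exists_two_fixed (fun a ha b hb => ES_comm h hS2 ha hb)
    (fun a ha => ES_sq h hS2 ha) hc2.card hz2 (hn (hmT' hzT))
  have hF : ES Om (cj m (S : Subgroup G)) ⊓ centralizer {z} ≤ T' := by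
    refine syl_le_of_normalizes hT' (hS2.to_le (inf_le_left.trans (ES_le h hS2)))
      (inf_le_inf_right _ ((ES_le h hS2).trans (hc2.le h hS2))) ?_
    intro t ht
    rw [mem_normalizer_iff_cj, cj_inf, mem_normalizer_iff_cj.1 (hn (hmT' ht)),
      mem_normalizer_iff_cj.1 (Subgroup.le_normalizer (hT'.1 ht).2)]
  have haa := ES_sq h hS2 ha
  have hab' : a * b ≠ 1 := by
    intro h1
    apply hab
    rw [eq_inv_of_mul_eq_one_right h1, inv_eq_self haa]
  exact ⟨m, hm, T', a, b, ⟨hT', hF ⟨ha, mem_centralizer_singleton_iff.2 haz⟩,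
    hF ⟨hb, mem_centralizer_singleton_iff.2 hbz⟩, haa, ES_sq h hS2 hb, ES_comm h hS2 ha hb, hc2.cen a ha ha1,
    hc2.cen b hb hb1, hc2.cen _ (mul_mem ha hb) hab'⟩, hmT', hzT, ha, hb⟩

/-- the exceptional outcome gives `z ∈ E(S)` -/
theorem Fr.mem_of_exc {S T' : Subgroup G} {a b : G} {K : Subgroup G} (fr : Fr Om S T' M (zz K) a b) (h : Hyp Om)
    (hS : IsPGroup 2 S) (he : Four.Exc T' K a b) : zz K ∈ ES Om S := by
  exact he.mem fr.a_mem fr.b_mem (fr.le.trans (Clo.le_normalizer h hS))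

end Frame

/-! ### (H2z) -/

section Main

variable [Finite G] {Om : Set (Subgroup G)} {M : Subgroup G}

theorem coe_smul (S : Sylow 2 G) (m : G) : ((m • S : Sylow 2 G) : Subgroup G) = cj m (S : Subgroup G) := rfl

/-- **(H2z)** the involutions `z_K` in `M` are `M`-conjugate into `E(S)` -/
theorem Clo.exists_mem (h : Hyp Om) (hT : ∀ K ∈ Om, TyTwo K) (S : Sylow 2 G) (hc : Clo Om (S : Subgroup G) M)
    {K : Subgroup G} (hK : K ∈ Om) (hz : zz K ∈ M) : ∃ m ∈ M, zz K ∈ Cit.cj m (ES Om (S : Subgroup G)) := by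
  obtain ⟨m, hm, T', a, b, fr⟩ := exists_fr h S hc hz (h.zz_mul hK)
  have hS2 : IsPGroup 2 (Cit.cj m (S : Subgroup G)) := isPGroup_cj S.isPGroup'
  rcases fr.four.core h hT hK with ⟨L, hL, hLz, Q, hQ, hQM⟩ | h1
  · obtain ⟨m', hm', hQm⟩ := exists_le_cj_of_le S (hc.le h S.isPGroup') hQ.2.1 hQM
    refine ⟨m', hm', ?_⟩
    rw [cj_ES h, ← hLz]
    exact zz_mem_ES (mem_OmS_of_le hL hQ hQm)
  · exact ⟨m, hm, by rw [cj_ES h]; exact fr.mem_of_exc h hS2 h1⟩

/-- the centralisers of the involutions `z_K ∈ M` are in `M` -/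
theorem Clo.centralizer_zz_le (h : Hyp Om) (hT : ∀ K ∈ Om, TyTwo K) (S : Sylow 2 G)
    (hc : Clo Om (S : Subgroup G) M) {K : Subgroup G} (hK : K ∈ Om) (hz : zz K ∈ M) :
    centralizer {zz K} ≤ M := by
  obtain ⟨m, hm, h1⟩ := Clo.exists_mem h hT S hc hK hz
  refine (hc.cj h hm).cen _ ?_ (h.zz_ne hK)
  rw [← cj_ES h]
  exact h1

/-! ### (H2) -/

/-- `g` conjugates a non-trivial element of `E(S)` into `E(S)`: then `g ∈ M` -/
theorem Clo.mem_of_conj_mem (h : Hyp Om) (S : Sylow 2 G) (hc : Clo Om (S : Subgroup G) M) {e g : G}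
    (he : e ∈ ES Om (S : Subgroup G)) (he1 : e ≠ 1) (hg : g * e * g⁻¹ ∈ ES Om (S : Subgroup G)) : g ∈ M := by
  have hD := DD_le_centralizer_ES h S.isPGroup'
  have key : ∀ x ∈ ES Om (S : Subgroup G), DD Om (S : Subgroup G) ≤ centralizer {x} := fun x hx =>
    hD.trans (centralizer_le (Set.singleton_subset_iff.2 hx))
  obtain ⟨c, hcc, hgc⟩ := control h.conj S (A := {e}) (g := g) (key e he) (by
    intro x hx
    rw [Set.mem_singleton_iff] at hx
    rw [hx]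
    exact key _ hg)
  have h1 := hc.nor (normalizer_DD_le h S.isPGroup' hgc)
  have h2 : g = (g * c) * c⁻¹ := by group
  rw [h2]
  exact M.mul_mem h1 (M.inv_mem (hc.cen e he he1 hcc))

/-- `g` conjugates a non-trivial element of `E(S)` into an `M`-conjugate of `E(S)`: then `g ∈ M` -/
theorem Clo.mem_of_conj_mem_cj (h : Hyp Om) (S : Sylow 2 G) (hc : Clo Om (S : Subgroup G) M) {e g m : G}
    (he : e ∈ ES Om (S : Subgroup G)) (he1 : e ≠ 1) (hm : m ∈ M)
    (hg : g * e * g⁻¹ ∈ Cit.cj m (ES Om (S : Subgroup G))) : g ∈ M := by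
  rw [mem_cj] at hg
  have h1 : m⁻¹ * (g * e * g⁻¹) * m = (m⁻¹ * g) * e * (m⁻¹ * g)⁻¹ := by group
  rw [h1] at hg
  have h2 := Clo.mem_of_conj_mem h S hc he he1 hg
  have h3 : g = m * (m⁻¹ * g) := by group
  rw [h3]
  exact M.mul_mem hm h2

/-- **(H2)** `e ∈ E(S)`, `e ≠ 1`, `g e g⁻¹ ∈ M` implies `g ∈ M` -/
theorem Clo.mem_of_conj (h : Hyp Om) (hT : ∀ K ∈ Om, TyTwo K) (S : Sylow 2 G) (hc : Clo Om (S : Subgroup G) M)
    {e g : G} (he : e ∈ ES Om (S : Subgroup G)) (he1 : e ≠ 1) (hg : g * e * g⁻¹ ∈ M) : g ∈ M := by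
  haveI : Fact (Nat.Prime 2) := ⟨Nat.prime_two⟩
  obtain ⟨t, ht⟩ : ∃ t, t = g * e * g⁻¹ := ⟨_, rfl⟩
  rw [← ht] at hg
  have he2 := ES_sq h S.isPGroup' he
  have ht2 : t * t = 1 := by
    calc t * t = g * (e * e) * g⁻¹ := by rw [ht]; group
      _ = 1 := by rw [he2]; group
  have ht1 : t ≠ 1 := by
    rw [ht]; exact conj_ne_one he1
  obtain ⟨m, hm, T', a, b, fr⟩ := exists_fr h S hc hg ht2
  have hS2 : IsPGroup 2 (Cit.cj m (S : Subgroup G)) := isPGroup_cj S.isPGroup'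
  obtain ⟨T, hTC, hT'T⟩ := Cit.exists_syl_ge fr.four.syl.2.1 (fr.four.syl.1.trans inf_le_right)
  -- a conjugate of `D(S)` in `T`
  have hD := DD_le_centralizer_ES h S.isPGroup'
  have hDe : DD Om (S : Subgroup G) ≤ centralizer {e} :=
    hD.trans (centralizer_le (Set.singleton_subset_iff.2 he))
  have hDg : Cit.cj g (DD Om (S : Subgroup G)) ≤ centralizer {t} := by
    have := cj_mono g hDe
    rwa [cj_centralizer, ← ht] at this
  obtain ⟨T1, hT1, hDT1⟩ := Cit.exists_syl_ge (isPGroup_cj (g := g) (S.isPGroup'.to_le DD_le)) hDg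
  obtain ⟨c, hcC, hcT⟩ := hT1.exists_conj hTC
  have hct : c * t = t * c := mem_centralizer_singleton_iff.1 hcC
  obtain ⟨x, hx⟩ : ∃ x, x = c * g := ⟨_, rfl⟩
  have hxT : Cit.cj x (DD Om (S : Subgroup G)) ≤ T := by
    rw [hx, cj_mul, ← hcT]
    exact cj_mono c hDT1
  have hxD : DD Om ((x • S : Sylow 2 G) : Subgroup G) ≤ T := by
    have h1 : Cit.cj x (DD Om (S : Subgroup G)) = DD Om ((x • S : Sylow 2 G) : Subgroup G) := cj_DD h.conj x
    rwa [← h1]
  have hEx : ES Om T = Cit.cj x (ES Om (S : Subgroup G)) := by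
    rw [ES_eq_of_OmS_eq (OmS_eq_of_sylow h.conj (x • S) hTC.2.1 hxD), cj_ES h]
    rfl
  have htx : t = x * e * x⁻¹ := by
    calc t = (c * t) * c⁻¹ := by rw [hct]; group
      _ = x * e * x⁻¹ := by rw [hx, ht]; group
  have htT : t ∈ ES Om T := by
    rw [hEx, htx]
    exact conj_mem_cj he
  have hne : (OmS Om T).Nonempty := by
    by_contra h1
    rw [Set.not_nonempty_iff_eq_empty] at h1
    rw [ES, h1, Set.image_empty, Subgroup.closure_empty, mem_bot] at htT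
    exact ht1 htT
  obtain ⟨L, hL⟩ := hne
  have hLM : zz L ∈ M := fr.four.zz_mem h hTC.2.1 hT'T hL
  -- `zz L = x e1 x⁻¹`, `e1 ∈ E(S)`
  have hLE : zz L ∈ Cit.cj x (ES Om (S : Subgroup G)) := by
    rw [← hEx]; exact zz_mem_ES hL
  rw [mem_cj] at hLE
  have hL1 : x⁻¹ * zz L * x ≠ 1 := by
    have := conj_ne_one (g := x⁻¹) (h.zz_ne hL.1)
    rwa [inv_inv] at this
  obtain ⟨m', hm', hLm'⟩ := Clo.exists_mem h hT S hc hL.1 hLM
  have hxM : x ∈ M := by
    refine Clo.mem_of_conj_mem_cj h S hc hLE hL1 hm' ?_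
    have h1 : x * (x⁻¹ * zz L * x) * x⁻¹ = zz L := by group
    rw [h1]
    exact hLm'
  refine Clo.mem_of_conj_mem_cj h S hc he he1 hxM ?_
  rw [← ht, htx]
  exact conj_mem_cj he

/-- a non-trivial element of `E(S)` -/
theorem Clo.exists_ne {S : Subgroup G} (hc : Clo Om S M) : ∃ e ∈ ES Om S, e ≠ 1 := by
  by_contra hcon
  push Not at hcon
  have h1 : ES Om S = ⊥ := (eq_bot_iff_forall _).2 hcon
  have h2 := hc.card
  rw [h1, card_bot] at h2
  omega

/-- `M` is self-normalising -/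
theorem Clo.normalizer_le (h : Hyp Om) (hT : ∀ K ∈ Om, TyTwo K) (S : Sylow 2 G) (hc : Clo Om (S : Subgroup G) M) :
    normalizer (M : Set G) ≤ M := by
  obtain ⟨e, he, he1⟩ := hc.exists_ne
  intro g hg
  refine Clo.mem_of_conj h hT S hc he he1 ((mem_normalizer_iff.1 hg e).1 ?_)
  exact hc.le h S.isPGroup' (ES_le h S.isPGroup' he)

/-- **(H2) for the involutions `z_K ∈ M`** -/
theorem Clo.mem_of_conj_zz (h : Hyp Om) (hT : ∀ K ∈ Om, TyTwo K) (S : Sylow 2 G) (hc : Clo Om (S : Subgroup G) M)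
    {K : Subgroup G} (hK : K ∈ Om) (hz : zz K ∈ M) {g : G} (hg : g * zz K * g⁻¹ ∈ M) : g ∈ M := by
  obtain ⟨m, hm, h1⟩ := Clo.exists_mem h hT S hc hK hz
  rw [mem_cj] at h1
  have h2 : m⁻¹ * zz K * m ≠ 1 := by
    have := conj_ne_one (g := m⁻¹) (h.zz_ne hK)
    rwa [inv_inv] at this
  have h3 := Clo.mem_of_conj h hT S hc (g := g * m) h1 h2 (by
    have h4 : g * m * (m⁻¹ * zz K * m) * (g * m)⁻¹ = g * zz K * g⁻¹ := by group
    rw [h4]
    exact hg)
  have h5 : g = (g * m) * m⁻¹ := by group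
  rw [h5]
  exact M.mul_mem h3 (M.inv_mem hm)

/-- every involution `z_L` commuting with some `z_K ∈ M` is in `M` -/
theorem Clo.zz_mem_of_comm (h : Hyp Om) (hT : ∀ K ∈ Om, TyTwo K) (S : Sylow 2 G) (hc : Clo Om (S : Subgroup G) M)
    {K : Subgroup G} (hK : K ∈ Om) (hz : zz K ∈ M) {y : G} (hy : y * zz K = zz K * y) : y ∈ M :=
  Clo.centralizer_zz_le h hT S hc hK hz (mem_centralizer_singleton_iff.2 hy)

end Main

end Cfsg.Agent.Cit.CloseFus
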