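import Cfsg.Agent.Cit.CoresG
import Cfsg.Agent.Cit.LemmaB

/-!
# COROLLARY E: the members have trivial cores

`G` as in `CoresG`, `|E| ≥ 8`: `O(K) = 1` for all `K ∈ Om(S)`, and `K` centralises `O(C(z_K))` if `K` is perfect.
-/

set_option autoImplicit false
set_option linter.style.haveILetI false
set_option linter.unusedSectionVars false

namespace Cfsg.Agent.Cit.CoresCore

open Subgroup Cfsg Cfsg.Agent.Cit SubCent UseT Cfsg.Agent.Cit.Comp CoreTwoB TorFunctor CoresG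
open scoped commutatorElement

universe u

section

variable {G : Type u} [Group G] [Finite G] {Om : Set (Subgroup G)} {S K : Subgroup G}

/-- `O(K) ⊓ C(s) ≤ O(C(s))` if `K ⊓ C(s)` is reduced -/
theorem OO_inf_le_XX (h : Hyp Om) (hS : IsPGroup 2 S) (hK : K ∈ OmS Om S) {s : G}
    (hs : s ∈ ES Om S) (hp : HasPieces (fam Om (centralizer {s})))
    (hrd : rd (K.subgroupOf (centralizer {s})) = K.subgroupOf (centralizer {s})) :
    OO K ⊓ centralizer {s} ≤ XX s := by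
  rintro x ⟨hx, hxs⟩
  have hc := mem_cov h hS hK hs
  have h1 := hp.core _ (tr_mem hc)
  have h2 : qm (centralizer {s}) ⟨x, hxs⟩ ∈ OO (tr (centralizer {s}) K) := by
    rw [tr, hrd]
    refine map_OO_le _ _ ⟨⟨x, hxs⟩, ?_, rfl⟩
    rw [OO_subgroupOf hc]
    exact hx
  rw [h1, mem_bot] at h2
  exact (mem_ker_iff _).1 h2

theorem rd_of_isT (h : Hyp Om) (hS : IsPGroup 2 S) (hK : K ∈ OmS Om S) {s : G}
    (hs : s ∈ ES Om S) (hT : SolvTwo.IsT K) :
    rd (K.subgroupOf (centralizer {s})) = K.subgroupOf (centralizer {s}) :=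
  RdOm.rd_eq_self (Or.inl (TyTrans.isT_of_quot (SubCent.quotEquiv (CoresG.mem_cov h hS hK hs)).symm hT))

theorem rd_of_perfect (h : Hyp Om) (hS : IsPGroup 2 S) (hK : K ∈ OmS Om S) {s : G}
    (hs : s ∈ ES Om S) (ty : IsType K) (hper : ⁅K, K⁆ = K) (hle : K ≤ centralizer {s}) :
    rd (K.subgroupOf (centralizer {s})) = K.subgroupOf (centralizer {s}) := by
  refine RdOm.rd_eq_self (Or.inr ⟨TyTrans.isType_of_quot (SubCent.quotEquiv (CoresG.mem_cov h hS hK hs)).symm ty, ?_⟩)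
  apply TyTrans.perfect_of_restr
  rw [map_subgroupOf_eq_of_le hle, hper]

theorem ES_le_normalizer_OO (h : Hyp Om) (hS : IsPGroup 2 S) (hK : K ∈ OmS Om S) :
    ES Om S ≤ normalizer (OO K : Set G) := by
  intro e he
  have h1 := h.DD_le_normalizer hS hK (ES_le_DD h hS he)
  rw [mem_normalizer_iff_cj] at h1 ⊢
  rw [← OO_cj, h1]

theorem XX_le_centralizer_ES (h : Hyp Om) (hS : IsPGroup 2 S) {s : G}
    (hQ : ∀ K ∈ OmS Om S, ⁅XX s, K ⊓ S⁆ = ⊥) : XX s ≤ centralizer (ES Om S : Set G) := by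
  rw [le_centralizer_iff, ES_le_iff]
  intro K hK
  have h1 := hQ K hK
  rw [commutator_comm, commutator_eq_bot_iff_le_centralizer] at h1
  exact h1 (h.zz_mem_inf hS hK)

/-- `O(K) ≤ O(C(z_K))` -/
theorem OO_le_XX (h : Hyp Om) (hK : K ∈ Om) : OO K ≤ XX (zz K) := by
  refine LB.le_OO_of_subnormal ((OO_le K).trans (h.le_centralizer hK)) ?_ (odd_OO K)
  have h1 : (((OO K).subgroupOf (centralizer {zz K})).subgroupOf (K.subgroupOf (centralizer {zz K}))).Normal := by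
    refine (normal_subgroupOf_iff_le_normalizer ?_).2 ?_
    · exact Subgroup.comap_mono (OO_le K)
    · intro g hg
      have h2 := le_normalizer_OO K (mem_subgroupOf.1 hg)
      rw [mem_normalizer_iff_cj] at h2 ⊢
      rw [← UseT.cj_subgroupOf, h2]
  exact IsSubnormal.step _ _ (Subgroup.comap_mono (OO_le K)) (h.sub K hK) h1

/-- a perfect group acting on `X` such that a Sylow 2-subgroup acts trivially acts trivially -/
theorem le_centralizer_of_perfect (hodd : OddStmt.{u}) {X Q : Subgroup G} (hper : ⁅K, K⁆ = K)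
    (hKX : K ≤ normalizer (X : Set G)) (hQ : Syl Q K) (hQX : Q ≤ centralizer (X : Set G)) :
    K ≤ centralizer (X : Set G) := by
  set N := (K ⊓ centralizer (X : Set G)).subgroupOf K with hN
  have hNn : N.Normal := by
    refine (normal_subgroupOf_iff_le_normalizer inf_le_left).2 ?_
    intro g hg
    rw [mem_normalizer_iff_cj, cj_inf, mem_normalizer_iff_cj.1 (le_normalizer hg)]
    congr 1
    apply eq_of_le_of_card_ge _ (by rw [card_cj])
    rintro _ ⟨y, hy, rfl⟩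
    exact CoresComm.conj_mem_centralizer (hKX hg) hy
  have h1 : ¬ 2 ∣ Nat.card (K ⧸ N) := by
    intro h2
    apply hQ.2.2
    have h3 : N.index ∣ Q.relIndex K := by
      have h4 : (K ⊓ centralizer (X : Set G)).relIndex K ∣ Q.relIndex K :=
        relIndex_dvd_of_le_left K (le_inf hQ.1 hQX)
      exact h4
    exact h2.trans h3
  have h2 : Group.IsSolvable (K ⧸ N) := hodd (K ⧸ N) h1
  have h3 : Group.IsPerfect K := by
    refine ⟨?_⟩
    rw [commutator_def, ← Subgroup.map_injective K.subtype_injective |>.eq_iff, map_commutator,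
      ← MonoidHom.range_eq_map, range_subtype, hper]
  have h4 : Group.IsPerfect (K ⧸ N) :=
    Group.IsPerfect.ofSurjective (f := QuotientGroup.mk' N) (QuotientGroup.mk'_surjective N)
  have h5 : Subsingleton (K ⧸ N) := by
    by_contra hns
    rw [not_subsingleton_iff_nontrivial] at hns
    exact Group.IsPerfect.not_isSolvable (K ⧸ N) h2
  have h6 : N = ⊤ := by
    rw [← index_eq_one]
    exact Nat.card_unique
  exact (subgroupOf_eq_top.1 h6).trans inf_le_right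

/-! ### The output of COROLLARY E -/

/-- the output of COROLLARY E -/
structure CorE (Om : Set (Subgroup G)) (S : Subgroup G) : Prop where
  card : 8 ≤ Nat.card (ES Om S)
  pieces : ∀ s ∈ ES Om S, s ≠ 1 → HasPieces (fam Om (centralizer {s}))
  comm : ∀ s ∈ ES Om S, s ≠ 1 → ∀ K ∈ OmS Om S, ⁅XX s, K ⊓ S⁆ = ⊥
  del : ∀ B ≤ ES Om S, Nat.card B = 4 → Del B = ⊥
  four : ∃ B ≤ ES Om S, Nat.card B = 4

/-- `D(E) = 1` gives the output -/
theorem corE_of_DF (hodd : OddStmt.{u}) (hfix : FixStmt.{u}) (hct : CTStmt.{u}) (h : Hyp Om)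
    (ty : ∀ K ∈ Om, IsType K) (hS : IsPGroup 2 S) (h8 : 8 ≤ Nat.card (ES Om S))
    (hp : ∀ s ∈ ES Om S, s ≠ 1 → HasPieces (fam Om (centralizer {s}))) (hD : DF (ES Om S) = ⊥) : CorE Om S where
  card := h8
  pieces := hp
  comm s hs hs1 K hK := by
    have h1 := (tor_ES hodd hfix hct h ty hS h8 hp).commutator_Q_le (Q := K ⊓ S)
      (hS.to_le inf_le_right)
      (fun q hq a ha => (mem_centralizer_iff.1 (DD_le_centralizer_ES h hS (inf_le_DD hK hq)) a ha).symm)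
      (fun a ha _ b hb hb1 => commutator_Q_le hct h ty hS hb (hp b hb hb1) hK ha) hs hs1
    rwa [hD, le_bot_iff] at h1
  del B hB h4 := by
    have h1 := Dl_le_DF' hB h4
    rwa [hD, le_bot_iff] at h1
  four := (tor_ES hodd hfix hct h ty hS h8 hp).exists_four_le

theorem corE (hodd : OddStmt.{u}) (hfix : FixStmt.{u}) (hct : CTStmt.{u}) (h : Hyp Om)
    (ty : ∀ K ∈ Om, IsType K) (hne : Om.Nonempty)
    (hcon : ∀ K ∈ Om, ∀ L ∈ Om, Relation.ReflTransGen (Adj Om) K L)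
    (hO : ∀ N : Subgroup G, N.Normal → ¬ 2 ∣ Nat.card N → N = ⊥)
    (hp : ∀ s : G, orderOf s = 2 → HasPieces (fam Om (centralizer {s})))
    (S : Sylow 2 G) (h8 : 8 ≤ Nat.card (ES Om (S : Subgroup G))) : CorE Om (S : Subgroup G) :=
  corE_of_DF hodd hfix hct h ty S.isPGroup' h8
    (fun s hs hs1 => hp s (orderOf_two (ES_sq h S.isPGroup' hs) hs1))
    (DF_eq_bot hodd hfix hct h ty hne hcon hO hp S h8)

/-! ### Without connectivity: the normaliser of `D(E)` -/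

/-- `N(E) ≤ N(D(E))` -/
theorem normalizer_ES_le (hodd : OddStmt.{u}) (hfix : FixStmt.{u}) (hct : CTStmt.{u}) (h : Hyp Om)
    (ty : ∀ K ∈ Om, IsType K) (hS : IsPGroup 2 S) (h8 : 8 ≤ Nat.card (ES Om S))
    (hp : ∀ s ∈ ES Om S, s ≠ 1 → HasPieces (fam Om (centralizer {s}))) :
    normalizer (ES Om S : Set G) ≤ normalizer (DF (ES Om S) : Set G) :=
  (tor_ES hodd hfix hct h ty hS h8 hp).normalizer_le le_rfl (by omega)

/-- `C(e) ≤ N(D(E))` for all `e ∈ E`, `e ≠ 1` -/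
theorem centralizer_le_normalizer_DF (hodd : OddStmt.{u}) (hfix : FixStmt.{u}) (hct : CTStmt.{u}) (h : Hyp Om)
    (ty : ∀ K ∈ Om, IsType K) (S : Sylow 2 G) (h8 : 8 ≤ Nat.card (ES Om (S : Subgroup G)))
    (hp : ∀ s ∈ ES Om (S : Subgroup G), s ≠ 1 → HasPieces (fam Om (centralizer {s}))) {e : G}
    (he : e ∈ ES Om (S : Subgroup G)) (he1 : e ≠ 1) :
    centralizer {e} ≤ normalizer (DF (ES Om (S : Subgroup G)) : Set G) := by
  have hS := S.isPGroup'
  have d := cdata hodd hfix hct h ty hS h8 hp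
  exact d.out.centralizer_le_of_gen h S d.sq d.comm (d.normalizer_le h S) he he1 (LL_normal h ty _)
    (DD_le_LL h ty hS he) (LL_le h ty hS h8 he (hp e he he1))

/-- **COROLLARY E from (M1)** : it is enough that no proper subgroup `M` contains `N(E)` and all `C(e)`, `e ∈ E`,
`e ≠ 1` -/
theorem corE_of_M (hodd : OddStmt.{u}) (hfix : FixStmt.{u}) (hct : CTStmt.{u}) (h : Hyp Om)
    (ty : ∀ K ∈ Om, IsType K) (hO : ∀ N : Subgroup G, N.Normal → ¬ 2 ∣ Nat.card N → N = ⊥)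
    (S : Sylow 2 G) (h8 : 8 ≤ Nat.card (ES Om (S : Subgroup G)))
    (hp : ∀ s ∈ ES Om (S : Subgroup G), s ≠ 1 → HasPieces (fam Om (centralizer {s})))
    (hM : ∀ M : Subgroup G, normalizer (ES Om (S : Subgroup G) : Set G) ≤ M →
      (∀ e ∈ ES Om (S : Subgroup G), e ≠ 1 → centralizer {e} ≤ M) → M = ⊤) : CorE Om (S : Subgroup G) := by
  have hS := S.isPGroup'
  refine corE_of_DF hodd hfix hct h ty hS h8 hp ?_
  refine hO _ ?_ (tor_ES hodd hfix hct h ty hS h8 hp).odd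
  rw [← normalizer_eq_top_iff]
  exact hM _ (normalizer_ES_le hodd hfix hct h ty hS h8 hp)
    (fun e he he1 => centralizer_le_normalizer_DF hodd hfix hct h ty S h8 hp he he1)

namespace CorE

variable (c : CorE Om S)
include c

theorem XX_le (h : Hyp Om) (hS : IsPGroup 2 S) {s : G} (hs : s ∈ ES Om S) (hs1 : s ≠ 1) :
    XX s ≤ centralizer (ES Om S : Set G) := XX_le_centralizer_ES h hS (c.comm s hs hs1)

/-- an element of all `O(C(s))`, `s ∈ E`, `s ≠ 1`, is trivial -/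
theorem eq_one {x : G} (hx : ∀ s ∈ ES Om S, s ≠ 1 → x ∈ XX s) : x = 1 := by
  obtain ⟨B, hB, h4⟩ := c.four
  have h1 : x ∈ Del B := mem_Del.2 fun b hb hb1 => hx b (hB hb) hb1
  rwa [c.del B hB h4, mem_bot] at h1

theorem elem (h : Hyp Om) (hS : IsPGroup 2 S) : IsElementaryAbelian 2 (ES Om S) :=
  ⟨⟨⟨fun x y => Subtype.ext (ES_comm h hS x.2 y.2)⟩⟩, fun x hx => by rw [pow_two]; exact ES_sq h hS hx⟩

/-- type `SL₂(3)` -/
theorem OO_eq_bot_of_isT (h : Hyp Om) (hS : IsPGroup 2 S) (hK : K ∈ OmS Om S) (hT : SolvTwo.IsT K) :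
    OO K = ⊥ := by
  haveI : Fact (Nat.Prime 2) := ⟨Nat.prime_two⟩
  have h1 : ∀ s ∈ ES Om S, s ≠ 1 → OO K ⊓ centralizer {s} ≤ XX s := fun s hs hs1 =>
    OO_inf_le_XX h hS hK hs (c.pieces s hs hs1) (rd_of_isT h hS hK hs hT)
  have h2 : ∀ s ∈ ES Om S, s ≠ 1 → OO K ⊓ centralizer {s} = ⊥ := by
    intro s hs hs1
    rw [eq_bot_iff]
    intro x hx
    have h3 := c.XX_le h hS hs hs1 (h1 s hs hs1 hx)
    rw [mem_bot]
    exact c.eq_one fun t ht ht1 => h1 t ht ht1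
      ⟨hx.1, mem_centralizer_singleton_iff.2 (mem_centralizer_iff.1 h3 t ht).symm⟩
  have hE1 : ES Om S ≠ ⊥ := by
    intro h3
    have h4 := c.card
    rw [h3, card_bot] at h4
    omega
  rw [← Cfsg.Agent.Lib.CoprimeHyperplane.iSup_centralizer_hyperplane (c.elem h hS) hE1 (odd_OO K)
    (ES_le_normalizer_OO h hS hK), eq_bot_iff]
  refine iSup_le fun B => ?_
  obtain ⟨B, hB, hi⟩ := B
  obtain ⟨b, hb, hb1⟩ : ∃ b ∈ B, b ≠ 1 := by
    by_contra hcon
    push Not at hcon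
    have h3 : B = ⊥ := by
      rw [eq_bot_iff]; exact fun x hx => mem_bot.2 (hcon x hx)
    rw [h3, relIndex_bot_left] at hi
    have h4 := c.card
    omega
  rw [← h2 b (hB hb) hb1]
  exact inf_le_inf_left _ (centralizer_le (Set.singleton_subset_iff.2 hb))

/-- a perfect member centralises `O(C(z_K))` -/
theorem le_centralizer_XX (hodd : OddStmt.{u}) (h : Hyp Om) (hS : IsPGroup 2 S) (hK : K ∈ OmS Om S)
    (hper : ⁅K, K⁆ = K) : K ≤ centralizer (XX (zz K) : Set G) := by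
  refine le_centralizer_of_perfect hodd hper
    ((h.le_centralizer hK.1).trans (centralizer_le_normalizer_XX _)) (syl_inf hS hK) ?_
  have h1 := c.comm (zz K) (zz_mem_ES hK) (h.zz_ne hK.1) K hK
  rwa [commutator_comm, commutator_eq_bot_iff_le_centralizer] at h1

theorem le_centralizer_OO (hodd : OddStmt.{u}) (h : Hyp Om) (hS : IsPGroup 2 S) (hK : K ∈ OmS Om S)
    (hper : ⁅K, K⁆ = K) : K ≤ centralizer (OO K : Set G) :=
  (c.le_centralizer_XX hodd h hS hK hper).trans (centralizer_le (OO_le_XX h hK.1))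

/-- a perfect member is centralised by `E` -/
theorem le_centralizer_ES (hodd : OddStmt.{u}) (h : Hyp Om) (hS : IsPGroup 2 S) (hK : K ∈ OmS Om S)
    (hper : ⁅K, K⁆ = K) {s : G} (hs : s ∈ ES Om S) : K ≤ centralizer {s} := by
  have hcen := c.le_centralizer_OO hodd h hS hK hper
  conv_lhs => rw [← hper]
  rw [Subgroup.commutator_le]
  intro x hx y hy
  -- `s x s⁻¹ = a x`, `s y s⁻¹ = b y` with `a, b ∈ O(K)` central in `K`
  have key : ∀ k ∈ K, ∃ a ∈ OO K, s * k * s⁻¹ = a * k := by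
    intro k hk
    have h1 := commutator_ES_le h hS hK (commutator_mem_commutator hk hs)
    refine ⟨⁅k, s⁆⁻¹, inv_mem h1, ?_⟩
    rw [commutatorElement_def]
    group
  obtain ⟨a, ha, hax⟩ := key x hx
  obtain ⟨b, hb, hby⟩ := key y hy
  have hc : ∀ z ∈ OO K, ∀ k ∈ K, z * k = k * z := fun z hz k hk => mem_centralizer_iff.1 (hcen hk) z hz
  rw [mem_centralizer_singleton_iff]
  have h1 : s * ⁅x, y⁆ * s⁻¹ = ⁅x, y⁆ := by
    have h2 : s * ⁅x, y⁆ * s⁻¹ = ⁅s * x * s⁻¹, s * y * s⁻¹⁆ := by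
      simp only [commutatorElement_def]; group
    rw [h2, hax, hby, commutatorElement_def, commutatorElement_def]
    have hbK := OO_le K hb
    calc a * x * (b * y) * (a * x)⁻¹ * (b * y)⁻¹
        = a * x * b * y * x⁻¹ * a⁻¹ * y⁻¹ * b⁻¹ := by group
      _ = a * (x * b) * y * x⁻¹ * a⁻¹ * y⁻¹ * b⁻¹ := by group
      _ = a * (b * x) * y * x⁻¹ * (a⁻¹ * y⁻¹) * b⁻¹ := by rw [← hc b hb x hx]; group
      _ = a * (b * x) * y * x⁻¹ * (y⁻¹ * a⁻¹) * b⁻¹ := by rw [hc a⁻¹ (inv_mem ha) y⁻¹ (inv_mem hy)]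
      _ = (a * b) * (x * y * x⁻¹ * y⁻¹) * (a⁻¹ * b⁻¹) := by group
      _ = (x * y * x⁻¹ * y⁻¹) * (a * b) * (a⁻¹ * b⁻¹) := by
          rw [hc (a * b) (mul_mem ha hb) (x * y * x⁻¹ * y⁻¹)
            (mul_mem (mul_mem (mul_mem hx hy) (inv_mem hx)) (inv_mem hy))]
      _ = (x * y * x⁻¹ * y⁻¹) * (a * (b * a⁻¹) * b⁻¹) := by group
      _ = x * y * x⁻¹ * y⁻¹ := by rw [← hc a⁻¹ (inv_mem ha) b hbK]; group
  calc ⁅x, y⁆ * s = (s * ⁅x, y⁆ * s⁻¹) * s := by rw [h1]
    _ = s * ⁅x, y⁆ := by group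

/-- perfect members -/
theorem OO_eq_bot_of_perfect (hodd : OddStmt.{u}) (h : Hyp Om) (hS : IsPGroup 2 S) (hK : K ∈ OmS Om S)
    (ty : IsType K) (hper : ⁅K, K⁆ = K) : OO K = ⊥ := by
  rw [eq_bot_iff]
  intro x hx
  rw [mem_bot]
  refine c.eq_one fun s hs hs1 => ?_
  have hle := c.le_centralizer_ES hodd h hS hK hper hs
  exact OO_inf_le_XX h hS hK hs (c.pieces s hs hs1) (rd_of_perfect h hS hK hs ty hper hle)
    ⟨hx, hle (OO_le K hx)⟩

/-- **the members have trivial cores** -/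
theorem OO_eq_bot (hodd : OddStmt.{u}) (h : Hyp Om) (hS : IsPGroup 2 S) (hK : K ∈ OmS Om S)
    (ty : Ty K) : OO K = ⊥ := by
  rcases ty with hT | ⟨ty, hper⟩
  · exact c.OO_eq_bot_of_isT h hS hK hT
  · exact c.OO_eq_bot_of_perfect hodd h hS hK ty hper

end CorE

/-! ### The simple core case -/

theorem _root_.Cfsg.Agent.Cit.MinS.eq_bot_of_odd (hm : MinS Om) {N : Subgroup G} (hN : N.Normal)
    (ho : ¬ 2 ∣ Nat.card N) : N = ⊥ := by
  haveI := hm.simple
  rcases IsSimpleGroup.eq_bot_or_eq_top_of_normal N hN with h1 | h1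
  · exact h1
  · exfalso
    obtain ⟨K, hK⟩ := hm.ne
    apply ho
    rw [h1, ← hm.hyp.orderOf_zz hK, ← Nat.card_zpowers]
    exact card_dvd_of_le le_top

theorem _root_.Cfsg.Agent.Cit.MinS.corE (hm : MinS Om) (hodd : OddStmt.{u}) (hfix : FixStmt.{u})
    (hct : CTStmt.{u}) (hcon : ∀ K ∈ Om, ∀ L ∈ Om, Relation.ReflTransGen (Adj Om) K L)
    (S : Sylow 2 G) (h8 : 8 ≤ Nat.card (ES Om (S : Subgroup G))) : CorE Om (S : Subgroup G) :=
  CoresCore.corE hodd hfix hct hm.hyp hm.isType hm.ne hcon (fun _ hN ho => hm.eq_bot_of_odd hN ho)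
    (fun s hs => hm.fam_cent (by
      rintro rfl
      rw [orderOf_one] at hs
      omega)) S h8

theorem exists_mem_OmS (hK : K ∈ Om) : ∃ S : Sylow 2 G, K ∈ OmS Om (S : Subgroup G) := by
  haveI : Fact (Nat.Prime 2) := ⟨Nat.prime_two⟩
  obtain ⟨Q, hQ⟩ := Hyp.exists_syl K
  obtain ⟨S, hS⟩ := hQ.2.1.exists_le_sylow
  exact ⟨S, mem_OmS_of_le hK hQ hS⟩

theorem _root_.Cfsg.Agent.Cit.MinS.corE_of_M (hm : MinS Om) (hodd : OddStmt.{u}) (hfix : FixStmt.{u})
    (hct : CTStmt.{u}) (S : Sylow 2 G) (h8 : 8 ≤ Nat.card (ES Om (S : Subgroup G)))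
    (hM : ∀ M : Subgroup G, normalizer (ES Om (S : Subgroup G) : Set G) ≤ M →
      (∀ e ∈ ES Om (S : Subgroup G), e ≠ 1 → centralizer {e} ≤ M) → M = ⊤) : CorE Om (S : Subgroup G) :=
  CoresCore.corE_of_M hodd hfix hct hm.hyp hm.isType (fun _ hN ho => hm.eq_bot_of_odd hN ho) S h8
    (fun _ _ hs1 => hm.fam_cent hs1) hM

/-- **`O(K) = 1` for all members**, in the simple core case, if `CorE` holds for all Sylow 2-subgroups -/
theorem _root_.Cfsg.Agent.Cit.MinS.OO_eq_bot_of_corE (hm : MinS Om) (hodd : OddStmt.{u})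
    (hE : ∀ S : Sylow 2 G, CorE Om (S : Subgroup G)) : ∀ K ∈ Om, OO K = ⊥ := by
  intro K hK
  obtain ⟨S, hS⟩ := exists_mem_OmS hK
  exact (hE S).OO_eq_bot hodd hm.hyp S.isPGroup' hS (hm.ty K hK)

/-- **`O(K) = 1` for all members**, in the simple core case, if `|E| ≥ 8` and the commuting graph is connected -/
theorem _root_.Cfsg.Agent.Cit.MinS.OO_eq_bot (hm : MinS Om) (hodd : OddStmt.{u}) (hfix : FixStmt.{u})
    (hct : CTStmt.{u}) (hcon : ∀ K ∈ Om, ∀ L ∈ Om, Relation.ReflTransGen (Adj Om) K L)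
    (S : Sylow 2 G) (h8 : 8 ≤ Nat.card (ES Om (S : Subgroup G))) : ∀ K ∈ Om, OO K = ⊥ :=
  hm.OO_eq_bot_of_corE hodd fun S' => hm.corE hodd hfix hct hcon S' (by rw [card_ES hm.hyp S S']; exact h8)

/-- the same from (M1) -/
theorem _root_.Cfsg.Agent.Cit.MinS.OO_eq_bot_of_M (hm : MinS Om) (hodd : OddStmt.{u}) (hfix : FixStmt.{u})
    (hct : CTStmt.{u}) (hM : ∀ S : Sylow 2 G, ∀ M : Subgroup G, normalizer (ES Om (S : Subgroup G) : Set G) ≤ M →
      (∀ e ∈ ES Om (S : Subgroup G), e ≠ 1 → centralizer {e} ≤ M) → M = ⊤)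
    (S : Sylow 2 G) (h8 : 8 ≤ Nat.card (ES Om (S : Subgroup G))) : ∀ K ∈ Om, OO K = ⊥ :=
  hm.OO_eq_bot_of_corE hodd fun S' => hm.corE_of_M hodd hfix hct S' (by rw [card_ES hm.hyp S S']; exact h8) (hM S')

end

end Cfsg.Agent.Cit.CoresCore
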