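import Cfsg.Agent.Cit.WeakCl

/-!
# Closing the signalizer argument for the cores (COROLLARY E)

`XX a = O(C(a))`, `Del B = ⋂ XX b` (`b ∈ B`, `b ≠ 1`), `EE Om S = ⟨z_K : K ∈ Om(S)⟩`,
`DE E = ⟨Del B, ⁅XX b, E⁆⟩` (`B ≤ E` a four-group, `b ∈ E`, `b ≠ 1`).

`FOut A D`: the output of THEOREM F for the elementary abelian 2-group `A`.
-/

set_option autoImplicit false
set_option linter.style.haveILetI false

namespace Cfsg.Agent.Cit

open Subgroup Cfsg

variable {G : Type*} [Group G]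

/-! ### Generalities on `cj` -/

theorem cj_closure (g : G) (s : Set G) :
    cj g (closure s) = closure ((fun x => g * x * g⁻¹) '' s) := by
  rw [cj_def, MonoidHom.map_closure]; rfl

theorem cj_iSup {ι : Sort*} (g : G) (F : ι → Subgroup G) : cj g (⨆ i, F i) = ⨆ i, cj g (F i) :=
  Subgroup.map_iSup _ _

theorem cj_iInf {ι : Sort*} (g : G) (F : ι → Subgroup G) : cj g (⨅ i, F i) = ⨅ i, cj g (F i) := by
  ext x; simp only [mem_cj, mem_iInf]

theorem cj_le_of_mem_normalizer {g : G} {D : Subgroup G} (h : g ∈ normalizer (D : Set G)) : cj g D = D :=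
  mem_normalizer_iff_cj.1 h

/-! ### `X_a` -/

/-- `X_a = O(C_G(a))` -/
def XX (a : G) : Subgroup G := OO (centralizer {a})

theorem XX_le (a : G) : XX a ≤ centralizer {a} := OO_le _

theorem cj_XX (g a : G) : cj g (XX a) = XX (g * a * g⁻¹) := by
  rw [XX, XX, ← cj_centralizer, OO_cj]

theorem odd_XX [Finite G] (a : G) : ¬ 2 ∣ Nat.card (XX a) := odd_OO _

theorem centralizer_le_normalizer_XX (a : G) : centralizer {a} ≤ normalizer (XX a : Set G) :=
  le_normalizer_OO _

/-! ### `Δ_B` and `D(E)` -/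

/-- `Δ_B = ⋂ X_b`, `b ∈ B`, `b ≠ 1` -/
def Del (B : Subgroup G) : Subgroup G := ⨅ (b : G) (_ : b ∈ B ∧ b ≠ 1), XX b

theorem mem_Del {B : Subgroup G} {x : G} : x ∈ Del B ↔ ∀ b ∈ B, b ≠ 1 → x ∈ XX b := by
  simp only [Del, mem_iInf, and_imp]

theorem Del_le {B : Subgroup G} {b : G} (hb : b ∈ B) (h1 : b ≠ 1) : Del B ≤ XX b :=
  fun _ hx => mem_Del.1 hx b hb h1

theorem conj_ne_one {g b : G} (h : b ≠ 1) : g * b * g⁻¹ ≠ 1 := fun h1 => h (conj_eq_one_iff.1 h1)

theorem cj_Del (g : G) (B : Subgroup G) : cj g (Del B) = Del (cj g B) := by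
  ext x
  rw [mem_cj, mem_Del, mem_Del]
  constructor
  · intro h b hb hb1
    have h2 := h _ (mem_cj.1 hb) (by simpa using conj_ne_one (g := g⁻¹) hb1)
    have h3 : b = g * (g⁻¹ * b * g) * g⁻¹ := by group
    rw [h3, ← cj_XX, mem_cj]
    exact h2
  · intro h b hb hb1
    have h2 := h _ (conj_mem_cj (g := g) hb) (conj_ne_one hb1)
    rw [← cj_XX, mem_cj] at h2
    exact h2

/-- `D(E)` in terms of `E` -/
def DE (E : Subgroup G) : Subgroup G :=
  (⨆ (B : Subgroup G) (_ : B ≤ E ∧ Nat.card B = 4), Del B) ⊔ ⨆ (b : G) (_ : b ∈ E ∧ b ≠ 1), ⁅XX b, E⁆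

theorem Del_le_DE {E B : Subgroup G} (h : B ≤ E) (h4 : Nat.card B = 4) : Del B ≤ DE E :=
  le_sup_of_le_left (le_iSup₂ (f := fun (B : Subgroup G) (_ : B ≤ E ∧ Nat.card B = 4) => Del B) B ⟨h, h4⟩)

theorem commutator_le_DE {E : Subgroup G} {b : G} (hb : b ∈ E) (h1 : b ≠ 1) : ⁅XX b, E⁆ ≤ DE E :=
  le_sup_of_le_right (le_iSup₂ (f := fun (b : G) (_ : b ∈ E ∧ b ≠ 1) => ⁅XX b, E⁆) b ⟨hb, h1⟩)

theorem DE_le_iff {E H : Subgroup G} : DE E ≤ H ↔
    (∀ B ≤ E, Nat.card B = 4 → Del B ≤ H) ∧ ∀ b ∈ E, b ≠ 1 → ⁅XX b, E⁆ ≤ H := by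
  rw [DE, sup_le_iff, iSup₂_le_iff, iSup₂_le_iff]
  constructor
  · exact fun h => ⟨fun B hB h4 => h.1 B ⟨hB, h4⟩, fun b hb h1 => h.2 b ⟨hb, h1⟩⟩
  · exact fun h => ⟨fun B hB => h.1 B hB.1 hB.2, fun b hb => h.2 b hb.1 hb.2⟩

theorem cj_DE (g : G) (E : Subgroup G) : cj g (DE E) = DE (cj g E) := by
  have key : ∀ (g : G) (E : Subgroup G), DE (cj g E) ≤ cj g (DE E) := by
    intro g E
    rw [DE_le_iff]
    constructor
    · intro B hB h4
      have h1 : cj g⁻¹ B ≤ E := by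
        have := cj_mono g⁻¹ hB
        rwa [cj_inv_cj] at this
      have h2 := cj_mono g (Del_le_DE h1 (by rw [card_cj, h4]))
      rwa [cj_Del, cj_cj_inv] at h2
    · intro b hb hb1
      have h2 := cj_mono g (commutator_le_DE (mem_cj.1 hb) (by simpa using conj_ne_one (g := g⁻¹) hb1))
      rw [cj_commutator, cj_XX] at h2
      have h3 : g * (g⁻¹ * b * g) * g⁻¹ = b := by group
      rwa [h3] at h2
  refine le_antisymm ?_ (key g E)
  have h1 := cj_mono g (key g⁻¹ (cj g E))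
  rwa [cj_cj_inv, cj_inv_cj] at h1

theorem normalizer_le_normalizer_DE (E : Subgroup G) :
    normalizer (E : Set G) ≤ normalizer (DE E : Set G) := by
  intro g hg
  rw [mem_normalizer_iff_cj, cj_DE, mem_normalizer_iff_cj.1 hg]

/-! ### The output of THEOREM F -/

/-- the output of THEOREM F -/
structure FOut (A D : Subgroup G) : Prop where
  odd : ¬ 2 ∣ Nat.card D
  del_le : ∀ B ≤ A, Nat.card B = 4 → Del B ≤ D
  comm_le : ∀ a ∈ A, a ≠ 1 → ⁅XX a, A⁆ ≤ D
  gen : ∀ B ≤ A, Nat.card B = 4 → D ≤ Del B ⊔ ⨆ (b : G) (_ : b ∈ B ∧ b ≠ 1), ⁅XX b, B⁆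
  nor : ∀ a ∈ A, a ≠ 1 → XX a ≤ normalizer (D : Set G)

namespace FOut

variable {A D E : Subgroup G}

/-- `D` is determined by every subgroup `E ≤ A` containing a four-group -/
theorem eq_DE (h : FOut A D) (hE : E ≤ A) {B : Subgroup G} (hB : B ≤ E) (h4 : Nat.card B = 4) : D = DE E := by
  apply le_antisymm
  · refine (h.gen B (hB.trans hE) h4).trans (sup_le (Del_le_DE hB h4) (iSup₂_le ?_))
    rintro b ⟨hb, hb1⟩
    exact (commutator_mono le_rfl hB).trans (commutator_le_DE (hB hb) hb1)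
  · rw [DE_le_iff]
    exact ⟨fun B' hB' h4' => h.del_le B' (hB'.trans hE) h4', fun b hb hb1 =>
      (commutator_mono le_rfl hE).trans (h.comm_le b (hE hb) hb1)⟩

theorem eq_DE_self (h : FOut A D) {B : Subgroup G} (hB : B ≤ A) (h4 : Nat.card B = 4) : D = DE B :=
  h.eq_DE hB le_rfl h4

/-- normalisers of subgroups containing a four-group -/
theorem normalizer_le (h : FOut A D) (hE : E ≤ A) {B : Subgroup G} (hB : B ≤ E) (h4 : Nat.card B = 4) :
    normalizer (E : Set G) ≤ normalizer (D : Set G) := by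
  have h1 := h.eq_DE hE hB h4
  rw [h1]
  exact normalizer_le_normalizer_DE E

end FOut

/-! ### The four-group generated by two commuting involutions -/

/-- the four-group `{1, s, b, s b}` -/
def four (s b : G) (hs : s * s = 1) (hb : b * b = 1) (hc : s * b = b * s) : Subgroup G where
  carrier := {x | x = 1 ∨ x = s ∨ x = b ∨ x = s * b}
  one_mem' := Or.inl rfl
  mul_mem' := by
    have h1 : s * (s * b) = b := by rw [← mul_assoc, hs, one_mul]
    have h2 : b * (s * b) = s := by rw [hc, ← mul_assoc, hb, one_mul]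
    have h3 : s * b * s = b := by rw [hc, mul_assoc, hs, mul_one]
    have h4 : s * b * b = s := by rw [mul_assoc, hb, mul_one]
    have h5 : s * b * (s * b) = 1 := by rw [← mul_assoc, h3, hb]
    rintro x y (rfl | rfl | rfl | rfl) (rfl | rfl | rfl | rfl) <;>
      simp [hs, hb, h1, h2, h3, h4, h5, hc.symm]
  inv_mem' := by
    have h1 : s⁻¹ = s := inv_eq_of_mul_eq_one_right hs
    have h2 : b⁻¹ = b := inv_eq_of_mul_eq_one_right hb
    have h3 : (s * b)⁻¹ = s * b := by rw [mul_inv_rev, h1, h2, hc]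
    rintro x (rfl | rfl | rfl | rfl)
    · simp
    · simp [h1]
    · simp [h2]
    · show (s * b)⁻¹ = 1 ∨ _; rw [h3]; simp

theorem mem_four {s b x : G} {hs : s * s = 1} {hb : b * b = 1} {hc : s * b = b * s} :
    x ∈ four s b hs hb hc ↔ x = 1 ∨ x = s ∨ x = b ∨ x = s * b := Iff.rfl

theorem card_four {s b : G} {hs : s * s = 1} {hb : b * b = 1} {hc : s * b = b * s}
    (hs1 : s ≠ 1) (hb1 : b ≠ 1) (hsb : b ≠ s) : Nat.card (four s b hs hb hc) = 4 := by
  classical
  have h1 : (four s b hs hb hc : Set G) = (({1, s, b, s * b} : Finset G) : Set G) := by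
    ext x
    simp only [SetLike.mem_coe, mem_four, Finset.coe_insert, Finset.coe_singleton, Set.mem_insert_iff,
      Set.mem_singleton_iff]
  have h2 : s * b ≠ 1 := fun h => hsb (by
    have : b = s⁻¹ := eq_inv_of_mul_eq_one_right h
    rw [this]; exact inv_eq_of_mul_eq_one_right hs)
  have h3 : s * b ≠ s := fun h => hb1 (mul_eq_left.1 h)
  have h4 : s * b ≠ b := fun h => hs1 (mul_eq_right.1 h)
  have h5 : Nat.card (four s b hs hb hc) = ({1, s, b, s * b} : Finset G).card := by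
    rw [← Set.ncard_coe_finset, ← h1]; rfl
  rw [h5, Finset.card_insert_of_notMem, Finset.card_insert_of_notMem, Finset.card_insert_of_notMem,
    Finset.card_singleton]
  · simpa using h4.symm
  · simp only [Finset.mem_insert, Finset.mem_singleton, not_or]
    exact ⟨hsb.symm, h3.symm⟩
  · simp only [Finset.mem_insert, Finset.mem_singleton, not_or]
    exact ⟨hs1.symm, hb1.symm, h2.symm⟩

namespace FOut

variable {A D E : Subgroup G}

/-- two commuting involutions of `A` : the intersection of the centralisers normalises `D` -/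
theorem centralizer_le (h : FOut A D) (hA2 : ∀ a ∈ A, a * a = 1) (hAc : ∀ a ∈ A, ∀ b ∈ A, a * b = b * a)
    {s b : G} (hs : s ∈ A) (hb : b ∈ A) (hs1 : s ≠ 1) (hb1 : b ≠ 1) (hsb : b ≠ s) :
    centralizer {s} ⊓ centralizer {b} ≤ normalizer (D : Set G) := by
  have h4 := card_four (hs := hA2 s hs) (hb := hA2 b hb) (hc := hAc s hs b hb) hs1 hb1 hsb
  have hle : four s b (hA2 s hs) (hA2 b hb) (hAc s hs b hb) ≤ A := by
    rintro x (rfl | rfl | rfl | rfl)
    · exact A.one_mem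
    · exact hs
    · exact hb
    · exact A.mul_mem hs hb
  refine le_trans ?_ (h.normalizer_le hle le_rfl h4)
  rintro g ⟨hg1, hg2⟩
  have e1 := mem_centralizer_singleton_iff.1 hg1
  have e2 := mem_centralizer_singleton_iff.1 hg2
  rw [mem_normalizer_iff_cj]
  have key : ∀ x ∈ four s b (hA2 s hs) (hA2 b hb) (hAc s hs b hb), g * x = x * g := by
    rintro x (rfl | rfl | rfl | rfl)
    · simp
    · exact e1
    · exact e2
    · rw [← mul_assoc, e1, mul_assoc, e2, mul_assoc]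
  ext x
  rw [mem_cj]
  constructor
  · intro hx
    have h5 := key _ hx
    have h6 : x = g⁻¹ * x * g := by
      have h7 : x * g = g * (g⁻¹ * x * g) := by group
      rw [h5] at h7
      exact mul_right_cancel h7
    rw [h6]; exact hx
  · intro hx
    have h5 := key _ hx
    have h6 : g⁻¹ * x * g = x := by rw [mul_assoc, ← h5]; group
    rw [h6]; exact hx

end FOut

/-! ### `E(S)` -/

section ES

variable {Om : Set (Subgroup G)} {S T : Subgroup G}

/-- `E(S) = ⟨z_K : K ∈ Om(S)⟩` -/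
def ES (Om : Set (Subgroup G)) (S : Subgroup G) : Subgroup G := closure (zz '' OmS Om S)

theorem zz_mem_ES {K : Subgroup G} (hK : K ∈ OmS Om S) : zz K ∈ ES Om S :=
  subset_closure ⟨K, hK, rfl⟩

theorem ES_le_iff {H : Subgroup G} : ES Om S ≤ H ↔ ∀ K ∈ OmS Om S, zz K ∈ H := by
  rw [ES, closure_le, Set.image_subset_iff]; rfl

theorem ES_eq_of_OmS_eq (h : OmS Om T = OmS Om S) : ES Om T = ES Om S := by rw [ES, ES, h]

theorem ES_le_DD [Finite G] (h : Hyp Om) (hS : IsPGroup 2 S) : ES Om S ≤ DD Om S :=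
  ES_le_iff.2 fun _ hK => inf_le_DD hK (h.zz_mem_inf hS hK)

theorem ES_le [Finite G] (h : Hyp Om) (hS : IsPGroup 2 S) : ES Om S ≤ S := (ES_le_DD h hS).trans DD_le

theorem cj_ES [Finite G] (h : Hyp Om) (g : G) : cj g (ES Om S) = ES Om (cj g S) := by
  have key : ∀ (g : G) (S : Subgroup G), ES Om (cj g S) ≤ cj g (ES Om S) := by
    intro g S
    rw [ES_le_iff]
    intro K hK
    have h1 : cj g⁻¹ K ∈ OmS Om S := by
      have := cj_mem_OmS h.conj g⁻¹ hK
      rwa [cj_inv_cj] at this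
    rw [mem_cj]
    have h2 := zz_mem_ES h1
    rwa [h.zz_cj hK.1, inv_inv] at h2
  refine le_antisymm ?_ (key g S)
  have h1 := cj_mono g (key g⁻¹ (cj g S))
  rwa [cj_cj_inv, cj_inv_cj] at h1

/-- `E(S)` is central in `D(S)` -/
theorem DD_le_centralizer_ES [Finite G] (h : Hyp Om) (hS : IsPGroup 2 S) :
    DD Om S ≤ centralizer (ES Om S : Set G) := by
  rw [le_centralizer_iff, ES_le_iff]
  intro K hK
  rw [mem_centralizer_iff]
  intro x hx
  exact mem_centralizer_singleton_iff.1 (h.DD_le_centralizer hS hK hx)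

theorem ES_comm [Finite G] (h : Hyp Om) (hS : IsPGroup 2 S) {a b : G} (ha : a ∈ ES Om S)
    (hb : b ∈ ES Om S) : a * b = b * a :=
  ((mem_centralizer_iff.1 (DD_le_centralizer_ES h hS (ES_le_DD h hS ha))) b hb).symm

theorem ES_sq [Finite G] (h : Hyp Om) (hS : IsPGroup 2 S) {a : G} (ha : a ∈ ES Om S) : a * a = 1 := by
  have key : ES Om S ≤ ⟨⟨⟨{x | x ∈ ES Om S ∧ x * x = 1}, by
      rintro x y ⟨hx, hx2⟩ ⟨hy, hy2⟩
      refine ⟨mul_mem hx hy, ?_⟩
      calc x * y * (x * y) = x * (y * x) * y := by group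
        _ = x * (x * y) * y := by rw [ES_comm h hS hy hx]
        _ = (x * x) * (y * y) := by group
        _ = 1 := by rw [hx2, hy2, one_mul]⟩, ⟨one_mem _, one_mul 1⟩⟩, by
      rintro x ⟨hx, hx2⟩
      refine ⟨inv_mem hx, ?_⟩
      rw [← mul_inv_rev, hx2, inv_one]⟩ := by
    rw [ES_le_iff]
    intro K hK
    exact ⟨zz_mem_ES hK, h.zz_mul hK.1⟩
  exact (key ha).2

/-- the normaliser of `D(S)` normalises `E(S)` -/
theorem normalizer_DD_le [Finite G] (h : Hyp Om) (hS : IsPGroup 2 S) :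
    normalizer (DD Om S : Set G) ≤ normalizer (ES Om S : Set G) := by
  intro g hg
  rw [mem_normalizer_iff_cj] at hg ⊢
  rw [← ES_eq_of_OmS_eq (OmS_DD hS), cj_ES h, hg]

end ES

/-! ### Frattini -/

/-- Frattini argument for the weakly closed subgroup `D(S)` -/
theorem frattini_DD [Finite G] {Om : Set (Subgroup G)} (h : Hyp Om) (S : Sylow 2 G) {C L : Subgroup G}
    (hn : C ≤ normalizer (L : Set G)) (hD : DD Om (S : Subgroup G) ≤ L) {g : G} (hg : g ∈ C) :
    ∃ l ∈ L, l * g ∈ normalizer (DD Om (S : Subgroup G) : Set G) := by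
  have hD2 : IsPGroup 2 (DD Om (S : Subgroup G)) := S.isPGroup'.to_le DD_le
  obtain ⟨T, hT, hDT⟩ := exists_syl_ge hD2 hD
  have h1 : Syl (cj g T) L := by
    have := hT.cj g
    rwa [mem_normalizer_iff_cj.1 (hn hg)] at this
  obtain ⟨l, hl, hlT⟩ := h1.exists_conj hT
  refine ⟨l, hl, ?_⟩
  rw [mem_normalizer_iff_cj]
  have h2 : DD Om T = DD Om (S : Subgroup G) := h.DD_eq S hT.2.1 hDT
  rw [← h2, cj_DD h.conj, cj_mul, hlT]

/-! ### The closing theorem -/

/-- adjacency in the commuting graph of `Om` -/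
def Adj (Om : Set (Subgroup G)) (K L : Subgroup G) : Prop :=
  ∃ S : Sylow 2 G, K ∈ OmS Om (S : Subgroup G) ∧ L ∈ OmS Om (S : Subgroup G)

/-- **generation of `C(s)` inside `N(D)`** -/
theorem FOut.centralizer_le_of_gen [Finite G] {Om : Set (Subgroup G)} (h : Hyp Om) (S : Sylow 2 G)
    {A D : Subgroup G} (hF : FOut A D) (hA2 : ∀ a ∈ A, a * a = 1)
    (hAc : ∀ a ∈ A, ∀ b ∈ A, a * b = b * a)
    (hN : normalizer (DD Om (S : Subgroup G) : Set G) ≤ normalizer (D : Set G))
    {s : G} (hs : s ∈ A) (hs1 : s ≠ 1) {L : Subgroup G}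
    (hn : centralizer {s} ≤ normalizer (L : Set G)) (hD : DD Om (S : Subgroup G) ≤ L)
    (hL : L ≤ XX s ⊔ ⨆ (b : G) (_ : b ∈ A ∧ b ≠ 1 ∧ b ≠ s), centralizer {s} ⊓ centralizer {b}) :
    centralizer {s} ≤ normalizer (D : Set G) := by
  have h1 : L ≤ normalizer (D : Set G) := by
    refine hL.trans (sup_le (hF.nor s hs hs1) (iSup₂_le ?_))
    rintro b ⟨hb, hb1, hbs⟩
    exact hF.centralizer_le hA2 hAc hs hb hs1 hb1 hbs
  intro g hg
  obtain ⟨l, hl, hlg⟩ := frattini_DD h S hn hD hg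
  have h2 : g = l⁻¹ * (l * g) := by group
  rw [h2]
  exact mul_mem (inv_mem (h1 hl)) (hN hlg)

/-- **constancy on the components of the commuting graph**: `F` a function on Sylow subgroups (given as a
function on all subgroups), compatible with conjugation, with `C(z_K) ≤ N(F S)` for `K ∈ Om(S)`, depending only on
`D(S)` -/
theorem const_of_adj [Finite G] {Om : Set (Subgroup G)} (h : Hyp Om) (F : Subgroup G → Subgroup G)
    (hF : ∀ (g : G) (S : Sylow 2 G), F (cj g (DD Om (S : Subgroup G))) = cj g (F (DD Om (S : Subgroup G))))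
    (hC : ∀ (S : Sylow 2 G), ∀ K ∈ OmS Om (S : Subgroup G),
      centralizer {zz K} ≤ normalizer (F (DD Om (S : Subgroup G)) : Set G))
    (S S' : Sylow 2 G) {K : Subgroup G} (hK : K ∈ OmS Om (S : Subgroup G)) (hK' : K ∈ OmS Om (S' : Subgroup G)) :
    F (DD Om (S : Subgroup G)) = F (DD Om (S' : Subgroup G)) := by
  obtain ⟨x, hx, hx2⟩ := DD_conj_of_common h S S' hK hK'
  rw [← hx2, hF, mem_normalizer_iff_cj.1 (hC S K hK hx)]

/-- if the commuting graph is connected, `F(S)` is the same for all `S` -/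
theorem const_of_connected [Finite G] {Om : Set (Subgroup G)} (h : Hyp Om) (F : Subgroup G → Subgroup G)
    (hF : ∀ (g : G) (S : Sylow 2 G), F (cj g (DD Om (S : Subgroup G))) = cj g (F (DD Om (S : Subgroup G))))
    (hC : ∀ (S : Sylow 2 G), ∀ K ∈ OmS Om (S : Subgroup G),
      centralizer {zz K} ≤ normalizer (F (DD Om (S : Subgroup G)) : Set G))
    (hne : Om.Nonempty) (hcon : ∀ K ∈ Om, ∀ L ∈ Om, Relation.ReflTransGen (Adj Om) K L) (S S' : Sylow 2 G) :
    F (DD Om (S : Subgroup G)) = F (DD Om (S' : Subgroup G)) := by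
  obtain ⟨K, hK⟩ := h.OmS_nonempty S hne
  obtain ⟨L, hL⟩ := h.OmS_nonempty S' hne
  have key : ∀ L, Relation.ReflTransGen (Adj Om) K L → ∀ S' : Sylow 2 G, L ∈ OmS Om (S' : Subgroup G) →
      F (DD Om (S : Subgroup G)) = F (DD Om (S' : Subgroup G)) := by
    intro L hKL
    induction hKL with
    | refl => exact fun S' hS' => const_of_adj h F hF hC S S' hK hS'
    | tail _ hadj ih =>
      intro S' hS'
      obtain ⟨S₁, h1, h2⟩ := hadj
      exact (ih S₁ h1).trans (const_of_adj h F hF hC S₁ S' h2 hS')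
  exact key L (hcon K hK.1 L hL.1) S' hL

/-- if the commuting graph is connected, `F(S)` is normal in `G` -/
theorem normal_of_connected [Finite G] {Om : Set (Subgroup G)} (h : Hyp Om) (F : Subgroup G → Subgroup G)
    (hF : ∀ (g : G) (S : Sylow 2 G), F (cj g (DD Om (S : Subgroup G))) = cj g (F (DD Om (S : Subgroup G))))
    (hC : ∀ (S : Sylow 2 G), ∀ K ∈ OmS Om (S : Subgroup G),
      centralizer {zz K} ≤ normalizer (F (DD Om (S : Subgroup G)) : Set G))
    (hne : Om.Nonempty) (hcon : ∀ K ∈ Om, ∀ L ∈ Om, Relation.ReflTransGen (Adj Om) K L) (S : Sylow 2 G) :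
    (F (DD Om (S : Subgroup G))).Normal := by
  rw [← normalizer_eq_top_iff, eq_top_iff]
  intro g _
  rw [mem_normalizer_iff_cj, ← hF]
  haveI : Fact (Nat.Prime 2) := ⟨Nat.prime_two⟩
  have h1 : cj g (DD Om (S : Subgroup G)) = DD Om ((g • S : Sylow 2 G) : Subgroup G) := cj_DD h.conj g
  rw [h1]
  exact (const_of_connected h F hF hC hne hcon S (g • S)).symm

/-- the data of COROLLARY E for a Sylow 2-subgroup `S`: `E(S) ≤ A`, `|E(S)| ≥ 4`, the output `D` of THEOREM F for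
`A`, and the generation of `C(z_K)` -/
structure CData (Om : Set (Subgroup G)) (S A D : Subgroup G) : Prop where
  out : FOut A D
  sq : ∀ a ∈ A, a * a = 1
  comm : ∀ a ∈ A, ∀ b ∈ A, a * b = b * a
  le : ES Om S ≤ A
  four : ∃ B ≤ ES Om S, Nat.card B = 4
  gen : ∀ K ∈ OmS Om S, ∃ L : Subgroup G, centralizer {zz K} ≤ normalizer (L : Set G) ∧ DD Om S ≤ L ∧
    L ≤ XX (zz K) ⊔ ⨆ (b : G) (_ : b ∈ A ∧ b ≠ 1 ∧ b ≠ zz K), centralizer {zz K} ⊓ centralizer {b}

theorem CData.eq_DE {Om : Set (Subgroup G)} {S A D : Subgroup G} (d : CData Om S A D) : D = DE (ES Om S) := by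
  obtain ⟨B, hB, h4⟩ := d.four
  exact d.out.eq_DE d.le hB h4

theorem CData.normalizer_le [Finite G] {Om : Set (Subgroup G)} (h : Hyp Om) (S : Sylow 2 G) {A D : Subgroup G}
    (d : CData Om (S : Subgroup G) A D) :
    normalizer (DD Om (S : Subgroup G) : Set G) ≤ normalizer (D : Set G) := by
  obtain ⟨B, hB, h4⟩ := d.four
  exact (normalizer_DD_le h S.isPGroup').trans (d.out.normalizer_le d.le hB h4)

theorem CData.centralizer_le [Finite G] {Om : Set (Subgroup G)} (h : Hyp Om) (S : Sylow 2 G) {A D : Subgroup G}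
    (d : CData Om (S : Subgroup G) A D) {K : Subgroup G} (hK : K ∈ OmS Om (S : Subgroup G)) :
    centralizer {zz K} ≤ normalizer (D : Set G) := by
  obtain ⟨L, h1, h2, h3⟩ := d.gen K hK
  exact d.out.centralizer_le_of_gen h S d.sq d.comm (d.normalizer_le h S) (d.le (zz_mem_ES hK))
    (h.zz_ne hK.1) h1 h2 h3

/-- **COROLLARY E, closing**: if the commuting graph of `Om` is connected and `G` has no non-trivial normal
subgroups of odd order then `D = 1` -/
theorem CData.eq_bot [Finite G] {Om : Set (Subgroup G)} (h : Hyp Om) (hne : Om.Nonempty)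
    (hcon : ∀ K ∈ Om, ∀ L ∈ Om, Relation.ReflTransGen (Adj Om) K L)
    (hO : ∀ N : Subgroup G, N.Normal → ¬ 2 ∣ Nat.card N → N = ⊥)
    (A D : Sylow 2 G → Subgroup G) (d : ∀ S : Sylow 2 G, CData Om (S : Subgroup G) (A S) (D S))
    (S : Sylow 2 G) : D S = ⊥ := by
  have hES : ∀ S : Sylow 2 G, ES Om (DD Om (S : Subgroup G)) = ES Om (S : Subgroup G) := fun S =>
    ES_eq_of_OmS_eq (OmS_DD S.isPGroup')
  have hD : ∀ S : Sylow 2 G, DE (ES Om (DD Om (S : Subgroup G))) = D S := fun S => by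
    rw [hES, ← (d S).eq_DE]
  refine hO _ ?_ (d S).out.odd
  have h1 := normal_of_connected h (fun P => DE (ES Om P)) (fun g S => by
    show DE (ES Om (cj g _)) = _
    rw [← cj_ES h, cj_DE]) (fun S K hK => by
    show _ ≤ normalizer ((DE (ES Om (DD Om (S : Subgroup G))) : Subgroup G) : Set G)
    rw [hD]
    exact (d S).centralizer_le h S hK) hne hcon S
  rwa [hD] at h1

/-- if `Q` centralises `X`, `X` is normalised by `K`, then so does the normal closure of `Q` in `K` -/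
theorem commute_of_normalClosure {K X Q : Subgroup G} (hX : K ≤ normalizer (X : Set G))
    (hQ : ∀ q ∈ Q, ∀ x ∈ X, q * x = x * q) {k : G} (hk : k ∈ K) {q : G} (hq : q ∈ Q) {x : G} (hx : x ∈ X) :
    (k * q * k⁻¹) * x = x * (k * q * k⁻¹) := by
  have h1 : k⁻¹ * x * k ∈ X := by
    have := (mem_normalizer_iff.1 (hX (K.inv_mem hk)) x).1 hx
    rwa [inv_inv] at this
  have h2 := hQ q hq _ h1
  calc (k * q * k⁻¹) * x = k * (q * (k⁻¹ * x * k)) * k⁻¹ := by group
    _ = k * ((k⁻¹ * x * k) * q) * k⁻¹ := by rw [h2]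
    _ = x * (k * q * k⁻¹) := by group

end Cfsg.Agent.Cit
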