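import Cfsg.Agent.Cit.PairComm
import Cfsg.Agent.Cit.CoresClose

/-!
# The kernel of the action on `K / O(K)`, and members covered by centralisers of subgroups of `D(S)`

`ck K = {x ∈ N(K) | [K, x] ≤ O(K)}`.  For a 2-subgroup `A`: `K ∈ Om` is covered by `C(A)` iff `A ≤ ck K`
(`mem_cov_iff_le_ck`).  For `K ∈ Om(S)`: `E(S) ≤ ck K` (`ES_le_ck`), `L ⊓ S ≤ ck K` for `L ∈ Om(S)`, `L ≠ K`
(`inf_le_ck`).  No type hypothesis, no THEOREM T.
-/

set_option autoImplicit false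
set_option linter.dupNamespace false
set_option linter.style.haveILetI false
set_option linter.unusedSectionVars false

namespace Cfsg.Agent.Cit.CovES

open Subgroup Cfsg Cfsg.Agent.Cit SubCent

variable {G : Type*} [Group G] {Om : Set (Subgroup G)} {K L J S A B : Subgroup G}

/-- the normaliser of `K` normalises `O(K)` -/
theorem normalizer_le_normalizer_OO (K : Subgroup G) : normalizer (K : Set G) ≤ normalizer (OO K : Set G) := by
  intro x hx
  rw [mem_normalizer_iff_cj] at hx ⊢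
  rw [← OO_cj, hx]

/-- the kernel of the action of `N(K)` on `K / O(K)` -/
def ck (K : Subgroup G) : Subgroup G where
  carrier := {x | x ∈ normalizer (K : Set G) ∧ ∀ k ∈ K, k * x * k⁻¹ * x⁻¹ ∈ OO K}
  one_mem' := ⟨one_mem _, fun k hk => by simp⟩
  mul_mem' := by
    rintro x y ⟨hx1, hx2⟩ ⟨hy1, hy2⟩
    refine ⟨mul_mem hx1 hy1, fun k hk => ?_⟩
    have e : k * (x * y) * k⁻¹ * (x * y)⁻¹ =
        (k * x * k⁻¹ * x⁻¹) * (x * (k * y * k⁻¹ * y⁻¹) * x⁻¹) := by group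
    rw [e]
    exact mul_mem (hx2 k hk) ((mem_normalizer_iff.1 (normalizer_le_normalizer_OO K hx1) _).1 (hy2 k hk))
  inv_mem' := by
    rintro x ⟨hx1, hx2⟩
    refine ⟨inv_mem hx1, fun k hk => ?_⟩
    have e : k * x⁻¹ * k⁻¹ * x⁻¹⁻¹ = x⁻¹ * (k * x * k⁻¹ * x⁻¹)⁻¹ * x⁻¹⁻¹ := by group
    rw [e]
    exact (mem_normalizer_iff.1 (inv_mem (normalizer_le_normalizer_OO K hx1)) _).1 (inv_mem (hx2 k hk))

theorem mem_ck_def {x : G} : x ∈ ck K ↔ x ∈ normalizer (K : Set G) ∧ ∀ k ∈ K, k * x * k⁻¹ * x⁻¹ ∈ OO K := Iff.rfl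

theorem ck_le_normalizer : ck K ≤ normalizer (K : Set G) := fun _ hx => hx.1

/-- in a finite group `[K, x] ≤ O(K)` implies that `x` normalises `K` -/
theorem mem_ck [Finite G] {x : G} : x ∈ ck K ↔ ∀ k ∈ K, k * x * k⁻¹ * x⁻¹ ∈ OO K := by
  refine ⟨fun h => h.2, fun h => ⟨?_, h⟩⟩
  have h3 : ∀ k ∈ K, x * k * x⁻¹ ∈ K := by
    intro k hk
    have h4 := K.mul_mem hk (OO_le K (h _ (K.inv_mem hk)))
    have h5 : k * (k⁻¹ * x * k⁻¹⁻¹ * x⁻¹) = x * k * x⁻¹ := by group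
    rwa [h5] at h4
  rw [mem_normalizer_iff_cj]
  refine eq_of_le_of_card_ge ?_ (by rw [card_cj])
  rintro _ ⟨k, hk, rfl⟩
  exact h3 k hk

theorem le_ck_iff [Finite G] : A ≤ ck K ↔ ⁅K, A⁆ ≤ OO K := by
  rw [Subgroup.commutator_le]
  constructor
  · intro h k hk a ha
    rw [commutatorElement_def]
    exact (h ha).2 k hk
  · intro h a ha
    rw [mem_ck]
    intro k hk
    have := h k hk a ha
    rwa [commutatorElement_def] at this

theorem OO_le_ck : OO K ≤ ck K := by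
  intro x hx
  refine ⟨le_normalizer (OO_le K hx), fun k hk => ?_⟩
  exact mul_mem ((mem_normalizer_iff.1 (le_normalizer_OO K hk) x).1 hx) (inv_mem hx)

/-- elements of `C(K)` are in `ck K` -/
theorem centralizer_le_ck : centralizer (K : Set G) ≤ ck K := by
  intro x hx
  refine ⟨centralizer_le_normalizer _ hx, fun k hk => ?_⟩
  have h1 := mem_centralizer_iff.1 hx k hk
  rw [h1, mul_inv_cancel_right, mul_inv_cancel]
  exact one_mem _

theorem ck_cj (g : G) (K : Subgroup G) : ck (cj g K) = cj g (ck K) := by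
  have key : ∀ (g : G) (K : Subgroup G), cj g (ck K) ≤ ck (cj g K) := by
    rintro g K _ ⟨x, ⟨h1, h2⟩, rfl⟩
    change g * x * g⁻¹ ∈ ck (cj g K)
    refine ⟨?_, ?_⟩
    · rw [mem_normalizer_iff_cj] at h1 ⊢
      rw [← cj_mul, inv_mul_cancel_right, cj_mul, h1]
    · rintro _ ⟨k, hk, rfl⟩
      rw [OO_cj, mem_cj]
      have h3 := h2 k hk
      convert h3 using 1
      simp only [MulEquiv.coe_toMonoidHom, MulAut.conj_apply]
      group
  refine le_antisymm ?_ (key g K)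
  have h1 := cj_mono g (key g⁻¹ (cj g K))
  rwa [cj_cj_inv, cj_inv_cj] at h1

/-- `N(K)` normalises `ck K` -/
theorem normalizer_le_normalizer_ck : normalizer (K : Set G) ≤ normalizer (ck K : Set G) := by
  intro x hx
  rw [mem_normalizer_iff_cj] at hx ⊢
  rw [← ck_cj, hx]

section

variable [Finite G]

/-- `K` is covered by the centraliser of a 2-group `A` iff `A` acts trivially on `K / O(K)` -/
theorem mem_cov_iff_le_ck (h : Hyp Om) (hA : IsPGroup 2 A) :
    K ∈ cov Om (centralizer (A : Set G)) ↔ K ∈ Om ∧ A ≤ ck K := by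
  rw [mem_cov_centralizer h hA, le_ck_iff]

/-- the case of a 2-element -/
theorem mem_cov_iff_mem_ck (h : Hyp Om) {b : G} (hb : IsPGroup 2 (zpowers b)) :
    K ∈ cov Om (centralizer {b}) ↔ K ∈ Om ∧ b ∈ ck K := by
  rw [← PairComm.centralizer_zpowers, mem_cov_iff_le_ck h hb, zpowers_le]

theorem isPGroup_zpowers_of_mem (hS : IsPGroup 2 S) {b : G} (hb : b ∈ S) : IsPGroup 2 (zpowers b) :=
  hS.to_le (zpowers_le.2 hb)

/-- an involution -/
theorem isPGroup_zpowers_of_sq {b : G} (hb : b * b = 1) : IsPGroup 2 (zpowers b) := by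
  rintro ⟨_, i, rfl⟩
  refine ⟨1, Subtype.ext ?_⟩
  change (b ^ i) ^ 2 ^ 1 = 1
  rw [← zpow_natCast, ← zpow_mul, mul_comm, zpow_mul, zpow_natCast, pow_one, pow_two, hb, one_zpow]

theorem zz_mem_ck (h : Hyp Om) (hK : K ∈ Om) : zz K ∈ ck K := by
  refine centralizer_le_ck (mem_centralizer_iff.2 fun x hx => ?_)
  exact mem_centralizer_singleton_iff.1 (h.le_centralizer hK hx)

/-- different members of `Om(S)` act trivially on each other -/
theorem inf_le_ck (h : Hyp Om) (hS : IsPGroup 2 S) (hK : K ∈ OmS Om S) (hL : L ∈ OmS Om S) (hne : K ≠ L) :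
    L ⊓ S ≤ ck K := le_ck_iff.2 (PairComm.commutator_le h hS hK hL hne)

theorem zz_mem_ck_of_ne (h : Hyp Om) (hS : IsPGroup 2 S) (hK : K ∈ OmS Om S) (hL : L ∈ OmS Om S)
    (hne : K ≠ L) : zz L ∈ ck K := inf_le_ck h hS hK hL hne (h.zz_mem_inf hS hL)

/-- **`E(S)` acts trivially on `K / O(K)` for `K ∈ Om(S)`** -/
theorem ES_le_ck (h : Hyp Om) (hS : IsPGroup 2 S) (hK : K ∈ OmS Om S) : ES Om S ≤ ck K := by
  rw [ES_le_iff]
  intro L hL
  by_cases hne : K = L
  · subst hne; exact zz_mem_ck h hK.1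
  · exact zz_mem_ck_of_ne h hS hK hL hne

/-- the members of `Om(S)` are covered by `C(E(S))` -/
theorem mem_cov_ES (h : Hyp Om) (hS : IsPGroup 2 S) (hK : K ∈ OmS Om S) :
    K ∈ cov Om (centralizer (ES Om S : Set G)) :=
  (mem_cov_iff_le_ck h (hS.to_le (ES_le h hS))).2 ⟨hK.1, ES_le_ck h hS hK⟩

/-- the members of `Om(S)` are covered by `C(e)`, `e ∈ E(S)` -/
theorem mem_cov_of_mem_ES (h : Hyp Om) (hS : IsPGroup 2 S) (hK : K ∈ OmS Om S) {e : G} (he : e ∈ ES Om S) :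
    K ∈ cov Om (centralizer {e}) :=
  cov_mono (by
    rw [← centralizer_closure {e}]
    exact centralizer_le (by
      rw [← zpowers_eq_closure]
      exact zpowers_le.2 he)) (mem_cov_ES h hS hK)

/-- elements acting trivially on `K / O(K)` centralise `z_K` -/
theorem comm_zz_of_mem_ck (h : Hyp Om) (hK : K ∈ Om) {x : G} (hx : x ∈ ck K) : x * zz K = zz K * x := by
  have h1 := mem_centralizer_singleton_iff.1 (h.normalizer_le hK hx.1)
  exact h1

/-- `E(S) ≤ C(b)` if `b` acts trivially on all the members of `Om(S)` -/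
theorem ES_le_centralizer (h : Hyp Om) {b : G} (hb : ∀ K ∈ OmS Om S, b ∈ ck K) :
    ES Om S ≤ centralizer {b} := by
  rw [ES_le_iff]
  intro K hK
  exact mem_centralizer_singleton_iff.2 (comm_zz_of_mem_ck h hK.1 (hb K hK)).symm

/-- the Sylow 2-subgroups of `ck K` centralise some Sylow 2-subgroup of `K`: if `A` is a 2-group acting trivially
on `K / O(K)` then `A` centralises a Sylow 2-subgroup of `K` -/
theorem exists_syl_le_centralizer (hK : K ∈ Om) (hA : IsPGroup 2 A) (hAK : A ≤ ck K) :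
    ∃ Q, Syl Q K ∧ Q ≤ centralizer (A : Set G) := by
  have h1 : K ∈ cov Om (centralizer (A : Set G)) := cov_of_comm hK hA (le_ck_iff.1 hAK)
  obtain ⟨Q, hQ⟩ := Hyp.exists_syl (K ⊓ centralizer (A : Set G))
  exact ⟨Q, syl_of_syl_inf h1 hQ, hQ.1.trans inf_le_right⟩

/-- if a 2-group `A` acts trivially on `K / O(K)` there is a common Sylow 2-subgroup: `A ≤ S`, `K ∈ Om(S)` -/
theorem exists_common (hK : K ∈ Om) (hA : IsPGroup 2 A) (hAK : A ≤ ck K) :
    ∃ S : Sylow 2 G, A ≤ S ∧ K ∈ OmS Om (S : Subgroup G) := by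
  haveI : Fact (Nat.Prime 2) := ⟨Nat.prime_two⟩
  obtain ⟨Q, hQ, hQA⟩ := exists_syl_le_centralizer hK hA hAK
  have h1 : IsPGroup 2 (Q ⊔ A : Subgroup G) := hQ.2.1.to_sup_of_normal_right' hA
    (hQA.trans (centralizer_le_normalizer _))
  obtain ⟨S, hS⟩ := h1.exists_le_sylow
  exact ⟨S, le_sup_right.trans hS, mem_OmS_of_le hK hQ (le_sup_left.trans hS)⟩

/-- `z_L ∈ ck K`, `K ≠ L`: then `K` and `L` are adjacent -/
theorem adj_of_zz_mem_ck (h : Hyp Om) (hK : K ∈ Om) (hL : L ∈ Om) (hz : zz L ∈ ck K) : Adj Om K L := by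
  obtain ⟨Q, hQ, hQA⟩ := exists_syl_le_centralizer hK (PairComm.isPGroup_zpowers_zz h hL) (zpowers_le.2 hz)
  obtain ⟨S, hS, -, hKS, hLS⟩ := PairComm.exists_common' h hK hL hQ fun a ha =>
    ((mem_centralizer_iff.1 (hQA ha)) (zz L) (mem_zpowers _)).symm
  obtain ⟨T, hT⟩ := hS.exists_le_sylow
  exact ⟨T, OmS_mono hT hKS, OmS_mono hT hLS⟩

/-- adjacent members: `z_L ∈ ck K` -/
theorem zz_mem_ck_of_adj (h : Hyp Om) (hKL : Adj Om K L) : zz L ∈ ck K := by
  obtain ⟨S, hK, hL⟩ := hKL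
  by_cases hne : K = L
  · subst hne; exact zz_mem_ck h hK.1
  · exact zz_mem_ck_of_ne h S.isPGroup' hK hL hne

theorem adj_iff_zz_mem_ck (h : Hyp Om) (hK : K ∈ Om) (hL : L ∈ Om) : Adj Om K L ↔ zz L ∈ ck K :=
  ⟨zz_mem_ck_of_adj h, adj_of_zz_mem_ck h hK hL⟩

/-- adjacency in terms of coverings -/
theorem adj_iff_mem_cov (h : Hyp Om) (hK : K ∈ Om) (hL : L ∈ Om) :
    Adj Om K L ↔ K ∈ cov Om (centralizer {zz L}) := by
  rw [adj_iff_zz_mem_ck h hK hL, mem_cov_iff_mem_ck h (PairComm.isPGroup_zpowers_zz h hL)]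
  exact ⟨fun h => ⟨hK, h⟩, fun h => h.2⟩

/-- two adjacent members covered by `C(b)` have a common 2-group in `C(b)` -/
theorem exists_common_cent (h : Hyp Om) {b : G} (hb : IsPGroup 2 (zpowers b)) (hK : K ∈ Om) (hL : L ∈ Om)
    (hbK : b ∈ ck K) (hbL : b ∈ ck L) (hKL : zz L ∈ ck K) :
    ∃ S : Subgroup G, IsPGroup 2 S ∧ S ≤ centralizer {b} ∧ K ∈ OmS Om S ∧ L ∈ OmS Om S := by
  haveI : Fact (Nat.Prime 2) := ⟨Nat.prime_two⟩
  have hbz : b * zz L = zz L * b := comm_zz_of_mem_ck h hL hbL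
  -- the 2-group `⟨b, z_L⟩`
  set A : Subgroup G := zpowers b ⊔ zpowers (zz L) with hA
  have hA2 : IsPGroup 2 A := hb.to_sup_of_normal_right' (PairComm.isPGroup_zpowers_zz h hL) (by
    rw [zpowers_le]
    refine centralizer_le_normalizer _ ?_
    rw [PairComm.centralizer_zpowers]
    exact mem_centralizer_singleton_iff.2 hbz)
  obtain ⟨Q, hQ, hQA⟩ := exists_syl_le_centralizer hK hA2 (sup_le (zpowers_le.2 hbK) (zpowers_le.2 hKL))
  have hQz : ∀ a ∈ Q, a * zz L = zz L * a := fun a ha =>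
    ((mem_centralizer_iff.1 (hQA ha)) (zz L) (mem_sup_right (mem_zpowers _))).symm
  have hQb : Q ≤ centralizer {b} := fun a ha => mem_centralizer_singleton_iff.2
    ((mem_centralizer_iff.1 (hQA ha)) b (mem_sup_left (mem_zpowers _))).symm
  -- `Q` normalises `L ⊓ C(b)`
  have hQL : Q ≤ normalizer (L : Set G) := h.le_normalizer_of_commute hK hL hQ hQz
  have hQL2 : Q ≤ normalizer ((L ⊓ centralizer {b} : Subgroup G) : Set G) := by
    intro x hx
    rw [mem_normalizer_iff_cj, cj_inf, mem_normalizer_iff_cj.1 (hQL hx),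
      mem_normalizer_iff_cj.1 (le_normalizer (hQb hx))]
  obtain ⟨S, hS, hQS, hR⟩ := LB.exists_two_sup hQ.2.1 hQL2
  have hLc : L ∈ cov Om (centralizer {b}) := (mem_cov_iff_mem_ck h hb).2 ⟨hL, hbL⟩
  refine ⟨Q ⊔ (S ⊓ (L ⊓ centralizer {b})), ?_, ?_, ?_, ?_⟩
  · exact hS.to_le (sup_le hQS inf_le_left)
  · exact sup_le hQb (inf_le_right.trans inf_le_right)
  · exact mem_OmS_of_le hK hQ le_sup_left
  · exact mem_OmS_of_le hL (syl_of_syl_inf hLc hR) le_sup_right

end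

end Cfsg.Agent.Cit.CovES
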