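import Cfsg.Agent.Cit.UseT
import Cfsg.Agent.Cit.CovES
import Cfsg.Agent.Cit.CloGraph
import Cfsg.Agent.Lib.KleinGen

/-!
# Using THEOREM T for a proper subgroup `H`, second part: pieces and their preimages

* `px Om H K = pc (fam Om H) (tr H K)` : the piece of `K` (a member covered by `H`) in `H / O(H)`; `px_eq_or`,
  `tr_le_px_iff`, `px_cj`, `comm_or`, `px_eq_tr_of_central`.
* `pre H D` : the preimage in `G` of a subgroup `D` of `H / O(H)`; `mem_cov_pre`, `tr_le_of_cov` (members covered by the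
  preimage of a piece).
* `exists_adj_cj` : members of different pieces are adjacent up to conjugation in `O(H)`.
* `Emb.mem_of_tr_comm`, `Emb.le_of_pre_le`, `Emb.OO_le` : the subgroup `M` of the closing argument.
-/

set_option autoImplicit false
set_option linter.dupNamespace false
set_option linter.style.haveILetI false
set_option linter.unusedSectionVars false

namespace Cfsg.Agent.Cit.UseT

open Subgroup Cfsg Cfsg.Agent.Cit SubCent

section

variable {G : Type*} [Group G] {Om : Set (Subgroup G)} {H K L J M : Subgroup G} {D : Subgroup (HQ H)}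

/-! ### Preimages -/

/-- the preimage in `G` of a subgroup of `H / O(H)` -/
def pre (H : Subgroup G) (D : Subgroup (HQ H)) : Subgroup G := (D.comap (qm H)).map H.subtype

theorem mem_pre {x : G} : x ∈ pre H D ↔ ∃ hx : x ∈ H, qm H ⟨x, hx⟩ ∈ D := by
  constructor
  · rintro ⟨y, hy, rfl⟩
    exact ⟨y.2, hy⟩
  · rintro ⟨hx, h⟩
    exact ⟨⟨x, hx⟩, h, rfl⟩

theorem coe_mem_pre {x : H} : (x : G) ∈ pre H D ↔ qm H x ∈ D := by
  rw [mem_pre]; exact ⟨fun ⟨_, h⟩ => h, fun h => ⟨x.2, h⟩⟩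

theorem pre_le : pre H D ≤ H := map_subtype_le _

theorem pre_mono {D E : Subgroup (HQ H)} (h : D ≤ E) : pre H D ≤ pre H E :=
  Subgroup.map_mono (comap_mono h)

theorem OO_le_pre : OO H ≤ pre H D := by
  rintro _ ⟨x, hx, rfl⟩
  refine coe_mem_pre.2 ?_
  have h1 : x ∈ (qm H).ker := by rw [ker_qm]; exact hx
  rw [MonoidHom.mem_ker] at h1
  rw [h1]; exact one_mem _

theorem pre_subgroupOf : (pre H D).subgroupOf H = D.comap (qm H) := by
  ext x
  rw [mem_subgroupOf, coe_mem_pre, mem_comap]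

theorem map_pre : ((pre H D).subgroupOf H).map (qm H) = D := by
  rw [pre_subgroupOf, map_comap_eq_self_of_surjective (qm_surjective H)]

theorem pre_inj {D E : Subgroup (HQ H)} (h : pre H D = pre H E) : D = E := by
  rw [← map_pre (D := D), h, map_pre]

theorem pre_le_pre {D E : Subgroup (HQ H)} : pre H D ≤ pre H E ↔ D ≤ E := by
  refine ⟨fun h => ?_, pre_mono⟩
  rw [← map_pre (D := D), ← map_pre (D := E)]
  exact Subgroup.map_mono fun x hx => h hx

theorem pre_bot : pre H ⊥ = OO H := by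
  refine le_antisymm ?_ OO_le_pre
  rintro _ ⟨x, hx, rfl⟩
  have h1 : x ∈ (qm H).ker := hx
  rw [ker_qm] at h1
  exact ⟨x, h1, rfl⟩

theorem pre_top : pre H ⊤ = H := by
  refine le_antisymm pre_le fun x hx => mem_pre.2 ⟨hx, trivial⟩

theorem cj_pre (g : H) : cj (g : G) (pre H D) = pre H (cj (qm H g) D) := by
  have key : ∀ (g : H) (D : Subgroup (HQ H)), cj (g : G) (pre H D) ≤ pre H (cj (qm H g) D) := by
    rintro g D _ ⟨x, hx, rfl⟩
    obtain ⟨hxH, hx⟩ := mem_pre.1 hx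
    refine mem_pre.2 ⟨H.mul_mem (H.mul_mem g.2 hxH) (H.inv_mem g.2), ?_⟩
    exact ⟨qm H ⟨x, hxH⟩, hx, by
      simp only [MulEquiv.coe_toMonoidHom, MulAut.conj_apply]
      rw [← map_inv, ← map_mul, ← map_mul]
      rfl⟩
  refine le_antisymm (key g D) ?_
  have h1 := cj_mono (g : G) (key g⁻¹ (cj (qm H g) D))
  rw [map_inv, cj_inv_cj, coe_inv, cj_cj_inv] at h1
  exact h1

theorem pre_sup_OO (A : Subgroup H) : pre H (A.map (qm H)) = A.map H.subtype ⊔ OO H := by
  apply le_antisymm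
  · intro x hx
    obtain ⟨hxH, a, ha, hax⟩ := mem_pre.1 hx
    have h1 : a⁻¹ * ⟨x, hxH⟩ ∈ (qm H).ker := by
      rw [MonoidHom.mem_ker, map_mul, map_inv, hax, inv_mul_cancel]
    rw [ker_qm] at h1
    have h2 : x = (a : G) * ((a⁻¹ * ⟨x, hxH⟩ : H) : G) := by simp
    rw [h2]
    exact mul_mem (mem_sup_left ⟨a, ha, rfl⟩) (mem_sup_right ⟨_, h1, rfl⟩)
  · refine sup_le ?_ OO_le_pre
    rintro _ ⟨a, ha, rfl⟩
    exact coe_mem_pre.2 ⟨a, ha, rfl⟩

/-- the normaliser of a preimage -/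
theorem mem_normalizer_pre {g : H} : (g : G) ∈ normalizer (pre H D : Set G) ↔ qm H g ∈ normalizer (D : Set (HQ H)) := by
  rw [mem_normalizer_iff_cj, mem_normalizer_iff_cj, cj_pre]
  exact ⟨fun h => pre_inj h, fun h => by rw [h]⟩

/-! ### The reduction of `K ⊓ H` in `G` -/

/-- the reduction of `K ⊓ H`, as a subgroup of `G` -/
noncomputable def rg (H K : Subgroup G) : Subgroup G := (rd (K.subgroupOf H)).map H.subtype

theorem pre_tr : pre H (tr H K) = rg H K ⊔ OO H := pre_sup_OO _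

theorem rg_le_pre : rg H K ≤ pre H (tr H K) := by rw [pre_tr]; exact le_sup_left

variable [Finite G]

theorem rg_le (h : ∀ K ∈ Om, IsType K) (hK : K ∈ cov Om H) : rg H K ≤ K ⊓ H := by
  rintro _ ⟨x, hx, rfl⟩
  exact ⟨(isRd h H).le _ (RdOm.mem_OmIn hK) hx, x.2⟩

/-- `K = rg H K · O(K)` -/
theorem mem_cov_rg (h : ∀ K ∈ Om, IsType K) (hK : K ∈ cov Om H) : K ∈ cov Om (rg H K) := by
  rw [mem_cov_iff]
  refine ⟨hK.1, fun k hk => ?_⟩
  -- `k = o x`, `x ∈ K ⊓ H`, `x ∈ rd O(K ⊓ H)`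
  obtain ⟨o, ho, x, hx, rfl⟩ := exists_mul hK hk
  have hr := isRd h H
  have hm := RdOm.mem_OmIn hK
  obtain ⟨o', ho', y, hy, hyx⟩ := exists_mul (hr.mem_cov hm) (k := ⟨x, hx.2⟩) hx.1
  have h1 : ((o' : H) : G) ∈ OO K := by
    have h2 : ((o' : H) : G) ∈ (OO (K.subgroupOf H)).map H.subtype := ⟨o', ho', rfl⟩
    rw [OO_subgroupOf hK, subgroupOf_map_subtype] at h2
    exact h2.1
  have h3 : x = (o' : G) * (y : G) := congrArg Subtype.val hyx
  rw [h3]
  refine mul_mem (mem_sup_right ho) (mul_mem (mem_sup_right h1) (mem_sup_left ⟨?_, y, hy.2, rfl⟩))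
  exact hy.1

/-- the members with trace in `D` are covered by the preimage of `D` -/
theorem mem_cov_pre (h : ∀ K ∈ Om, IsType K) (hK : K ∈ cov Om H) (hD : tr H K ≤ D) : K ∈ cov Om (pre H D) :=
  cov_mono (rg_le_pre.trans (pre_mono hD)) (mem_cov_rg h hK)

/-- a Sylow 2-subgroup of `K` in the preimage of `D` -/
theorem exists_syl_le_pre (h : ∀ K ∈ Om, IsType K) (hK : K ∈ cov Om H) (hD : tr H K ≤ D) :
    ∃ Q, Syl Q K ∧ Q ≤ pre H D := by
  have h1 := mem_cov_pre h hK hD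
  obtain ⟨Q, hQ⟩ := Hyp.exists_syl (K ⊓ pre H D)
  exact ⟨Q, syl_of_syl_inf h1 hQ, hQ.1.trans inf_le_right⟩

/-! ### The trace from smaller subgroups -/

omit [Finite G] in
theorem pres_mono {A B : Subgroup G} (h : A ≤ B) : pres A ≤ pres B :=
  sSup_le fun _ hP => le_sSup ⟨hP.1.trans h, hP.2⟩

omit [Finite G] in
theorem pres_map_subtype (A : Subgroup H) : (pres A).map H.subtype = pres (A.map H.subtype) := by
  apply le_antisymm
  · refine le_sSup ⟨Subgroup.map_mono (RdOm.pres_le A), ?_⟩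
    rw [← map_commutator, RdOm.pres_perfect]
  · refine sSup_le fun P hP => ?_
    have h1 : P ≤ H := hP.1.trans (map_subtype_le A)
    have h2 : (P.subgroupOf H).map H.subtype = P := map_subgroupOf_eq_of_le h1
    rw [← h2]
    refine Subgroup.map_mono (le_sSup ⟨?_, ?_⟩)
    · rw [← Subgroup.map_le_map_iff_of_injective H.subtype_injective, h2]
      exact hP.1
    · apply Subgroup.map_injective H.subtype_injective
      rw [map_commutator, h2, hP.2]

theorem isT_cov_iff (hK : K ∈ cov Om H) : SolvTwo.IsT (K.subgroupOf H) ↔ SolvTwo.IsT K :=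
  TyTrans.isT_iff_of_quot (SubCent.quotEquiv hK)

open Classical in
theorem rg_eq (hK : K ∈ cov Om H) : rg H K = if SolvTwo.IsT K then K ⊓ H else pres (K ⊓ H) := by
  unfold rg rd
  by_cases hT : SolvTwo.IsT K
  · rw [if_pos ((isT_cov_iff hK).2 hT), if_pos hT, subgroupOf_map_subtype]
  · rw [if_neg (fun h => hT ((isT_cov_iff hK).1 h)), if_neg hT, pres_map_subtype, subgroupOf_map_subtype]

theorem rg_of_isT (hK : K ∈ cov Om H) (hT : SolvTwo.IsT K) : rg H K = K ⊓ H := by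
  classical rw [rg_eq hK, if_pos hT]

theorem rg_of_not_isT (hK : K ∈ cov Om H) (hT : ¬ SolvTwo.IsT K) : rg H K = pres (K ⊓ H) := by
  classical rw [rg_eq hK, if_neg hT]

theorem rg_mono {X : Subgroup G} (hK : K ∈ cov Om X) (hXH : X ≤ H) : rg X K ≤ rg H K := by
  have hKH : K ∈ cov Om H := cov_mono hXH hK
  by_cases hT : SolvTwo.IsT K
  · rw [rg_of_isT hK hT, rg_of_isT hKH hT]
    exact inf_le_inf_left _ hXH
  · rw [rg_of_not_isT hK hT, rg_of_not_isT hKH hT]
    exact pres_mono (inf_le_inf_left _ hXH)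

/-- if the cores of the traces are trivial: `O(rg H K) ≤ O(H)` -/
theorem rg_inf_OO_le (h : ∀ K ∈ Om, IsType K) (hc : ∀ J ∈ fam Om H, OO J = ⊥) (hK : K ∈ cov Om H) :
    rg H K ⊓ OO K ≤ OO H := by
  rintro _ ⟨⟨x, hx, rfl⟩, hxO⟩
  have hr := isRd h H
  have hm := RdOm.mem_OmIn hK
  have h1 : x ∈ OO (rd (K.subgroupOf H)) := by
    rw [hr.OO_eq hm, OO_subgroupOf hK]
    exact ⟨hxO, hx⟩
  have h2 : qm H x ∈ (⊥ : Subgroup (HQ H)) := by
    rw [← hc _ (tr_mem hK)]
    exact map_OO_le _ _ ⟨x, h1, rfl⟩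
  have h3 : x ∈ (qm H).ker := h2
  rw [ker_qm] at h3
  exact ⟨x, h3, rfl⟩

/-- the reduction in `H` and the reduction in a smaller subgroup agree modulo `O(H)` -/
theorem rg_le_sup (h : ∀ K ∈ Om, IsType K) (hc : ∀ J ∈ fam Om H, OO J = ⊥) {X : Subgroup G}
    (hX : K ∈ cov Om X) (hXH : X ≤ H) : rg H K ≤ rg X K ⊔ OO H := by
  have hK : K ∈ cov Om H := cov_mono hXH hX
  intro x hx
  obtain ⟨o, ho, y, hy, rfl⟩ := exists_mul (mem_cov_rg h hX) (rg_le h hK hx).1
  have h1 : o ∈ rg H K := by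
    have : o = o * y * y⁻¹ := by group
    rw [this]
    exact mul_mem hx (inv_mem (rg_mono hX hXH hy.2))
  exact mul_mem (mem_sup_right (rg_inf_OO_le h hc hK ⟨h1, ho⟩)) (mem_sup_left hy.2)

/-- **the trace of `K` as soon as the cores are trivial**: `pre H (tr H K) = rg X K · O(H)` for every `X ≤ H`
covering `K` -/
theorem pre_tr_eq (h : ∀ K ∈ Om, IsType K) (hc : ∀ J ∈ fam Om H, OO J = ⊥) {X : Subgroup G}
    (hX : K ∈ cov Om X) (hXH : X ≤ H) : pre H (tr H K) = rg X K ⊔ OO H := by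
  rw [pre_tr]
  exact le_antisymm (sup_le (rg_le_sup h hc hX hXH) le_sup_right) (sup_le_sup_right (rg_mono hX hXH) _)

/-- a member covered by the preimage of `D` has its trace in `D` -/
theorem tr_le_of_cov (h : ∀ K ∈ Om, IsType K) (hc : ∀ J ∈ fam Om H, OO J = ⊥)
    (hK : K ∈ cov Om (pre H D)) : tr H K ≤ D := by
  rw [← pre_le_pre, pre_tr_eq h hc hK pre_le]
  exact sup_le ((rg_le h hK).trans inf_le_right) OO_le_pre

/-- the members covered by the preimage of `D` are those with trace in `D` -/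
theorem mem_cov_pre_iff (h : ∀ K ∈ Om, IsType K) (hc : ∀ J ∈ fam Om H, OO J = ⊥) :
    K ∈ cov Om (pre H D) ↔ K ∈ cov Om H ∧ tr H K ≤ D :=
  ⟨fun hK => ⟨cov_mono pre_le hK, tr_le_of_cov h hc hK⟩, fun hK => mem_cov_pre h hK.1 hK.2⟩

/-- commuting traces: `[rg H K, rg H L] ≤ O(H)` -/
theorem commutator_rg_le (hKL : tr H K ≤ centralizer (tr H L : Set (HQ H))) : ⁅rg H K, rg H L⁆ ≤ OO H := by
  unfold rg
  rw [← map_commutator]
  rintro _ ⟨x, hx, rfl⟩
  refine ⟨x, ?_, rfl⟩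
  have h1 : (⁅rd (K.subgroupOf H), rd (L.subgroupOf H)⁆ : Subgroup H).map (qm H) = ⊥ := by
    rw [map_commutator]
    exact commutator_eq_bot_iff_le_centralizer.2 hKL
  have h2 : qm H x ∈ (⊥ : Subgroup (HQ H)) := by rw [← h1]; exact ⟨x, hx, rfl⟩
  have h3 : x ∈ (qm H).ker := h2
  rwa [ker_qm] at h3

/-! ### Pieces -/

/-- the piece of `K` in `H / O(H)` -/
noncomputable def px (Om : Set (Subgroup G)) (H K : Subgroup G) : Subgroup (HQ H) := pc (fam Om H) (tr H K)

theorem tr_le_px : tr H K ≤ px Om H K := le_pc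

theorem pre_tr_le : pre H (tr H K) ≤ pre H (px Om H K) := pre_mono tr_le_px

/-- `K` is covered by the preimage of its piece -/
theorem mem_cov_pre_px (h : ∀ K ∈ Om, IsType K) (hK : K ∈ cov Om H) : K ∈ cov Om (pre H (px Om H K)) :=
  mem_cov_pre h hK tr_le_px

theorem px_piece (hOm : Hyp Om) (h : ∀ K ∈ Om, IsType K) (hp : HasPieces (fam Om H)) (hK : K ∈ cov Om H) :
    Piece (fam Om H) (px Om H K) := hp.piece (hyp_fam hOm h H) (tr_mem hK)

/-- different pieces commute -/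
theorem px_comm (hK : K ∈ cov Om H) (hL : L ∈ cov Om H) (hne : px Om H K ≠ px Om H L) :
    px Om H K ≤ centralizer (px Om H L : Set (HQ H)) := pc_comm (tr_mem hK) (tr_mem hL) hne

theorem px_eq_or_comm (hK : K ∈ cov Om H) (hL : L ∈ cov Om H) :
    px Om H K = px Om H L ∨ tr H K ≤ centralizer (px Om H L : Set (HQ H)) := by
  by_cases hne : px Om H K = px Om H L
  · exact Or.inl hne
  · exact Or.inr (tr_le_px.trans (px_comm hK hL hne))

/-- members with non-commuting traces are in the same piece -/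
theorem px_eq_of_not_comm (hK : K ∈ cov Om H) (hL : L ∈ cov Om H)
    (hne : ¬ tr H K ≤ centralizer (tr H L : Set (HQ H))) : px Om H K = px Om H L := by
  by_contra h1
  exact hne ((tr_le_px.trans (px_comm hK hL h1)).trans (centralizer_le tr_le_px))

theorem tr_not_comm_self (hOm : Hyp Om) (h : ∀ K ∈ Om, IsType K) (hK : K ∈ cov Om H) :
    ¬ tr H K ≤ centralizer (tr H K : Set (HQ H)) := (hyp_fam hOm h H).not_le_centralizer_self (tr_mem hK)

/-- a trace in the piece of `L` -/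
theorem tr_le_px_iff (hOm : Hyp Om) (h : ∀ K ∈ Om, IsType K) (hK : K ∈ cov Om H) (hL : L ∈ cov Om H) :
    tr H K ≤ px Om H L ↔ px Om H K = px Om H L := by
  constructor
  · intro h1
    by_contra h2
    exact tr_not_comm_self hOm h hK ((tr_le_px.trans (px_comm hK hL h2)).trans (centralizer_le h1))
  · intro h1
    rw [← h1]; exact tr_le_px

/-- a piece is the trace or quasisimple with centre a 2-group -/
theorem px_eq_or (hOm : Hyp Om) (h : ∀ K ∈ Om, IsType K) (hp : HasPieces (fam Om H)) (hK : K ∈ cov Om H) :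
    px Om H K = tr H K ∨ (px Om H K ∉ fam Om H ∧ IsQuasisimple (px Om H K) ∧ IsPGroup 2 (center (px Om H K))) :=
  hp.eq_or_quasisimple (hyp_fam hOm h H) (tr_mem hK)

theorem px_cj (hOm : Hyp Om) (h : ∀ K ∈ Om, IsType K) (g : H) (hK : K ∈ cov Om H) :
    px Om H (cj (g : G) K) = cj (qm H g) (px Om H K) := by
  rw [px, px, tr_cj h g hK, cj_pc (hyp_fam hOm h H).conj]

theorem cj_pre_px (hOm : Hyp Om) (h : ∀ K ∈ Om, IsType K) {g : G} (hg : g ∈ H) (hK : K ∈ cov Om H) :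
    cj g (pre H (px Om H K)) = pre H (px Om H (cj g K)) := by
  have h1 := cj_pre (D := px Om H K) ⟨g, hg⟩
  rw [← px_cj hOm h ⟨g, hg⟩ hK] at h1
  exact h1

/-- if `z_K` is central in `H` then the piece of `K` is the trace of `K` -/
theorem px_eq_tr_of_central (hOm : Hyp Om) (h : ∀ K ∈ Om, IsType K) (hc : ∀ J ∈ fam Om H, OO J = ⊥)
    (hK : K ∈ cov Om H) (hz : H ≤ centralizer {zz K}) : px Om H K = tr H K := by
  refine pc_eq_self fun J hJ hne => ?_
  obtain ⟨L, hL, rfl⟩ := exists_tr hJ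
  have hH := hyp_fam hOm h H
  -- `z_K` is central in `H / O(H)`
  have hzc : ∀ y : HQ H, y * zz (tr H K) = zz (tr H K) * y := by
    intro y
    obtain ⟨x, rfl⟩ := qm_surjective H y
    rw [zz_tr hOm h hK, ← map_mul, ← map_mul]
    congr 1
    apply Subtype.ext
    exact mem_centralizer_singleton_iff.1 (hz x.2)
  obtain ⟨Q, hQ⟩ := Hyp.exists_syl (tr H L)
  obtain ⟨S, hS, -, hLS, hKS⟩ := PairComm.exists_common' hH (tr_mem hL) (tr_mem hK) hQ fun a _ => hzc a
  exact comm_of_core hH hc hS hLS hKS hne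

/-! ### Adjacency -/

/-- members with commuting traces are adjacent up to conjugation in `O(H)` -/
theorem exists_adj_cj (hOm : Hyp Om) (h : ∀ K ∈ Om, IsType K) (hK : K ∈ cov Om H) (hL : L ∈ cov Om H)
    (hc : tr H K ≤ centralizer (tr H L : Set (HQ H))) : ∃ x ∈ OO H, Adj Om (cj x K) L := by
  haveI : Fact (Nat.Prime 2) := ⟨Nat.prime_two⟩
  obtain ⟨x, hx, S, hS, -, h1, h2, -⟩ := exists_adj hOm h hK hL hc
  obtain ⟨T, hT⟩ := hS.exists_le_sylow
  exact ⟨x, ⟨x, hx, rfl⟩, T, OmS_mono hT h1, OmS_mono hT h2⟩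

/-- members in different pieces are adjacent up to conjugation in `O(H)` -/
theorem exists_adj_cj_of_ne (hOm : Hyp Om) (h : ∀ K ∈ Om, IsType K) (hK : K ∈ cov Om H) (hL : L ∈ cov Om H)
    (hne : px Om H K ≠ px Om H L) : ∃ x ∈ OO H, Adj Om (cj x K) L :=
  exists_adj_cj hOm h hK hL ((tr_le_px.trans (px_comm hK hL hne)).trans (centralizer_le tr_le_px))

end

/-! ### The subgroup `M` of the closing argument -/

section

variable {G : Type*} [Group G] [Finite G] {Om : Set (Subgroup G)} {H K L J M : Subgroup G}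

open CloGraph

/-- `O(H) ≤ M` for a four-group `{1, a, b, ab}` in `H` with `C(a), C(b), C(ab) ≤ M` -/
theorem OO_le_of_four {a b : G} (ha : a ∈ H) (hb : b ∈ H) (haa : a * a = 1) (hbb : b * b = 1)
    (hab : a * b = b * a) (hCa : centralizer {a} ≤ M) (hCb : centralizer {b} ≤ M)
    (hCab : centralizer {a * b} ≤ M) : OO H ≤ M := by
  have hodd : Odd (Nat.card (OO H)) := by
    rw [← Nat.not_even_iff_odd, even_iff_two_dvd]; exact odd_OO H
  have hn : ∀ f ∈ H, ∀ x ∈ OO H, f * x * f⁻¹ ∈ OO H := fun f hf x hx =>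
    (mem_normalizer_iff.1 (le_normalizer_OO H hf) x).1 hx
  exact Lib.KleinGen.le_of_klein (OO H) M hodd a b haa hbb hab (hn a ha) (hn b hb)
    (inf_le_right.trans hCa) (inf_le_right.trans hCb) (inf_le_right.trans hCab)

/-- `O(H) ≤ M` if `H` contains a subgroup `E` of exponent 2 with at least 4 elements and `C(e) ≤ M` for `e ∈ E#` -/
theorem OO_le_of_elem {E : Subgroup G} (hE : E ≤ H) (hsq : ∀ e ∈ E, e * e = 1) (h4 : 4 ≤ Nat.card E)
    (hC : ∀ e ∈ E, e ≠ 1 → centralizer {e} ≤ M) : OO H ≤ M := by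
  obtain ⟨a, ha, ha1⟩ : ∃ a ∈ E, a ≠ 1 := by
    by_contra hcon
    push Not at hcon
    have : E = ⊥ := (Subgroup.eq_bot_iff_forall E).2 hcon
    rw [this, Subgroup.card_bot] at h4
    omega
  obtain ⟨b, hb, hb1, hba⟩ : ∃ b ∈ E, b ≠ 1 ∧ b ≠ a := by
    by_contra hcon
    push Not at hcon
    have h1 : (E : Set G) ⊆ {1, a} := by
      intro x hx
      by_cases hx1 : x = 1
      · exact Or.inl hx1
      · exact Or.inr (hcon x hx hx1)
    have h2 := Set.ncard_le_ncard h1 (Set.toFinite _)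
    have h3 : ({1, a} : Set G).ncard ≤ 2 := by
      rw [Set.ncard_pair (Ne.symm ha1)]
    have h5 : (E : Set G).ncard = Nat.card E := rfl
    omega
  have hab : a * b = b * a := by
    have h1 := hsq a ha
    have h2 := hsq b hb
    have h3 := hsq _ (mul_mem ha hb)
    calc a * b = (a * b)⁻¹ := eq_inv_of_mul_eq_one_left h3
      _ = b⁻¹ * a⁻¹ := mul_inv_rev _ _
      _ = b * a := by rw [inv_eq_of_mul_eq_one_right h1, inv_eq_of_mul_eq_one_right h2]
  refine OO_le_of_four (hE ha) (hE hb) (hsq a ha) (hsq b hb) hab (hC a ha ha1) (hC b hb hb1)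
    (hC _ (mul_mem ha hb) ?_)
  intro h1
  have h2 : b = a⁻¹ := (inv_eq_of_mul_eq_one_right h1).symm
  rw [h2, inv_eq_of_mul_eq_one_right (hsq a ha)] at hba
  exact hba rfl

/-- a member whose trace commutes with the trace of a member of `Γ` is in `Γ` -/
theorem _root_.Cfsg.Agent.Cit.CloGraph.Emb.mem_of_tr_comm (e : Emb Om M) (h : ∀ K ∈ Om, IsType K) (hO : OO H ≤ M) (hK : K ∈ cov Om H) (hKM : K ∈ OmS Om M)
    (hJ : J ∈ cov Om H) (hc : tr H K ≤ centralizer (tr H J : Set (HQ H))) : J ∈ OmS Om M := by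
  obtain ⟨x, hx, hadj⟩ := exists_adj_cj e.hyp h hK hJ hc
  exact e.mem_of_adj (cj_mem_OmS_of_mem e.hyp (hO hx) hKM) hadj

theorem _root_.Cfsg.Agent.Cit.CloGraph.Emb.mem_of_px_ne (e : Emb Om M) (h : ∀ K ∈ Om, IsType K) (hO : OO H ≤ M) (hK : K ∈ cov Om H) (hKM : K ∈ OmS Om M)
    (hJ : J ∈ cov Om H) (hne : px Om H K ≠ px Om H J) : J ∈ OmS Om M :=
  e.mem_of_tr_comm h hO hK hKM hJ ((tr_le_px.trans (px_comm hK hJ hne)).trans (centralizer_le tr_le_px))

/-- **if the piece of a member of `Γ` is in `M` then all members covered by `H` are in `Γ`** -/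
theorem _root_.Cfsg.Agent.Cit.CloGraph.Emb.cov_subset_of_pre_le (e : Emb Om M) (h : ∀ K ∈ Om, IsType K) (hO : OO H ≤ M) (hK : K ∈ cov Om H) (hKM : K ∈ OmS Om M)
    (hD : pre H (px Om H K) ≤ M) : cov Om H ⊆ OmS Om M := by
  intro J hJ
  by_cases hne : px Om H K = px Om H J
  · obtain ⟨Q, hQ, hQ2⟩ := exists_syl_le_pre h hJ (D := px Om H K) (by rw [hne]; exact tr_le_px)
    exact mem_of_syl hJ.1 hQ (hQ2.trans hD)
  · exact e.mem_of_px_ne h hO hK hKM hJ hne

/-- **and `H ≤ M`** -/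
theorem _root_.Cfsg.Agent.Cit.CloGraph.Emb.le_of_pre_le (e : Emb Om M) (h : ∀ K ∈ Om, IsType K) (hO : OO H ≤ M) (hK : K ∈ cov Om H) (hKM : K ∈ OmS Om M)
    (hD : pre H (px Om H K) ≤ M) : H ≤ M :=
  e.le_of_cov (e.cov_subset_of_pre_le h hO hK hKM hD) ⟨K, hK⟩

/-- if there are two different pieces one of which contains a member of `Γ` then `H ≤ M` -/
theorem _root_.Cfsg.Agent.Cit.CloGraph.Emb.le_of_two_pieces (e : Emb Om M) (h : ∀ K ∈ Om, IsType K) (hO : OO H ≤ M) (hK : K ∈ cov Om H) (hKM : K ∈ OmS Om M)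
    (hJ : J ∈ cov Om H) (hne : px Om H K ≠ px Om H J) : H ≤ M := by
  refine e.le_of_cov (fun L hL => ?_) ⟨K, hK⟩
  have hJM := e.mem_of_px_ne h hO hK hKM hJ hne
  by_cases h1 : px Om H K = px Om H L
  · exact e.mem_of_px_ne h hO hJ hJM hL (fun h2 => hne (h1.trans h2.symm))
  · exact e.mem_of_px_ne h hO hK hKM hL h1

end

end Cfsg.Agent.Cit.UseT
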