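import Cfsg.Agent.Cit.UseT2

/-!
# Using THEOREM T for a proper subgroup `H`, third part: `Om(S)` modulo `O(H)`

* `OmS_fam` : `Om(S)` in `H / O(H)` is the set of traces of the members of `Om(S)` covered by `H` (`S ≤ H` a 2-group);
  `injOn_tr`, `ncard_OmS_fam`.
* `exists_cj_mem` : if `S` is a Sylow 2-subgroup of `H` then every member covered by `H` is `H`-conjugate into `Om(S)`.
* `frattini` : Frattini argument for Sylow 2-subgroups of subgroups normalised by `H`.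
* `ES_fam` : `E(S)` modulo `O(H)`.
-/

set_option autoImplicit false
set_option linter.dupNamespace false
set_option linter.style.haveILetI false
set_option linter.unusedSectionVars false

namespace Cfsg.Agent.Cit.UseT

open Subgroup Cfsg Cfsg.Agent.Cit SubCent

variable {G : Type*} [Group G] [Finite G] {Om : Set (Subgroup G)} {H K L J M S : Subgroup G} {D : Subgroup (HQ H)}

/-- an equivariant reduction contains all 2-elements -/
theorem mem_of_two {X : Type*} [Group X] [Finite X] {Om : Set (Subgroup X)} {r : Subgroup X → Subgroup X}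
    (hr : RdOm.IsRd Om r) {K : Subgroup X} (hm : K ∈ Om) {x : X} (hx : x ∈ K) {a : ℕ} (ha : x ^ 2 ^ a = 1) :
    x ∈ r K := by
  have hn : K ≤ normalizer (r K : Set X) := le_normalizer.trans (hr.normalizer_le hm)
  have hle := hr.le _ hm
  have hodd := not_dvd_relIndex (hr.mem_cov hm)
  set N := (r K).subgroupOf K with hN
  haveI : N.Normal := (normal_subgroupOf_iff_le_normalizer hle).2 hn
  have h1 : ((⟨x, hx⟩ : K) : K ⧸ N) ^ 2 ^ a = 1 := by
    rw [← QuotientGroup.mk_pow]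
    have : (⟨x, hx⟩ : K) ^ 2 ^ a = 1 := Subtype.ext (by simpa using ha)
    rw [this]; rfl
  have h2 : orderOf ((⟨x, hx⟩ : K) : K ⧸ N) ∣ 2 ^ a := orderOf_dvd_of_pow_eq_one h1
  have h3 : orderOf ((⟨x, hx⟩ : K) : K ⧸ N) ∣ N.index := orderOf_dvd_natCard _
  have h4 : (2 ^ a).Coprime N.index :=
    Nat.Coprime.pow_left a ((Nat.Prime.coprime_iff_not_dvd Nat.prime_two).2 hodd)
  have h5 : orderOf ((⟨x, hx⟩ : K) : K ⧸ N) ∣ 1 := by
    rw [← h4]; exact Nat.dvd_gcd h2 h3
  rw [Nat.dvd_one, orderOf_eq_one_iff, QuotientGroup.eq_one_iff] at h5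
  exact h5

theorem le_of_isPGroup {X : Type*} [Group X] [Finite X] {Om : Set (Subgroup X)} {r : Subgroup X → Subgroup X}
    (hr : RdOm.IsRd Om r) {K Q : Subgroup X} (hm : K ∈ Om) (hQ : IsPGroup 2 Q) (hQK : Q ≤ K) : Q ≤ r K := by
  intro x hx
  obtain ⟨a, ha⟩ := hQ ⟨x, hx⟩
  exact mem_of_two hr hm (hQK hx) (a := a) (by simpa using congrArg Subtype.val ha)

/-- a member is in `Om(S)` iff its reduction in `H` is -/
theorem rd_mem_OmS_iff (h : ∀ K ∈ Om, IsType K) (hK : K ∈ cov Om H) (hS : IsPGroup 2 S) (hSH : S ≤ H) :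
    rd (K.subgroupOf H) ∈ OmS (rd '' OmIn Om H) (S.subgroupOf H) ↔ K ∈ OmS Om S := by
  have hr := isRd h H
  have hm := RdOm.mem_OmIn hK
  have hle := hr.le _ hm
  constructor
  · intro hJ
    refine ⟨hK.1, fun h4 => ?_⟩
    have hJ3 : ¬ 2 ∣ (S.subgroupOf H).relIndex (K.subgroupOf H) := by
      intro h5
      have h6 : (S.subgroupOf H).relIndex (K.subgroupOf H) ∣
          (S.subgroupOf H).relIndex (rd (K.subgroupOf H)) * (rd (K.subgroupOf H)).relIndex (K.subgroupOf H) := by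
        rw [← inf_relIndex_right (S.subgroupOf H) (K.subgroupOf H),
          ← inf_relIndex_right (S.subgroupOf H) (rd (K.subgroupOf H)),
          relIndex_mul_relIndex _ _ _ inf_le_right hle]
        exact relIndex_dvd_of_le_left _ (inf_le_inf_left _ hle)
      rcases (Nat.Prime.dvd_mul Nat.prime_two).1 (h5.trans h6) with h7 | h7
      · exact hJ.2 h7
      · exact not_dvd_relIndex (hr.mem_cov hm) h7
    have h1 : K ∈ OmS Om S := by
      rw [← mem_OmS_restrX hK hSH]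
      refine ⟨?_, hJ3⟩
      rw [← RdOm.OmIn_eq]; exact hm
    exact h1.2 h4
  · intro hKS
    have h1 : Syl (K ⊓ S) K := syl_inf hS hKS
    have h2 : Syl ((K ⊓ S).subgroupOf H) (K.subgroupOf H) := by
      refine ⟨fun x hx => hx.1, (hS.to_le inf_le_right).comap_subtype, ?_⟩
      have h3 := (mem_OmS_restrX hK hSH).2 hKS
      intro h4
      refine h3.2 ?_
      rw [← inf_relIndex_right (S.subgroupOf H) (K.subgroupOf H)]
      have h5 : S.subgroupOf H ⊓ K.subgroupOf H = (K ⊓ S).subgroupOf H := by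
        ext x
        simp only [mem_inf, mem_subgroupOf]
        exact and_comm
      rwa [h5]
    refine mem_OmS_of_le ⟨_, hm, rfl⟩ (hr.syl' hm h2 (le_of_isPGroup hr hm h2.2.1 h2.1)) ?_
    exact fun x hx => hx.2

theorem OmS_fam (hOm : Hyp Om) (h : ∀ K ∈ Om, IsType K) (hS : IsPGroup 2 S) (hSH : S ≤ H) :
    OmS (fam Om H) ((S.subgroupOf H).map (qm H)) = tr H '' (OmS Om S ∩ cov Om H) := by
  have hH := RdOm.hyp_rd (RdOm.hyp_OmIn hOm H) (RdOm.isType_OmIn h H)
  have hset := OmS_img hH (not_dvd_ker H) (S := S.subgroupOf H) hS.comap_subtype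
  rw [fam, hset]
  ext J
  constructor
  · rintro ⟨_, hJ, rfl⟩
    obtain ⟨⟨J', hJ', rfl⟩, hJ2⟩ := hJ
    have hJ3 := hJ'
    rw [RdOm.OmIn_eq] at hJ'
    obtain ⟨K, hK, rfl⟩ := hJ'
    exact ⟨K, ⟨(rd_mem_OmS_iff h hK hS hSH).1 ⟨⟨_, hJ3, rfl⟩, hJ2⟩, hK⟩, rfl⟩
  · rintro ⟨K, ⟨hK1, hK2⟩, rfl⟩
    exact ⟨_, (rd_mem_OmS_iff h hK2 hS hSH).2 hK1, rfl⟩

theorem injOn_tr (hOm : Hyp Om) (h : ∀ K ∈ Om, IsType K) (hS : IsPGroup 2 S) (hSH : S ≤ H) :
    Set.InjOn (tr H) (OmS Om S ∩ cov Om H) := by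
  intro K hK L hL hKL
  by_contra hne
  exact tr_ne hOm h hK.2 hL.2 hS hSH hK.1 hL.1 hne hKL

theorem ncard_OmS_fam (hOm : Hyp Om) (h : ∀ K ∈ Om, IsType K) (hS : IsPGroup 2 S) (hSH : S ≤ H) :
    (OmS (fam Om H) ((S.subgroupOf H).map (qm H))).ncard = (OmS Om S ∩ cov Om H).ncard := by
  rw [OmS_fam hOm h hS hSH]
  exact (injOn_tr hOm h hS hSH).ncard_image

/-- `S ∈ Syl₂(H)`: every member covered by `H` is `H`-conjugate into `Om(S)` -/
theorem exists_cj_mem (hOm : Hyp Om) (hS : Syl S H) (hK : K ∈ cov Om H) : ∃ x ∈ H, cj x K ∈ OmS Om S := by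
  obtain ⟨Q, hQ⟩ := Hyp.exists_syl (K ⊓ H)
  have hQK := syl_of_syl_inf hK hQ
  obtain ⟨T, hT, hQT⟩ := exists_syl_ge hQ.2.1 (hQ.1.trans inf_le_right)
  obtain ⟨x, hx, hxT⟩ := hT.exists_conj hS
  refine ⟨x, hx, ?_⟩
  rw [← hxT]
  exact cj_mem_OmS hOm.conj x (mem_OmS_of_le hK.1 hQK hQT)

/-- and the conjugate is covered by `H` -/
theorem exists_cj_mem' (hOm : Hyp Om) (hS : Syl S H) (hK : K ∈ cov Om H) :
    ∃ x ∈ H, cj x K ∈ OmS Om S ∧ cj x K ∈ cov Om H := by
  obtain ⟨x, hx, h1⟩ := exists_cj_mem hOm hS hK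
  exact ⟨x, hx, h1, cj_mem_cov_of_mem hOm.conj (le_normalizer hx) hK⟩

/-- Frattini argument: `X` normalised by `H`, `T ∈ Syl₂(X)` -/
theorem frattini {X T : Subgroup G} (hn : H ≤ normalizer (X : Set G)) (hT : Syl T X) {g : G} (hg : g ∈ H) :
    ∃ x ∈ X, x * g ∈ normalizer (T : Set G) := by
  have h1 : Syl (cj g T) X := by
    have := hT.cj g
    rwa [mem_normalizer_iff_cj.1 (hn hg)] at this
  obtain ⟨x, hx, hxT⟩ := h1.exists_conj hT
  refine ⟨x, hx, ?_⟩
  rw [mem_normalizer_iff_cj, cj_mul]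
  exact hxT

/-- **Frattini for a preimage**: `D` normalised by `H / O(H)` -/
theorem frattini_pre (hD : D.Normal) {T : Subgroup G} (hT : Syl T (pre H D)) {g : G} (hg : g ∈ H) :
    ∃ x ∈ pre H D, x * g ∈ normalizer (T : Set G) := by
  refine frattini (fun y hy => ?_) hT hg
  have h1 : ((⟨y, hy⟩ : H) : G) ∈ normalizer (pre H D : Set G) := by
    rw [mem_normalizer_pre, normalizer_eq_top_iff.2 hD]; trivial
  exact h1

/-- `H` permutes the pieces: if `g ∈ H` maps `K` into the piece of `K` then `g` normalises it -/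
theorem mem_normalizer_px (hOm : Hyp Om) (h : ∀ K ∈ Om, IsType K) (hK : K ∈ cov Om H) (hL : L ∈ cov Om H)
    {g : G} (hg : g ∈ H) (hKL : px Om H K = px Om H L) (hgK : cj g K = L) :
    g ∈ normalizer (pre H (px Om H K) : Set G) := by
  rw [mem_normalizer_iff_cj, cj_pre_px hOm h hg hK, hgK, hKL]

/-- if all members covered by `H` are in one piece then this piece is normal -/
theorem px_normal (hOm : Hyp Om) (h : ∀ K ∈ Om, IsType K) (hK : K ∈ cov Om H)
    (h1 : ∀ J ∈ cov Om H, px Om H J = px Om H K) : (px Om H K).Normal := by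
  rw [← normalizer_eq_top_iff, eq_top_iff]
  intro y _
  obtain ⟨x, rfl⟩ := qm_surjective H y
  rw [mem_normalizer_iff_cj, ← px_cj hOm h x hK]
  exact h1 _ (cj_mem_cov_of_mem hOm.conj (le_normalizer x.2) hK)

/-- the members of the family in a piece: HYP in the group `D` -/
theorem hyp_piece (hOm : Hyp Om) (h : ∀ K ∈ Om, IsType K) (D : Subgroup (HQ H)) : Hyp (restr (fam Om H) D) :=
  (hyp_fam hOm h H).restr D

end Cfsg.Agent.Cit.UseT
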