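import Mathlib
import Cfsg.Agent.Cit.UseT2
import Cfsg.Agent.Cit.UseT3
import Cfsg.Agent.Cit.Branches
import Cfsg.Agent.Cit.CorTwo
import Cfsg.Agent.Cit.CoresCore
import Cfsg.Agent.Cit.CloseFus
import Cfsg.Agent.Cit.TypeDet.Setup
import Cfsg.Agent.Nodes.GenFrame

/-!
# `(M1)` : `C_G(e) ≤ M` (project CIT, R18)

`e : Emb Om M`, `H ≤ G` with THEOREM T for `H / O(H)` and `O(H) ≤ M`.

* `le_or` : if `H` covers three members with commuting traces, one of them in `Γ = OmS Om M`, then `H ≤ M`, or the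
  three traces lie in one piece of type `D 4`;
* `centralizer_le_or'`, `m1` : `C(a) ≤ M` for `a ∈ E(S)`, `n = |Om(S)| ≥ 3`, except for a piece of type `D 4`, `n = 4`;
* `ncard_le_of_comm` : commuting traces in `H / O(H)` come from one `Om(S)`;
* `cj_mem_OmS_of_normalizer_ES`, `connected` : connectivity of the commuting graph from THEOREM CLOSE.
-/

set_option autoImplicit false
set_option linter.dupNamespace false
set_option linter.style.haveILetI false
set_option linter.unusedSectionVars false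

namespace Cfsg.Agent.Cit.CloMOne

open Subgroup Cfsg Cfsg.Agent.Cit SubCent UseT CloGraph TypeDet

/-! ### Maximal commuting families -/

section Max

variable {X : Type*} [Group X] [Finite X] {Om : Set (Subgroup X)} {D : Subgroup X}

/-- a commuting family of members in `D` is contained in a maximal one -/
theorem exists_max (hyp : Hyp Om) {s₀ : Set (Subgroup X)} (h0 : s₀ ⊆ TypeDet.OmIn Om D)
    (hc : ∀ K ∈ s₀, ∀ L ∈ s₀, K ≠ L → cm K L) :
    ∃ s : Set (Subgroup X), s₀ ⊆ s ∧ s ⊆ TypeDet.OmIn Om D ∧ (∀ K ∈ s, ∀ L ∈ s, K ≠ L → cm K L) ∧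
      ∀ L ∈ TypeDet.OmIn Om D, ∃ K ∈ s, ¬ cm L K := by
  classical
  obtain ⟨s, hs, hmax⟩ := (Set.toFinite {s : Set (Subgroup X) | s₀ ⊆ s ∧ s ⊆ TypeDet.OmIn Om D ∧
    ∀ K ∈ s, ∀ L ∈ s, K ≠ L → cm K L}).exists_maximal ⟨s₀, subset_rfl, h0, hc⟩
  refine ⟨s, hs.1, hs.2.1, hs.2.2, fun L hL => ?_⟩
  by_contra hcon
  push Not at hcon
  have h1 : insert L s ∈ {s : Set (Subgroup X) | s₀ ⊆ s ∧ s ⊆ TypeDet.OmIn Om D ∧
      ∀ K ∈ s, ∀ L ∈ s, K ≠ L → cm K L} := by
    refine ⟨hs.1.trans (Set.subset_insert _ _), Set.insert_subset hL hs.2.1, ?_⟩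
    rintro K (rfl | hK) L' (rfl | hL') hne
    · exact absurd rfl hne
    · exact hcon L' hL'
    · exact cm_symm (hcon K hK)
    · exact hs.2.2 K hK L' hL' hne
  have h2 := hmax h1 (Set.subset_insert _ _)
  have h3 : L ∈ s := h2 (Set.mem_insert _ _)
  exact not_cm_self hyp hL.1 (hcon L h3)

/-- a commuting family of members is contained in some `Om(P)`, `P` a 2-group -/
theorem exists_two_group {s : Set (Subgroup X)} (hs : s ⊆ Om)
    (hc : ∀ K ∈ s, ∀ L ∈ s, K ≠ L → cm K L) : ∃ P : Subgroup X, IsPGroup 2 P ∧ P ≤ sSup s ∧ s ⊆ OmS Om P := by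
  haveI : Fact (Nat.Prime 2) := ⟨Nat.prime_two⟩
  induction s, Set.toFinite s using Set.Finite.induction_on with
  | empty => exact ⟨⊥, IsPGroup.of_bot, bot_le, Set.empty_subset _⟩
  | @insert K s hKs _ ih =>
    obtain ⟨P, hP, hPs, hP2⟩ := ih ((Set.subset_insert _ _).trans hs)
      (fun K hK L hL => hc K (Or.inr hK) L (Or.inr hL))
    obtain ⟨Q, hQ⟩ := Hyp.exists_syl K
    have h1 : P ≤ centralizer (Q : Set X) := by
      refine hPs.trans ((sSup_le fun L hL => ?_).trans (centralizer_le hQ.1))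
      have hne : L ≠ K := fun h0 => hKs (h0 ▸ hL)
      exact cm_iff_le_centralizer.1 (hc L (Or.inr hL) K (Or.inl rfl) hne)
    have h2 : P ≤ normalizer (Q : Set X) := h1.trans (centralizer_le_normalizer _)
    refine ⟨P ⊔ Q, hP.to_sup_of_normal_right' hQ.2.1 h2, ?_, ?_⟩
    · exact sup_le (hPs.trans (sSup_le_sSup (Set.subset_insert _ _)))
        (hQ.1.trans (le_sSup (Set.mem_insert _ _)))
    · rintro L (rfl | hL)
      · exact mem_OmS_of_le (hs (Or.inl rfl)) hQ le_sup_right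
      · exact OmS_mono le_sup_left (hP2 hL)

/-- a maximal commuting family in a piece of type `D 4` has four members -/
theorem ncard_of_D4 (hyp : Hyp Om) (hD : TyPc Om (.D 4) D) {s : Set (Subgroup X)}
    (h1 : s ⊆ TypeDet.OmIn Om D) (h2 : ∀ K ∈ s, ∀ L ∈ s, K ≠ L → cm K L)
    (h3 : ∀ L ∈ TypeDet.OmIn Om D, ∃ K ∈ s, ¬ cm L K) : s.ncard = 4 := by
  obtain ⟨-, -, -, -, p, c, hc, -⟩ := hD
  have hfin : Fintype s := Fintype.ofFinite _
  have h4 := KindsD.kt_D hyp c hc (K := fun k : s => k.1) (fun k => h1 k.2)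
    (fun i j hij => h2 _ i.2 _ j.2 fun h0 => hij (Subtype.ext h0))
    (fun L' hL' => by
      obtain ⟨k, hk, h0⟩ := h3 L' hL'
      exact ⟨⟨k, hk⟩, h0⟩)
  have h5 : Fintype.card s = 4 := h4.1
  rw [← h5, ← Nat.card_eq_fintype_card, Nat.card_coe_set_eq]

end Max

/-! ### The generation argument in a piece -/

section

variable {G : Type*} [Group G] [Finite G] {Om : Set (Subgroup G)} {H K L J M : Subgroup G}

/-- members of `Γ` are in `M` -/
theorem le_of_mem (e : Emb Om M) (hK : K ∈ OmS Om M) : K ≤ M :=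
  (e.hyp.le_centralizer hK.1).trans (e.cent K hK)

theorem le_or (e : Emb Om M) (h : ∀ K ∈ Om, IsType K) (hp : HasPieces (fam Om H)) (hO : OO H ≤ M)
    {K₁ K₂ K₃ : Subgroup G} (h1 : K₁ ∈ cov Om H) (h2 : K₂ ∈ cov Om H) (h3 : K₃ ∈ cov Om H)
    (hM : K₁ ∈ OmS Om M) (c12 : cm (tr H K₁) (tr H K₂)) (c13 : cm (tr H K₁) (tr H K₃))
    (c23 : cm (tr H K₂) (tr H K₃)) :
    H ≤ M ∨ (px Om H K₁ = px Om H K₂ ∧ px Om H K₁ = px Om H K₃ ∧ TyPc (fam Om H) (.D 4) (px Om H K₁)) := by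
  by_cases e12 : px Om H K₁ = px Om H K₂
  swap
  · exact Or.inl (e.le_of_two_pieces h hO h1 hM h2 e12)
  by_cases e13 : px Om H K₁ = px Om H K₃
  swap
  · exact Or.inl (e.le_of_two_pieces h hO h1 hM h3 e13)
  have hf := hyp_fam e.hyp h H
  have hne : ∀ {J : Subgroup G} {K : Subgroup G}, J ∈ cov Om H → cm (tr H J) (tr H K) → tr H J ≠ tr H K := by
    intro J K hJ hc he
    rw [← he] at hc
    exact not_cm_self hf (tr_mem hJ) hc
  have d1 : tr H K₁ ≤ px Om H K₁ := tr_le_px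
  have d2 : tr H K₂ ≤ px Om H K₁ := by rw [e12]; exact tr_le_px
  have d3 : tr H K₃ ≤ px Om H K₁ := by rw [e13]; exact tr_le_px
  obtain ⟨τ, hτ⟩ := typed_of_three hf (px_piece e.hyp h hp h1) (tr_mem h1) (tr_mem h2) (tr_mem h3) d1 d2 d3
    c12 c13 c23
  by_cases hD : τ = .D 4
  · subst hD
    exact Or.inr ⟨e12, e13, hτ⟩
  left
  -- a maximal commuting family
  obtain ⟨s, hs0, hs1, hs2, hs3⟩ := exists_max hf (D := px Om H K₁) (s₀ := {tr H K₁, tr H K₂, tr H K₃})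
    (by
      rintro _ (rfl | rfl | rfl)
      · exact ⟨tr_mem h1, d1⟩
      · exact ⟨tr_mem h2, d2⟩
      · exact ⟨tr_mem h3, d3⟩)
    (by
      rintro _ (rfl | rfl | rfl) _ (rfl | rfl | rfl) hne
      · exact absurd rfl hne
      · exact c12
      · exact c13
      · exact cm_symm c12
      · exact absurd rfl hne
      · exact c23
      · exact cm_symm c13
      · exact cm_symm c23
      · exact absurd rfl hne)
  have m1 : tr H K₁ ∈ s := hs0 (Or.inl rfl)
  have m2 : tr H K₂ ∈ s := hs0 (Or.inr (Or.inl rfl))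
  have m3 : tr H K₃ ∈ s := hs0 (Or.inr (Or.inr rfl))
  -- its members are traces of members of `Γ`
  have hM2 : K₂ ∈ OmS Om M := e.mem_of_tr_comm h hO h1 hM h2 (cm_iff_le_centralizer.1 c12)
  have key : ∀ J ∈ cov Om H, tr H J ∈ s → J ∈ OmS Om M := by
    intro J hJ hJs
    by_cases hJ1 : tr H J = tr H K₁
    · refine e.mem_of_tr_comm h hO h2 hM2 hJ (cm_iff_le_centralizer.1 ?_)
      rw [hJ1]
      exact cm_symm c12
    · exact e.mem_of_tr_comm h hO h1 hM hJ (cm_iff_le_centralizer.1 (hs2 _ m1 _ hJs (Ne.symm hJ1)))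
  have key2 : ∀ L' ∈ TypeDet.OmIn (fam Om H) (px Om H K₁), ∀ k ∈ s, cm L' k →
      L' ≤ (M.subgroupOf H).map (qm H) := by
    rintro L' ⟨hL', -⟩ k hk hc
    obtain ⟨J, hJ, rfl⟩ := exists_tr hL'
    obtain ⟨J', hJ', rfl⟩ := exists_tr (hs1 hk).1
    have h4 := e.mem_of_tr_comm h hO hJ' (key J' hJ' hk) hJ (cm_iff_le_centralizer.1 (cm_symm hc))
    exact (tr_le h hJ).trans (Subgroup.map_mono (comap_mono (le_of_mem e h4)))
  -- generation
  have hfin : Fintype s := Fintype.ofFinite _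
  have hcard : 3 ≤ Fintype.card s := by
    rw [← Nat.card_eq_fintype_card, Nat.card_coe_set_eq]
    have h5 : ({tr H K₁, tr H K₂, tr H K₃} : Set (Subgroup (HQ H))).ncard = 3 := by
      rw [Set.ncard_eq_three]
      exact ⟨_, _, _, hne h1 c12, hne h1 c13, hne h2 c23, rfl⟩
    rw [← h5]
    exact Set.ncard_le_ncard hs0 (Set.toFinite _)
  obtain ⟨-, -, -, -, p, c, hc, -⟩ := hτ
  have hgen : px Om H K₁ ≤ (M.subgroupOf H).map (qm H) :=
    Nodes.GenFrame.gen hf c (K := fun k : s => k.1) (fun k => hs1 k.2)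
      (fun i j hij => hs2 _ i.2 _ j.2 fun h0 => hij (Subtype.ext h0))
      (fun L' hL' => by
        obtain ⟨k, hk, h0⟩ := hs3 L' hL'
        exact ⟨⟨k, hk⟩, h0⟩) hcard (fun L' hL' k hk => key2 L' hL' k.1 k.2 hk) hc hD
  refine e.le_of_pre_le h hO h1 hM ?_
  intro x hx
  obtain ⟨hxH, hx2⟩ := mem_pre.1 hx
  obtain ⟨y, hy, hxy⟩ := hgen hx2
  have h5 : y⁻¹ * ⟨x, hxH⟩ ∈ (qm H).ker := by
    rw [MonoidHom.mem_ker, map_mul, map_inv, hxy, inv_mul_cancel]
  rw [ker_qm] at h5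
  have h6 : (y : G)⁻¹ * x ∈ M := hO ⟨_, h5, rfl⟩
  have h7 : x = y * ((y : G)⁻¹ * x) := by group
  rw [h7]
  exact mul_mem hy h6

/-- commuting traces give members of `Om(S)`, `S ∈ Syl₂(G)` -/
theorem ncard_le_of_comm (hOm : Hyp Om) (h : ∀ K ∈ Om, IsType K) {s : Set (Subgroup (HQ H))} (hs : s ⊆ fam Om H)
    (hc : ∀ K ∈ s, ∀ L ∈ s, K ≠ L → cm K L) (S : Sylow 2 G) : s.ncard ≤ (OmS Om (S : Subgroup G)).ncard := by
  obtain ⟨P, hP, -, hsP⟩ := exists_two_group hs hc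
  obtain ⟨T, hT, rfl⟩ := exists_lift (qm_surjective H) hP
  have h1 : (T.map H.subtype).subgroupOf H = T := by
    rw [subgroupOf, comap_map_eq_self_of_injective H.subtype_injective]
  have hT2 : IsPGroup 2 (T.map H.subtype) := hT.map _
  have h2 := ncard_OmS_fam hOm h hT2 (map_subtype_le T)
  rw [h1] at h2
  obtain ⟨S', hS'⟩ := hT2.exists_le_sylow
  calc s.ncard ≤ (OmS (fam Om H) (T.map (qm H))).ncard := Set.ncard_le_ncard hsP (Set.toFinite _)
    _ = (OmS Om (T.map H.subtype) ∩ cov Om H).ncard := h2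
    _ ≤ (OmS Om (S' : Subgroup G)).ncard :=
      Set.ncard_le_ncard (Set.inter_subset_left.trans (OmS_mono hS')) (Set.toFinite _)
    _ = _ := Branches.ncard_eq hOm S' S

/-! ### `(M1)` -/

/-- the Sylow 2-subgroups of the members of `Om(S)` centralise `E(S)` -/
theorem inf_le_centralizer_ES (hOm : Hyp Om) {S : Subgroup G} (hS : IsPGroup 2 S) (hK : K ∈ OmS Om S) :
    K ⊓ S ≤ centralizer (ES Om S : Set G) := by
  intro x hx
  rw [ES, centralizer_closure, mem_centralizer_iff]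
  rintro _ ⟨L, hL, rfl⟩
  by_cases hne : K = L
  · subst hne
    exact (mem_centralizer_singleton_iff.1 (hOm.le_centralizer hK.1 hx.1)).symm
  · exact (hOm.comm hS hK hL hne hx (hOm.zz_mem_inf hS hL)).symm

/-- the traces in `C(a)`, `a ∈ E(S)`, of different members of `Om(S)` commute -/
theorem comm_tr_of_mem_ES (hOm : Hyp Om) (h : ∀ K ∈ Om, IsType K) {S : Sylow 2 G} {a : G}
    (hp : HasPieces (fam Om (centralizer {a}))) (ha : a ∈ ES Om (S : Subgroup G)) {L L' : Subgroup G}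
    (hL : L ∈ OmS Om (S : Subgroup G)) (hL' : L' ∈ OmS Om (S : Subgroup G)) (hne : L ≠ L') :
    cm (tr (centralizer {a}) L) (tr (centralizer {a}) L') := by
  have hS := S.isPGroup'
  set S' : Subgroup G := (S : Subgroup G) ⊓ centralizer {a} with hS'
  have hS'2 : IsPGroup 2 S' := hS.to_le inf_le_left
  have hmem : ∀ {L : Subgroup G}, L ∈ OmS Om (S : Subgroup G) → L ∈ OmS Om S' := by
    intro L hL
    refine mem_of_syl hL.1 (syl_inf hS hL) (le_inf inf_le_right ?_)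
    exact (inf_le_centralizer_ES hOm hS hL).trans (centralizer_le (Set.singleton_subset_iff.2 ha))
  exact cm_iff_le_centralizer.2 (comm_tr hOm h hp.core (CovES.mem_cov_of_mem_ES hOm hS hL ha)
    (CovES.mem_cov_of_mem_ES hOm hS hL' ha) hS'2 inf_le_right (hmem hL) (hmem hL') hne)

/-- **`(M1)`** -/
theorem centralizer_le_or (e : Emb Om M) (h : ∀ K ∈ Om, IsType K) {S : Sylow 2 G} (hSM : (S : Subgroup G) ≤ M)
    (hn : 3 ≤ (OmS Om (S : Subgroup G)).ncard) {a : G} (ha : a ∈ ES Om (S : Subgroup G))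
    (hp : HasPieces (fam Om (centralizer {a}))) (hO : OO (centralizer {a}) ≤ M) :
    centralizer {a} ≤ M ∨ ∀ K ∈ OmS Om (S : Subgroup G), TyPc (fam Om (centralizer {a})) (.D 4)
      (px Om (centralizer {a}) K) := by
  by_contra hcon
  push Not at hcon
  obtain ⟨hnot, K, hK, hD4⟩ := hcon
  have hS := S.isPGroup'
  -- two other members
  obtain ⟨K₂, K₃, hK₂, hK₃, h12, h13, h23⟩ : ∃ K₂ K₃, K₂ ∈ OmS Om (S : Subgroup G) ∧ K₃ ∈ OmS Om (S : Subgroup G) ∧
      K ≠ K₂ ∧ K ≠ K₃ ∧ K₂ ≠ K₃ := by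
    have h1 : 2 ≤ (OmS Om (S : Subgroup G) \ {K}).ncard := by
      have := Set.ncard_sdiff_singleton_add_one hK (Set.toFinite _)
      omega
    obtain ⟨K₂, K₃, hK₂, hK₃, hne⟩ := (Set.one_lt_ncard_iff (Set.toFinite _)).1 h1
    exact ⟨K₂, K₃, hK₂.1, hK₃.1, fun h => hK₂.2 h.symm, fun h => hK₃.2 h.symm, hne⟩
  have hcov : ∀ {L : Subgroup G}, L ∈ OmS Om (S : Subgroup G) → L ∈ cov Om (centralizer {a}) :=
    fun hL => CovES.mem_cov_of_mem_ES e.hyp hS hL ha
  have hcm : ∀ {L L' : Subgroup G}, L ∈ OmS Om (S : Subgroup G) → L' ∈ OmS Om (S : Subgroup G) → L ≠ L' →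
      cm (tr (centralizer {a}) L) (tr (centralizer {a}) L') := fun hL hL' hne =>
    comm_tr_of_mem_ES e.hyp h hp ha hL hL' hne
  rcases le_or e h hp hO (hcov hK) (hcov hK₂) (hcov hK₃) (OmS_mono hSM hK) (hcm hK hK₂ h12) (hcm hK hK₃ h13)
    (hcm hK₂ hK₃ h23) with h0 | ⟨-, -, h0⟩
  · exact hnot h0
  · exact hD4 h0

/-- **`(M1)`**, with the exception made precise: `n = |Om(S)| = 4` -/
theorem centralizer_le_or' (e : Emb Om M) (h : ∀ K ∈ Om, IsType K) {S : Sylow 2 G} (hSM : (S : Subgroup G) ≤ M)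
    (hn : 3 ≤ (OmS Om (S : Subgroup G)).ncard) {a : G} (ha : a ∈ ES Om (S : Subgroup G))
    (hp : HasPieces (fam Om (centralizer {a}))) (hO : OO (centralizer {a}) ≤ M) :
    centralizer {a} ≤ M ∨ ((OmS Om (S : Subgroup G)).ncard = 4 ∧
      ∀ K ∈ OmS Om (S : Subgroup G), TyPc (fam Om (centralizer {a})) (.D 4) (px Om (centralizer {a}) K)) := by
  by_cases hnot : centralizer {a} ≤ M
  · exact Or.inl hnot
  right
  have hS := S.isPGroup'
  have hf := hyp_fam e.hyp h (centralizer {a})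
  have hcov : ∀ {L : Subgroup G}, L ∈ OmS Om (S : Subgroup G) → L ∈ cov Om (centralizer {a}) :=
    fun hL => CovES.mem_cov_of_mem_ES e.hyp hS hL ha
  -- all members are in one piece
  have hD4 : ∀ K ∈ OmS Om (S : Subgroup G), TyPc (fam Om (centralizer {a})) (.D 4) (px Om (centralizer {a}) K) :=
    (centralizer_le_or e h hSM hn ha hp hO).resolve_left hnot
  refine ⟨?_, hD4⟩
  obtain ⟨K, hK⟩ : (OmS Om (S : Subgroup G)).Nonempty := by
    rw [Set.nonempty_iff_ne_empty]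
    intro h0
    rw [h0, Set.ncard_empty] at hn
    omega
  have hpx : ∀ L ∈ OmS Om (S : Subgroup G), px Om (centralizer {a}) K = px Om (centralizer {a}) L := by
    intro L hL
    by_contra hne
    exact hnot (e.le_of_two_pieces h hO (hcov hK) (OmS_mono hSM hK) (hcov hL) hne)
  have hcm : ∀ {L L' : Subgroup G}, L ∈ OmS Om (S : Subgroup G) → L' ∈ OmS Om (S : Subgroup G) → L ≠ L' →
      cm (tr (centralizer {a}) L) (tr (centralizer {a}) L') := fun hL hL' hne =>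
    comm_tr_of_mem_ES e.hyp h hp ha hL hL' hne
  obtain ⟨s, hs0, hs1, hs2, hs3⟩ := exists_max hf (D := px Om (centralizer {a}) K)
    (s₀ := tr (centralizer {a}) '' OmS Om (S : Subgroup G))
    (by
      rintro _ ⟨L, hL, rfl⟩
      exact ⟨tr_mem (hcov hL), by rw [hpx L hL]; exact tr_le_px⟩)
    (by
      rintro _ ⟨L, hL, rfl⟩ _ ⟨L', hL', rfl⟩ hne
      exact hcm hL hL' fun h0 => hne (by rw [h0]))
  have h4 := ncard_of_D4 hf (hD4 K hK) hs1 hs2 hs3
  have h5 := ncard_le_of_comm e.hyp h (fun L hL => (hs1 hL).1) hs2 S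
  have h6 : (tr (centralizer {a}) '' OmS Om (S : Subgroup G)).ncard = (OmS Om (S : Subgroup G)).ncard := by
    refine Set.InjOn.ncard_image fun L hL L' hL' h0 => ?_
    by_contra hne
    have h7 := hcm hL hL' hne
    rw [← h0] at h7
    exact not_cm_self hf (tr_mem (hcov hL)) h7
  have h7 := Set.ncard_le_ncard hs0 (Set.toFinite _)
  omega

/-- **`(M1)`** for `n ≠ 4` -/
theorem m1 (e : Emb Om M) (h : ∀ K ∈ Om, IsType K) {S : Sylow 2 G} (hSM : (S : Subgroup G) ≤ M)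
    (hn : 3 ≤ (OmS Om (S : Subgroup G)).ncard) (hn4 : (OmS Om (S : Subgroup G)).ncard ≠ 4) {a : G}
    (ha : a ∈ ES Om (S : Subgroup G)) (hp : HasPieces (fam Om (centralizer {a})))
    (hO : OO (centralizer {a}) ≤ M) : centralizer {a} ≤ M :=
  (centralizer_le_or' e h hSM hn ha hp hO).resolve_right fun h0 => hn4 h0.1

/-! ### The commuting graph -/

/-- the normaliser of `E(S)` permutes `Om(S)` -/
theorem cj_mem_OmS_of_normalizer_ES (hOm : Hyp Om) (S : Sylow 2 G) {g : G}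
    (hg : g ∈ normalizer (ES Om (S : Subgroup G) : Set G)) (hK : K ∈ OmS Om (S : Subgroup G)) :
    cj g K ∈ OmS Om (S : Subgroup G) := by
  have h1 : zz (cj g K) ∈ ES Om (S : Subgroup G) := by
    rw [hOm.zz_cj hK.1]
    exact (mem_normalizer_iff.1 hg _).1 (zz_mem_ES hK)
  have h2 : DD Om (S : Subgroup G) ≤ centralizer {zz (cj g K)} := by
    rw [DD_le_iff]
    intro L hL
    exact (inf_le_centralizer_ES hOm S.isPGroup' hL).trans (centralizer_le (Set.singleton_subset_iff.2 h1))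
  obtain ⟨T, hT, hDT⟩ := exists_syl_ge (S.isPGroup'.to_le DD_le) h2
  rw [← hOm.OmS_eq S hT.2.1 hDT]
  exact hOm.mem_OmS_of_syl (hOm.conj K hK.1 g) hT

theorem normalizer_ES_le_Mst (hOm : Hyp Om) (S : Sylow 2 G) {K₀ : Subgroup G}
    (hK₀ : K₀ ∈ OmS Om (S : Subgroup G)) : normalizer (ES Om (S : Subgroup G) : Set G) ≤ Mst hOm K₀ := by
  intro g hg
  rw [mem_Mst]
  exact .single ⟨S, hK₀, cj_mem_OmS_of_normalizer_ES hOm S hg hK₀⟩

/-- **the commuting graph is connected** : `n = |Om(S)| ≥ 3`, `O(C(a))` centralises `E(S)` for `a ∈ E(S)`,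
`a ≠ 1`, `hM` = THEOREM CLOSE, and for `n = 4` no piece of type `D 4` in `C(a)/O(C(a))` contains all members of
`Om(S)`. -/
theorem connected (hOm : Hyp Om) (h : ∀ K ∈ Om, IsType K) (hcls : ∀ K ∈ Om, ∀ J ∈ Om, ∃ g, J = cj g K)
    (hne : Om.Nonempty) (S : Sylow 2 G) (hn : 3 ≤ (OmS Om (S : Subgroup G)).ncard)
    (hn4 : (OmS Om (S : Subgroup G)).ncard = 4 → ∀ a ∈ ES Om (S : Subgroup G), a ≠ 1 →
      ∃ K ∈ OmS Om (S : Subgroup G), ¬ TyPc (fam Om (centralizer {a})) (.D 4) (px Om (centralizer {a}) K))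
    (hp : ∀ a ∈ ES Om (S : Subgroup G), a ≠ 1 → HasPieces (fam Om (centralizer {a})))
    (hX : ∀ a ∈ ES Om (S : Subgroup G), a ≠ 1 → OO (centralizer {a}) ≤ centralizer (ES Om (S : Subgroup G) : Set G))
    (hM : ∀ M : Subgroup G, normalizer (ES Om (S : Subgroup G) : Set G) ≤ M →
      (∀ a ∈ ES Om (S : Subgroup G), a ≠ 1 → centralizer {a} ≤ M) → M = ⊤) :
    ∀ K ∈ Om, ∀ L ∈ Om, Relation.ReflTransGen (Adj Om) K L := by
  obtain ⟨K₀, hK₀⟩ := hOm.OmS_nonempty S hne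
  have e := emb_mst hOm hK₀.1
  have hSM : (S : Subgroup G) ≤ Mst hOm K₀ :=
    (CloseFus.Clo.le_normalizer hOm S.isPGroup').trans (normalizer_ES_le_Mst hOm S hK₀)
  refine connected_of_Mst hOm (fun K hK => ?_) (hM _ (normalizer_ES_le_Mst hOm S hK₀) fun a ha ha1 => ?_)
  · obtain ⟨g, hg⟩ := hcls K₀ hK₀.1 K hK
    exact ⟨g, hg.symm⟩
  · have hO : OO (centralizer {a}) ≤ Mst hOm K₀ := (hX a ha ha1).trans
      ((centralizer_le (Set.singleton_subset_iff.2 (zz_mem_ES hK₀))).trans (e.cent K₀ (OmS_mono hSM hK₀)))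
    rcases centralizer_le_or' e h hSM hn ha (hp a ha ha1) hO with h1 | ⟨h1, h2⟩
    · exact h1
    · obtain ⟨K, hK, h3⟩ := hn4 h1 a ha ha1
      exact absurd (h2 K hK) h3

end

end Cfsg.Agent.Cit.CloMOne
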