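import Mathlib
import Cfsg.Agent.Cit.CloMOne
import Cfsg.Agent.SignalizersComponents.Components
import Cfsg.Agent.Cit.TypeDet.Irr
import Cfsg.Agent.Nodes.DFourCen

/-!
# The commuting graph for `n = 4`, all involutions different (project CIT, R18)

The exceptional case of `(M1)` : a piece of type `D 4` over all members of `Om(S)` in `C(a) / O(C(a))` (`Big`).

* `Big.prod`, `Big.mul_comm` : `z₁ z₂ z₃ z₄ = 1`, the products `z_i z_j` are central modulo `O(C(a))`;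
* `Big.le_of_le` : if `C(z_i z_j) ≤ M` for one pair then `C(a) ≤ M`; so if one `C(a)` is not in `M` then there are such
  pieces for all `z_i z_j`;
* `cov_zz_subset` : then all members covered by `C(z_K)` are in `Om(S)`;
* `Big.centralizer_le`, `centralizer_zz_le` : `N(E(S))` and all `C(a)`, `a ∈ E(S)`, `a ≠ 1`, normalise
  `VV Om S = {1, z_i z_j}`;
* `connected_four` : the commuting graph is connected (THEOREM CLOSE for the stabiliser of a component and for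
  `N(V)`).
-/

set_option autoImplicit false
set_option linter.dupNamespace false
set_option linter.style.haveILetI false
set_option linter.unusedSectionVars false

namespace Cfsg.Agent.Cit.CloMFour

open Subgroup Cfsg Cfsg.Agent.Cit SubCent UseT CloGraph CloMOne CovES
open Cfsg.Agent.Cit.TypeDet hiding fam

/-! ### Pieces of type `D 4` -/

section DFour

variable {X : Type*} [Group X] [Finite X] {Om : Set (Subgroup X)} {D : Subgroup X} {s : Set (Subgroup X)}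

/-- the products of the involutions of commuting members of a piece of type `D 4` are central -/
theorem mul_comm_of_D4 (hyp : Hyp Om) (hD : TyPc Om (.D 4) D)
    (h1 : s ⊆ TypeDet.OmIn Om D) (h2 : ∀ K ∈ s, ∀ L ∈ s, K ≠ L → cm K L)
    (h3 : ∀ L ∈ TypeDet.OmIn Om D, ∃ K ∈ s, ¬ cm L K) {K L : Subgroup X} (hK : K ∈ s) (hL : L ∈ s) {x : X}
    (hx : x ∈ D) : x * (zz K * zz L) = zz K * zz L * x := by
  obtain ⟨-, -, -, -, p, c, hc, -⟩ := hD
  have hfin : Fintype s := Fintype.ofFinite _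
  exact Nodes.DFourCen.zz_mul_comm hyp c hc (K := fun k : s => k.1) (fun k => h1 k.2)
    (fun i j hij => h2 _ i.2 _ j.2 fun h0 => hij (Subtype.ext h0))
    (fun L' hL' => by
      obtain ⟨k, hk, h0⟩ := h3 L' hL'
      exact ⟨⟨k, hk⟩, h0⟩) ⟨K, hK⟩ ⟨L, hL⟩ hx

/-- a member of a piece of type `D 4` commuting with a member of a maximal commuting family is in the family -/
theorem mem_of_D4_aux (hyp : Hyp Om) (hD : TyPc Om (.D 4) D) {κ : Type*} [Fintype κ] {K : κ → Subgroup X}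
    (h1 : ∀ i, K i ∈ TypeDet.OmIn Om D) (h2 : ∀ i j, i ≠ j → cm (K i) (K j))
    (h3 : ∀ L ∈ TypeDet.OmIn Om D, ∃ i, ¬ cm L (K i)) {l : κ} {J : Subgroup X}
    (hJ : J ∈ TypeDet.OmIn Om D) (hc : cm J (K l)) : ∃ i, J = K i := by
  classical
  obtain ⟨-, -, -, -, p, c, hcT, -⟩ := hD
  have h4 := KindsD.kt_D hyp c hcT h1 h2 h3
  obtain ⟨-, hrel, -, -, hsgl⟩ := h4.2.1 rfl
  obtain ⟨k, hk0⟩ := h3 J hJ
  have hkl : k ≠ l := by
    rintro rfl
    exact hk0 hc
  have hcm : ∀ j, j ≠ k → cm J (K j) := by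
    intro j hj
    by_contra hj0
    have hjl : j ≠ l := fun e => hj0 (by rw [e]; exact hc)
    have hmem : ∀ i, i ≠ l → K i ∈ OmA (TypeDet.OmIn Om D) K (Finset.univ.erase l) := by
      intro i hi
      refine ⟨h1 i, fun m hm => ?_⟩
      have hml : m = l := by
        by_contra hne
        exact hm (Finset.mem_erase.2 ⟨hne, Finset.mem_univ _⟩)
      rw [hml]
      exact h2 i l hi
    have hJm : J ∈ OmA (TypeDet.OmIn Om D) K (Finset.univ.erase l) := by
      refine ⟨hJ, fun m hm => ?_⟩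
      have hml : m = l := by
        by_contra hne
        exact hm (Finset.mem_erase.2 ⟨hne, Finset.mem_univ _⟩)
      rw [hml]
      exact hc
    have s1 : stp (OmA (TypeDet.OmIn Om D) K (Finset.univ.erase l)) (K k) J :=
      ⟨hmem k hkl, hJm, fun h0 => hk0 (cm_symm h0)⟩
    have s2 : stp (OmA (TypeDet.OmIn Om D) K (Finset.univ.erase l)) J (K j) :=
      ⟨hJm, hmem j hjl, hj0⟩
    exact hrel l (Finset.mem_univ _) k (Finset.mem_erase.2 ⟨hkl, Finset.mem_univ _⟩) j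
      (Finset.mem_erase.2 ⟨hjl, Finset.mem_univ _⟩) (Ne.symm hj)
      ⟨Finset.mem_erase.2 ⟨hkl, Finset.mem_univ _⟩, Finset.mem_erase.2 ⟨hjl, Finset.mem_univ _⟩,
        (Relation.ReflTransGen.single s1).tail s2⟩
  refine ⟨k, hsgl k (Finset.mem_univ _) J ⟨hJ, fun m hm => hcm m fun e => hm ?_⟩⟩
  rw [e]
  exact Finset.mem_singleton_self _

theorem mem_of_D4 (hyp : Hyp Om) (hD : TyPc Om (.D 4) D)
    (h1 : s ⊆ TypeDet.OmIn Om D) (h2 : ∀ K ∈ s, ∀ L ∈ s, K ≠ L → cm K L)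
    (h3 : ∀ L ∈ TypeDet.OmIn Om D, ∃ K ∈ s, ¬ cm L K) {K J : Subgroup X} (hK : K ∈ s)
    (hJ : J ∈ TypeDet.OmIn Om D) (hc : cm J K) : J ∈ s := by
  have hfin : Fintype s := Fintype.ofFinite _
  obtain ⟨i, hi⟩ := mem_of_D4_aux hyp hD (K := fun k : s => k.1) (fun k => h1 k.2)
    (fun i j hij => h2 _ i.2 _ j.2 fun h0 => hij (Subtype.ext h0))
    (fun L' hL' => by
      obtain ⟨k, hk, h0⟩ := h3 L' hL'
      exact ⟨⟨k, hk⟩, h0⟩) (l := ⟨K, hK⟩) hJ hc
  rw [hi]
  exact i.2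

/-- the product of the four involutions -/
theorem prod_of_D4 (hyp : Hyp Om) (hD : TyPc Om (.D 4) D)
    (h1 : s ⊆ TypeDet.OmIn Om D) (h2 : ∀ K ∈ s, ∀ L ∈ s, K ≠ L → cm K L)
    (h3 : ∀ L ∈ TypeDet.OmIn Om D, ∃ K ∈ s, ¬ cm L K) {K₁ K₂ K₃ K₄ : Subgroup X}
    (hs : s = {K₁, K₂, K₃, K₄}) : zz K₁ * zz K₂ * zz K₃ * zz K₄ = 1 := by
  classical
  obtain ⟨-, -, -, -, p, c, hcT, -⟩ := hD
  have hfin : Fintype s := Fintype.ofFinite _
  have h4 := KindsD.kt_D hyp c hcT (K := fun k : s => k.1) (fun k => h1 k.2)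
    (fun i j hij => h2 _ i.2 _ j.2 fun h0 => hij (Subtype.ext h0))
    (fun L' hL' => by
      obtain ⟨k, hk, h0⟩ := h3 L' hL'
      exact ⟨⟨k, hk⟩, h0⟩)
  obtain ⟨-, -, hprod, -, -⟩ := h4.2.1 rfl
  have m1 : K₁ ∈ s := by rw [hs]; simp
  have m2 : K₂ ∈ s := by rw [hs]; simp
  have m3 : K₃ ∈ s := by rw [hs]; simp
  have m4 : K₄ ∈ s := by rw [hs]; simp
  refine hprod ⟨K₁, m1⟩ ⟨K₂, m2⟩ ⟨K₃, m3⟩ ⟨K₄, m4⟩ ?_
  ext ⟨k, hk⟩
  have hk2 := hk
  rw [hs] at hk2
  simp only [Finset.mem_univ, Finset.mem_insert, Finset.mem_singleton, Subtype.mk.injEq, true_iff]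
  simpa using hk2

end DFour

/-! ### Local groups -/

section

variable {G : Type*} [Group G] [Finite G] {Om : Set (Subgroup G)} {H K L J M : Subgroup G}

/-- members with the same trace, `O(H)` centralising one of them -/
theorem eq_of_tr_eq (hOm : Hyp Om) (h : ∀ K ∈ Om, IsType K) (hinj : ∀ K ∈ Om, ∀ L ∈ Om, zz K = zz L → K = L)
    (hK : K ∈ cov Om H) (hL : L ∈ cov Om H) (hO : OO H ≤ centralizer {zz K}) (he : tr H K = tr H L) : L = K := by
  obtain ⟨x, hx, rfl⟩ := (tr_eq_iff hOm h hK hL).1 he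
  refine hinj _ hL.1 _ hK.1 ?_
  have h1 := mem_centralizer_singleton_iff.1 (hO ⟨x, hx, rfl⟩)
  rw [hOm.zz_cj hK.1, mul_inv_eq_iff_eq_mul]
  exact h1

theorem eq_of_cj (hOm : Hyp Om) (hinj : ∀ K ∈ Om, ∀ L ∈ Om, zz K = zz L → K = L) (hL : L ∈ Om) {x : G}
    (hx : x * zz L = zz L * x) : cj x L = L := by
  refine hinj _ (hOm.conj L hL x) _ hL ?_
  rw [hOm.zz_cj hL, mul_inv_eq_iff_eq_mul]
  exact hx

theorem zz_mem_centralizer_of_OO {S : Subgroup G} {a x : G}
    (hX : OO (centralizer {a}) ≤ centralizer (ES Om S : Set G)) (hK : K ∈ OmS Om S)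
    (hx : x ∈ OO (centralizer {a})) : x * zz K = zz K * x :=
  (mem_centralizer_iff.1 (hX hx) _ (zz_mem_ES hK)).symm

/-- a member commuting with all traces of the members of `Om(S)`, `|Om(S)| = 4` : impossible -/
theorem max_tr (hOm : Hyp Om) (h : ∀ K ∈ Om, IsType K) {S : Sylow 2 G} {a : G}
    (hp : HasPieces (fam Om (centralizer {a}))) (ha : a ∈ ES Om (S : Subgroup G)) {D : Subgroup (HQ (centralizer {a}))}
    (hD : D ∈ fam Om (centralizer {a})) :
    ∃ K ∈ OmS Om (S : Subgroup G), ¬ cm D (tr (centralizer {a}) K) := by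
  by_contra hcon
  push Not at hcon
  have hS := S.isPGroup'
  have hf := hyp_fam hOm h (centralizer {a})
  have hcov : ∀ {L : Subgroup G}, L ∈ OmS Om (S : Subgroup G) → L ∈ cov Om (centralizer {a}) :=
    fun hL => CovES.mem_cov_of_mem_ES hOm hS hL ha
  have hcm : ∀ {L L' : Subgroup G}, L ∈ OmS Om (S : Subgroup G) → L' ∈ OmS Om (S : Subgroup G) → L ≠ L' →
      cm (tr (centralizer {a}) L) (tr (centralizer {a}) L') := fun hL hL' hne =>
    comm_tr_of_mem_ES hOm h hp ha hL hL' hne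
  have hinj : Set.InjOn (tr (centralizer {a})) (OmS Om (S : Subgroup G)) := by
    intro L hL L' hL' h0
    by_contra hne
    have h7 := hcm hL hL' hne
    rw [← h0] at h7
    exact not_cm_self hf (tr_mem (hcov hL)) h7
  have hnot : D ∉ tr (centralizer {a}) '' OmS Om (S : Subgroup G) := by
    rintro ⟨L, hL, rfl⟩
    exact not_cm_self hf hD (hcon L hL)
  have h1 := ncard_le_of_comm hOm h (H := centralizer {a})
    (s := insert D (tr (centralizer {a}) '' OmS Om (S : Subgroup G)))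
    (Set.insert_subset hD (by
      rintro _ ⟨L, hL, rfl⟩
      exact tr_mem (hcov hL)))
    (by
      rintro _ (rfl | ⟨L, hL, rfl⟩) _ (rfl | ⟨L', hL', rfl⟩) hne
      · exact absurd rfl hne
      · exact hcon L' hL'
      · exact cm_symm (hcon L hL)
      · exact hcm hL hL' fun h0 => hne (by rw [h0])) S
  rw [Set.ncard_insert_of_notMem hnot (Set.toFinite _), hinj.ncard_image] at h1
  omega

/-- all members of `Om(S)` lie in one piece of type `D 4` in `C(a) / O(C(a))` -/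
structure Big (Om : Set (Subgroup G)) (S : Subgroup G) (a : G) : Prop where
  mem : a ∈ ES Om S
  hp : HasPieces (fam Om (centralizer {a}))
  ty : ∀ K ∈ OmS Om S, TyPc (fam Om (centralizer {a})) (.D 4) (px Om (centralizer {a}) K)
  eq : ∀ K ∈ OmS Om S, ∀ L ∈ OmS Om S, px Om (centralizer {a}) K = px Om (centralizer {a}) L

namespace Big

variable {S : Sylow 2 G} {a : G}

theorem sub (b : Big Om (S : Subgroup G) a) (hOm : Hyp Om) (hK : K ∈ OmS Om (S : Subgroup G)) :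
    tr (centralizer {a}) '' OmS Om (S : Subgroup G) ⊆
      TypeDet.OmIn (fam Om (centralizer {a})) (px Om (centralizer {a}) K) := by
  rintro _ ⟨L, hL, rfl⟩
  exact ⟨tr_mem (CovES.mem_cov_of_mem_ES hOm S.isPGroup' hL b.mem), by rw [b.eq K hK L hL]; exact tr_le_px⟩

theorem comm (b : Big Om (S : Subgroup G) a) (hOm : Hyp Om) (h : ∀ K ∈ Om, IsType K) :
    ∀ K ∈ tr (centralizer {a}) '' OmS Om (S : Subgroup G),
      ∀ L ∈ tr (centralizer {a}) '' OmS Om (S : Subgroup G), K ≠ L → cm K L := by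
  rintro _ ⟨L, hL, rfl⟩ _ ⟨L', hL', rfl⟩ hne
  exact comm_tr_of_mem_ES hOm h b.hp b.mem hL hL' fun h0 => hne (by rw [h0])

theorem max (b : Big Om (S : Subgroup G) a) (hOm : Hyp Om) (h : ∀ K ∈ Om, IsType K) (K : Subgroup G) :
    ∀ L ∈ TypeDet.OmIn (fam Om (centralizer {a})) (px Om (centralizer {a}) K),
      ∃ K ∈ tr (centralizer {a}) '' OmS Om (S : Subgroup G), ¬ cm L K := by
  intro L hL
  obtain ⟨K', hK', h0⟩ := max_tr hOm h b.hp b.mem hL.1
  exact ⟨_, ⟨K', hK', rfl⟩, h0⟩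

/-- the products of two involutions are central modulo `O(C(a))` -/
theorem mul_comm (b : Big Om (S : Subgroup G) a) (hOm : Hyp Om) (h : ∀ K ∈ Om, IsType K)
    (hK : K ∈ OmS Om (S : Subgroup G)) {L L' : Subgroup G} (hL : L ∈ OmS Om (S : Subgroup G))
    (hL' : L' ∈ OmS Om (S : Subgroup G)) {x : HQ (centralizer {a})} (hx : x ∈ px Om (centralizer {a}) K) :
    x * (zz (tr (centralizer {a}) L) * zz (tr (centralizer {a}) L')) =
      zz (tr (centralizer {a}) L) * zz (tr (centralizer {a}) L') * x :=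
  mul_comm_of_D4 (hyp_fam hOm h _) (b.ty K hK) (b.sub hOm hK) (b.comm hOm h) (b.max hOm h K)
    ⟨L, hL, rfl⟩ ⟨L', hL', rfl⟩ hx

/-- a member whose trace commutes with the trace of a member of `Om(S)` has the trace of a member of `Om(S)` -/
theorem tr_mem_of_cm (b : Big Om (S : Subgroup G) a) (hOm : Hyp Om) (h : ∀ K ∈ Om, IsType K)
    (hK : K ∈ OmS Om (S : Subgroup G)) {J : Subgroup (HQ (centralizer {a}))} (hJ : J ∈ fam Om (centralizer {a}))
    (hc : cm J (tr (centralizer {a}) K)) : J ∈ tr (centralizer {a}) '' OmS Om (S : Subgroup G) := by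
  obtain ⟨K', hK', h0⟩ := max_tr hOm h b.hp b.mem hJ
  obtain ⟨L, hL, rfl⟩ := exists_tr hJ
  have hcK' := CovES.mem_cov_of_mem_ES hOm S.isPGroup' hK' b.mem
  have h1 : px Om (centralizer {a}) L = px Om (centralizer {a}) K' :=
    px_eq_of_not_comm hL hcK' fun h1 => h0 (cm_iff_le_centralizer.2 h1)
  have h2 : tr (centralizer {a}) L ≤ px Om (centralizer {a}) K := by
    rw [b.eq K hK K' hK', ← h1]
    exact tr_le_px
  exact mem_of_D4 (hyp_fam hOm h _) (b.ty K hK) (b.sub hOm hK) (b.comm hOm h) (b.max hOm h K)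
    ⟨K, hK, rfl⟩ ⟨hJ, h2⟩ hc

/-- a member covered by `C(a)` and adjacent to a member of `Om(S)` is in `Om(S)` -/
theorem mem_of_adj (b : Big Om (S : Subgroup G) a) (hOm : Hyp Om) (h : ∀ K ∈ Om, IsType K)
    (hinj : ∀ K ∈ Om, ∀ L ∈ Om, zz K = zz L → K = L)
    (hX : OO (centralizer {a}) ≤ centralizer (ES Om (S : Subgroup G) : Set G))
    (hK : K ∈ OmS Om (S : Subgroup G)) (hL : L ∈ cov Om (centralizer {a})) (hKL : zz K ∈ ck L) :
    L ∈ OmS Om (S : Subgroup G) := by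
  by_cases hne : L = K
  · rw [hne]; exact hK
  have ha2 : a * a = 1 := ES_sq hOm S.isPGroup' b.mem
  have hz := isPGroup_zpowers_of_sq ha2
  obtain ⟨P, hP, hPa, hLP, hKP⟩ := exists_common_cent hOm hz hL.1 hK.1
    ((mem_cov_iff_mem_ck hOm hz).1 hL).2 (ES_le_ck hOm S.isPGroup' hK b.mem) hKL
  have hcK := CovES.mem_cov_of_mem_ES hOm S.isPGroup' hK b.mem
  have h1 := cm_iff_le_centralizer.2 (comm_tr hOm h b.hp.core hL hcK hP hPa hLP hKP hne)
  obtain ⟨K', hK', h2⟩ := b.tr_mem_of_cm hOm h hK (tr_mem hL) h1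
  have hcK' := CovES.mem_cov_of_mem_ES hOm S.isPGroup' hK' b.mem
  have h3 := eq_of_tr_eq hOm h hinj hcK' hL
    (hX.trans (centralizer_le (Set.singleton_subset_iff.2 (zz_mem_ES hK')))) h2
  rw [h3]
  exact hK'

end Big

/-! ### Members adjacent to `K ∈ Om(S)` -/

/-- `z_K z_L ≠ 1` -/
theorem mul_ne_one (hOm : Hyp Om) (hinj : ∀ K ∈ Om, ∀ L ∈ Om, zz K = zz L → K = L) (hK : K ∈ Om) (hL : L ∈ Om)
    (hne : K ≠ L) : zz K * zz L ≠ 1 := by
  intro h0
  refine hne (hinj K hK L hL ?_)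
  rw [mul_eq_one_iff_eq_inv.1 h0]
  have h1 : zz L * zz L = 1 := by
    have := pow_orderOf_eq_one (zz L)
    rwa [hOm.orderOf_zz hL, pow_two] at this
  exact inv_eq_of_mul_eq_one_left h1

theorem mul_mem_ES {S : Subgroup G} (hK : K ∈ OmS Om S) (hL : L ∈ OmS Om S) : zz K * zz L ∈ ES Om S :=
  mul_mem (zz_mem_ES hK) (zz_mem_ES hL)

/-- a member covered by `C(z_K)` whose trace commutes with the trace of `J ∈ Om(S)`, `J ≠ K` -/
theorem mem_of_tr_comm_zz (hOm : Hyp Om) (h : ∀ K ∈ Om, IsType K)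
    (hinj : ∀ K ∈ Om, ∀ L ∈ Om, zz K = zz L → K = L) {S : Sylow 2 G}
    (hX : ∀ a ∈ ES Om (S : Subgroup G), a ≠ 1 → OO (centralizer {a}) ≤ centralizer (ES Om (S : Subgroup G) : Set G))
    (hK : K ∈ OmS Om (S : Subgroup G))
    (hB : ∀ L ∈ OmS Om (S : Subgroup G), L ≠ K → Big Om (S : Subgroup G) (zz K * zz L))
    (hJ : J ∈ OmS Om (S : Subgroup G)) (hJK : J ≠ K) (hL : L ∈ cov Om (centralizer {zz K}))
    (hc : cm (tr (centralizer {zz K}) L) (tr (centralizer {zz K}) J)) : L ∈ OmS Om (S : Subgroup G) := by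
  have hS := S.isPGroup'
  have hJc : J ∈ cov Om (centralizer {zz K}) := CovES.mem_cov_of_mem_ES hOm hS hJ (zz_mem_ES hK)
  obtain ⟨x, hx, hadj⟩ := exists_adj_cj hOm h hL hJc (cm_iff_le_centralizer.1 hc)
  have hxH : x ∈ centralizer {zz K} := OO_le _ hx
  have hL' : cj x L ∈ cov Om (centralizer {zz K}) := cj_mem_cov' hOm hL hxH
  have h1 : zz K ∈ ck (cj x L) := ((mem_cov_iff_mem_ck hOm (PairComm.isPGroup_zpowers_zz hOm hK.1)).1 hL').2
  have h2 : zz J ∈ ck (cj x L) := zz_mem_ck_of_adj hOm hadj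
  have hb := hB J hJ hJK
  have ha2 : (zz K * zz J) * (zz K * zz J) = 1 := ES_sq hOm hS hb.mem
  have h3 : cj x L ∈ cov Om (centralizer {zz K * zz J}) :=
    (mem_cov_iff_mem_ck hOm (isPGroup_zpowers_of_sq ha2)).2 ⟨hL'.1, mul_mem h1 h2⟩
  have h4 : cj x L ∈ OmS Om (S : Subgroup G) :=
    hb.mem_of_adj hOm h hinj (hX _ hb.mem (mul_ne_one hOm hinj hK.1 hJ.1 (Ne.symm hJK))) hK h3 h1
  have h5 := zz_mem_centralizer_of_OO (hX _ (zz_mem_ES hK) (hOm.zz_ne hK.1)) h4 (inv_mem hx)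
  have h6 := eq_of_cj hOm hinj h4.1 h5
  rw [cj_inv_cj] at h6
  rw [h6]
  exact h4

/-- **all members covered by `C(z_K)` are in `Om(S)`** -/
theorem cov_zz_subset (hOm : Hyp Om) (h : ∀ K ∈ Om, IsType K)
    (hinj : ∀ K ∈ Om, ∀ L ∈ Om, zz K = zz L → K = L) {S : Sylow 2 G}
    (hn : (OmS Om (S : Subgroup G)).ncard = 4)
    (hX : ∀ a ∈ ES Om (S : Subgroup G), a ≠ 1 → OO (centralizer {a}) ≤ centralizer (ES Om (S : Subgroup G) : Set G))
    (hK : K ∈ OmS Om (S : Subgroup G)) (hp : HasPieces (fam Om (centralizer {zz K})))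
    (hB : ∀ L ∈ OmS Om (S : Subgroup G), L ≠ K → Big Om (S : Subgroup G) (zz K * zz L)) :
    cov Om (centralizer {zz K}) ⊆ OmS Om (S : Subgroup G) := by
  intro L hL
  by_contra hLn
  have hS := S.isPGroup'
  have hf := hyp_fam hOm h (centralizer {zz K})
  have key : ∀ {L' J : Subgroup G}, L' ∈ cov Om (centralizer {zz K}) → J ∈ OmS Om (S : Subgroup G) → J ≠ K →
      cm (tr (centralizer {zz K}) L') (tr (centralizer {zz K}) J) → L' ∈ OmS Om (S : Subgroup G) :=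
    fun hL' hJ hJK hc => mem_of_tr_comm_zz hOm h hinj hX hK hB hJ hJK hL' hc
  have hcov : ∀ {L : Subgroup G}, L ∈ OmS Om (S : Subgroup G) → L ∈ cov Om (centralizer {zz K}) :=
    fun hL => CovES.mem_cov_of_mem_ES hOm hS hL (zz_mem_ES hK)
  have hcm : ∀ {L L' : Subgroup G}, L ∈ OmS Om (S : Subgroup G) → L' ∈ OmS Om (S : Subgroup G) → L ≠ L' →
      cm (tr (centralizer {zz K}) L) (tr (centralizer {zz K}) L') := fun hL hL' hne =>
    comm_tr_of_mem_ES hOm h hp (zz_mem_ES hK) hL hL' hne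
  have hnotc : ∀ {J : Subgroup G}, J ∈ OmS Om (S : Subgroup G) → J ≠ K →
      px Om (centralizer {zz K}) L = px Om (centralizer {zz K}) J := fun hJ hJK =>
    px_eq_of_not_comm hL (hcov hJ) fun h0 => hLn (key hL hJ hJK (cm_iff_le_centralizer.2 h0))
  -- the other three members
  obtain ⟨K₂, K₃, K₄, h23, h24, h34, hset⟩ : ∃ K₂ K₃ K₄, K₂ ≠ K₃ ∧ K₂ ≠ K₄ ∧ K₃ ≠ K₄ ∧
      OmS Om (S : Subgroup G) \ {K} = {K₂, K₃, K₄} := by
    refine Set.ncard_eq_three.1 ?_
    have := Set.ncard_sdiff_singleton_add_one hK (Set.toFinite _)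
    omega
  have mem : ∀ J ∈ ({K₂, K₃, K₄} : Set (Subgroup G)), J ∈ OmS Om (S : Subgroup G) ∧ J ≠ K := by
    intro J hJ
    rw [← hset] at hJ
    exact ⟨hJ.1, fun e => hJ.2 e⟩
  obtain ⟨m2, n2⟩ := mem K₂ (by simp)
  obtain ⟨m3, n3⟩ := mem K₃ (by simp)
  obtain ⟨m4, n4⟩ := mem K₄ (by simp)
  have d : ∀ {J : Subgroup G}, J ∈ OmS Om (S : Subgroup G) → J ≠ K →
      tr (centralizer {zz K}) J ≤ px Om (centralizer {zz K}) L := by
    intro J hJ hJK
    rw [hnotc hJ hJK]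
    exact tr_le_px
  obtain ⟨τ, hτ⟩ := typed_of_three hf (px_piece hOm h hp hL) (tr_mem (hcov m2)) (tr_mem (hcov m3))
    (tr_mem (hcov m4)) (d m2 n2) (d m3 n3) (d m4 n4) (hcm m2 m3 h23) (hcm m2 m4 h24) (hcm m3 m4 h34)
  -- `K` is not in the piece
  have hKn : ¬ tr (centralizer {zz K}) K ≤ px Om (centralizer {zz K}) L := by
    intro h0
    have h1 := (tr_le_px_iff hOm h (hcov hK) hL).1 h0
    rw [px_eq_tr_of_central hOm h hp.core (hcov hK) le_rfl] at h1
    have h2 := d m2 n2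
    rw [← h1] at h2
    have h3 := hcm m2 hK n2
    exact not_cm_self hf (tr_mem (hcov m2)) (cm_mono le_rfl h2 h3)
  -- a maximal commuting family
  obtain ⟨s, hs0, hs1, hs2, hs3⟩ := exists_max hf (D := px Om (centralizer {zz K}) L)
    (s₀ := {tr (centralizer {zz K}) K₂, tr (centralizer {zz K}) K₃, tr (centralizer {zz K}) K₄})
    (by
      rintro _ (rfl | rfl | rfl)
      · exact ⟨tr_mem (hcov m2), d m2 n2⟩
      · exact ⟨tr_mem (hcov m3), d m3 n3⟩
      · exact ⟨tr_mem (hcov m4), d m4 n4⟩)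
    (by
      rintro _ (rfl | rfl | rfl) _ (rfl | rfl | rfl) hne
      · exact absurd rfl hne
      · exact hcm m2 m3 h23
      · exact hcm m2 m4 h24
      · exact hcm m3 m2 h23.symm
      · exact absurd rfl hne
      · exact hcm m3 m4 h34
      · exact hcm m4 m2 h24.symm
      · exact hcm m4 m3 h34.symm
      · exact absurd rfl hne)
  have s2 : tr (centralizer {zz K}) K₂ ∈ s := hs0 (Or.inl rfl)
  -- its members, and all members commuting with one of them
  have hmem : ∀ J ∈ cov Om (centralizer {zz K}), tr (centralizer {zz K}) J ≤ px Om (centralizer {zz K}) L →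
      J ∈ OmS Om (S : Subgroup G) →
      tr (centralizer {zz K}) J ∈ ({tr (centralizer {zz K}) K₂, tr (centralizer {zz K}) K₃,
        tr (centralizer {zz K}) K₄} : Set (Subgroup (HQ (centralizer {zz K})))) := by
    intro J _ hJ2 hJ
    have hJK : J ≠ K := by
      rintro rfl
      exact hKn hJ2
    have h1 : J ∈ OmS Om (S : Subgroup G) \ {K} := ⟨hJ, fun e => hJK e⟩
    rw [hset] at h1
    rcases h1 with rfl | rfl | rfl
    · exact Or.inl rfl
    · exact Or.inr (Or.inl rfl)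
    · exact Or.inr (Or.inr rfl)
  have hs : s ⊆ {tr (centralizer {zz K}) K₂, tr (centralizer {zz K}) K₃, tr (centralizer {zz K}) K₄} := by
    intro J hJ
    obtain ⟨J', hJ', rfl⟩ := exists_tr (hs1 hJ).1
    by_cases he : tr (centralizer {zz K}) J' = tr (centralizer {zz K}) K₂
    · exact Or.inl he
    · exact hmem J' hJ' (hs1 hJ).2 (key hJ' m2 n2 (hs2 _ hJ _ s2 he))
  have hD : τ ≠ .D 4 := by
    rintro rfl
    have h1 := ncard_of_D4 hf hτ hs1 hs2 hs3
    have h2 := Set.ncard_le_ncard hs (Set.toFinite _)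
    have h3 := Set.ncard_insert_le (tr (centralizer {zz K}) K₂)
      ({tr (centralizer {zz K}) K₃, tr (centralizer {zz K}) K₄} : Set (Subgroup (HQ (centralizer {zz K}))))
    have h4 := Set.ncard_insert_le (tr (centralizer {zz K}) K₃)
      ({tr (centralizer {zz K}) K₄} : Set (Subgroup (HQ (centralizer {zz K}))))
    rw [Set.ncard_singleton] at h4
    omega
  have hfin : Fintype s := Fintype.ofFinite _
  have hne : ∀ {J J' : Subgroup G}, J ∈ OmS Om (S : Subgroup G) → J' ∈ OmS Om (S : Subgroup G) → J ≠ J' →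
      tr (centralizer {zz K}) J ≠ tr (centralizer {zz K}) J' := by
    intro J J' hJ hJ' hne he
    have h1 := hcm hJ hJ' hne
    rw [← he] at h1
    exact not_cm_self hf (tr_mem (hcov hJ)) h1
  have hcard : 3 ≤ Fintype.card s := by
    rw [← Nat.card_eq_fintype_card, Nat.card_coe_set_eq]
    have h5 : ({tr (centralizer {zz K}) K₂, tr (centralizer {zz K}) K₃, tr (centralizer {zz K}) K₄} :
        Set (Subgroup (HQ (centralizer {zz K})))).ncard = 3 := by
      rw [Set.ncard_eq_three]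
      exact ⟨_, _, _, hne m2 m3 h23, hne m2 m4 h24, hne m3 m4 h34, rfl⟩
    rw [← h5]
    exact Set.ncard_le_ncard hs0 (Set.toFinite _)
  obtain ⟨hnm, hq, -, -, p, c, hc, -⟩ := hτ
  -- generation
  have hgen : px Om (centralizer {zz K}) L ≤ normalizer (tr (centralizer {zz K}) K₂ : Set (HQ (centralizer {zz K}))) :=
    Nodes.GenFrame.gen hf c (K := fun k : s => k.1) (fun k => hs1 k.2)
      (fun i j hij => hs2 _ i.2 _ j.2 fun h0 => hij (Subtype.ext h0))
      (fun L' hL' => by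
        obtain ⟨k, hk, h0⟩ := hs3 L' hL'
        exact ⟨⟨k, hk⟩, h0⟩) hcard (fun L' hL' k hk => by
          obtain ⟨J, hJ, rfl⟩ := exists_tr hL'.1
          have h1 : J ∈ OmS Om (S : Subgroup G) := by
            rcases hs k.2 with h2 | h2 | h2
            · exact key hJ m2 n2 (by rw [← h2]; exact hk)
            · exact key hJ m3 n3 (by rw [← h2]; exact hk)
            · exact key hJ m4 n4 (by rw [← h2]; exact hk)
          by_cases h3 : J = K₂
          · rw [h3]; exact le_normalizer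
          · exact (cm_iff_le_centralizer.1 (hcm h1 m2 h3)).trans (centralizer_le_normalizer _)) hc hD
  have hle := d m2 n2
  have h1 : ((tr (centralizer {zz K}) K₂).subgroupOf (px Om (centralizer {zz K}) L)).Normal :=
    (normal_subgroupOf_iff_le_normalizer hle).2 hgen
  rcases SignalizersComponents.Components.quasisimple_subnormal hq h1.isSubnormal with h2 | h2
  · apply hnm
    rw [← le_antisymm hle (subgroupOf_eq_top.1 h2)]
    exact tr_mem (hcov m2)
  · refine hf.not_le_centralizer_self (tr_mem (hcov m2)) fun x hx y hy => ?_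
    have h4 : (⟨x, hle hx⟩ : px Om (centralizer {zz K}) L) ∈ center (px Om (centralizer {zz K}) L) := h2 hx
    exact congrArg Subtype.val (mem_center_iff.1 h4 ⟨y, hle hy⟩)

/-! ### The subgroup `V = {1, z_i z_j}` -/

/-- the subgroup generated by the products `z_K z_L`, `K, L ∈ Om(S)` -/
def VV (Om : Set (Subgroup G)) (S : Subgroup G) : Subgroup G :=
  closure {x | ∃ K ∈ OmS Om S, ∃ L ∈ OmS Om S, x = zz K * zz L}

theorem mul_mem_VV {S : Subgroup G} (hK : K ∈ OmS Om S) (hL : L ∈ OmS Om S) : zz K * zz L ∈ VV Om S :=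
  subset_closure ⟨K, hK, L, hL, rfl⟩

theorem le_normalizer_VV {A S : Subgroup G}
    (hA : ∀ g ∈ A, ∀ K ∈ OmS Om S, ∀ L ∈ OmS Om S, g * (zz K * zz L) * g⁻¹ ∈ VV Om S) :
    A ≤ normalizer (VV Om S : Set G) := by
  have key : ∀ g ∈ A, ∀ x ∈ VV Om S, g * x * g⁻¹ ∈ VV Om S := by
    intro g hg x hx
    induction hx using closure_induction with
    | mem y hy =>
      obtain ⟨K, hK, L, hL, rfl⟩ := hy
      exact hA g hg K hK L hL
    | one => rw [mul_one, mul_inv_cancel]; exact one_mem _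
    | mul y z _ _ hy hz =>
      have h1 : g * (y * z) * g⁻¹ = (g * y * g⁻¹) * (g * z * g⁻¹) := by group
      rw [h1]
      exact mul_mem hy hz
    | inv y _ hy =>
      have h1 : g * y⁻¹ * g⁻¹ = (g * y * g⁻¹)⁻¹ := by group
      rw [h1]
      exact inv_mem hy
  intro g hg
  rw [mem_normalizer_iff]
  intro x
  refine ⟨key g hg x, fun hx => ?_⟩
  have h1 := key g⁻¹ (inv_mem hg) _ hx
  have h2 : g⁻¹ * (g * x * g⁻¹) * g⁻¹⁻¹ = x := by group
  rwa [h2] at h1

theorem le_normalizer_VV_of_cj (hOm : Hyp Om) {A S : Subgroup G}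
    (hA : ∀ g ∈ A, ∀ K ∈ OmS Om S, cj g K ∈ OmS Om S) : A ≤ normalizer (VV Om S : Set G) := by
  refine le_normalizer_VV fun g hg K hK L hL => ?_
  have h1 : g * (zz K * zz L) * g⁻¹ = zz (cj g K) * zz (cj g L) := by
    rw [hOm.zz_cj hK.1, hOm.zz_cj hL.1]; group
  rw [h1]
  exact mul_mem_VV (hA g hg K hK) (hA g hg L hL)

/-- `C(z_K)` normalises `V` -/
theorem centralizer_zz_le (hOm : Hyp Om) {S : Sylow 2 G} (hK : K ∈ OmS Om (S : Subgroup G))
    (hc : cov Om (centralizer {zz K}) ⊆ OmS Om (S : Subgroup G)) :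
    centralizer {zz K} ≤ normalizer (VV Om (S : Subgroup G) : Set G) :=
  le_normalizer_VV_of_cj hOm fun _ hg _ hL =>
    hc (cj_mem_cov' hOm (CovES.mem_cov_of_mem_ES hOm S.isPGroup' hL (zz_mem_ES hK)) hg)

/-- `C(a)` normalises `V` if there is a piece of type `D 4` over `Om(S)` in `C(a) / O(C(a))` -/
theorem Big.centralizer_le {S : Sylow 2 G} {a : G} (b : Big Om (S : Subgroup G) a) (hOm : Hyp Om)
    (h : ∀ K ∈ Om, IsType K)
    (hX : OO (centralizer {a}) ≤ centralizer (ES Om (S : Subgroup G) : Set G))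
    (hne : (OmS Om (S : Subgroup G)).Nonempty) :
    centralizer {a} ≤ normalizer (VV Om (S : Subgroup G) : Set G) := by
  obtain ⟨K₀, hK₀⟩ := hne
  have hS := S.isPGroup'
  have hf := hyp_fam hOm h (centralizer {a})
  have hcov : ∀ {L : Subgroup G}, L ∈ OmS Om (S : Subgroup G) → L ∈ cov Om (centralizer {a}) :=
    fun hL => CovES.mem_cov_of_mem_ES hOm hS hL b.mem
  refine le_normalizer_VV fun g hg K hK L hL => ?_
  set H := centralizer {a} with hH
  set g' : HQ H := qm H ⟨g, hg⟩ with hg'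
  have hgc : cj g K₀ ∈ cov Om H := cj_mem_cov' hOm (hcov hK₀) hg
  -- `K₀^g` is in the piece
  have h1 : px Om H (cj g K₀) = px Om H K₀ := by
    obtain ⟨K', hK', h0⟩ := max_tr hOm h b.hp b.mem (tr_mem hgc)
    rw [px_eq_of_not_comm hgc (hcov hK') fun h1 => h0 (cm_iff_le_centralizer.2 h1), b.eq K' hK' K₀ hK₀]
  have h2 : tr H (cj g K₀) ∈ TypeDet.OmIn (fam Om H) (px Om H K₀) := ⟨tr_mem hgc, by rw [← h1]; exact tr_le_px⟩
  obtain ⟨-, -, -, -, p, c, -, -⟩ := b.ty K₀ hK₀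
  obtain ⟨d, hd, hd2⟩ := Nodes.ChartIrr.exists_conj c (K := tr H K₀) ⟨tr_mem (hcov hK₀), tr_le_px⟩ h2
  have hd3 : cj d (tr H K₀) = tr H (cj g K₀) := hd2
  have h3 : tr H (cj g K₀) = cj g' (tr H K₀) := tr_cj h ⟨g, hg⟩ (hcov hK₀)
  have h4 : cj (d⁻¹ * g') (tr H K₀) = tr H K₀ := by
    rw [cj_mul, ← h3, ← hd3, cj_inv_cj]
  have h5 : ∀ L ∈ OmS Om (S : Subgroup G), ∃ L' ∈ OmS Om (S : Subgroup G), cj (d⁻¹ * g') (tr H L) = tr H L' := by
    intro L hL
    by_cases he : L = K₀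
    · exact ⟨K₀, hK₀, by rw [he]; exact h4⟩
    · have h6 : cm (tr H L) (tr H K₀) := comm_tr_of_mem_ES hOm h b.hp b.mem hL hK₀ he
      have h7 : cm (cj (d⁻¹ * g') (tr H L)) (tr H K₀) := by
        rw [← h4]
        exact cm_cj.2 h6
      obtain ⟨L', hL', h8⟩ := b.tr_mem_of_cm hOm h hK₀ (hf.conj _ (tr_mem (hcov hL)) _) h7
      exact ⟨L', hL', h8.symm⟩
  obtain ⟨K', hK', hKK⟩ := h5 K hK
  obtain ⟨L', hL', hLL⟩ := h5 L hL
  -- modulo `O(H)`
  have h6 : g' * (zz (tr H K) * zz (tr H L)) * g'⁻¹ = zz (tr H K') * zz (tr H L') := by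
    have h7 : (d⁻¹ * g') * (zz (tr H K) * zz (tr H L)) * (d⁻¹ * g')⁻¹ = zz (tr H K') * zz (tr H L') := by
      rw [← hKK, ← hLL, hf.zz_cj (tr_mem (hcov hK)), hf.zz_cj (tr_mem (hcov hL))]
      group
    have h8 := b.mul_comm hOm h hK₀ hK' hL' hd
    calc g' * (zz (tr H K) * zz (tr H L)) * g'⁻¹
        = d * ((d⁻¹ * g') * (zz (tr H K) * zz (tr H L)) * (d⁻¹ * g')⁻¹) * d⁻¹ := by group
      _ = d * (zz (tr H K') * zz (tr H L')) * d⁻¹ := by rw [h7]
      _ = zz (tr H K') * zz (tr H L') * d * d⁻¹ := by rw [h8]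
      _ = _ := by group
  rw [zz_tr hOm h (hcov hK), zz_tr hOm h (hcov hL), zz_tr hOm h (hcov hK'), zz_tr hOm h (hcov hL'),
    ← map_mul, ← map_mul, hg', ← map_mul, ← map_inv, ← map_mul] at h6
  set w := zz K' * zz L' with hw
  set u := g * (zz K * zz L) * g⁻¹ with hu
  have hwE : w ∈ ES Om (S : Subgroup G) := mul_mem_ES hK' hL'
  have hKLE : zz K * zz L ∈ ES Om (S : Subgroup G) := mul_mem_ES hK hL
  have hww : w * w = 1 := ES_sq hOm hS hwE
  have huu : u * u = 1 := by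
    have := ES_sq hOm hS hKLE
    calc u * u = g * ((zz K * zz L) * (zz K * zz L)) * g⁻¹ := by rw [hu]; group
      _ = 1 := by rw [this]; group
  have hy : w⁻¹ * u ∈ OO H := by
    have h9 : (⟨zz K', zz_mem_of_cov hOm (hcov hK')⟩ * ⟨zz L', zz_mem_of_cov hOm (hcov hL')⟩ : H)⁻¹ *
        (⟨g, hg⟩ * (⟨zz K, zz_mem_of_cov hOm (hcov hK)⟩ * ⟨zz L, zz_mem_of_cov hOm (hcov hL)⟩) * ⟨g, hg⟩⁻¹) ∈
        (qm H).ker := by
      rw [MonoidHom.mem_ker, map_mul, map_inv, h6, inv_mul_cancel]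
    rw [ker_qm] at h9
    exact ⟨_, h9, rfl⟩
  have hyw : (w⁻¹ * u) * w = w * (w⁻¹ * u) :=
    (mem_centralizer_iff.1 (hX hy) _ hwE).symm
  have hy2 : (w⁻¹ * u) * (w⁻¹ * u) = 1 := by
    have hwi : w⁻¹ = w := inv_eq_of_mul_eq_one_left hww
    rw [mul_inv_cancel_left] at hyw
    have h10 : u = w⁻¹ * u * w := hyw.symm
    calc (w⁻¹ * u) * (w⁻¹ * u) = (w⁻¹ * u * w) * u := by rw [hwi]; group
      _ = u * u := by rw [← h10]
      _ = 1 := huu
  have hy1 : w⁻¹ * u = 1 := Cit.eq_one_of_odd (odd_OO H) hy (a := 1) (by rw [pow_one, pow_two]; exact hy2)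
  have huw : u = w := by
    rw [inv_mul_eq_one] at hy1
    exact hy1.symm
  rw [huw]
  exact mul_mem_VV hK' hL'

/-- modulo `O(C(a))` the piece of type `D 4` centralises `V`: if `C(z_K z_L) ≤ M` then `C(a) ≤ M` -/
theorem Big.le_of_le {S : Sylow 2 G} {a : G} (b : Big Om (S : Subgroup G) a) (e : Emb Om M)
    (h : ∀ K ∈ Om, IsType K) (hSM : (S : Subgroup G) ≤ M) (hO : OO (centralizer {a}) ≤ M)
    (hK : K ∈ OmS Om (S : Subgroup G)) (hL : L ∈ OmS Om (S : Subgroup G))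
    (hle : centralizer {zz K * zz L} ≤ M) : centralizer {a} ≤ M := by
  have hOm := e.hyp
  have hS := S.isPGroup'
  have hcov : ∀ {L : Subgroup G}, L ∈ OmS Om (S : Subgroup G) → L ∈ cov Om (centralizer {a}) :=
    fun hL => CovES.mem_cov_of_mem_ES hOm hS hL b.mem
  refine e.le_of_pre_le h hO (hcov hK) (OmS_mono hSM hK) fun x hx => ?_
  obtain ⟨hxH, hx2⟩ := mem_pre.1 hx
  have h1 := b.mul_comm hOm h hK hK hL hx2
  rw [zz_tr hOm h (hcov hK), zz_tr hOm h (hcov hL), ← map_mul] at h1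
  set w : G := zz K * zz L with hw
  have hwH : w ∈ centralizer {a} := mul_mem (zz_mem_of_cov hOm (hcov hK)) (zz_mem_of_cov hOm (hcov hL))
  have hww : w * w = 1 := ES_sq hOm hS (mul_mem_ES hK hL)
  have hN : centralizer {a} ≤ normalizer (OO (centralizer {a}) : Set G) := le_normalizer.trans
    (CovES.normalizer_le_normalizer_OO _)
  have hc : ∀ v ∈ zpowers w, x * v * x⁻¹ * v⁻¹ ∈ OO (centralizer {a}) := by
    rintro _ ⟨k, rfl⟩
    have h2 : (⟨x, hxH⟩ * (⟨w, hwH⟩ : centralizer {a}) ^ k * ⟨x, hxH⟩⁻¹ * ((⟨w, hwH⟩ : centralizer {a}) ^ k)⁻¹) ∈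
        (qm (centralizer {a})).ker := by
      rw [MonoidHom.mem_ker, map_mul, map_mul, map_mul, map_inv, map_inv, map_zpow]
      have h3 : Commute (qm (centralizer {a}) ⟨x, hxH⟩) (qm (centralizer {a}) ⟨w, hwH⟩) := h1
      rw [(h3.zpow_right k).eq]
      group
    rw [ker_qm] at h2
    exact ⟨_, h2, rfl⟩
  obtain ⟨o, ho, hxo⟩ := exists_mul_mem_centralizer (isPGroup_zpowers_of_sq hww) (odd_OO (centralizer {a}))
    (le_trans (zpowers_le.2 hwH) hN) (hN hxH) hc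
  rw [PairComm.centralizer_zpowers] at hxo
  have h4 : x = (x * o) * o⁻¹ := by group
  rw [h4]
  exact mul_mem (hle hxo) (inv_mem (hO ho))

/-- the product of the four involutions -/
theorem Big.prod {S : Sylow 2 G} {a : G} (b : Big Om (S : Subgroup G) a) (hOm : Hyp Om)
    (h : ∀ K ∈ Om, IsType K) {K₁ K₂ K₃ K₄ : Subgroup G} (hs : OmS Om (S : Subgroup G) = {K₁, K₂, K₃, K₄}) :
    zz K₁ * zz K₂ * zz K₃ * zz K₄ = 1 := by
  have hS := S.isPGroup'
  have m1 : K₁ ∈ OmS Om (S : Subgroup G) := by rw [hs]; simp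
  have m2 : K₂ ∈ OmS Om (S : Subgroup G) := by rw [hs]; simp
  have m3 : K₃ ∈ OmS Om (S : Subgroup G) := by rw [hs]; simp
  have m4 : K₄ ∈ OmS Om (S : Subgroup G) := by rw [hs]; simp
  have hcov : ∀ {L : Subgroup G}, L ∈ OmS Om (S : Subgroup G) → L ∈ cov Om (centralizer {a}) :=
    fun hL => CovES.mem_cov_of_mem_ES hOm hS hL b.mem
  have h1 := prod_of_D4 (hyp_fam hOm h _) (b.ty K₁ m1) (b.sub hOm m1) (b.comm hOm h) (b.max hOm h K₁)
    (K₁ := tr (centralizer {a}) K₁) (K₂ := tr (centralizer {a}) K₂) (K₃ := tr (centralizer {a}) K₃)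
    (K₄ := tr (centralizer {a}) K₄) (by rw [hs]; simp only [Set.image_insert_eq, Set.image_singleton])
  rw [zz_tr hOm h (hcov m1), zz_tr hOm h (hcov m2), zz_tr hOm h (hcov m3), zz_tr hOm h (hcov m4), ← map_mul,
    ← map_mul, ← map_mul, ← MonoidHom.mem_ker, ker_qm] at h1
  have h2 : zz K₁ * zz K₂ * zz K₃ * zz K₄ ∈ OO (centralizer {a}) := ⟨_, h1, rfl⟩
  refine Cit.eq_one_of_odd (odd_OO _) h2 (a := 1) ?_
  rw [pow_one, pow_two]
  exact ES_sq hOm hS (mul_mem (mul_mem (mul_mem (zz_mem_ES m1) (zz_mem_ES m2)) (zz_mem_ES m3)) (zz_mem_ES m4))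

/-- products of three commuting involutions -/
theorem eight {x y z : G} (hx : x * x = 1) (hy : y * y = 1) (hz : z * z = 1) (hyx : y * x = x * y)
    (hzx : z * x = x * z) (hzy : z * y = y * z) {a : G} (ha : a ∈ closure ({x, y, z, x * y * z} : Set G)) :
    a = 1 ∨ a = x ∨ a = y ∨ a = z ∨ a = x * y ∨ a = x * z ∨ a = y * z ∨ a = x * y * z := by
  have hx' : ∀ w, x * (x * w) = w := fun w => by rw [← mul_assoc, hx, one_mul]
  have hy' : ∀ w, y * (y * w) = w := fun w => by rw [← mul_assoc, hy, one_mul]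
  have hz' : ∀ w, z * (z * w) = w := fun w => by rw [← mul_assoc, hz, one_mul]
  have hyx' : ∀ w, y * (x * w) = x * (y * w) := fun w => by rw [← mul_assoc, hyx, mul_assoc]
  have hzx' : ∀ w, z * (x * w) = x * (z * w) := fun w => by rw [← mul_assoc, hzx, mul_assoc]
  have hzy' : ∀ w, z * (y * w) = y * (z * w) := fun w => by rw [← mul_assoc, hzy, mul_assoc]
  have hinv : ∀ g ∈ ({x, y, z, x * y * z} : Set G), g⁻¹ = g := by
    rintro g (rfl | rfl | rfl | rfl)
    · exact inv_eq_of_mul_eq_one_left hx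
    · exact inv_eq_of_mul_eq_one_left hy
    · exact inv_eq_of_mul_eq_one_left hz
    · refine inv_eq_of_mul_eq_one_left ?_
      simp only [mul_assoc, hx', hy', hyx', hzx', hzy', hz]
  have key : ∀ b, (b = 1 ∨ b = x ∨ b = y ∨ b = z ∨ b = x * y ∨ b = x * z ∨ b = y * z ∨ b = x * y * z) →
      ∀ g ∈ ({x, y, z, x * y * z} : Set G), b * g = 1 ∨ b * g = x ∨ b * g = y ∨ b * g = z ∨ b * g = x * y ∨
        b * g = x * z ∨ b * g = y * z ∨ b * g = x * y * z := by
    rintro b (rfl | rfl | rfl | rfl | rfl | rfl | rfl | rfl) g (rfl | rfl | rfl | rfl) <;>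
      simp only [mul_assoc, hx', hy', hyx', hzx', hzy', hx, hy, hz, hyx, hzx, hzy, one_mul, mul_one, true_or, or_true]
  induction ha using closure_induction_right with
  | one => exact Or.inl rfl
  | mul_right b _ g hg ih => exact key b ih g hg
  | mul_inv_cancel b _ g hg ih => rw [hinv g hg]; exact key b ih g hg

/-- the elements of `E(S)` -/
theorem mem_ES_cases (hOm : Hyp Om) {S : Sylow 2 G} {K₁ K₂ K₃ K₄ : Subgroup G}
    (hs : OmS Om (S : Subgroup G) = {K₁, K₂, K₃, K₄}) (h12 : K₁ ≠ K₂) (h13 : K₁ ≠ K₃) (h23 : K₂ ≠ K₃)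
    (hp : zz K₁ * zz K₂ * zz K₃ * zz K₄ = 1) {a : G} (ha : a ∈ ES Om (S : Subgroup G)) :
    a = 1 ∨ (∃ K ∈ OmS Om (S : Subgroup G), a = zz K) ∨
      ∃ K ∈ OmS Om (S : Subgroup G), ∃ L ∈ OmS Om (S : Subgroup G), K ≠ L ∧ a = zz K * zz L := by
  have hS := S.isPGroup'
  have m1 : K₁ ∈ OmS Om (S : Subgroup G) := by rw [hs]; simp
  have m2 : K₂ ∈ OmS Om (S : Subgroup G) := by rw [hs]; simp
  have m3 : K₃ ∈ OmS Om (S : Subgroup G) := by rw [hs]; simp
  have m4 : K₄ ∈ OmS Om (S : Subgroup G) := by rw [hs]; simp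
  have h4 : zz K₄ = zz K₁ * zz K₂ * zz K₃ := by
    have h1 := ES_sq hOm hS (mul_mem (mul_mem (zz_mem_ES m1) (zz_mem_ES m2)) (zz_mem_ES m3))
    exact mul_left_cancel (hp.trans h1.symm)
  have hE : ES Om (S : Subgroup G) = closure ({zz K₁, zz K₂, zz K₃, zz K₁ * zz K₂ * zz K₃} : Set G) := by
    rw [ES, hs, ← h4]
    congr 1
    simp only [Set.image_insert_eq, Set.image_singleton]
  rw [hE] at ha
  rcases eight (ES_sq hOm hS (zz_mem_ES m1)) (ES_sq hOm hS (zz_mem_ES m2)) (ES_sq hOm hS (zz_mem_ES m3))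
    (ES_comm hOm hS (zz_mem_ES m2) (zz_mem_ES m1)) (ES_comm hOm hS (zz_mem_ES m3) (zz_mem_ES m1))
    (ES_comm hOm hS (zz_mem_ES m3) (zz_mem_ES m2)) ha with h | h | h | h | h | h | h | h
  · exact Or.inl h
  · exact Or.inr (Or.inl ⟨_, m1, h⟩)
  · exact Or.inr (Or.inl ⟨_, m2, h⟩)
  · exact Or.inr (Or.inl ⟨_, m3, h⟩)
  · exact Or.inr (Or.inr ⟨_, m1, _, m2, h12, h⟩)
  · exact Or.inr (Or.inr ⟨_, m1, _, m3, h13, h⟩)
  · exact Or.inr (Or.inr ⟨_, m2, _, m3, h23, h⟩)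
  · exact Or.inr (Or.inl ⟨_, m4, by rw [h4]; exact h⟩)

/-- `C(a)` not in `M` gives a piece of type `D 4` over `Om(S)` -/
theorem big_of_not_le (e : Emb Om M) (h : ∀ K ∈ Om, IsType K) {S : Sylow 2 G} (hSM : (S : Subgroup G) ≤ M)
    (hn : 3 ≤ (OmS Om (S : Subgroup G)).ncard) {a : G} (ha : a ∈ ES Om (S : Subgroup G))
    (hp : HasPieces (fam Om (centralizer {a}))) (hO : OO (centralizer {a}) ≤ M)
    (hnot : ¬ centralizer {a} ≤ M) : Big Om (S : Subgroup G) a where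
  mem := ha
  hp := hp
  ty := (centralizer_le_or e h hSM hn ha hp hO).resolve_left hnot
  eq := by
    intro K hK L hL
    by_contra hne
    exact hnot (e.le_of_two_pieces h hO (CovES.mem_cov_of_mem_ES e.hyp S.isPGroup' hK ha) (OmS_mono hSM hK)
      (CovES.mem_cov_of_mem_ES e.hyp S.isPGroup' hL ha) hne)

/-- **the commuting graph is connected for `n = 4`, all involutions `z_K` different** -/
theorem connected_four (hOm : Hyp Om) (h : ∀ K ∈ Om, IsType K) (hcls : ∀ K ∈ Om, ∀ J ∈ Om, ∃ g, J = cj g K)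
    (hne : Om.Nonempty) (hs : IsSimpleGroup G) (S : Sylow 2 G) (hn : (OmS Om (S : Subgroup G)).ncard = 4)
    (hinj : ∀ K ∈ Om, ∀ L ∈ Om, zz K = zz L → K = L)
    (hp : ∀ a ∈ ES Om (S : Subgroup G), a ≠ 1 → HasPieces (fam Om (centralizer {a})))
    (hX : ∀ a ∈ ES Om (S : Subgroup G), a ≠ 1 → OO (centralizer {a}) ≤ centralizer (ES Om (S : Subgroup G) : Set G))
    (hM : ∀ M : Subgroup G, normalizer (ES Om (S : Subgroup G) : Set G) ≤ M →
      (∀ a ∈ ES Om (S : Subgroup G), a ≠ 1 → centralizer {a} ≤ M) → M = ⊤) :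
    ∀ K ∈ Om, ∀ L ∈ Om, Relation.ReflTransGen (Adj Om) K L := by
  obtain ⟨K₀, hK₀⟩ := hOm.OmS_nonempty S hne
  have e := emb_mst hOm hK₀.1
  have hSM : (S : Subgroup G) ≤ Mst hOm K₀ :=
    (CloseFus.Clo.le_normalizer hOm S.isPGroup').trans (normalizer_ES_le_Mst hOm S hK₀)
  refine connected_of_Mst hOm (K₀ := K₀) (fun K hK => ?_) ?_
  · obtain ⟨g, hg⟩ := hcls K₀ hK₀.1 K hK
    exact ⟨g, hg.symm⟩
  have hO : ∀ a ∈ ES Om (S : Subgroup G), a ≠ 1 → OO (centralizer {a}) ≤ Mst hOm K₀ := fun a ha ha1 =>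
    (hX a ha ha1).trans
      ((centralizer_le (Set.singleton_subset_iff.2 (zz_mem_ES hK₀))).trans (e.cent K₀ (OmS_mono hSM hK₀)))
  refine hM _ (normalizer_ES_le_Mst hOm S hK₀) ?_
  by_contra hcon
  push Not at hcon
  obtain ⟨a, ha, ha1, hna⟩ := hcon
  have hbig : ∀ a ∈ ES Om (S : Subgroup G), a ≠ 1 → ¬ centralizer {a} ≤ Mst hOm K₀ → Big Om (S : Subgroup G) a :=
    fun a ha ha1 hna => big_of_not_le e h hSM (by omega) ha (hp a ha ha1) (hO a ha ha1) hna
  have b := hbig a ha ha1 hna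
  obtain ⟨K₁, K₂, K₃, K₄, h12, h13, h14, h23, h24, h34, hset⟩ : ∃ K₁ K₂ K₃ K₄, K₁ ≠ K₂ ∧ K₁ ≠ K₃ ∧ K₁ ≠ K₄ ∧
      K₂ ≠ K₃ ∧ K₂ ≠ K₄ ∧ K₃ ≠ K₄ ∧ OmS Om (S : Subgroup G) = {K₁, K₂, K₃, K₄} := Set.ncard_eq_four.1 hn
  have hprod := b.prod hOm h hset
  -- all products `z_K z_L`
  have hB : ∀ K ∈ OmS Om (S : Subgroup G), ∀ L ∈ OmS Om (S : Subgroup G), L ≠ K →
      Big Om (S : Subgroup G) (zz K * zz L) := by
    intro K hK L hL hLK
    refine hbig _ (mul_mem_ES hK hL) (mul_ne_one hOm hinj hK.1 hL.1 (Ne.symm hLK)) fun hle => ?_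
    exact hna (b.le_of_le e h hSM (hO a ha ha1) hK hL hle)
  have htop : normalizer (VV Om (S : Subgroup G) : Set G) = ⊤ := by
    refine hM _ (le_normalizer_VV_of_cj hOm fun g hg K hK => cj_mem_OmS_of_normalizer_ES hOm S hg hK) ?_
    intro c hc hc1
    rcases mem_ES_cases hOm hset h12 h13 h23 hprod hc with h1 | ⟨K, hK, rfl⟩ | ⟨K, hK, L, hL, hKL, rfl⟩
    · exact absurd h1 hc1
    · exact centralizer_zz_le hOm hK (cov_zz_subset hOm h hinj hn hX hK (hp _ (zz_mem_ES hK) (hOm.zz_ne hK.1))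
        (hB K hK))
    · exact (hB K hK L hL hKL.symm).centralizer_le hOm h (hX _ hc hc1) ⟨K₀, hK₀⟩
  have hV : (VV Om (S : Subgroup G)).Normal := normalizer_eq_top_iff.1 htop
  have m1 : K₁ ∈ OmS Om (S : Subgroup G) := by rw [hset]; simp
  have m2 : K₂ ∈ OmS Om (S : Subgroup G) := by rw [hset]; simp
  have hVE : VV Om (S : Subgroup G) ≤ ES Om (S : Subgroup G) := by
    rw [VV, closure_le]
    rintro _ ⟨K, hK, L, hL, rfl⟩
    exact mul_mem_ES hK hL
  rcases hs.eq_bot_or_eq_top_of_normal _ hV with h1 | h1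
  · have h2 := mul_mem_VV m1 m2
    rw [h1, mem_bot] at h2
    exact mul_ne_one hOm hinj m1.1 m2.1 h12 h2
  · refine hOm.not_le_centralizer_self m1.1 fun x _ y _ => ?_
    have h2 : ∀ g : G, g ∈ ES Om (S : Subgroup G) := fun g => hVE (by rw [h1]; exact mem_top g)
    exact ES_comm hOm S.isPGroup' (h2 y) (h2 x)

end

end Cfsg.Agent.Cit.CloMFour
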