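import Cfsg.Agent.Cit.CloA
import Cfsg.Agent.Cit.CloseFus
import Cfsg.Agent.Cit.CloGraph
import Cfsg.Agent.Cit.TwoBasic

/-!
# CONN / CLOSE for `tau = 1` : the closing argument without centralisers of other involutions

`Hyp Om`, different members have different involutions (`hz`), `S` a Sylow 2-subgroup of `G`, `M` a proper
subgroup containing `E(S)` with

  (H2)  `e ∈ E(S)`, `e ≠ 1`, `g e g⁻¹ ∈ M` implies `g ∈ M`.

Nothing else is assumed on `M` (no `(C)`, no structure of `C(f)`).  THEOREM CL1 (bb R18 #9208):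

* `exists_conj` : every `e ∈ E(S)`, `e ≠ 1`, is conjugate to `zz K`, `K ∈ Om(S)`;
* `exists_zz` : hence `e = zz L` for some `L ∈ Om(S)` (so `zz K * zz L` is `zz N`, `N ∈ Om(S)`);
* `stronglyEmbedded` : (S1175) `G` has a strongly embedded subgroup; `false_of` : contradiction.
-/

set_option autoImplicit false
set_option linter.unusedSectionVars false
set_option linter.unusedVariables false

namespace Cfsg.Agent.Cit.CloOne

open Subgroup Cfsg CloA

variable {G : Type*} [Group G] {Om : Set (Subgroup G)} {M : Subgroup G}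

/-- different members have different involutions -/
def Inj (Om : Set (Subgroup G)) : Prop := ∀ K ∈ Om, ∀ L ∈ Om, zz K = zz L → K = L

/-- the hypothesis (H2) -/
structure Fus (Om : Set (Subgroup G)) (S M : Subgroup G) : Prop where
  le : ES Om S ≤ M
  h2 : ∀ e ∈ ES Om S, e ≠ 1 → ∀ g, g * e * g⁻¹ ∈ M → g ∈ M

section

variable [Finite G]

/-- `v ∈ E(S)` centralises a Sylow 2-subgroup of `K`: then `v` and `zz K` are in a common `E(c S c⁻¹)` -/
theorem exists_common (h : Hyp Om) (S : Sylow 2 G) {v : G} (hv : v ∈ ES Om (S : Subgroup G)) {K Q : Subgroup G}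
    (hK : K ∈ Om) (hQ : Syl Q K) (hvQ : ∀ x ∈ Q, v * x = x * v) :
    ∃ c, c * v * c⁻¹ = v ∧ cj c K ∈ OmS Om (S : Subgroup G) := by
  have hDv : DD Om (S : Subgroup G) ≤ centralizer {v} :=
    (DD_le_centralizer_ES h S.isPGroup').trans (centralizer_le (Set.singleton_subset_iff.2 hv))
  have hQv : Q ≤ centralizer {v} := fun x hx => mem_centralizer_singleton_iff.2 (hvQ x hx).symm
  obtain ⟨T, hT, hDT⟩ := Cit.exists_syl_ge (S.isPGroup'.to_le DD_le) hDv
  obtain ⟨T', hT', hQT'⟩ := Cit.exists_syl_ge hQ.2.1 hQv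
  obtain ⟨c, hc, hcT⟩ := hT'.exists_conj hT
  refine ⟨c, ?_, ?_⟩
  · rw [mem_centralizer_singleton_iff] at hc
    rw [hc, mul_inv_cancel_right]
  · rw [← h.OmS_eq S hT.2.1 hDT]
    refine mem_OmS_of_le (h.conj K hK c) (hQ.cj c) ?_
    rw [← hcT]
    exact cj_mono c hQT'

/-- the conjugates of the elements of `E(S)#` fix at most one point -/
theorem Fus.nb {S : Subgroup G} (f : Fus Om S M) {e : G} (he : e ∈ ES Om S) (he1 : e ≠ 1) : NB M e :=
  NB.of_mem (f.h2 e he he1)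

/-- **the products**: `v ∈ E(S)#` and `zz K` commute, `v ≠ zz K` -/
theorem Fus.nb_mul (h : Hyp Om) (hz : Inj Om) (S : Sylow 2 G) (f : Fus Om (S : Subgroup G) M) {v : G}
    (hv : v ∈ ES Om (S : Subgroup G)) (hv1 : v ≠ 1) {K : Subgroup G} (hK : K ∈ Om) (hne : v ≠ zz K)
    (hcomm : v * zz K = zz K * v) : NB M (v * zz K) := by
  have hvv := ES_sq h S.isPGroup' hv
  have hvK : cj v K = K := by
    refine hz _ (h.conj K hK v) K hK ?_
    rw [h.zz_cj hK, hcomm, mul_inv_cancel_right]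
  have hv2 : IsPGroup 2 (zpowers v) := CloEnd.isPGroup_zpowers hvv
  obtain ⟨Q, hQ, hQv⟩ := OneBasic.exists_syl_normalized hv2
    (zpowers_le.2 (mem_normalizer_iff_cj.2 hvK))
  by_cases hcen : ∀ x ∈ Q, v * x = x * v
  · obtain ⟨c, hcv, hcK⟩ := exists_common h S hv hK hQ hcen
    have h1 : c * (v * zz K) * c⁻¹ = v * zz (cj c K) := by
      calc c * (v * zz K) * c⁻¹ = (c * v * c⁻¹) * (c * zz K * c⁻¹) := by group
        _ = v * zz (cj c K) := by rw [hcv, h.zz_cj hK]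
    have h2 : v * zz (cj c K) ≠ 1 := by
      intro h3
      apply hne
      have h4 : v * zz K = 1 := by
        rw [← h1] at h3
        exact conj_eq_one_iff.1 h3
      calc v = (v * zz K) * (zz K)⁻¹ := by group
        _ = (zz K)⁻¹ := by rw [h4, one_mul]
        _ = zz K := h.zz_inv hK
    have h3 : NB M (v * zz (cj c K)) := f.nb (mul_mem hv (zz_mem_ES hcK)) h2
    have h4 := h3.conj c⁻¹
    rw [← h1] at h4
    have h5 : c⁻¹ * (c * (v * zz K) * c⁻¹) * c⁻¹⁻¹ = v * zz K := by group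
    rwa [h5] at h4
  · push Not at hcen
    obtain ⟨b, hb, hbv, -⟩ := exists_conj_mul hQ.2.1 (z := zz K)
      (fun t ht h2 h1 => h.eq_zz hK (hQ.1 ht) h2 h1) hvv (hQv (mem_zpowers v)) hcen
    rw [hcomm, ← hbv]
    exact (f.nb hv hv1).conj b

/-- the same for conjugates of elements of `E(S)#` -/
theorem Fus.nb_mul' (h : Hyp Om) (hz : Inj Om) (S : Sylow 2 G) (f : Fus Om (S : Subgroup G) M) {v x : G}
    (hv : v ∈ ES Om (S : Subgroup G)) (hv1 : v ≠ 1) {K : Subgroup G} (hK : K ∈ Om)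
    (hne : x * v * x⁻¹ ≠ zz K) (hcomm : x * v * x⁻¹ * zz K = zz K * (x * v * x⁻¹)) :
    NB M (x * v * x⁻¹ * zz K) := by
  have h1 : x⁻¹ * (x * v * x⁻¹ * zz K) * x⁻¹⁻¹ = v * zz (cj x⁻¹ K) := by
    rw [h.zz_cj hK]; group
  have h2 : NB M (v * zz (cj x⁻¹ K)) := by
    refine f.nb_mul h hz S hv hv1 (h.conj K hK _) ?_ ?_
    · intro h3
      apply hne
      rw [h3, h.zz_cj hK]; group
    · rw [h.zz_cj hK]
      calc v * (x⁻¹ * zz K * x⁻¹⁻¹) = x⁻¹ * (x * v * x⁻¹ * zz K) * x := by group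
        _ = x⁻¹ * (zz K * (x * v * x⁻¹)) * x := by rw [hcomm]
        _ = x⁻¹ * zz K * x⁻¹⁻¹ * v := by group
  rw [← h1] at h2
  have h3 := h2.conj x
  have h4 : x * (x⁻¹ * (x * v * x⁻¹ * zz K) * x⁻¹⁻¹) * x⁻¹ = x * v * x⁻¹ * zz K := by group
  rwa [h4] at h3

/-- **THEOREM CL1 (i)** every element of `E(S)#` is conjugate to `zz K` -/
theorem Fus.exists_conj (h : Hyp Om) (hz : Inj Om) (S : Sylow 2 G) (f : Fus Om (S : Subgroup G) M) (hM : M ≠ ⊤)
    {K : Subgroup G} (hK : K ∈ OmS Om (S : Subgroup G)) {e : G} (he : e ∈ ES Om (S : Subgroup G)) (he1 : e ≠ 1) :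
    ∃ g, g * zz K * g⁻¹ = e := by
  by_contra hcon
  push Not at hcon
  have hKE := zz_mem_ES hK
  have hK1 := h.zz_ne hK.1
  have hee := ES_sq h S.isPGroup' he
  have hcen : centralizer {e} ≤ M := by
    intro c hc
    rw [mem_centralizer_singleton_iff] at hc
    apply f.h2 e he he1
    rw [hc, mul_inv_cancel_right]
    exact f.le he
  refine hM (CloA.eq_top (z := zz K) (v := e) (f.le hKE) (h.zz_mul hK.1) (f.h2 _ hKE hK1) (f.le he) hee hcen
    hcon ?_ ?_)
  · intro g hg hne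
    rw [← h.zz_cj hK.1] at hg hne ⊢
    exact f.nb_mul h hz S hKE hK1 (h.conj K hK.1 g) (Ne.symm hne) hg.symm
  · intro g hg
    rw [← h.zz_cj hK.1] at hg ⊢
    refine f.nb_mul h hz S he he1 (h.conj K hK.1 g) ?_ hg.symm
    intro h3
    apply hcon g
    rw [h3, h.zz_cj hK.1]

/-- **THEOREM CL1 (i')** every element of `E(S)#` is `zz L`, `L ∈ Om(S)` -/
theorem Fus.exists_zz (h : Hyp Om) (hz : Inj Om) (S : Sylow 2 G) (f : Fus Om (S : Subgroup G) M) (hM : M ≠ ⊤)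
    {K : Subgroup G} (hK : K ∈ OmS Om (S : Subgroup G)) {e : G} (he : e ∈ ES Om (S : Subgroup G)) (he1 : e ≠ 1) :
    ∃ L ∈ OmS Om (S : Subgroup G), zz L = e ∧ ∃ g, cj g K = L := by
  obtain ⟨g, hg⟩ := f.exists_conj h hz S hM hK he he1
  have hD := DD_le_centralizer_ES h S.isPGroup'
  obtain ⟨c, hcc, hgc⟩ := control h.conj S (A := {zz K}) (g := g)
    (hD.trans (centralizer_le (Set.singleton_subset_iff.2 (zz_mem_ES hK)))) (by
    intro x hx
    rw [Set.mem_singleton_iff] at hx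
    rw [hx, hg]
    exact hD.trans (centralizer_le (Set.singleton_subset_iff.2 he)))
  refine ⟨cj (g * c) K, ?_, ?_, g * c, rfl⟩
  · have h1 := cj_mem_of_cj_DD_le (S := (S : Subgroup G)) h.conj (g := g * c)
      ((mem_normalizer_iff_cj.1 hgc).le.trans DD_le) hK
    exact h1
  · rw [h.zz_cj hK.1]
    have hc : c * zz K = zz K * c := mem_centralizer_singleton_iff.1 hcc
    calc g * c * zz K * (g * c)⁻¹ = g * (c * zz K) * c⁻¹ * g⁻¹ := by group
      _ = g * (zz K * c) * c⁻¹ * g⁻¹ := by rw [hc]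
      _ = g * zz K * g⁻¹ := by group
      _ = e := hg

/-- **THEOREM CL1 (ii)** `G` has a strongly embedded subgroup -/
theorem Fus.stronglyEmbedded (h : Hyp Om) (hz : Inj Om) (S : Sylow 2 G) (f : Fus Om (S : Subgroup G) M)
    (hM : M ≠ ⊤) (hne : (OmS Om (S : Subgroup G)).Nonempty) (hc : CloEnd.Crit1175 G) :
    ∃ H : Subgroup G, IsStronglyEmbedded H := by
  have : Fact (Nat.Prime 2) := ⟨Nat.prime_two⟩
  obtain ⟨K0, hK0⟩ := hne
  -- `w ∈ Z(S) ∩ E(S)#`
  have hn : ((ES Om (S : Subgroup G)).subgroupOf (S : Subgroup G)).Normal :=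
    (normal_subgroupOf_iff_le_normalizer (ES_le h S.isPGroup')).2
      ((CloseFus.Clo.le_normalizer h S.isPGroup'))
  have hnil : Group.IsNilpotent (S : Subgroup G) := S.isPGroup'.isNilpotent
  have hnb : (ES Om (S : Subgroup G)).subgroupOf (S : Subgroup G) ≠ ⊥ := by
    intro hd
    have h1 : (⟨zz K0, ES_le h S.isPGroup' (zz_mem_ES hK0)⟩ : (S : Subgroup G)) ∈
        (ES Om (S : Subgroup G)).subgroupOf (S : Subgroup G) := zz_mem_ES hK0
    rw [hd, mem_bot] at h1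
    exact h.zz_ne hK0.1 (congrArg Subtype.val h1)
  have h1 := Cfsg.Agent.Lib.NormalAbelian.normal_inf_center_ne_bot
    ((ES Om (S : Subgroup G)).subgroupOf (S : Subgroup G)) hnb
  obtain ⟨w0, hw0, hw01⟩ := (Subgroup.bot_or_exists_ne_one _).resolve_left h1
  obtain ⟨w, hw⟩ : ∃ w, w = (w0 : G) := ⟨_, rfl⟩
  have hwE : w ∈ ES Om (S : Subgroup G) := by rw [hw]; exact hw0.1
  have hwS : w ∈ (S : Subgroup G) := by rw [hw]; exact w0.2
  have hw1 : w ≠ 1 := by
    rw [hw]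
    intro h2
    exact hw01 (Subtype.ext h2)
  have hwc : ∀ s ∈ (S : Subgroup G), s * w = w * s := by
    intro s hs
    rw [hw]
    exact congrArg Subtype.val (mem_center_iff.1 hw0.2 ⟨s, hs⟩)
  have hww := ES_sq h S.isPGroup' hwE
  have hwM := f.le hwE
  have hwC : ∀ c, c * w = w * c → c ∈ M := by
    intro c hcw
    apply f.h2 w hwE hw1
    rw [hcw, mul_inv_cancel_right]
    exact hwM
  obtain ⟨L, hL, hLw, -⟩ := f.exists_zz h hz S hM hK0 hwE hw1
  refine hc M hM w (orderOf_eq_prime (by rw [pow_two, hww]) hw1) hwM ⟨S, hwS, hwc⟩ (f.h2 w hwE hw1) ?_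
  intro g hg hne
  have hg' : w * (g * w * g⁻¹) = g * w * g⁻¹ * w := hg
  have hgw : g * w * g⁻¹ = zz (cj g L) := by rw [h.zz_cj hL.1, hLw]
  have hNB : NB M (w * (g * w * g⁻¹)) := by
    rw [hgw] at hg' hne ⊢
    exact f.nb_mul h hz S hwE hw1 (h.conj L hL.1 g) (Ne.symm hne) hg'
  have hgM : g * w * g⁻¹ ∈ M := hwC _ hg'.symm
  intro c hcc
  rw [mem_centralizer_singleton_iff] at hcc
  have h2 := hNB 1 c (by simpa using M.mul_mem hwM hgM) (by
    have h3 : c⁻¹ * (w * (g * w * g⁻¹)) * c = w * (g * w * g⁻¹) := by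
      rw [mul_assoc, ← hcc, inv_mul_cancel_left]
    rw [h3]
    exact M.mul_mem hwM hgM)
  simpa using h2

/-- two members of `Om(S)` : the hypothesis `Two` of `CloEnd` -/
theorem two_of_ne (h : Hyp Om) {P K L : Subgroup G} (hP : IsPGroup 2 P) (hK : K ∈ OmS Om P) (hL : L ∈ OmS Om P)
    (hKL : K ≠ L) : CloEnd.Two G := by
  have key : ∀ K ∈ OmS Om P, ∃ x ∈ K ⊓ P, ∃ y ∈ K ⊓ P, x * y ≠ y * x := by
    intro K hK
    obtain ⟨c, v, n, hq⟩ := h.exists_gq hK.1 (syl_inf hP hK)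
    exact ⟨v, hq.v_mem, c, hq.c_mem, hq.not_comm⟩
  exact ⟨P, K ⊓ P, L ⊓ P, hP, inf_le_right, inf_le_right, fun x hx y hy => h.comm hP hK hL hKL hx hy,
    key K hK, key L hL⟩

/-- **THEOREM CL1 (iii)** -/
theorem Fus.eq_top (h : Hyp Om) (hz : Inj Om) (S : Sylow 2 G) (f : Fus Om (S : Subgroup G) M)
    {K L : Subgroup G} (hK : K ∈ OmS Om (S : Subgroup G)) (hL : L ∈ OmS Om (S : Subgroup G)) (hKL : K ≠ L)
    (hB : CloEnd.Bend G) (hc : CloEnd.Crit1175 G) : M = ⊤ := by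
  by_contra hM
  obtain ⟨H, hH⟩ := f.stronglyEmbedded h hz S hM ⟨K, hK⟩ hc
  exact (two_of_ne h S.isPGroup' hK hL hKL).not_stronglyEmbedded hB H hH

/-- from `CloseFus.Clo` (`|E(S)| ≥ 8`) to (H2) -/
theorem fus_of_clo (h : Hyp Om) (hT : ∀ K ∈ Om, TyTwo K) (S : Sylow 2 G) (hc : CloseFus.Clo Om (S : Subgroup G) M) :
    Fus Om (S : Subgroup G) M where
  le := (ES_le h S.isPGroup').trans (hc.le h S.isPGroup')
  h2 := fun e he he1 g hg => CloseFus.Clo.mem_of_conj h hT S hc he he1 hg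

/-- from `CloPoint.Clo` and `(M1)` (any `|E(S)| ≥ 4`, `CloH2.clo`) to (H2) -/
theorem fus_of_point (h : Hyp Om) (S : Sylow 2 G) (hS : (S : Subgroup G) ≤ M)
    (m1 : ∀ a ∈ ES Om (S : Subgroup G), a ≠ 1 → centralizer {a} ≤ M) {QQ : Set (Subgroup G)}
    (c : CloPoint.Clo M QQ) : Fus Om (S : Subgroup G) M where
  le := (ES_le h S.isPGroup').trans hS
  h2 := fun e he he1 g hg => c.h2' (ES_sq h S.isPGroup' he) (m1 e he he1) hg

/-- **the end for `tau = 1`** on `Emb`, `(M1)`, `Clo` -/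
theorem false_of_clo (e : CloGraph.Emb Om M)
    (m1 : ∀ S : Sylow 2 G, (S : Subgroup G) ≤ M → ∀ a ∈ ES Om (S : Subgroup G), a ≠ 1 → centralizer {a} ≤ M)
    (c : CloPoint.Clo M (CloGraph.QQ Om M)) (hz : Inj Om) (hM : M ≠ ⊤) (hB : CloEnd.Bend G)
    (hc : CloEnd.Crit1175 G) (htwo : ∃ S : Sylow 2 G, (S : Subgroup G) ≤ M ∧ 4 ≤ Nat.card (ES Om (S : Subgroup G))) :
    False := by
  obtain ⟨S, hS, h4⟩ := htwo
  have h := e.hyp
  have f := fus_of_point h S hS (m1 S hS) c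
  -- two different members of `Om(S)`
  obtain ⟨K, hK, L, hL, hKL⟩ : ∃ K ∈ OmS Om (S : Subgroup G), ∃ L ∈ OmS Om (S : Subgroup G), K ≠ L := by
    by_contra hcon
    push Not at hcon
    have h1 : Nat.card (ES Om (S : Subgroup G)) ≤ 2 := by
      rcases (OmS Om (S : Subgroup G)).eq_empty_or_nonempty with h2 | ⟨K, hK⟩
      · have h3 : ES Om (S : Subgroup G) = ⊥ := by
          rw [ES, h2, Set.image_empty, Subgroup.closure_empty]
        rw [h3, card_bot]
        omega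
      · have h3 : ES Om (S : Subgroup G) ≤ zpowers (zz K) := by
          rw [ES_le_iff]
          intro L hL
          rw [hcon L hL K hK]
          exact mem_zpowers _
        have h4 := Nat.le_of_dvd (Nat.card_pos) (Subgroup.card_dvd_of_le h3)
        rwa [Nat.card_zpowers, h.orderOf_zz hK.1] at h4
    omega
  exact hM (f.eq_top h hz S hK hL hKL hB hc)

/-- without S1175 and Bender: every `a ∈ E(S)#` is `zz L`, `L ∈ Om(S)` -/
theorem exists_zz_of_clo (e : CloGraph.Emb Om M)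
    (m1 : ∀ S : Sylow 2 G, (S : Subgroup G) ≤ M → ∀ a ∈ ES Om (S : Subgroup G), a ≠ 1 → centralizer {a} ≤ M)
    (c : CloPoint.Clo M (CloGraph.QQ Om M)) (hz : Inj Om) (hM : M ≠ ⊤) (S : Sylow 2 G)
    (hS : (S : Subgroup G) ≤ M) {K : Subgroup G} (hK : K ∈ OmS Om (S : Subgroup G)) {a : G}
    (ha : a ∈ ES Om (S : Subgroup G)) (ha1 : a ≠ 1) :
    ∃ L ∈ OmS Om (S : Subgroup G), zz L = a ∧ ∃ g, cj g K = L :=
  (fus_of_point e.hyp S hS (m1 S hS) c).exists_zz e.hyp hz S hM hK ha ha1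

end

end Cfsg.Agent.Cit.CloOne
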