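import Cfsg.Agent.Cit.CloEven
import Cfsg.Agent.Cit.TwoBasic
import Cfsg.Agent.Cit.CorTwo

/-!
# Closing of the classical involution theorem: the parity argument

bb R18 #8757, THEOREM CLOSE-A, original form.  `h : CloEven.Act Ω z`.

* `Act.exists_swap` : `T` a maximal 2-subgroup of `G_ab`, `a ≠ b`: some `x ∈ D` exchanging `a` and `b`
  centralises `T`;
* `Act.false_of_par` : it is impossible that for all 2-subgroups `T` and `d ∈ D ∩ C(T)` there is an involution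
  `v ∈ C(T⟨d⟩)`, `v ∉ D`, `v` not bad, with `v d₁` not bad for all `d₁ ∈ D ∩ C(v)` with `v d₁ ∈ T`.
-/

set_option autoImplicit false
set_option linter.unusedSectionVars false
set_option linter.style.haveILetI false

namespace Cfsg.Agent.Cit.CloEven

open Subgroup Cfsg

variable {G : Type*} [Group G] {Ω : Type*} [MulAction G Ω]

/-- `T` fixes `a` and `b` -/
def Fx (T : Subgroup G) (a b : Ω) : Prop := ∀ t ∈ T, t • a = a ∧ t • b = b

theorem isPGroup_zpowers_of_mul {x : G} (hx : x * x = 1) : IsPGroup 2 (zpowers x) := by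
  rintro ⟨y, hy⟩
  obtain ⟨k, rfl⟩ := mem_zpowers_iff.1 hy
  refine ⟨1, Subtype.ext ?_⟩
  change (x ^ k) ^ 2 ^ 1 = 1
  rw [pow_one, pow_two, ← (Commute.refl x).mul_zpow, hx, one_zpow]

namespace Act

variable {z : G} (h : Act Ω z)
include h

/-- (2) -/
theorem exists_swap [Finite G] {a b : Ω} (hab : a ≠ b) {T : Subgroup G} (hT : IsPGroup 2 T) (hTf : Fx T a b)
    (hmax : ∀ T' : Subgroup G, IsPGroup 2 T' → T ≤ T' → Fx T' a b → T' ≤ T) :
    ∃ x, IsConj z x ∧ x • a = b ∧ ∀ t ∈ T, t * x = x * t := by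
  obtain ⟨d, hd, hda⟩ := h.exists_at a
  obtain ⟨e, he, heb⟩ := h.exists_at b
  obtain ⟨x0, hx0, hx0e⟩ := exists_swap_of_odd (h.dsq hd) (h.dsq he) (h.odd hd he hab hda heb)
  have hx0D : IsConj z x0 := hd.trans hx0
  have hx0a : x0 • a = b := by
    have h1 : e • (x0 • a) = x0 • a := by
      rw [← hx0e, ← mul_smul, inv_mul_cancel_right, mul_smul, hda]
    exact h.duniq he h1 heb
  have hx0b : x0 • b = a := by rw [← hx0a, ← mul_smul, h.dsq hx0D, one_smul]
  let H : Subgroup G := MulAction.stabilizer G a ⊓ MulAction.stabilizer G b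
  have hmemH : ∀ y : G, y ∈ H ↔ y • a = a ∧ y • b = b := fun y => Iff.rfl
  have hx0i : x0⁻¹ = x0 := inv_eq_of_mul_eq_one_right (h.dsq hx0D)
  have hconjH : ∀ y ∈ H, x0 * y * x0⁻¹ ∈ H := by
    intro y hy
    obtain ⟨h1, h2⟩ := (hmemH y).1 hy
    rw [hmemH, hx0i]
    constructor
    · rw [mul_smul, mul_smul, hx0a, h2, hx0b]
    · rw [mul_smul, mul_smul, hx0b, h1, hx0a]
  have hxH : x0 ∈ normalizer (H : Set G) := by
    rw [mem_normalizer_iff]
    intro y
    refine ⟨fun hy => hconjH y hy, fun hy => ?_⟩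
    have h1 := hconjH _ hy
    have h2 : x0 * (x0 * y * x0⁻¹) * x0⁻¹ = y := by
      calc x0 * (x0 * y * x0⁻¹) * x0⁻¹ = (x0 * x0) * y * (x0 * x0)⁻¹ := by group
        _ = y := by rw [h.dsq hx0D]; group
    rwa [h2] at h1
  obtain ⟨Q, hQ, hxQ⟩ := OneBasic.exists_syl_normalized (isPGroup_zpowers_of_mul (h.dsq hx0D)) (zpowers_le.2 hxH)
  have hTH : T ≤ H := fun t ht => (hmemH t).2 (hTf t ht)
  obtain ⟨T', hT', hTT'⟩ := Cit.exists_syl_ge hT hTH
  have hTe : T' = T := le_antisymm (hmax T' hT'.2.1 hTT' fun t ht => (hmemH t).1 (hT'.1 ht)) hTT'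
  rw [hTe] at hT'
  obtain ⟨g, hg, hgQ⟩ := hQ.exists_conj hT'
  obtain ⟨hga, hgb⟩ := (hmemH g).1 hg
  have hgia : g⁻¹ • a = a := by rw [inv_smul_eq_iff, hga]
  have hgib : g⁻¹ • b = b := by rw [inv_smul_eq_iff, hgb]
  obtain ⟨x, hx⟩ : ∃ x, x = g * x0 * g⁻¹ := ⟨_, rfl⟩
  have hxD : IsConj z x := hx0D.trans (isConj_iff.2 ⟨g, hx.symm⟩)
  have hxx := h.dsq hxD
  have hxT : cj x T = T := by
    have h1 : cj x0 Q = Q := mem_normalizer_iff_cj.1 (hxQ (mem_zpowers x0))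
    rw [← hgQ, ← cj_mul, hx]
    have h2 : g * x0 * g⁻¹ * g = g * x0 := by group
    rw [h2, cj_mul, h1]
  have hxa : x • a = b := by rw [hx, mul_smul, mul_smul, hgia, hx0a, hgb]
  have hxb : x • b = a := by rw [hx, mul_smul, mul_smul, hgib, hx0b, hga]
  refine ⟨x, hxD, hxa, ?_⟩
  by_contra hcon
  push Not at hcon
  obtain ⟨t0, ht0, ht0x⟩ := hcon
  let P : Subgroup G := zpowers x ⊔ T
  have hP : IsPGroup 2 P := OneBasic.isPGroup_sup_of_normalizes (isPGroup_zpowers_of_mul hxx) hT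
    (zpowers_le.2 (mem_normalizer_iff_cj.2 hxT))
  let A : Subgroup G := P ⊓ centralizer {x}
  have hAne : A ≠ P := by
    intro h1
    have h2 : t0 ∈ A := by rw [h1]; exact mem_sup_right ht0
    exact ht0x (mem_centralizer_singleton_iff.1 h2.2)
  obtain ⟨g', hg'P, hg'A, hg'cj⟩ := exists_normalizing hP (inf_le_left : A ≤ P) hAne
  -- the stabiliser of `{a, b}`
  let W : Subgroup G :=
    { carrier := {p | (p • a = a ∧ p • b = b) ∨ (p • a = b ∧ p • b = a)}
      one_mem' := Or.inl ⟨one_smul _ _, one_smul _ _⟩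
      mul_mem' := by
        rintro p q (⟨h1, h2⟩ | ⟨h1, h2⟩) (⟨h3, h4⟩ | ⟨h3, h4⟩)
        · left; rw [mul_smul, mul_smul, h3, h4]; exact ⟨h1, h2⟩
        · right; rw [mul_smul, mul_smul, h3, h4]; exact ⟨h2, h1⟩
        · right; rw [mul_smul, mul_smul, h3, h4]; exact ⟨h1, h2⟩
        · left; rw [mul_smul, mul_smul, h3, h4]; exact ⟨h2, h1⟩
      inv_mem' := by
        rintro p (⟨h1, h2⟩ | ⟨h1, h2⟩)
        · left; exact ⟨by rw [inv_smul_eq_iff, h1], by rw [inv_smul_eq_iff, h2]⟩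
        · right; exact ⟨by rw [inv_smul_eq_iff, h2], by rw [inv_smul_eq_iff, h1]⟩ }
  have hPW : P ≤ W := sup_le (zpowers_le.2 (Or.inr ⟨hxa, hxb⟩)) fun t ht => Or.inl (hTf t ht)
  have hxP : x ∈ P := mem_sup_left (mem_zpowers x)
  have hxA : x ∈ A := ⟨hxP, mem_centralizer_singleton_iff.2 rfl⟩
  obtain ⟨y, hy⟩ : ∃ y, y = g' * x * g'⁻¹ := ⟨_, rfl⟩
  have hyA : y ∈ A := by
    have h1 : y ∈ cj g' A := by rw [hy]; exact conj_mem_cj hxA
    have h2 : cj g' A = A := hg'cj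
    rwa [h2] at h1
  have hyx : y * x = x * y := mem_centralizer_singleton_iff.1 hyA.2
  have hyne : x ≠ y := by
    intro h1
    apply hg'A
    refine ⟨hg'P, mem_centralizer_singleton_iff.2 ?_⟩
    rw [hy] at h1
    exact (eq_mul_inv_iff_mul_eq.1 h1).symm
  have hyD : IsConj z y := hxD.trans (isConj_iff.2 ⟨g', hy.symm⟩)
  have hyab : y • a = b ∧ y • b = a := by
    rcases hPW hg'P with ⟨h1, h2⟩ | ⟨h1, h2⟩
    · have h3 : g'⁻¹ • a = a := by rw [inv_smul_eq_iff, h1]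
      have h4 : g'⁻¹ • b = b := by rw [inv_smul_eq_iff, h2]
      rw [hy]
      constructor
      · rw [mul_smul, mul_smul, h3, hxa, h2]
      · rw [mul_smul, mul_smul, h4, hxb, h1]
    · have h3 : g'⁻¹ • a = b := by rw [inv_smul_eq_iff, h2]
      have h4 : g'⁻¹ • b = a := by rw [inv_smul_eq_iff, h1]
      rw [hy]
      constructor
      · rw [mul_smul, mul_smul, h3, hxb, h1]
      · rw [mul_smul, mul_smul, h4, hxa, h2]
  refine h.p1 x y hxD hyD hyx.symm hyne ⟨a, b, hab, ?_, ?_⟩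
  · rw [mul_smul, hyab.1, hxb]
  · rw [mul_smul, hyab.2, hxa]

/-- **THEOREM CLOSE-A**, parity form -/
theorem false_of_par [Finite G]
    (h3 : ∀ (T : Subgroup G) (d : G), IsPGroup 2 T → IsConj z d → (∀ t ∈ T, t * d = d * t) →
      ∃ v, v * v = 1 ∧ v * d = d * v ∧ (∀ t ∈ T, t * v = v * t) ∧ ¬ IsConj z v ∧ ¬ Bad Ω v ∧
        ∀ d₁, IsConj z d₁ → d₁ * v = v * d₁ → d₁ ≠ v → v * d₁ ∈ T → ¬ Bad Ω (v * d₁)) : False := by
  classical
  let p : ℕ → Prop := fun n => ∃ (T : Subgroup G) (a b : Ω), a ≠ b ∧ IsPGroup 2 T ∧ Fx T a b ∧ Nat.card T = n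
  have hbd : ∀ n, p n → n ≤ Nat.card G := by
    rintro n ⟨T, a, b, -, -, -, rfl⟩
    exact Subgroup.card_le_card_group T
  obtain ⟨a0, b0, hab0⟩ := h.two
  have hp1 : p 1 := ⟨⊥, a0, b0, hab0, IsPGroup.of_bot, by
    intro t ht
    rw [mem_bot.1 ht]
    exact ⟨one_smul _ _, one_smul _ _⟩, by simp⟩
  obtain ⟨n, hn, hmax⟩ : ∃ n, p n ∧ ∀ m, p m → m ≤ n :=
    ⟨Nat.findGreatest p (Nat.card G), Nat.findGreatest_spec (hbd 1 hp1) hp1,
      fun m hm => Nat.le_findGreatest (hbd m hm) hm⟩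
  obtain ⟨T, a, b, hab, hT, hTf, hTn⟩ := hn
  have hM : ∀ a' b' : Ω, a' ≠ b' → ∀ T' : Subgroup G, IsPGroup 2 T' → T ≤ T' → Fx T' a' b' → T' ≤ T := by
    intro a' b' h' T' hT' hle hf'
    have h1 := hmax _ ⟨T', a', b', h', hT', hf', rfl⟩
    exact (Subgroup.eq_of_le_of_card_ge hle (by omega)).ge
  obtain ⟨x, hx, hxa, hxT⟩ := h.exists_swap hab hT hTf (hM a b hab)
  obtain ⟨c, hc, hcu⟩ := h.dpt hx
  have hTc : ∀ t ∈ T, t • c = c := fun t ht => h.dcomm hx (hxT t ht).symm hc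
  have hca : c ≠ a := by
    rintro rfl
    exact hab (hc.symm.trans hxa)
  have hcb : c ≠ b := by
    rintro rfl
    have h1 : x • (x • a) = a := by rw [← mul_smul, h.dsq hx, one_smul]
    rw [hxa, hc] at h1
    exact hab h1.symm
  obtain ⟨x1, hx1, hx1c, hx1T⟩ := h.exists_swap hca hT (fun t ht => ⟨hTc t ht, (hTf t ht).1⟩) (hM c a hca)
  obtain ⟨x2, hx2, hx2c, hx2T⟩ := h.exists_swap hcb hT (fun t ht => ⟨hTc t ht, (hTf t ht).2⟩) (hM c b hcb)
  have key : ∀ (y : G) (a' : Ω), y • c = a' → (∀ t ∈ T, t * y = y * t) →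
      IsConj z (y * x * y⁻¹) ∧ (y * x * y⁻¹) • a' = a' ∧ ∀ t ∈ T, t * (y * x * y⁻¹) = y * x * y⁻¹ * t := by
    intro y a' hy hyT
    refine ⟨hx.trans (isConj_iff.2 ⟨y, rfl⟩), ?_, ?_⟩
    · rw [← hy, ← mul_smul, inv_mul_cancel_right, mul_smul, hc]
    · intro t ht
      have c1 : Commute t y := hyT t ht
      have c2 : Commute t x := hxT t ht
      exact ((c1.mul_right c2).mul_right c1.inv_right).eq
  obtain ⟨hd, hda, hdT⟩ := key x1 a hx1c hx1T
  obtain ⟨he, heb, heT⟩ := key x2 b hx2c hx2T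
  obtain ⟨d, hdd⟩ : ∃ d, d = x1 * x * x1⁻¹ := ⟨_, rfl⟩
  obtain ⟨e, hee⟩ : ∃ e, e = x2 * x * x2⁻¹ := ⟨_, rfl⟩
  rw [← hdd] at hd hda hdT
  rw [← hee] at he heb heT
  obtain ⟨v, hv2, hvd, hTv, hvD, hvB, hP⟩ := h3 T d hT hd hdT
  have hva : v • a = a := h.dcomm hd hvd.symm hda
  have hvu : ∀ b' : Ω, v • b' = b' → b' = a := by
    intro b' hb'
    by_contra hne
    exact hvB ⟨b', a, hne, hb', hva⟩
  have hodd : ¬ Odd (orderOf (v * e)) := by
    intro ho
    obtain ⟨y, hy, hye⟩ := exists_swap_of_odd hv2 (h.dsq he) ho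
    exact hvD (he.trans (isConj_iff.2 ⟨y, hye⟩).symm)
  obtain ⟨w, hwz, hw2, hw1, hwv, hwe, hor⟩ := exists_mid hv2 (h.dsq he) (orderOf_pos _) hodd
  have hwa : w • a = a := smul_comm_fix hwv.symm hva hvu
  have hwb : w • b = b := h.dcomm he hwe.symm heb
  have hwBad : Bad Ω w := ⟨a, b, hab, hwa, hwb⟩
  have hwT' : ∀ t ∈ T, t * w = w * t := by
    intro t ht
    obtain ⟨k, rfl⟩ := mem_zpowers_iff.1 hwz
    have c1 : Commute t v := hTv t ht
    have c2 : Commute t e := heT t ht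
    exact ((c1.mul_right c2).zpow_right k).eq
  have hwT : w ∈ T := by
    have h1 : zpowers w ≤ normalizer (T : Set G) := by
      rw [zpowers_le, mem_normalizer_iff]
      intro t
      constructor
      · intro ht
        rw [← hwT' t ht]; simpa using ht
      · intro ht
        have h2 := hwT' _ ht
        have h4 : t = w * t * w⁻¹ := by
          calc t = w⁻¹ * (w * t * w⁻¹ * w) := by group
            _ = w⁻¹ * (w * (w * t * w⁻¹)) := by rw [h2]
            _ = w * t * w⁻¹ := by group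
        rwa [← h4] at ht
    have h5 := hM a b hab (zpowers w ⊔ T)
      (OneBasic.isPGroup_sup_of_normalizes (isPGroup_zpowers_of_mul hw2) hT h1) le_sup_right (by
      have h6 : zpowers w ⊔ T ≤ MulAction.stabilizer G a ⊓ MulAction.stabilizer G b :=
        sup_le (zpowers_le.2 ⟨hwa, hwb⟩) fun t ht => hTf t ht
      exact fun t ht => h6 ht)
    exact h5 (mem_sup_left (mem_zpowers w))
  rcases hor with ⟨-, h5⟩ | ⟨h5, -⟩
  · have h7 := h.p1 e (e * w) he (he.trans h5) (by rw [mul_assoc e w e, hwe]) (by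
      intro h8
      exact hw1 (by simpa using h8.symm))
    rw [← mul_assoc, h.dsq he, one_mul] at h7
    exact h7 hwBad
  · have h8 : v * (v * w) = w := by rw [← mul_assoc, hv2, one_mul]
    have h7 := hP (v * w) (he.trans h5) (by rw [mul_assoc v w v, hwv]) (by
      intro h8
      exact hw1 (by simpa using h8)) (by rw [h8]; exact hwT)
    rw [h8] at h7
    exact h7 hwBad

end Act

end Cfsg.Agent.Cit.CloEven
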