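import Cfsg.Agent.Cit.CloWreath
import Cfsg.Agent.Cit.UseT2

/-!
# Closing of the classical involution theorem: the pieces of `M / O(M)`

`e : Emb Om M`, `c : Clo M (QQ Om M)`, `(C)`, THEOREM T for `M`.

* `sc` : **(SC)** an involution of `M` does not centralise all the pieces of `M / O(M)` (S1174, Bender's theorem);
* `false_of_two_pieces` : **`M / O(M)` has only one piece** (bb R18 #9232 (S2)).
-/

set_option autoImplicit false
set_option linter.dupNamespace false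
set_option linter.style.haveILetI false
set_option linter.unusedSectionVars false

namespace Cfsg.Agent.Cit.CloPcs

open Subgroup Cfsg Cfsg.Agent.Cit SubCent UseT CloGraph CovES CloPoint

section

variable {G : Type*} [Group G] {Om : Set (Subgroup G)} {M K L J S Q : Subgroup G}

open Classical in
/-- the member with the Sylow 2-subgroup `Q` -/
noncomputable def mb (Om : Set (Subgroup G)) (M Q : Subgroup G) : Subgroup G :=
  if h : ∃ K ∈ OmS Om M, Syl Q K then h.choose else ⊥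

variable [Finite G]

/-- a 2-group is a Sylow subgroup of at most one member -/
theorem eq_of_syl (hOm : Hyp Om) (hK : K ∈ Om) (hL : L ∈ Om) (hQK : Syl Q K) (hQL : Syl Q L) : K = L := by
  by_contra hne
  obtain ⟨c, v, n, hq⟩ := hOm.exists_gq hK hQK
  exact hq.not_comm (hOm.comm hQK.2.1 (mem_OmS_of_le hK hQK le_rfl) (mem_OmS_of_le hL hQL le_rfl) hne
    ⟨hQK.1 hq.v_mem, hq.v_mem⟩ ⟨hQL.1 hq.c_mem, hq.c_mem⟩)

theorem mb_eq (hOm : Hyp Om) (hK : K ∈ OmS Om M) (hQ : Syl Q K) : mb Om M Q = K := by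
  have h : ∃ K ∈ OmS Om M, Syl Q K := ⟨K, hK, hQ⟩
  rw [mb, dif_pos h]
  exact eq_of_syl hOm h.choose_spec.1.1 hK.1 h.choose_spec.2 hQ

/-- an involution of `M` whose image centralises the trace of `L` centralises a Sylow 2-subgroup of a conjugate
of `L` -/
theorem exists_syl_comm (h : ∀ K ∈ Om, IsType K) (hL : L ∈ cov Om M) {f : G} (hfM : f ∈ M)
    (hf : f * f = 1) (hfc : qm M ⟨f, hfM⟩ ∈ centralizer (tr M L : Set (HQ M))) :
    ∃ x ∈ M, ∃ Q, Syl Q L ∧ ∀ a ∈ cj x Q, f * a = a * f := by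
  obtain ⟨Q, hQ, hQP⟩ := exists_syl_le_pre h hL (D := tr M L) le_rfl
  have hQM : Q ≤ M := hQP.trans pre_le
  -- `X = Q O(M)`
  set Q' : Subgroup (HQ M) := (Q.subgroupOf M).map (qm M) with hQ'
  have hQ'le : Q' ≤ tr M L := by
    rintro _ ⟨x, hx, rfl⟩
    obtain ⟨hx1, hx2⟩ := mem_pre.1 (hQP (mem_subgroupOf.1 hx))
    exact hx2
  have hX : pre M Q' = OO M ⊔ Q := by
    rw [hQ', pre_sup_OO, map_subgroupOf_eq_of_le hQM, sup_comm]
  have hQX : Syl Q (pre M Q') := by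
    refine ⟨by rw [hX]; exact le_sup_right, hQ.2.1, fun h2 => ?_⟩
    rw [hX] at h2
    exact odd_OO M (h2.trans (relIndex_sup_dvd_card (hQM.trans (le_normalizer_OO M))))
  have hfX : zpowers f ≤ normalizer (pre M Q' : Set G) := by
    rw [zpowers_le]
    have h1 := (mem_normalizer_pre (g := ⟨f, hfM⟩) (D := Q')).2
    refine h1 (centralizer_le_normalizer _ ?_)
    exact (centralizer_le (show (Q' : Set (HQ M)) ⊆ tr M L from hQ'le)) hfc
  obtain ⟨R, hR, hfR, hRX⟩ := LB.exists_two_sup (isPGroup_zpowers_of_sq hf) hfX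
  obtain ⟨x, hx, hxQ⟩ := hQX.exists_conj hRX
  refine ⟨x, pre_le hx, Q, hQ, ?_⟩
  intro a ha
  rw [hxQ] at ha
  obtain ⟨haM, haQ'⟩ := mem_pre.1 ha.2
  -- `f a f⁻¹ a⁻¹` is a 2-element of `O(M)`
  have h2 : f * a * f⁻¹ * a⁻¹ ∈ R := R.mul_mem (R.mul_mem (R.mul_mem (hfR (mem_zpowers f)) ha.1)
    (R.inv_mem (hfR (mem_zpowers f)))) (R.inv_mem ha.1)
  have h3 : f * a * f⁻¹ * a⁻¹ ∈ OO M := by
    have h4 : (⟨f, hfM⟩ * ⟨a, haM⟩ * ⟨f, hfM⟩⁻¹ * ⟨a, haM⟩⁻¹ : M) ∈ (qm M).ker := by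
      rw [MonoidHom.mem_ker, map_mul, map_mul, map_mul, map_inv, map_inv]
      have h5 := mem_centralizer_iff.1 hfc _ (hQ'le haQ')
      rw [← h5, mul_inv_cancel_right, mul_inv_cancel]
    rw [ker_qm] at h4
    exact ⟨_, h4, rfl⟩
  obtain ⟨k, hk⟩ := hR ⟨_, h2⟩
  have h5 := eq_one_of_odd (odd_OO M) h3 (a := k) (congrArg Subtype.val hk)
  rw [mul_inv_eq_one, mul_inv_eq_iff_eq_mul] at h5
  exact h5

/-- a Sylow 2-subgroup of `M` contains Sylow 2-subgroups of members of every piece -/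
theorem exists_cj_le (hOm : Hyp Om) (h : ∀ K ∈ Om, IsType K) (hS : Syl S M) (hL : L ∈ cov Om M) :
    ∃ p ∈ M, ∃ Q, Syl Q L ∧ cj p Q ≤ S ∧ px Om M (cj p L) = px Om M L := by
  obtain ⟨Q, hQ, hQP⟩ := exists_syl_le_pre h hL (D := px Om M L) tr_le_px
  have hW : M ≤ normalizer (pre M (sSup (fam Om M)) : Set G) := by
    intro g hg
    refine (mem_normalizer_pre (g := ⟨g, hg⟩)).2 ?_
    rw [mem_normalizer_iff_cj]
    have key : ∀ x : HQ M, cj x (sSup (fam Om M)) ≤ sSup (fam Om M) := by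
      intro x
      rw [Cit.cj_le_iff]
      refine sSup_le fun J hJ => ?_
      rw [← Cit.cj_le_iff]
      exact le_sSup ((hyp_fam hOm h M).conj J hJ x)
    refine le_antisymm (key _) ?_
    have h1 := cj_mono (qm M ⟨g, hg⟩) (key (qm M ⟨g, hg⟩)⁻¹)
    rwa [cj_cj_inv] at h1
  have hDW : px Om M L ≤ sSup (fam Om M) :=
    sSup_le fun J hJ => le_sSup (chn_mem (tr_mem hL) hJ)
  have h1 := LB.syl_inf_normal hS pre_le hW
  have h2 : pre M (sSup (fam Om M)) ≤ normalizer (pre M (px Om M L) : Set G) := by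
    intro g hg
    obtain ⟨hgM, hg⟩ := mem_pre.1 hg
    exact (mem_normalizer_pre (g := ⟨g, hgM⟩)).2 (sSup_le_normalizer_pc (tr_mem hL) hg)
  have h3 := LB.syl_inf_normal h1 (pre_mono hDW) h2
  obtain ⟨T, hT, hQT⟩ := LB.exists_syl_ge hQ.2.1 hQP
  obtain ⟨p, hp, hpT⟩ := hT.exists_conj h3
  refine ⟨p, pre_le hp, Q, hQ, ?_, ?_⟩
  · refine (cj_mono p hQT).trans ?_
    rw [hpT]
    exact inf_le_left.trans inf_le_left
  · obtain ⟨hpM, hp⟩ := mem_pre.1 hp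
    rw [px_cj hOm h ⟨p, hpM⟩ hL]
    exact mem_normalizer_iff_cj.1 (le_normalizer hp)

/-- the elements of `M` centralising `D` modulo `O(M)` -/
def CD (M : Subgroup G) (D : Subgroup (HQ M)) : Subgroup G := pre M (centralizer (D : Set (HQ M)))

/-- involutions of `M` centralising a trace -/
theorem cent_le_of_comm (h : ∀ K ∈ Om, IsType K) (e : Emb Om M) (c : Clo M (QQ Om M)) (cc : CC M (QQ Om M))
    (hL : L ∈ OmS Om M) {f : G} (hfM : f ∈ M) (hf : f * f = 1) (hf1 : f ≠ 1)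
    (hfc : qm M ⟨f, hfM⟩ ∈ centralizer (tr M L : Set (HQ M))) : centralizer {f} ≤ M := by
  obtain ⟨x, hx, Q, hQ, h1⟩ := exists_syl_comm h (mem_cov_of_le hL.1 (e.le hL)) hfM hf hfc
  exact cc (cj x Q) (c.inv x hx Q ⟨L, hL, hQ⟩) f hf hf1 h1

/-- **(SC)** : an involution of `M` does not centralise all the pieces of `M / O(M)` -/
theorem sc (h : ∀ K ∈ Om, IsType K) (e : Emb Om M) (c : Clo M (QQ Om M)) (cc : CC M (QQ Om M)) (hM : M ≠ ⊤)
    (hB : CloEnd.Bend G) (h74 : CloEnd.Crit1174 G) (ht : CloEnd.Two G) {f : G} (hfM : f ∈ M) (hf : f * f = 1)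
    (hf1 : f ≠ 1) : ¬ ∀ K ∈ OmS Om M, qm M ⟨f, hfM⟩ ∈ centralizer (px Om M K : Set (HQ M)) := by
  intro hall
  -- the normal subgroup `N` of the elements which centralise all the pieces modulo `O(M)`
  let N : Subgroup G :=
    { carrier := {x | ∃ hx : x ∈ M, ∀ K ∈ OmS Om M, qm M ⟨x, hx⟩ ∈ centralizer (px Om M K : Set (HQ M))}
      one_mem' := ⟨M.one_mem, fun K _ => by
        have : (⟨1, M.one_mem⟩ : M) = 1 := rfl
        rw [this, map_one]; exact one_mem _⟩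
      mul_mem' := by
        rintro x y ⟨hx, hx1⟩ ⟨hy, hy1⟩
        refine ⟨M.mul_mem hx hy, fun K hK => ?_⟩
        have : (⟨x * y, M.mul_mem hx hy⟩ : M) = ⟨x, hx⟩ * ⟨y, hy⟩ := rfl
        rw [this, map_mul]
        exact mul_mem (hx1 K hK) (hy1 K hK)
      inv_mem' := by
        rintro x ⟨hx, hx1⟩
        refine ⟨M.inv_mem hx, fun K hK => ?_⟩
        have : (⟨x⁻¹, M.inv_mem hx⟩ : M) = ⟨x, hx⟩⁻¹ := rfl
        rw [this, map_inv]
        exact inv_mem (hx1 K hK) }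
  have hNM : N ≤ M := fun x ⟨hx, _⟩ => hx
  have hconj : ∀ m ∈ M, ∀ x ∈ N, m * x * m⁻¹ ∈ N := by
    rintro m hm x ⟨hx, hx1⟩
    refine ⟨M.mul_mem (M.mul_mem hm hx) (M.inv_mem hm), fun K hK => ?_⟩
    have h1 : (⟨m * x * m⁻¹, M.mul_mem (M.mul_mem hm hx) (M.inv_mem hm)⟩ : M) =
      ⟨m, hm⟩ * ⟨x, hx⟩ * ⟨m, hm⟩⁻¹ := rfl
    have hK' : cj m⁻¹ K ∈ OmS Om M := cj_mem_OmS_of_mem e.hyp (M.inv_mem hm) hK
    have h2 := hx1 _ hK'
    have h3 : px Om M (cj m⁻¹ K) = cj (qm M ⟨m, hm⟩)⁻¹ (px Om M K) := by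
      rw [← map_inv]
      exact px_cj e.hyp h ⟨m⁻¹, M.inv_mem hm⟩ (mem_cov_of_le hK.1 (e.le hK))
    rw [h3] at h2
    rw [h1, map_mul, map_mul, map_inv, mem_centralizer_iff]
    intro y hy
    generalize qm M ⟨m, hm⟩ = m' at *
    generalize qm M ⟨x, hx⟩ = x' at *
    have h4 : m'⁻¹ * y * m' ∈ cj m'⁻¹ (px Om M K) := by
      rw [mem_cj]
      have : m'⁻¹⁻¹ * (m'⁻¹ * y * m') * m'⁻¹ = y := by group
      rw [this]; exact hy
    have h5 := mem_centralizer_iff.1 h2 _ h4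
    calc y * (m' * x' * m'⁻¹) = m' * (m'⁻¹ * y * m' * x') * m'⁻¹ := by group
      _ = m' * (x' * (m'⁻¹ * y * m')) * m'⁻¹ := by rw [h5]
      _ = m' * x' * m'⁻¹ * y := by group
  refine CloEnd.false_of_normal ht hB h74 hM c.hTwo hNM ?_ ?_ ?_
  · intro m hm
    rw [mem_normalizer_iff]
    intro x
    refine ⟨fun hx => hconj m hm x hx, fun hx => ?_⟩
    have := hconj m⁻¹ (M.inv_mem hm) _ hx
    simpa [mul_assoc] using this
  · rw [even_iff_two_dvd]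
    have h2 : orderOf (⟨f, hfM, hall⟩ : N) = 2 :=
      orderOf_eq_prime (Subtype.ext (by rw [pow_two]; exact hf)) (fun h1 => hf1 (congrArg Subtype.val h1))
    rw [← h2]
    exact orderOf_dvd_natCard _
  · rintro x ⟨hx, hx1⟩ hxx hx2
    obtain ⟨K, hK⟩ := e.ne
    exact cent_le_of_comm h e c cc hK hx hxx hx2 ((centralizer_le tr_le_px) (hx1 K hK))

/-- the piece of the member with Sylow subgroup `Q` -/
noncomputable def pp (Om : Set (Subgroup G)) (M Q : Subgroup G) : Subgroup (HQ M) := px Om M (mb Om M Q)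

theorem pp_eq (hOm : Hyp Om) (hK : K ∈ OmS Om M) (hQ : Syl Q K) : pp Om M Q = px Om M K := by
  rw [pp, mb_eq hOm hK hQ]

/-- several pieces: two members in a common 2-group -/
theorem two_of_ne (h : ∀ K ∈ Om, IsType K) (e : Emb Om M) (c : Clo M (QQ Om M))
    (hK : K ∈ OmS Om M) (hL : L ∈ OmS Om M) (hne : px Om M K ≠ px Om M L) : CloEnd.Two G := by
  obtain ⟨S, hS⟩ := Hyp.exists_syl M
  obtain ⟨p, hp, Q, hQ, hQS, h1⟩ := exists_cj_le e.hyp h hS (mem_cov_of_le hK.1 (e.le hK))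
  obtain ⟨r, hr, R, hR, hRS, h2⟩ := exists_cj_le e.hyp h hS (mem_cov_of_le hL.1 (e.le hL))
  have hK' := cj_mem_OmS_of_mem e.hyp hp hK
  have hL' := cj_mem_OmS_of_mem e.hyp hr hL
  refine c.two' hS.2.1 hS.1 (Q := cj p Q) (R := cj r R) ⟨_, hK', hQ.cj p⟩ ⟨_, hL', hR.cj r⟩ hQS hRS ?_
  intro h3
  apply hne
  rw [← h1, ← h2, ← pp_eq e.hyp hK' (hQ.cj p), ← pp_eq e.hyp hL' (hR.cj r), h3]

/-- the structure `Pcs` -/
theorem pcs (h : ∀ K ∈ Om, IsType K) (hcls : ∀ K ∈ Om, ∀ J ∈ Om, ∃ g, J = cj g K)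
    (e : Emb Om M) (c : Clo M (QQ Om M)) (cc : CC M (QQ Om M)) (hM : M ≠ ⊤)
    (hB : CloEnd.Bend G) (h74 : CloEnd.Crit1174 G) (ht : CloEnd.Two G) :
    Pcs M (QQ Om M) (pp Om M) (CD M) where
  inv := by
    rintro m hm Q ⟨K, hK, hQ⟩ R ⟨L, hL, hR⟩ hQR
    rw [pp_eq e.hyp hK hQ, pp_eq e.hyp hL hR] at hQR
    rw [pp_eq e.hyp (cj_mem_OmS_of_mem e.hyp hm hK) (hQ.cj m),
      pp_eq e.hyp (cj_mem_OmS_of_mem e.hyp hm hL) (hR.cj m),
      px_cj e.hyp h ⟨m, hm⟩ (mem_cov_of_le hK.1 (e.le hK)),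
      px_cj e.hyp h ⟨m, hm⟩ (mem_cov_of_le hL.1 (e.le hL)), hQR]
  tr := by
    rintro Q ⟨K, hK, hQ⟩ R ⟨L, hL, hR⟩
    obtain ⟨g, rfl⟩ := hcls K hK.1 L hL.1
    have hg := e.stab K hK g hL
    exact ⟨g, hg, by rw [pp_eq e.hyp hL (hQ.cj g), pp_eq e.hyp hL hR]⟩
  cov := by
    rintro S hS R ⟨L, hL, hR⟩
    obtain ⟨p, hp, Q, hQ, hQS, h1⟩ := exists_cj_le e.hyp h hS (mem_cov_of_le hL.1 (e.le hL))
    have hL' := cj_mem_OmS_of_mem e.hyp hp hL
    refine ⟨cj p Q, ⟨_, hL', hQ.cj p⟩, hQS, ?_⟩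
    rw [pp_eq e.hyp hL' (hQ.cj p), h1, pp_eq e.hyp hL hR]
  out := by
    rintro Q ⟨K, hK, hQ⟩ R ⟨L, hL, hR⟩ hQR
    rw [pp_eq e.hyp hK hQ, pp_eq e.hyp hL hR] at hQR
    rw [pp_eq e.hyp hL hR, e.zz_of_syl hK.1 hQ]
    have hKc := mem_cov_of_le hK.1 (e.le hK)
    refine mem_pre.2 ⟨e.zz_mem hK, px_comm hKc (mem_cov_of_le hL.1 (e.le hL)) hQR (tr_le_px ?_)⟩
    have h1 := zz_tr e.hyp h hKc
    rw [← h1]
    exact (hyp_fam e.hyp h M).zz_mem (tr_mem hKc)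
  nt := by
    rintro Q ⟨K, hK, hQ⟩ h1
    rw [pp_eq e.hyp hK hQ, e.zz_of_syl hK.1 hQ] at h1
    obtain ⟨hzM, h1⟩ := mem_pre.1 h1
    refine sc h e c cc hM hB h74 ht hzM (e.hyp.zz_mul hK.1) (e.hyp.zz_ne hK.1) ?_
    intro L hL
    have hKc := mem_cov_of_le hK.1 (e.le hK)
    by_cases hne : px Om M K = px Om M L
    · rw [← hne]; exact h1
    · refine px_comm hKc (mem_cov_of_le hL.1 (e.le hL)) hne (tr_le_px ?_)
      have h1 := zz_tr e.hyp h hKc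
      rw [← h1]
      exact (hyp_fam e.hyp h M).zz_mem (tr_mem hKc)
  cc := by
    rintro Q ⟨K, hK, hQ⟩ f hfC hfM hf hf1
    rw [pp_eq e.hyp hK hQ] at hfC
    obtain ⟨hfM, hfC⟩ := mem_pre.1 hfC
    exact cent_le_of_comm h e c cc hK hfM hf hf1 ((centralizer_le tr_le_px) hfC)

end

/-! ### The theorem -/

section

universe u

open scoped commutatorElement

variable {G : Type u} [Group G] [Finite G] {Om : Set (Subgroup G)} {M K L : Subgroup G}

/-- a simple group with a member is perfect -/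
theorem commutator_eq_top (ms : MinS Om) : commutator G = ⊤ := by
  haveI := ms.simple
  rcases IsSimpleGroup.eq_bot_or_eq_top_of_normal (commutator G) inferInstance with h1 | h1
  · exfalso
    obtain ⟨K, hK⟩ := ms.ne
    obtain ⟨Q, hQ⟩ := Hyp.exists_syl K
    obtain ⟨c, v, n, hq⟩ := ms.hyp.exists_gq hK hQ
    have h2 : ⁅c, v⁆ ∈ commutator G := commutator_mem_commutator (mem_top c) (mem_top v)
    rw [h1, mem_bot, commutatorElement_eq_one_iff_mul_comm] at h2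
    exact hq.not_comm h2.symm
  · exact h1

/-- **`M / O(M)` has only one piece** -/
theorem px_eq (ms : MinS Om) (e : Emb Om M) (c : Clo M (QQ Om M)) (cc : CC M (QQ Om M))
    (hM : M ≠ ⊤) (hB : CloEnd.Bend G) (h74 : CloEnd.Crit1174 G) (h75 : CloEnd.Crit1175 G)
    (hK : K ∈ OmS Om M) (hL : L ∈ OmS Om M) : px Om M K = px Om M L := by
  by_contra hne
  have h := ms.isType
  have ht := two_of_ne h e c hK hL hne
  obtain ⟨Q, hQ⟩ := Hyp.exists_syl K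
  obtain ⟨R, hR⟩ := Hyp.exists_syl L
  refine (pcs h ms.cls e c cc hM hB h74 ht).false_of_pieces c hM (commutator_eq_top ms) hB h75
    ⟨Q, ⟨K, hK, hQ⟩, R, ⟨L, hL, hR⟩, ?_⟩
  rw [pp_eq e.hyp hK hQ, pp_eq e.hyp hL hR]
  exact hne

end

end Cfsg.Agent.Cit.CloPcs
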