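import Cfsg.Agent.Cit.Swap
import Cfsg.Agent.Cit.AutOneOf
import Cfsg.Agent.Cit.CorTwo
import Cfsg.Agent.Cit.CloH2

/-!
# The swap when the involution `y` has several members

`K ≠ K' = y K y⁻¹` in `Om(S)`, `y * y = 1`, `K` generated by elements of odd order. `odc H` is the subgroup
generated by the elements of odd order of `H`; `U = odc (C(y) ⊓ (A ⊔ A'))`, `A = K ⊓ C(zz K')`, `A' = K' ⊓ C(zz K)`.

* `swap_odc`: `x * (y * x * y⁻¹) ∈ ⁅U, U⁆` for `x ∈ K ⊓ S`;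
* `triv_of_le`, `mem_cov_of_le`: if `U ≤ N(J)`, then `zz K * zz K'` is trivial on `J / O(J)`;
* `sw`: `CloH2.Sw Om`, if every involution has one, two or four members (or none).
-/

set_option autoImplicit false
set_option linter.style.haveILetI false
set_option linter.unusedSectionVars false

namespace Cfsg.Agent.Cit.CloSw

open Subgroup Cfsg OneBasic
open scoped commutatorElement

variable {G : Type*} [Group G]

/-- the subgroup generated by the elements of odd order -/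
def odc (H : Subgroup G) : Subgroup G := closure {u | u ∈ H ∧ Odd (orderOf u)}

theorem odc_le {H : Subgroup G} : odc H ≤ H := (closure_le _).2 fun _ h => h.1

theorem mem_odc {H : Subgroup G} {u : G} (hu : u ∈ H) (h : Odd (orderOf u)) : u ∈ odc H :=
  subset_closure ⟨hu, h⟩

theorem odc_mono {H L : Subgroup G} (h : H ≤ L) : odc H ≤ odc L :=
  closure_mono fun _ hu => ⟨h hu.1, hu.2⟩

/-- Let `N` be a subgroup of odd order normalised by `A` and `y`, `y * y = 1`, such that `A` and `y A y⁻¹` commute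
modulo `N`, `A` generated by elements of odd order, `N ≤ P`, `A ≤ P`, `y A y⁻¹ ≤ P`. Then for a 2-element `x` of
`A` commuting with `y * x * y⁻¹` the product `x * (y * x * y⁻¹)` is in `⁅U, U⁆`, `U = odc (C(y) ⊓ P)`. -/
theorem swap_abs_odc [Finite G] {A N P : Subgroup G} {y : G} (hy : y * y = 1) (hN : ¬ 2 ∣ Nat.card N)
    (hAN : A ≤ normalizer (N : Set G)) (hyN : y ∈ normalizer (N : Set G))
    (hc : ∀ a ∈ A, ∀ b ∈ A, ⁅a, y * b * y⁻¹⁆ ∈ N) (hA : TyTwo A) (hNP : N ≤ P) (hAP : A ≤ P)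
    (hAP' : ∀ a ∈ A, y * a * y⁻¹ ∈ P) {x : G} (hx : x ∈ A) (hx2 : ∃ k : ℕ, x ^ 2 ^ k = 1)
    (hxy : x * (y * x * y⁻¹) = (y * x * y⁻¹) * x) :
    x * (y * x * y⁻¹) ∈ ⁅odc (centralizer {y} ⊓ P), odc (centralizer {y} ⊓ P)⁆ := by
  have hyi : y⁻¹ = y := inv_eq_of_mul_eq_one_right hy
  set U := odc (centralizer {y} ⊓ P) with hU
  have hNn : ∀ {g n : G}, g ∈ normalizer (N : Set G) → n ∈ N → g * n * g⁻¹ ∈ N := fun hg hn =>
    (mem_normalizer_iff.1 hg _).1 hn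
  have hNn' : ∀ {g n : G}, g ∈ normalizer (N : Set G) → n ∈ N → g⁻¹ * n * g ∈ N := fun {g n} hg hn => by
    have := hNn (inv_mem hg) hn
    rwa [inv_inv] at this
  have hAy : ∀ a ∈ A, y * a * y⁻¹ ∈ normalizer (N : Set G) := fun a ha =>
    mul_mem (mul_mem hyN (hAN ha)) (inv_mem hyN)
  have hNodd : ∀ n ∈ N, Odd (orderOf n) := by
    intro n hn
    have h1 := orderOf_dvd_natCard (⟨n, hn⟩ : N)
    rw [orderOf_mk] at h1
    refine Odd.of_dvd_nat ?_ h1
    rwa [← Nat.not_even_iff_odd, even_iff_two_dvd]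
  -- the relation `u ∈ a (y a y⁻¹) N`
  let R : G → G → Prop := fun a u => (a * (y * a * y⁻¹))⁻¹ * u ∈ N
  have hRex0 : ∀ a ∈ A, ∃ u ∈ centralizer {y}, R a u := by
    intro a ha
    obtain ⟨n, hn, hn2⟩ := exists_fixed_coset hN (g := a * (y * a * y⁻¹)) hy hyN (by
      have h1 : (a * (y * a * y⁻¹))⁻¹ * (y * (a * (y * a * y⁻¹)) * y⁻¹) =
          (y * a * y⁻¹)⁻¹ * a⁻¹ * (y * a * y⁻¹) * a := by
        calc (a * (y * a * y⁻¹))⁻¹ * (y * (a * (y * a * y⁻¹)) * y⁻¹)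
            = (y * a * y⁻¹)⁻¹ * a⁻¹ * (y * a * y⁻¹) * ((y * y) * a * (y⁻¹ * y⁻¹)) := by group
          _ = (y * a * y⁻¹)⁻¹ * a⁻¹ * (y * a * y⁻¹) * a := by
            rw [hy, hyi, hy]; group
      rw [h1]
      have h2 := hc a⁻¹ (inv_mem ha) a⁻¹ (inv_mem ha)
      have h3 : (y * a * y⁻¹)⁻¹ * a⁻¹ * (y * a * y⁻¹) * a = (⁅a⁻¹, y * a⁻¹ * y⁻¹⁆)⁻¹ := by
        rw [commutatorElement_def]; group
      rw [h3]
      exact inv_mem h2)
    refine ⟨a * (y * a * y⁻¹) * n, ?_, ?_⟩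
    · rw [mem_centralizer_singleton_iff]; exact hn2.symm
    · show (a * (y * a * y⁻¹))⁻¹ * (a * (y * a * y⁻¹) * n) ∈ N
      rw [inv_mul_cancel_left]; exact hn
  have hRmul : ∀ {a b u v : G}, a ∈ A → b ∈ A → R a u → R b v → R (a * b) (u * v) := by
    intro a b u v ha hb hu hv
    show (a * b * (y * (a * b) * y⁻¹))⁻¹ * (u * v) ∈ N
    have hu' : (a * (y * a * y⁻¹))⁻¹ * u ∈ N := hu
    have hv' : (b * (y * b * y⁻¹))⁻¹ * v ∈ N := hv
    set n := (a * (y * a * y⁻¹))⁻¹ * u with hn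
    set m := (b * (y * b * y⁻¹))⁻¹ * v with hm
    have e1 : u = a * (y * a * y⁻¹) * n := by rw [hn]; group
    have e2 : v = b * (y * b * y⁻¹) * m := by rw [hm]; group
    set a' := y * a * y⁻¹ with ha'
    set b' := y * b * y⁻¹ with hb'
    have e3 : y * (a * b) * y⁻¹ = a' * b' := by rw [ha', hb']; group
    rw [e3, e1, e2]
    have e4 : (a * b * (a' * b'))⁻¹ * (a * a' * n * (b * b' * m)) =
        (b'⁻¹ * (a'⁻¹ * b⁻¹ * a' * b) * b') * ((b * b')⁻¹ * n * (b * b')) * m := by group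
    rw [e4]
    have hb'N : b' ∈ normalizer (N : Set G) := hAy b hb
    refine N.mul_mem (N.mul_mem (hNn' hb'N ?_) (hNn' (mul_mem (hAN hb) hb'N) hu')) hv'
    have h5 := hc b⁻¹ (inv_mem hb) a⁻¹ (inv_mem ha)
    have h6 : a'⁻¹ * b⁻¹ * a' * b = (⁅b⁻¹, y * a⁻¹ * y⁻¹⁆)⁻¹ := by
      rw [commutatorElement_def, ha']; group
    rw [h6]
    exact inv_mem h5
  have hRone : ∀ {u : G}, R 1 u ↔ u ∈ N := by
    intro u
    have h4 : (1 * (y * 1 * y⁻¹))⁻¹ * u = u := by group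
    show (1 * (y * 1 * y⁻¹))⁻¹ * u ∈ N ↔ u ∈ N
    rw [h4]
  have hRpow : ∀ {a u : G}, a ∈ A → R a u → ∀ k : ℕ, R (a ^ k) (u ^ k) := by
    intro a u ha hu k
    induction k with
    | zero => rw [pow_zero, pow_zero]; exact hRone.2 N.one_mem
    | succ k ih =>
      rw [pow_succ, pow_succ]
      exact hRmul (A.pow_mem ha k) ha ih hu
  -- lifts of elements of odd order have odd order
  have hRodd : ∀ {a u : G}, a ∈ A → R a u → Odd (orderOf a) → Odd (orderOf u) := by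
    intro a u ha hu ho
    have h1 := hRpow ha hu (orderOf a)
    rw [pow_orderOf_eq_one, hRone] at h1
    have h2 : orderOf u ∣ orderOf a * orderOf (u ^ orderOf a) := by
      apply orderOf_dvd_of_pow_eq_one
      rw [pow_mul, pow_orderOf_eq_one]
    exact Odd.of_dvd_nat (ho.mul (hNodd _ h1)) h2
  have hRP : ∀ {a u : G}, a ∈ A → R a u → u ∈ P := by
    intro a u ha hu
    have h1 : u = a * (y * a * y⁻¹) * ((a * (y * a * y⁻¹))⁻¹ * u) := by group
    rw [h1]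
    exact P.mul_mem (P.mul_mem (hAP ha) (hAP' a ha)) (hNP hu)
  have hRinv : ∀ {a u : G}, a ∈ A → R a u → R a⁻¹ u⁻¹ := by
    intro a u ha hu
    -- `R 1 (u * v)` with `v` a lift of `a⁻¹`
    obtain ⟨v, -, hv⟩ := hRex0 a⁻¹ (inv_mem ha)
    have h1 : R 1 (u * v) := by
      have := hRmul ha (inv_mem ha) hu hv
      rwa [mul_inv_cancel] at this
    have h2 : u * v ∈ N := hRone.1 h1
    show (a⁻¹ * (y * a⁻¹ * y⁻¹))⁻¹ * u⁻¹ ∈ N
    have h5 : (a⁻¹ * (y * a⁻¹ * y⁻¹))⁻¹ * u⁻¹ =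
        ((a⁻¹ * (y * a⁻¹ * y⁻¹))⁻¹ * v) * (u * v)⁻¹ := by group
    rw [h5]
    exact N.mul_mem hv (inv_mem h2)
  -- lifts in `U`
  have hRex : ∀ a ∈ A, ∃ u ∈ U, R a u := by
    intro a ha
    have haA := ha
    have hle : closure {c | c ∈ A ∧ Odd (orderOf c)} ≤ A := (closure_le _).2 fun c hc => hc.1
    have ha' : a ∈ closure {c | c ∈ A ∧ Odd (orderOf c)} := hA ha
    clear haA ha
    induction ha' using Subgroup.closure_induction with
    | mem c hc =>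
      obtain ⟨u, hu, hcu⟩ := hRex0 c hc.1
      exact ⟨u, mem_odc ⟨hu, hRP hc.1 hcu⟩ (hRodd hc.1 hcu hc.2), hcu⟩
    | one => exact ⟨1, one_mem _, hRone.2 N.one_mem⟩
    | mul a b ha hb iha ihb =>
      obtain ⟨u, hu, hau⟩ := iha
      obtain ⟨v, hv, hbv⟩ := ihb
      exact ⟨u * v, mul_mem hu hv, hRmul (hle ha) (hle hb) hau hbv⟩
    | inv a ha iha =>
      obtain ⟨u, hu, hau⟩ := iha
      exact ⟨u⁻¹, inv_mem hu, hRinv (hle ha) hau⟩
  -- commutators
  have key : ∀ x ∈ ⁅A, A⁆, ∃ u ∈ ⁅U, U⁆, R x u := by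
    intro x hx
    have hle : ⁅A, A⁆ ≤ A := commutator_le_self A
    rw [Subgroup.commutator_def] at hx
    induction hx using Subgroup.closure_induction with
    | mem x hx =>
      obtain ⟨a, ha, b, hb, rfl⟩ := hx
      obtain ⟨u, hu, hau⟩ := hRex a ha
      obtain ⟨v, hv, hbv⟩ := hRex b hb
      refine ⟨⁅u, v⁆, commutator_mem_commutator hu hv, ?_⟩
      rw [commutatorElement_def, commutatorElement_def]
      exact hRmul (mul_mem (mul_mem ha hb) (inv_mem ha)) (inv_mem hb)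
        (hRmul (mul_mem ha hb) (inv_mem ha) (hRmul ha hb hau hbv) (hRinv ha hau)) (hRinv hb hbv)
    | one => exact ⟨1, one_mem _, hRone.2 N.one_mem⟩
    | mul a b ha hb iha ihb =>
      obtain ⟨u, hu, hau⟩ := iha
      obtain ⟨v, hv, hbv⟩ := ihb
      refine ⟨u * v, mul_mem hu hv, hRmul (hle ?_) (hle ?_) hau hbv⟩
      · rw [Subgroup.commutator_def]; exact ha
      · rw [Subgroup.commutator_def]; exact hb
    | inv a ha iha =>
      obtain ⟨u, hu, hau⟩ := iha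
      refine ⟨u⁻¹, inv_mem hu, hRinv (hle ?_) hau⟩
      rw [Subgroup.commutator_def]; exact ha
  obtain ⟨u, hu, hxu⟩ := key x (hA.mem_commutator hx hx2)
  have hxu' : (x * (y * x * y⁻¹))⁻¹ * u ∈ N := hxu
  have hwC : x * (y * x * y⁻¹) ∈ centralizer {y} := by
    rw [mem_centralizer_singleton_iff]
    have e1 : x * (y * x * y⁻¹) * y = (x * (y * x * y⁻¹)) * y⁻¹ := by rw [hyi]
    calc x * (y * x * y⁻¹) * y = (x * (y * x * y⁻¹)) * y⁻¹ := e1
      _ = ((y * x * y⁻¹) * x) * y⁻¹ := by rw [hxy]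
      _ = y * (x * (y⁻¹ * x * y⁻¹)) := by group
      _ = y * (x * (y * x * y⁻¹)) := by rw [hyi]
  set w := x * (y * x * y⁻¹) with hw
  have huU : u ∈ U := commutator_le_self _ hu
  have hnC : w⁻¹ * u ∈ centralizer {y} := mul_mem (inv_mem hwC) (odc_le huU).1
  have hnU : w⁻¹ * u ∈ U := mem_odc ⟨hnC, hNP hxu'⟩ (hNodd _ hxu')
  have hwU : w ∈ U := by
    have h1 : w = u * (w⁻¹ * u)⁻¹ := by group
    rw [h1]
    exact U.mul_mem huU (U.inv_mem hnU)
  apply mem_commutator_of_mul_odd hwU hnU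
  · obtain ⟨k, hk⟩ := hx2
    refine ⟨k, ?_⟩
    have h1 : Commute x (y * x * y⁻¹) := hxy
    rw [hw, h1.mul_pow, hk, one_mul]
    have h2 : (y * x * y⁻¹) ^ 2 ^ k = y * x ^ 2 ^ k * y⁻¹ := conj_pow
    rw [h2, hk]; group
  · exact hNodd _ hxu'
  · rw [mul_inv_cancel_left]
    exact hu

/-! ### The swap in `Om(S)` -/

/-- `U` of the head of the file -/
def UU (y : G) (K : Subgroup G) : Subgroup G :=
  odc (centralizer {y} ⊓ ((K ⊓ centralizer {zz (cj y K)}) ⊔ cj y (K ⊓ centralizer {zz (cj y K)})))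

theorem swap_odc [Finite G] {Om : Set (Subgroup G)} (h : Hyp Om) {S K : Subgroup G} (hS : IsPGroup 2 S)
    (hK : K ∈ OmS Om S) (hT : TyTwo K) {y : G} (hy : y * y = 1) (hK' : cj y K ∈ OmS Om S) (hne : cj y K ≠ K)
    {x : G} (hx : x ∈ K ⊓ S) (hxy : y * x * y⁻¹ ∈ S) :
    x * (y * x * y⁻¹) ∈ ⁅UU y K, UU y K⁆ := by
  have hyi : y⁻¹ = y := inv_eq_of_mul_eq_one_right hy
  rw [UU]
  set K' := cj y K with hKd
  have hyK' : cj y K' = K := by
    rw [hKd, ← cj_mul, hy, cj_one]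
  set A := K ⊓ centralizer {zz K'} with hA
  set A' := K' ⊓ centralizer {zz K} with hA'
  have hz : y * zz K * y⁻¹ = zz K' := (h.zz_cj hK.1 y).symm
  have hz' : y * zz K' * y⁻¹ = zz K := by rw [← h.zz_cj hK'.1, hyK']
  have hAA : cj y A = A' := by
    rw [hA, hA', cj_inf, cj_centralizer, hz']
  have hAA' : cj y A' = A := by
    rw [← hAA, ← cj_mul, hy, cj_one]
  have hcom := PairComm.commutator_inf_le h hS hK hK' hne.symm
  rw [← hA, ← hA'] at hcom
  have hAn : A ≤ normalizer (A' : Set G) := by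
    intro a ha
    have h1 : a ∈ normalizer (K' : Set G) :=
      PairComm.inf_centralizer_le_normalizer h hS hK hK' hne.symm ha
    have h2 : a ∈ centralizer {zz K} := h.le_centralizer hK.1 ha.1
    rw [mem_normalizer_iff_cj] at h1 ⊢
    rw [hA', cj_inf, h1, mem_normalizer_iff_cj.1 (le_normalizer h2)]
  -- normalisers of characteristic subgroups
  have hOOn : ∀ {B : Subgroup G} {g : G}, g ∈ normalizer (B : Set G) → g ∈ normalizer (OO B : Set G) := by
    intro B g hg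
    rw [mem_normalizer_iff_cj] at hg ⊢
    rw [← OO_cj, hg]
  set N := OO A ⊓ OO A' with hN
  have hAN : A ≤ normalizer (N : Set G) := by
    intro a ha
    rw [mem_normalizer_iff_cj, hN, cj_inf, mem_normalizer_iff_cj.1 (hOOn (le_normalizer ha)),
      mem_normalizer_iff_cj.1 (hOOn (hAn ha))]
  have hyN : y ∈ normalizer (N : Set G) := by
    rw [mem_normalizer_iff_cj, hN, cj_inf, ← OO_cj, ← OO_cj, hAA, hAA', inf_comm]
  have hNo : ¬ 2 ∣ Nat.card N := fun h2 => odd_OO A (h2.trans (card_dvd_of_le inf_le_left))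
  have hcov : K ∈ SubCent.cov Om (centralizer {zz K'}) := PairComm.mem_cov h hS hK hK' hne.symm
  have hTA : TyTwo A := hT.inf_of_cov hcov
  have hxA : x ∈ A := by
    exact ⟨hx.1, mem_centralizer_singleton_iff.2 (h.comm hS hK hK' hne.symm hx (h.zz_mem_inf hS hK'))⟩
  have hx2 : ∃ k : ℕ, x ^ 2 ^ k = 1 := by
    obtain ⟨k, hk⟩ := hS ⟨x, hx.2⟩
    exact ⟨k, congrArg Subtype.val hk⟩
  refine swap_abs_odc hy hNo hAN hyN ?_ hTA ((inf_le_left.trans (OO_le A)).trans le_sup_left) le_sup_left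
    (fun a ha => mem_sup_right (conj_mem_cj ha)) hxA hx2 ?_
  · intro a ha b hb
    apply hcom
    apply commutator_mem_commutator ha
    rw [← hAA]
    exact conj_mem_cj hb
  · exact h.comm hS hK hK' hne.symm hx ⟨conj_mem_cj hx.1, hxy⟩

/-- **the swap**: if `U ≤ N(J)`, then `zz K * zz (y K y⁻¹)` is trivial on `J / O(J)` -/
theorem triv_of_le [Finite G] {Om : Set (Subgroup G)} (h : Hyp Om) {S K J : Subgroup G} (hS : IsPGroup 2 S)
    (hK : K ∈ OmS Om S) (hT : TyTwo K) {y : G} (hy : y * y = 1) (hyS : y ∈ S) (hne : cj y K ≠ K)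
    (hUJ : UU y K ≤ normalizer (J : Set G)) (hJ : IsType J) : AutAct.Triv (zz K * zz (cj y K)) J := by
  have hK' : cj y K ∈ OmS Om S := cj_mem_OmS' h.conj (le_normalizer hyS) hK
  obtain ⟨x, hx, v, hv, hxx, hvv, hxv⟩ := h.exists_pair hK.1 (syl_inf hS hK)
  have hS' : ∀ x ∈ S, y * x * y⁻¹ ∈ S := fun x hx => S.mul_mem (S.mul_mem hyS hx) (S.inv_mem hyS)
  have hcomm : ∀ a ∈ K ⊓ S, ∀ b ∈ K ⊓ S, a * (y * b * y⁻¹) = (y * b * y⁻¹) * a := fun a ha b hb =>
    h.comm hS hK hK' hne.symm ha ⟨conj_mem_cj hb.1, hS' b hb.2⟩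
  have hX := swap_odc h hS hK hT hy hK' hne hx (hS' x hx.2)
  have hV := swap_odc h hS hK hT hy hK' hne hv (hS' v hv.2)
  have hz : zz (cj y K) = y * zz K * y⁻¹ := h.zz_cj hK.1 y
  have e1 : x * (y * x * y⁻¹) * (x * (y * x * y⁻¹)) = zz K * zz (cj y K) := by
    calc x * (y * x * y⁻¹) * (x * (y * x * y⁻¹)) = x * ((y * x * y⁻¹) * x) * (y * x * y⁻¹) := by group
      _ = x * (x * (y * x * y⁻¹)) * (y * x * y⁻¹) := by rw [hcomm x hx x hx]
      _ = (x * x) * (y * (x * x) * y⁻¹) := by group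
      _ = zz K * zz (cj y K) := by rw [hxx, hz]
  have e2 : v * (y * v * y⁻¹) * (v * (y * v * y⁻¹)) = zz K * zz (cj y K) := by
    calc v * (y * v * y⁻¹) * (v * (y * v * y⁻¹)) = v * ((y * v * y⁻¹) * v) * (y * v * y⁻¹) := by group
      _ = v * (v * (y * v * y⁻¹)) * (y * v * y⁻¹) := by rw [hcomm v hv v hv]
      _ = (v * v) * (y * (v * v) * y⁻¹) := by group
      _ = zz K * zz (cj y K) := by rw [hvv, hz]
  have e3 : x * (y * x * y⁻¹) * (v * (y * v * y⁻¹)) * (x * (y * x * y⁻¹))⁻¹ = (v * (y * v * y⁻¹))⁻¹ := by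
    calc x * (y * x * y⁻¹) * (v * (y * v * y⁻¹)) * (x * (y * x * y⁻¹))⁻¹
        = x * ((y * x * y⁻¹) * v) * ((y * v * y⁻¹) * (y * x⁻¹ * y⁻¹)) * x⁻¹ := by group
      _ = x * (v * (y * x * y⁻¹)) * ((y * v * y⁻¹) * (y * x⁻¹ * y⁻¹)) * x⁻¹ := by rw [hcomm v hv x hx]
      _ = x * v * ((y * (x * v * x⁻¹) * y⁻¹) * x⁻¹) := by group
      _ = x * v * ((y * v⁻¹ * y⁻¹) * x⁻¹) := by rw [hxv]
      _ = x * v * (x⁻¹ * (y * v⁻¹ * y⁻¹)) := by rw [hcomm x⁻¹ (inv_mem hx) v⁻¹ (inv_mem hv)]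
      _ = (x * v * x⁻¹) * (y * v⁻¹ * y⁻¹) := by group
      _ = v⁻¹ * (y * v⁻¹ * y⁻¹) := by rw [hxv]
      _ = (y * v⁻¹ * y⁻¹) * v⁻¹ := hcomm v⁻¹ (inv_mem hv) v⁻¹ (inv_mem hv)
      _ = (v * (y * v * y⁻¹))⁻¹ := by group
  have h1 := AutAct.triv_of_comm hJ hUJ hX hV (e1.trans e2.symm) e3
  rwa [e1] at h1

/-- an involution trivial on `J / O(J)` -/
theorem mem_cov_of_triv [Finite G] {Om : Set (Subgroup G)} {J : Subgroup G} (hJ : J ∈ Om) {a : G}
    (ha : a * a = 1) (hT : AutAct.Triv a J) : J ∈ SubCent.cov Om (centralizer {a}) := by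
  have hz : ∀ x ∈ zpowers a, x = 1 ∨ x = a := by
    rintro x ⟨i, rfl⟩
    rcases Int.even_or_odd' i with ⟨j, hj | hj⟩
    · left
      show a ^ i = 1
      rw [hj, zpow_mul, zpow_two, ha, one_zpow]
    · right
      show a ^ i = a
      rw [hj, zpow_add, zpow_mul, zpow_two, ha, one_zpow, one_mul, zpow_one]
  have hp : IsPGroup 2 (zpowers a) := by
    rintro ⟨x, hx⟩
    refine ⟨1, Subtype.ext ?_⟩
    show x ^ 2 ^ 1 = 1
    rw [pow_one, pow_two]
    rcases hz x hx with rfl | rfl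
    · rw [mul_one]
    · exact ha
  rw [← PairComm.centralizer_zpowers]
  refine SubCent.cov_of_comm hJ hp ?_
  rw [Subgroup.commutator_le]
  intro k hk x hx
  rcases hz x hx with rfl | rfl
  · rw [commutatorElement_one_right]; exact one_mem _
  · have h1 := inv_mem (hT k hk)
    convert h1 using 1
    rw [commutatorElement_def]; group

theorem mem_cov_of_le [Finite G] {Om : Set (Subgroup G)} (h : Hyp Om) {S K J : Subgroup G} (hS : IsPGroup 2 S)
    (hK : K ∈ OmS Om S) (hT : TyTwo K) {y : G} (hy : y * y = 1) (hyS : y ∈ S) (hne : cj y K ≠ K)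
    (hUJ : UU y K ≤ normalizer (J : Set G)) (hJO : J ∈ Om) (hJ : IsType J) :
    J ∈ SubCent.cov Om (centralizer {zz K * zz (cj y K)}) := by
  have hK' : cj y K ∈ OmS Om S := cj_mem_OmS' h.conj (le_normalizer hyS) hK
  refine mem_cov_of_triv hJO ?_ (triv_of_le h hS hK hT hy hyS hne hUJ hJ)
  have h1 : zz K * zz (cj y K) = zz (cj y K) * zz K :=
    h.comm hS hK hK' hne.symm (h.zz_mem_inf hS hK) (h.zz_mem_inf hS hK')
  calc zz K * zz (cj y K) * (zz K * zz (cj y K)) = zz K * (zz (cj y K) * zz K) * zz (cj y K) := by group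
    _ = (zz K * zz K) * (zz (cj y K) * zz (cj y K)) := by rw [← h1]; group
    _ = 1 := by rw [h.zz_mul hK.1, h.zz_mul hK'.1, one_mul]

/-! ### Subgroups of odd order acting on at most four members -/

/-- orbits of subgroups of odd order have odd length -/
theorem odd_orbit [Finite G] {N : Subgroup G} (hN : ¬ 2 ∣ Nat.card N) (J : Subgroup G) :
    Odd ({L | ∃ n ∈ N, cj n J = L} : Set (Subgroup G)).ncard := by
  letI : MulAction G (Subgroup G) :=
    { smul := fun g K => cj g K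
      one_smul := fun K => cj_one K
      mul_smul := fun g h K => cj_mul g h K }
  have h1 : ({L | ∃ n ∈ N, cj n J = L} : Set (Subgroup G)) = MulAction.orbit N J := by
    ext L
    constructor
    · rintro ⟨n, hn, rfl⟩
      exact ⟨⟨n, hn⟩, rfl⟩
    · rintro ⟨n, rfl⟩
      exact ⟨n, n.2, rfl⟩
  rw [h1, ← MulAction.index_stabilizer]
  refine Odd.of_dvd_nat ?_ (index_dvd_card _)
  rwa [← Nat.not_even_iff_odd, even_iff_two_dvd]

/-- a subgroup of odd order acting nontrivially on `X`, `|X| ≤ 4`, `|X| ≠ 3`, has a unique fixed point -/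
theorem exists_unique_fixed [Finite G] {N : Subgroup G} (hN : ¬ 2 ∣ Nat.card N) {X : Set (Subgroup G)}
    (h4 : X.ncard ≤ 4) (h3 : X.ncard ≠ 3) (hX : ∀ n ∈ N, ∀ L ∈ X, cj n L ∈ X) {J : Subgroup G} (hJ : J ∈ X)
    (hJN : ¬ N ≤ normalizer (J : Set G)) :
    ∃ J₀ ∈ X, N ≤ normalizer (J₀ : Set G) ∧ ∀ J₁ ∈ X, N ≤ normalizer (J₁ : Set G) → J₁ = J₀ := by
  classical
  set o : Set (Subgroup G) := {L | ∃ n ∈ N, cj n J = L} with ho
  have hodd : Odd o.ncard := odd_orbit hN J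
  have hoX : o ⊆ X := by
    rintro L ⟨n, hn, rfl⟩
    exact hX n hn J hJ
  have hJo : J ∈ o := ⟨1, N.one_mem, cj_one J⟩
  have h1 : o.ncard ≠ 1 := by
    intro h1
    obtain ⟨J', hJ'⟩ := Set.ncard_eq_one.1 h1
    apply hJN
    intro n hn
    have h5 : cj n J ∈ o := ⟨n, hn, rfl⟩
    rw [hJ', Set.mem_singleton_iff] at h5 hJo
    rw [mem_normalizer_iff_cj, h5, hJo]
  have hle : o.ncard ≤ X.ncard := Set.ncard_le_ncard hoX (Set.toFinite X)
  obtain ⟨k, hk⟩ := hodd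
  have ho3 : o.ncard = 3 := by omega
  have hX4 : X.ncard = 4 := by omega
  have hdiff : (X \ o).ncard = 1 := by
    rw [Set.ncard_sdiff hoX (Set.toFinite o)]
    omega
  obtain ⟨J₀, hJ₀⟩ := Set.ncard_eq_one.1 hdiff
  have hJ₀m : J₀ ∈ X \ o := by rw [hJ₀]; exact Set.mem_singleton _
  have hback : ∀ n ∈ N, ∀ L : Subgroup G, cj n L ∈ o → L ∈ o := by
    rintro n hn L ⟨m, hm, hmL⟩
    refine ⟨n⁻¹ * m, N.mul_mem (N.inv_mem hn) hm, ?_⟩
    rw [cj_mul, hmL, cj_inv_cj]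
  refine ⟨J₀, hJ₀m.1, fun n hn => ?_, fun J₁ hJ₁ hN₁ => ?_⟩
  · have h5 : cj n J₀ ∈ X \ o := ⟨hX n hn _ hJ₀m.1, fun h6 => hJ₀m.2 (hback n hn _ h6)⟩
    rw [hJ₀, Set.mem_singleton_iff] at h5
    rw [mem_normalizer_iff_cj, h5]
  · have h5 : J₁ ∈ X \ o := by
      refine ⟨hJ₁, ?_⟩
      rintro ⟨n, hn, hnJ⟩
      have h6 : J = J₁ := by
        have h7 := mem_normalizer_iff_cj.1 (hN₁ (N.inv_mem hn))
        rw [← hnJ, cj_inv_cj, hnJ] at h7
        exact h7
      exact hJN (h6 ▸ hN₁)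
    rw [hJ₀, Set.mem_singleton_iff] at h5
    exact h5

/-- `U` has no fixed point on `X`, `|X| ≤ 4`, `|X| ≠ 3`, `v` has odd order and `[u, v] ∈ N` for `u ∈ U`, `N` a subgroup
of odd order normalised by `U`: then `v` fixes `X` pointwise -/
theorem fix_of_comm [Finite G] {N U : Subgroup G} (hN : ¬ 2 ∣ Nat.card N) {X : Set (Subgroup G)}
    (h4 : X.ncard ≤ 4) (h3 : X.ncard ≠ 3) (hX : ∀ n ∈ N, ∀ L ∈ X, cj n L ∈ X) (hXU : ∀ u ∈ U, ∀ L ∈ X, cj u L ∈ X)
    (hUN : U ≤ normalizer (N : Set G)) {v : G} (hv : Odd (orderOf v)) (hXv : ∀ L ∈ X, cj v L ∈ X)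
    (hc : ∀ u ∈ U, u * v * u⁻¹ * v⁻¹ ∈ N) (hU : ∀ J ∈ X, ¬ U ≤ normalizer (J : Set G)) :
    ∀ J ∈ X, v ∈ normalizer (J : Set G) := by
  -- `N` is trivial on `X`
  have h1 : ∀ J ∈ X, N ≤ normalizer (J : Set G) := by
    by_contra hcon
    push Not at hcon
    obtain ⟨J, hJ, hJN⟩ := hcon
    obtain ⟨J₀, hJ₀, hf, hun⟩ := exists_unique_fixed hN h4 h3 hX hJ hJN
    apply hU J₀ hJ₀
    intro u hu
    rw [mem_normalizer_iff_cj]
    apply hun _ (hXU u hu _ hJ₀)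
    intro n hn
    rw [mem_normalizer_iff_cj, ← cj_mul]
    have h5 : u⁻¹ * n * u ∈ N := by
      have := (mem_normalizer_iff.1 (inv_mem (hUN hu)) n).1 hn
      rwa [inv_inv] at this
    have h6 : n * u = u * (u⁻¹ * n * u) := by group
    rw [h6, cj_mul, mem_normalizer_iff_cj.1 (hf h5)]
  by_contra hcon
  push Not at hcon
  obtain ⟨J, hJ, hJv⟩ := hcon
  have hZ : ¬ 2 ∣ Nat.card (zpowers v) := by
    rw [Nat.card_zpowers]
    intro h5
    rw [← Nat.not_even_iff_odd, even_iff_two_dvd] at hv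
    exact hv h5
  have hXz : ∀ n ∈ zpowers v, ∀ L ∈ X, cj n L ∈ X := by
    have hpow : ∀ k : ℕ, ∀ L ∈ X, cj (v ^ k) L ∈ X := by
      intro k
      induction k with
      | zero => intro L hL; rw [pow_zero, cj_one]; exact hL
      | succ k ih => intro L hL; rw [pow_succ', cj_mul]; exact hXv _ (ih L hL)
    rintro _ ⟨i, rfl⟩ L hL
    obtain ⟨k, hk⟩ := (isOfFinOrder_of_finite v).mem_powers_iff_mem_zpowers.2 (zpow_mem (mem_zpowers v) i)
    have h5 : v ^ k = v ^ i := hk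
    show cj (v ^ i) L ∈ X
    rw [← h5]
    exact hpow k L hL
  obtain ⟨J₀, hJ₀, hf, hun⟩ := exists_unique_fixed hZ h4 h3 hXz hJ (fun h5 => hJv (h5 (mem_zpowers v)))
  apply hU J₀ hJ₀
  intro u hu
  rw [mem_normalizer_iff_cj]
  apply hun _ (hXU u hu _ hJ₀)
  rw [zpowers_le, mem_normalizer_iff_cj]
  have h5 := hc u hu
  have h6 : v * u = (u * v * u⁻¹ * v⁻¹)⁻¹ * (u * v) := by group
  have h7 := mem_normalizer_iff_cj.1 (hf (mem_zpowers v))
  rw [← cj_mul, h6, cj_mul, cj_mul u v, h7]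
  exact mem_normalizer_iff_cj.1 (h1 _ (hXU u hu _ hJ₀) (inv_mem h5))

/-! ### Commuting modulo a subgroup -/

/-- the elements of `N(O)` commuting with `B` modulo `O` -/
def cmod (O B : Subgroup G) : Subgroup G where
  carrier := {g | g ∈ normalizer (O : Set G) ∧ ∀ b ∈ B, g * b * g⁻¹ * b⁻¹ ∈ O}
  one_mem' := ⟨one_mem _, fun b _ => by
    have : (1 : G) * b * 1⁻¹ * b⁻¹ = 1 := by group
    rw [this]; exact O.one_mem⟩
  mul_mem' := by
    rintro g h ⟨hg, hg'⟩ ⟨hh, hh'⟩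
    refine ⟨mul_mem hg hh, fun b hb => ?_⟩
    have h1 : g * h * b * (g * h)⁻¹ * b⁻¹ = (g * (h * b * h⁻¹ * b⁻¹) * g⁻¹) * (g * b * g⁻¹ * b⁻¹) := by group
    rw [h1]
    exact O.mul_mem ((mem_normalizer_iff.1 hg _).1 (hh' b hb)) (hg' b hb)
  inv_mem' := by
    rintro g ⟨hg, hg'⟩
    refine ⟨inv_mem hg, fun b hb => ?_⟩
    have h1 := (mem_normalizer_iff.1 (inv_mem hg) _).1 (O.inv_mem (hg' b hb))
    convert h1 using 1
    group

theorem mem_cmod {O B : Subgroup G} {g : G} :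
    g ∈ cmod O B ↔ g ∈ normalizer (O : Set G) ∧ ∀ b ∈ B, g * b * g⁻¹ * b⁻¹ ∈ O := Iff.rfl

theorem le_cmod_symm {O A B : Subgroup G} (h : A ≤ cmod O B) (hB : B ≤ normalizer (O : Set G)) : B ≤ cmod O A := by
  intro b hb
  refine ⟨hB hb, fun a ha => ?_⟩
  have h1 := O.inv_mem ((h ha).2 b hb)
  convert h1 using 1
  group

theorem le_cmod_of_commutator {O A B : Subgroup G} (hA : A ≤ normalizer (O : Set G)) (h : ⁅A, B⁆ ≤ O) :
    A ≤ cmod O B := fun a ha => ⟨hA ha, fun b hb => by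
  have h1 := h (commutator_mem_commutator ha hb)
  rwa [commutatorElement_def] at h1⟩

theorem sup_le_cmod_sup {O A A' B B' : Subgroup G} (hA : A ≤ normalizer (O : Set G)) (hA' : A' ≤ normalizer (O : Set G))
    (hB : B ≤ normalizer (O : Set G)) (hB' : B' ≤ normalizer (O : Set G)) (h1 : ⁅A, B⁆ ≤ O) (h2 : ⁅A, B'⁆ ≤ O)
    (h3 : ⁅A', B⁆ ≤ O) (h4 : ⁅A', B'⁆ ≤ O) : A ⊔ A' ≤ cmod O (B ⊔ B') := by
  have hBA : B ⊔ B' ≤ cmod O A := sup_le (le_cmod_symm (le_cmod_of_commutator hA h1) hB)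
    (le_cmod_symm (le_cmod_of_commutator hA h2) hB')
  have hBA' : B ⊔ B' ≤ cmod O A' := sup_le (le_cmod_symm (le_cmod_of_commutator hA' h3) hB)
    (le_cmod_symm (le_cmod_of_commutator hA' h4) hB')
  exact sup_le (le_cmod_symm hBA hA) (le_cmod_symm hBA' hA')

/-! ### `Sw Om` -/

theorem normalizer_le_OO {B : Subgroup G} : normalizer (B : Set G) ≤ normalizer (OO B : Set G) := by
  intro g hg
  rw [mem_normalizer_iff_cj] at hg ⊢
  rw [← OO_cj, hg]

/-- `A`, `B` commute modulo `O(A) ⊓ O(B)` -/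
def PC (A B : Subgroup G) : Prop := ⁅A, B⁆ ≤ OO A ⊓ OO B

theorem PC.symm {A B : Subgroup G} (h : PC A B) : PC B A := by
  rw [PC, commutator_comm, inf_comm]
  exact h

theorem PC.le {A B : Subgroup G} (h : PC A B) : B ≤ normalizer (OO A : Set G) :=
  (SubCent.le_normalizer_of_comm ((h.trans inf_le_left).trans (OO_le A))).trans normalizer_le_OO

theorem cj_commutator (y : G) (A B : Subgroup G) : cj y ⁅A, B⁆ = ⁅cj y A, cj y B⁆ :=
  Subgroup.map_commutator _ _ _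

theorem PC.cj {A B : Subgroup G} (h : PC A B) (y : G) : PC (Cit.cj y A) (Cit.cj y B) := by
  have h1 := cj_mono y h
  rw [cj_commutator, cj_inf, ← OO_cj, ← OO_cj] at h1
  exact h1

/-- the subgroups `L ⊓ C(zz L')`, `L' = y L y⁻¹`, of two members `K ≠ M` with the same involution -/
theorem exists_odd [Finite G] {Om : Set (Subgroup G)} (h : Hyp Om) {S K M : Subgroup G} (hS : IsPGroup 2 S)
    (hK : K ∈ OmS Om S) (hM : M ∈ OmS Om S) (hKM : K ≠ M) (hz : zz M = zz K) {y : G} (hy : y * y = 1)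
    (hyS : y ∈ S) (hne : zz (cj y K) ≠ zz K) :
    ∃ O : Subgroup G, ¬ 2 ∣ Nat.card O ∧
      (K ⊓ centralizer {zz (cj y K)}) ⊔ cj y (K ⊓ centralizer {zz (cj y K)}) ≤ cmod O
        ((M ⊓ centralizer {zz (cj y M)}) ⊔ cj y (M ⊓ centralizer {zz (cj y M)})) := by
  have hK' : cj y K ∈ OmS Om S := cj_mem_OmS' h.conj (le_normalizer hyS) hK
  have hM' : cj y M ∈ OmS Om S := cj_mem_OmS' h.conj (le_normalizer hyS) hM
  have hyK : cj y (cj y K) = K := by rw [← cj_mul, hy, cj_one]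
  have hyM : cj y (cj y M) = M := by rw [← cj_mul, hy, cj_one]
  have hzM : zz (cj y M) = zz (cj y K) := by rw [h.zz_cj hM.1, h.zz_cj hK.1, hz]
  have hzy : y * zz (cj y K) * y⁻¹ = zz K := by rw [← h.zz_cj hK'.1, hyK]
  rw [hzM]
  set z' := zz (cj y K) with hz'
  set A := K ⊓ centralizer {z'} with hA
  set B := M ⊓ centralizer {z'} with hB
  have hA' : cj y A = cj y K ⊓ centralizer {zz K} := by rw [hA, cj_inf, cj_centralizer, hzy]
  have hB' : cj y B = cj y M ⊓ centralizer {zz K} := by rw [hB, cj_inf, cj_centralizer, hzy]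
  have hKK : cj y K ≠ K := fun h1 => hne (by rw [hz', h1])
  have hKM' : cj y M ≠ K := fun h1 => hne (by rw [← hzM, h1])
  have hMK' : cj y K ≠ M := fun h1 => hne (by rw [hz', h1, hz])
  -- the pairs
  have p1 : PC A (cj y A) := by
    have h1 := PairComm.commutator_inf_le h hS hK hK' hKK.symm
    rw [hA']
    exact h1
  have p2 : PC A B := by
    have h0 : ⁅K, M⁆ ≤ OO K ⊓ OO M := (h.h2 _ hK.1 _ hM.1 hz.symm).resolve_left hKM
    have c1 : K ∈ SubCent.cov Om (centralizer {z'}) := PairComm.mem_cov h hS hK hK' hKK.symm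
    have c2 : M ∈ SubCent.cov Om (centralizer {z'}) := by
      rw [← hzM]
      exact PairComm.mem_cov h hS hM hM' (fun h1 => hne (by rw [← hz, ← hzM, ← h1]))
    have h1 : ⁅A, B⁆ ≤ ⁅K, M⁆ := commutator_mono inf_le_left inf_le_left
    have h2 : ⁅A, B⁆ ≤ centralizer {z'} :=
      (commutator_mono inf_le_right inf_le_right).trans (commutator_le_self _)
    rw [PC, hA, hB, SubCent.OO_inf c1, SubCent.OO_inf c2]
    exact le_inf (le_inf (h1.trans (h0.trans inf_le_left)) h2) (le_inf (h1.trans (h0.trans inf_le_right)) h2)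
  have p3 : PC A (cj y B) := by
    have h1 := PairComm.commutator_inf_le h hS hK hM' (Ne.symm hKM')
    rw [hzM] at h1
    rw [hB']
    exact h1
  have p4 : PC (cj y A) B := by
    have h1 := p3.cj y
    rwa [← cj_mul y y B, hy, cj_one] at h1
  have p5 : PC (cj y A) (cj y B) := p2.cj y
  have hn : ∀ g, g ∈ normalizer (OO A : Set G) → g ∈ normalizer (OO (cj y A) : Set G) →
      g ∈ normalizer ((OO A ⊔ OO (cj y A) : Subgroup G) : Set G) := by
    intro g h1 h2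
    rw [mem_normalizer_iff_cj] at h1 h2 ⊢
    rw [cj_sup, h1, h2]
  refine ⟨OO A ⊔ OO (cj y A), ?_, sup_le_cmod_sup ?_ ?_ ?_ ?_ ?_ ?_ ?_ ?_⟩
  · refine LB.odd_sup (odd_OO _) (odd_OO _) ?_
    exact (OO_le _).trans p1.le
  · exact fun g hg => hn g (le_normalizer_OO _ hg) (p1.symm.le hg)
  · exact fun g hg => hn g (p1.le hg) (le_normalizer_OO _ hg)
  · exact fun g hg => hn g (p2.le hg) (p4.le hg)
  · exact fun g hg => hn g (p3.le hg) (p5.le hg)
  · exact (p2.trans inf_le_left).trans le_sup_left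
  · exact (p3.trans inf_le_left).trans le_sup_left
  · exact (p4.trans inf_le_left).trans le_sup_right
  · exact (p5.trans inf_le_left).trans le_sup_right

/-- **`Sw Om`** for a class of members of type `SL(2,F)`, `2.A₇` such that an involution has one, two or four members
(or none). Cores allowed. -/
theorem sw [Finite G] {Om : Set (Subgroup G)} (h : Hyp Om) (hI : ∀ K ∈ Om, IsType K)
    (hone : ∀ K ∈ Om, ∀ L ∈ Om, ∃ g, cj g K = L)
    (htau : ∀ K ∈ Om, ({L | L ∈ Om ∧ zz L = zz K} : Set (Subgroup G)).ncard ≤ 4 ∧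
      ({L | L ∈ Om ∧ zz L = zz K} : Set (Subgroup G)).ncard ≠ 3) : CloH2.Sw Om := by
  intro S K hK J hJ hyS hyK
  set y := zz J with hydef
  have hy : y * y = 1 := h.zz_mul hJ
  have hS : IsPGroup 2 (S : Subgroup G) := S.isPGroup'
  have hzne : ∀ L ∈ Om, zz L = zz K → zz (cj y L) ≠ zz L := by
    intro L hL hLz h1
    apply hyK
    rw [h.zz_cj hL, hLz] at h1
    calc y * zz K = y * zz K * y⁻¹ * y := by group
      _ = zz K * y := by rw [h1]
  have hcj : ∀ L ∈ Om, zz L = zz K → cj y L ≠ L := fun L hL hLz h1 => hzne L hL hLz (by rw [h1])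
  set X : Set (Subgroup G) := {L | L ∈ Om ∧ zz L = y} with hX
  have hJX : J ∈ X := ⟨hJ, rfl⟩
  have hCX : ∀ c ∈ centralizer {y}, ∀ L ∈ X, cj c L ∈ X := by
    rintro c hc L ⟨hL, hLy⟩
    refine ⟨h.conj L hL c, ?_⟩
    rw [h.zz_cj hL, hLy, mem_centralizer_singleton_iff.1 hc]; group
  by_cases hU : ∃ J₁ ∈ X, UU y K ≤ normalizer (J₁ : Set G)
  · obtain ⟨J₁, ⟨hJ₁, hJ₁y⟩, hle⟩ := hU
    exact ⟨J₁, hJ₁, hJ₁y, mem_cov_of_le h hS hK (hI K hK.1).tyTwo hy hyS (hcj K hK.1 rfl) hle hJ₁ (hI J₁ hJ₁)⟩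
  push Not at hU
  -- another member over `zz K`
  obtain ⟨J', hJ', hJJ'⟩ : ∃ J' ∈ X, J' ≠ J := by
    by_contra hcon
    push Not at hcon
    apply hU J hJX
    intro u hu
    rw [mem_normalizer_iff_cj]
    exact hcon _ (hCX u (odc_le hu).1 J hJX)
  obtain ⟨g, hg⟩ := hone J hJ K hK.1
  set M := cj g J' with hMdef
  have hMO : M ∈ Om := h.conj J' hJ'.1 g
  have hMz : zz M = zz K := by rw [hMdef, h.zz_cj hJ'.1, hJ'.2, ← hg, h.zz_cj hJ]
  have hKM : K ≠ M := fun h1 => hJJ' (cj_inj.1 (by rw [← hMdef, ← h1, hg]))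
  have hM : M ∈ OmS Om (S : Subgroup G) := h.mem_OmS_of_zz_eq S hK hMO hMz
  obtain ⟨O, hO, hle⟩ := exists_odd h hS hK hM hKM hMz hy hyS (hzne K hK.1 rfl)
  have hUP : UU y K ≤ centralizer {y} ⊓ ((K ⊓ centralizer {zz (cj y K)}) ⊔
    cj y (K ⊓ centralizer {zz (cj y K)})) := odc_le
  have hUM : UU y M ≤ normalizer (J : Set G) := by
    rw [UU, odc, closure_le]
    rintro v ⟨⟨hvC, hvP⟩, hv⟩
    refine fix_of_comm (N := O ⊓ centralizer {y}) (U := UU y K) (X := X) ?_ (htau J hJ).1 (htau J hJ).2 ?_ ?_ ?_ hv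
      (hCX v hvC) ?_ hU J hJX
    · exact fun h2 => hO (h2.trans (card_dvd_of_le inf_le_left))
    · exact fun n hn => hCX n hn.2
    · exact fun u hu => hCX u (hUP hu).1
    · intro u hu
      have h1 := mem_normalizer_iff_cj.1 (hle (hUP hu).2).1
      have h2 := mem_normalizer_iff_cj.1 (le_normalizer (hUP hu).1)
      rw [mem_normalizer_iff_cj, cj_inf, h1, h2]
    · intro u hu
      refine ⟨(hle (hUP hu).2).2 v hvP, ?_⟩
      exact Subgroup.mul_mem _ (Subgroup.mul_mem _ (Subgroup.mul_mem _ (hUP hu).1 hvC)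
        (Subgroup.inv_mem _ (hUP hu).1)) (Subgroup.inv_mem _ hvC)
  refine ⟨J, hJ, rfl, ?_⟩
  have h1 := mem_cov_of_le h hS hM (hI M hMO).tyTwo hy hyS (hcj M hMO hMz) hUM hJ (hI J hJ)
  have h2 : zz (cj y M) = zz (cj y K) := by rw [h.zz_cj hMO, h.zz_cj hK.1, hMz]
  rw [hMz, h2] at h1
  exact h1

end Cfsg.Agent.Cit.CloSw
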