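import Cfsg.Agent.Cit.CloClass
import Cfsg.Agent.Cit.CloPar

/-!
# CONN / CLOSE: the closing theorem with twins (`τ ≤ 2`)

bb R18 #8757, #9240, no theorem T, no relations in `E(S)` excluded. `Tw M QQ` : the hypotheses

* `cc` : (C);
* `n2` : an involution `f` commuting with `zz Q` normalises a member of `zz Q`, or moves a member `R` of `zz Q`
  to a commuting one;
* `n3` : one of the involutions of a four-group commuting with `zz Q` normalises a member of `zz Q`;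
* `r2` : a 2-subgroup of `M` containing `Q ∈ QQ` lies in a 2-subgroup of `M` containing `R ∈ QQ`, `zz R ≠ zz Q`;
* `hs` : if `zz R₂` centralises `R`, and `R₁`, `R₂` commute, then `C_G(zz R₁ * zz R₂ * zz R) ≤ M`.

Results: `Clo.pp_of_tw` : (P1); `Clo.good_mul_pair` : (P4) for `v = zz Q₁ * zz Q₂` and `zz R` commuting with both;
`Clo.false_of_even` : contradiction if each 2-group `T` centralising `zz Q` centralises a second `zz Q₂` of a common
2-group with `zz Q * zz Q₂` not in `D` (`r` even); `Clo.false_of_odd` : contradiction if some `zz Q` is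
2-central (`r` odd).
-/

set_option autoImplicit false
set_option linter.unusedSectionVars false
set_option linter.style.haveILetI false

namespace Cfsg.Agent.Cit.CloPoint

open Subgroup Cfsg OneBasic

variable {G : Type*} [Group G]

/-- elementwise commuting subgroups -/
def Cm (A B : Subgroup G) : Prop := ∀ x ∈ A, ∀ y ∈ B, x * y = y * x

/-- the hypotheses for `τ ≤ 2`, see the head of the file -/
structure Tw (M : Subgroup G) (QQ : Set (Subgroup G)) : Prop where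
  cc : CC M QQ
  n2 : ∀ Q ∈ QQ, ∀ f : G, f * f = 1 → f * zz Q = zz Q * f → Nrm QQ Q f ∨ ∃ R ∈ QQ, zz R = zz Q ∧ Cm R (cj f R)
  n3 : ∀ Q ∈ QQ, ∀ f g : G, f * f = 1 → g * g = 1 → f * g = g * f → f * zz Q = zz Q * f → g * zz Q = zz Q * g →
    Nrm QQ Q f ∨ Nrm QQ Q g ∨ Nrm QQ Q (f * g)
  r2 : ∀ P : Subgroup G, IsPGroup 2 P → P ≤ M → ∀ Q ∈ QQ, Q ≤ P →
    ∃ S : Subgroup G, IsPGroup 2 S ∧ S ≤ M ∧ P ≤ S ∧ ∃ R ∈ QQ, R ≤ S ∧ zz R ≠ zz Q
  hs : ∀ R₁ ∈ QQ, ∀ R₂ ∈ QQ, ∀ R ∈ QQ, Cm R₁ R₂ → zz R₁ ≠ zz R₂ → zz R ≠ zz R₂ → zz R ≠ zz R₁ * zz R₂ →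
    zz R₁ * zz R = zz R * zz R₁ → (∀ x ∈ R, zz R₂ * x = x * zz R₂) →
    centralizer {zz R₁ * zz R₂ * zz R} ≤ M

/-- the element `k (f k f⁻¹)` -/
def YY (f k : G) : G := k * (f * k * f⁻¹)

namespace Clo

variable {M : Subgroup G} {QQ : Set (Subgroup G)}

theorem conj_mul_YY {f k d : G} (hf : f * f = 1) (hk : k * k = d) (hd : d * d = 1) (hfd : f * d = d * f)
    (hc : k * (f * k * f⁻¹) = f * k * f⁻¹ * k) : k⁻¹ * (f * YY f k) * k⁻¹⁻¹ = f * d := by
  have hfi : f⁻¹ = f := inv_eq_of_mul_eq_one_right hf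
  have h1 : f * k * f⁻¹ * (f * k * f⁻¹) = d := by
    calc f * k * f⁻¹ * (f * k * f⁻¹) = f * (k * k) * f⁻¹ := by group
      _ = f * d * f⁻¹ := by rw [hk]
      _ = d := by rw [hfd]; group
  rw [YY, inv_inv]
  rw [hfi] at h1 hc ⊢
  have h2 : k⁻¹ * f = f * (f * k * f)⁻¹ := by
    rw [mul_inv_rev, mul_inv_rev, hfi, ← mul_assoc, hf, one_mul]
  have h3 : (f * k * f)⁻¹ = (f * k * f) * d := by
    rw [inv_eq_iff_mul_eq_one]
    calc f * k * f * (f * k * f * d) = (f * k * f * (f * k * f)) * d := by group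
      _ = 1 := by rw [h1, hd]
  calc k⁻¹ * (f * (k * (f * k * f))) * k = (k⁻¹ * f) * (k * (f * k * f)) * k := by group
    _ = f * ((f * k * f)⁻¹ * (k * (f * k * f))) * k := by rw [h2]; group
    _ = f * ((f * k * f)⁻¹ * (f * k * f * k)) * k := by rw [hc]
    _ = f * (k * k) := by group
    _ = f * d := by rw [hk]

theorem YY_sq {f k d : G} (_hf : f * f = 1) (hk : k * k = d) (hd : d * d = 1) (hfd : f * d = d * f)
    (hc : k * (f * k * f⁻¹) = f * k * f⁻¹ * k) : YY f k * YY f k = 1 := by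
  rw [YY]
  calc k * (f * k * f⁻¹) * (k * (f * k * f⁻¹)) = k * (f * k * f⁻¹ * k) * (f * k * f⁻¹) := by group
    _ = k * (k * (f * k * f⁻¹)) * (f * k * f⁻¹) := by rw [hc]
    _ = (k * k) * f * (k * k) * f⁻¹ := by group
    _ = d * (f * d) * f⁻¹ := by rw [hk]; group
    _ = (d * d) * (f * f⁻¹) := by rw [hfd]; group
    _ = 1 := by rw [hd]; group

theorem YY_comm {f k : G} (hf : f * f = 1) (hc : k * (f * k * f⁻¹) = f * k * f⁻¹ * k) :
    YY f k * f = f * YY f k := by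
  have hfi : f⁻¹ = f := inv_eq_of_mul_eq_one_right hf
  rw [YY]
  calc k * (f * k * f⁻¹) * f = k * f * k := by rw [hfi]; calc k * (f * k * f) * f = k * f * k * (f * f) := by group
                                                       _ = _ := by rw [hf, mul_one]
    _ = (f * f) * (k * f * k) := by rw [hf, one_mul]
    _ = f * (f * k * f⁻¹ * k) := by rw [hfi]; group
    _ = f * (k * (f * k * f⁻¹)) := by rw [hc]

/-- TT is good -/
theorem tt [Finite G] (c : Clo M QQ) (t : Tw M QQ) {R : Subgroup G} (hR : R ∈ QQ) {f : G}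
    (hfM : f ∈ M) (hcm : Cm R (cj f R)) {k : G} (hk : k ∈ R) (hsq : YY f k * YY f k = 1) (hne : YY f k ≠ 1)
    (hfz : zz (cj f R) = zz R) : CloEnd.Good M (YY f k) := by
  haveI : Fact (Nat.Prime 2) := ⟨Nat.prime_two⟩
  have hR' : cj f R ∈ QQ := c.inv f hfM R hR
  have hk' : f * k * f⁻¹ ∈ cj f R := conj_mem_cj hk
  have hnorm : R ≤ normalizer (cj f R : Set G) := by
    intro x hx
    rw [mem_normalizer_iff]
    intro y
    constructor
    · intro hy
      rw [hcm x hx y hy]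
      simpa using hy
    · intro hy
      have h2 := hcm x hx _ hy
      have h3 : x * y * x⁻¹ = y := by
        calc x * y * x⁻¹ = x⁻¹ * (x * (x * y * x⁻¹)) := by group
          _ = x⁻¹ * ((x * y * x⁻¹) * x) := by rw [h2]
          _ = y := by group
      rwa [h3] at hy
  have hP : IsPGroup 2 (R ⊔ cj f R : Subgroup G) :=
    IsPGroup.to_sup_of_normal_right' (c.two R hR) (c.two _ hR') hnorm
  have hPM : R ⊔ cj f R ≤ M := sup_le (c.le R hR) (c.le _ hR')
  obtain ⟨S, hS, hSM, hPS, L, hL, hLS, hLz⟩ := t.r2 _ hP hPM R hR le_sup_left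
  refine ⟨M.mul_mem (c.le R hR hk) (c.le _ hR' hk'), hsq, hne, t.cc L hL _ hsq hne ?_⟩
  intro x hx
  have h1 : k * x = x * k := by
    refine c.comm S hS hSM R hR L hL (le_sup_left.trans hPS) hLS ?_ k hk x hx
    rintro rfl
    exact hLz rfl
  have h2 : (f * k * f⁻¹) * x = x * (f * k * f⁻¹) := by
    refine c.comm S hS hSM _ hR' L hL (le_sup_right.trans hPS) hLS ?_ _ hk' x hx
    rintro rfl
    exact hLz hfz
  rw [YY]
  calc k * (f * k * f⁻¹) * x = k * ((f * k * f⁻¹) * x) := by group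
    _ = (k * x) * (f * k * f⁻¹) := by rw [h2]; group
    _ = x * (k * (f * k * f⁻¹)) := by rw [h1]; group

/-- (P1) -/
theorem pp_of_tw [Finite G] (c : Clo M QQ) (t : Tw M QQ) : PP M QQ := by
  intro Q hQ L hL hcomm hne
  obtain ⟨u, hu⟩ : ∃ u, u = zz L := ⟨_, rfl⟩
  obtain ⟨d, hd⟩ : ∃ d, d = zz Q := ⟨_, rfl⟩
  have huu : u * u = 1 := by rw [hu]; exact c.zz_mul hL
  have hdd : d * d = 1 := by rw [hd]; exact c.zz_mul hQ
  have huM : u ∈ M := by rw [hu]; exact (c.good_zz hL).mem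
  have hud : u * d = d * u := by rw [hu, hd]; exact hcomm.symm
  rw [← hu, ← hd] at hne ⊢
  rcases t.n2 Q hQ u huu (by rw [← hd]; exact hud) with hN | ⟨R, hR, hRz, hcm⟩
  · have h1 := c.good_of_nrm t.cc hQ (c.good_zz hL) (by rw [← hu, ← hd]; exact hne) hcomm.symm (by rw [← hu]; exact hN)
    rw [← hd, ← hu] at h1
    exact h1
  · rw [← hd] at hRz
    obtain ⟨x, hx, y, hy, hxx, hyy, hxy⟩ := c.quat R hR
    rw [hRz] at hxx hyy
    have hui : u⁻¹ = u := inv_eq_of_mul_eq_one_right huu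
    have hfz : zz (cj u R) = zz R := by
      rw [c.zz_cj hR, hRz, hud]; group
    have hck : ∀ k ∈ R, ∀ k' ∈ R, k * (u * k' * u⁻¹) = u * k' * u⁻¹ * k :=
      fun k hk k' hk' => hcm k hk _ (conj_mem_cj hk')
    -- the element `YY u k` is not `1`
    have hone : ∀ k ∈ R, (∃ l ∈ R, k * l ≠ l * k) → YY u k ≠ 1 := by
      rintro k hk ⟨l, hl, hkl⟩ h1
      apply hkl
      have h2 : k = (u * k * u⁻¹)⁻¹ := eq_inv_of_mul_eq_one_left h1
      have h3 : l * (u * k * u⁻¹)⁻¹ = (u * k * u⁻¹)⁻¹ * l := by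
        have h4 := hck l hl k⁻¹ (R.inv_mem hk)
        have h5 : u * k⁻¹ * u⁻¹ = (u * k * u⁻¹)⁻¹ := by group
        rwa [h5] at h4
      rw [← h2] at h3
      exact h3.symm
    have hxyne : x * y ≠ y * x := by
      intro h1
      rw [h1, mul_inv_cancel_right] at hxy
      apply c.zz_ne hQ
      rw [← hd, ← hyy]
      nth_rewrite 2 [hxy]
      exact mul_inv_cancel y
    have hxy' : x * y = y * x * d := by
      have h1 : y⁻¹ = y * d := by
        rw [inv_eq_iff_mul_eq_one, ← mul_assoc, hyy, hdd]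
      calc x * y = (x * y * x⁻¹) * x := by group
        _ = y * d * x := by rw [hxy, h1]
        _ = y * (d * x) := by group
        _ = y * (x * d) := by rw [← hxx]; group
        _ = y * x * d := by group
    have hdx : d * x = x * d := by rw [← hxx]; group
    have hdy : d * y = y * d := by rw [← hyy]; group
    have hxysq : (x * y) * (x * y) = d := by
      calc (x * y) * (x * y) = (y * x * d) * (x * y) := by rw [hxy']
        _ = y * x * (d * x) * y := by group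
        _ = y * (x * x) * (d * y) := by rw [hdx]; group
        _ = y * d * (y * d) := by rw [hxx, hdy]
        _ = y * (d * y) * d := by group
        _ = (y * y) * (d * d) := by rw [hdy]; group
        _ = d := by rw [hyy, hdd, mul_one]
    -- good elements
    have hgood : ∀ k ∈ R, k * k = d → (∃ l ∈ R, k * l ≠ l * k) → CloEnd.Good M (YY u k) := by
      intro k hk hkk hl
      exact c.tt t hR huM hcm hk (YY_sq huu hkk hdd hud (hck k hk k hk)) (hone k hk hl) hfz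
    -- the end
    have key : ∀ k ∈ R, k * k = d → (∃ l ∈ R, k * l ≠ l * k) → Nrm QQ L (YY u k) → CloEnd.Good M (d * u) := by
      intro k hk hkk hl hN
      have h1 := hgood k hk hkk hl
      have h2 : u ≠ YY u k := by
        intro h3
        apply hne
        have h4 : u * u = k * u * k := by
          calc u * u = YY u k * u := by rw [← h3]
            _ = k * (u * k * u⁻¹) * u := rfl
            _ = k * u * k := by group
        rw [huu] at h4
        have h5 : u = k⁻¹ * k⁻¹ := by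
          calc u = k⁻¹ * (k * u * k) * k⁻¹ := by group
            _ = k⁻¹ * k⁻¹ := by rw [← h4]; group
        rw [h5, ← mul_inv_rev, hkk]
        exact (inv_eq_of_mul_eq_one_right hdd).symm
      have h3 := c.good_of_nrm t.cc hL h1 (by rw [← hu]; exact h2)
        (by rw [← hu]; exact YY_comm huu (hck k hk k hk)) hN
      rw [← hu] at h3
      have h4 := h3.conj (m := k⁻¹) (M.inv_mem (c.le R hR hk))
      rw [conj_mul_YY huu hkk hdd hud (hck k hk k hk), hud] at h4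
      exact h4
    have hYxy : YY u x * YY u y = YY u (x * y) := by
      rw [YY, YY, YY]
      calc x * (u * x * u⁻¹) * (y * (u * y * u⁻¹)) = x * ((u * x * u⁻¹) * y) * (u * y * u⁻¹) := by group
        _ = x * (y * (u * x * u⁻¹)) * (u * y * u⁻¹) := by rw [hck y hy x hx]
        _ = _ := by group
    have hYyx : YY u y * YY u x = YY u (y * x) := by
      rw [YY, YY, YY]
      calc y * (u * y * u⁻¹) * (x * (u * x * u⁻¹)) = y * ((u * y * u⁻¹) * x) * (u * x * u⁻¹) := by group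
        _ = y * (x * (u * y * u⁻¹)) * (u * x * u⁻¹) := by rw [hck x hx y hy]
        _ = _ := by group
    have hYd : YY u (x * y) = YY u (y * x) := by
      rw [hxy', YY, YY]
      calc y * x * d * (u * (y * x * d) * u⁻¹) = y * x * (d * u) * (y * x * d) * u⁻¹ := by group
        _ = y * x * u * (d * (y * x)) * d * u⁻¹ := by rw [← hud]; group
        _ = y * x * u * (y * x) * (d * d) * u⁻¹ := by
            have : d * (y * x) = y * x * d := by
              calc d * (y * x) = (d * y) * x := by group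
                _ = y * (d * x) := by rw [hdy]; group
                _ = y * x * d := by rw [hdx]; group
            rw [this]; group
        _ = y * x * (u * (y * x) * u⁻¹) := by rw [hdd]; group
    have hYc : YY u x * YY u y = YY u y * YY u x := by rw [hYxy, hYyx, hYd]
    have hlx : ∃ l ∈ R, x * l ≠ l * x := ⟨y, hy, hxyne⟩
    have hly : ∃ l ∈ R, y * l ≠ l * y := ⟨x, hx, hxyne.symm⟩
    have hlxy : ∃ l ∈ R, (x * y) * l ≠ l * (x * y) := by
      refine ⟨y, hy, fun h1 => hxyne ?_⟩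
      calc x * y = (x * y * y) * y⁻¹ := by group
        _ = (y * (x * y)) * y⁻¹ := by rw [h1]
        _ = y * x := by group
    rcases t.n3 L hL (YY u x) (YY u y) (hgood x hx hxx hlx).sq (hgood y hy hyy hly).sq hYc
        (by rw [← hu]; exact YY_comm huu (hck x hx x hx)) (by rw [← hu]; exact YY_comm huu (hck y hy y hy)) with h1 | h1 | h1
    · exact key x hx hxx hlx h1
    · exact key y hy hyy hly h1
    · rw [hYxy] at h1
      exact key (x * y) (R.mul_mem hx hy) hxysq hlxy h1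

/-- (P4) for `v = zz Q₁ * zz Q₂` and `zz R` commuting with both -/
theorem good_mul_pair [Finite G] (c : Clo M QQ) (t : Tw M QQ) {P : Subgroup G} (hP : IsPGroup 2 P) (hPM : P ≤ M)
    {Q₁ Q₂ : Subgroup G} (hQ₁ : Q₁ ∈ QQ) (hQ₂ : Q₂ ∈ QQ) (h1P : Q₁ ≤ P) (h2P : Q₂ ≤ P) (hne : zz Q₁ ≠ zz Q₂)
    {R : Subgroup G} (hR : R ∈ QQ) (hd1 : zz R * zz Q₁ = zz Q₁ * zz R) (hd2 : zz R * zz Q₂ = zz Q₂ * zz R)
    (hRne : zz R ≠ zz Q₁ * zz Q₂) : CloEnd.Good M (zz R * (zz Q₁ * zz Q₂)) := by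
  have hvE : zz Q₁ * zz Q₂ ∈ EE QQ P := mul_mem (subset_closure ⟨Q₁, hQ₁, h1P, rfl⟩) (subset_closure ⟨Q₂, hQ₂, h2P, rfl⟩)
  have hvg : CloEnd.Good M (zz Q₁ * zz Q₂) := c.good hP hPM hvE (mul_ne (c.zz_mul hQ₁) hne)
  have hRv : zz R * (zz Q₁ * zz Q₂) = zz Q₁ * zz Q₂ * zz R := by
    rw [← mul_assoc, hd1, mul_assoc, hd2, mul_assoc]
  by_cases hN : Nrm QQ R (zz Q₁ * zz Q₂)
  · exact c.good_of_nrm t.cc hR hvg hRne hRv.symm hN
  have hcm : Cm Q₁ Q₂ := c.comm P hP hPM _ hQ₁ _ hQ₂ h1P h2P (fun h => hne (by rw [h]))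
  have hdd := c.zz_mul hR
  have h11 := c.zz_mul hQ₁
  have h22 := c.zz_mul hQ₂
  have h12 : zz Q₁ * zz Q₂ = zz Q₂ * zz Q₁ := hcm _ (c.ord Q₁ hQ₁).1 _ (c.ord Q₂ hQ₂).1
  have key : ∀ A ∈ QQ, ∀ B ∈ QQ, Cm A B → zz A ≠ zz B → zz A * zz B = zz Q₁ * zz Q₂ →
      zz R * zz A = zz A * zz R → zz R * zz B = zz B * zz R → Nrm QQ R (zz B) →
      CloEnd.Good M (zz R * (zz Q₁ * zz Q₂)) := by
    intro A hA B hB hAB hne' hpr hdA hdB ⟨L, hL, hLz, hLn⟩
    have hAA := c.zz_mul hA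
    have hBB := c.zz_mul hB
    have hABc : zz A * zz B = zz B * zz A := hAB _ (c.ord A hA).1 _ (c.ord B hB).1
    by_cases hcen : ∀ x ∈ L, zz B * x = x * zz B
    · -- `zz B` centralises `L`
      have hRB : zz R ≠ zz B := by
        intro h
        -- then `zz R * v = zz A`
        apply hN
        have h3 : zz Q₁ * zz Q₂ = zz A * zz B := hpr.symm
        refine ⟨B, hB, h.symm, ?_⟩
        rw [h3]
        -- `zz A`, `zz B` centralise `B`
        have h4 : ∀ x ∈ B, zz A * zz B * x = x * (zz A * zz B) := by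
          intro x hx
          have h5 := hAB _ (c.ord A hA).1 x hx
          have h6 := c.zz_comm hB hx
          calc zz A * zz B * x = zz A * (zz B * x) := by group
            _ = (zz A * x) * zz B := by rw [h6]; group
            _ = x * (zz A * zz B) := by rw [h5]; group
        ext y
        rw [mem_cj]
        have h7 : ∀ y ∈ B, (zz A * zz B)⁻¹ * y * (zz A * zz B) = y := by
          intro y hy
          rw [mul_assoc, ← h4 y hy]; group
        constructor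
        · intro hy
          have h8 := h4 _ hy
          have h9 : y = (zz A * zz B)⁻¹ * y * (zz A * zz B) := by
            calc y = (zz A * zz B) * ((zz A * zz B)⁻¹ * y * (zz A * zz B)) * (zz A * zz B)⁻¹ := by group
              _ = ((zz A * zz B)⁻¹ * y * (zz A * zz B)) * (zz A * zz B) * (zz A * zz B)⁻¹ := by rw [h8]
              _ = (zz A * zz B)⁻¹ * y * (zz A * zz B) := by group
          rw [h9]; exact hy
        · intro hy
          rw [h7 y hy]; exact hy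
      have h3 := t.hs A hA B hB L hL hAB hne' (by rw [hLz]; exact hRB) (by rw [hLz, hpr]; exact hRne)
        (by rw [hLz]; exact hdA.symm) hcen
      rw [hLz, hpr] at h3
      have hv : zz R * (zz Q₁ * zz Q₂) = zz Q₁ * zz Q₂ * zz R := hRv
      refine ⟨M.mul_mem (c.good_zz hR).mem hvg.mem, mul_sq hdd hvg.sq hv, mul_ne hdd hRne, ?_⟩
      rw [hv]
      exact h3
    · push Not at hcen
      obtain ⟨b, hb, hbf, -⟩ := exists_conj_mul (c.two L hL) (z := zz L) (y := zz B)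
          (fun t ht ht2 ht1 => c.uniq L hL t ht (orderOf_eq_prime (by rw [pow_two]; exact ht2) ht1)) hBB
          (mem_normalizer_iff_cj.2 hLn) hcen
      rw [hLz] at hbf
      have hbM : b ∈ M := c.le L hL hb
      have hB' : cj b B ∈ QQ := c.inv b hbM B hB
      have hzB' : zz (cj b B) = zz R * zz B := by rw [c.zz_cj hB, hbf]
      have hcomm : zz A * zz (cj b B) = zz (cj b B) * zz A := by
        rw [hzB']
        calc zz A * (zz R * zz B) = (zz A * zz R) * zz B := by group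
          _ = zz R * (zz A * zz B) := by rw [← hdA]; group
          _ = zz R * zz B * zz A := by rw [hABc]; group
      have hne3 : zz A ≠ zz (cj b B) := by
        rw [hzB']
        intro h
        apply hRne
        rw [← hpr, h]
        calc zz R = zz R * (zz B * zz B) := by rw [hBB, mul_one]
          _ = zz R * zz B * zz B := by group
      have h5 := c.pp_of_tw t A hA (cj b B) hB' hcomm hne3
      have h6 : zz A * zz (cj b B) = zz R * (zz Q₁ * zz Q₂) := by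
        rw [hzB', ← hpr]
        calc zz A * (zz R * zz B) = (zz A * zz R) * zz B := by group
          _ = zz R * (zz A * zz B) := by rw [← hdA]; group
      rwa [h6] at h5
  rcases t.n3 R hR (zz Q₁) (zz Q₂) h11 h22 h12 hd1.symm hd2.symm with h | h | h
  · refine key Q₂ hQ₂ Q₁ hQ₁ (fun x hx y hy => (hcm y hy x hx).symm) hne.symm h12.symm hd2 hd1 h
  · exact key Q₁ hQ₁ Q₂ hQ₂ hcm hne rfl hd1 hd2 h
  · exact absurd h hN

/-- a 2-subgroup centralising `zz Q` lies in a 2-subgroup containing some `Q' ∈ QQ`, `zz Q' = zz Q` -/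
theorem exists_le_of_comm [Finite G] (c : Clo M QQ) {Q : Subgroup G} (hQ : Q ∈ QQ) {T : Subgroup G}
    (hT : IsPGroup 2 T) (hTz : ∀ x ∈ T, x * zz Q = zz Q * x) :
    ∃ S : Subgroup G, IsPGroup 2 S ∧ S ≤ M ∧ T ≤ S ∧ (∀ x ∈ S, x * zz Q = zz Q * x) ∧
      ∃ R ∈ QQ, R ≤ S ∧ zz R = zz Q := by
  haveI : Fact (Nat.Prime 2) := ⟨Nat.prime_two⟩
  let C : Subgroup G := centralizer {zz Q}
  have hTC : T ≤ C := fun x hx => mem_centralizer_singleton_iff.2 (hTz x hx)
  have hQC : Q ≤ C := fun x hx => mem_centralizer_singleton_iff.2 (c.zz_comm hQ hx).symm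
  obtain ⟨S, hS⟩ := (hT.comap_of_injective C.subtype C.subtype_injective :
    IsPGroup 2 (T.subgroupOf C)).exists_le_sylow
  obtain ⟨S', hS'⟩ := ((c.two Q hQ).comap_of_injective C.subtype C.subtype_injective :
    IsPGroup 2 (Q.subgroupOf C)).exists_le_sylow
  obtain ⟨g, hg⟩ := MulAction.exists_smul_eq C S' S
  have hgz : (g : G) * zz Q = zz Q * g := mem_centralizer_singleton_iff.1 g.2
  have hgM : (g : G) ∈ M := c.good_mem hQ hgz
  refine ⟨(S : Subgroup C).map C.subtype, S.isPGroup'.map _, ?_, ?_, ?_, cj (g : G) Q, c.inv _ hgM Q hQ, ?_, ?_⟩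
  · rintro _ ⟨x, -, rfl⟩
    exact c.good_mem hQ (mem_centralizer_singleton_iff.1 x.2)
  · intro x hx
    exact ⟨⟨x, hTC hx⟩, hS (mem_subgroupOf.2 hx), rfl⟩
  · rintro _ ⟨x, -, rfl⟩
    exact mem_centralizer_singleton_iff.1 x.2
  · rintro x hx
    rw [mem_cj] at hx
    have hy : (⟨(g : G)⁻¹ * x * g, hQC hx⟩ : C) ∈ (S' : Subgroup C) := hS' (mem_subgroupOf.2 hx)
    have h1 : g * ⟨(g : G)⁻¹ * x * g, hQC hx⟩ * g⁻¹ ∈ (g • S' : Sylow 2 C) := by
      rw [← SetLike.mem_coe, Sylow.coe_smul]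
      exact ⟨_, hy, rfl⟩
    rw [hg] at h1
    refine ⟨_, h1, ?_⟩
    change (g : G) * ((g : G)⁻¹ * x * g) * (g : G)⁻¹ = x
    group
  · rw [c.zz_cj hQ, hgz]; group

/-- the parity form of CLOSE-A for `Clo` -/
theorem false_of_par [Finite G] (c : Clo M QQ) (hM : M ≠ ⊤) (hP : PP M QQ) {Q : Subgroup G} (hQ : Q ∈ QQ)
    (h3 : ∀ T : Subgroup G, IsPGroup 2 T → (∀ t ∈ T, t * zz Q = zz Q * t) →
      ∃ v, CloEnd.Good M v ∧ v * zz Q = zz Q * v ∧ (∀ t ∈ T, t * v = v * t) ∧ (∀ L ∈ QQ, zz L ≠ v) ∧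
        ∀ R ∈ QQ, zz R * v = v * zz R → v * zz R ∈ T → CloEnd.Good M (zz R * v)) : False := by
  refine (c.act hM hP hQ).false_of_par ?_
  intro T d hT hd hTd
  obtain ⟨g, rfl⟩ := isConj_iff.1 hd
  have hT' : IsPGroup 2 (cj g⁻¹ T) := isPGroup_cj hT
  obtain ⟨v, hv, hvQ, hvT, hvn, hv3⟩ := h3 (cj g⁻¹ T) hT' (by
    intro t ht
    rw [mem_cj, inv_inv] at ht
    have h1 := hTd _ ht
    calc t * zz Q = g⁻¹ * ((g * t * g⁻¹) * (g * zz Q * g⁻¹)) * g := by group
      _ = g⁻¹ * ((g * zz Q * g⁻¹) * (g * t * g⁻¹)) * g := by rw [h1]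
      _ = zz Q * t := by group)
  have hcomm : ∀ a b : G, a * b = b * a → (g * a * g⁻¹) * (g * b * g⁻¹) = (g * b * g⁻¹) * (g * a * g⁻¹) := by
    intro a b hab
    calc (g * a * g⁻¹) * (g * b * g⁻¹) = g * (a * b) * g⁻¹ := by group
      _ = g * (b * a) * g⁻¹ := by rw [hab]
      _ = _ := by group
  refine ⟨g * v * g⁻¹, ?_, hcomm _ _ hvQ, ?_, ?_, ?_, ?_⟩
  · calc g * v * g⁻¹ * (g * v * g⁻¹) = g * (v * v) * g⁻¹ := by group
      _ = 1 := by rw [hv.sq]; group
  · intro t ht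
    have h1 := hvT (g⁻¹ * t * g) (by
      rw [mem_cj, inv_inv]
      have h2 : g * (g⁻¹ * t * g) * g⁻¹ = t := by group
      rwa [h2])
    have h2 := hcomm _ _ h1
    have h3 : g * (g⁻¹ * t * g) * g⁻¹ = t := by group
    rwa [h3] at h2
  · intro h1
    have h2 : IsConj (zz Q) v := h1.trans (isConj_iff.2 ⟨g⁻¹, by group⟩)
    obtain ⟨R, hR, hRv⟩ := c.exists_of_conj hQ h2 hv.mem
    exact hvn R hR hRv
  · intro hb
    have h1 := hb.conj (g := g⁻¹)
    have h2 : g⁻¹ * (g * v * g⁻¹) * g⁻¹⁻¹ = v := by group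
    rw [h2] at h1
    exact c.not_bad hv h1
  · intro d₁ hd₁ hd₁v hne hT₁ hb
    obtain ⟨d', hd'⟩ : ∃ d', d' = g⁻¹ * d₁ * g := ⟨_, rfl⟩
    have hdd : d₁ = g * d' * g⁻¹ := by rw [hd']; group
    have h1 : IsConj (zz Q) d' := hd₁.trans (isConj_iff.2 ⟨g⁻¹, by rw [hd', inv_inv]⟩)
    have h2 : d' * v = v * d' := by
      rw [hdd] at hd₁v
      calc d' * v = g⁻¹ * ((g * d' * g⁻¹) * (g * v * g⁻¹)) * g := by group
        _ = g⁻¹ * ((g * v * g⁻¹) * (g * d' * g⁻¹)) * g := by rw [hd₁v]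
        _ = v * d' := by group
    obtain ⟨R, hR, hRd⟩ := c.exists_of_conj hQ h1 (CloEnd.mem_of_comm hv h2)
    have h4 := hv3 R hR (by rw [hRd]; exact h2) (by
      rw [mem_cj, inv_inv, hRd]
      have h5 : g * (v * d') * g⁻¹ = g * v * g⁻¹ * d₁ := by rw [hdd]; group
      rwa [h5])
    have h5 := hb.conj (g := g⁻¹)
    have h6 : g⁻¹ * (g * v * g⁻¹ * d₁) * g⁻¹⁻¹ = zz R * v := by rw [hRd, h2, hdd]; group
    rw [h6] at h5
    exact c.not_bad h4 h5

/-- **THE CLOSING THEOREM FOR `τ ≤ 2`, `r` even** (no S1175, no Bender) -/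
theorem false_of_even [Finite G] (c : Clo M QQ) (t : Tw M QQ) (hM : M ≠ ⊤) {Q : Subgroup G} (hQ : Q ∈ QQ)
    (hE : ∀ T : Subgroup G, IsPGroup 2 T → (∀ x ∈ T, x * zz Q = zz Q * x) →
      ∃ P : Subgroup G, IsPGroup 2 P ∧ P ≤ M ∧ ∃ Q₁ ∈ QQ, ∃ Q₂ ∈ QQ, Q₁ ≤ P ∧ Q₂ ≤ P ∧ zz Q₁ = zz Q ∧
        zz Q₂ ≠ zz Q ∧ (∀ x ∈ T, x * zz Q₂ = zz Q₂ * x) ∧ ∀ L ∈ QQ, zz L ≠ zz Q₁ * zz Q₂) : False := by
  refine c.false_of_par hM (c.pp_of_tw t) hQ ?_
  intro T hT hTz
  obtain ⟨P, hP, hPM, Q₁, hQ₁, Q₂, hQ₂, h1P, h2P, hz1, hz2, hT2, hL⟩ := hE T hT hTz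
  have hne : zz Q₁ ≠ zz Q₂ := by rw [hz1]; exact hz2.symm
  have hvE : zz Q₁ * zz Q₂ ∈ EE QQ P := mul_mem (subset_closure ⟨Q₁, hQ₁, h1P, rfl⟩) (subset_closure ⟨Q₂, hQ₂, h2P, rfl⟩)
  have hvg : CloEnd.Good M (zz Q₁ * zz Q₂) := c.good hP hPM hvE (mul_ne (c.zz_mul hQ₁) hne)
  have hcm : Cm Q₁ Q₂ := c.comm P hP hPM _ hQ₁ _ hQ₂ h1P h2P (fun h => hne (by rw [h]))
  have h12 : zz Q₁ * zz Q₂ = zz Q₂ * zz Q₁ := hcm _ (c.ord Q₁ hQ₁).1 _ (c.ord Q₂ hQ₂).1
  have h11 := c.zz_mul hQ₁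
  have h22 := c.zz_mul hQ₂
  refine ⟨_, hvg, ?_, ?_, hL, ?_⟩
  · rw [← hz1]
    calc zz Q₁ * zz Q₂ * zz Q₁ = zz Q₁ * (zz Q₂ * zz Q₁) := by group
      _ = zz Q₁ * (zz Q₁ * zz Q₂) := by rw [h12]
  · intro x hx
    have c1 : Commute x (zz Q₁) := by rw [hz1]; exact hTz x hx
    have c2 : Commute x (zz Q₂) := hT2 x hx
    exact (c1.mul_right c2).eq
  · intro R hR hRv hRT
    -- `zz R` commutes with `zz Q₁`, `zz Q₂`
    have key : ∀ y : G, (∀ x ∈ T, x * y = y * x) → zz Q₁ * zz Q₂ * y = y * (zz Q₁ * zz Q₂) → zz R * y = y * zz R := by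
      intro y hy hvy
      have h1 := hy _ hRT
      have h2 : zz R = (zz Q₁ * zz Q₂) * (zz Q₁ * zz Q₂ * zz R) := by
        rw [← mul_assoc (zz Q₁ * zz Q₂), hvg.sq, one_mul]
      rw [h2]
      calc (zz Q₁ * zz Q₂) * (zz Q₁ * zz Q₂ * zz R) * y = (zz Q₁ * zz Q₂) * ((zz Q₁ * zz Q₂ * zz R) * y) := by group
        _ = ((zz Q₁ * zz Q₂) * y) * (zz Q₁ * zz Q₂ * zz R) := by rw [h1]; group
        _ = y * (zz Q₁ * zz Q₂ * (zz Q₁ * zz Q₂ * zz R)) := by rw [hvy]; group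
    have hd1 : zz R * zz Q₁ = zz Q₁ * zz R := by
      refine key _ (by intro x hx; rw [hz1]; exact hTz x hx) ?_
      calc zz Q₁ * zz Q₂ * zz Q₁ = zz Q₁ * (zz Q₂ * zz Q₁) := by group
        _ = zz Q₁ * (zz Q₁ * zz Q₂) := by rw [h12]
    have hd2 : zz R * zz Q₂ = zz Q₂ * zz R := by
      refine key _ hT2 ?_
      calc zz Q₁ * zz Q₂ * zz Q₂ = (zz Q₁ * zz Q₂) * zz Q₂ := by group
        _ = (zz Q₂ * zz Q₁) * zz Q₂ := by rw [h12]
        _ = _ := by group
    exact c.good_mul_pair t hP hPM hQ₁ hQ₂ h1P h2P hne hR hd1 hd2 (hL R hR)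

/-- **THE CLOSING THEOREM, `r` odd** : `zz L` is 2-central -/
theorem false_of_odd [Finite G] (c : Clo M QQ) (hM : M ≠ ⊤) (hB : CloEnd.Bend G) (hc : CloEnd.Crit1175 G)
    (hP : PP M QQ) (S : Sylow 2 G) (hS : (S : Subgroup G) ≤ M)
    (htwo : ∃ Q ∈ QQ, ∃ R ∈ QQ, Q ≤ (S : Subgroup G) ∧ R ≤ (S : Subgroup G) ∧ Q ≠ R)
    {L : Subgroup G} (hL : L ∈ QQ) (hLS : zz L ∈ S) (hcen : ∀ s ∈ S, s * zz L = zz L * s) : False := by
  obtain ⟨Q, hQ, R, hR, hQS, hRS, hQR⟩ := htwo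
  refine CloEnd.false_of_central (c.two' S.isPGroup' hS hQ hR hQS hRS hQR) hB hc hM c.hTwo
    (c.good_zz hL) S hLS hcen ?_
  intro g hg hcomm hne
  rw [← c.zz_cj hL g] at hcomm hne ⊢
  exact (hP L hL (cj g L) (c.inv g hg L hL) hcomm (Ne.symm hne)).cent

end Clo

end Cfsg.Agent.Cit.CloPoint
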