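import Cfsg.Agent.Cit.GenPiece
import Cfsg.Agent.Cit.UseT2
import Cfsg.Agent.Cit.CovES
import Cfsg.Agent.Cit.CloseFus
import Cfsg.Agent.Cit.CloClass
import Cfsg.Agent.Cit.AutAct

/-!
# (C): the centralisers of the involutions centralising a member of `Γ` are contained in `M`

* `pre_px_le_of_gen` : GEN for the piece of `K` in `H / O(H)`, pulled back to `G`.
* `Emb.le_of_klein` (LEMMA GOOD): `H < G`, `a, b ∈ H` commuting of order at most two with
  `C(a), C(b), C(ab) ≤ M`, `K ∈ Γ` covered by `H`, `a, b` trivial on `K / O(K)`: then `H ≤ M`.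
* `cc` : `(C)` for `|E(S)| ≥ 8`, or `|E(S)| = 4` and `τ ≥ 2`.
-/

set_option autoImplicit false
set_option linter.unusedSectionVars false
set_option linter.dupNamespace false
set_option linter.style.haveILetI false

namespace Cfsg.Agent.Cit.GenGood

open Subgroup Cfsg Cfsg.Agent.Cit SubCent CovES UseT CloGraph GenChart
open scoped commutatorElement

universe u

variable {G : Type u} [Group G] [Finite G] {Om : Set (Subgroup G)} {H K M S : Subgroup G}

/-- a 2-element acting trivially on `K / O(K)` centralises the trace of `K` -/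
theorem qm_mem_centralizer_tr (h : ∀ K ∈ Om, IsType K) (hc : ∀ J ∈ fam Om H, OO J = ⊥)
    (hK : K ∈ cov Om H) {a : G} (haH : a ∈ H) (ha : a ∈ ck K) :
    qm H ⟨a, haH⟩ ∈ centralizer (tr H K : Set (HQ H)) := by
  rw [mem_centralizer_iff]
  rintro _ ⟨k, hk, rfl⟩
  have hr := isRd h H
  have hm := RdOm.mem_OmIn hK
  have hkK : (k : G) ∈ K := hr.le _ hm hk
  -- the commutator lies in `rg H K ⊓ OO K`
  have haN : (⟨a, haH⟩ : H) ∈ normalizer (K.subgroupOf H : Set H) := by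
    rw [mem_normalizer_iff]
    intro x
    exact mem_normalizer_iff.1 ha.1 (x : G)
  have haR : (⟨a, haH⟩ : H) ∈ normalizer (rd (K.subgroupOf H) : Set H) := hr.normalizer_le hm haN
  have h1 : k * ⟨a, haH⟩ * k⁻¹ * (⟨a, haH⟩ : H)⁻¹ ∈ rd (K.subgroupOf H) := by
    have h2 := (mem_normalizer_iff.1 haR k⁻¹).1 (inv_mem hk)
    have h3 := mul_mem hk h2
    have e : k * ((⟨a, haH⟩ : H) * k⁻¹ * (⟨a, haH⟩ : H)⁻¹) = k * ⟨a, haH⟩ * k⁻¹ * (⟨a, haH⟩ : H)⁻¹ := by group
    rwa [e] at h3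
  have h2 : ((k * ⟨a, haH⟩ * k⁻¹ * (⟨a, haH⟩ : H)⁻¹ : H) : G) ∈ OO H := by
    refine rg_inf_OO_le h hc hK ⟨⟨_, h1, rfl⟩, ?_⟩
    exact ha.2 k hkK
  obtain ⟨x, hx, hxe⟩ := h2
  have h3 : x = k * ⟨a, haH⟩ * k⁻¹ * (⟨a, haH⟩ : H)⁻¹ := Subtype.ext hxe
  have h4 : qm H (k * ⟨a, haH⟩ * k⁻¹ * (⟨a, haH⟩ : H)⁻¹) = 1 := by
    rw [← h3]
    have : x ∈ (qm H).ker := by rw [ker_qm]; exact hx
    exact this
  rw [map_mul, map_mul, map_mul, map_inv, map_inv, mul_inv_eq_one, mul_inv_eq_iff_eq_mul] at h4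
  exact h4

/-- GEN for the piece of `K` in `H / O(H)`, pulled back to `G` -/
theorem pre_px_le_of_gen (hE : ExcTrip.{u}) (hOm : Hyp Om) (h : ∀ K ∈ Om, IsType K)
    (hp : HasPieces (fam Om H)) (hK : K ∈ cov Om H) {a b : G} (ha : a ∈ H) (hb : b ∈ H) (haa : a * a = 1)
    (hbb : b * b = 1) (hab : a * b = b * a) (hKa : a ∈ ck K) (hKb : b ∈ ck K) (hO : OO H ≤ M)
    (hCa : H ⊓ centralizer {a} ≤ M) (hCb : H ⊓ centralizer {b} ≤ M) (hCab : H ⊓ centralizer {a * b} ≤ M) :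
    pre H (px Om H K) ≤ M := by
  have hgen : GenP (px Om H K) (tr H K) :=
    gen_of_piece hE (hyp_fam hOm h H) (ty_fam h H) hp.core (px_piece hOm h hp hK) (tr_mem hK) tr_le_px
  -- the elements `qm c`
  have hnorm : ∀ {c : G} (hc : c ∈ H), c ∈ ck K → qm H ⟨c, hc⟩ ∈ normalizer (px Om H K : Set (HQ H)) := by
    intro c hc hcK
    have h1 := qm_mem_centralizer_tr h hp.core hK hc hcK
    have h2 : cj (qm H ⟨c, hc⟩) (tr H K) = tr H K := by
      rw [← mem_normalizer_iff_cj]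
      exact centralizer_le_normalizer _ h1
    rw [mem_normalizer_iff_cj, px, cj_pc (hyp_fam hOm h H).conj, h2]
  have hcent : ∀ {c : G} (hc : c ∈ H), c * c = 1 → H ⊓ centralizer {c} ≤ M →
      px Om H K ⊓ centralizer {qm H ⟨c, hc⟩} ≤ (M.subgroupOf H).map (qm H) := by
    intro c hc hcc hCc x hx
    obtain ⟨y, rfl⟩ := qm_surjective H x
    have h1 := mem_centralizer_singleton_iff.1 (mem_inf.1 hx).2
    have hX : ¬ 2 ∣ Nat.card (pPrimeCore 2 ↥H) := not_two_dvd_oddCore ↥H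
    have hcc' : (⟨c, hc⟩ : H) * ⟨c, hc⟩ = 1 := Subtype.ext hcc
    have h2 : y⁻¹ * ((⟨c, hc⟩ : H) * y * (⟨c, hc⟩ : H)⁻¹) ∈ pPrimeCore 2 ↥H := by
      rw [← ker_qm, MonoidHom.mem_ker, map_mul, map_mul, map_mul, map_inv, map_inv, ← h1]
      group
    obtain ⟨k, hk, hky⟩ := CloseFus.exists_mul_comm hX hcc' h2
    refine ⟨y * k, ?_, ?_⟩
    · refine mem_subgroupOf.2 (hCc (mem_inf.2 ⟨(y * k).2, ?_⟩))
      exact mem_centralizer_singleton_iff.2 (congrArg Subtype.val hky)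
    · have h3 : qm H k = 1 := by
        have : k ∈ (qm H).ker := by rw [ker_qm]; exact hk
        exact this
      rw [map_mul, h3, mul_one]
  have hab' : qm H ⟨a, ha⟩ * qm H ⟨b, hb⟩ = qm H ⟨a * b, H.mul_mem ha hb⟩ := by
    rw [← map_mul]; rfl
  have hab2 : a * b * (a * b) = 1 := by
    calc a * b * (a * b) = a * (b * a) * b := by group
      _ = (a * a) * (b * b) := by rw [← hab]; group
      _ = 1 := by rw [haa, hbb, one_mul]
  have key : px Om H K ≤ (M.subgroupOf H).map (qm H) := by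
    refine hgen (qm H ⟨a, ha⟩) (qm H ⟨b, hb⟩) ?_ ?_ ?_ (hnorm ha hKa) (hnorm hb hKb)
      (qm_mem_centralizer_tr h hp.core hK ha hKa) (qm_mem_centralizer_tr h hp.core hK hb hKb) _
      (hcent ha haa hCa) (hcent hb hbb hCb) ?_
    · rw [← map_mul]
      have : (⟨a, ha⟩ : H) * ⟨a, ha⟩ = 1 := Subtype.ext haa
      rw [this, map_one]
    · rw [← map_mul]
      have : (⟨b, hb⟩ : H) * ⟨b, hb⟩ = 1 := Subtype.ext hbb
      rw [this, map_one]
    · rw [← map_mul, ← map_mul]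
      congr 1
      exact Subtype.ext hab
    · rw [hab']
      exact hcent (H.mul_mem ha hb) hab2 hCab
  intro x hx
  obtain ⟨hxH, hxD⟩ := mem_pre.1 hx
  obtain ⟨m, hm, hmx⟩ := key hxD
  have h1 : m⁻¹ * ⟨x, hxH⟩ ∈ pPrimeCore 2 ↥H := by
    rw [← ker_qm, MonoidHom.mem_ker, map_mul, map_inv, hmx, inv_mul_cancel]
  have h2 : x = (m : G) * ((m⁻¹ * ⟨x, hxH⟩ : H) : G) := by simp
  rw [h2]
  exact M.mul_mem hm (hO ⟨_, h1, rfl⟩)

/-- **LEMMA GOOD** -/
theorem le_of_klein (hE : ExcTrip.{u}) (e : Emb Om M) (h : ∀ K ∈ Om, IsType K) (hp : HasPieces (fam Om H))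
    (hK : K ∈ cov Om H) (hKM : K ∈ OmS Om M) {a b : G} (ha : a ∈ H) (hb : b ∈ H) (haa : a * a = 1)
    (hbb : b * b = 1) (hab : a * b = b * a) (hKa : a ∈ ck K) (hKb : b ∈ ck K)
    (hCa : centralizer {a} ≤ M) (hCb : centralizer {b} ≤ M) (hCab : centralizer {a * b} ≤ M) : H ≤ M := by
  have hO : OO H ≤ M := OO_le_of_four ha hb haa hbb hab hCa hCb hCab
  exact e.le_of_pre_le h hO hK hKM (pre_px_le_of_gen hE e.hyp h hp hK ha hb haa hbb hab hKa hKb hO
    (inf_le_right.trans hCa) (inf_le_right.trans hCb) (inf_le_right.trans hCab))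

omit [Finite G] in
theorem ne_of_mul_ne {a b : G} (haa : a * a = 1) (hne : b ≠ a) : a * b ≠ 1 := by
  intro h1
  apply hne
  calc b = (a * a) * b := by rw [haa, one_mul]
    _ = a * (a * b) := by group
    _ = a := by rw [h1, mul_one]

/-- an involution centralising a Sylow 2-subgroup of `K` acts trivially on `K / O(K)` -/
theorem mem_ck_of_cent (hOm : Hyp Om) (h : ∀ K ∈ Om, IsType K) (hK : K ∈ Om) {Q : Subgroup G} (hQ : Syl Q K)
    {r : G} (hr : r * r = 1) (hrQ : ∀ x ∈ Q, r * x = x * r) : r ∈ ck K := by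
  obtain ⟨c, v, n, hq⟩ := hOm.exists_gq hK hQ
  have hzQ : zz K ∈ Q := hq.z_mem
  have hrz : r * zz K * r⁻¹ = zz K := by rw [hrQ _ hzQ, mul_inv_cancel_right]
  have hcjQ : Cit.cj r Q = Q := by
    rw [← mem_normalizer_iff_cj]
    refine centralizer_le_normalizer _ (mem_centralizer_iff.2 fun x hx => (hrQ x hx).symm)
  have hrK : r ∈ normalizer (K : Set G) := by
    rw [mem_normalizer_iff_cj]
    rcases hOm.h2 K hK _ (hOm.conj K hK r) (by rw [hOm.zz_cj hK, hrz]) with h1 | h1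
    · exact h1.symm
    · exfalso
      have h2 : v ∈ Cit.cj r K := by
        have h3 := cj_mono r hQ.1
        rw [hcjQ] at h3
        exact h3 hq.v_mem
      have h3 := (h1.trans inf_le_left) (commutator_mem_commutator (hQ.1 hq.c_mem) h2)
      have h4 : ⁅c, v⁆ ∈ Q := by
        rw [commutatorElement_def]
        exact Q.mul_mem (Q.mul_mem (Q.mul_mem hq.c_mem hq.v_mem) (Q.inv_mem hq.c_mem)) (Q.inv_mem hq.v_mem)
      obtain ⟨k, hk⟩ := hQ.2.1 ⟨_, h4⟩
      have h5 : ⁅c, v⁆ = 1 := eq_one_of_odd (odd_OO K) h3 (a := k) (congrArg Subtype.val hk)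
      exact hq.not_comm (commutatorElement_eq_one_iff_mul_comm.1 h5).symm
  have h1 := AutAct.triv_of_cent (h K hK) hQ hrK (b := 1) (by rw [pow_one, pow_two, hr]) hrQ
  rw [mem_ck]
  intro k hk
  have h2 := inv_mem (h1 k hk)
  have e : (r * k * r⁻¹ * k⁻¹)⁻¹ = k * r * k⁻¹ * r⁻¹ := by group
  rwa [e] at h2

theorem le_normalizer_ES (hOm : Hyp Om) {g : G} (hg : g ∈ S) : g ∈ normalizer (ES Om S : Set G) := by
  rw [mem_normalizer_iff_cj, cj_ES hOm, mem_normalizer_iff_cj.1 (le_normalizer hg)]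

theorem exists_two {E : Subgroup G} (h4 : 4 ≤ Nat.card E) : ∃ a ∈ E, ∃ b ∈ E, a ≠ 1 ∧ b ≠ 1 ∧ b ≠ a := by
  obtain ⟨a, ha, ha1⟩ : ∃ a ∈ E, a ≠ 1 := by
    by_contra hcon
    push Not at hcon
    have : E = ⊥ := (Subgroup.eq_bot_iff_forall E).2 hcon
    rw [this, Subgroup.card_bot] at h4
    omega
  obtain ⟨b, hb, hb1, hba⟩ : ∃ b ∈ E, b ≠ 1 ∧ b ≠ a := by
    by_contra hcon
    push Not at hcon
    have h1 : (E : Set G) ⊆ {1, a} := by
      intro x hx
      by_cases hx1 : x = 1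
      · exact Or.inl hx1
      · exact Or.inr (hcon x hx hx1)
    have h2 := Set.ncard_le_ncard h1 (Set.toFinite _)
    have h3 : ({1, a} : Set G).ncard ≤ 2 := by
      rw [Set.ncard_pair (Ne.symm ha1)]
    have h5 : (E : Set G).ncard = Nat.card E := rfl
    omega
  exact ⟨a, ha, b, hb, ha1, hb1, hba⟩

/-- involutions `g` centralising `E(T)` and trivial on `K / O(K)`, `K ∈ Om(T)`, `T ≤ M` -/
theorem good_of_ES (hE : ExcTrip.{u}) (ms : MinS Om) (e : Emb Om M)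
    (m1 : ∀ S : Sylow 2 G, (S : Subgroup G) ≤ M → ∀ a ∈ ES Om (S : Subgroup G), a ≠ 1 → centralizer {a} ≤ M)
    (T : Sylow 2 G) (hTM : (T : Subgroup G) ≤ M) (hKT : K ∈ OmS Om (T : Subgroup G)) {g : G} (hg : g * g = 1)
    (hg1 : g ≠ 1) (hgK : g ∈ ck K) {a b : G} (ha : a ∈ ES Om (T : Subgroup G)) (hb : b ∈ ES Om (T : Subgroup G))
    (ha1 : a ≠ 1) (hb1 : b ≠ 1) (hba : b ≠ a) (hga : a * g = g * a) (hgb : b * g = g * b) :
    centralizer {g} ≤ M := by
  have hOm := ms.hyp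
  have hT := T.isPGroup'
  have haa := ES_sq hOm hT ha
  have hbb := ES_sq hOm hT hb
  have hab := ES_comm hOm hT ha hb
  have hcov : K ∈ cov Om (centralizer {g}) :=
    (mem_cov_iff_mem_ck hOm (isPGroup_zpowers_of_sq hg)).2 ⟨hKT.1, hgK⟩
  refine le_of_klein hE e ms.isType (ms.fam_cent hg1) hcov (OmS_mono hTM hKT)
    (mem_centralizer_singleton_iff.2 hga) (mem_centralizer_singleton_iff.2 hgb) haa hbb hab
    (ES_le_ck hOm hT hKT ha) (ES_le_ck hOm hT hKT hb) (m1 T hTM a ha ha1) (m1 T hTM b hb hb1)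
    (m1 T hTM _ (mul_mem ha hb) (ne_of_mul_ne haa hba))

/-- **(C)** -/
theorem cc (hE : ExcTrip.{u}) (ms : MinS Om) (e : Emb Om M)
    (m1 : ∀ S : Sylow 2 G, (S : Subgroup G) ≤ M → ∀ a ∈ ES Om (S : Subgroup G), a ≠ 1 → centralizer {a} ≤ M)
    (h4 : ∀ S : Sylow 2 G, 4 ≤ Nat.card (ES Om (S : Subgroup G)))
    (h8 : (∀ S : Sylow 2 G, 8 ≤ Nat.card (ES Om (S : Subgroup G))) ∨
      ∀ L ∈ Om, ∃ L' ∈ Om, L' ≠ L ∧ zz L' = zz L) : CloPoint.CC M (QQ Om M) := by
  haveI : Fact (Nat.Prime 2) := ⟨Nat.prime_two⟩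
  rintro Q ⟨K, hK, hQ⟩ r hr hr1 hrQ
  have hOm := ms.hyp
  have hrK : r ∈ ck K := mem_ck_of_cent hOm ms.isType hK.1 hQ hr hrQ
  have hrz : r * zz K = zz K * r := comm_zz_of_mem_ck hOm hK.1 hrK
  have hrM : r ∈ M := e.mem_of_zz_cent hK hrz
  have hcov : K ∈ cov Om (centralizer {r}) :=
    (mem_cov_iff_mem_ck hOm (isPGroup_zpowers_of_sq hr)).2 ⟨hK.1, hrK⟩
  -- a Sylow 2-subgroup containing `r` and `Q`
  have h1 : IsPGroup 2 (Q ⊔ zpowers r : Subgroup G) := by
    refine hQ.2.1.to_sup_of_normal_right' (isPGroup_zpowers_of_sq hr) ?_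
    refine le_trans ?_ (centralizer_le_normalizer _)
    rw [PairComm.centralizer_zpowers]
    exact fun x hx => mem_centralizer_singleton_iff.2 (hrQ x hx).symm
  obtain ⟨R, hR, hle⟩ := exists_syl_ge h1 (sup_le (hQ.1.trans (e.le hK)) (zpowers_le.2 hrM))
  obtain ⟨T, rfl⟩ := e.sylow hR
  have hTM : (T : Subgroup G) ≤ M := hR.1
  have hT := T.isPGroup'
  have hKT : K ∈ OmS Om (T : Subgroup G) := mem_OmS_of_le hK.1 hQ (le_sup_left.trans hle)
  have hrT : r ∈ (T : Subgroup G) := hle (mem_sup_right (mem_zpowers r))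
  have hrE := le_normalizer_ES hOm hrT
  -- the first case
  by_cases hA : ∃ a ∈ ES Om (T : Subgroup G), ∃ b ∈ ES Om (T : Subgroup G), a ≠ 1 ∧ b ≠ 1 ∧ b ≠ a ∧
      a * r = r * a ∧ b * r = r * b
  · obtain ⟨a, ha, b, hb, ha1, hb1, hba, har, hbr⟩ := hA
    exact good_of_ES hE ms e m1 T hTM hKT hr hr1 hrK ha hb ha1 hb1 hba har hbr
  -- the second case
  rcases h8 with h8 | hmate
  · exact absurd (CloseFus.exists_two_fixed (fun a ha b hb => ES_comm hOm hT ha hb) (fun a ha => ES_sq hOm hT ha)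
      (h8 T) hr hrE) hA
  obtain ⟨a, ha, b, hb, ha1, hb1, hba⟩ := exists_two (h4 T)
  -- a member whose involution does not commute with `r`
  obtain ⟨L, hL, hLr⟩ : ∃ L ∈ OmS Om (T : Subgroup G), zz L * r ≠ r * zz L := by
    by_contra hcon
    push Not at hcon
    have h2 : ES Om (T : Subgroup G) ≤ centralizer {r} := by
      rw [ES_le_iff]
      exact fun L hL => mem_centralizer_singleton_iff.2 (hcon L hL)
    exact hA ⟨a, ha, b, hb, ha1, hb1, hba, mem_centralizer_singleton_iff.1 (h2 ha),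
      mem_centralizer_singleton_iff.1 (h2 hb)⟩
  obtain ⟨L', hL', hne, hzz⟩ := hmate L hL.1
  have hL'T : L' ∈ OmS Om (T : Subgroup G) := hOm.mem_OmS_of_zz_eq T hL hL' hzz
  have hri : r⁻¹ = r := inv_eq_of_mul_eq_one_right hr
  have hcjT : cj r (T : Subgroup G) = T := mem_normalizer_iff_cj.1 (le_normalizer hrT)
  have hLr' : cj r L ∈ OmS Om (T : Subgroup G) := by
    have := cj_mem_OmS hOm.conj r hL
    rwa [hcjT] at this
  have hL'r : cj r L' ∈ OmS Om (T : Subgroup G) := by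
    have := cj_mem_OmS hOm.conj r hL'T
    rwa [hcjT] at this
  have hzr : ∀ N ∈ Om, zz N = zz L → zz (cj r N) ≠ zz L := by
    intro N hN hNz h2
    rw [hOm.zz_cj hN, hNz, mul_inv_eq_iff_eq_mul] at h2
    exact hLr h2.symm
  have hmem : ∀ {N : Subgroup G} {x : G}, x ∈ N ⊓ (T : Subgroup G) → r * x * r⁻¹ ∈ cj r N ⊓ (T : Subgroup G) := by
    intro N x hx
    refine mem_inf.2 ⟨conj_mem_cj (mem_inf.1 hx).1, ?_⟩
    exact mul_mem (mul_mem hrT (mem_inf.1 hx).2) (inv_mem hrT)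
  have hcomm : ∀ {N P : Subgroup G}, N ∈ OmS Om (T : Subgroup G) → P ∈ OmS Om (T : Subgroup G) → N ≠ P →
      ∀ {x y : G}, x ∈ N ⊓ (T : Subgroup G) → y ∈ P ⊓ (T : Subgroup G) → x * y = y * x :=
    fun hN hP hne x y hx hy => hOm.comm hT hN hP hne hx hy
  -- elements of order four
  obtain ⟨c, v0, n, hq⟩ := hOm.exists_gq hL.1 (syl_inf hT hL)
  obtain ⟨v, hv, x, hx, hv4, hx4, hvx, hxv⟩ := hq.exists_pair
  obtain ⟨c', v0', n', hq'⟩ := hOm.exists_gq hL'T.1 (syl_inf hT hL'T)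
  obtain ⟨v', hv', x', hx', hv4', hx4', hvx', hxv'⟩ := hq'.exists_pair
  have hvv : v * v = zz L := hOm.sq_eq_zz hL.1 (mem_inf.1 hv).1 hv4
  have hvv' : v' * v' = zz L := by rw [← hzz]; exact hOm.sq_eq_zz hL' (mem_inf.1 hv').1 hv4'
  -- distinctness
  have hLz : zz L * zz L = 1 := hOm.zz_mul hL.1
  have hL1 : zz L ≠ 1 := hOm.zz_ne hL.1
  have d1 : L ≠ L' := fun h2 => hne h2.symm
  have d2 : ∀ {N P : Subgroup G}, N ∈ Om → P ∈ Om → zz N = zz L → zz P = zz L → N ≠ cj r P := by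
    intro N P hN hP hNz hPz h2
    exact hzr P hP hPz (by rw [← h2, hNz])
  have d3 : ∀ {N : Subgroup G}, zz N = zz L → K ≠ N := by
    intro N hNz h2
    rw [h2, hNz] at hrz
    exact hLr hrz.symm
  have d4 : ∀ {N : Subgroup G}, N ∈ Om → zz N = zz L → K ≠ cj r N := by
    intro N hN hNz h2
    apply hLr
    have h3 : zz K = r * zz L * r⁻¹ := by rw [h2, hOm.zz_cj hN, hNz]
    rw [h3] at hrz
    have h4 : r * (r * zz L * r⁻¹) = r * zz L := by
      rw [hrz]; group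
    have h5 : r * zz L * r⁻¹ = zz L := mul_left_cancel h4
    rw [mul_inv_eq_iff_eq_mul] at h5
    exact h5.symm
  -- the elements `g' = v v'`, `w = g'^r`, `g = g' w`
  have c1 : v * v' = v' * v := hcomm hL hL'T d1 hv hv'
  have hw1 := hmem hv
  have hw2 := hmem hv'
  have c2 : v * (r * v * r⁻¹) = r * v * r⁻¹ * v := hcomm hL hLr' (d2 hL.1 hL.1 rfl rfl) hv hw1
  have c3 : v * (r * v' * r⁻¹) = r * v' * r⁻¹ * v := hcomm hL hL'r (d2 hL.1 hL' rfl hzz) hv hw2
  have c4 : v' * (r * v * r⁻¹) = r * v * r⁻¹ * v' := hcomm hL'T hLr' (d2 hL' hL.1 hzz rfl) hv' hw1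
  have c5 : v' * (r * v' * r⁻¹) = r * v' * r⁻¹ * v' := hcomm hL'T hL'r (d2 hL' hL' hzz hzz) hv' hw2
  have c6 : x * (r * v * r⁻¹) = r * v * r⁻¹ * x := hcomm hL hLr' (d2 hL.1 hL.1 rfl rfl) hx hw1
  have c7 : x * (r * v' * r⁻¹) = r * v' * r⁻¹ * x := hcomm hL hL'r (d2 hL.1 hL' rfl hzz) hx hw2
  have c8 : x * v' = v' * x := hcomm hL hL'T d1 hx hv'
  have hg'2 : v * v' * (v * v') = 1 := by
    calc v * v' * (v * v') = v * (v' * v) * v' := by group
      _ = v * v * (v' * v') := by rw [← c1]; group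
      _ = 1 := by rw [hvv, hvv', hLz]
  obtain ⟨w, hw⟩ : ∃ w, w = r * v * r⁻¹ * (r * v' * r⁻¹) := ⟨_, rfl⟩
  have hw' : w = r * (v * v') * r⁻¹ := by rw [hw]; group
  have hww : w * w = 1 := by
    rw [hw']
    calc r * (v * v') * r⁻¹ * (r * (v * v') * r⁻¹) = r * (v * v' * (v * v')) * r⁻¹ := by group
      _ = 1 := by rw [hg'2]; group
  have hvw : Commute v w := by rw [hw]; exact Commute.mul_right c2 c3
  have hv'w : Commute v' w := by rw [hw]; exact Commute.mul_right c4 c5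
  have hxw : Commute x w := by rw [hw]; exact Commute.mul_right c6 c7
  have hgw : Commute (v * v') w := hvw.mul_left hv'w
  obtain ⟨g, hg⟩ : ∃ g, g = v * v' * w := ⟨_, rfl⟩
  have hgg : g * g = 1 := by
    rw [hg]
    calc v * v' * w * (v * v' * w) = v * v' * (w * (v * v')) * w := by group
      _ = (v * v' * (v * v')) * (w * w) := by rw [← hgw.eq]; group
      _ = 1 := by rw [hg'2, hww, one_mul]
  have hgr : g * r = r * g := by
    have h2 : r * w = v * v' * r := by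
      rw [hw']
      calc r * (r * (v * v') * r⁻¹) = (r * r) * (v * v') * r⁻¹ := by group
        _ = v * v' * r := by rw [hr, one_mul, hri]
    have h3 : w * r = r * (v * v') := by rw [hw']; group
    calc g * r = v * v' * (w * r) := by rw [hg]; group
      _ = (v * v' * r) * (v * v') := by rw [h3]; group
      _ = r * (w * (v * v')) := by rw [← h2]; group
      _ = r * g := by rw [← hgw.eq, hg]
  have hDD : ∀ {N : Subgroup G} {y : G}, N ∈ OmS Om (T : Subgroup G) → y ∈ N ⊓ (T : Subgroup G) →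
      y ∈ centralizer (ES Om (T : Subgroup G) : Set G) :=
    fun hN hy => DD_le_centralizer_ES hOm hT (inf_le_DD hN hy)
  have hgE : g ∈ centralizer (ES Om (T : Subgroup G) : Set G) := by
    rw [hg, hw]
    exact mul_mem (mul_mem (hDD hL hv) (hDD hL'T hv')) (mul_mem (hDD hLr' hw1) (hDD hL'r hw2))
  have hgK : g ∈ ck K := by
    rw [hg, hw]
    exact mul_mem (mul_mem (inf_le_ck hOm hT hKT hL (d3 rfl) hv) (inf_le_ck hOm hT hKT hL'T (d3 hzz) hv'))
      (mul_mem (inf_le_ck hOm hT hKT hLr' (d4 hL.1 rfl) hw1) (inf_le_ck hOm hT hKT hL'r (d4 hL' hzz) hw2))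
  have hxg : x * g ≠ g * x := by
    intro h2
    apply hL1
    have hzv : zz L * v' = v' * zz L := by rw [← hvv']; group
    have hzw : Commute (zz L) w := by rw [← hvv]; exact hvw.mul_left hvw
    have hzx : zz L * x = x * zz L := by
      rw [← hOm.sq_eq_zz hL.1 (mem_inf.1 hx).1 hx4]; group
    have h3 : x * g = g * x * zz L := by
      calc x * g = x * v * (v' * w) := by rw [hg]; group
        _ = v * x * (zz L * v') * w := by rw [hxv]; group
        _ = v * (x * v') * (zz L * w) := by rw [hzv]; group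
        _ = v * v' * (x * w) * zz L := by rw [c8, hzw.eq]; group
        _ = v * v' * w * (x * zz L) := by rw [hxw.eq]; group
        _ = g * x * zz L := by rw [hg]; group
    rw [h2] at h3
    exact (mul_eq_left.1 h3.symm)
  have hxE := hDD hL hx
  have hzK : zz K ∈ ES Om (T : Subgroup G) := zz_mem_ES hKT
  have hzx : zz K * x = x * zz K := mem_centralizer_iff.1 hxE _ hzK
  have hg1 : g ≠ 1 := by
    rintro rfl
    exact hxg (by rw [mul_one, one_mul])
  have hzg : zz K ≠ g := by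
    rintro rfl
    exact hxg hzx.symm
  have hzz2 : zz K * zz K = 1 := hOm.zz_mul hK.1
  have hzgc : zz K * g = g * zz K := mem_centralizer_iff.1 hgE _ hzK
  have hEc : ∀ y ∈ ES Om (T : Subgroup G), y * g = g * y := fun y hy => mem_centralizer_iff.1 hgE y hy
  have hEc' : ∀ y ∈ ES Om (T : Subgroup G), y * (zz K * g) = zz K * g * y := by
    intro y hy
    rw [← mul_assoc, ES_comm hOm hT hy hzK, mul_assoc, hEc y hy, mul_assoc]
  have g1 := good_of_ES hE ms e m1 T hTM hKT hgg hg1 hgK ha hb ha1 hb1 hba (hEc a ha) (hEc b hb)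
  have g2 : centralizer {zz K * g} ≤ M := by
    refine good_of_ES hE ms e m1 T hTM hKT ?_ ?_ (mul_mem (zz_mem_ck hOm hK.1) hgK) ha hb ha1 hb1 hba
      (hEc' a ha) (hEc' b hb)
    · calc zz K * g * (zz K * g) = zz K * (g * zz K) * g := by group
        _ = (zz K * zz K) * (g * g) := by rw [← hzgc]; group
        _ = 1 := by rw [hzz2, hgg, one_mul]
    · exact ne_of_mul_ne hzz2 (Ne.symm hzg)
  exact le_of_klein hE e ms.isType (ms.fam_cent hr1) hcov hK
    (mem_centralizer_singleton_iff.2 hrz.symm) (mem_centralizer_singleton_iff.2 hgr) hzz2 hgg hzgc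
    (zz_mem_ck hOm hK.1) hgK (m1 T hTM _ hzK (hOm.zz_ne hK.1)) g1 g2

end Cfsg.Agent.Cit.GenGood
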