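import Cfsg.Agent.Cit.CloseBig
import Cfsg.Agent.Cit.GenGood
import Cfsg.Agent.Cit.CloOne
import Cfsg.Agent.Cit.CloTwin

/-!
# CONN / CLOSE: THEOREM CLOSE

`close` : in the core case (`MinS Om`) with `|E(S)| ≥ 4` there is no `M < G` with `N_G(E(S)) ≤ M` and `C_G(a) ≤ M` for
all `a ∈ E(S)`, `a ≠ 1`.  External inputs: Bender's theorem (`Bend G`), S1174 (`Crit1174 G`), S1175 (`Crit1175 G`).

Inputs which are stated as `Prop`s here: `SwStmt` (SWAP), `TwinStmt` (`τ = 2`), `KFStmt` (three members over an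
involution occur only in type `D 4`), `GenChart.ExcTrip` ((F3) for `G₂(q)`, `³D₄(q)`, `M₁₁`).
-/

set_option autoImplicit false
set_option linter.unusedSectionVars false
set_option linter.style.haveILetI false
set_option linter.dupNamespace false

namespace Cfsg.Agent.Cit.CloseMain

open Subgroup Cfsg Cfsg.Agent.Cit SubCent CloGraph UseT

universe u

/-- (M1) for the subgroup `M` -/
def MOne {G : Type*} [Group G] (Om : Set (Subgroup G)) (M : Subgroup G) : Prop :=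
  ∀ S : Sylow 2 G, (S : Subgroup G) ≤ M → ∀ a ∈ ES Om (S : Subgroup G), a ≠ 1 → centralizer {a} ≤ M

/-- `τ ≤ 2` : at most two members over an involution -/
def TauTwo {G : Type*} [Group G] (Om : Set (Subgroup G)) : Prop :=
  ∀ K ∈ Om, ∀ L ∈ Om, ∀ N ∈ Om, zz K = zz L → zz K = zz N → K = L ∨ K = N ∨ L = N

/-- SWAP -/
def SwStmt : Prop := ∀ (G : Type u) [Group G] [Finite G] (Om : Set (Subgroup G)), MinS Om →
  (∀ S : Sylow 2 G, 4 ≤ Nat.card (ES Om (S : Subgroup G))) → CloH2.Sw Om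

/-- `τ = 2` -/
def TwinStmt : Prop := ∀ (G : Type u) [Group G] [Finite G] (Om : Set (Subgroup G)) (M : Subgroup G), MinS Om →
  Emb Om M → MOne Om M → CloPoint.Clo M (QQ Om M) → CloPoint.CC M (QQ Om M) →
  (∀ S : Sylow 2 G, 4 ≤ Nat.card (ES Om (S : Subgroup G))) → TauTwo Om →
  (∀ L ∈ Om, ∃ L' ∈ Om, L' ≠ L ∧ zz L' = zz L) → M ≠ ⊤ → CloEnd.Bend G → CloEnd.Crit1175 G → False

/-- (KF) -/
def KFStmt : Prop := ∀ (X : Type u) [Group X] [Finite X] (Om : Set (Subgroup X)), Hyp Om → (∀ K ∈ Om, Ty K) →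
  (∀ K ∈ Om, OO K = ⊥) → CloseBig.KFs Om

variable {G : Type u} [Group G] [Finite G] {Om : Set (Subgroup G)} {M : Subgroup G}

/-- if two different members have the same involution then every member has a twin -/
theorem exists_twin (ms : MinS Om) (h : ¬ CloOne.Inj Om) : ∀ L ∈ Om, ∃ L' ∈ Om, L' ≠ L ∧ zz L' = zz L := by
  rw [CloOne.Inj] at h
  push Not at h
  obtain ⟨K, hK, L, hL, hz, hne⟩ := h
  intro J hJ
  obtain ⟨g, rfl⟩ := ms.cls K hK J hJ
  refine ⟨cj g L, ms.hyp.conj L hL g, fun h1 => hne ?_, ?_⟩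
  · rw [← cj_inv_cj g K, ← h1, cj_inv_cj]
  · rw [ms.hyp.zz_cj hL, ms.hyp.zz_cj hK, hz]

/-- three different members over one involution: over every involution -/
theorem exists_three (ms : MinS Om) (h : ¬ TauTwo Om) :
    ∀ K ∈ Om, ∃ L ∈ Om, ∃ N ∈ Om, K ≠ L ∧ K ≠ N ∧ L ≠ N ∧ zz L = zz K ∧ zz N = zz K := by
  rw [TauTwo] at h
  push Not at h
  obtain ⟨K, hK, L, hL, N, hN, h1, h2, h3, h4, h5⟩ := h
  have hinj : ∀ (g : G) (A B : Subgroup G), cj g A = cj g B → A = B := by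
    intro g A B hAB
    rw [← cj_inv_cj g A, hAB, cj_inv_cj]
  intro J hJ
  obtain ⟨g, rfl⟩ := ms.cls K hK J hJ
  refine ⟨cj g L, ms.hyp.conj L hL g, cj g N, ms.hyp.conj N hN g, fun e => h3 (hinj g _ _ e),
    fun e => h4 (hinj g _ _ e), fun e => h5 (hinj g _ _ e), ?_, ?_⟩
  · rw [ms.hyp.zz_cj hL, ms.hyp.zz_cj hK, h1]
  · rw [ms.hyp.zz_cj hN, ms.hyp.zz_cj hK, h2]

/-- **THEOREM CLOSE** on `Emb` -/
theorem false_of_emb (hSw : SwStmt.{u}) (hE : GenChart.ExcTrip.{u}) (hTw : TwinStmt.{u}) (hKF : KFStmt.{u})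
    (ms : MinS Om) (hB : CloEnd.Bend G) (h74 : CloEnd.Crit1174 G) (h75 : CloEnd.Crit1175 G) (e : Emb Om M)
    (m1 : MOne Om M) (h4 : ∀ S : Sylow 2 G, 4 ≤ Nat.card (ES Om (S : Subgroup G))) (hM : M ≠ ⊤) : False := by
  have hT : ∀ K ∈ Om, TyTwo K := fun K hK => (ms.isType K hK).tyTwo
  have c : CloPoint.Clo M (QQ Om M) := CloH2.clo e hT (hSw G Om ms h4) m1 h4
  by_cases h1 : CloOne.Inj Om
  · obtain ⟨S, hS⟩ := e.exists_sylow
    exact CloOne.false_of_clo e m1 c h1 hM hB h75 ⟨S, hS, h4 S⟩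
  have htw := exists_twin ms h1
  have cc : CloPoint.CC M (QQ Om M) := GenGood.cc hE ms e m1 h4 (Or.inr htw)
  by_cases h2 : TauTwo Om
  · exact hTw G Om M ms e m1 c cc h4 h2 htw hM hB h75
  · refine CloseBig.false_of_three ms e c cc hM hB h74 h75 h4 ?_ (exists_three ms h2)
    have hp : HasPieces (fam Om M) := ms.fam_hasPieces hM
    exact hKF (HQ M) (fam Om M) (hyp_fam ms.hyp ms.isType M) (ty_fam ms.isType M) hp.core

/-- **THEOREM CLOSE** -/
theorem close (hSw : SwStmt.{u}) (hE : GenChart.ExcTrip.{u}) (hTw : TwinStmt.{u}) (hKF : KFStmt.{u})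
    (ms : MinS Om) (hB : CloEnd.Bend G) (h74 : CloEnd.Crit1174 G) (h75 : CloEnd.Crit1175 G) (S : Sylow 2 G)
    (h4 : 4 ≤ Nat.card (ES Om (S : Subgroup G))) (hN : normalizer (ES Om (S : Subgroup G) : Set G) ≤ M)
    (hC : ∀ a ∈ ES Om (S : Subgroup G), a ≠ 1 → centralizer {a} ≤ M) : M = ⊤ := by
  by_contra hM
  refine false_of_emb hSw hE hTw hKF ms hB h74 h75 (Close.emb_of ms.hyp ms.ne S hN hC)
    (fun T hT => Close.m1_of ms.hyp S hN hC T hT) (fun T => ?_) hM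
  rw [Close.card_ES ms.hyp T S]; exact h4

end Cfsg.Agent.Cit.CloseMain
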