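import Cfsg.Agent.Cit.CloSwTau
import Cfsg.Agent.Cit.CloseMain

/-!
# `CloseMain.SwStmt`
-/

set_option autoImplicit false

namespace Cfsg.Agent.Cit.CloSw

open Subgroup Cfsg

universe u

/-- the input `SwStmt` of THEOREM CLOSE -/
theorem swStmt : CloseMain.SwStmt.{u} := fun _ _ _ _ ms _ =>
  sw_any ms.hyp ms.isType fun K hK L hL => by
    obtain ⟨g, hg⟩ := ms.cls K hK L hL
    exact ⟨g, hg.symm⟩

end Cfsg.Agent.Cit.CloSw
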