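import Cfsg.Agent.Cit.CloSw
import Cfsg.Agent.Cit.CloCount
import Cfsg.Agent.Cit.OneQuat

/-!
# `Sw Om` for every number `τ` of members over an involution

`y` an involution with members, moving `zz K`, `K ∈ Om(S)`, `y ∈ S`; `K_1, …, K_τ` the members over `zz K`,
`R` the central product of the quaternion groups `{x x^y : x ∈ K_i ⊓ S}` with involution `a = zz K (zz K)^y`. `R` acts
on the set `X` of the `τ` members over `y`. By the counting lemma of `CloCount` an `R`-orbit on which `a` is fixed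
point free has length at least `2 ^ (τ + 1)`. So `a` normalises all members of `X`; if `a` is not trivial on `L ∈ X`,
then an element `w` of a Sylow 2-subgroup of `L` moved by `a` has an orbit of length at most `8 |L^R|`
(`short_orbit`): a contradiction for `τ = 3` (`L` fixed by `R`) and for `τ ≥ 5`.
-/

set_option autoImplicit false
set_option linter.style.haveILetI false
set_option linter.unusedSectionVars false

namespace Cfsg.Agent.Cit.CloSw

open Subgroup Cfsg OneBasic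
open scoped commutatorElement

variable {G : Type*} [Group G]

/-! ### A short orbit on a generalised quaternion group -/

section Short

variable [Finite G] {Q H : Subgroup G} {c v z a : G} {n : ℕ}

theorem orderOf_four (hq : GQ Q c v z n) : orderOf (c ^ 2 ^ n) = 4 := by
  apply GQ.orderOf_of_sq (z := z) _ hq.z_mul hq.z_ne
  rw [← pow_add, ← two_mul, ← pow_succ', hq.z_eq]

theorem comm_of_zpowers {c x y : G} (hx : x ∈ zpowers c) (hy : y ∈ zpowers c) : x * y = y * x := by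
  obtain ⟨i, rfl⟩ := hx
  obtain ⟨j, rfl⟩ := hy
  show c ^ i * c ^ j = c ^ j * c ^ i
  rw [← zpow_add, ← zpow_add, add_comm]

/-- an element centralising `d = c ^ 2 ^ n` and inverting `x ∈ ⟨c⟩` -/
theorem sq_eq_one_of_inv (hq : GQ Q c v z n) {g x : G} (hgd : g * c ^ 2 ^ n = c ^ 2 ^ n * g) (hx : x ∈ zpowers c)
    (hgx : g * x * g⁻¹ = x⁻¹) : x * x = 1 := by
  by_contra hne
  have hxc : orderOf x ∣ 2 ^ (n + 2) := by
    rw [← hq.ord]
    exact orderOf_dvd_of_mem_zpowers hx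
  obtain ⟨k, -, hk⟩ := (Nat.dvd_prime_pow Nat.prime_two).1 hxc
  have hk2 : 2 ≤ k := by
    by_contra hlt
    apply hne
    rw [← pow_two, ← orderOf_dvd_iff_pow_eq_one, hk]
    have : k ≤ 1 := by omega
    exact pow_dvd_pow 2 this
  have h4 : orderOf (x ^ 2 ^ (k - 2)) = 4 := by
    rw [orderOf_pow_of_dvd (by positivity) (by rw [hk]; exact pow_dvd_pow 2 (by omega)), hk,
      Nat.pow_div (by omega) (by norm_num)]
    have : k - (k - 2) = 2 := by omega
    rw [this]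
  have hyC : x ^ 2 ^ (k - 2) ∈ zpowers c := pow_mem hx _
  have hdC : c ^ 2 ^ n ∈ zpowers c := pow_mem (mem_zpowers c) _
  have hgy : g * x ^ 2 ^ (k - 2) * g⁻¹ = (x ^ 2 ^ (k - 2))⁻¹ := by
    rw [← conj_pow, hgx, inv_pow]
  have hcQ := hq.zpowers_le
  have hgy2 : g * x ^ 2 ^ (k - 2) * g⁻¹ = x ^ 2 ^ (k - 2) := by
    rcases hq.comm_four (hcQ hyC) (hcQ hdC) h4 (orderOf_four hq) (comm_of_zpowers hyC hdC) with h1 | h1
    · rw [h1, hgd, mul_inv_cancel_right]
    · rw [h1]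
      calc g * (c ^ 2 ^ n)⁻¹ * g⁻¹ = (g * c ^ 2 ^ n * g⁻¹)⁻¹ := by group
        _ = (c ^ 2 ^ n)⁻¹ := by rw [hgd]; group
  exact hq.ne_inv_of_four (hcQ hyC) h4 (hgy2.symm.trans hgy)

/-- the orbit of `w`, when `[w, H] ≤ ⟨c⟩` -/
theorem orbit_le (hq : GQ Q c v z n) (hHc : ∀ h ∈ H, h * c * h⁻¹ ∈ zpowers c) (ha : a ∈ H) (haa : a * a = 1)
    (hsq : ∀ h ∈ H, h * h = 1 ∨ h * h = a) (had : a * c ^ 2 ^ n = c ^ 2 ^ n * a) {w : G}
    (hwC : ∀ h ∈ H, h * w * h⁻¹ * w⁻¹ ∈ zpowers c) (haw : a * w ≠ w * a) :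
    ({g | ∃ h ∈ H, h * w * h⁻¹ = g} : Set G).ncard ≤ 8 := by
  classical
  have hcQ := hq.zpowers_le
  set d := c ^ 2 ^ n with hd
  have hdC : d ∈ zpowers c := pow_mem (mem_zpowers c) _
  have hd4 : orderOf d = 4 := orderOf_four hq
  have hdd : d * d = z := hq.sq_of_four (hcQ hdC) hd4
  have hzC : z ∈ zpowers c := by rw [← hdd]; exact mul_mem hdC hdC
  have haeq : a * w * a⁻¹ = z * w := by
    have h1 := hwC a ha
    have h2 : a * (a * w * a⁻¹ * w⁻¹) * a⁻¹ = (a * w * a⁻¹ * w⁻¹)⁻¹ := by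
      have hai : a⁻¹ = a := inv_eq_of_mul_eq_one_right haa
      calc a * (a * w * a⁻¹ * w⁻¹) * a⁻¹ = (a * a) * w * a⁻¹ * w⁻¹ * a⁻¹ := by group
        _ = w * a⁻¹ * w⁻¹ * a⁻¹ := by rw [haa, one_mul]
        _ = w * a * w⁻¹ * a⁻¹ := by rw [hai]
        _ = (a * w * a⁻¹ * w⁻¹)⁻¹ := by group
    have h3 := sq_eq_one_of_inv hq had h1 h2
    have h4 : a * w * a⁻¹ * w⁻¹ ≠ 1 := by
      intro h5
      apply haw
      calc a * w = (a * w * a⁻¹ * w⁻¹) * w * a := by group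
        _ = w * a := by rw [h5, one_mul]
    have h5 := hq.eq_z (hcQ h1) h3 h4
    calc a * w * a⁻¹ = (a * w * a⁻¹ * w⁻¹) * w := by group
      _ = z * w := by rw [h5]
  set F : Finset G := {w, d * d * w, d * w, d⁻¹ * w} with hF
  have hFc : F.card ≤ 4 := Finset.card_le_four
  have key : ∀ g ∈ H, g * d = d * g → g * w * g⁻¹ ∈ F := by
    intro g hg hgd
    set e := g * w * g⁻¹ * w⁻¹ with he
    have heC : e ∈ zpowers c := hwC g hg
    have hew : g * w * g⁻¹ = e * w := by rw [he]; group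
    have h1 : g * (e * e) * g⁻¹ = (e * e)⁻¹ := by
      have h2 : g * e * g⁻¹ = (g * g) * w * (g * g)⁻¹ * (g * w * g⁻¹)⁻¹ := by rw [he]; group
      rcases hsq g hg with h3 | h3
      · have h4 : g * e * g⁻¹ = e⁻¹ := by rw [h2, h3, he]; group
        calc g * (e * e) * g⁻¹ = (g * e * g⁻¹) * (g * e * g⁻¹) := by group
          _ = (e * e)⁻¹ := by rw [h4]; group
      · have h4 : g * e * g⁻¹ = z * e⁻¹ := by
          rw [h2, h3, haeq, he]; group
        have h5 : e⁻¹ * z = z * e⁻¹ := comm_of_zpowers (inv_mem heC) hzC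
        calc g * (e * e) * g⁻¹ = (g * e * g⁻¹) * (g * e * g⁻¹) := by group
          _ = z * (e⁻¹ * z) * e⁻¹ := by rw [h4]; group
          _ = (z * z) * (e * e)⁻¹ := by rw [h5]; group
          _ = (e * e)⁻¹ := by rw [hq.z_mul, one_mul]
    have h2 := sq_eq_one_of_inv hq hgd (mul_mem heC heC) h1
    rw [hew, hF]
    simp only [Finset.mem_insert, Finset.mem_singleton]
    by_cases h3 : e * e = 1
    · by_cases h4 : e = 1
      · left; rw [h4, one_mul]
      · right; left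
        rw [hq.eq_z (hcQ heC) h3 h4, hdd]
    · have h4 := hq.eq_z (Q.mul_mem (hcQ heC) (hcQ heC)) h2 h3
      have h5 := GQ.orderOf_of_sq h4 hq.z_mul hq.z_ne
      rcases hq.comm_four (hcQ heC) (hcQ hdC) h5 hd4 (comm_of_zpowers heC hdC) with h6 | h6
      · right; right; left; rw [h6]
      · right; right; right; rw [h6]
  have hcases : ∀ h ∈ H, h * d = d * h ∨ h * d = d⁻¹ * h := by
    intro h hh
    have h1 : h * d * h⁻¹ ∈ zpowers c := by
      rw [hd, ← conj_pow]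
      exact pow_mem (hHc h hh) _
    have h2 : orderOf (h * d * h⁻¹) = 4 := by
      rw [← hd4]
      exact (MulAut.conj h).orderOf_eq d
    rcases hq.comm_four (hcQ h1) (hcQ hdC) h2 hd4 (comm_of_zpowers h1 hdC) with h3 | h3
    · left
      calc h * d = (h * d * h⁻¹) * h := by group
        _ = d * h := by rw [h3]
    · right
      calc h * d = (h * d * h⁻¹) * h := by group
        _ = d⁻¹ * h := by rw [h3]
  by_cases ht : ∃ t ∈ H, t * d ≠ d * t
  · obtain ⟨t, htH, ht⟩ := ht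
    have ht' := (hcases t htH).resolve_left ht
    have hsub : ({g | ∃ h ∈ H, h * w * h⁻¹ = g} : Set G) ⊆
        ((F ∪ F.image (fun x => t * x * t⁻¹) : Finset G) : Set G) := by
      rintro _ ⟨h, hh, rfl⟩
      rw [Finset.mem_coe, Finset.mem_union, Finset.mem_image]
      rcases hcases h hh with h1 | h1
      · left; exact key h hh h1
      · right
        refine ⟨(t⁻¹ * h) * w * (t⁻¹ * h)⁻¹, key _ (H.mul_mem (H.inv_mem htH) hh) ?_, by group⟩
        have h2 : t⁻¹ * d⁻¹ = d * t⁻¹ := by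
          calc t⁻¹ * d⁻¹ = t⁻¹ * (d⁻¹ * t) * t⁻¹ := by group
            _ = t⁻¹ * (t * d) * t⁻¹ := by rw [ht']
            _ = d * t⁻¹ := by group
        calc t⁻¹ * h * d = t⁻¹ * (h * d) := by group
          _ = t⁻¹ * d⁻¹ * h := by rw [h1]; group
          _ = d * (t⁻¹ * h) := by rw [h2]; group
    calc _ ≤ ((F ∪ F.image (fun x => t * x * t⁻¹) : Finset G) : Set G).ncard :=
          Set.ncard_le_ncard hsub (Finset.finite_toSet _)
      _ = (F ∪ F.image (fun x => t * x * t⁻¹)).card := Set.ncard_coe_finset _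
      _ ≤ F.card + (F.image (fun x => t * x * t⁻¹)).card := Finset.card_union_le _ _
      _ ≤ 4 + 4 := Nat.add_le_add hFc (Finset.card_image_le.trans hFc)
  · push Not at ht
    have hsub : ({g | ∃ h ∈ H, h * w * h⁻¹ = g} : Set G) ⊆ (F : Set G) := by
      rintro _ ⟨h, hh, rfl⟩
      exact key h hh (ht h hh)
    calc _ ≤ (F : Set G).ncard := Set.ncard_le_ncard hsub (Finset.finite_toSet _)
      _ = F.card := Set.ncard_coe_finset _
      _ ≤ 8 := hFc.trans (by norm_num)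

/-- **short orbits**: `H` normalises the generalised quaternion group `Q` and `⟨c⟩`, all squares of elements of `H` are in
`{1, a}`, `a` does not centralise `Q`. -/
theorem short_orbit (hq : GQ Q c v z n) (hHQ : H ≤ normalizer (Q : Set G))
    (hHc : ∀ h ∈ H, h * c * h⁻¹ ∈ zpowers c) (ha : a ∈ H) (haa : a * a = 1)
    (hsq : ∀ h ∈ H, h * h = 1 ∨ h * h = a) (hna : ∃ x ∈ Q, a * x ≠ x * a) :
    ∃ w ∈ Q, a * w ≠ w * a ∧ ({g | ∃ h ∈ H, h * w * h⁻¹ = g} : Set G).ncard ≤ 8 := by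
  classical
  have hcQ := hq.zpowers_le
  have hdC : c ^ 2 ^ n ∈ zpowers c := pow_mem (mem_zpowers c) _
  by_cases had : a * c ^ 2 ^ n = c ^ 2 ^ n * a
  · -- `a` moves `c` or `v`
    have hcv : a * c ≠ c * a ∨ a * v ≠ v * a := by
      by_contra hcon
      push Not at hcon
      obtain ⟨x, hx, hne⟩ := hna
      apply hne
      have h1 : Commute a c := hcon.1
      have h2 : Commute a v := hcon.2
      rcases hq.cov x hx with ⟨i, rfl⟩ | ⟨i, rfl⟩
      · exact (h1.pow_right i).eq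
      · exact (h2.mul_right (h1.pow_right i)).eq
    rcases hcv with h1 | h1
    · exact ⟨c, hq.c_mem, h1, orbit_le hq hHc ha haa hsq had
        (fun h hh => mul_mem (hHc h hh) (inv_mem (mem_zpowers c))) h1⟩
    · refine ⟨v, hq.v_mem, h1, orbit_le hq hHc ha haa hsq had (fun h hh => ?_) h1⟩
      have h2 : h * v * h⁻¹ ∈ Q := (mem_normalizer_iff.1 (hHQ hh) v).1 hq.v_mem
      rcases hq.cov _ h2 with ⟨i, hi⟩ | ⟨i, hi⟩
      · exfalso
        have h3 : v ∈ zpowers c := by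
          have h4 : v = h⁻¹ * c ^ i * h⁻¹⁻¹ := by rw [← hi]; group
          rw [h4, ← conj_pow]
          exact pow_mem (hHc h⁻¹ (H.inv_mem hh)) _
        exact hq.not_comm (comm_of_zpowers h3 (mem_zpowers c))
      · have h3 : h * v * h⁻¹ * v⁻¹ = (c ^ i)⁻¹ := by
          rw [hi, hq.conj_pow]; group
        rw [h3]
        exact inv_mem (pow_mem (mem_zpowers c) _)
  · refine ⟨c ^ 2 ^ n, hcQ hdC, had, ?_⟩
    have hd4 : orderOf (c ^ 2 ^ n) = 4 := orderOf_four hq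
    have hsub : ({g | ∃ h ∈ H, h * c ^ 2 ^ n * h⁻¹ = g} : Set G) ⊆
        (({c ^ 2 ^ n, (c ^ 2 ^ n)⁻¹} : Finset G) : Set G) := by
      rintro _ ⟨h, hh, rfl⟩
      have h1 : h * c ^ 2 ^ n * h⁻¹ ∈ zpowers c := by
        rw [← conj_pow]
        exact pow_mem (hHc h hh) _
      have h2 : orderOf (h * c ^ 2 ^ n * h⁻¹) = 4 := by
        rw [← hd4]
        exact (MulAut.conj h).orderOf_eq (c ^ 2 ^ n)
      rw [Finset.mem_coe, Finset.mem_insert, Finset.mem_singleton]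
      exact hq.comm_four (hcQ h1) (hcQ hdC) h2 hd4 (comm_of_zpowers h1 hdC)
    calc _ ≤ (({c ^ 2 ^ n, (c ^ 2 ^ n)⁻¹} : Finset G) : Set G).ncard :=
          Set.ncard_le_ncard hsub (Finset.finite_toSet _)
      _ = ({c ^ 2 ^ n, (c ^ 2 ^ n)⁻¹} : Finset G).card := Set.ncard_coe_finset _
      _ ≤ 2 := Finset.card_le_two
      _ ≤ 8 := by norm_num

end Short

/-! ### The counting lemma -/

theorem two_pow_le {P X : Type*} [Group P] [MulAction P X] {κ : Type*} [Finite κ] (p q : κ → P) {a : P}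
    (haa : a * a = 1) (hpp : ∀ i, p i * p i = a) (hqq : ∀ i, q i * q i = a)
    (hpq : ∀ i, p i * q i * (p i)⁻¹ = (q i)⁻¹) (hcp : ∀ i j, i ≠ j → p i * p j = p j * p i)
    (hcpq : ∀ i j, i ≠ j → p i * q j = q j * p i) {Y : Set X} (hY : Y.Finite) (hne : Y.Nonempty)
    (hpY : ∀ i, ∀ w ∈ Y, p i • w ∈ Y) (hqY : ∀ i, ∀ w ∈ Y, q i • w ∈ Y) (haY : ∀ w ∈ Y, a • w ∈ Y)
    (hfree : ∀ w ∈ Y, a • w ≠ w) : 2 * 2 ^ Nat.card κ ≤ Y.ncard := by
  classical
  haveI : Fintype κ := Fintype.ofFinite κ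
  have ha1 : a ≠ 1 := by
    rintro rfl
    obtain ⟨w, hw⟩ := hne
    exact hfree w hw (one_smul _ _)
  have hz : ∀ x ∈ zpowers a, x = 1 ∨ x = a := by
    rintro x ⟨i, rfl⟩
    rcases Int.even_or_odd' i with ⟨j, hj | hj⟩
    · left
      show a ^ i = 1
      rw [hj, zpow_mul, zpow_two, haa, one_zpow]
    · right
      show a ^ i = a
      rw [hj, zpow_add, zpow_mul, zpow_two, haa, one_zpow, one_mul, zpow_one]
  have hord : orderOf a = 2 := orderOf_eq_prime (by rw [pow_two, haa]) ha1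
  have hap : ∀ i, a * p i = p i * a := fun i => by rw [← hpp i, mul_assoc]
  have haq : ∀ i, a * q i = q i * a := fun i => by rw [← hqq i, mul_assoc]
  have h1 := CloCount.card_mul_two_pow_le p q (s := a) (Finset.univ : Finset κ) (zpowers a) Y hY hne
    (mem_zpowers a) ha1 ?_ ?_ ?_ (fun i _ => hpY i) (fun i _ => hqY i) ?_ ?_ ?_ ?_ (fun i _ j _ => hcp i j)
    (fun i _ j _ => hcpq i j)
  · rwa [Nat.card_zpowers, hord, Finset.card_univ, ← Nat.card_eq_fintype_card] at h1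
  · intro x hx w hw
    rcases hz x hx with rfl | rfl <;> rcases hz w hw with rfl | rfl <;> simp
  · intro x hx w hw
    rcases hz x hx with rfl | rfl
    · rw [one_smul]; exact hw
    · exact haY w hw
  · intro x hx w hw hxw
    rcases hz x hx with rfl | rfl
    · rfl
    · exact absurd hxw (hfree w hw)
  · intro i _ x hx
    rcases hz x hx with rfl | rfl
    · simp
    · exact hap i
  · intro i _ x hx
    rcases hz x hx with rfl | rfl
    · simp
    · exact haq i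
  · intro i _
    rw [hpp i]; exact mem_zpowers a
  · intro i _
    have h2 : (q i)⁻¹ = q i * a := by
      rw [inv_eq_iff_mul_eq_one, ← mul_assoc, hqq i, haa]
    calc q i * p i = q i * a * (a * p i) := by
          rw [← mul_assoc, mul_assoc (q i), haa, mul_one]
      _ = (q i)⁻¹ * (p i * a) := by rw [← h2, hap i]
      _ = p i * q i * (p i)⁻¹ * p i * a := by rw [← hpq i]; group
      _ = p i * q i * a := by group

/-! ### Groups generated by elements commuting modulo a central subgroup -/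

theorem mem_of_closure {s : Set G} {Z : Subgroup G} (hZ : ∀ x ∈ s, ∀ z ∈ Z, x * z = z * x)
    (hs : ∀ x ∈ s, ∀ w ∈ s, x * w * x⁻¹ * w⁻¹ ∈ Z) (hs2 : ∀ x ∈ s, x * x ∈ Z) :
    ∀ r ∈ closure s, r * r ∈ Z ∧ ∀ z ∈ Z, r * z = z * r := by
  have hc : ∀ r ∈ closure s, ∀ z ∈ Z, r * z = z * r := by
    intro r hr z hz
    induction hr using Subgroup.closure_induction with
    | mem x hx => exact hZ x hx z hz
    | one => rw [one_mul, mul_one]
    | mul x y _ _ hx hy => rw [mul_assoc, hy, ← mul_assoc, hx, mul_assoc]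
    | inv x _ hx => rw [inv_mul_eq_iff_eq_mul, ← mul_assoc, hx, mul_inv_cancel_right]
  have hcj : ∀ r ∈ closure s, ∀ z ∈ Z, r * z * r⁻¹ ∈ Z := by
    intro r hr z hz
    rw [hc r hr z hz, mul_inv_cancel_right]
    exact hz
  have h1 : ∀ x ∈ s, ∀ r ∈ closure s, x * r * x⁻¹ * r⁻¹ ∈ Z := by
    intro x hx r hr
    induction hr using Subgroup.closure_induction with
    | mem w hw => exact hs x hx w hw
    | one =>
      have : x * 1 * x⁻¹ * 1⁻¹ = 1 := by group
      rw [this]; exact Z.one_mem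
    | mul u w hu hw ihu ihw =>
      have : x * (u * w) * x⁻¹ * (u * w)⁻¹ = (x * u * x⁻¹ * u⁻¹) * (u * (x * w * x⁻¹ * w⁻¹) * u⁻¹) := by group
      rw [this]
      exact Z.mul_mem ihu (hcj u hu _ ihw)
    | inv u hu ihu =>
      have h2 := hcj u⁻¹ (inv_mem hu) _ (Z.inv_mem ihu)
      convert h2 using 1
      group
  have h2 : ∀ r ∈ closure s, ∀ t ∈ closure s, r * t * r⁻¹ * t⁻¹ ∈ Z := by
    intro r hr t ht
    induction hr using Subgroup.closure_induction with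
    | mem w hw => exact h1 w hw t ht
    | one =>
      have : 1 * t * 1⁻¹ * t⁻¹ = 1 := by group
      rw [this]; exact Z.one_mem
    | mul u w hu hw ihu ihw =>
      have : u * w * t * (u * w)⁻¹ * t⁻¹ = (u * (w * t * w⁻¹ * t⁻¹) * u⁻¹) * (u * t * u⁻¹ * t⁻¹) := by group
      rw [this]
      exact Z.mul_mem (hcj u hu _ ihw) ihu
    | inv u hu ihu =>
      have h3 := hcj u⁻¹ (inv_mem hu) _ (Z.inv_mem ihu)
      convert h3 using 1
      group
  intro r hr
  refine ⟨?_, hc r hr⟩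
  induction hr using Subgroup.closure_induction with
  | mem x hx => exact hs2 x hx
  | one => rw [one_mul]; exact Z.one_mem
  | mul u w hu hw ihu ihw =>
    have h3 := h2 w hw u hu
    have h4 : u * w * (u * w) = (u * (w * u * w⁻¹ * u⁻¹) * u⁻¹) * (u * u) * (w * w) := by group
    rw [h4]
    exact Z.mul_mem (Z.mul_mem (hcj u hu _ h3) ihu) ihw
  | inv u hu ihu =>
    have h3 := Z.inv_mem ihu
    rwa [mul_inv_rev] at h3

/-- the diagonal quaternion pair -/
theorem diag_pair {x v y z z' : G} (hxx : x * x = z) (hvv : v * v = z) (hxv : x * v * x⁻¹ = v⁻¹)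
    (hz : y * z * y⁻¹ = z') (c1 : Commute x (y * x * y⁻¹)) (c2 : Commute v (y * v * y⁻¹))
    (c3 : Commute v (y * x * y⁻¹)) (c4 : Commute x (y * v * y⁻¹)) :
    x * (y * x * y⁻¹) * (x * (y * x * y⁻¹)) = z * z' ∧ v * (y * v * y⁻¹) * (v * (y * v * y⁻¹)) = z * z' ∧
      x * (y * x * y⁻¹) * (v * (y * v * y⁻¹)) * (x * (y * x * y⁻¹))⁻¹ = (v * (y * v * y⁻¹))⁻¹ := by
  have d4 : x⁻¹ * (y * v⁻¹ * y⁻¹) = (y * v⁻¹ * y⁻¹) * x⁻¹ := by
    have h1 : (y * v * y⁻¹)⁻¹ = y * v⁻¹ * y⁻¹ := by group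
    rw [← h1]
    exact c4.inv_inv.eq
  have d2 : v⁻¹ * (y * v⁻¹ * y⁻¹) = (y * v⁻¹ * y⁻¹) * v⁻¹ := by
    have h1 : (y * v * y⁻¹)⁻¹ = y * v⁻¹ * y⁻¹ := by group
    rw [← h1]
    exact c2.inv_inv.eq
  refine ⟨?_, ?_, ?_⟩
  · calc x * (y * x * y⁻¹) * (x * (y * x * y⁻¹)) = x * ((y * x * y⁻¹) * x) * (y * x * y⁻¹) := by group
      _ = x * (x * (y * x * y⁻¹)) * (y * x * y⁻¹) := by rw [c1.eq]
      _ = (x * x) * (y * (x * x) * y⁻¹) := by group
      _ = z * z' := by rw [hxx, hz]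
  · calc v * (y * v * y⁻¹) * (v * (y * v * y⁻¹)) = v * ((y * v * y⁻¹) * v) * (y * v * y⁻¹) := by group
      _ = v * (v * (y * v * y⁻¹)) * (y * v * y⁻¹) := by rw [c2.eq]
      _ = (v * v) * (y * (v * v) * y⁻¹) := by group
      _ = z * z' := by rw [hvv, hz]
  · calc x * (y * x * y⁻¹) * (v * (y * v * y⁻¹)) * (x * (y * x * y⁻¹))⁻¹
        = x * ((y * x * y⁻¹) * v) * ((y * v * y⁻¹) * (y * x⁻¹ * y⁻¹)) * x⁻¹ := by group
      _ = x * (v * (y * x * y⁻¹)) * ((y * v * y⁻¹) * (y * x⁻¹ * y⁻¹)) * x⁻¹ := by rw [c3.eq]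
      _ = x * v * ((y * (x * v * x⁻¹) * y⁻¹) * x⁻¹) := by group
      _ = x * v * ((y * v⁻¹ * y⁻¹) * x⁻¹) := by rw [hxv]
      _ = x * v * (x⁻¹ * (y * v⁻¹ * y⁻¹)) := by rw [d4]
      _ = (x * v * x⁻¹) * (y * v⁻¹ * y⁻¹) := by group
      _ = v⁻¹ * (y * v⁻¹ * y⁻¹) := by rw [hxv]
      _ = (y * v⁻¹ * y⁻¹) * v⁻¹ := d2
      _ = (v * (y * v * y⁻¹))⁻¹ := by group

theorem diag_comm {x y : G} (hy : y * y = 1) (c1 : Commute x (y * x * y⁻¹)) :
    x * (y * x * y⁻¹) ∈ centralizer {y} := by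
  have hyi : y⁻¹ = y := inv_eq_of_mul_eq_one_right hy
  rw [mem_centralizer_singleton_iff]
  calc x * (y * x * y⁻¹) * y = x * (y * x * y⁻¹) * y⁻¹ := by rw [hyi]
    _ = ((y * x * y⁻¹) * x) * y⁻¹ := by rw [c1.eq]
    _ = y * (x * (y⁻¹ * x * y⁻¹)) := by group
    _ = y * (x * (y * x * y⁻¹)) := by rw [hyi]

/-! ### 2-groups on three points -/

/-- orbits of `N` have length dividing `|N|` -/
theorem orbit_dvd [Finite G] {N : Subgroup G} (J : Subgroup G) :
    ({L | ∃ n ∈ N, cj n J = L} : Set (Subgroup G)).ncard ∣ Nat.card N := by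
  letI : MulAction G (Subgroup G) :=
    { smul := fun g K => cj g K
      one_smul := fun K => cj_one K
      mul_smul := fun g h K => cj_mul g h K }
  have h1 : ({L | ∃ n ∈ N, cj n J = L} : Set (Subgroup G)) = MulAction.orbit N J := by
    ext L
    constructor
    · rintro ⟨n, hn, rfl⟩
      exact ⟨⟨n, hn⟩, rfl⟩
    · rintro ⟨n, rfl⟩
      exact ⟨n, n.2, rfl⟩
  rw [h1, ← MulAction.index_stabilizer]
  exact index_dvd_card _

theorem exists_fixed_of_three [Finite G] {R : Subgroup G} (hR : IsPGroup 2 R) {X : Set (Subgroup G)}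
    (h3 : X.ncard = 3) (hX : ∀ n ∈ R, ∀ L ∈ X, cj n L ∈ X) : ∃ L ∈ X, ∀ n ∈ R, cj n L = L := by
  classical
  haveI : Fact (Nat.Prime 2) := ⟨Nat.prime_two⟩
  obtain ⟨k, hk⟩ := hR.exists_card_eq
  obtain ⟨J, hJ⟩ : X.Nonempty := by
    rw [← Set.ncard_pos (Set.toFinite X), h3]; norm_num
  set o : Set (Subgroup G) := {L | ∃ n ∈ R, cj n J = L} with ho
  have hoX : o ⊆ X := by
    rintro L ⟨n, hn, rfl⟩
    exact hX n hn J hJ
  have hJo : J ∈ o := ⟨1, R.one_mem, cj_one J⟩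
  have hle : o.ncard ≤ X.ncard := Set.ncard_le_ncard hoX (Set.toFinite X)
  have hdvd : o.ncard ∣ 2 ^ k := by rw [← hk]; exact orbit_dvd J
  have h0 : 0 < o.ncard := (Set.ncard_pos (Set.toFinite o)).2 ⟨J, hJo⟩
  have hne3 : o.ncard ≠ 3 := by
    intro h
    rw [h] at hdvd
    have := (Nat.prime_dvd_prime_iff_eq Nat.prime_three Nat.prime_two).1
      (Nat.prime_three.dvd_of_dvd_pow hdvd)
    omega
  rcases (show o.ncard = 1 ∨ o.ncard = 2 by omega) with h1 | h1
  · obtain ⟨J', hJ'⟩ := Set.ncard_eq_one.1 h1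
    refine ⟨J, hJ, fun n hn => ?_⟩
    have h5 : cj n J ∈ o := ⟨n, hn, rfl⟩
    rw [hJ', Set.mem_singleton_iff] at h5 hJo
    rw [h5, hJo]
  · have hdiff : (X \ o).ncard = 1 := by
      rw [Set.ncard_sdiff hoX (Set.toFinite o)]
      omega
    obtain ⟨J₀, hJ₀⟩ := Set.ncard_eq_one.1 hdiff
    have hJ₀m : J₀ ∈ X \ o := by rw [hJ₀]; exact Set.mem_singleton _
    refine ⟨J₀, hJ₀m.1, fun n hn => ?_⟩
    have h5 : cj n J₀ ∈ X \ o := by
      refine ⟨hX n hn _ hJ₀m.1, ?_⟩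
      rintro ⟨m, hm, hmL⟩
      apply hJ₀m.2
      refine ⟨n⁻¹ * m, R.mul_mem (R.inv_mem hn) hm, ?_⟩
      rw [cj_mul, hmL, cj_inv_cj]
    rw [hJ₀, Set.mem_singleton_iff] at h5
    exact h5

/-! ### The main argument -/

/-- `w` in `Q`, moved by `a`: the `R`-orbit of `w` -/
theorem orbit_mul_le [Finite G] {R : Subgroup G} {L : Subgroup G} {w : G} {m : ℕ}
    (hm : ({g | ∃ h ∈ R ⊓ normalizer (L : Set G), h * w * h⁻¹ = g} : Set G).ncard ≤ m) :
    ({g | ∃ r ∈ R, r * w * r⁻¹ = g} : Set G).ncard ≤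
      ({M | ∃ r ∈ R, cj r L = M} : Set (Subgroup G)).ncard * m := by
  classical
  set o : Set (Subgroup G) := {M | ∃ r ∈ R, cj r L = M} with ho
  set O : Set G := {g | ∃ h ∈ R ⊓ normalizer (L : Set G), h * w * h⁻¹ = g} with hO
  have hch : ∀ M : Subgroup G, ∃ r : G, M ∈ o → r ∈ R ∧ cj r L = M := by
    intro M
    by_cases hM : M ∈ o
    · obtain ⟨r, hr, hrM⟩ := hM
      exact ⟨r, fun _ => ⟨hr, hrM⟩⟩
    · exact ⟨1, fun h => absurd h hM⟩
  choose f hf using hch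
  have hsub : ({g | ∃ r ∈ R, r * w * r⁻¹ = g} : Set G) ⊆
      (fun t : Subgroup G × G => f t.1 * t.2 * (f t.1)⁻¹) '' (o ×ˢ O) := by
    rintro _ ⟨r, hr, rfl⟩
    have hrL : cj r L ∈ o := ⟨r, hr, rfl⟩
    obtain ⟨h1, h2⟩ := hf _ hrL
    refine ⟨(cj r L, ((f (cj r L))⁻¹ * r) * w * ((f (cj r L))⁻¹ * r)⁻¹), ⟨hrL, _, ⟨?_, ?_⟩, rfl⟩, ?_⟩
    · exact R.mul_mem (R.inv_mem h1) hr
    · show (f (cj r L))⁻¹ * r ∈ normalizer (L : Set G)
      have h3 : cj (f (cj r L))⁻¹ (cj (f (cj r L)) L) = L := cj_inv_cj _ _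
      rw [h2] at h3
      rw [mem_normalizer_iff_cj, cj_mul, h3]
    · show f (cj r L) * ((f (cj r L))⁻¹ * r * w * ((f (cj r L))⁻¹ * r)⁻¹) * (f (cj r L))⁻¹ = r * w * r⁻¹
      group
  calc _ ≤ ((fun t : Subgroup G × G => f t.1 * t.2 * (f t.1)⁻¹) '' (o ×ˢ O)).ncard :=
        Set.ncard_le_ncard hsub (Set.toFinite _)
    _ ≤ (o ×ˢ O).ncard := Set.ncard_image_le (Set.toFinite _)
    _ = o.ncard * O.ncard := Set.ncard_prod
    _ ≤ o.ncard * m := Nat.mul_le_mul_left _ hm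

/-- `Sw` at a fixed place, for `τ = 3` and `τ ≥ 5` -/
theorem sw_aux [Finite G] {Om : Set (Subgroup G)} (h : Hyp Om) (hI : ∀ K ∈ Om, IsType K) {S : Subgroup G}
    (hS : IsPGroup 2 S) {y z : G} (hy : y * y = 1) (hyS : y ∈ S) (hyz : y * z * y⁻¹ ≠ z)
    (hκ : ∀ M ∈ Om, zz M = z → M ∈ OmS Om S) {s : ℕ}
    (hs1 : ({L | L ∈ Om ∧ zz L = z} : Set (Subgroup G)).ncard = s)
    (hs2 : ({L | L ∈ Om ∧ zz L = y} : Set (Subgroup G)).ncard = s) (hs : s = 3 ∨ 5 ≤ s) :
    ∃ L ∈ Om, zz L = y ∧ L ∈ SubCent.cov Om (centralizer {z * (y * z * y⁻¹)}) := by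
  classical
  by_contra hcon
  push Not at hcon
  set a := z * (y * z * y⁻¹) with ha
  set X : Set (Subgroup G) := {L | L ∈ Om ∧ zz L = y} with hX
  let κ := {M // M ∈ Om ∧ zz M = z}
  have hcκ : Nat.card κ = s := by rw [← hs1]; rfl
  have hs0 : s ≠ 0 := by omega
  haveI : Nonempty κ := by
    rw [← Finite.card_pos_iff, hcκ]; omega
  -- members over `z`
  have hM : ∀ i : κ, i.1 ∈ OmS Om S := fun i => hκ i.1 i.2.1 i.2.2
  have hM' : ∀ i : κ, cj y i.1 ∈ OmS Om S := fun i => cj_mem_OmS' h.conj (le_normalizer hyS) (hM i)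
  have hzM' : ∀ i : κ, zz (cj y i.1) = y * z * y⁻¹ := fun i => by rw [h.zz_cj i.2.1, i.2.2]
  have hneM : ∀ i j : κ, cj y i.1 ≠ j.1 := fun i j h1 => hyz (by rw [← hzM' i, h1, j.2.2])
  have hpair : ∀ i : κ, ∃ x ∈ i.1 ⊓ S, ∃ v ∈ i.1 ⊓ S, x * x = z ∧ v * v = z ∧ x * v * x⁻¹ = v⁻¹ := by
    intro i
    obtain ⟨x, hx, v, hv, h1, h2, h3⟩ := h.exists_pair i.2.1 (syl_inf hS (hM i))
    exact ⟨x, hx, v, hv, h1.trans i.2.2, h2.trans i.2.2, h3⟩
  choose x hx v hv hxx hvv hxv using hpair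
  have hS' : ∀ u ∈ S, y * u * y⁻¹ ∈ S := fun u hu => S.mul_mem (S.mul_mem hyS hu) (S.inv_mem hyS)
  -- commuting
  have hc1 : ∀ i j : κ, ∀ m ∈ i.1 ⊓ S, ∀ u ∈ j.1 ⊓ S, Commute m (y * u * y⁻¹) := fun i j m hm u hu =>
    h.comm hS (hM i) (hM' j) (Ne.symm (hneM j i)) hm ⟨conj_mem_cj hu.1, hS' u hu.2⟩
  have hc2 : ∀ i j : κ, i ≠ j → ∀ m ∈ i.1 ⊓ S, ∀ u ∈ j.1 ⊓ S, Commute m u := fun i j hij m hm u hu =>
    h.comm hS (hM i) (hM j) (fun h1 => hij (Subtype.ext h1)) hm hu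
  have hc3 : ∀ i j : κ, i ≠ j → ∀ m ∈ i.1 ⊓ S, ∀ u ∈ j.1 ⊓ S,
      Commute (m * (y * m * y⁻¹)) (u * (y * u * y⁻¹)) := by
    intro i j hij m hm u hu
    have h1 : Commute (y * m * y⁻¹) (y * u * y⁻¹) := by
      have h2 := (hc2 i j hij m hm u hu).eq
      show y * m * y⁻¹ * (y * u * y⁻¹) = y * u * y⁻¹ * (y * m * y⁻¹)
      calc y * m * y⁻¹ * (y * u * y⁻¹) = y * (m * u) * y⁻¹ := by group
        _ = y * (u * m) * y⁻¹ := by rw [h2]
        _ = _ := by group
    exact ((hc2 i j hij m hm u hu).mul_right (hc1 i j m hm u hu)).mul_left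
      (((hc1 j i u hu m hm).symm).mul_right h1)
  set p : κ → G := fun i => x i * (y * x i * y⁻¹) with hp
  set q : κ → G := fun i => v i * (y * v i * y⁻¹) with hq
  have hd := fun i : κ => diag_pair (y := y) (hxx i) (hvv i) (hxv i) rfl (hc1 i i _ (hx i) _ (hx i))
    (hc1 i i _ (hv i) _ (hv i)) (hc1 i i _ (hv i) _ (hx i)) (hc1 i i _ (hx i) _ (hv i))
  have hpp : ∀ i, p i * p i = a := fun i => (hd i).1
  have hqq : ∀ i, q i * q i = a := fun i => (hd i).2.1
  have hpq : ∀ i, p i * q i * (p i)⁻¹ = (q i)⁻¹ := fun i => (hd i).2.2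
  have hcp : ∀ i j, i ≠ j → p i * p j = p j * p i := fun i j hij => hc3 i j hij _ (hx i) _ (hx j)
  have hcq : ∀ i j, i ≠ j → q i * q j = q j * q i := fun i j hij => hc3 i j hij _ (hv i) _ (hv j)
  have hcpq : ∀ i j, i ≠ j → p i * q j = q j * p i := fun i j hij => hc3 i j hij _ (hx i) _ (hv j)
  have hpS : ∀ i, p i ∈ S := fun i => S.mul_mem (hx i).2 (hS' _ (hx i).2)
  have hqS : ∀ i, q i ∈ S := fun i => S.mul_mem (hv i).2 (hS' _ (hv i).2)
  have hpC : ∀ i, p i ∈ centralizer {y} := fun i => diag_comm hy (hc1 i i _ (hx i) _ (hx i))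
  have hqC : ∀ i, q i ∈ centralizer {y} := fun i => diag_comm hy (hc1 i i _ (hv i) _ (hv i))
  obtain ⟨i₀⟩ := (inferInstance : Nonempty κ)
  have hz2 : z * z = 1 := by
    have := h.zz_mul i₀.2.1
    rwa [i₀.2.2] at this
  have hzi : z⁻¹ = z := inv_eq_of_mul_eq_one_right hz2
  have haa : a * a = 1 := by
    have c0 : Commute (zz i₀.1) (zz (cj y i₀.1)) :=
      h.comm hS (hM i₀) (hM' i₀) (Ne.symm (hneM i₀ i₀)) (h.zz_mem_inf hS (hM i₀)) (h.zz_mem_inf hS (hM' i₀))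
    rw [i₀.2.2, hzM'] at c0
    calc a * a = z * ((y * z * y⁻¹) * z) * (y * z * y⁻¹) := by rw [ha]; group
      _ = z * (z * (y * z * y⁻¹)) * (y * z * y⁻¹) := by rw [c0.eq]
      _ = (z * z) * (y * (z * z) * y⁻¹) := by group
      _ = 1 := by rw [hz2]; group
  have hane : a ≠ 1 := by
    intro h1
    apply hyz
    rw [ha] at h1
    rw [eq_inv_of_mul_eq_one_right h1, hzi]
  -- the group `R`
  set R : Subgroup G := closure (Set.range p ∪ Set.range q) with hR
  have hpR : ∀ i, p i ∈ R := fun i => subset_closure (Or.inl ⟨i, rfl⟩)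
  have hqR : ∀ i, q i ∈ R := fun i => subset_closure (Or.inr ⟨i, rfl⟩)
  have haR : a ∈ R := by rw [← hpp i₀]; exact R.mul_mem (hpR i₀) (hpR i₀)
  have hRS : R ≤ S := by
    rw [hR, closure_le]
    rintro _ (⟨i, rfl⟩ | ⟨i, rfl⟩)
    · exact hpS i
    · exact hqS i
  have hRC : R ≤ centralizer {y} := by
    rw [hR, closure_le]
    rintro _ (⟨i, rfl⟩ | ⟨i, rfl⟩)
    · exact hpC i
    · exact hqC i
  have hR2 : IsPGroup 2 R := hS.to_le hRS
  have hap : ∀ i, p i * a = a * p i := fun i => by rw [← hpp i]; group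
  have haq : ∀ i, q i * a = a * q i := fun i => by rw [← hqq i]; group
  have hzp : ∀ u ∈ zpowers a, u = 1 ∨ u = a := by
    rintro u ⟨i, rfl⟩
    rcases Int.even_or_odd' i with ⟨j, hj | hj⟩
    · left
      show a ^ i = 1
      rw [hj, zpow_mul, zpow_two, haa, one_zpow]
    · right
      show a ^ i = a
      rw [hj, zpow_add, zpow_mul, zpow_two, haa, one_zpow, one_mul, zpow_one]
  have hqp : ∀ i, p i * q i * (p i)⁻¹ * (q i)⁻¹ = a := fun i => by
    rw [hpq i, ← mul_inv_rev, hqq i]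
    exact inv_eq_of_mul_eq_one_right haa
  have hRsq : ∀ r ∈ R, r * r ∈ zpowers a ∧ ∀ u ∈ zpowers a, r * u = u * r := by
    apply mem_of_closure
    · rintro _ (⟨i, rfl⟩ | ⟨i, rfl⟩) u hu
      · rcases hzp u hu with rfl | rfl
        · simp
        · exact hap i
      · rcases hzp u hu with rfl | rfl
        · simp
        · exact haq i
    · rintro _ (⟨i, rfl⟩ | ⟨i, rfl⟩) _ (⟨j, rfl⟩ | ⟨j, rfl⟩)
      · by_cases hij : i = j
        · subst hij
          have : p i * p i * (p i)⁻¹ * (p i)⁻¹ = 1 := by group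
          rw [this]; exact one_mem _
        · rw [hcp i j hij]
          have : p j * p i * (p i)⁻¹ * (p j)⁻¹ = 1 := by group
          rw [this]; exact one_mem _
      · by_cases hij : i = j
        · subst hij
          rw [hqp i]; exact mem_zpowers a
        · rw [hcpq i j hij]
          have : q j * p i * (p i)⁻¹ * (q j)⁻¹ = 1 := by group
          rw [this]; exact one_mem _
      · by_cases hij : i = j
        · subst hij
          have h1 := inv_mem (show p i * q i * (p i)⁻¹ * (q i)⁻¹ ∈ zpowers a by rw [hqp i]; exact mem_zpowers a)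
          convert h1 using 1
          group
        · rw [← hcpq j i (Ne.symm hij)]
          have : p j * q i * (q i)⁻¹ * (p j)⁻¹ = 1 := by group
          rw [this]; exact one_mem _
      · by_cases hij : i = j
        · subst hij
          have : q i * q i * (q i)⁻¹ * (q i)⁻¹ = 1 := by group
          rw [this]; exact one_mem _
        · rw [hcq i j hij]
          have : q j * q i * (q i)⁻¹ * (q j)⁻¹ = 1 := by group
          rw [this]; exact one_mem _
    · rintro _ (⟨i, rfl⟩ | ⟨i, rfl⟩)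
      · rw [hpp i]; exact mem_zpowers a
      · rw [hqq i]; exact mem_zpowers a
  have hRsq' : ∀ r ∈ R, r * r = 1 ∨ r * r = a := fun r hr => hzp _ (hRsq r hr).1
  have hRa : ∀ r ∈ R, r * a = a * r := fun r hr => (hRsq r hr).2 a (mem_zpowers a)
  have hCX : ∀ c ∈ centralizer {y}, ∀ L ∈ X, cj c L ∈ X := by
    rintro c hc L ⟨hL, hLy⟩
    refine ⟨h.conj L hL c, ?_⟩
    rw [h.zz_cj hL, hLy, mem_centralizer_singleton_iff.1 hc]; group
  have hXs : X.ncard = s := hs2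
  have hlt : s < 2 ^ s := Nat.lt_two_pow_self
  -- `a` normalises the members over `y`
  have haX : ∀ L ∈ X, cj a L = L := by
    by_contra hcon2
    push Not at hcon2
    obtain ⟨L, hL, hLa⟩ := hcon2
    letI : MulAction G (Subgroup G) :=
      { smul := fun g K => cj g K
        one_smul := fun K => cj_one K
        mul_smul := fun g h K => cj_mul g h K }
    have hinv : ∀ r ∈ R, ∀ M ∈ {M | M ∈ X ∧ cj a M ≠ M}, r • M ∈ {M | M ∈ X ∧ cj a M ≠ M} := by
      rintro r hr M ⟨hMX, hMa⟩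
      refine ⟨hCX r (hRC hr) M hMX, ?_⟩
      show cj a (cj r M) ≠ cj r M
      rw [← cj_mul, ← hRa r hr, cj_mul]
      exact fun h1 => hMa (cj_inj.1 h1)
    have h1 := two_pow_le (P := G) (X := Subgroup G) p q haa hpp hqq hpq hcp hcpq
      (Y := {M | M ∈ X ∧ cj a M ≠ M}) (Set.toFinite _) ⟨L, hL, hLa⟩ (fun i => hinv _ (hpR i))
      (fun i => hinv _ (hqR i)) (hinv a haR) (fun M hM => hM.2)
    have h2 : ({M | M ∈ X ∧ cj a M ≠ M} : Set (Subgroup G)).ncard ≤ X.ncard :=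
      Set.ncard_le_ncard (fun M hM => hM.1) (Set.toFinite X)
    rw [hcκ] at h1
    omega
  -- the member `L`
  obtain ⟨L, hL, hLo⟩ : ∃ L ∈ X, 8 * ({M | ∃ r ∈ R, cj r L = M} : Set (Subgroup G)).ncard < 2 * 2 ^ s := by
    rcases hs with h3 | h5
    · obtain ⟨L, hL, hfix⟩ := exists_fixed_of_three hR2 (hXs.trans h3) (fun r hr => hCX r (hRC hr))
      refine ⟨L, hL, ?_⟩
      have h1 : ({M | ∃ r ∈ R, cj r L = M} : Set (Subgroup G)) ⊆ {L} := by
        rintro _ ⟨r, hr, rfl⟩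
        exact hfix r hr
      have h2 := Set.ncard_le_ncard h1 (Set.toFinite _)
      rw [Set.ncard_singleton] at h2
      rw [h3]
      omega
    · obtain ⟨L, hL⟩ : X.Nonempty := by
        rw [← Set.ncard_pos (Set.toFinite X)]; omega
      refine ⟨L, hL, ?_⟩
      have h1 : ({M | ∃ r ∈ R, cj r L = M} : Set (Subgroup G)) ⊆ X := by
        rintro _ ⟨r, hr, rfl⟩
        exact hCX r (hRC hr) L hL
      have h2 := Set.ncard_le_ncard h1 (Set.toFinite _)
      have h6 : 8 * s < 2 * 2 ^ s := by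
        clear * - h5
        induction s, h5 using Nat.le_induction with
        | base => norm_num
        | succ n hn ih => rw [pow_succ]; omega
      omega
  obtain ⟨T, hT, hRT⟩ := Cit.exists_syl_ge hR2 hRC
  have hLT : L ∈ OmS Om T := by
    have h1 := hT
    rw [← hL.2] at h1
    exact h.mem_OmS_of_syl hL.1 h1
  have hQ : Syl (L ⊓ T) L := syl_inf hT.2.1 hLT
  set H : Subgroup G := R ⊓ normalizer (L : Set G) with hH
  have hHQ : H ≤ normalizer ((L ⊓ T : Subgroup G) : Set G) := by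
    intro r hr
    rw [mem_normalizer_iff_cj, cj_inf, mem_normalizer_iff_cj.1 hr.2,
      mem_normalizer_iff_cj.1 (le_normalizer (hRT hr.1))]
  have haH : a ∈ H := ⟨haR, mem_normalizer_iff_cj.2 (haX L hL)⟩
  obtain ⟨c, u, n, hgq, hgc⟩ := h.exists_gq_cyclic hL.1 hQ (hR2.to_le inf_le_left : IsPGroup 2 H) hHQ
  have hna : ∃ x ∈ L ⊓ T, a * x ≠ x * a := by
    by_contra hcon2
    push Not at hcon2
    apply hcon L hL.1 hL.2
    refine mem_cov_of_triv hL.1 haa ?_
    exact AutAct.triv_of_cent (hI L hL.1) hQ haH.2 (b := 1) (by rw [pow_one, pow_two, haa]) hcon2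
  obtain ⟨w, hw, haw, hw8⟩ := short_orbit hgq hHQ hgc haH haa (fun r hr => hRsq' r hr.1) hna
  have hY := orbit_mul_le hw8
  -- the counting lemma for the orbit of `w`
  set Y : Set G := {g | ∃ r ∈ R, r * w * r⁻¹ = g} with hYd
  have hYinv : ∀ r ∈ R, ∀ g ∈ Y, r * g * r⁻¹ ∈ Y := by
    rintro r hr _ ⟨t, ht, rfl⟩
    exact ⟨r * t, R.mul_mem hr ht, by group⟩
  have h1 := two_pow_le (P := ConjAct G) (X := G) (fun i => ConjAct.toConjAct (p i))
    (fun i => ConjAct.toConjAct (q i)) (a := ConjAct.toConjAct a) (by rw [← map_mul, haa, map_one])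
    (fun i => by rw [← map_mul, hpp]) (fun i => by rw [← map_mul, hqq])
    (fun i => by rw [← map_inv, ← map_mul, ← map_mul, hpq, map_inv])
    (fun i j hij => by rw [← map_mul, hcp i j hij, map_mul])
    (fun i j hij => by rw [← map_mul, hcpq i j hij, map_mul]) (Y := Y) (Set.toFinite _)
    ⟨w, 1, R.one_mem, by group⟩
    (fun i g hg => by rw [ConjAct.toConjAct_smul]; exact hYinv _ (hpR i) g hg)
    (fun i g hg => by rw [ConjAct.toConjAct_smul]; exact hYinv _ (hqR i) g hg)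
    (fun g hg => by rw [ConjAct.toConjAct_smul]; exact hYinv _ haR g hg) (by
      rintro _ ⟨r, hr, rfl⟩ h2
      rw [ConjAct.toConjAct_smul] at h2
      apply haw
      have h3 := hRa r hr
      have h4 : a * w * a⁻¹ = w := by
        calc a * w * a⁻¹ = r⁻¹ * (r * a) * w * (r * a)⁻¹ * r := by group
          _ = r⁻¹ * (a * (r * w * r⁻¹) * a⁻¹) * r := by rw [h3]; group
          _ = w := by rw [h2]; group
      calc a * w = a * w * a⁻¹ * a := by group
        _ = w * a := by rw [h4])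
  rw [hcκ] at h1
  omega

/-- **`Sw Om`** for a class of members of type `SL(2,F)`, `2.A₇`, any number of members over an involution, cores
allowed. -/
theorem sw_any [Finite G] {Om : Set (Subgroup G)} (h : Hyp Om) (hI : ∀ K ∈ Om, IsType K)
    (hone : ∀ K ∈ Om, ∀ L ∈ Om, ∃ g, cj g K = L) : CloH2.Sw Om := by
  intro S K hK J hJ hyS hyK
  -- `τ` is constant
  have htau : ∀ L ∈ Om, ({M | M ∈ Om ∧ zz M = zz L} : Set (Subgroup G)).ncard =
      ({M | M ∈ Om ∧ zz M = zz K} : Set (Subgroup G)).ncard := by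
    intro L hL
    obtain ⟨g, hg⟩ := hone L hL K hK.1
    have h1 : ({M | M ∈ Om ∧ zz M = zz K} : Set (Subgroup G)) = cj g '' {M | M ∈ Om ∧ zz M = zz L} := by
      ext M
      constructor
      · rintro ⟨hM, hMz⟩
        refine ⟨cj g⁻¹ M, ⟨h.conj M hM g⁻¹, ?_⟩, cj_cj_inv g M⟩
        rw [h.zz_cj hM, hMz, ← hg, h.zz_cj hL]; group
      · rintro ⟨N, ⟨hN, hNz⟩, rfl⟩
        refine ⟨h.conj N hN g, ?_⟩
        rw [h.zz_cj hN, hNz, ← hg, h.zz_cj hL]
    rw [h1]
    exact (Set.ncard_image_of_injective _ fun M N hMN => cj_inj.mp hMN).symm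
  by_cases hs : ({M | M ∈ Om ∧ zz M = zz K} : Set (Subgroup G)).ncard ≤ 4 ∧
      ({M | M ∈ Om ∧ zz M = zz K} : Set (Subgroup G)).ncard ≠ 3
  · exact sw h hI hone (fun L hL => by rw [htau L hL]; exact hs) S K hK J hJ hyS hyK
  · have hyz : zz J * zz K * (zz J)⁻¹ ≠ zz K := fun h1 => hyK (mul_inv_eq_iff_eq_mul.1 h1)
    obtain ⟨L, hL, hLy, hcov⟩ := sw_aux h hI S.isPGroup' (h.zz_mul hJ) hyS hyz
      (fun M hM hMz => h.mem_OmS_of_zz_eq S hK hM hMz) rfl (htau J hJ) (by omega)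
    refine ⟨L, hL, hLy, ?_⟩
    rwa [h.zz_cj hK.1]

end Cfsg.Agent.Cit.CloSw
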