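import Cfsg.Agent.Cit.CloTwin
import Cfsg.Agent.Cit.CloH2

/-!
# CONN / CLOSE for `τ ≤ 2`, on `Om`

`e : CloGraph.Emb Om M`, `c : CloPoint.Clo M (QQ Om M)`, (C), `|E(S)| ≥ 4`, at most two members of `Om` with the
same involution, S1175 and Bender's theorem: contradiction (`false_of_twin`).  No theorem T, no condition on the
relations in `E(S)`.
-/

set_option autoImplicit false
set_option linter.unusedSectionVars false
set_option linter.style.haveILetI false

namespace Cfsg.Agent.Cit.CloTwinOm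

open Subgroup Cfsg SubCent CloGraph CloPoint

variable {G : Type*} [Group G]

/-! ### Two counting lemmas -/

/-- a 2-group acting by conjugation on a set of odd cardinality has a fixed point -/
theorem exists_fixed [Finite G] {P : Subgroup G} (hP : IsPGroup 2 P) {X : Set G}
    (hX : ∀ p ∈ P, ∀ x ∈ X, p * x * p⁻¹ ∈ X) (hodd : Odd X.ncard) : ∃ x ∈ X, ∀ p ∈ P, p * x = x * p := by
  haveI : Fact (Nat.Prime 2) := ⟨Nat.prime_two⟩
  letI : MulAction P X :=
    { smul := fun p x => ⟨p * x * (p : G)⁻¹, hX p p.2 x x.2⟩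
      one_smul := fun x => Subtype.ext (by
        change ((1 : P) : G) * x * ((1 : P) : G)⁻¹ = x
        simp)
      mul_smul := fun p q x => Subtype.ext (by
        change ((p * q : P) : G) * x * ((p * q : P) : G)⁻¹ = p * (q * x * (q : G)⁻¹) * (p : G)⁻¹
        rw [Subgroup.coe_mul]; group) }
  have h1 := hP.card_modEq_card_fixedPoints X
  rw [Nat.card_coe_set_eq] at h1
  have h2 : (MulAction.fixedPoints P X).Nonempty := by
    by_contra hcon
    rw [Set.not_nonempty_iff_eq_empty] at hcon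
    rw [hcon] at h1
    obtain ⟨k, hk⟩ := hodd
    have h3 : Nat.card (∅ : Set X) = 0 := by simp
    rw [h3, hk] at h1
    have h4 : (2 * k + 1) % 2 = 0 % 2 := h1
    omega
  obtain ⟨x, hx⟩ := h2
  refine ⟨x, x.2, fun p hp => ?_⟩
  have h3 : p * (x : G) * p⁻¹ = x := congrArg Subtype.val (hx ⟨p, hp⟩)
  rwa [mul_inv_eq_iff_eq_mul] at h3

/-- multiplication by an involution -/
theorem even_of_mul [Finite G] {z : G} (hz : z * z = 1) (hz1 : z ≠ 1) {X : Set G} (hX : ∀ x ∈ X, z * x ∈ X) :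
    Even X.ncard := by
  haveI : Fact (Nat.Prime 2) := ⟨Nat.prime_two⟩
  have hall : ∀ p ∈ zpowers z, ∀ x ∈ X, p * x ∈ X := by
    intro p hp x hx
    obtain ⟨k, rfl⟩ := mem_zpowers_iff.1 hp
    have hz2 : z ^ (2 : ℤ) = 1 := by
      have h1 : z ^ (2 : ℤ) = z * z := zpow_two z
      rw [h1, hz]
    rcases Int.even_or_odd' k with ⟨j, rfl | rfl⟩
    · rw [zpow_mul, hz2, one_zpow, one_mul]; exact hx
    · rw [zpow_add_one, zpow_mul, hz2, one_zpow, one_mul]; exact hX x hx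
  letI : MulAction (zpowers z) X :=
    { smul := fun p x => ⟨p * x, hall p p.2 x x.2⟩
      one_smul := fun x => Subtype.ext (by
        change ((1 : zpowers z) : G) * x = x
        simp)
      mul_smul := fun p q x => Subtype.ext (by
        change ((p * q : zpowers z) : G) * x = p * (q * x)
        rw [Subgroup.coe_mul, mul_assoc]) }
  have h1 := (CloEven.isPGroup_zpowers_of_mul hz).card_modEq_card_fixedPoints X
  rw [Nat.card_coe_set_eq] at h1
  have h2 : MulAction.fixedPoints (zpowers z) X = ∅ := by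
    rw [Set.eq_empty_iff_forall_notMem]
    intro x hx
    have h3 : z * (x : G) = x := congrArg Subtype.val (hx ⟨z, mem_zpowers z⟩)
    exact hz1 (by simpa using h3)
  rw [h2] at h1
  have h3 : Nat.card (∅ : Set X) = 0 := by simp
  rw [h3] at h1
  have h4 : X.ncard % 2 = 0 % 2 := h1
  rw [Nat.even_iff]; omega

variable [Finite G] {Om : Set (Subgroup G)} {M : Subgroup G}

/-- at most two members of `Om` over each involution -/
def TauTwo (Om : Set (Subgroup G)) : Prop :=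
  ∀ K ∈ Om, ∀ L ∈ Om, ∀ N ∈ Om, zz K = zz L → zz K = zz N → K = L ∨ K = N ∨ L = N

/-- an involution commuting with `zz K` -/
theorem exists_syl_pair (h : Hyp Om) {K : Subgroup G} (hK : K ∈ Om) {f : G} (hf : f * f = 1)
    (hfz : f * zz K = zz K * f) :
    ∃ R, Syl R K ∧ (cj f K = K → cj f R = R) ∧ (cj f K ≠ K → Cm R (cj f R)) := by
  obtain ⟨T, hT, hfT⟩ := Cit.exists_syl_ge (CloEven.isPGroup_zpowers_of_mul hf)
    (show zpowers f ≤ centralizer {zz K} from zpowers_le.2 (mem_centralizer_singleton_iff.2 hfz))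
  have hfT' : f ∈ T := hfT (mem_zpowers f)
  have hKT := h.mem_OmS_of_syl hK hT
  have hcT : cj f T = T := mem_normalizer_iff_cj.1 (le_normalizer hfT')
  have hK' : cj f K ∈ OmS Om T := cj_mem_OmS' h.conj (le_normalizer hfT') hKT
  refine ⟨K ⊓ T, syl_inf hT.2.1 hKT, ?_, ?_⟩
  · intro h1
    rw [cj_inf, h1, hcT]
  · intro h1 x hx y hy
    rw [cj_inf, hcT] at hy
    exact h.comm hT.2.1 hKT hK' (Ne.symm h1) hx hy

theorem mem_QQ {K R : Subgroup G} (hK : K ∈ OmS Om M) (hR : Syl R K) : R ∈ QQ Om M := ⟨K, hK, hR⟩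

theorem nrm_of_fixed (e : Emb Om M) {K Q : Subgroup G} (hK : K ∈ OmS Om M) (hQ : Syl Q K) {f : G} (hf : f * f = 1)
    (hfz : f * zz K = zz K * f) (hfK : cj f K = K) : Nrm (QQ Om M) Q f := by
  obtain ⟨R, hR, h1, -⟩ := exists_syl_pair e.hyp hK.1 hf hfz
  exact ⟨R, mem_QQ hK hR, (e.zz_of_syl hK.1 hR).trans (e.zz_of_syl hK.1 hQ).symm, h1 hfK⟩

/-- `b` is trivial on `K / O(K)` for a product of two commuting such elements -/
theorem exists_syl_cent {K : Subgroup G} {a b : G} (ha : a * a = 1) (hb : b * b = 1)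
    (hab : a * b = b * a) (h1 : ⁅K, zpowers a⁆ ≤ OO K) (h2 : ⁅K, zpowers b⁆ ≤ OO K) :
    ∃ R, Syl R K ∧ ∀ x ∈ R, a * b * x = x * (a * b) := by
  have hn : ∀ y : G, ⁅K, zpowers y⁆ ≤ OO K → ∀ k ∈ K, k * y * k⁻¹ * y⁻¹ ∈ OO K := by
    intro y hy k hk
    have h3 := hy (commutator_mem_commutator hk (mem_zpowers y))
    rwa [commutatorElement_def] at h3
  have hnorm : ∀ y : G, ⁅K, zpowers y⁆ ≤ OO K → y ∈ normalizer (K : Set G) := fun y hy =>
    SubCent.le_normalizer_of_comm (hy.trans (OO_le K)) (mem_zpowers y)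
  have haK := hnorm a h1
  have hbK := hnorm b h2
  have hcK : a * b ∈ normalizer (K : Set G) := mul_mem haK hbK
  have hc2 : a * b * (a * b) = 1 := mul_sq ha hb hab
  obtain ⟨R, hR, hcR⟩ := OneBasic.exists_syl_normalized (CloEven.isPGroup_zpowers_of_mul hc2) (zpowers_le.2 hcK)
  refine ⟨R, hR, fun x hx => ?_⟩
  have haO : a ∈ normalizer (OO K : Set G) := by
    rw [mem_normalizer_iff_cj, ← OO_cj, mem_normalizer_iff_cj.1 haK]
  -- `[x, a b] ∈ O(K)`
  have hO : x * (a * b) * x⁻¹ * (a * b)⁻¹ ∈ OO K := by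
    have h3 := hn a h1 x (hR.1 hx)
    have h4 := hn b h2 x (hR.1 hx)
    have h5 := (mem_normalizer_iff.1 haO _).1 h4
    have h6 := mul_mem h3 h5
    have h7 : x * a * x⁻¹ * a⁻¹ * (a * (x * b * x⁻¹ * b⁻¹) * a⁻¹) = x * (a * b) * x⁻¹ * (a * b)⁻¹ := by group
    rwa [h7] at h6
  have hR' : x * (a * b) * x⁻¹ * (a * b)⁻¹ ∈ R := by
    have h3 := (mem_normalizer_iff.1 (hcR (mem_zpowers _)) x⁻¹).1 (R.inv_mem hx)
    have h4 := R.mul_mem hx h3
    have h5 : x * (a * b * x⁻¹ * (a * b)⁻¹) = x * (a * b) * x⁻¹ * (a * b)⁻¹ := by group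
    rwa [h5] at h4
  have h8 := eq_one_of_mem_odd hR.2.1 (odd_OO K) hR' hO
  rw [mul_inv_eq_one, mul_inv_eq_iff_eq_mul] at h8
  exact h8.symm

/-- **the structure `Tw`** -/
theorem tw (e : Emb Om M) (ht : TauTwo Om) (cc : CC M (QQ Om M))
    (h4 : ∀ S : Sylow 2 G, 4 ≤ Nat.card (ES Om (S : Subgroup G))) : Tw M (QQ Om M) where
  cc := cc
  n2 := by
    rintro Q ⟨K, hK, hQ⟩ f hf hfz
    rw [e.zz_of_syl hK.1 hQ] at hfz
    obtain ⟨R, hR, h1, h2⟩ := exists_syl_pair e.hyp hK.1 hf hfz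
    have hz := (e.zz_of_syl hK.1 hR).trans (e.zz_of_syl hK.1 hQ).symm
    by_cases hc : cj f K = K
    · exact Or.inl ⟨R, mem_QQ hK hR, hz, h1 hc⟩
    · exact Or.inr ⟨R, mem_QQ hK hR, hz, h2 hc⟩
  n3 := by
    rintro Q ⟨K, hK, hQ⟩ f g hf hg hfg hfz hgz
    rw [e.zz_of_syl hK.1 hQ] at hfz hgz
    by_cases hc : cj f K = K
    · exact Or.inl (nrm_of_fixed e hK hQ hf hfz hc)
    by_cases hd : cj g K = K
    · exact Or.inr (Or.inl (nrm_of_fixed e hK hQ hg hgz hd))
    right; right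
    have hfz' : zz (cj f K) = zz K := by rw [e.hyp.zz_cj hK.1, hfz]; group
    have hgz' : zz (cj g K) = zz K := by rw [e.hyp.zz_cj hK.1, hgz]; group
    have h1 : cj f K = cj g K := by
      rcases ht K hK.1 _ (e.hyp.conj K hK.1 f) _ (e.hyp.conj K hK.1 g) hfz'.symm hgz'.symm with h | h | h
      · exact absurd h.symm hc
      · exact absurd h.symm hd
      · exact h
    refine nrm_of_fixed e hK hQ (mul_sq hf hg hfg) ?_ ?_
    · rw [mul_assoc, hgz, ← mul_assoc, hfz, mul_assoc]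
    · rw [cj_mul, ← h1, ← cj_mul, hf, cj_one]
  r2 := by
    rintro P hP hPM Q ⟨K, hK, hQ⟩ hQP
    obtain ⟨R, hR, hPR⟩ := exists_syl_ge hP hPM
    obtain ⟨S, rfl⟩ := e.sylow hR
    refine ⟨S, S.isPGroup', hR.1, hPR, ?_⟩
    by_contra hcon
    push Not at hcon
    have h1 : ES Om (S : Subgroup G) ≤ zpowers (zz K) := by
      rw [ES_le_iff]
      intro L hL
      have h2 := syl_inf S.isPGroup' hL
      have h3 := hcon _ (mem_QQ (OmS_mono hR.1 hL) h2) inf_le_right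
      rw [e.zz_of_syl hL.1 h2, e.zz_of_syl hK.1 hQ] at h3
      rw [h3]
      exact mem_zpowers _
    have h5 := Subgroup.card_le_of_le h1
    rw [Nat.card_zpowers, e.hyp.orderOf_zz hK.1] at h5
    have := h4 S
    omega
  hs := by
    rintro R₁ ⟨K₁, hK₁, hR₁⟩ R₂ ⟨K₂, hK₂, hR₂⟩ R ⟨K, hK, hR⟩ hcm hne hRne hRne' hcomm hcen
    have h := e.hyp
    have z1 := e.zz_of_syl hK₁.1 hR₁
    have z2 := e.zz_of_syl hK₂.1 hR₂
    have z3 := e.zz_of_syl hK.1 hR
    have m1 : zz K₁ ∈ R₁ := by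
      obtain ⟨x, v, n, hc⟩ := h.exists_gq hK₁.1 hR₁
      exact hc.z_mem
    rw [z1, z2] at hne
    rw [z3, z2] at hRne
    rw [z3, z1, z2] at hRne'
    rw [z1, z3] at hcomm
    rw [z2] at hcen
    rw [z1, z2, z3]
    have hn1 : K₂ ≠ K₁ := by rintro rfl; exact hne rfl
    have hn2 : K₂ ≠ K := by rintro rfl; exact hRne rfl
    -- `zz K₁` trivial on `K₂ / O(K₂)`
    have t1 : ⁅K₂, zpowers (zz K₁)⁆ ≤ OO K₂ := by
      obtain ⟨S, hS, -, hS2, hS1⟩ := PairComm.exists_common' h hK₂.1 hK₁.1 hR₂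
        (fun a ha => (hcm _ m1 a ha).symm)
      exact PairComm.commutator_zz_le h hS hS2 hS1 hn1
    have t2 : ⁅K₂, zpowers (zz K)⁆ ≤ OO K₂ := by
      obtain ⟨S, hS, -, hS1, hS2⟩ := PairComm.exists_common' h hK.1 hK₂.1 hR (fun a ha => (hcen a ha).symm)
      exact PairComm.commutator_zz_le h hS hS2 hS1 hn2
    have h11 := h.zz_mul hK₁.1
    have h22 := h.zz_mul hK₂.1
    have h33 := h.zz_mul hK.1
    obtain ⟨L, hL, hLc⟩ := exists_syl_cent h11 h33 hcomm t1 t2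
    have hzL : zz K₂ ∈ L := by
      obtain ⟨x, v, n, hc⟩ := h.exists_gq hK₂.1 hL
      exact hc.z_mem
    have hc2 := hLc _ hzL
    have c21 : zz K₁ * zz K₂ = zz K₂ * zz K₁ := by
      have m2 : zz K₂ ∈ R₂ := by
        obtain ⟨x, v, n, hc⟩ := h.exists_gq hK₂.1 hR₂
        exact hc.z_mem
      exact hcm _ m1 _ m2
    have hu : zz K₁ * zz K₂ * zz K = zz K₂ * (zz K₁ * zz K) := by rw [c21, mul_assoc]
    have hu2 : zz K₂ * (zz K₁ * zz K) * (zz K₂ * (zz K₁ * zz K)) = 1 :=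
      mul_sq h22 (mul_sq h11 h33 hcomm) hc2.symm
    have hu1 : zz K₂ * (zz K₁ * zz K) ≠ 1 := by
      intro h5
      apply hRne'
      rw [← hu] at h5
      have h6 : zz K₁ * zz K₂ = (zz K)⁻¹ := eq_inv_of_mul_eq_one_left h5
      rw [h6, h.zz_inv hK.1]
    rw [hu]
    refine cc L (mem_QQ hK₂ hL) _ hu2 hu1 ?_
    intro x hx
    have h5 := hLc x hx
    have h6 : x * zz K₂ = zz K₂ * x := h.comm_zz hK₂.1 (le_normalizer (hL.1 hx))
    calc zz K₂ * (zz K₁ * zz K) * x = zz K₂ * (zz K₁ * zz K * x) := by group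
      _ = (zz K₂ * x) * (zz K₁ * zz K) := by rw [h5]; group
      _ = x * (zz K₂ * (zz K₁ * zz K)) := by rw [← h6]; group

/-- a member over an element of `E(S)` is in `Om(S)` -/
theorem mem_OmS_of_zz_mem_ES (h : Hyp Om) (S : Sylow 2 G) {N : Subgroup G} (hN : N ∈ Om)
    (hz : zz N ∈ ES Om (S : Subgroup G)) : N ∈ OmS Om (S : Subgroup G) := by
  have hD : DD Om (S : Subgroup G) ≤ centralizer {zz N} :=
    (DD_le_centralizer_ES h S.isPGroup').trans (centralizer_le (Set.singleton_subset_iff.2 hz))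
  obtain ⟨T, hT, hDT⟩ := Cit.exists_syl_ge (S.isPGroup'.to_le DD_le) hD
  rw [← h.OmS_eq S hT.2.1 hDT]
  exact h.mem_OmS_of_syl hN hT

/-- conjugation on `{zz K | K ∈ Om(S)}` -/
theorem conj_mem_image (h : Hyp Om) {S : Subgroup G} {s x : G} (hs : s ∈ S) (hx : x ∈ zz '' OmS Om S) :
    s * x * s⁻¹ ∈ zz '' OmS Om S := by
  obtain ⟨K, hK, rfl⟩ := hx
  exact ⟨cj s K, cj_mem_OmS' h.conj (le_normalizer hs) hK, h.zz_cj hK.1 s⟩

/-- **THE CLOSING THEOREM FOR `τ ≤ 2`** -/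
theorem false_of_twin (e : Emb Om M) (ht : TauTwo Om) (c : Clo M (QQ Om M)) (cc : CC M (QQ Om M))
    (h4 : ∀ S : Sylow 2 G, 4 ≤ Nat.card (ES Om (S : Subgroup G))) (hM : M ≠ ⊤) (hB : CloEnd.Bend G)
    (hc : CloEnd.Crit1175 G) : False := by
  have h := e.hyp
  have t := tw e ht cc h4
  by_cases hodd : ∃ S : Sylow 2 G, (S : Subgroup G) ≤ M ∧ Odd (zz '' OmS Om (S : Subgroup G)).ncard
  · -- a 2-central `zz K`
    obtain ⟨S, hS, ho⟩ := hodd
    obtain ⟨_, ⟨K, hK, rfl⟩, hKc⟩ := exists_fixed S.isPGroup' (fun p hp x hx => conj_mem_image h hp hx) ho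
    have hKQ := syl_inf S.isPGroup' hK
    have hQ := mem_QQ (OmS_mono hS hK) hKQ
    obtain ⟨S', hS', hS'M, hSS', R, hR, hRS', hRz⟩ := t.r2 S S.isPGroup' hS _ hQ inf_le_right
    have hSe : S' = S := S.3 hS' hSS'
    have hz := e.zz_of_syl hK.1 hKQ
    refine c.false_of_odd hM hB hc (c.pp_of_tw t) S hS ⟨_, hQ, R, hR, inf_le_right, hSe ▸ hRS', ?_⟩ hQ ?_ ?_
    · rintro rfl
      exact hRz rfl
    · rw [hz]
      exact (h.zz_mem_inf S.isPGroup' hK).2
    · rw [hz]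
      exact hKc
  · push Not at hodd
    obtain ⟨K, hK⟩ := e.ne
    obtain ⟨Q, hQ⟩ := Hyp.exists_syl K
    have hzQ := e.zz_of_syl hK.1 hQ
    refine c.false_of_even t hM (mem_QQ hK hQ) ?_
    intro T hT hTz
    rw [hzQ] at hTz ⊢
    obtain ⟨T', hT', hTT'⟩ := Cit.exists_syl_ge hT
      (show T ≤ centralizer {zz K} from fun x hx => mem_centralizer_singleton_iff.2 (hTz x hx))
    have hKT' := h.mem_OmS_of_syl hK.1 hT'
    haveI : Fact (Nat.Prime 2) := ⟨Nat.prime_two⟩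
    obtain ⟨S, hS⟩ := hT'.2.1.exists_le_sylow
    have hKS : K ∈ OmS Om (S : Subgroup G) := OmS_mono hS hKT'
    have hSM := e.sylow_le S hK hKS
    have hTS : T ≤ S := hTT'.trans hS
    obtain ⟨ZS, hZS⟩ : ∃ ZS, ZS = zz '' OmS Om (S : Subgroup G) := ⟨_, rfl⟩
    have hev : Even ZS.ncard := by
      rw [hZS]; exact Nat.not_odd_iff_even.1 (hodd S hSM)
    have hz2 := h.zz_mul hK.1
    have hz1 := h.zz_ne hK.1
    have hzZ : zz K ∈ ZS := by rw [hZS]; exact ⟨K, hKS, rfl⟩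
    let X : Set G := {x | x ∈ ZS ∧ x ≠ zz K ∧ zz K * x ∈ ZS}
    let Y : Set G := {x | x ∈ ZS ∧ x ≠ zz K ∧ zz K * x ∉ ZS}
    have hXe : Even X.ncard := by
      refine even_of_mul hz2 hz1 ?_
      rintro x ⟨hx1, hx2, hx3⟩
      refine ⟨hx3, ?_, ?_⟩
      · intro h5
        have h6 : x = 1 := by simpa using h5
        rw [hZS, h6] at hx1
        obtain ⟨L, hL, hL1⟩ := hx1
        exact h.zz_ne hL.1 hL1
      · rw [← mul_assoc, hz2, one_mul]
        exact hx1
    have hYo : Odd Y.ncard := by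
      have h5 : ZS = insert (zz K) (X ∪ Y) := by
        ext x
        simp only [Set.mem_insert_iff, Set.mem_union, X, Y, Set.mem_ofPred_eq]
        constructor
        · intro hx
          by_cases h6 : x = zz K
          · exact Or.inl h6
          · by_cases h7 : zz K * x ∈ ZS
            · exact Or.inr (Or.inl ⟨hx, h6, h7⟩)
            · exact Or.inr (Or.inr ⟨hx, h6, h7⟩)
        · rintro (rfl | h6 | h6)
          · exact hzZ
          · exact h6.1
          · exact h6.1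
      have h6 : zz K ∉ X ∪ Y := by
        rintro (h7 | h7)
        · exact h7.2.1 rfl
        · exact h7.2.1 rfl
      have h7 : Disjoint X Y := by
        rw [Set.disjoint_left]
        rintro x ⟨-, -, h8⟩ ⟨-, -, h9⟩
        exact h9 h8
      rw [h5, Set.ncard_insert_of_notMem h6, Set.ncard_union_eq h7] at hev
      obtain ⟨a, ha⟩ := hev
      obtain ⟨b, hb⟩ := hXe
      rw [Nat.odd_iff]
      omega
    obtain ⟨x, hxY, hxT⟩ := exists_fixed hT (X := Y) (by
      rintro p hp x ⟨hx1, hx2, hx3⟩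
      have hpz := hTz p hp
      have hpx : p * x * p⁻¹ ∈ ZS := by rw [hZS] at hx1 ⊢; exact conj_mem_image h (hTS hp) hx1
      refine ⟨hpx, ?_, ?_⟩
      · intro h5
        apply hx2
        calc x = p⁻¹ * (p * x * p⁻¹) * p := by group
          _ = p⁻¹ * (zz K * p) := by rw [h5]; group
          _ = zz K := by rw [← hpz]; group
      · intro h5
        apply hx3
        have h6 : p⁻¹ * (zz K * (p * x * p⁻¹)) * p⁻¹⁻¹ ∈ ZS := by
          rw [hZS] at h5 ⊢
          exact conj_mem_image h (inv_mem (hTS hp)) h5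
        have h7 : p⁻¹ * (zz K * (p * x * p⁻¹)) * p⁻¹⁻¹ = zz K * x := by
          calc p⁻¹ * (zz K * (p * x * p⁻¹)) * p⁻¹⁻¹ = p⁻¹ * (zz K * p) * x := by group
            _ = p⁻¹ * (p * zz K) * x := by rw [hpz]
            _ = zz K * x := by group
        rwa [h7] at h6) hYo
    obtain ⟨hxZ, hxne, hxn⟩ := hxY
    have hxZ' := hxZ
    rw [hZS] at hxZ'
    obtain ⟨K₂, hK₂, rfl⟩ := hxZ'
    have s1 := syl_inf S.isPGroup' hKS
    have s2 := syl_inf S.isPGroup' hK₂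
    have y1 := e.zz_of_syl hK.1 s1
    have y2 := e.zz_of_syl hK₂.1 s2
    refine ⟨S, S.isPGroup', hSM, _, mem_QQ hK s1, _, mem_QQ (OmS_mono hSM hK₂) s2, inf_le_right, inf_le_right,
      y1, ?_, ?_, ?_⟩
    · rw [y2]; exact hxne
    · rw [y2]; exact hxT
    · rintro L ⟨N, hN, hL⟩ hLz
      rw [y1, y2, e.zz_of_syl hN.1 hL] at hLz
      apply hxn
      rw [hZS, ← hLz]
      refine ⟨N, mem_OmS_of_zz_mem_ES h S hN.1 ?_, rfl⟩
      rw [hLz]
      exact mul_mem (zz_mem_ES hKS) (zz_mem_ES hK₂)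

end Cfsg.Agent.Cit.CloTwinOm
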