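import Cfsg.Agent.Cit.CloTwinOm
import Cfsg.Agent.Cit.CloseMain

/-!
# `CloseMain.TwinStmt` (`τ = 2` in THEOREM CLOSE)
-/

set_option autoImplicit false

namespace Cfsg.Agent.Cit.CloseMain

universe u

/-- **the case `τ = 2` of THEOREM CLOSE** -/
theorem twinStmt : TwinStmt.{u} := by
  intro G _ _ Om M _ e _ c cc h4 ht _ hM hB h75
  exact CloTwinOm.false_of_twin e ht c cc h4 hM hB h75

end Cfsg.Agent.Cit.CloseMain
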