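import Cfsg.Agent.Cit.CloClass

/-!
# Closing of the classical involution theorem: several pieces

`c : Clo M QQ`. A *piece map* `π` on `QQ`, `C i` (`i` a piece) a subgroup such that the involutions of `C i` are
good; `zz Q ∈ C i` iff `π Q ≠ i`; `M` permutes the pieces transitively.  `Pcs.false_of_pieces` : there is only one
piece (bb R18 #9232 (S2)): two pieces are excluded by transfer, three by S1175, four or more by CLOSE-A.
-/

set_option autoImplicit false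
set_option linter.unusedSectionVars false
set_option linter.style.haveILetI false

namespace Cfsg.Agent.Cit.CloPoint

open Subgroup Cfsg OneBasic

variable {G : Type*} [Group G] {ι : Type*}

/-- see the head of the file -/
structure Pcs (M : Subgroup G) (QQ : Set (Subgroup G)) (π : Subgroup G → ι) (C : ι → Subgroup G) : Prop where
  inv : ∀ m ∈ M, ∀ Q ∈ QQ, ∀ R ∈ QQ, π Q = π R → π (cj m Q) = π (cj m R)
  tr : ∀ Q ∈ QQ, ∀ R ∈ QQ, ∃ m ∈ M, π (cj m Q) = π R
  cov : ∀ S, Syl S M → ∀ R ∈ QQ, ∃ R' ∈ QQ, R' ≤ S ∧ π R' = π R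
  out : ∀ Q ∈ QQ, ∀ R ∈ QQ, π Q ≠ π R → zz Q ∈ C (π R)
  nt : ∀ Q ∈ QQ, zz Q ∉ C (π Q)
  cc : ∀ Q ∈ QQ, ∀ f ∈ C (π Q), f ∈ M → f * f = 1 → f ≠ 1 → centralizer {f} ≤ M

/-- the pieces -/
def Val (QQ : Set (Subgroup G)) (π : Subgroup G → ι) : Type _ := {i // ∃ Q ∈ QQ, π Q = i}

/-- the piece of `Q` -/
def Val.mk {QQ : Set (Subgroup G)} {π : Subgroup G → ι} (Q : Subgroup G) (hQ : Q ∈ QQ) : Val QQ π :=
  ⟨π Q, Q, hQ, rfl⟩

namespace Pcs

variable {M : Subgroup G} {QQ : Set (Subgroup G)} {π : Subgroup G → ι} {C : ι → Subgroup G}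

theorem val_ext {a b : Val QQ π} (h : a.1 = b.1) : a = b := Subtype.ext h

theorem val_mk_eq {Q R : Subgroup G} {hQ : Q ∈ QQ} {hR : R ∈ QQ} :
    (Val.mk Q hQ : Val QQ π) = Val.mk R hR ↔ π Q = π R :=
  ⟨fun h => congrArg Subtype.val h, fun h => Subtype.ext h⟩

theorem exists_mk (a : Val QQ π) : ∃ (Q : Subgroup G) (hQ : Q ∈ QQ), a = Val.mk Q hQ := by
  obtain ⟨i, Q, hQ, rfl⟩ := a
  exact ⟨Q, hQ, rfl⟩

/-- the action of `M` on the pieces -/
noncomputable def smulFun (c : Clo M QQ) (m : M) (a : Val QQ π) : Val QQ π :=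
  Val.mk (cj (m : G) a.2.choose) (c.inv m m.2 _ a.2.choose_spec.1)

theorem smulFun_mk (p : Pcs M QQ π C) (c : Clo M QQ) (m : M) {Q : Subgroup G} (hQ : Q ∈ QQ) :
    smulFun c m (Val.mk Q hQ : Val QQ π) = Val.mk (cj (m : G) Q) (c.inv m m.2 Q hQ) := by
  have h := (Val.mk Q hQ : Val QQ π).2.choose_spec
  exact val_mk_eq.2 (p.inv m m.2 _ h.1 Q hQ h.2)

/-- the action of `M` on the pieces -/
@[reducible] noncomputable def mulAction (p : Pcs M QQ π C) (c : Clo M QQ) : MulAction M (Val QQ π) where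
  smul := smulFun c
  one_smul a := by
    obtain ⟨Q, hQ, rfl⟩ := exists_mk a
    show smulFun c 1 _ = _
    rw [p.smulFun_mk c 1 hQ, val_mk_eq, OneMemClass.coe_one, cj_one]
  mul_smul m n a := by
    obtain ⟨Q, hQ, rfl⟩ := exists_mk a
    show smulFun c (m * n) _ = smulFun c m (smulFun c n _)
    rw [p.smulFun_mk c _ hQ, p.smulFun_mk c _ hQ, p.smulFun_mk c _ (c.inv n n.2 Q hQ), val_mk_eq,
      Subgroup.coe_mul, cj_mul]

theorem zz_ne (p : Pcs M QQ π C) {Q R : Subgroup G} (hQ : Q ∈ QQ) (hR : R ∈ QQ) (h : π Q ≠ π R) :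
    zz Q ≠ zz R := by
  intro h1
  apply p.nt R hR
  rw [← h1]
  exact p.out Q hQ R hR h

/-- a product of involutions in `C j` is good -/
theorem good_mul (p : Pcs M QQ π C) {P : Subgroup G} (hP : P ∈ QQ) {a b : G} (ha : a ∈ C (π P))
    (hb : b ∈ C (π P)) (haM : a ∈ M) (hbM : b ∈ M) (ha2 : a * a = 1) (hb2 : b * b = 1) (hab : a * b = b * a)
    (hne : a ≠ b) : CloEnd.Good M (a * b) := by
  have h1 : a * b * (a * b) = 1 := mul_sq ha2 hb2 hab
  have h2 : a * b ≠ 1 := mul_ne ha2 hne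
  exact ⟨M.mul_mem haM hbM, h1, h2, p.cc P hP _ ((C (π P)).mul_mem ha hb) (M.mul_mem haM hbM) h1 h2⟩

variable [Finite G]

/-- (P1) for at least three pieces -/
theorem pp (p : Pcs M QQ π C) (c : Clo M QQ)
    (h3 : ∀ Q ∈ QQ, ∀ R ∈ QQ, ∃ P ∈ QQ, π Q ≠ π P ∧ π R ≠ π P) : PP M QQ := by
  intro Q hQ R hR hcomm hne
  obtain ⟨P, hP, h1, h2⟩ := h3 Q hQ R hR
  exact p.good_mul hP (p.out Q hQ P hP h1) (p.out R hR P hP h2) (c.good_zz hQ).mem (c.good_zz hR).mem
    (c.zz_mul hQ) (c.zz_mul hR) hcomm hne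

/-- at least four pieces -/
theorem false_of_four (p : Pcs M QQ π C) (c : Clo M QQ) (hM : M ≠ ⊤)
    (h4 : ∀ Q ∈ QQ, ∀ R ∈ QQ, ∀ R' ∈ QQ, ∃ P ∈ QQ, π Q ≠ π P ∧ π R ≠ π P ∧ π R' ≠ π P)
    (h2 : ∃ Q ∈ QQ, ∃ R ∈ QQ, π Q ≠ π R) : False := by
  obtain ⟨S, hS⟩ := Hyp.exists_syl M
  obtain ⟨Q₀, hQ₀, R₀, hR₀, hQR₀⟩ := h2
  obtain ⟨Q, hQ, hQS, hQ1⟩ := p.cov S hS Q₀ hQ₀
  obtain ⟨R, hR, hRS, hR1⟩ := p.cov S hS R₀ hR₀
  have hQR : π Q ≠ π R := by rw [hQ1, hR1]; exact hQR₀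
  have hne : zz Q ≠ zz R := p.zz_ne hQ hR hQR
  have hQR' : Q ≠ R := fun h => hQR (by rw [h])
  have hcomm : zz Q * zz R = zz R * zz Q :=
    c.comm S hS.2.1 hS.1 Q hQ R hR hQS hRS hQR' _ (c.ord Q hQ).1 _ (c.ord R hR).1
  have hPP : PP M QQ := p.pp c (fun Q hQ R hR => by
    obtain ⟨P, hP, h1, h2, -⟩ := h4 Q hQ R hR R hR
    exact ⟨P, hP, h1, h2⟩)
  have hv : CloEnd.Good M (zz Q * zz R) := hPP Q hQ R hR hcomm hne
  have hconj : IsConj (zz Q) (zz Q * zz R) := by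
    refine c.isConj_of hM hPP hQ hv ?_ ?_
    · rw [mul_assoc, ← hcomm]
    · intro P hP _ hPv hPne
      obtain ⟨P', hP', h1, h2, h3⟩ := h4 Q hQ R hR P hP
      refine c.not_bad (p.good_mul hP' ((C _).mul_mem (p.out Q hQ P' hP' h1) (p.out R hR P' hP' h2))
        (p.out P hP P' hP' h3) hv.mem (c.good_zz hP).mem hv.sq (c.zz_mul hP) hPv.symm (Ne.symm hPne))
  obtain ⟨P, hP, hPv⟩ := c.exists_of_conj hQ hconj hv.mem
  have h5 : π P = π Q := by
    by_contra h
    apply p.nt Q hQ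
    have h6 := p.out P hP Q hQ h
    rw [hPv] at h6
    exact ((C (π Q)).mul_mem_cancel_right (p.out R hR Q hQ (Ne.symm hQR))).1 h6
  have h6 : π P = π R := by
    by_contra h
    apply p.nt R hR
    have h6 := p.out P hP R hR h
    rw [hPv] at h6
    exact ((C (π R)).mul_mem_cancel_left (p.out Q hQ R hR hQR)).1 h6
  exact hQR (h5.symm.trans h6)

/-- an odd number `≥ 3` of pieces: more generally a Sylow 2-subgroup fixes a piece -/
theorem false_of_fixed (p : Pcs M QQ π C) (c : Clo M QQ) (hM : M ≠ ⊤) (hB : CloEnd.Bend G)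
    (hc : CloEnd.Crit1175 G) (h3 : ∀ Q ∈ QQ, ∀ R ∈ QQ, ∃ P ∈ QQ, π Q ≠ π P ∧ π R ≠ π P)
    (S : Sylow 2 G) (hS : (S : Subgroup G) ≤ M) {Q₀ : Subgroup G} (hQ₀ : Q₀ ∈ QQ)
    (hfix : ∀ s ∈ S, π (cj s Q₀) = π Q₀) : False := by
  have : Fact (Nat.Prime 2) := ⟨Nat.prime_two⟩
  have hSM := Clo.syl_of_sylow hS
  -- the subgroup `E_i`
  set E : Subgroup G := closure {z | ∃ Q ∈ QQ, Q ≤ (S : Subgroup G) ∧ π Q = π Q₀ ∧ zz Q = z} with hE
  obtain ⟨Q, hQ, hQS, hQ1⟩ := p.cov _ hSM Q₀ hQ₀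
  have hzE : zz Q ∈ E := subset_closure ⟨Q, hQ, hQS, hQ1, rfl⟩
  have hEE : E ≤ EE QQ (S : Subgroup G) := by
    rw [hE]
    refine closure_mono ?_
    rintro z ⟨R, hR, hRS, -, rfl⟩
    exact ⟨R, hR, hRS, rfl⟩
  have hES : E ≤ S := hEE.trans c.EE_le
  have hconjE : ∀ s ∈ S, ∀ x ∈ E, s * x * s⁻¹ ∈ E := by
    intro s hs x hx
    induction hx using closure_induction with
    | mem x hx =>
      obtain ⟨R, hR, hRS, hR1, rfl⟩ := hx
      refine subset_closure ⟨cj s R, c.inv s (hS hs) R hR, ?_, ?_, c.zz_cj hR s⟩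
      · have h1 := cj_mono s hRS
        rwa [mem_normalizer_iff_cj.1 (le_normalizer hs)] at h1
      · rw [p.inv s (hS hs) R hR Q₀ hQ₀ hR1, hfix s hs]
    | one => simp
    | mul x y _ _ hx hy =>
      have h1 : s * (x * y) * s⁻¹ = (s * x * s⁻¹) * (s * y * s⁻¹) := by group
      rw [h1]; exact E.mul_mem hx hy
    | inv x _ hx =>
      have h1 : s * x⁻¹ * s⁻¹ = (s * x * s⁻¹)⁻¹ := by group
      rw [h1]; exact E.inv_mem hx
  have hnorm : (S : Subgroup G) ≤ normalizer (E : Set G) := by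
    intro s hs
    rw [mem_normalizer_iff]
    intro x
    refine ⟨fun hx => hconjE s hs x hx, fun hx => ?_⟩
    have := hconjE s⁻¹ (S.inv_mem hs) _ hx
    simpa [mul_assoc] using this
  have hnn : (E.subgroupOf S).Normal := (normal_subgroupOf_iff_le_normalizer hES).2 hnorm
  have hne : E.subgroupOf S ≠ ⊥ := by
    intro h
    have h1 : (⟨zz Q, hES hzE⟩ : S) ∈ E.subgroupOf S := mem_subgroupOf.2 hzE
    rw [h, mem_bot] at h1
    exact c.zz_ne hQ (congrArg Subtype.val h1)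
  have hnil : Group.IsNilpotent S := S.isPGroup'.isNilpotent
  have h1 := Cfsg.Agent.Lib.NormalAbelian.normal_inf_center_ne_bot (E.subgroupOf S) hne
  obtain ⟨⟨w, hw⟩, hw1⟩ := Subgroup.ne_bot_iff_exists_ne_one.1 h1
  have hwE : (w : G) ∈ E := mem_subgroupOf.1 hw.1
  have hw1' : (w : G) ≠ 1 := fun h => hw1 (Subtype.ext (Subtype.ext h))
  have hwc : ∀ s ∈ S, s * (w : G) = w * s := fun s hs =>
    congrArg Subtype.val (mem_center_iff.1 hw.2 ⟨s, hs⟩)
  have hwg : CloEnd.Good M (w : G) := c.good S.isPGroup' hS (hEE hwE) hw1'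
  -- `E_i ≤ C j`, and its conjugates
  have hEC : ∀ g ∈ M, ∀ x ∈ E, ∀ P ∈ QQ, π (cj g Q₀) ≠ π P → g * x * g⁻¹ ∈ C (π P) := by
    intro g hg x hx P hP hgP
    induction hx using closure_induction with
    | mem x hx =>
      obtain ⟨R, hR, hRS, hR1, rfl⟩ := hx
      rw [← c.zz_cj hR g]
      refine p.out _ (c.inv g hg R hR) P hP ?_
      rw [p.inv g hg R hR Q₀ hQ₀ hR1]
      exact hgP
    | one => simp
    | mul x y _ _ hx hy =>
      have h1 : g * (x * y) * g⁻¹ = (g * x * g⁻¹) * (g * y * g⁻¹) := by group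
      rw [h1]; exact mul_mem hx hy
    | inv x _ hx =>
      have h1 : g * x⁻¹ * g⁻¹ = (g * x * g⁻¹)⁻¹ := by group
      rw [h1]; exact inv_mem hx
  -- two members
  have htwo : CloEnd.Two G := by
    obtain ⟨P, hP, h5, -⟩ := h3 Q hQ Q hQ
    obtain ⟨R, hR, hRS, hR1⟩ := p.cov _ hSM P hP
    refine c.two' S.isPGroup' hS hQ hR hQS hRS ?_
    rintro rfl
    exact h5 hR1
  refine CloEnd.false_of_central htwo hB hc hM c.hTwo hwg S (hES hwE) hwc ?_
  intro g hg hcomm hgne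
  obtain ⟨P, hP, h5, h6⟩ := h3 Q₀ hQ₀ (cj g Q₀) (c.inv g hg Q₀ hQ₀)
  have h7 : (w : G) ∈ C (π P) := by
    have := hEC 1 M.one_mem w hwE P hP (by rwa [cj_one])
    simpa using this
  have h8 := hwg.conj hg
  exact (p.good_mul hP h7 (hEC g hg w hwE P hP h6) hwg.mem h8.mem hwg.sq h8.sq hcomm (Ne.symm hgne)).cent

/-- **there is only one piece** -/
theorem false_of_pieces (p : Pcs M QQ π C) (c : Clo M QQ) (hM : M ≠ ⊤) (hG : commutator G = ⊤)
    (hB : CloEnd.Bend G) (hc : CloEnd.Crit1175 G) (h2 : ∃ Q ∈ QQ, ∃ R ∈ QQ, π Q ≠ π R) : False := by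
  classical
  have : Fact (Nat.Prime 2) := ⟨Nat.prime_two⟩
  obtain ⟨S, hS⟩ := c.exists_sylow_le
  letI := p.mulAction c
  have hsm : ∀ (m : M) {Q : Subgroup G} (hQ : Q ∈ QQ),
      m • (Val.mk Q hQ : Val QQ π) = Val.mk (cj (m : G) Q) (c.inv m m.2 Q hQ) := fun m Q hQ => p.smulFun_mk c m hQ
  have hfin : Finite (Val QQ π) := by
    have h3 : Function.Surjective (fun Q : QQ => (Val.mk Q.1 Q.2 : Val QQ π)) := by
      intro a
      obtain ⟨Q, hQ, rfl⟩ := exists_mk a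
      exact ⟨⟨Q, hQ⟩, rfl⟩
    exact Finite.of_surjective _ h3
  have htrans : MulAction.IsPretransitive M (Val QQ π) := ⟨by
    intro a b
    obtain ⟨Q, hQ, rfl⟩ := exists_mk a
    obtain ⟨R, hR, rfl⟩ := exists_mk b
    obtain ⟨m, hm, h3⟩ := p.tr Q hQ R hR
    refine ⟨⟨m, hm⟩, ?_⟩
    rw [hsm ⟨m, hm⟩ hQ, val_mk_eq]
    exact h3⟩
  -- at least two values
  have hcard2 : 2 ≤ Nat.card (Val QQ π) := by
    obtain ⟨Q, hQ, R, hR, hQR⟩ := h2
    have : Nontrivial (Val QQ π) := ⟨⟨Val.mk Q hQ, Val.mk R hR, fun h => hQR (val_mk_eq.1 h)⟩⟩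
    exact Finite.one_lt_card
  -- avoiding a finite set of values
  have havoid : ∀ s : Finset (Val QQ π), s.card < Nat.card (Val QQ π) → ∃ P, ∃ hP : P ∈ QQ,
      (Val.mk P hP : Val QQ π) ∉ s := by
    intro s hs
    letI := Fintype.ofFinite (Val QQ π)
    rw [Nat.card_eq_fintype_card] at hs
    by_contra hcon
    push Not at hcon
    have h3 : s = Finset.univ := by
      rw [Finset.eq_univ_iff_forall]
      intro a
      obtain ⟨Q, hQ, rfl⟩ := exists_mk a
      exact hcon Q hQ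
    rw [h3, Finset.card_univ] at hs
    exact lt_irrefl _ hs
  rcases Nat.lt_or_ge (Nat.card (Val QQ π)) 4 with h4 | h4
  · rcases Nat.lt_or_ge (Nat.card (Val QQ π)) 3 with h3 | h3
    · -- two pieces
      have hcard : Nat.card (Val QQ π) = 2 := by omega
      obtain ⟨Q, hQ, R, hR, hQR⟩ := h2
      -- the stabiliser of a piece has index two in `M`
      have hidx : (MulAction.stabilizer M (Val.mk Q hQ : Val QQ π)).index = 2 := by
        rw [MulAction.index_stabilizer_of_transitive, hcard]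
      have hnorm : (MulAction.stabilizer M (Val.mk Q hQ : Val QQ π)).Normal :=
        Subgroup.normal_of_index_eq_two hidx
      set N := MulAction.stabilizer M (Val.mk Q hQ : Val QQ π) with hN
      -- `S ≤ M' ≤ N`
      have hMN : commutator M ≤ N := by
        rw [commutator_def, commutator_le]
        intro a _ b _
        rw [commutatorElement_def]
        simp only [mul_mem_iff_of_index_two hidx, inv_mem_iff]
        tauto
      have h5 := c.sylow_le_commutator S hS hG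
      have h6 : (S : Subgroup G) ≤ N.map M.subtype := by
        refine h5.trans ?_
        rw [← map_subtype_commutator]
        exact map_mono hMN
      have h7 : S.1.subgroupOf M ≤ N := by
        intro x hx
        obtain ⟨y, hy, hyx⟩ := h6 (mem_subgroupOf.1 hx)
        have : y = x := Subtype.ext hyx
        rwa [← this]
      have h8 : 2 ∣ (S.1.subgroupOf M).index := by
        have h9 := Subgroup.index_dvd_of_le h7
        rwa [hidx] at h9
      have h9 : (S : Subgroup G).relIndex M ∣ (S : Subgroup G).index := relIndex_dvd_index_of_le hS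
      exact S.not_dvd_index (h8.trans h9)
    · -- three pieces
      have hcard : Nat.card (Val QQ π) = 3 := by omega
      letI : MulAction S (Val QQ π) := MulAction.compHom (Val QQ π) (Subgroup.inclusion hS)
      have h5 := S.isPGroup'.card_modEq_card_fixedPoints (Val QQ π)
      rw [hcard] at h5
      have h6 : (MulAction.fixedPoints S (Val QQ π)).Nonempty := by
        by_contra hcon
        rw [Set.not_nonempty_iff_eq_empty] at hcon
        rw [hcon] at h5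
        simp at h5
        exact absurd h5 (by decide)
      obtain ⟨a, ha⟩ := h6
      obtain ⟨Q₀, hQ₀, rfl⟩ := exists_mk a
      refine p.false_of_fixed c hM hB hc ?_ S hS hQ₀ ?_
      · intro Q hQ R hR
        obtain ⟨P, hP, h7⟩ := havoid {Val.mk Q hQ, Val.mk R hR} (by
          refine lt_of_le_of_lt (Finset.card_le_two) (by omega))
        simp only [Finset.mem_insert, Finset.mem_singleton, not_or, val_mk_eq] at h7
        exact ⟨P, hP, Ne.symm h7.1, Ne.symm h7.2⟩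
      · intro s hs
        have h7 := ha ⟨s, hs⟩
        have h8 : (Subgroup.inclusion hS ⟨s, hs⟩) • (Val.mk Q₀ hQ₀ : Val QQ π) = Val.mk Q₀ hQ₀ := h7
        rw [hsm _ hQ₀, val_mk_eq] at h8
        exact h8
  · refine p.false_of_four c hM ?_ h2
    intro Q hQ R hR R' hR'
    obtain ⟨P, hP, h7⟩ := havoid {Val.mk Q hQ, Val.mk R hR, Val.mk R' hR'} (by
      refine lt_of_le_of_lt (Finset.card_le_three) (by omega))
    simp only [Finset.mem_insert, Finset.mem_singleton, not_or, val_mk_eq] at h7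
    exact ⟨P, hP, Ne.symm h7.1, Ne.symm h7.2.1, Ne.symm h7.2.2⟩

end Pcs

end Cfsg.Agent.Cit.CloPoint
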