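import Cfsg.Agent.Cit.CloH2
import Cfsg.Agent.Cit.CloClass
import Cfsg.Agent.Cit.AutAct

/-!
# CONN / CLOSE: assembly of THEOREM CLOSE (first part)

`e : Emb Om M`, `c : Clo M (QQ Om M)`, `cc : CC M (QQ Om M)` (= (C)).

* `good_of_triv` : an involution trivial on `K/O(K)`, `K ∈ Γ = OmS Om M`, is good;
* `false_of_triv` : (SC) : no involution of `M` is trivial on `K/O(K)` for all `K ∈ Γ`;
* `nrm_of_fix` : an involution commuting with `z_K` and normalising some `L ∈ Om` with `z_L = z_K` satisfies `Nrm`;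
* `false_of_tau_one` : `τ = 1`.
-/

set_option autoImplicit false
set_option linter.unusedSectionVars false
set_option linter.style.haveILetI false

namespace Cfsg.Agent.Cit.Close

open Subgroup Cfsg SubCent CloGraph AutAct
open scoped commutatorElement

variable {G : Type*} [Group G]

/-- the elements normalising `K` and acting trivially on `K / O(K)` -/
noncomputable def TrivK (K : Subgroup G) : Subgroup G := (act K).ker.map (normalizer (K : Set G)).subtype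

theorem mem_TrivK {K : Subgroup G} {g : G} : g ∈ TrivK K ↔ g ∈ normalizer (K : Set G) ∧ Triv g K := by
  constructor
  · rintro ⟨⟨x, hx⟩, h1, rfl⟩
    exact ⟨hx, (act_eq_one_iff hx).1 (MonoidHom.mem_ker.1 h1)⟩
  · rintro ⟨h1, h2⟩
    exact ⟨⟨g, h1⟩, MonoidHom.mem_ker.2 ((act_eq_one_iff h1).2 h2), rfl⟩

theorem conj_mem_TrivK {K : Subgroup G} {g : G} (hg : g ∈ TrivK K) (m : G) : m * g * m⁻¹ ∈ TrivK (cj m K) := by
  rw [mem_TrivK] at hg ⊢
  obtain ⟨h1, h2⟩ := hg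
  constructor
  · rw [mem_normalizer_iff_cj] at h1 ⊢
    rw [← cj_mul, inv_mul_cancel_right, cj_mul, h1]
  · intro k hk
    rw [mem_cj] at hk
    have h3 := h2 _ hk
    rw [OO_cj, mem_cj]
    have h4 : m⁻¹ * (m * g * m⁻¹ * k * (m * g * m⁻¹)⁻¹ * k⁻¹) * m
        = g * (m⁻¹ * k * m) * g⁻¹ * (m⁻¹ * k * m)⁻¹ := by group
    rwa [h4]

/-- the elements of `M` trivial on all members of `Γ` -/
noncomputable def KerM (Om : Set (Subgroup G)) (M : Subgroup G) : Subgroup G := M ⊓ ⨅ K ∈ OmS Om M, TrivK K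

theorem mem_KerM {Om : Set (Subgroup G)} {M : Subgroup G} {g : G} :
    g ∈ KerM Om M ↔ g ∈ M ∧ ∀ K ∈ OmS Om M, g ∈ TrivK K := by
  rw [KerM, mem_inf]
  simp only [mem_iInf]

variable [Finite G] {Om : Set (Subgroup G)} {M : Subgroup G}

theorem le_normalizer_KerM (h : Hyp Om) : M ≤ normalizer (KerM Om M : Set G) := by
  have key : ∀ m ∈ M, ∀ g ∈ KerM Om M, m * g * m⁻¹ ∈ KerM Om M := by
    intro m hm g hg
    rw [mem_KerM] at hg ⊢
    refine ⟨M.mul_mem (M.mul_mem hm hg.1) (M.inv_mem hm), fun K hK => ?_⟩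
    have h1 := hg.2 (cj m⁻¹ K) (cj_mem_OmS_of_mem h (M.inv_mem hm) hK)
    have h2 := conj_mem_TrivK h1 m
    rwa [cj_cj_inv] at h2
  intro m hm
  rw [mem_normalizer_iff]
  intro g
  refine ⟨fun hg => key m hm g hg, fun hg => ?_⟩
  have h1 := key m⁻¹ (M.inv_mem hm) _ hg
  have h2 : m⁻¹ * (m * g * m⁻¹) * m⁻¹⁻¹ = g := by group
  rwa [h2] at h1

theorem isPGroup_zpowers_of_sq {f : G} (hf : f * f = 1) : IsPGroup 2 (zpowers f) := CloEnd.isPGroup_zpowers hf

/-- an involution trivial on `K / O(K)` : `K` is covered by its centraliser -/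
theorem mem_cov_of_triv (h : Hyp Om) {K : Subgroup G} (hK : K ∈ Om) {f : G} (hf : f * f = 1) (ht : Triv f K) :
    K ∈ cov Om (centralizer {f}) := by
  have h3 : centralizer ((zpowers f : Subgroup G) : Set G) = centralizer {f} := by
    rw [zpowers_eq_closure, centralizer_closure]
  rw [← h3, mem_cov_centralizer h (isPGroup_zpowers_of_sq hf)]
  refine ⟨hK, ?_⟩
  rw [commutator_le]
  intro k hk x hx
  have hx' : x = 1 ∨ x = f := by
    obtain ⟨i, rfl⟩ := mem_zpowers_iff.1 hx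
    rcases Int.even_or_odd' i with ⟨j, rfl | rfl⟩
    · left
      rw [zpow_mul, zpow_two, hf, one_zpow]
    · right
      rw [zpow_add, zpow_mul, zpow_two, hf, one_zpow, one_mul, zpow_one]
  rcases hx' with rfl | rfl
  · rw [commutatorElement_one_right]; exact one_mem _
  · have h1 := (OO K).inv_mem (ht k hk)
    have h2 : (x * k * x⁻¹ * k⁻¹)⁻¹ = ⁅k, x⁆ := by rw [commutatorElement_def]; group
    rwa [h2] at h1

/-- **good**: an involution trivial on `K / O(K)` for one `K ∈ Γ` -/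
theorem good_of_triv (e : Emb Om M) (cc : CloPoint.CC M (QQ Om M)) {K : Subgroup G} (hK : K ∈ OmS Om M) {f : G}
    (hf : f * f = 1) (hf1 : f ≠ 1) (ht : Triv f K) : centralizer {f} ≤ M := by
  have h1 := mem_cov_of_triv e.hyp hK.1 hf ht
  obtain ⟨Q, hQ⟩ := Hyp.exists_syl (K ⊓ centralizer {f})
  refine cc Q ⟨K, hK, syl_of_syl_inf h1 hQ⟩ f hf hf1 fun x hx => ?_
  exact (mem_centralizer_singleton_iff.1 (hQ.1 hx).2).symm

/-- **(SC)** no involution of `M` is trivial on all members of `Γ` -/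
theorem false_of_triv (e : Emb Om M) (c : CloPoint.Clo M (QQ Om M)) (cc : CloPoint.CC M (QQ Om M)) (hM : M ≠ ⊤)
    (ht : CloEnd.Two G) (hB : CloEnd.Bend G) (h74 : CloEnd.Crit1174 G) {f : G} (hf : f * f = 1) (hf1 : f ≠ 1)
    (hfM : f ∈ M) (hft : ∀ K ∈ OmS Om M, f ∈ TrivK K) : False := by
  refine CloEnd.false_of_normal ht hB h74 hM c.hTwo (N := KerM Om M) inf_le_left (le_normalizer_KerM e.hyp) ?_ ?_
  · have h1 : orderOf (⟨f, mem_KerM.2 ⟨hfM, hft⟩⟩ : KerM Om M) = 2 := by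
      rw [← orderOf_coe]
      exact orderOf_eq_prime (by rw [pow_two, hf]) hf1
    rw [even_iff_two_dvd, ← h1]
    exact orderOf_dvd_natCard _
  · intro g hg hgg hg1
    obtain ⟨K, hK⟩ := e.ne
    exact good_of_triv e cc hK hgg hg1 (mem_TrivK.1 ((mem_KerM.1 hg).2 K hK)).2

/-- an involution normalising a member over `z_K` -/
theorem nrm_of_fix (e : Emb Om M) {K L Q : Subgroup G} (hK : K ∈ OmS Om M) (hQ : Syl Q K) (hL : L ∈ Om)
    (hz : zz L = zz K) {f : G} (hf : f * f = 1) (hfL : cj f L = L) : CloPoint.Nrm (QQ Om M) Q f := by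
  have hLM := e.mem_of_zz_eq hK hL hz
  obtain ⟨S, hS, hfS, hR⟩ := LB.exists_two_sup (isPGroup_zpowers_of_sq hf)
    (zpowers_le.2 (mem_normalizer_iff_cj.2 hfL))
  refine ⟨S ⊓ L, ⟨L, hLM, hR⟩, ?_, ?_⟩
  · rw [e.zz_of_syl hL hR, e.zz_of_syl hK.1 hQ, hz]
  · rw [cj_inf, hfL, mem_normalizer_iff_cj.1 (le_normalizer (hfS (mem_zpowers f)))]

/-- at least two members when `|E(S)| ≥ 4` -/
theorem exists_two_members (h : Hyp Om) (S : Sylow 2 G) (h4 : 4 ≤ Nat.card (ES Om (S : Subgroup G))) :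
    ∃ K ∈ OmS Om (S : Subgroup G), ∃ L ∈ OmS Om (S : Subgroup G), zz K ≠ zz L := by
  obtain ⟨a, ha, b, hb, ha1, hb1, hab⟩ := CloH2.exists_two_of_card h4
  by_contra hcon
  push Not at hcon
  have hne : (OmS Om (S : Subgroup G)).Nonempty := by
    by_contra h1
    rw [Set.not_nonempty_iff_eq_empty] at h1
    rw [ES, h1, Set.image_empty, Subgroup.closure_empty, mem_bot] at ha
    exact ha1 ha
  obtain ⟨K, hK⟩ := hne
  have h1 : ES Om (S : Subgroup G) ≤ zpowers (zz K) := by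
    rw [ES_le_iff]
    intro L hL
    rw [← hcon K hK L hL]
    exact mem_zpowers _
  have h2 : ∀ x ∈ zpowers (zz K), x = 1 ∨ x = zz K := by
    intro x hx
    obtain ⟨i, rfl⟩ := mem_zpowers_iff.1 hx
    have h3 := h.zz_mul hK.1
    rcases Int.even_or_odd' i with ⟨j, rfl | rfl⟩
    · left
      rw [zpow_mul, zpow_two, h3, one_zpow]
    · right
      rw [zpow_add, zpow_mul, zpow_two, h3, one_zpow, one_mul, zpow_one]
  rcases h2 a (h1 ha) with h3 | h3
  · exact ha1 h3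
  rcases h2 b (h1 hb) with h5 | h5
  · exact hb1 h5
  exact hab (h3.trans h5.symm)

theorem exists_pair_QQ (e : Emb Om M) (S : Sylow 2 G) (hS : (S : Subgroup G) ≤ M)
    (h4 : 4 ≤ Nat.card (ES Om (S : Subgroup G))) :
    ∃ Q ∈ QQ Om M, ∃ R ∈ QQ Om M, Q ≤ (S : Subgroup G) ∧ R ≤ (S : Subgroup G) ∧ Q ≠ R := by
  obtain ⟨K, hK, L, hL, hne⟩ := exists_two_members e.hyp S h4
  have hQ := syl_inf S.isPGroup' hK
  have hR := syl_inf S.isPGroup' hL
  refine ⟨K ⊓ S, ⟨K, OmS_mono hS hK, hQ⟩, L ⊓ S, ⟨L, OmS_mono hS hL, hR⟩, inf_le_right, inf_le_right, ?_⟩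
  intro h1
  apply hne
  rw [← e.zz_of_syl hK.1 hQ, ← e.zz_of_syl hL.1 hR, h1]

/-- two commuting members: `CloEnd.Two` -/
theorem two_of_card (e : Emb Om M) (c : CloPoint.Clo M (QQ Om M))
    (h4 : ∀ S : Sylow 2 G, 4 ≤ Nat.card (ES Om (S : Subgroup G))) : CloEnd.Two G := by
  obtain ⟨S, hS⟩ := e.exists_sylow
  obtain ⟨Q, hQ, R, hR, hQS, hRS, hne⟩ := exists_pair_QQ e S hS (h4 S)
  exact c.two' S.isPGroup' hS hQ hR hQS hRS hne

/-- **THEOREM CLOSE, `τ = 1`** (with (C)) -/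
theorem false_of_tau_one (e : Emb Om M) (c : CloPoint.Clo M (QQ Om M)) (cc : CloPoint.CC M (QQ Om M)) (hM : M ≠ ⊤)
    (hB : CloEnd.Bend G) (h75 : CloEnd.Crit1175 G) (h4 : ∀ S : Sylow 2 G, 4 ≤ Nat.card (ES Om (S : Subgroup G)))
    (h1 : ∀ K ∈ Om, ∀ L ∈ Om, zz K = zz L → K = L) : False := by
  obtain ⟨S, hS⟩ := e.exists_sylow
  obtain ⟨Q, hQ, R, hR, hQS, hRS, hne⟩ := exists_pair_QQ e S hS (h4 S)
  refine c.false_of_tau_one hM hB h75 cc ?_ ⟨S, S.isPGroup', hS, Q, hQ, R, hR, hQS, hRS, hne⟩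
  rintro Q ⟨K, hK, hQ⟩ f hf hfQ
  rw [e.zz_of_syl hK.1 hQ] at hfQ
  refine nrm_of_fix e hK hQ hK.1 rfl hf (h1 _ (e.hyp.conj K hK.1 f) _ hK.1 ?_)
  rw [e.hyp.zz_cj hK.1, hfQ, mul_inv_cancel_right]

/-! ### The subgroup `M` from `N(E(S)) ≤ M`, `C(a) ≤ M` -/

/-- Sylow subgroups of `G` contained in `M ≥ S` are `M`-conjugate to `S` -/
theorem exists_conj_sylow (S T : Sylow 2 G) (hS : (S : Subgroup G) ≤ M) (hT : (T : Subgroup G) ≤ M) :
    ∃ m ∈ M, cj m (S : Subgroup G) = T := by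
  haveI : Fact (Nat.Prime 2) := ⟨Nat.prime_two⟩
  have key : ∀ S : Sylow 2 G, (S : Subgroup G) ≤ M → Syl (S : Subgroup G) M := fun S hS =>
    ⟨hS, S.isPGroup', fun h2 => S.not_dvd_index (h2.trans (relIndex_dvd_index_of_le hS))⟩
  exact (key S hS).exists_conj (key T hT)

theorem sylow_le_of_normalizer (h : Hyp Om) (S : Sylow 2 G)
    (hN : normalizer (ES Om (S : Subgroup G) : Set G) ≤ M) : (S : Subgroup G) ≤ M :=
  (CloseFus.Clo.le_normalizer h S.isPGroup').trans hN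

/-- (M1) for all Sylow subgroups contained in `M` -/
theorem m1_of (h : Hyp Om) (S : Sylow 2 G) (hN : normalizer (ES Om (S : Subgroup G) : Set G) ≤ M)
    (hC : ∀ a ∈ ES Om (S : Subgroup G), a ≠ 1 → centralizer {a} ≤ M) (T : Sylow 2 G) (hT : (T : Subgroup G) ≤ M) :
    ∀ a ∈ ES Om (T : Subgroup G), a ≠ 1 → centralizer {a} ≤ M := by
  obtain ⟨m, hm, hmT⟩ := exists_conj_sylow S T (sylow_le_of_normalizer h S hN) hT
  intro a ha ha1 y hy
  rw [← hmT, ← cj_ES h, mem_cj] at ha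
  have h1 : m⁻¹ * a * m ≠ 1 := by
    have := conj_ne_one (g := m⁻¹) ha1
    rwa [inv_inv] at this
  rw [mem_centralizer_singleton_iff] at hy
  have h2 : m⁻¹ * y * m ∈ M := by
    refine hC _ ha h1 (mem_centralizer_singleton_iff.2 ?_)
    calc m⁻¹ * y * m * (m⁻¹ * a * m) = m⁻¹ * (y * a) * m := by group
      _ = m⁻¹ * (a * y) * m := by rw [hy]
      _ = m⁻¹ * a * m * (m⁻¹ * y * m) := by group
  have h3 : y = m * (m⁻¹ * y * m) * m⁻¹ := by group
  rw [h3]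
  exact M.mul_mem (M.mul_mem hm h2) (M.inv_mem hm)

/-- **the structure `Emb`** from `N(E(S)) ≤ M` and `C(a) ≤ M` for `a ∈ E(S)`, `a ≠ 1` -/
theorem emb_of (h : Hyp Om) (hne : Om.Nonempty) (S : Sylow 2 G)
    (hN : normalizer (ES Om (S : Subgroup G) : Set G) ≤ M)
    (hC : ∀ a ∈ ES Om (S : Subgroup G), a ≠ 1 → centralizer {a} ≤ M) : Emb Om M := by
  haveI : Fact (Nat.Prime 2) := ⟨Nat.prime_two⟩
  have hSM := sylow_le_of_normalizer h S hN
  -- members of `Γ` are in `Om(T)`, `T ≤ M`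
  have key : ∀ K ∈ OmS Om M, ∃ m ∈ M, cj m K ∈ OmS Om (S : Subgroup G) := by
    intro K hK
    obtain ⟨Q, hQ⟩ := Hyp.exists_syl (K ⊓ M)
    have hQK : Syl Q K := by
      refine ⟨hQ.1.trans inf_le_left, hQ.2.1, fun h1 => ?_⟩
      rw [← relIndex_mul_relIndex Q (K ⊓ M) K hQ.1 inf_le_left, inf_relIndex_left] at h1
      rcases (Nat.Prime.dvd_mul Nat.prime_two).1 h1 with h2 | h2
      · exact hQ.2.2 h2
      · exact hK.2 h2
    obtain ⟨m, hm, hmQ⟩ := CloseFus.exists_le_cj_of_le S hSM hQ.2.1 (hQ.1.trans inf_le_right)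
    refine ⟨m⁻¹, M.inv_mem hm, ?_⟩
    have h1 := cj_mem_OmS h.conj m⁻¹ (mem_OmS_of_le hK.1 hQK hmQ)
    rwa [cj_inv_cj] at h1
  have hcent : ∀ K ∈ OmS Om (S : Subgroup G), centralizer {zz K} ≤ M := fun K hK =>
    hC _ (zz_mem_ES hK) (h.zz_ne hK.1)
  refine ⟨h, ?_, ?_, ?_⟩
  · obtain ⟨K, hK⟩ := h.OmS_nonempty S hne
    exact ⟨K, OmS_mono hSM hK⟩
  · intro K hK
    obtain ⟨m, hm, hmK⟩ := key K hK
    have h1 := hcent _ hmK
    rw [h.zz_cj hK.1] at h1
    intro y hy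
    rw [mem_centralizer_singleton_iff] at hy
    have h2 : m * y * m⁻¹ ∈ M := by
      refine h1 (mem_centralizer_singleton_iff.2 ?_)
      calc m * y * m⁻¹ * (m * zz K * m⁻¹) = m * (y * zz K) * m⁻¹ := by group
        _ = m * (zz K * y) * m⁻¹ := by rw [hy]
        _ = m * zz K * m⁻¹ * (m * y * m⁻¹) := by group
    have h3 : y = m⁻¹ * (m * y * m⁻¹) * m := by group
    rw [h3]
    exact M.mul_mem (M.mul_mem (M.inv_mem hm) h2) hm
  · intro K hK g hg
    obtain ⟨m, hm, hmK⟩ := key K hK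
    obtain ⟨n, hn, hnK⟩ := key _ hg
    -- `x = n g m⁻¹` conjugates a member of `Om(S)` into `Om(S)`
    obtain ⟨x, hx⟩ : ∃ x, x = n * g * m⁻¹ := ⟨_, rfl⟩
    obtain ⟨J, hJ⟩ : ∃ J, J = cj m K := ⟨_, rfl⟩
    rw [← hJ] at hmK
    have hxJ : cj x J = cj n (cj g K) := by
      rw [hx, hJ, ← cj_mul, ← cj_mul, inv_mul_cancel_right]
    rw [← hxJ] at hnK
    suffices hxM : x ∈ M by
      have h1 : g = n⁻¹ * x * m := by rw [hx]; group
      rw [h1]
      exact M.mul_mem (M.mul_mem (M.inv_mem hn) hxM) hm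
    have h1 : cj x J ∈ OmS Om ((x • S : Sylow 2 G) : Subgroup G) := cj_mem_OmS h.conj x hmK
    obtain ⟨y, hy, hyD⟩ := DD_conj_of_common h S (x • S) hnK h1
    have h2 : DD Om ((x • S : Sylow 2 G) : Subgroup G) = cj x (DD Om (S : Subgroup G)) := (cj_DD h.conj x).symm
    rw [h2] at hyD
    have h3 : x⁻¹ * y ∈ normalizer (DD Om (S : Subgroup G) : Set G) := by
      rw [mem_normalizer_iff_cj, cj_mul, hyD, cj_inv_cj]
    have h4 := hN (normalizer_DD_le h S.isPGroup' h3)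
    have h5 := hcent _ hnK hy
    have h6 : x = y * (x⁻¹ * y)⁻¹ := by group
    rw [h6]
    exact M.mul_mem h5 (M.inv_mem h4)

/-- `|E(S)|` does not depend on `S` -/
theorem card_ES (h : Hyp Om) (S T : Sylow 2 G) :
    Nat.card (ES Om (S : Subgroup G)) = Nat.card (ES Om (T : Subgroup G)) := by
  haveI : Fact (Nat.Prime 2) := ⟨Nat.prime_two⟩
  obtain ⟨g, hg⟩ := MulAction.exists_smul_eq G S T
  have hg' : cj g (S : Subgroup G) = T := by rw [← hg]; rfl
  rw [← hg', ← cj_ES h]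
  exact (Nat.card_congr (equivMapOfInjective _ (MulAut.conj g).toMonoidHom
    (MulAut.conj g).injective).toEquiv)

end Cfsg.Agent.Cit.Close
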