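import Cfsg.Agent.Cit.Close
import Cfsg.Agent.Cit.CloA
import Cfsg.Agent.Cit.UseT2

/-!
# CONN / CLOSE: at least three members over an involution

`e : Emb Om M`, `c : Clo M (QQ Om M)`, `cc : CC M (QQ Om M)` (= (C)), THEOREM T for `M`: the pieces `px Om M K` of
`M / O(M)`, `K ∈ Γ = OmS Om M`.

* `good_of_tr` : an involution of `M` commuting with the trace of one `L ∈ Γ` is good;
* `false_of_tr` : (SC) : no involution of `M` commutes with the traces of all members of `Γ`;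
* `px_eq_of_zz` : members with the same involution are in the same piece;
* `KFs`, `zz_eq_of_px` : if there are three members over each involution then all members of `Om(S)`, `S ≤ M`, in one
  piece have the same involution (type `D 4`);
* `false_of_four_pieces` (CLOSE-A'), `false_of_three_pieces` (S1175), `false_of_two_pieces` (TR), `false_of_one_piece`;
* `false_of_three` : `τ ≥ 3` is impossible.
-/

set_option autoImplicit false
set_option linter.unusedSectionVars false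
set_option linter.style.haveILetI false
set_option linter.dupNamespace false

namespace Cfsg.Agent.Cit.CloseBig

open Subgroup Cfsg Cfsg.Agent.Cit SubCent CloGraph UseT
open scoped commutatorElement

/-- (KF): three members of `Om(P)` in one piece with the same involution: all members of `Om(P)` in this piece have
this involution -/
def KFs {X : Type*} [Group X] (Om : Set (Subgroup X)) : Prop :=
  ∀ D, Piece Om D → ∀ P : Subgroup X, IsPGroup 2 P → ∀ K ∈ OmS Om P, ∀ L ∈ OmS Om P, ∀ N ∈ OmS Om P,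
    ∀ J ∈ OmS Om P, K ≤ D → L ≤ D → N ≤ D → J ≤ D → K ≠ L → K ≠ N → L ≠ N → zz K = zz L → zz K = zz N →
    zz J = zz K

variable {G : Type*} [Group G] [Finite G] {Om : Set (Subgroup G)} {M : Subgroup G}

theorem mem_cov_of_mem (e : Emb Om M) {K : Subgroup G} (hK : K ∈ OmS Om M) : K ∈ cov Om M := by
  rw [mem_cov_iff]
  refine ⟨hK.1, ?_⟩
  rw [inf_eq_left.2 (e.le hK)]
  exact le_sup_left

theorem mem_of_mem_cov {K : Subgroup G} (hK : K ∈ cov Om M) : K ∈ OmS Om M := by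
  obtain ⟨Q, hQ⟩ := Hyp.exists_syl (K ⊓ M)
  exact mem_of_syl hK.1 (syl_of_syl_inf hK hQ) (hQ.1.trans inf_le_right)

/-- a 2-element of `H` commuting with the trace of `L` commutes with a Sylow 2-subgroup of a conjugate of `L` -/
theorem exists_syl_comm {H L : Subgroup G} (hT : ∀ K ∈ Om, IsType K) (hL : L ∈ cov Om H) {w : G} (hw : w ∈ H)
    (hww : w * w = 1) (hc : ∀ x ∈ tr H L, qm H ⟨w, hw⟩ * x = x * qm H ⟨w, hw⟩) :
    ∃ x ∈ H, ∃ Q, Syl Q (cj x L) ∧ Q ≤ H ∧ ∀ q ∈ Q, w * q = q * w := by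
  obtain ⟨Q₀, hQ₀⟩ := Hyp.exists_syl (L ⊓ H)
  have hQL := syl_of_syl_inf hL hQ₀
  have hQH : Q₀ ≤ H := hQ₀.1.trans inf_le_right
  have hOH : OO H ≤ H := OO_le H
  have hnO : H ≤ normalizer (OO H : Set G) := le_normalizer_OO H
  -- the elements commuting with `w` modulo `O(H)`
  have hQC : Q₀ ≤ pre H (centralizer {qm H ⟨w, hw⟩}) := by
    intro q hq
    obtain ⟨a, ha⟩ := hQL.2.1 ⟨q, hq⟩
    refine mem_pre.2 ⟨hQH hq, mem_centralizer_singleton_iff.2 ?_⟩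
    exact (hc _ (mem_tr hT hL (x := ⟨q, hQH hq⟩) (hQL.1 hq) (a := a) (Subtype.ext (by
      simpa using congrArg Subtype.val ha)))).symm
  obtain ⟨X, hX⟩ : ∃ X, X = Q₀ ⊔ OO H := ⟨_, rfl⟩
  have hXC : X ≤ pre H (centralizer {qm H ⟨w, hw⟩}) := by rw [hX]; exact sup_le hQC OO_le_pre
  have hcomm : ∀ x ∈ X, w * x * w⁻¹ * x⁻¹ ∈ OO H := by
    intro x hx
    obtain ⟨hxH, h1⟩ := mem_pre.1 (hXC hx)
    rw [mem_centralizer_singleton_iff] at h1
    have h4 : (⟨w, hw⟩ * ⟨x, hxH⟩ * (⟨w, hw⟩)⁻¹ * (⟨x, hxH⟩)⁻¹ : H) ∈ (qm H).ker := by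
      rw [MonoidHom.mem_ker, map_mul, map_mul, map_mul, map_inv, map_inv, ← h1]
      group
    rw [ker_qm] at h4
    exact ⟨_, h4, rfl⟩
  have hwX : w ∈ normalizer (X : Set G) := by
    rw [mem_normalizer_iff_cj]
    refine eq_of_le_of_card_ge ?_ (by rw [card_cj])
    rintro _ ⟨x, hx, rfl⟩
    change w * x * w⁻¹ ∈ X
    have h1 : w * x * w⁻¹ = (w * x * w⁻¹ * x⁻¹) * x := by group
    rw [h1]
    exact X.mul_mem (by rw [hX]; exact mem_sup_right (hcomm x hx)) hx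
  obtain ⟨R, hR, hwR, hRX⟩ := LB.exists_two_sup (CloEnd.isPGroup_zpowers hww) (zpowers_le.2 hwX)
  have hwR' : w ∈ R := hwR (mem_zpowers w)
  -- `Q₀ ∈ Syl₂(X)`
  have hQX : Syl Q₀ X := by
    refine ⟨by rw [hX]; exact le_sup_left, hQL.2.1, ?_⟩
    rw [hX]
    intro h2
    have h3 : Q₀.relIndex (Q₀ ⊔ OO H) ∣ Nat.card (OO H) := by
      rw [sup_comm]
      exact relIndex_sup_dvd_card (hQH.trans hnO)
    exact odd_OO H (h2.trans h3)
  obtain ⟨x, hx, hxR⟩ := hQX.exists_conj hRX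
  have hXH : X ≤ H := by rw [hX]; exact sup_le hQH hOH
  refine ⟨x, hXH hx, R ⊓ X, ?_, inf_le_right.trans hXH, ?_⟩
  · rw [← hxR]; exact hQL.cj x
  · intro q hq
    have h1 := hcomm q hq.2
    have h2 : w * q * w⁻¹ * q⁻¹ ∈ R := R.mul_mem (R.mul_mem (R.mul_mem hwR' hq.1) (R.inv_mem hwR')) (R.inv_mem hq.1)
    obtain ⟨k, hk⟩ := hR ⟨_, h2⟩
    have h3 := eq_one_of_odd (odd_OO H) h1 (a := k) (congrArg Subtype.val hk)
    rw [mul_inv_eq_one, mul_inv_eq_iff_eq_mul] at h3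
    exact h3

/-- an element of `M` commutes (modulo `O(M)`) with the trace of `L` -/
def Cen (M L : Subgroup G) (w : G) : Prop := ∃ hw : w ∈ M, ∀ x ∈ tr M L, qm M ⟨w, hw⟩ * x = x * qm M ⟨w, hw⟩

theorem Cen.mem {L : Subgroup G} {w : G} (h : Cen M L w) : w ∈ M := h.1

theorem Cen.mul {L : Subgroup G} {w v : G} (h : Cen M L w) (h' : Cen M L v) : Cen M L (w * v) := by
  obtain ⟨hw, h1⟩ := h
  obtain ⟨hv, h2⟩ := h'
  refine ⟨M.mul_mem hw hv, fun x hx => ?_⟩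
  have h3 : qm M ⟨w * v, M.mul_mem hw hv⟩ = qm M ⟨w, hw⟩ * qm M ⟨v, hv⟩ := by rw [← map_mul]; rfl
  rw [h3, mul_assoc, h2 x hx, ← mul_assoc, h1 x hx, mul_assoc]

theorem Cen.inv {L : Subgroup G} {w : G} (h : Cen M L w) : Cen M L w⁻¹ := by
  obtain ⟨hw, h1⟩ := h
  refine ⟨M.inv_mem hw, fun x hx => ?_⟩
  have h3 : qm M ⟨w⁻¹, M.inv_mem hw⟩ = (qm M ⟨w, hw⟩)⁻¹ := by rw [← map_inv]; rfl
  rw [h3, inv_mul_eq_iff_eq_mul, ← mul_assoc, h1 x hx, mul_inv_cancel_right]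

/-- **good**: an involution of `M` commuting with one trace -/
theorem good_of_tr (e : Emb Om M) (hT : ∀ K ∈ Om, IsType K) (cc : CloPoint.CC M (QQ Om M)) {L : Subgroup G}
    (hL : L ∈ OmS Om M) {w : G} (hww : w * w = 1) (hw1 : w ≠ 1) (hc : Cen M L w) : centralizer {w} ≤ M := by
  obtain ⟨hw, hc⟩ := hc
  obtain ⟨x, hx, Q, hQ, hQM, hwQ⟩ := exists_syl_comm hT (mem_cov_of_mem e hL) hw hww hc
  exact cc Q ⟨cj x L, cj_mem_OmS_of_mem e.hyp hx hL, hQ⟩ w hww hw1 hwQ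

/-- `tr (cj g K) = cj g (tr K)` -/
theorem Cen.conj (e : Emb Om M) (hT : ∀ K ∈ Om, IsType K) {L : Subgroup G} (hL : L ∈ OmS Om M) {w g : G} (hg : g ∈ M)
    (h : Cen M L w) : Cen M (cj g L) (g * w * g⁻¹) := by
  obtain ⟨hw, h1⟩ := h
  refine ⟨M.mul_mem (M.mul_mem hg hw) (M.inv_mem hg), fun x hx => ?_⟩
  have h3 : qm M ⟨g * w * g⁻¹, M.mul_mem (M.mul_mem hg hw) (M.inv_mem hg)⟩
      = qm M ⟨g, hg⟩ * qm M ⟨w, hw⟩ * (qm M ⟨g, hg⟩)⁻¹ := by rw [← map_inv, ← map_mul, ← map_mul]; rfl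
  have h4 : tr M (cj g L) = cj (qm M ⟨g, hg⟩) (tr M L) := tr_cj hT ⟨g, hg⟩ (mem_cov_of_mem e hL)
  rw [h4, mem_cj] at hx
  have h5 := h1 _ hx
  rw [h3]
  calc qm M ⟨g, hg⟩ * qm M ⟨w, hw⟩ * (qm M ⟨g, hg⟩)⁻¹ * x
      = qm M ⟨g, hg⟩ * (qm M ⟨w, hw⟩ * ((qm M ⟨g, hg⟩)⁻¹ * x * qm M ⟨g, hg⟩)) * (qm M ⟨g, hg⟩)⁻¹ := by group
    _ = qm M ⟨g, hg⟩ * (((qm M ⟨g, hg⟩)⁻¹ * x * qm M ⟨g, hg⟩) * qm M ⟨w, hw⟩) * (qm M ⟨g, hg⟩)⁻¹ := by rw [h5]
    _ = _ := by group

/-- the elements of `M` commuting with all traces -/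
def CenM (Om : Set (Subgroup G)) (M : Subgroup G) : Subgroup G where
  carrier := {w | w ∈ M ∧ ∀ L ∈ OmS Om M, Cen M L w}
  one_mem' := ⟨M.one_mem, fun L _ => ⟨M.one_mem, fun x _ => by
    have h : qm M ⟨1, M.one_mem⟩ = 1 := map_one _
    rw [h, one_mul, mul_one]⟩⟩
  mul_mem' := fun ha hb => ⟨M.mul_mem ha.1 hb.1, fun L hL => (ha.2 L hL).mul (hb.2 L hL)⟩
  inv_mem' := fun ha => ⟨M.inv_mem ha.1, fun L hL => (ha.2 L hL).inv⟩

theorem mem_CenM {w : G} : w ∈ CenM Om M ↔ w ∈ M ∧ ∀ L ∈ OmS Om M, Cen M L w := Iff.rfl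

theorem le_normalizer_CenM (e : Emb Om M) (hT : ∀ K ∈ Om, IsType K) : M ≤ normalizer (CenM Om M : Set G) := by
  have key : ∀ m ∈ M, ∀ g ∈ CenM Om M, m * g * m⁻¹ ∈ CenM Om M := by
    intro m hm g hg
    rw [mem_CenM] at hg ⊢
    refine ⟨M.mul_mem (M.mul_mem hm hg.1) (M.inv_mem hm), fun K hK => ?_⟩
    have h1 := (hg.2 (cj m⁻¹ K) (cj_mem_OmS_of_mem e.hyp (M.inv_mem hm) hK)).conj e hT
      (cj_mem_OmS_of_mem e.hyp (M.inv_mem hm) hK) hm
    rwa [cj_cj_inv] at h1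
  intro m hm
  rw [mem_normalizer_iff]
  intro g
  refine ⟨fun hg => key m hm g hg, fun hg => ?_⟩
  have h1 := key m⁻¹ (M.inv_mem hm) _ hg
  have h2 : m⁻¹ * (m * g * m⁻¹) * m⁻¹⁻¹ = g := by group
  rwa [h2] at h1

/-- **(SC)** -/
theorem false_of_tr (e : Emb Om M) (hT : ∀ K ∈ Om, IsType K) (c : CloPoint.Clo M (QQ Om M))
    (cc : CloPoint.CC M (QQ Om M)) (hM : M ≠ ⊤) (ht : CloEnd.Two G) (hB : CloEnd.Bend G) (h74 : CloEnd.Crit1174 G)
    {f : G} (hf : f * f = 1) (hf1 : f ≠ 1) (hfM : f ∈ M) (hft : ∀ K ∈ OmS Om M, Cen M K f) : False := by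
  refine CloEnd.false_of_normal ht hB h74 hM c.hTwo (N := CenM Om M) (fun x hx => hx.1) (le_normalizer_CenM e hT) ?_ ?_
  · have h1 : orderOf (⟨f, mem_CenM.2 ⟨hfM, hft⟩⟩ : CenM Om M) = 2 := by
      rw [← orderOf_coe]
      exact orderOf_eq_prime (by rw [pow_two, hf]) hf1
    rw [even_iff_two_dvd, ← h1]
    exact orderOf_dvd_natCard _
  · intro g hg hgg hg1
    obtain ⟨K, hK⟩ := e.ne
    exact good_of_tr e hT cc hK hgg hg1 (hg.2 K hK)

/-! ### Pieces -/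

/-- `z_K` commutes with the traces of the members of the other pieces -/
theorem cen_of_ne (e : Emb Om M) (hT : ∀ K ∈ Om, IsType K) {K J : Subgroup G} (hK : K ∈ OmS Om M)
    (hJ : J ∈ OmS Om M) (hne : px Om M J ≠ px Om M K) : Cen M J (zz K) := by
  refine ⟨e.zz_mem hK, fun x hx => ?_⟩
  have h1 := px_comm (mem_cov_of_mem e hJ) (mem_cov_of_mem e hK) hne (tr_le_px hx)
  rw [mem_centralizer_iff] at h1
  refine h1 _ (tr_le_px ?_)
  have h2 := zz_tr e.hyp hT (mem_cov_of_mem e hK)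
  have h3 := (hyp_fam e.hyp hT M).zz_mem (tr_mem (mem_cov_of_mem e hK))
  rw [h2] at h3
  exact h3

/-- members with the same involution are in the same piece -/
theorem px_eq_of_zz (e : Emb Om M) (hT : ∀ K ∈ Om, IsType K) (c : CloPoint.Clo M (QQ Om M))
    (cc : CloPoint.CC M (QQ Om M)) (hM : M ≠ ⊤) (ht : CloEnd.Two G) (hB : CloEnd.Bend G) (h74 : CloEnd.Crit1174 G)
    {K L : Subgroup G} (hK : K ∈ OmS Om M) (hL : L ∈ OmS Om M) (hz : zz K = zz L) : px Om M K = px Om M L := by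
  by_contra hne
  refine false_of_tr e hT c cc hM ht hB h74 (e.hyp.zz_mul hK.1) (e.hyp.zz_ne hK.1) (e.zz_mem hK) fun J hJ => ?_
  by_cases h1 : px Om M J = px Om M K
  · rw [hz]
    exact cen_of_ne e hT hL hJ (by rw [h1]; exact hne)
  · exact cen_of_ne e hT hK hJ h1

/-- **type `D 4`** -/
theorem zz_eq_of_px (e : Emb Om M) (hT : ∀ K ∈ Om, IsType K) (c : CloPoint.Clo M (QQ Om M))
    (cc : CloPoint.CC M (QQ Om M)) (hM : M ≠ ⊤) (ht : CloEnd.Two G) (hB : CloEnd.Bend G) (h74 : CloEnd.Crit1174 G)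
    (hp : HasPieces (fam Om M)) (kf : KFs (fam Om M))
    (h3 : ∀ K ∈ Om, ∃ L ∈ Om, ∃ N ∈ Om, K ≠ L ∧ K ≠ N ∧ L ≠ N ∧ zz L = zz K ∧ zz N = zz K)
    (S : Sylow 2 G) (hS : (S : Subgroup G) ≤ M) {K J : Subgroup G} (hK : K ∈ OmS Om (S : Subgroup G))
    (hJ : J ∈ OmS Om (S : Subgroup G)) (hpx : px Om M J = px Om M K) : zz J = zz K := by
  obtain ⟨L, hL, N, hN, hKL, hKN, hLN, hLz, hNz⟩ := h3 K hK.1
  have hLS := e.hyp.mem_OmS_of_zz_eq S hK hL hLz
  have hNS := e.hyp.mem_OmS_of_zz_eq S hK hN hNz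
  have mM : ∀ {K}, K ∈ OmS Om (S : Subgroup G) → K ∈ OmS Om M := fun h => OmS_mono hS h
  have mC : ∀ {K}, K ∈ OmS Om (S : Subgroup G) → K ∈ cov Om M := fun h => mem_cov_of_mem e (mM h)
  have hpL := px_eq_of_zz e hT c cc hM ht hB h74 (mM hLS) (mM hK) hLz
  have hpN := px_eq_of_zz e hT c cc hM ht hB h74 (mM hNS) (mM hK) hNz
  have hP := S.isPGroup'.comap_subtype (K := M)
  have key : zz (tr M J) = zz (tr M K) := by
    refine kf (px Om M K) (px_piece e.hyp hT hp (mC hK)) _ (hP.map (qm M)) (tr M K)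
      (mem_OmS_fam hT (mC hK) hS S.isPGroup' hK) (tr M L) (mem_OmS_fam hT (mC hLS) hS S.isPGroup' hLS) (tr M N)
      (mem_OmS_fam hT (mC hNS) hS S.isPGroup' hNS) (tr M J) (mem_OmS_fam hT (mC hJ) hS S.isPGroup' hJ) tr_le_px
      (hpL ▸ tr_le_px) (hpN ▸ tr_le_px) (hpx ▸ tr_le_px) ?_ ?_ ?_ ?_ ?_
    · exact tr_ne e.hyp hT (mC hK) (mC hLS) S.isPGroup' hS hK hLS hKL
    · exact tr_ne e.hyp hT (mC hK) (mC hNS) S.isPGroup' hS hK hNS hKN
    · exact tr_ne e.hyp hT (mC hLS) (mC hNS) S.isPGroup' hS hLS hNS hLN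
    · rw [zz_tr e.hyp hT (mC hK), zz_tr e.hyp hT (mC hLS)]
      congr 1
      exact Subtype.ext hLz.symm
    · rw [zz_tr e.hyp hT (mC hK), zz_tr e.hyp hT (mC hNS)]
      congr 1
      exact Subtype.ext hNz.symm
  rw [zz_tr e.hyp hT (mC hK), zz_tr e.hyp hT (mC hJ)] at key
  have h1 : (⟨zz J, zz_mem_of_cov e.hyp (mC hJ)⟩ * (⟨zz K, zz_mem_of_cov e.hyp (mC hK)⟩)⁻¹ : M) ∈ (qm M).ker := by
    rw [MonoidHom.mem_ker, map_mul, map_inv, key, mul_inv_cancel]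
  rw [ker_qm] at h1
  have h2 : zz J * (zz K)⁻¹ ∈ OO M := ⟨_, h1, rfl⟩
  have h4 : zz J * (zz K)⁻¹ ∈ (S : Subgroup G) :=
    (S : Subgroup G).mul_mem (e.hyp.zz_mem_inf S.isPGroup' hJ).2
      ((S : Subgroup G).inv_mem (e.hyp.zz_mem_inf S.isPGroup' hK).2)
  obtain ⟨k, hk⟩ := S.isPGroup' ⟨_, h4⟩
  have h5 := eq_one_of_odd (odd_OO M) h2 (a := k) (congrArg Subtype.val hk)
  rwa [mul_inv_eq_one] at h5

/-! ### Two members of different pieces -/

/-- two members of different pieces in a common `Om(S)` -/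
theorem exists_pair (e : Emb Om M) (hT : ∀ K ∈ Om, IsType K) {K L : Subgroup G} (hK : K ∈ OmS Om M)
    (hL : L ∈ OmS Om M) (hne : px Om M K ≠ px Om M L) : ∃ K' ∈ OmS Om M, px Om M K' = px Om M K ∧
      ∃ S : Sylow 2 G, (S : Subgroup G) ≤ M ∧ K' ∈ OmS Om (S : Subgroup G) ∧ L ∈ OmS Om (S : Subgroup G) := by
  obtain ⟨x, hx, S, h1, h2⟩ := exists_adj_cj_of_ne e.hyp hT (mem_cov_of_mem e hK) (mem_cov_of_mem e hL) hne
  have hxM : x ∈ M := OO_le M hx
  refine ⟨cj x K, cj_mem_OmS_of_mem e.hyp hxM hK, ?_, S, e.sylow_le S hL h2, h1, h2⟩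
  have h3 : px Om M (cj x K) = cj (qm M ⟨x, hxM⟩) (px Om M K) :=
    px_cj e.hyp hT ⟨x, hxM⟩ (mem_cov_of_mem e hK)
  have h4 : qm M ⟨x, hxM⟩ = 1 := by
    have h5 : (⟨x, hxM⟩ : M) ∈ (qm M).ker := by
      rw [ker_qm]
      obtain ⟨y, hy, hyx⟩ := hx
      have : (⟨x, hxM⟩ : M) = y := Subtype.ext hyx.symm
      rw [this]; exact hy
    exact h5
  rw [h3, h4, cj_one]

/-- a product `z_K z_L` is good if there is a third piece -/
theorem good_of_third (e : Emb Om M) (hT : ∀ K ∈ Om, IsType K) (cc : CloPoint.CC M (QQ Om M)) {K L J : Subgroup G}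
    (hK : K ∈ OmS Om M) (hL : L ∈ OmS Om M) (hJ : J ∈ OmS Om M) (hJK : px Om M J ≠ px Om M K)
    (hJL : px Om M J ≠ px Om M L) (hcomm : zz K * zz L = zz L * zz K) (hne : zz K ≠ zz L) :
    centralizer {zz K * zz L} ≤ M := by
  have hKK := e.hyp.zz_mul hK.1
  have hLL := e.hyp.zz_mul hL.1
  refine good_of_tr e hT cc hJ ?_ ?_ ((cen_of_ne e hT hK hJ hJK).mul (cen_of_ne e hT hL hJ hJL))
  · calc zz K * zz L * (zz K * zz L) = zz K * (zz L * zz K) * zz L := by group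
      _ = zz K * (zz K * zz L) * zz L := by rw [hcomm]
      _ = (zz K * zz K) * (zz L * zz L) := by group
      _ = 1 := by rw [hKK, hLL, one_mul]
  · intro h
    apply hne
    calc zz K = zz K * (zz L * zz L) := by rw [hLL, mul_one]
      _ = (zz K * zz L) * zz L := by group
      _ = zz L := by rw [h, one_mul]

/-- **at least four pieces** : CLOSE-A' -/
theorem false_of_four_pieces (e : Emb Om M) (hT : ∀ K ∈ Om, IsType K) (c : CloPoint.Clo M (QQ Om M))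
    (cc : CloPoint.CC M (QQ Om M)) (hM : M ≠ ⊤) (ht : CloEnd.Two G) (hB : CloEnd.Bend G) (h74 : CloEnd.Crit1174 G)
    (h4 : ∀ K ∈ OmS Om M, ∀ L ∈ OmS Om M, ∀ N ∈ OmS Om M, ∃ J ∈ OmS Om M,
      px Om M J ≠ px Om M K ∧ px Om M J ≠ px Om M L ∧ px Om M J ≠ px Om M N) : False := by
  obtain ⟨K₀, hK₀⟩ := e.ne
  obtain ⟨L, hL, hLK, -⟩ := h4 K₀ hK₀ K₀ hK₀ K₀ hK₀
  obtain ⟨K, hK, hpK, S, hS, hKS, hLS⟩ := exists_pair e hT hK₀ hL (Ne.symm hLK)
  rw [← hpK] at hLK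
  clear hpK hK₀ K₀
  have hQ := syl_inf S.isPGroup' hKS
  have hR := syl_inf S.isPGroup' hLS
  have hQQ : K ⊓ (S : Subgroup G) ∈ QQ Om M := ⟨K, hK, hQ⟩
  have hRQ : L ⊓ (S : Subgroup G) ∈ QQ Om M := ⟨L, hL, hR⟩
  have hzQ := e.zz_of_syl hK.1 hQ
  have hzR := e.zz_of_syl hL.1 hR
  have hne : zz K ≠ zz L := fun h => hLK (px_eq_of_zz e hT c cc hM ht hB h74 hL hK h.symm)
  have hne1 : zz K * zz L ≠ 1 := by
    intro h
    apply hne
    calc zz K = zz K * (zz L * zz L) := by rw [e.hyp.zz_mul hL.1, mul_one]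
      _ = (zz K * zz L) * zz L := by group
      _ = zz L := by rw [h, one_mul]
  have hgv : CloEnd.Good M (zz K * zz L) := by
    refine c.good S.isPGroup' hS (mul_mem (subset_closure ⟨_, hQQ, inf_le_right, hzQ⟩)
      (subset_closure ⟨_, hRQ, inf_le_right, hzR⟩)) hne1
  have hcKL : zz K * zz L = zz L * zz K := by
    calc zz K * zz L = (zz K * zz L)⁻¹ := (inv_eq_of_mul_eq_one_right hgv.sq).symm
      _ = (zz L)⁻¹ * (zz K)⁻¹ := mul_inv_rev _ _
      _ = zz L * zz K := by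
          rw [inv_eq_of_mul_eq_one_right (e.hyp.zz_mul hL.1), inv_eq_of_mul_eq_one_right (e.hyp.zz_mul hK.1)]
  refine hM (c.eq_top hQQ hgv ?_ ?_)
  · -- `v` is not conjugate to `z_K`
    intro g hg
    rw [hzQ] at hg
    have hgM : g ∈ M := by
      refine c.h2 _ hQQ g ?_
      rw [hzQ, hg]; exact hgv.mem
    have hgK := cj_mem_OmS_of_mem e.hyp hgM hK
    have hzg : zz (cj g K) = zz K * zz L := by rw [e.hyp.zz_cj hK.1, hg]
    -- a member `A` of the pair whose piece is different from the piece of `cj g K`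
    have key : ∀ A B : Subgroup G, A ∈ OmS Om M → B ∈ OmS Om M → px Om M A ≠ px Om M B →
        zz A * zz B = zz K * zz L → zz A * zz B = zz B * zz A → px Om M A ≠ px Om M (cj g K) → False := by
      intro A B hA hB' hAB h1 h2 h3
      refine false_of_tr e hT c cc hM ht hB h74 (e.hyp.zz_mul hA.1) (e.hyp.zz_ne hA.1) (e.zz_mem hA) fun J hJ => ?_
      by_cases h5 : px Om M J = px Om M A
      · -- `z_A = v z_B`
        have h6 : zz A = zz (cj g K) * zz B := by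
          rw [hzg, ← h1, mul_assoc, e.hyp.zz_mul hB'.1, mul_one]
        rw [h6]
        exact (cen_of_ne e hT hgK hJ (by rw [h5]; exact h3)).mul (cen_of_ne e hT hB' hJ (by rw [h5]; exact hAB))
      · exact cen_of_ne e hT hA hJ h5
    by_cases h5 : px Om M K = px Om M (cj g K)
    · refine key L K hL hK hLK hcKL.symm hcKL.symm ?_
      rw [← h5]; exact hLK
    · exact key K L hK hL (Ne.symm hLK) rfl hcKL h5
  · rintro u hu R ⟨N, hN, hRN⟩ - hcomm hne2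
    have hzN := e.zz_of_syl hN.1 hRN
    obtain ⟨J, hJ, hJK, hJL, hJN⟩ := h4 K hK L hL N hN
    have hcu : Cen M J u := by
      rcases hu with rfl | rfl
      · exact (cen_of_ne e hT hK hJ hJK).mul (cen_of_ne e hT hL hJ hJL)
      · rw [hzQ]; exact cen_of_ne e hT hK hJ hJK
    have hgu : CloEnd.Good M u := by
      rcases hu with rfl | rfl
      · exact hgv
      · exact c.good_zz hQQ
    rw [hzN] at hcomm hne2 ⊢
    have hsq : u * zz N * (u * zz N) = 1 := by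
      calc u * zz N * (u * zz N) = u * (zz N * u) * zz N := by group
        _ = u * (u * zz N) * zz N := by rw [hcomm]
        _ = (u * u) * (zz N * zz N) := by group
        _ = 1 := by rw [hgu.sq, e.hyp.zz_mul hN.1, one_mul]
    have hn1 : u * zz N ≠ 1 := by
      intro h
      apply hne2
      calc u = u * (zz N * zz N) := by rw [e.hyp.zz_mul hN.1, mul_one]
        _ = (u * zz N) * zz N := by group
        _ = zz N := by rw [h, one_mul]
    exact CloA.NB.of_good c.hTwo ⟨M.mul_mem hgu.mem (e.zz_mem hN), hsq, hn1,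
      good_of_tr e hT cc hJ hsq hn1 (hcu.mul (cen_of_ne e hT hN hJ hJN))⟩

/-! ### Fixed pieces -/

/-- a piece normalised by `S` contains a member of `Om(S)` -/
theorem exists_mem_of_fixed (e : Emb Om M) (hT : ∀ K ∈ Om, IsType K) {K : Subgroup G} (hK : K ∈ OmS Om M)
    (S : Sylow 2 G) (hS : (S : Subgroup G) ≤ M)
    (hfix : ∀ s (hs : s ∈ S), cj (qm M ⟨s, hS hs⟩) (px Om M K) = px Om M K) :
    ∃ K' ∈ OmS Om (S : Subgroup G), px Om M K' = px Om M K := by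
  obtain ⟨X, hX⟩ : ∃ X, X = pre M (px Om M K) := ⟨_, rfl⟩
  have hn : (S : Subgroup G) ≤ normalizer (X : Set G) := by
    intro s hs
    have h1 := cj_pre (D := px Om M K) ⟨s, hS hs⟩
    rw [hfix s hs] at h1
    rw [mem_normalizer_iff_cj, hX]
    exact h1
  have hsyl : Syl ((S : Subgroup G) ⊓ X) X := by
    obtain ⟨R, hR, hSR, hRX⟩ := LB.exists_two_sup S.isPGroup' hn
    have h1 : R = (S : Subgroup G) := (S.is_maximal' hR hSR)
    rwa [h1] at hRX
  have hcov : K ∈ cov Om X := by rw [hX]; exact mem_cov_pre_px hT (mem_cov_of_mem e hK)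
  -- conjugate `K` into `Om(S ⊓ X)`
  obtain ⟨Q, hQ⟩ := Hyp.exists_syl (K ⊓ X)
  have hQK := syl_of_syl_inf hcov hQ
  obtain ⟨T, hT', hQT⟩ := exists_syl_ge hQ.2.1 (hQ.1.trans inf_le_right)
  obtain ⟨x, hx, hxT⟩ := hT'.exists_conj hsyl
  have hxX := hx
  rw [hX] at hxX
  obtain ⟨hxM, hxD⟩ := mem_pre.1 hxX
  refine ⟨cj x K, ?_, ?_⟩
  · refine mem_OmS_of_le (e.hyp.conj K hK.1 x) (hQK.cj x) ?_
    refine (cj_mono x hQT).trans ?_
    rw [hxT]; exact inf_le_left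
  · have h3 : px Om M (cj x K) = cj (qm M ⟨x, hxM⟩) (px Om M K) := px_cj e.hyp hT ⟨x, hxM⟩ (mem_cov_of_mem e hK)
    rw [h3]
    exact mem_normalizer_iff_cj.1 (le_normalizer hxD)

/-- if `S` fixes a piece and the members of `Om(S)` in this piece have the same involution: a central involution -/
theorem exists_central_of_fixed (e : Emb Om M) (hT : ∀ K ∈ Om, IsType K) {K : Subgroup G} (hK : K ∈ OmS Om M)
    (S : Sylow 2 G) (hS : (S : Subgroup G) ≤ M)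
    (hfix : ∀ s (hs : s ∈ S), cj (qm M ⟨s, hS hs⟩) (px Om M K) = px Om M K)
    (hz : ∀ K ∈ OmS Om (S : Subgroup G), ∀ J ∈ OmS Om (S : Subgroup G), px Om M J = px Om M K → zz J = zz K) :
    ∃ K' ∈ OmS Om (S : Subgroup G), px Om M K' = px Om M K ∧ ∀ s ∈ S, s * zz K' = zz K' * s := by
  obtain ⟨K', hK', hp⟩ := exists_mem_of_fixed e hT hK S hS hfix
  refine ⟨K', hK', hp, fun s hs => ?_⟩
  have h1 : cj s K' ∈ OmS Om (S : Subgroup G) := cj_mem_OmS' e.hyp.conj (le_normalizer hs) hK'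
  have h2 : px Om M (cj s K') = px Om M K' := by
    have h3 : px Om M (cj s K') = cj (qm M ⟨s, hS hs⟩) (px Om M K') :=
      px_cj e.hyp hT ⟨s, hS hs⟩ (mem_cov_of_mem e (OmS_mono hS hK'))
    rw [h3, hp, hfix s hs]
  have h3 := hz K' hK' _ h1 h2
  rw [e.hyp.zz_cj hK'.1, mul_inv_eq_iff_eq_mul] at h3
  exact h3

/-- the set of pieces -/
def Pcs (Om : Set (Subgroup G)) (M : Subgroup G) : Set (Subgroup (HQ M)) := px Om M '' OmS Om M

theorem cj_mem_Pcs (e : Emb Om M) (hT : ∀ K ∈ Om, IsType K) {D : Subgroup (HQ M)} (hD : D ∈ Pcs Om M) (g : M) :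
    cj (qm M g) D ∈ Pcs Om M := by
  obtain ⟨K, hK, rfl⟩ := hD
  exact ⟨cj (g : G) K, cj_mem_OmS_of_mem e.hyp g.2 hK, px_cj e.hyp hT g (mem_cov_of_mem e hK)⟩

/-- the action of `M` on the set of pieces -/
noncomputable def actPcs (e : Emb Om M) (hT : ∀ K ∈ Om, IsType K) : MulAction M (Pcs Om M) where
  smul g D := ⟨cj (qm M g) D.1, cj_mem_Pcs e hT D.2 g⟩
  one_smul D := Subtype.ext (by
    change cj (qm M 1) D.1 = D.1
    rw [map_one, cj_one])
  mul_smul a b D := Subtype.ext (by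
    change cj (qm M (a * b)) D.1 = cj (qm M a) (cj (qm M b) D.1)
    rw [map_mul, cj_mul])

/-- an odd number of pieces: `S` fixes one of them -/
theorem exists_fixed (e : Emb Om M) (hT : ∀ K ∈ Om, IsType K) (S : Sylow 2 G) (hS : (S : Subgroup G) ≤ M)
    (hodd : ¬ 2 ∣ (Pcs Om M).ncard) :
    ∃ K ∈ OmS Om M, ∀ s (hs : s ∈ S), cj (qm M ⟨s, hS hs⟩) (px Om M K) = px Om M K := by
  haveI : Fact (Nat.Prime 2) := ⟨Nat.prime_two⟩
  letI := actPcs e hT
  letI : MulAction (S : Subgroup G) (Pcs Om M) := MulAction.compHom _ (Subgroup.inclusion hS)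
  haveI : Finite (HQ M) := Finite.of_surjective (qm M) (qm_surjective M)
  haveI : Finite (Pcs Om M) := Set.toFinite _
  obtain ⟨D, hD⟩ := S.isPGroup'.nonempty_fixed_point_of_prime_not_dvd_card (Pcs Om M) (by
    rwa [Nat.card_coe_set_eq])
  obtain ⟨D, K, hK, rfl⟩ := D
  refine ⟨K, hK, fun s hs => ?_⟩
  have h1 := hD ⟨s, hs⟩
  exact congrArg Subtype.val h1

/-- **three pieces** : S1175 -/
theorem false_of_three_pieces (e : Emb Om M) (hT : ∀ K ∈ Om, IsType K) (c : CloPoint.Clo M (QQ Om M))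
    (cc : CloPoint.CC M (QQ Om M)) (hM : M ≠ ⊤) (ht : CloEnd.Two G) (hB : CloEnd.Bend G)
    (h75 : CloEnd.Crit1175 G)
    (hz : ∀ S : Sylow 2 G, (S : Subgroup G) ≤ M → ∀ K ∈ OmS Om (S : Subgroup G), ∀ J ∈ OmS Om (S : Subgroup G),
      px Om M J = px Om M K → zz J = zz K)
    (hodd : ¬ 2 ∣ (Pcs Om M).ncard)
    (h3 : ∀ K ∈ OmS Om M, ∀ L ∈ OmS Om M, ∃ J ∈ OmS Om M, px Om M J ≠ px Om M K ∧ px Om M J ≠ px Om M L) :
    False := by
  obtain ⟨S, hS⟩ := e.exists_sylow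
  obtain ⟨K₀, hK₀, hfix⟩ := exists_fixed e hT S hS hodd
  obtain ⟨K, hKS, hpK, hcen⟩ := exists_central_of_fixed e hT hK₀ S hS hfix (hz S hS)
  have hK : K ∈ OmS Om M := OmS_mono hS hKS
  have hg : CloEnd.Good M (zz K) := ⟨e.zz_mem hK, e.hyp.zz_mul hK.1, e.hyp.zz_ne hK.1, e.cent K hK⟩
  refine CloEnd.false_of_central ht hB h75 hM c.hTwo hg S (e.hyp.zz_mem_inf S.isPGroup' hKS).2 hcen ?_
  intro g hgM hcomm hne
  have hgK := cj_mem_OmS_of_mem e.hyp hgM hK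
  obtain ⟨J, hJ, h1, h2⟩ := h3 K hK _ hgK
  rw [← e.hyp.zz_cj hK.1] at hcomm hne ⊢
  exact good_of_third e hT cc hK hgK hJ h1 h2 hcomm (Ne.symm hne)

/-- **two pieces** : (TR) -/
theorem false_of_two_pieces (e : Emb Om M) (hT : ∀ K ∈ Om, IsType K) (c : CloPoint.Clo M (QQ Om M))
    (hG : commutator G = ⊤) (cls : ∀ K ∈ Om, ∀ J ∈ Om, ∃ g, J = cj g K) {K L : Subgroup G} (hK : K ∈ OmS Om M)
    (hL : L ∈ OmS Om M) (hne : px Om M K ≠ px Om M L)
    (h2 : ∀ J ∈ OmS Om M, px Om M J = px Om M K ∨ px Om M J = px Om M L) : False := by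
  obtain ⟨D, hD⟩ : ∃ D, D = px Om M K := ⟨_, rfl⟩
  obtain ⟨E, hE⟩ : ∃ E, E = px Om M L := ⟨_, rfl⟩
  rw [← hD, ← hE] at hne
  have hmem : ∀ g : M, ∀ J ∈ OmS Om M, cj (qm M g) (px Om M J) = D ∨ cj (qm M g) (px Om M J) = E := by
    intro g J hJ
    rw [← px_cj e.hyp hT g (mem_cov_of_mem e hJ), hD, hE]
    exact h2 _ (cj_mem_OmS_of_mem e.hyp g.2 hJ)
  have hinj : ∀ (x : HQ M) (A B : Subgroup (HQ M)), cj x A = cj x B → A = B := by
    intro x A B h
    rw [← cj_inv_cj x A, h, cj_inv_cj]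
  -- every element of `M` fixes or swaps `D`, `E`
  have key : ∀ g : M, (cj (qm M g) D = D ∧ cj (qm M g) E = E) ∨ (cj (qm M g) D = E ∧ cj (qm M g) E = D) := by
    intro g
    have h3 := hmem g K hK
    have h4 := hmem g L hL
    rw [← hD] at h3
    rw [← hE] at h4
    rcases h3 with h3 | h3 <;> rcases h4 with h4 | h4
    · exact absurd (hinj _ _ _ (h3.trans h4.symm)) hne
    · exact Or.inl ⟨h3, h4⟩
    · exact Or.inr ⟨h3, h4⟩
    · exact absurd (hinj _ _ _ (h3.trans h4.symm)) hne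
  have hmN : ∀ g : M, (g : G) ∈ pre M (normalizer (D : Set (HQ M))) ↔ cj (qm M g) D = D := by
    intro g
    rw [coe_mem_pre, mem_normalizer_iff_cj]
  -- `⁅M, M⁆` fixes `D`
  have hcom : ⁅M, M⁆ ≤ pre M (normalizer (D : Set (HQ M))) := by
    rw [commutator_le]
    intro a ha b hb
    have h3 : ⁅a, b⁆ = ((⁅(⟨a, ha⟩ : M), (⟨b, hb⟩ : M)⁆ : M) : G) := rfl
    rw [h3, hmN, commutatorElement_def, map_mul, map_mul, map_mul, map_inv, map_inv, cj_mul, cj_mul, cj_mul]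
    have hinv : ∀ (x : HQ M) (A B : Subgroup (HQ M)), cj x A = B → cj x⁻¹ B = A := by
      rintro x A B rfl
      rw [cj_inv_cj]
    rcases key ⟨a, ha⟩ with ⟨a1, a2⟩ | ⟨a1, a2⟩ <;> rcases key ⟨b, hb⟩ with ⟨b1, b2⟩ | ⟨b1, b2⟩
    · rw [hinv _ _ _ b1, hinv _ _ _ a1, b1, a1]
    · rw [hinv _ _ _ b2, hinv _ _ _ a2, b2, a1]
    · rw [hinv _ _ _ b1, hinv _ _ _ a2, b2, a2]
    · rw [hinv _ _ _ b2, hinv _ _ _ a1, b1, a2]
  obtain ⟨S, hS⟩ := e.exists_sylow
  have hSN := (c.sylow_le_commutator S hS hG).trans hcom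
  -- the index of the stabiliser is two
  have hidx : (pre M (normalizer (D : Set (HQ M)))).relIndex M = 2 := by
    rw [relIndex_eq_two_iff_exists_notMem_and]
    obtain ⟨m, hm⟩ := cls K hK.1 L hL.1
    have hmM : m ∈ M := e.stab K hK m (hm ▸ hL)
    have h3 : cj (qm M ⟨m, hmM⟩) D = E := by
      rw [hD, hE, hm]
      exact (px_cj e.hyp hT ⟨m, hmM⟩ (mem_cov_of_mem e hK)).symm
    have h3' : cj (qm M ⟨m, hmM⟩) E = D := by
      rcases key ⟨m, hmM⟩ with ⟨h4, -⟩ | ⟨-, h4⟩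
      · exact absurd (h4.symm.trans h3) hne
      · exact h4
    refine ⟨m, hmM, fun h4 => ?_, fun b hb => ?_⟩
    · have h5 := (hmN ⟨m, hmM⟩).1 h4
      exact hne (h5.symm.trans h3)
    · rcases key ⟨b, hb⟩ with ⟨h4, -⟩ | ⟨-, h4⟩
      · exact Or.inr ((hmN ⟨b, hb⟩).2 h4)
      · left
        have h5 : b * m = ((⟨b, hb⟩ * ⟨m, hmM⟩ : M) : G) := rfl
        rw [h5, hmN, map_mul, cj_mul, h3, h4]
  have hsyl := CloPoint.Clo.syl_of_sylow hS
  apply hsyl.2.2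
  rw [← relIndex_mul_relIndex _ _ _ hSN pre_le, hidx]
  exact dvd_mul_left _ _

/-- **THEOREM CLOSE, three members over an involution** -/
theorem false_of_three (ms : MinS Om) (e : Emb Om M) (c : CloPoint.Clo M (QQ Om M))
    (cc : CloPoint.CC M (QQ Om M)) (hM : M ≠ ⊤) (hB : CloEnd.Bend G) (h74 : CloEnd.Crit1174 G)
    (h75 : CloEnd.Crit1175 G) (h4 : ∀ S : Sylow 2 G, 4 ≤ Nat.card (ES Om (S : Subgroup G)))
    (kf : KFs (fam Om M))
    (h3 : ∀ K ∈ Om, ∃ L ∈ Om, ∃ N ∈ Om, K ≠ L ∧ K ≠ N ∧ L ≠ N ∧ zz L = zz K ∧ zz N = zz K) : False := by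
  have hT := ms.isType
  have hp : HasPieces (fam Om M) := ms.fam_hasPieces hM
  have ht := Close.two_of_card e c h4
  have hz : ∀ S : Sylow 2 G, (S : Subgroup G) ≤ M → ∀ K ∈ OmS Om (S : Subgroup G), ∀ J ∈ OmS Om (S : Subgroup G),
      px Om M J = px Om M K → zz J = zz K := fun S hS K hK J hJ h =>
    zz_eq_of_px e hT c cc hM ht hB h74 hp kf h3 S hS hK hJ h
  have hG : commutator G = ⊤ := by
    haveI := ms.simple
    rcases IsSimpleGroup.eq_bot_or_eq_top_of_normal (commutator G) inferInstance with h1 | h1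
    · exfalso
      obtain ⟨K, hK⟩ := ms.ne
      obtain ⟨Q, hQ⟩ := Hyp.exists_syl K
      obtain ⟨x, v, n, hq⟩ := ms.hyp.exists_gq hK hQ
      apply hq.not_comm
      have h2 : ⁅x, v⁆ ∈ commutator G := commutator_mem_commutator (mem_top x) (mem_top v)
      rw [h1, mem_bot, commutatorElement_eq_one_iff_mul_comm] at h2
      exact h2.symm
    · exact h1
  by_cases hA : ∀ K ∈ OmS Om M, ∀ L ∈ OmS Om M, ∃ J ∈ OmS Om M, px Om M J ≠ px Om M K ∧ px Om M J ≠ px Om M L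
  · by_cases hF : ∀ K ∈ OmS Om M, ∀ L ∈ OmS Om M, ∀ N ∈ OmS Om M, ∃ J ∈ OmS Om M,
      px Om M J ≠ px Om M K ∧ px Om M J ≠ px Om M L ∧ px Om M J ≠ px Om M N
    · exact false_of_four_pieces e hT c cc hM ht hB h74 hF
    · push Not at hF
      obtain ⟨K, hK, L, hL, N, hN, hF⟩ := hF
      -- three pieces
      have hset : Pcs Om M = {px Om M K, px Om M L, px Om M N} := by
        ext D
        constructor
        · rintro ⟨J, hJ, rfl⟩
          by_cases h1 : px Om M J = px Om M K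
          · exact Or.inl h1
          by_cases h2 : px Om M J = px Om M L
          · exact Or.inr (Or.inl h2)
          · exact Or.inr (Or.inr (hF J hJ h1 h2))
        · rintro (rfl | rfl | rfl)
          · exact ⟨K, hK, rfl⟩
          · exact ⟨L, hL, rfl⟩
          · exact ⟨N, hN, rfl⟩
      have hKL : px Om M K ≠ px Om M L := by
        intro h
        obtain ⟨J, hJ, h1, h2⟩ := hA K hK N hN
        exact h2 (hF J hJ h1 (by rw [← h]; exact h1))
      have hKN : px Om M K ≠ px Om M N := by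
        intro h
        obtain ⟨J, hJ, h1, h2⟩ := hA K hK L hL
        exact h1 (by rw [h]; exact hF J hJ h1 h2)
      have hLN : px Om M L ≠ px Om M N := by
        intro h
        obtain ⟨J, hJ, h1, h2⟩ := hA K hK L hL
        exact h2 (by rw [h]; exact hF J hJ h1 h2)
      refine false_of_three_pieces e hT c cc hM ht hB h75 hz ?_ hA
      rw [hset, Set.ncard_insert_of_notMem (by simp [hKL, hKN]), Set.ncard_pair hLN]
      norm_num
  · push Not at hA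
    obtain ⟨K, hK, L, hL, hA⟩ := hA
    by_cases hKL : px Om M K = px Om M L
    · -- one piece
      obtain ⟨S, hS⟩ := e.exists_sylow
      obtain ⟨A, hA', B, hB', hne⟩ := Close.exists_two_members e.hyp S (h4 S)
      apply hne
      have h1 : ∀ J ∈ OmS Om M, px Om M J = px Om M K := by
        intro J hJ
        by_contra h1
        exact h1 ((hA J hJ h1).trans hKL.symm)
      exact hz S hS B hB' A hA' ((h1 A (OmS_mono hS hA')).trans (h1 B (OmS_mono hS hB')).symm)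
    · refine false_of_two_pieces e hT c hG ms.cls hK hL hKL fun J hJ => ?_
      by_cases h1 : px Om M J = px Om M K
      · exact Or.inl h1
      · exact Or.inr (hA J hJ h1)

end Cfsg.Agent.Cit.CloseBig
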