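import Cfsg.Agent.Cit.TypeDet.Irr
import Cfsg.Agent.Cit.FrameClose

/-!
# Closing with the connected commuting graph (project CIT)

The output sentence of the type owners: `G0` with a chart, `K i ≤ G0`, `delta Om (K i) ≤ G0`.  As the members in `G0`
are conjugate in `G0`, the members in `G0` are closed under commuting (`closed_of_delta`); if `Om` is connected
(`hconn`, the form of `CoreMany.ConnStmt`) then all members lie in `G0` and `G0 = G` for `G` simple (`eq_top`).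
-/

set_option autoImplicit false
set_option linter.unusedSectionVars false

namespace Cfsg.Agent.Cit.CloseConn

open Subgroup Cfsg Cfsg.Agent.Nodes.Chart
open Cfsg.Agent.Cit.TypeDet (cm cm_iff_le_centralizer)
open Cfsg.Agent.Cit.FrameClose (delta le_delta)

variable {G : Type*} [Group G] {Om : Set (Subgroup G)} {G0 : Subgroup G}

theorem cm_cj {g : G} {K L : Subgroup G} (h : cm K L) : cm (cj g K) (cj g L) := by
  rw [cm_iff_le_centralizer] at h ⊢
  intro x hx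
  rw [mem_centralizer_iff]
  intro y hy
  rw [mem_cj] at hx
  rw [SetLike.mem_coe, mem_cj] at hy
  have h1 := mem_centralizer_iff.1 (h hx) _ hy
  have h2 : y * x = g * ((g⁻¹ * y * g) * (g⁻¹ * x * g)) * g⁻¹ := by group
  have h3 : x * y = g * ((g⁻¹ * x * g) * (g⁻¹ * y * g)) * g⁻¹ := by group
  rw [h2, h3, h1]

variable [Finite G]

/-- the members in `G0` are closed under commuting -/
theorem closed_of_delta (hyp : Hyp Om) {p : ℕ} (c : Chart Om p G0) {K : Subgroup G} (hK : K ∈ Om) (hKG : K ≤ G0)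
    (hΔ : delta Om K ≤ G0) : ∀ J ∈ Om, J ≤ G0 → ∀ L ∈ Om, cm J L → L ≤ G0 := by
  intro J hJ hJG L hL hc
  obtain ⟨g, hg, hgJ⟩ := Nodes.ChartIrr.exists_conj c (K := J) (K' := K) ⟨hJ, hJG⟩ ⟨hK, hKG⟩
  have h1 : cm K (cj g L) := by rw [← hgJ]; exact cm_cj hc
  have hne : cj g L ≠ K := by
    intro h2
    rw [h2] at h1
    exact Nodes.ChartIrr.not_cm_self' c ⟨hK, hKG⟩ h1
  have h3 : cj g L ≤ G0 := by
    refine (le_delta (hyp.conj L hL g) hne fun a ha b hb => ?_).trans hΔ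
    rw [cm_iff_le_centralizer] at h1
    exact mem_centralizer_iff.1 (h1 hb) a ha
  intro x hx
  have h4 : g * x * g⁻¹ ∈ G0 := h3 (conj_mem_cj hx)
  have h5 : x = g⁻¹ * (g * x * g⁻¹) * g := by group
  rw [h5]
  exact mul_mem (mul_mem (inv_mem hg) h4) hg

/-- all members lie in `G0` -/
theorem all_le (hyp : Hyp Om) {p : ℕ} (c : Chart Om p G0) {K : Subgroup G} (hK : K ∈ Om) (hKG : K ≤ G0)
    (hΔ : delta Om K ≤ G0)
    (hconn : ∀ C : Set (Subgroup G), C ⊆ Om → C.Nonempty → (∀ K ∈ C, ∀ L ∈ Om, cm K L → L ∈ C) → C = Om) :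
    ∀ J ∈ Om, J ≤ G0 := by
  have h1 := hconn {J | J ∈ Om ∧ J ≤ G0} (fun J hJ => hJ.1) ⟨K, hK, hKG⟩ fun J hJ L hL hc =>
    ⟨hL, closed_of_delta hyp c hK hKG hΔ J hJ.1 hJ.2 L hL hc⟩
  intro J hJ
  have h2 : J ∈ {J | J ∈ Om ∧ J ≤ G0} := by rw [h1]; exact hJ
  exact h2.2

/-- a simple group is generated by `Om` -/
theorem eq_top_of_all_le (hyp : Hyp Om) (hs : IsSimpleGroup G) (hne : Om.Nonempty) (h : ∀ J ∈ Om, J ≤ G0) :
    G0 = ⊤ := by
  have hn : (sSup Om).Normal := by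
    refine normalizer_eq_top_iff.1 (top_unique fun g _ => ?_)
    rw [mem_normalizer_iff_cj]
    have key : ∀ g : G, cj g (sSup Om) ≤ sSup Om := by
      intro g
      rw [cj_def, (Subgroup.gc_map_comap _).l_sSup]
      exact iSup₂_le fun J hJ => le_sSup (hyp.conj J hJ g)
    refine le_antisymm (key g) ?_
    have h1 := cj_mono g (key g⁻¹)
    rwa [cj_cj_inv] at h1
  obtain ⟨K, hK⟩ := hne
  rcases hs.eq_bot_or_eq_top_of_normal _ hn with h1 | h1
  · exfalso
    have h2 : zz K ∈ sSup Om := le_sSup hK (hyp.zz_mem hK)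
    rw [h1, mem_bot] at h2
    exact hyp.zz_ne hK h2
  · exact top_unique (h1 ▸ sSup_le h)

/-- **`G0 = G`** -/
theorem eq_top (hyp : Hyp Om) (hs : IsSimpleGroup G) {p : ℕ} (c : Chart Om p G0) {K : Subgroup G} (hK : K ∈ Om)
    (hKG : K ≤ G0) (hΔ : delta Om K ≤ G0)
    (hconn : ∀ C : Set (Subgroup G), C ⊆ Om → C.Nonempty → (∀ K ∈ C, ∀ L ∈ Om, cm K L → L ∈ C) → C = Om) :
    G0 = ⊤ :=
  eq_top_of_all_le hyp hs ⟨K, hK⟩ (all_le hyp c hK hKG hΔ hconn)

end Cfsg.Agent.Cit.CloseConn
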