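import Cfsg.Agent.Cit.CloseMain
import Cfsg.Agent.Cit.CoresCore

/-!
# CONN / CLOSE: corollaries of THEOREM CLOSE

* `CloseIn` : the inputs of THEOREM CLOSE in one structure;
* `CloseIn.close`, `CloseIn.false_of_emb`;
* `CloseIn.corE`, `CloseIn.OO_eq_bot` : the cores for `|E(S)| ≥ 8` (helper822's `CorE`);
* `CloseIn.conn` : connectivity of the commuting graph from (M1) for the stabiliser of a component.
-/

set_option autoImplicit false
set_option linter.unusedSectionVars false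
set_option linter.style.haveILetI false
set_option linter.dupNamespace false

namespace Cfsg.Agent.Cit.CloseMain

open Subgroup Cfsg Cfsg.Agent.Cit SubCent CloGraph UseT CoresG CoresCore

universe u

/-- the inputs of THEOREM CLOSE -/
structure CloseIn : Prop where
  sw : SwStmt.{u}
  exc : GenChart.ExcTrip.{u}
  twin : TwinStmt.{u}
  kf : KFStmt.{u}
  bend : ∀ (G : Type u) [Group G] [Finite G] [IsSimpleGroup G], CloEnd.Bend G
  c74 : ∀ (G : Type u) [Group G] [Finite G] [IsSimpleGroup G], CloEnd.Crit1174 G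
  c75 : ∀ (G : Type u) [Group G] [Finite G] [IsSimpleGroup G], CloEnd.Crit1175 G

namespace CloseIn

variable {G : Type u} [Group G] [Finite G] {Om : Set (Subgroup G)} {M : Subgroup G}

/-- **THEOREM CLOSE** on `Emb` -/
theorem false_of_emb (ci : CloseIn.{u}) (ms : MinS Om) (e : Emb Om M) (m1 : MOne Om M)
    (h4 : ∀ S : Sylow 2 G, 4 ≤ Nat.card (ES Om (S : Subgroup G))) (hM : M ≠ ⊤) : False := by
  haveI := ms.simple
  exact CloseMain.false_of_emb ci.sw ci.exc ci.twin ci.kf ms (ci.bend G) (ci.c74 G) (ci.c75 G) e m1 h4 hM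

/-- **THEOREM CLOSE** -/
theorem close (ci : CloseIn.{u}) (ms : MinS Om) (S : Sylow 2 G)
    (h4 : 4 ≤ Nat.card (ES Om (S : Subgroup G))) (hN : normalizer (ES Om (S : Subgroup G) : Set G) ≤ M)
    (hC : ∀ a ∈ ES Om (S : Subgroup G), a ≠ 1 → centralizer {a} ≤ M) : M = ⊤ := by
  haveI := ms.simple
  exact CloseMain.close ci.sw ci.exc ci.twin ci.kf ms (ci.bend G) (ci.c74 G) (ci.c75 G) S h4 hN hC

/-- `G = ⟨N(E(S)), C(a) | a ∈ E(S)#⟩` -/
theorem sup_eq_top (ci : CloseIn.{u}) (ms : MinS Om) (S : Sylow 2 G)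
    (h4 : 4 ≤ Nat.card (ES Om (S : Subgroup G))) :
    normalizer (ES Om (S : Subgroup G) : Set G) ⊔
      (⨆ a ∈ {a | a ∈ ES Om (S : Subgroup G) ∧ a ≠ 1}, centralizer ({a} : Set G)) = ⊤ :=
  ci.close ms S h4 le_sup_left fun a ha ha1 =>
    (le_biSup (fun a => centralizer ({a} : Set G)) (show a ∈ {a | a ∈ ES Om (S : Subgroup G) ∧ a ≠ 1} from ⟨ha, ha1⟩)).trans
      le_sup_right

/-- **the cores for `|E(S)| ≥ 8`** -/
theorem corE (ci : CloseIn.{u}) (ms : MinS Om) (hodd : OddStmt.{u}) (hfix : FixStmt.{u}) (hct : CTStmt.{u})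
    (S : Sylow 2 G) (h8 : 8 ≤ Nat.card (ES Om (S : Subgroup G))) : CorE Om (S : Subgroup G) :=
  ms.corE_of_M hodd hfix hct S h8 fun M hN hC => ci.close ms S (le_trans (by norm_num) h8) hN hC

/-- **`O(K) = 1` for `|E(S)| ≥ 8`** -/
theorem OO_eq_bot (ci : CloseIn.{u}) (ms : MinS Om) (hodd : OddStmt.{u}) (hfix : FixStmt.{u}) (hct : CTStmt.{u})
    (S : Sylow 2 G) (h8 : 8 ≤ Nat.card (ES Om (S : Subgroup G))) : ∀ K ∈ Om, OO K = ⊥ :=
  ms.OO_eq_bot_of_corE hodd fun T => ci.corE ms hodd hfix hct T (by rw [Close.card_ES ms.hyp T S]; exact h8)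

/-- **the commuting graph is connected** if the stabiliser of a component satisfies (M1) -/
theorem conn (ci : CloseIn.{u}) (ms : MinS Om)
    (h4 : ∀ S : Sylow 2 G, 4 ≤ Nat.card (ES Om (S : Subgroup G)))
    (m1 : ∀ K₀ ∈ Om, MOne Om (Mst ms.hyp K₀)) : ∀ K ∈ Om, ∀ L ∈ Om, Relation.ReflTransGen (Adj Om) K L := by
  obtain ⟨K₀, hK₀⟩ := ms.ne
  refine connected_of_Mst ms.hyp (K₀ := K₀) (fun K hK => ?_) ?_
  · obtain ⟨g, hg⟩ := ms.cls K₀ hK₀ K hK
    exact ⟨g, hg.symm⟩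
  · by_contra hM
    exact ci.false_of_emb ms (emb_mst ms.hyp hK₀) (m1 K₀ hK₀) h4 hM

end CloseIn

end Cfsg.Agent.Cit.CloseMain
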