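import Cfsg.Agent.Cit.Quat
import Cfsg.Agent.Cit.AutQuat

/-!
# Elementary abelian 2-groups acting on generalised quaternion groups

* `GQ.exists_inverted` : an involution acting non trivially on a generalised quaternion group `Q` inverts an
  element of order four of `Q`;
* `GQ.exists_fix_inv` : an elementary abelian 2-group of order at least four acting faithfully on `Q`
  contains `a ≠ 1`, `b` such that some `w ∈ Q` of order four is fixed by `a` and inverted by `b`.
-/

set_option autoImplicit false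
set_option linter.style.haveILetI false
set_option linter.unusedSectionVars false

namespace Cfsg.Agent.Cit

open Subgroup

variable {G : Type*} [Group G]

/-- a 2-element of order at least `4` has a power of order `4` -/
theorem exists_pow_four {Q : Subgroup G} (hQ : IsPGroup 2 Q) {y : G} (hy : y ∈ Q) (h1 : y * y ≠ 1) :
    ∃ m : ℕ, orderOf (y ^ m) = 4 := by
  obtain ⟨k, hk⟩ := hQ ⟨y, hy⟩
  have hk' : y ^ 2 ^ k = 1 := congrArg Subtype.val hk
  obtain ⟨j, -, hj⟩ := (Nat.dvd_prime_pow Nat.prime_two).1 (orderOf_dvd_of_pow_eq_one hk')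
  have h2 : 2 ≤ j := by
    by_contra hlt
    apply h1
    have h3 : orderOf y ∣ 2 := by
      rw [hj]
      exact (pow_dvd_pow 2 (by omega : j ≤ 1)).trans (by norm_num)
    rw [← pow_two]
    exact orderOf_dvd_iff_pow_eq_one.1 h3
  refine ⟨2 ^ (j - 2), ?_⟩
  have h4 : 2 ^ j = 2 ^ (j - 2) * 4 := by
    rw [show (4 : ℕ) = 2 ^ 2 by norm_num, ← pow_add]
    congr 1
    omega
  rw [orderOf_pow_of_dvd (by positivity) (by rw [hj]; exact pow_dvd_pow 2 (by omega)), hj, h4,
    Nat.mul_div_cancel_left _ (by positivity)]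

namespace GQ

variable {Q : Subgroup G} {c v z : G} {n : ℕ}

theorem sq_of_four (h : GQ Q c v z n) {x : G} (hx : x ∈ Q) (h4 : orderOf x = 4) : x * x = z := by
  apply h.eq_z (Q.mul_mem hx hx)
  · have := pow_orderOf_eq_one x
    rw [h4] at this
    calc x * x * (x * x) = x ^ 4 := by simp only [pow_succ, pow_zero, one_mul, mul_assoc]
      _ = 1 := this
  · intro h1
    have h2 : orderOf x ∣ 2 := orderOf_dvd_of_pow_eq_one (by rw [pow_two]; exact h1)
    rw [h4] at h2
    revert h2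
    decide

theorem inv_of_four (h : GQ Q c v z n) {x : G} (hx : x ∈ Q) (h4 : orderOf x = 4) : x⁻¹ = x * z := by
  rw [inv_eq_iff_mul_eq_one, ← mul_assoc, h.sq_of_four hx h4, h.z_mul]

theorem ne_inv_of_four (h : GQ Q c v z n) {x : G} (hx : x ∈ Q) (h4 : orderOf x = 4) : x ≠ x⁻¹ := by
  intro h1
  apply h.z_ne
  rw [← h.sq_of_four hx h4]
  nth_rw 2 [h1]
  exact mul_inv_cancel x

theorem z_comm (h : GQ Q c v z n) {x : G} (hx : x ∈ Q) : x * z = z * x := by
  have h1 : x * z * x⁻¹ = z := by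
    apply h.eq_z (Q.mul_mem (Q.mul_mem hx h.z_mem) (Q.inv_mem hx))
    · calc x * z * x⁻¹ * (x * z * x⁻¹) = x * (z * z) * x⁻¹ := by group
        _ = 1 := by rw [h.z_mul]; group
    · intro h2
      apply h.z_ne
      have : x * z = x := by
        calc x * z = x * z * x⁻¹ * x := by group
          _ = x := by rw [h2, one_mul]
      exact mul_eq_left.1 this
  rwa [mul_inv_eq_iff_eq_mul] at h1

/-- commuting elements of order four are equal or inverse -/
theorem comm_four (h : GQ Q c v z n) {x y : G} (hx : x ∈ Q) (hy : y ∈ Q) (hx4 : orderOf x = 4)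
    (hy4 : orderOf y = 4) (hxy : x * y = y * x) : x = y ∨ x = y⁻¹ := by
  have h1 : (x * y) * (x * y) = 1 := by
    calc (x * y) * (x * y) = x * (y * x) * y := by group
      _ = x * (x * y) * y := by rw [hxy]
      _ = (x * x) * (y * y) := by group
      _ = 1 := by rw [h.sq_of_four hx hx4, h.sq_of_four hy hy4, h.z_mul]
  by_cases h2 : x * y = 1
  · right; exact eq_inv_of_mul_eq_one_left h2
  · left
    have h3 := h.eq_z (Q.mul_mem hx hy) h1 h2
    calc x = x * y * y⁻¹ := by group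
      _ = z * y⁻¹ := by rw [h3]
      _ = y * y * y⁻¹ := by rw [h.sq_of_four hy hy4]
      _ = y := by group

/-- an involution acting non trivially inverts an element of order four -/
theorem exists_inverted (h : GQ Q c v z n) (hQ : IsPGroup 2 Q) {s : G} (hs : s ∈ normalizer (Q : Set G))
    (hs2 : s * s = 1) (hne : ¬ ∀ x ∈ Q, s * x = x * s) : ∃ w ∈ Q, orderOf w = 4 ∧ s * w * s⁻¹ = w⁻¹ := by
  obtain ⟨x, hx, hx4, hsx⟩ : ∃ x ∈ Q, orderOf x = 4 ∧ s * x ≠ x * s := by
    by_contra hcon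
    push Not at hcon
    apply hne
    have h1 : Q ≤ centralizer {s} := h.le_of_four fun y hy hy4 => by
      rw [mem_centralizer_singleton_iff]
      exact (hcon y hy hy4).symm
    intro y hy
    exact (mem_centralizer_singleton_iff.1 (h1 hy)).symm
  have hsi : s⁻¹ = s := inv_eq_of_mul_eq_one_right hs2
  have hxs : s * x * s⁻¹ ∈ Q := (mem_normalizer_iff.1 hs x).1 hx
  obtain ⟨y, hy⟩ : ∃ y, y = x⁻¹ * (s * x * s⁻¹) := ⟨_, rfl⟩
  have hyQ : y ∈ Q := by rw [hy]; exact Q.mul_mem (Q.inv_mem hx) hxs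
  have hyi : s * y * s⁻¹ = y⁻¹ := by
    have h5 : s * (s * x * s⁻¹) * s⁻¹ = x := by
      rw [hsi]
      calc s * (s * x * s) * s = (s * s) * x * (s * s) := by group
        _ = x := by rw [hs2]; group
    calc s * y * s⁻¹ = (s * x * s⁻¹)⁻¹ * (s * (s * x * s⁻¹) * s⁻¹) := by rw [hy]; group
      _ = (s * x * s⁻¹)⁻¹ * x := by rw [h5]
      _ = y⁻¹ := by rw [hy]; group
  have hy1 : y ≠ 1 := by
    intro h1
    apply hsx
    rw [hy, inv_mul_eq_one] at h1
    rw [eq_mul_inv_iff_mul_eq] at h1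
    exact h1.symm
  by_cases hyy : y * y = 1
  · refine ⟨x, hx, hx4, ?_⟩
    have h3 := h.eq_z hyQ hyy hy1
    calc s * x * s⁻¹ = x * y := by rw [hy]; group
      _ = x⁻¹ := by rw [h3, h.inv_of_four hx hx4]
  · obtain ⟨m, hm⟩ := exists_pow_four hQ hyQ hyy
    refine ⟨y ^ m, Q.pow_mem hyQ m, hm, ?_⟩
    rw [← _root_.conj_pow, hyi, inv_pow]

/-- a 2-group normalising `Q` normalises some `⟨w⟩`, `w ∈ Q` of order four, normal in `Q` -/
theorem exists_normal_four [Finite G] (h : GQ Q c v z n) (hQ : IsPGroup 2 Q) {A : Subgroup G}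
    (hA : IsPGroup 2 A) (hAQ : A ≤ normalizer (Q : Set G)) :
    ∃ w ∈ Q, orderOf w = 4 ∧ (∀ g ∈ A, g * w * g⁻¹ = w ∨ g * w * g⁻¹ = w⁻¹) ∧
      ∀ g ∈ Q, g * w * g⁻¹ = w ∨ g * w * g⁻¹ = w⁻¹ := by
  -- the group `R = A Q`
  have hR : IsPGroup 2 (A ⊔ Q : Subgroup G) := hA.to_sup_of_normal_right' hQ hAQ
  have hRQ : A ⊔ Q ≤ normalizer (Q : Set G) := sup_le hAQ le_normalizer
  have hcen : ∀ x : Q, x ∈ Subgroup.center Q → (x : G) = 1 ∨ (x : G) = z := by
    rintro ⟨x, hx⟩ hxc
    rw [Subgroup.mem_center_iff] at hxc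
    have hv := congrArg Subtype.val (hxc ⟨v, h.v_mem⟩)
    have hc := congrArg Subtype.val (hxc ⟨c, h.c_mem⟩)
    simp only [coe_mul] at hv hc
    show x = 1 ∨ x = z
    rcases h.cov x hx with ⟨i, rfl⟩ | ⟨i, rfl⟩
    · have h1 : c ^ i * c ^ i = 1 := by
        rw [h.conj_pow] at hv
        have h2 : (c ^ i)⁻¹ = c ^ i := mul_right_cancel hv
        nth_rw 2 [← h2]
        exact mul_inv_cancel _
      by_cases h3 : c ^ i = 1
      · exact Or.inl h3
      · exact Or.inr (h.eq_z hx h1 h3)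
    · exfalso
      apply h.not_comm
      have h1 : v * c * c ^ i = c * v * c ^ i := by
        calc v * c * c ^ i = v * c ^ i * c := by
              rw [mul_assoc, mul_assoc]
              congr 1
              exact (Commute.refl c).pow_right i
          _ = c * v * c ^ i := by rw [← hc, mul_assoc]
      exact mul_right_cancel h1
  have hne : Subgroup.center Q ≠ ⊤ := by
    intro htop
    have h1 : (⟨v, h.v_mem⟩ : Q) ∈ Subgroup.center Q := by rw [htop]; trivial
    rcases hcen _ h1 with h2 | h2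
    · have h3 := h.orderOf_v
      rw [show v = 1 from h2, orderOf_one] at h3
      omega
    · have h3 := h.orderOf_v
      rw [show v = z from h2, h.orderOf_z] at h3
      omega
  let f : (A ⊔ Q : Subgroup G) →* MulAut Q :=
    (Subgroup.normalizerMonoidHom Q).comp (Subgroup.inclusion hRQ)
  have hf : ∀ (r : (A ⊔ Q : Subgroup G)) (x : Q), ((f r x : Q) : G) = (r : G) * x * (r : G)⁻¹ := fun r x => rfl
  obtain ⟨w, hw, hwf⟩ := AutQuat.exists_fixed hR hQ hne f
  have hz : ∀ g ∈ (A ⊔ Q : Subgroup G), g * (w : G) * g⁻¹ = w ∨ g * (w : G) * g⁻¹ = w * z := by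
    intro g hg
    have h1 := hcen _ (hwf ⟨g, hg⟩)
    simp only [coe_mul, hf, InvMemClass.coe_inv] at h1
    rcases h1 with h1 | h1
    · left; rwa [mul_inv_eq_one] at h1
    · right
      rw [mul_inv_eq_iff_eq_mul] at h1
      rw [h1, h.z_comm w.2]
  have hw1 : (w : G) * w ≠ 1 := by
    intro h1
    apply hw
    by_cases h2 : (w : G) = 1
    · have : w = 1 := Subtype.ext h2
      rw [this]; exact Subgroup.one_mem _
    · have h3 := h.eq_z w.2 h1 h2
      rw [Subgroup.mem_center_iff]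
      intro x
      apply Subtype.ext
      simp only [coe_mul, h3]
      exact h.z_comm x.2
  have hw4 : orderOf (w : G) = 4 := by
    rcases h.cov w w.2 with ⟨i, hi⟩ | ⟨i, hi⟩
    · -- `v w v⁻¹ = w⁻¹`
      have h1 : v * (w : G) * v⁻¹ = (w : G)⁻¹ := by rw [hi, h.conj_pow]; group
      rcases hz v (mem_sup_right h.v_mem) with h2 | h2
      · exfalso
        apply hw1
        rw [h1] at h2
        nth_rw 2 [← h2]
        exact mul_inv_cancel _
      · rw [h1] at h2
        apply orderOf_of_sq _ h.z_mul h.z_ne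
        have h3 : (w : G) * (w * z) = 1 := by rw [← h2]; exact mul_inv_cancel _
        rw [← mul_assoc] at h3
        rw [eq_inv_of_mul_eq_one_left h3, h.z_inv]
    · rw [hi]; exact h.orderOf_out i
  refine ⟨w, w.2, hw4, fun g hg => ?_, fun g hg => ?_⟩
  · rw [h.inv_of_four w.2 hw4]; exact hz g (mem_sup_left hg)
  · rw [h.inv_of_four w.2 hw4]; exact hz g (mem_sup_right hg)

theorem exists_fix_inv [Finite G] (h : GQ Q c v z n) (hQ : IsPGroup 2 Q) {A : Subgroup G}
    (hAQ : A ≤ normalizer (Q : Set G)) (hA2 : ∀ a ∈ A, a * a = 1)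
    {a b : G} (ha : a ∈ A) (hb : b ∈ A) (ha1 : a ≠ 1) (hb1 : b ≠ 1) (hab : a ≠ b)
    (hf : ∀ a ∈ A, a ≠ 1 → ¬ ∀ x ∈ Q, a * x = x * a) :
    ∃ w ∈ Q, orderOf w = 4 ∧ ∃ a ∈ A, ∃ b ∈ A, a ≠ 1 ∧ a * w * a⁻¹ = w ∧ b * w * b⁻¹ = w⁻¹ := by
  have hA : IsPGroup 2 A := fun x => ⟨1, Subtype.ext (by
    show (x : G) ^ 2 ^ 1 = 1
    rw [pow_one, pow_two]
    exact hA2 x x.2)⟩
  have habne : a * b ≠ 1 := by
    intro h1
    apply hab
    calc a = a * (b * b) := by rw [hA2 b hb, mul_one]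
      _ = (a * b) * b := by group
      _ = b := by rw [h1, one_mul]
  obtain ⟨w, hw, hw4, hwA, hwQ⟩ := h.exists_normal_four hQ hA hAQ
  by_cases hall : ∀ g ∈ A, g * w * g⁻¹ = w
  · -- `A` centralises `w`
    obtain ⟨x, hx, hx4, hax⟩ := h.exists_inverted hQ (hAQ ha) (hA2 a ha) (hf a ha ha1)
    have hxw : ∀ u ∈ Q, orderOf u = 4 → u * w = w * u → ∀ g ∈ A, g * u * g⁻¹ = u := by
      intro u hu hu4 huw g hg
      rcases h.comm_four hu hw hu4 hw4 huw with h1 | h1
      · rw [h1]; exact hall g hg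
      · rw [h1]
        calc g * w⁻¹ * g⁻¹ = (g * w * g⁻¹)⁻¹ := by group
          _ = w⁻¹ := by rw [hall g hg]
    have hnc : x * w ≠ w * x := by
      intro h1
      have h2 := hxw x hx hx4 h1 a ha
      rw [hax] at h2
      exact h.ne_inv_of_four hx hx4 h2.symm
    have hxwi : x * w * x⁻¹ = w⁻¹ := by
      rcases hwQ x hx with h1 | h1
      · exfalso; apply hnc; rwa [mul_inv_eq_iff_eq_mul] at h1
      · exact h1
    have hbi : b⁻¹ = b := inv_eq_of_mul_eq_one_right (hA2 b hb)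
    obtain ⟨x', hx'⟩ : ∃ x', x' = b * x * b⁻¹ := ⟨_, rfl⟩
    have hx'Q : x' ∈ Q := by rw [hx']; exact (mem_normalizer_iff.1 (hAQ hb) x).1 hx
    by_cases h1 : x' = x
    · exact ⟨x, hx, hx4, b, hb, a, ha, hb1, by rw [← hx', h1], hax⟩
    by_cases h2 : x' = x⁻¹
    · refine ⟨x, hx, hx4, a * b, A.mul_mem ha hb, a, ha, habne, ?_, hax⟩
      calc a * b * x * (a * b)⁻¹ = a * (b * x * b⁻¹) * a⁻¹ := by group
        _ = a * x⁻¹ * a⁻¹ := by rw [← hx', h2]
        _ = (a * x * a⁻¹)⁻¹ := by group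
        _ = x := by rw [hax, inv_inv]
    exfalso
    obtain ⟨y, hy⟩ : ∃ y, y = x⁻¹ * x' := ⟨_, rfl⟩
    have hyQ : y ∈ Q := by rw [hy]; exact Q.mul_mem (Q.inv_mem hx) hx'Q
    have hby : b * y * b⁻¹ = y⁻¹ := by
      have h5 : b * x' * b⁻¹ = x := by
        rw [hx', hbi]
        calc b * (b * x * b) * b = (b * b) * x * (b * b) := by group
          _ = x := by rw [hA2 b hb]; group
      calc b * y * b⁻¹ = (b * x * b⁻¹)⁻¹ * (b * x' * b⁻¹) := by rw [hy]; group
        _ = x'⁻¹ * x := by rw [h5, ← hx']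
        _ = y⁻¹ := by rw [hy]; group
    have hyy : y * y ≠ 1 := by
      intro h3
      by_cases h4 : y = 1
      · apply h1
        rw [hy, inv_mul_eq_one] at h4
        exact h4.symm
      · have h5 := h.eq_z hyQ h3 h4
        apply h2
        calc x' = x * y := by rw [hy]; group
          _ = x⁻¹ := by rw [h5, h.inv_of_four hx hx4]
    have hx'w : x' * w * x'⁻¹ = w⁻¹ := by
      have h6 : b⁻¹ * w * b = w := by
        have := hall b⁻¹ (A.inv_mem hb)
        rwa [inv_inv] at this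
      calc x' * w * x'⁻¹ = b * (x * (b⁻¹ * w * b) * x⁻¹) * b⁻¹ := by rw [hx']; group
        _ = b * w⁻¹ * b⁻¹ := by rw [h6, hxwi]
        _ = (b * w * b⁻¹)⁻¹ := by group
        _ = w⁻¹ := by rw [hall b hb]
    have hyw : y * w = w * y := by
      have h7 : x' * w = w⁻¹ * x' := by rwa [mul_inv_eq_iff_eq_mul] at hx'w
      have h8 : x⁻¹ * w⁻¹ = w * x⁻¹ := by
        rw [mul_inv_eq_iff_eq_mul] at hxwi
        calc x⁻¹ * w⁻¹ = x⁻¹ * (w⁻¹ * x) * x⁻¹ := by group
          _ = x⁻¹ * (x * w) * x⁻¹ := by rw [hxwi]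
          _ = w * x⁻¹ := by group
      calc y * w = x⁻¹ * (x' * w) := by rw [hy]; group
        _ = (x⁻¹ * w⁻¹) * x' := by rw [h7]; group
        _ = w * y := by rw [h8, hy]; group
    obtain ⟨m, hm⟩ := exists_pow_four hQ hyQ hyy
    have h9 := hxw (y ^ m) (Q.pow_mem hyQ m) hm (Commute.pow_left (show Commute y w from hyw) m) b hb
    rw [← _root_.conj_pow, hby, inv_pow] at h9
    exact h.ne_inv_of_four (Q.pow_mem hyQ m) hm h9.symm
  · push Not at hall
    obtain ⟨g, hg, hgw⟩ := hall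
    have hgi : g * w * g⁻¹ = w⁻¹ := (hwA g hg).resolve_left hgw
    rcases hwA a ha with h1 | h1
    · exact ⟨w, hw, hw4, a, ha, g, hg, ha1, h1, hgi⟩
    rcases hwA b hb with h2 | h2
    · exact ⟨w, hw, hw4, b, hb, g, hg, hb1, h2, hgi⟩
    refine ⟨w, hw, hw4, a * b, A.mul_mem ha hb, g, hg, habne, ?_, hgi⟩
    calc a * b * w * (a * b)⁻¹ = a * (b * w * b⁻¹) * a⁻¹ := by group
      _ = (a * w * a⁻¹)⁻¹ := by rw [h2]; group
      _ = w := by rw [h1, inv_inv]

end GQ

end Cfsg.Agent.Cit
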