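import Cfsg.Agent.Cit.CloseFus
import Cfsg.Agent.Cit.CloGlue
import Cfsg.Agent.Cit.ThreeQuat

/-!
# All involutions `z_K`, `K ∈ Om(S)`, equal: the closing argument, first half

bb R18 #8092 (6). `EqZ Om`: for every Sylow 2-subgroup `S` the involutions `zz K`, `K ∈ Om(S)`, are equal, and
`|Om(S)| ≥ 2`. `Big Om M`: `M` contains a Sylow 2-subgroup of `G` and the centralisers of all involutions of
`D(S)`, `S ≤ M` Sylow.

* `Big.centralizer_le` : (h2), `zz K ∈ M` implies `C(zz K) ≤ M`;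
* `Big.mem_of_conj` : `g (zz K) g⁻¹ ∈ M`, `zz K ∈ M` imply `g ∈ M`;
* `Big.clo` : the structure `CloPoint.Clo` for the Sylow 2-subgroups (contained in `M`) of members.
-/

set_option autoImplicit false
set_option linter.style.haveILetI false
set_option linter.unusedSectionVars false

namespace Cfsg.Agent.Cit.EqClose

open Subgroup Cfsg

variable {G : Type*} [Group G]

/-! ### Elementary facts -/

section Basic

variable [Finite G] {Om : Set (Subgroup G)} {S K L : Subgroup G}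

/-- an element of order four of a Sylow subgroup of `L` is in no other member `K` of `Om(S)` -/
theorem not_mem_of_four (h : Hyp Om) (hS : IsPGroup 2 S) (hK : K ∈ OmS Om S) (hL : L ∈ OmS Om S) (hne : K ≠ L)
    {x : G} (hx : x ∈ L ⊓ S) (hx4 : orderOf x = 4) : x ∉ K := by
  intro hxK
  obtain ⟨c, v, n, hc⟩ := h.exists_gq hK.1 (syl_inf hS hK)
  obtain ⟨y, hy, -, hyx⟩ := hc.exists_inverting ⟨hxK, hx.2⟩ hx4
  have h1 : y * x = x * y := h.comm hS hK hL hne hy hx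
  rw [h1, mul_inv_cancel_right] at hyx
  have h2 : x * x = 1 := by nth_rewrite 2 [hyx]; exact mul_inv_cancel x
  have h3 := orderOf_dvd_of_pow_eq_one (by rw [pow_two]; exact h2 : x ^ 2 = 1)
  rw [hx4] at h3
  omega

/-- the product of two elements of order four of two members with the same involution -/
theorem mul_four (h : Hyp Om) (hS : IsPGroup 2 S) (hK : K ∈ OmS Om S) (hL : L ∈ OmS Om S) (hne : K ≠ L)
    (hz : zz K = zz L) {x y : G} (hx : x ∈ K ⊓ S) (hx4 : orderOf x = 4) (hy : y ∈ L ⊓ S) (hy4 : orderOf y = 4) :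
    x * y ∈ DD Om S ∧ x * y * (x * y) = 1 ∧ x * y ≠ 1 ∧ x * y ≠ zz K := by
  have hxy : x * y = y * x := h.comm hS hK hL hne hx hy
  have hxx := h.sq_eq_zz hK.1 hx.1 hx4
  have hyy := h.sq_eq_zz hL.1 hy.1 hy4
  have hn := not_mem_of_four h hS hK hL hne hy hy4
  refine ⟨mul_mem (inf_le_DD hK hx) (inf_le_DD hL hy), ?_, ?_, ?_⟩
  · calc x * y * (x * y) = x * (y * x) * y := by group
      _ = (x * x) * (y * y) := by rw [← hxy]; group
      _ = 1 := by rw [hxx, hyy, ← hz, h.zz_mul hK.1]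
  · intro h1
    apply hn
    rw [eq_inv_of_mul_eq_one_right h1]
    exact K.inv_mem hx.1
  · intro h1
    apply hn
    rw [eq_inv_mul_of_mul_eq h1]
    exact K.mul_mem (K.inv_mem hx.1) (h.zz_mem hK.1)

/-- the Sylow 2-subgroups of a member have the same involution -/
theorem zz_of_syl (h : Hyp Om) (hK : K ∈ Om) {Q : Subgroup G} (hQ : Syl Q K) : zz Q = zz K := by
  obtain ⟨c, v, n, hc⟩ := h.exists_gq hK hQ
  have h1 := zz_spec ⟨zz K, hc.z_mem, h.orderOf_zz hK⟩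
  exact h.uniq K hK _ (hQ.1 h1.1) h1.2

end Basic

/-- `|Om(S)| ≥ 2` and all the involutions `zz K`, `K ∈ Om(S)`, are equal -/
structure EqZ (Om : Set (Subgroup G)) : Prop where
  hyp : Hyp Om
  ne : Om.Nonempty
  ty : ∀ K ∈ Om, TyTwo K
  eqz : ∀ S : Sylow 2 G, ∀ K ∈ OmS Om (S : Subgroup G), ∀ L ∈ OmS Om (S : Subgroup G), zz K = zz L
  two : ∀ S : Sylow 2 G, ∀ K ∈ OmS Om (S : Subgroup G), ∃ L ∈ OmS Om (S : Subgroup G), L ≠ K

namespace EqZ

variable [Finite G] {Om : Set (Subgroup G)}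

/-- for a 2-subgroup `R` the involutions `zz K`, `K ∈ Om(R)`, are equal -/
theorem eq_zz (e : EqZ Om) {R K L : Subgroup G} (hR : IsPGroup 2 R) (hK : K ∈ OmS Om R) (hL : L ∈ OmS Om R) :
    zz K = zz L := by
  haveI : Fact (Nat.Prime 2) := ⟨Nat.prime_two⟩
  obtain ⟨S, hS⟩ := hR.exists_le_sylow
  exact e.eqz S K (OmS_mono hS hK) L (OmS_mono hS hL)

/-- `zz K`, `K ∈ Om(S)`, is central in `N(S)` -/
theorem normalizer_le (e : EqZ Om) {S : Subgroup G} (hS : IsPGroup 2 S) {K : Subgroup G} (hK : K ∈ OmS Om S) :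
    normalizer (S : Set G) ≤ centralizer {zz K} := by
  intro g hg
  have h1 := cj_mem_OmS' e.hyp.conj hg hK
  have h2 := e.eq_zz hS hK h1
  rw [e.hyp.zz_cj hK.1] at h2
  rw [mem_centralizer_singleton_iff]
  calc g * zz K = g * zz K * g⁻¹ * g := by group
    _ = zz K * g := by rw [← h2]

theorem comm_zz (e : EqZ Om) {S : Subgroup G} (hS : IsPGroup 2 S) {K : Subgroup G} (hK : K ∈ OmS Om S) {x : G}
    (hx : x ∈ S) : x * zz K = zz K * x :=
  mem_centralizer_singleton_iff.1 (e.normalizer_le hS hK (le_normalizer hx))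

/-- an element `x ∈ S` normalising `K` fixes or inverts an element of order four of `K ⊓ S` -/
theorem exists_pm (e : EqZ Om) {S : Subgroup G} (hS : IsPGroup 2 S) {K : Subgroup G} (hK : K ∈ OmS Om S)
    {x : G} (hx : x ∈ S) (hxK : x ∈ normalizer (K : Set G)) :
    ∃ w ∈ K ⊓ S, orderOf w = 4 ∧ (x * w * x⁻¹ = w ∨ x * w * x⁻¹ = w⁻¹) := by
  obtain ⟨c, v, n, hc⟩ := e.hyp.exists_gq hK.1 (syl_inf hS hK)
  have hxn : zpowers x ≤ normalizer ((K ⊓ S : Subgroup G) : Set G) := by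
    rw [zpowers_le, mem_normalizer_iff_cj, cj_inf, mem_normalizer_iff_cj.1 hxK,
      mem_normalizer_iff_cj.1 (le_normalizer hx)]
  obtain ⟨w, hw, hw4, h1, -⟩ := hc.exists_normal_four (hS.to_le inf_le_right) (A := zpowers x)
    (isPGroup_zpowers hS hx) hxn
  exact ⟨w, hw, hw4, h1 x (mem_zpowers x)⟩

theorem sq_comm_of_pm {x w : G} (h : x * w * x⁻¹ = w ∨ x * w * x⁻¹ = w⁻¹) : (x * x) * w = w * (x * x) := by
  have h1 : x * (x * w * x⁻¹) * x⁻¹ = w := by
    rcases h with h | h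
    · rw [h, h]
    · rw [h]
      calc x * w⁻¹ * x⁻¹ = (x * w * x⁻¹)⁻¹ := by group
        _ = w := by rw [h, inv_inv]
  calc (x * x) * w = x * (x * w * x⁻¹) * x⁻¹ * (x * x) := by group
    _ = w * (x * x) := by rw [h1]

/-- the involution `t` -/
theorem exists_t (e : EqZ Om) {M : Subgroup G} (S : Sylow 2 G) {K' : Subgroup G} (hK' : K' ∈ Om)
    (hz' : zz K' ∈ (S : Subgroup G)) (hC : ∀ K ∈ OmS Om (S : Subgroup G), centralizer {zz K} ≤ M)
    (hSM : (S : Subgroup G) ≤ M)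
    {T' : Subgroup G} (hT' : Syl T' (M ⊓ centralizer {zz K'})) (hTS : T' ≤ S) {K1 : Subgroup G}
    (hK1 : K1 ∈ OmS Om (S : Subgroup G)) :
    ∃ t ∈ DD Om (S : Subgroup G), t * t = 1 ∧ t ≠ 1 ∧ t ≠ zz K1 ∧ t * zz K' = zz K' * t := by
  have h := e.hyp
  have hS := S.isPGroup'
  obtain ⟨z', hz'e⟩ : ∃ z', z' = zz K' := ⟨_, rfl⟩
  have hzz' : z' * z' = 1 := by rw [hz'e]; exact h.zz_mul hK'
  have hzi : z'⁻¹ = z' := inv_eq_of_mul_eq_one_right hzz'
  rw [← hz'e] at hz' hT' ⊢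
  by_cases hmv : ∃ K ∈ OmS Om (S : Subgroup G), cj z' K ≠ K
  · obtain ⟨K, hK, hKne⟩ := hmv
    obtain ⟨x, hx, hx4⟩ := h.exists_four hS hK
    have hL : cj z' K ∈ OmS Om (S : Subgroup G) := cj_mem_OmS' h.conj (le_normalizer hz') hK
    have hx' : z' * x * z'⁻¹ ∈ cj z' K ⊓ (S : Subgroup G) :=
      ⟨conj_mem_cj hx.1, (S : Subgroup G).mul_mem ((S : Subgroup G).mul_mem hz' hx.2) ((S : Subgroup G).inv_mem hz')⟩
    have hx'4 : orderOf (z' * x * z'⁻¹) = 4 := by rw [← hx4]; exact (MulAut.conj z').orderOf_eq x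
    obtain ⟨h1, h2, h3, h4⟩ := mul_four h hS hK hL (Ne.symm hKne) (e.eqz S _ hK _ hL) hx hx4 hx' hx'4
    refine ⟨_, h1, h2, h3, by rwa [e.eqz S _ hK1 _ hK], ?_⟩
    have hc := h.comm hS hK hL (Ne.symm hKne) hx hx'
    rw [hzi] at hc ⊢
    calc x * (z' * x * z') * z' = x * z' * x * (z' * z') := by group
      _ = x * z' * x * z' * z' := by rw [hzz', mul_one, mul_assoc (x * z' * x), hzz', mul_one]
      _ = (x * (z' * x * z')) * z' := by group
      _ = (z' * x * z' * x) * z' := by rw [hc]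
      _ = z' * (x * (z' * x * z')) := by group
  · push Not at hmv
    obtain ⟨K2, hK2, hne⟩ := e.two S K1 hK1
    have hzz12 := e.eqz S _ hK1 _ hK2
    obtain ⟨w1, hw1, hw14, h1⟩ := e.exists_pm hS hK1 hz' (mem_normalizer_iff_cj.2 (hmv K1 hK1))
    obtain ⟨w2, hw2, hw24, h2⟩ := e.exists_pm hS hK2 hz' (mem_normalizer_iff_cj.2 (hmv K2 hK2))
    -- the mixed case
    have mixed : ∀ K L : Subgroup G, K ∈ OmS Om (S : Subgroup G) → L ∈ OmS Om (S : Subgroup G) → K ≠ L →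
        ∀ w ∈ K ⊓ (S : Subgroup G), orderOf w = 4 → z' * w * z'⁻¹ = w →
        ∃ t ∈ DD Om (S : Subgroup G), t * t = 1 ∧ t ≠ 1 ∧ t ≠ zz K1 ∧ t * z' = z' * t := by
      intro K L hK hL hKL w hw hw4 hwz
      have hwz' : w * z' = z' * w := (mul_inv_eq_iff_eq_mul.1 hwz).symm
      have hwT' : w ∈ T' := by
        have h3 : T' = (S : Subgroup G) ⊓ (M ⊓ centralizer {z'}) :=
          hT'.eq_of_le (le_inf hTS hT'.1) inf_le_right (hS.to_le inf_le_left)
        rw [h3]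
        exact ⟨hw.2, hSM hw.2, mem_centralizer_singleton_iff.2 hwz'⟩
      obtain ⟨T0, hT0, hT'0⟩ := Cit.exists_syl_ge hT'.2.1 (hT'.1.trans inf_le_right)
      have hTM : T0 ⊓ M ≤ T' := by
        rw [← hT'.eq_of_le (le_inf hT'0 (hT'.1.trans inf_le_left))
          (le_inf inf_le_right (inf_le_left.trans hT0.1)) (hT0.2.1.to_le inf_le_left)]
      have hK'T : K' ∈ OmS Om T0 := by
        rw [hz'e] at hT0
        exact h.mem_OmS_of_syl hK' hT0
      have hwK' : w ∈ normalizer (K' : Set G) :=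
        h.norm_four hS hK.1 hK' hw.1 hw.2 hw4.ge (by rw [← hz'e]; exact hwz')
      obtain ⟨y, hy, hy4, h4⟩ := e.exists_pm hT0.2.1 hK'T (hT'0 hwT') hwK'
      have hyz := sq_comm_of_pm h4
      rw [h.sq_eq_zz hK.1 hw.1 hw4] at hyz
      have hyS : y ∈ (S : Subgroup G) := hTS (hTM ⟨hy.2, hC K hK (mem_centralizer_singleton_iff.2 hyz.symm)⟩)
      have hyL : y ∈ normalizer (L : Set G) :=
        h.norm_four hT0.2.1 hK' hL.1 hy.1 hy.2 hy4.ge (by rw [← e.eqz S _ hK _ hL]; exact hyz.symm)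
      obtain ⟨v, hv, hv4, h5⟩ := e.exists_pm hS hL hyS hyL
      have hvz := sq_comm_of_pm h5
      rw [h.sq_eq_zz hK' hy.1 hy4, ← hz'e] at hvz
      obtain ⟨a1, a2, a3, a4⟩ := mul_four h hS hK hL hKL (e.eqz S _ hK _ hL) hw hw4 hv hv4
      refine ⟨_, a1, a2, a3, by rwa [e.eqz S _ hK1 _ hK], ?_⟩
      rw [mul_assoc, ← hvz, ← mul_assoc, hwz', mul_assoc]
    rcases h1 with h1 | h1
    · exact mixed K1 K2 hK1 hK2 hne.symm w1 hw1 hw14 h1
    · rcases h2 with h2 | h2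
      · exact mixed K2 K1 hK2 hK1 hne w2 hw2 hw24 h2
      · obtain ⟨a1, a2, a3, a4⟩ := mul_four h hS hK1 hK2 hne.symm hzz12 hw1 hw14 hw2 hw24
        refine ⟨_, a1, a2, a3, a4, ?_⟩
        have h3 : z' * (w1 * w2) * z'⁻¹ = w1 * w2 := by
          calc z' * (w1 * w2) * z'⁻¹ = (z' * w1 * z'⁻¹) * (z' * w2 * z'⁻¹) := by group
            _ = w1⁻¹ * w2⁻¹ := by rw [h1, h2]
            _ = (w2 * w1)⁻¹ := by group
            _ = (w1 * w2)⁻¹ := by rw [h.comm hS hK1 hK2 hne.symm hw1 hw2]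
            _ = w1 * w2 := inv_eq_of_mul_eq_one_right a2
        exact (mul_inv_eq_iff_eq_mul.1 h3).symm

end EqZ

/-- `M` contains a Sylow 2-subgroup of `G`; the centralisers of the involutions of `D(S)` are in `M` -/
structure Big (Om : Set (Subgroup G)) (M : Subgroup G) : Prop where
  syl : ∃ S : Sylow 2 G, (S : Subgroup G) ≤ M
  good : ∀ S : Sylow 2 G, (S : Subgroup G) ≤ M → ∀ f ∈ DD Om (S : Subgroup G), f * f = 1 → f ≠ 1 →
    centralizer {f} ≤ M

namespace Big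

variable [Finite G] {Om : Set (Subgroup G)} {M : Subgroup G}

/-- a 2-subgroup of `M` lies in a Sylow 2-subgroup of `G` contained in `M` -/
theorem exists_sylow (b : Big Om M) {R : Subgroup G} (hR : IsPGroup 2 R) (hRM : R ≤ M) :
    ∃ S : Sylow 2 G, (S : Subgroup G) ≤ M ∧ R ≤ S := by
  haveI : Fact (Nat.Prime 2) := ⟨Nat.prime_two⟩
  obtain ⟨S, hS⟩ := b.syl
  obtain ⟨m, hm, h1⟩ := CloseFus.exists_le_cj_of_le S hS hR hRM
  refine ⟨m • S, ?_, ?_⟩
  · rw [CloseFus.coe_smul]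
    intro x hx
    rw [mem_cj] at hx
    have h2 : x = m * (m⁻¹ * x * m) * m⁻¹ := by group
    rw [h2]
    exact M.mul_mem (M.mul_mem hm (hS hx)) (M.inv_mem hm)
  · rw [CloseFus.coe_smul]
    exact h1

theorem centralizer_le_of_mem (e : EqZ Om) (b : Big Om M) {S : Subgroup G} (hS : IsPGroup 2 S) (hSM : S ≤ M)
    {K : Subgroup G} (hK : K ∈ OmS Om S) : centralizer {zz K} ≤ M := by
  obtain ⟨T, hTM, hST⟩ := b.exists_sylow hS hSM
  have hK' := OmS_mono hST hK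
  exact b.good T hTM _ (inf_le_DD hK' (e.hyp.zz_mem_inf T.isPGroup' hK')) (e.hyp.zz_mul hK.1) (e.hyp.zz_ne hK.1)

/-- **(h2)** -/
theorem centralizer_le (e : EqZ Om) (b : Big Om M) {K : Subgroup G} (hK : K ∈ Om) (hz : zz K ∈ M) :
    centralizer {zz K} ≤ M := by
  haveI : Fact (Nat.Prime 2) := ⟨Nat.prime_two⟩
  have h := e.hyp
  have hz2 : IsPGroup 2 (zpowers (zz K)) := CloEnd.isPGroup_zpowers (h.zz_mul hK)
  obtain ⟨T', hT', hzT'⟩ := Cit.exists_syl_ge hz2 (C := M ⊓ centralizer {zz K})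
    (zpowers_le.2 ⟨hz, mem_centralizer_singleton_iff.2 rfl⟩)
  obtain ⟨S, hSM, hTS⟩ := b.exists_sylow hT'.2.1 (hT'.1.trans inf_le_left)
  obtain ⟨K1, hK1⟩ := h.OmS_nonempty S e.ne
  have hzS : zz K ∈ (S : Subgroup G) := hTS (hzT' (mem_zpowers _))
  have hC : ∀ K ∈ OmS Om (S : Subgroup G), centralizer {zz K} ≤ M :=
    fun K hK => b.centralizer_le_of_mem e S.isPGroup' hSM hK
  obtain ⟨t, ht, htt, ht1, htz, htc⟩ := e.exists_t S hK hzS hC hSM hT' hTS hK1
  have hT'e : T' = (S : Subgroup G) ⊓ (M ⊓ centralizer {zz K}) :=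
    hT'.eq_of_le (le_inf hTS hT'.1) inf_le_right (S.isPGroup'.to_le inf_le_left)
  have hmem : ∀ x ∈ (S : Subgroup G), x * zz K = zz K * x → x ∈ T' := by
    intro x hx hxz
    rw [hT'e]
    exact ⟨hx, hSM hx, mem_centralizer_singleton_iff.2 hxz⟩
  have hz1D : zz K1 ∈ DD Om (S : Subgroup G) := inf_le_DD hK1 (h.zz_mem_inf S.isPGroup' hK1)
  have hz1c : ∀ x ∈ (S : Subgroup G), x * zz K1 = zz K1 * x := fun x hx => e.comm_zz S.isPGroup' hK1 hx
  have hne : zz K1 * t ≠ 1 := by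
    intro h1
    apply htz
    rw [eq_inv_of_mul_eq_one_right h1, h.zz_inv hK1.1]
  have fr : CloseFus.Four T' M (zz K) (zz K1) t :=
    { syl := hT'
      a_T := hmem _ (DD_le hz1D) (hz1c _ hzS).symm
      b_T := hmem _ (DD_le ht) htc
      aa := h.zz_mul hK1.1
      bb := htt
      comm := (hz1c t (DD_le ht)).symm
      Ca := hC K1 hK1
      Cb := b.good S hSM t ht htt ht1
      Cab := b.good S hSM _ (mul_mem hz1D ht) (by
        calc zz K1 * t * (zz K1 * t) = zz K1 * (t * zz K1) * t := by group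
          _ = (zz K1 * zz K1) * (t * t) := by rw [hz1c t (DD_le ht)]; group
          _ = 1 := by rw [h.zz_mul hK1.1, htt, one_mul]) hne }
  rcases fr.core h e.ty hK with ⟨L, hL, hLz, Q, hQ, hQM⟩ | ⟨w, hw, -, -, f, hf, hfw⟩
  · rw [← hLz]
    exact b.centralizer_le_of_mem e hQ.2.1 hQM (mem_OmS_of_le hL hQ le_rfl)
  · have hfD : f ∈ DD Om (S : Subgroup G) := by
      rcases hf with rfl | rfl
      · exact hz1D
      · exact ht
    have hn : w ∈ normalizer (DD Om (S : Subgroup G) : Set G) :=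
      normalizer_le_normalizer_DD h.conj (le_normalizer (hTS hw))
    refine b.good S hSM _ ?_ (h.zz_mul hK) (h.zz_ne hK)
    have h2 : zz K = f * (w * f⁻¹ * w⁻¹) := by
      calc zz K = (zz K * w) * w⁻¹ := by group
        _ = (f * w * f⁻¹) * w⁻¹ := by rw [hfw]
        _ = f * (w * f⁻¹ * w⁻¹) := by group
    rw [h2]
    exact mul_mem hfD ((mem_normalizer_iff.1 hn _).1 (inv_mem hfD))

/-- `zz K ∈ M` and `g (zz K) g⁻¹ ∈ M` imply `g ∈ M` -/
theorem mem_of_conj (e : EqZ Om) (b : Big Om M) {K : Subgroup G} (hK : K ∈ Om) (hz : zz K ∈ M) {g : G}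
    (hg : g * zz K * g⁻¹ ∈ M) : g ∈ M := by
  haveI : Fact (Nat.Prime 2) := ⟨Nat.prime_two⟩
  have h := e.hyp
  have h1 := b.centralizer_le e hK hz
  have h2 : centralizer {g * zz K * g⁻¹} ≤ M := by
    rw [← h.zz_cj hK]
    exact b.centralizer_le e (h.conj K hK g) (by rwa [h.zz_cj hK])
  -- a Sylow 2-subgroup `S` of `G` in `C(zz K)`
  obtain ⟨S, hKS, -⟩ := h.exists_sylow hK
  have hSC : (S : Subgroup G) ≤ centralizer {zz K} := le_normalizer.trans (e.normalizer_le S.isPGroup' hKS)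
  have hgS : cj g (S : Subgroup G) ≤ M := by
    refine le_trans ?_ h2
    rw [← cj_centralizer]
    exact cj_mono g hSC
  obtain ⟨m, hm, hmS⟩ := (CloPoint.Clo.syl_of_sylow (hSC.trans h1)).exists_conj (R := cj g (S : Subgroup G))
    (by rw [← CloseFus.coe_smul]; exact CloPoint.Clo.syl_of_sylow (by rw [CloseFus.coe_smul]; exact hgS))
  have h3 : m⁻¹ * g ∈ normalizer ((S : Subgroup G) : Set G) := by
    rw [mem_normalizer_iff_cj, cj_mul, ← hmS, cj_inv_cj]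
  have h4 : g = m * (m⁻¹ * g) := by group
  rw [h4]
  exact M.mul_mem hm (h1 (e.normalizer_le S.isPGroup' hKS h3))

end Big

/-- the Sylow 2-subgroups of members which lie in `M` -/
def QQ (Om : Set (Subgroup G)) (M : Subgroup G) : Set (Subgroup G) := {Q | Q ≤ M ∧ ∃ K ∈ Om, Syl Q K}

namespace Big

variable [Finite G] {Om : Set (Subgroup G)} {M : Subgroup G}

/-- **the hypotheses of `CloPoint` hold** -/
theorem clo (e : EqZ Om) (b : Big Om M) : CloPoint.Clo M (QQ Om M) := by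
  have h := e.hyp
  refine ⟨fun Q hQ => hQ.1, fun Q ⟨_, K, hK, hQ⟩ => hQ.2.1, ?_, ?_, ?_, ?_, ?_, ?_, ?_, ?_⟩
  · rintro Q ⟨_, K, hK, hQ⟩
    rw [zz_of_syl h hK hQ]
    obtain ⟨c, v, n, hc⟩ := h.exists_gq hK hQ
    exact ⟨hc.z_mem, h.orderOf_zz hK⟩
  · rintro Q ⟨_, K, hK, hQ⟩ t ht ht2
    rw [zz_of_syl h hK hQ]
    exact h.uniq K hK t (hQ.1 ht) ht2
  · rintro Q ⟨_, K, hK, hQ⟩
    rw [zz_of_syl h hK hQ]
    obtain ⟨c, v, n, hc⟩ := h.exists_gq hK hQ
    obtain ⟨x, hx⟩ := h.exists_four hQ.2.1 (mem_OmS_of_le hK hQ le_rfl)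
    obtain ⟨y, hy, hy4, hyx⟩ := hc.exists_inverting hx.1.2 hx.2
    refine ⟨y, hy, x, hx.1.2, h.sq_eq_zz hK (hQ.1 hy) hy4, h.sq_eq_zz hK hx.1.1 hx.2, hyx⟩
  · rintro m hm Q ⟨hQM, K, hK, hQ⟩
    refine ⟨?_, cj m K, h.conj K hK m, hQ.cj m⟩
    intro x hx
    rw [mem_cj] at hx
    have h2 : x = m * (m⁻¹ * x * m) * m⁻¹ := by group
    rw [h2]
    exact M.mul_mem (M.mul_mem hm (hQM hx)) (M.inv_mem hm)
  · rintro P hP hPM Q ⟨_, K, hK, hQ⟩ Q' ⟨_, K', hK', hQ'⟩ hQP hQP' hne a ha b hb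
    have h1 := mem_OmS_of_le hK hQ hQP
    have h2 := mem_OmS_of_le hK' hQ' hQP'
    have h3 : Q = K ⊓ P := hQ.eq_of_le (le_inf hQ.1 hQP) inf_le_left (hP.to_le inf_le_right)
    have h4 : Q' = K' ⊓ P := hQ'.eq_of_le (le_inf hQ'.1 hQP') inf_le_left (hP.to_le inf_le_right)
    refine h.comm hP h1 h2 ?_ (by rw [← h3]; exact ha) (by rw [← h4]; exact hb)
    rintro rfl
    exact hne (h3.trans h4.symm)
  · intro S hS
    obtain ⟨T, hTM, hST⟩ := b.exists_sylow hS.2.1 hS.1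
    have h1 : S = T := hS.eq_of_le hST hTM T.isPGroup'
    obtain ⟨K, hK⟩ := h.OmS_nonempty T e.ne
    exact ⟨K ⊓ T, ⟨inf_le_right.trans hTM, K, hK.1, syl_inf T.isPGroup' hK⟩, by rw [h1]; exact inf_le_right⟩
  · intro P hP hPM x hx hx1
    have h1 : ∀ z ∈ CloPoint.ZS (QQ Om M) P, ∃ K ∈ OmS Om P, zz K = z := by
      rintro z ⟨Q, ⟨_, K, hK, hQ⟩, hQP, rfl⟩
      exact ⟨K, mem_OmS_of_le hK hQ hQP, (zz_of_syl h hK hQ).symm⟩
    by_cases hO : (OmS Om P).Nonempty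
    · obtain ⟨K, hK⟩ := hO
      have h2 : CloPoint.EE (QQ Om M) P ≤ zpowers (zz K) := by
        refine (closure_le _).2 ?_
        intro z hz
        obtain ⟨L, hL, rfl⟩ := h1 z hz
        rw [e.eq_zz hP hL hK]
        exact mem_zpowers _
      obtain ⟨k, hk⟩ := mem_zpowers_iff.1 (h2 hx)
      have h3 : x = zz K := by
        rcases Int.even_or_odd k with ⟨j, rfl⟩ | ⟨j, rfl⟩
        · exfalso
          apply hx1
          rw [← hk, zpow_add, ← (Commute.refl (zz K)).mul_zpow, h.zz_mul hK.1, one_zpow]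
        · rw [← hk, zpow_add, zpow_one, two_mul, zpow_add, ← (Commute.refl (zz K)).mul_zpow,
            h.zz_mul hK.1, one_zpow, one_mul]
      rw [h3]
      exact b.centralizer_le_of_mem e hP hPM hK
    · exfalso
      apply hx1
      have h2 : CloPoint.EE (QQ Om M) P ≤ ⊥ := by
        refine (closure_le _).2 ?_
        intro z hz
        obtain ⟨L, hL, -⟩ := h1 z hz
        exact absurd ⟨L, hL⟩ hO
      exact mem_bot.1 (h2 hx)
  · rintro Q ⟨hQM, K, hK, hQ⟩ g hg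
    rw [zz_of_syl h hK hQ] at hg
    refine b.mem_of_conj e hK ?_ hg
    obtain ⟨c, v, n, hc⟩ := h.exists_gq hK hQ
    exact hQM hc.z_mem

end Big

end Cfsg.Agent.Cit.EqClose
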