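import Cfsg.Agent.Cit.CloseConn
import Cfsg.Agent.Cit.CloGraph
import Cfsg.Agent.Cit.EqClose
import Cfsg.Agent.Cit.FrameOf
import Cfsg.Agent.Cit.TPieces

/-!
# Closing without the connected commuting graph (project CIT)

`Out Om S G0` : the output sentence of the type owners: `K ≤ G0` for `K ∈ Om(S)`, the members in `G0` are conjugate in
`G0`, `N(J) ≤ N(G0)` for the members `J` in `G0`.

* `Out.mem_of` : `K, K^x ≤ G0` implies `x ∈ N(G0)`;
* `Out.emb` : `Emb Om (N(G0))` (717's CLOSE);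
* `Out.centralizer_le` : `C(t) ≤ N(G0)` if a piece `D ≤ G0` of `C(t)` contains a member `K`, `delta Om K ≤ G0`;
* `Out.big` : `Big Om (N(G0))` (435's closing, all `z_K` equal).
-/

set_option autoImplicit false
set_option linter.unusedSectionVars false
set_option linter.style.haveILetI false

namespace Cfsg.Agent.Cit.CloseEmb

open Subgroup Cfsg CloGraph Cfsg.Agent.Nodes.Chart
open Cfsg.Agent.Cit.TypeDet (cm cm_iff_le_centralizer)
open Cfsg.Agent.Cit.FrameClose (delta le_delta)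

variable {G : Type*} [Group G] [Finite G] {Om : Set (Subgroup G)} {G0 : Subgroup G}

/-- the data of the closing argument -/
structure Out (Om : Set (Subgroup G)) (S : Sylow 2 G) (G0 : Subgroup G) : Prop where
  hyp : Hyp Om
  ne : Om.Nonempty
  mem : ∀ K ∈ OmS Om (S : Subgroup G), K ≤ G0
  tr : ∀ J ∈ Om, J ≤ G0 → ∀ J' ∈ Om, J' ≤ G0 → ∃ g ∈ G0, cj g J = J'
  nor : ∀ J ∈ Om, J ≤ G0 → normalizer (J : Set G) ≤ normalizer (G0 : Set G)

/-- the members in a group with a chart are conjugate -/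
theorem out_of_chart (h : Hyp Om) (hne : Om.Nonempty) (S : Sylow 2 G) {p : ℕ} (c : Chart Om p G0)
    (hmem : ∀ K ∈ OmS Om (S : Subgroup G), K ≤ G0)
    (hnor : ∀ J ∈ Om, J ≤ G0 → normalizer (J : Set G) ≤ normalizer (G0 : Set G)) : Out Om S G0 :=
  ⟨h, hne, hmem, fun _ hJ hJG _ hJ' hJG' => Nodes.ChartIrr.exists_conj c ⟨hJ, hJG⟩ ⟨hJ', hJG'⟩, hnor⟩

namespace Out

variable {S : Sylow 2 G} (o : Out Om S G0)

include o

/-- an element moving a member in `G0` into `G0` normalises `G0` -/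
theorem mem_of {K : Subgroup G} (hK : K ∈ Om) (hKG : K ≤ G0) {x : G} (hx : cj x K ≤ G0) :
    x ∈ normalizer (G0 : Set G) := by
  obtain ⟨g, hg, hgK⟩ := o.tr K hK hKG _ (o.hyp.conj K hK x) hx
  have h1 : g⁻¹ * x ∈ normalizer (K : Set G) := by
    rw [mem_normalizer_iff_cj, cj_mul, ← hgK, cj_inv_cj]
  have h2 := mul_mem (le_normalizer hg) (o.nor K hK hKG h1)
  rwa [mul_inv_cancel_left] at h2

omit o in
theorem cj_G0 {m : G} (hm : m ∈ normalizer (G0 : Set G)) : cj m G0 = G0 := mem_normalizer_iff_cj.1 hm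

theorem sylow_le : (S : Subgroup G) ≤ normalizer (G0 : Set G) := by
  obtain ⟨K, hK⟩ := o.hyp.OmS_nonempty S o.ne
  intro s hs
  exact o.mem_of hK.1 (o.mem K hK) (o.mem _ (cj_mem_OmS' o.hyp.conj (le_normalizer hs) hK))

/-- the members with a Sylow 2-subgroup in `N(G0)` are `N(G0)`-conjugate to members of `Om(S)` -/
theorem exists_cj_mem {K : Subgroup G} (hK : K ∈ OmS Om (normalizer (G0 : Set G))) :
    ∃ m ∈ normalizer (G0 : Set G), cj m K ∈ OmS Om (S : Subgroup G) := by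
  haveI : Fact (Nat.Prime 2) := ⟨Nat.prime_two⟩
  obtain ⟨M, hM⟩ : ∃ M : Subgroup G, M = normalizer (G0 : Set G) := ⟨_, rfl⟩
  have hSM : (S : Subgroup G) ≤ M := hM ▸ o.sylow_le
  rw [← hM] at hK ⊢
  obtain ⟨Q, hQ⟩ := Hyp.exists_syl (K ⊓ M)
  have hQK : Syl Q K := by
    refine ⟨hQ.1.trans inf_le_left, hQ.2.1, fun h1 => ?_⟩
    rw [← relIndex_mul_relIndex Q (K ⊓ M) K hQ.1 inf_le_left, inf_relIndex_left] at h1
    rcases (Nat.Prime.dvd_mul Nat.prime_two).1 h1 with h2 | h2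
    · exact hQ.2.2 h2
    · exact hK.2 h2
  obtain ⟨m, hm, hmQ⟩ := CloseFus.exists_le_cj_of_le S hSM hQ.2.1 (hQ.1.trans inf_le_right)
  refine ⟨m⁻¹, M.inv_mem hm, ?_⟩
  have h1 := cj_mem_OmS o.hyp.conj m⁻¹ (mem_OmS_of_le hK.1 hQK hmQ)
  rwa [cj_inv_cj] at h1

theorem le_of_mem {K : Subgroup G} (hK : K ∈ OmS Om (normalizer (G0 : Set G))) : K ≤ G0 := by
  obtain ⟨m, hm, hmK⟩ := o.exists_cj_mem hK
  have h1 := o.mem _ hmK
  rw [← cj_G0 hm] at h1
  exact cj_le_cj.1 h1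

/-- `C(z_K) ≤ N(G0)` for the members `K ≤ G0` -/
theorem centralizer_zz_le {K : Subgroup G} (hK : K ∈ Om) (hKG : K ≤ G0) :
    centralizer {zz K} ≤ normalizer (G0 : Set G) := by
  have hK' : K ∈ OmS Om (normalizer (G0 : Set G)) := by
    obtain ⟨Q, hQ⟩ := Hyp.exists_syl K
    exact mem_OmS_of_le hK hQ (hQ.1.trans (hKG.trans le_normalizer))
  intro x hx
  obtain ⟨m, hm, hmK⟩ := o.exists_cj_mem hK'
  rw [mem_centralizer_singleton_iff] at hx
  obtain ⟨y, hy⟩ : ∃ y, y = m * x * m⁻¹ := ⟨_, rfl⟩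
  have hyz : y * zz (cj m K) * y⁻¹ = zz (cj m K) := by
    rw [o.hyp.zz_cj hK, hy]
    have h1 : m * x * m⁻¹ * (m * zz K * m⁻¹) * (m * x * m⁻¹)⁻¹ = m * (x * zz K) * x⁻¹ * m⁻¹ := by group
    rw [h1, hx]; group
  have h1 : cj y (cj m K) ∈ OmS Om (S : Subgroup G) := by
    refine o.hyp.mem_OmS_of_zz_eq S hmK (o.hyp.conj _ hmK.1 y) ?_
    rw [o.hyp.zz_cj hmK.1, hyz]
  have h2 := o.mem_of hmK.1 (o.mem _ hmK) (o.mem _ h1)
  have h3 : x = m⁻¹ * y * m := by rw [hy]; group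
  rw [h3]
  exact mul_mem (mul_mem (inv_mem hm) h2) hm

/-- **`Emb`** -/
theorem emb : Emb Om (normalizer (G0 : Set G)) := by
  refine ⟨o.hyp, ?_, ?_, ?_⟩
  · obtain ⟨K, hK⟩ := o.hyp.OmS_nonempty S o.ne
    exact ⟨K, OmS_mono o.sylow_le hK⟩
  · intro K hK
    exact o.centralizer_zz_le hK.1 (o.le_of_mem hK)
  · intro K hK g hg
    exact o.mem_of hK.1 (o.le_of_mem hK) (o.le_of_mem hg)

/-- `C(t) ≤ N(G0)` if `G0` contains a piece of `C(t)` with a member `K`, and `delta Om K` -/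
theorem centralizer_le {t : G} {D : Subgroup G} (hP : FrameOf.Piece Om t D) (hD : D ≤ G0) {K : Subgroup G}
    (hK : K ∈ Om) (hKD : K ≤ D) (hΔ : delta Om K ≤ G0) : centralizer {t} ≤ normalizer (G0 : Set G) := by
  intro g hg
  refine o.mem_of hK (hKD.trans hD) ?_
  rcases hP.norm g (mem_centralizer_singleton_iff.1 hg) with h1 | h1
  · calc cj g K ≤ cj g D := cj_mono g hKD
      _ = D := h1
      _ ≤ G0 := hD
  · have h2 : ∀ a ∈ cj g K, ∀ b ∈ K, a * b = b * a := fun a ha b hb =>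
      (h1 b (hKD hb) a (cj_mono g hKD ha)).symm
    have hne : cj g K ≠ K := by
      intro e
      rw [e] at h2
      exact o.hyp.not_le_centralizer_self hK fun x hx => mem_centralizer_iff.2 fun y hy => h2 y hy x hx
    exact (le_delta (o.hyp.conj K hK g) hne h2).trans hΔ

/-- **`Big`** from the centralisers of the involutions of `D(S)` -/
theorem big (hf : ∀ f ∈ DD Om (S : Subgroup G), f * f = 1 → f ≠ 1 → centralizer {f} ≤ normalizer (G0 : Set G)) :
    EqClose.Big Om (normalizer (G0 : Set G)) := by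
  haveI : Fact (Nat.Prime 2) := ⟨Nat.prime_two⟩
  refine ⟨⟨S, o.sylow_le⟩, fun T hT f hfT hff hf1 x hx => ?_⟩
  obtain ⟨m, hm, hmT⟩ := CloseFus.exists_le_cj_of_le S o.sylow_le T.isPGroup' hT
  have h1 : cj m (S : Subgroup G) = T := T.is_maximal' (isPGroup_cj S.isPGroup') hmT
  have h2 : m⁻¹ * f * m ∈ DD Om (S : Subgroup G) := by
    have h3 : DD Om (T : Subgroup G) = cj m (DD Om (S : Subgroup G)) := by
      rw [cj_DD o.hyp.conj m, h1]
    rw [h3, mem_cj] at hfT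
    exact hfT
  have h4 : (m⁻¹ * f * m) * (m⁻¹ * f * m) = 1 := by
    have : (m⁻¹ * f * m) * (m⁻¹ * f * m) = m⁻¹ * (f * f) * m := by group
    rw [this, hff]; group
  have h5 : m⁻¹ * f * m ≠ 1 := by
    intro h6
    apply hf1
    have : f = m * (m⁻¹ * f * m) * m⁻¹ := by group
    rw [this, h6]; group
  have h6 : m⁻¹ * x * m ∈ centralizer {m⁻¹ * f * m} := by
    rw [mem_centralizer_singleton_iff] at hx ⊢
    have : m⁻¹ * x * m * (m⁻¹ * f * m) = m⁻¹ * (x * f) * m := by group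
    rw [this, hx]; group
  have h7 := hf _ h2 h4 h5 h6
  have h8 : x = m * (m⁻¹ * x * m) * m⁻¹ := by group
  rw [h8]
  exact mul_mem (mul_mem hm h7) (inv_mem hm)

end Out

end Cfsg.Agent.Cit.CloseEmb
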