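import Cfsg.Agent.Cit.RdOm
import Cfsg.Agent.Cit.TPieces

/-!
# Using THEOREM T for a proper subgroup `H`

`HQ H = H / O(H)`, `qm H : H → HQ H`, `fam Om H` = the images in `H / O(H)` of the reductions `rd (K ⊓ H)` of the members
`K` of `Om` covered by `H` (`K = (K ⊓ H) O(K)`, `SubCent.cov Om H`), `tr H K` = the image of `rd (K ⊓ H)`.

* `fam_hasPieces` : T for smaller groups and `H < G` give `HasPieces (fam Om H)`; `hyp_fam`, `ty_fam`.
* `tr_mem`, `exists_tr`, `zz_tr`, `tr_cj`, `tr_eq_iff` (`tr K = tr L` iff `K`, `L` are conjugate under `O(H)`),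
  `comm_tr`/`tr_ne` (members of `Om(S)`, `S ≤ H`, have commuting and different traces), `exists_adj` (the converse),
  `mem_tr` (2-elements of `K ⊓ H` are in `tr H K`).
* `mem_cov_cent` : for a 2-element `b`, `K ∈ cov Om C(b)` iff `[K, b] ≤ O(K)`.
-/

set_option autoImplicit false
set_option linter.dupNamespace false
set_option linter.style.haveILetI false
set_option linter.unusedSectionVars false

namespace Cfsg.Agent.Cit.UseT

open Subgroup Cfsg Cfsg.Agent.Cit SubCent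

universe u

section

variable {G : Type*} [Group G] {Om : Set (Subgroup G)}

/-- `H / O(H)` -/
abbrev HQ (H : Subgroup G) : Type _ := ↥H ⧸ pPrimeCore 2 ↥H

instance normal_core (H : Subgroup G) : (pPrimeCore 2 ↥H).Normal := Lib.Cores.pPrimeCore_normal 2

/-- `H → H / O(H)` -/
def qm (H : Subgroup G) : ↥H →* HQ H := QuotientGroup.mk' (pPrimeCore 2 ↥H)

theorem qm_surjective (H : Subgroup G) : Function.Surjective (qm H) := QuotientGroup.mk'_surjective _

theorem ker_qm (H : Subgroup G) : (qm H).ker = pPrimeCore 2 ↥H := QuotientGroup.ker_mk' _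

/-- the traces of the members of `Om` in `H / O(H)` -/
def fam (Om : Set (Subgroup G)) (H : Subgroup G) : Set (Subgroup (HQ H)) :=
  img (qm H) (rd '' OmIn Om H)

/-- the trace of `K` in `H / O(H)` -/
noncomputable def tr (H K : Subgroup G) : Subgroup (HQ H) := (rd (K.subgroupOf H)).map (qm H)

variable {H K L : Subgroup G}

theorem tr_mem (hK : K ∈ cov Om H) : tr H K ∈ fam Om H :=
  ⟨_, ⟨_, RdOm.mem_OmIn hK, rfl⟩, rfl⟩

theorem exists_tr {J : Subgroup (HQ H)} (hJ : J ∈ fam Om H) : ∃ K ∈ cov Om H, tr H K = J := by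
  obtain ⟨_, ⟨J', hJ', rfl⟩, rfl⟩ := hJ
  rw [RdOm.OmIn_eq] at hJ'
  obtain ⟨K, hK, rfl⟩ := hJ'
  exact ⟨K, hK, rfl⟩

variable [Finite G]

theorem not_dvd_ker (H : Subgroup G) : ¬ 2 ∣ Nat.card (qm H).ker := by
  rw [ker_qm]; exact not_two_dvd_oddCore ↥H

theorem isRd (h : ∀ K ∈ Om, IsType K) (H : Subgroup G) : RdOm.IsRd (OmIn Om H) rd :=
  RdOm.isRd_rd (RdOm.isType_OmIn h H)

theorem hyp_fam (hOm : Hyp Om) (h : ∀ K ∈ Om, IsType K) (H : Subgroup G) : Hyp (fam Om H) :=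
  (RdOm.hyp_rd (RdOm.hyp_OmIn hOm H) (RdOm.isType_OmIn h H)).img (qm_surjective H) (not_dvd_ker H)

theorem ty_fam (h : ∀ K ∈ Om, IsType K) (H : Subgroup G) : ∀ K ∈ fam Om H, Ty K :=
  Ty.img (RdOm.ty_rd (RdOm.isType_OmIn h H)) (qm H) (not_dvd_ker H)

theorem uni_fam (h : ∀ K ∈ Om, IsType K) (hU : Uni Om) (H : Subgroup G) : Uni (fam Om H) :=
  (RdOm.uni_rd (RdOm.isType_OmIn h H) (RdOm.uni_OmIn hU H)).img_odd (not_dvd_ker H)

theorem isType_fam (h : ∀ K ∈ Om, IsType K) (H : Subgroup G) : ∀ K ∈ fam Om H, IsType K :=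
  fun K hK => (ty_fam h H K hK).isType

theorem zz_tr (hOm : Hyp Om) (h : ∀ K ∈ Om, IsType K) (hK : K ∈ cov Om H) :
    zz (tr H K) = qm H ⟨zz K, zz_mem_of_cov hOm hK⟩ := by
  have h1 := RdOm.hyp_rd (RdOm.hyp_OmIn hOm H) (RdOm.isType_OmIn h H)
  have h2 := zz_map' h1 (not_dvd_ker H) (K := rd (K.subgroupOf H)) ⟨_, RdOm.mem_OmIn hK, rfl⟩
  rw [tr, h2, RdOm.zz_rd (RdOm.hyp_OmIn hOm H) (RdOm.isType_OmIn h H) (RdOm.mem_OmIn hK)]
  congr 1
  apply Subtype.ext
  exact zz_subgroupOf hOm hK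

omit [Finite G] in
theorem cj_subgroupOf (g : H) (K : Subgroup G) : (cj (g : G) K).subgroupOf H = cj g (K.subgroupOf H) := by
  ext x
  rw [mem_subgroupOf, mem_cj, mem_cj, mem_subgroupOf]
  rfl

theorem tr_cj (h : ∀ K ∈ Om, IsType K) (g : H) (hK : K ∈ cov Om H) :
    tr H (cj (g : G) K) = cj (qm H g) (tr H K) := by
  rw [tr, tr, cj_subgroupOf, (isRd h H).cj _ (RdOm.mem_OmIn hK), cj_map]

theorem tr_le (h : ∀ K ∈ Om, IsType K) (hK : K ∈ cov Om H) : tr H K ≤ (K.subgroupOf H).map (qm H) :=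
  Subgroup.map_mono ((isRd h H).le _ (RdOm.mem_OmIn hK))

/-- 2-elements of `K ⊓ H` are in the trace -/
theorem mem_tr (h : ∀ K ∈ Om, IsType K) (hK : K ∈ cov Om H) {x : H} (hx : (x : G) ∈ K) {a : ℕ}
    (ha : x ^ 2 ^ a = 1) : qm H x ∈ tr H K := by
  refine ⟨x, ?_, rfl⟩
  have hr := isRd h H
  have hm := RdOm.mem_OmIn hK
  -- `rd` is normal of odd index
  have hn : (K.subgroupOf H) ≤ normalizer (rd (K.subgroupOf H) : Set H) :=
    le_normalizer.trans (hr.normalizer_le hm)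
  have hle := hr.le _ hm
  have hodd := not_dvd_relIndex (hr.mem_cov hm)
  have hx' : x ∈ K.subgroupOf H := hx
  set N := (rd (K.subgroupOf H)).subgroupOf (K.subgroupOf H) with hN
  haveI : N.Normal := (normal_subgroupOf_iff_le_normalizer hle).2 hn
  have h1 : ((⟨x, hx'⟩ : K.subgroupOf H) : ↥(K.subgroupOf H) ⧸ N) ^ 2 ^ a = 1 := by
    rw [← QuotientGroup.mk_pow]
    have : (⟨x, hx'⟩ : K.subgroupOf H) ^ 2 ^ a = 1 := Subtype.ext (by simpa using ha)
    rw [this]; rfl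
  have h2 : orderOf ((⟨x, hx'⟩ : K.subgroupOf H) : ↥(K.subgroupOf H) ⧸ N) ∣ 2 ^ a :=
    orderOf_dvd_of_pow_eq_one h1
  have h3 : orderOf ((⟨x, hx'⟩ : K.subgroupOf H) : ↥(K.subgroupOf H) ⧸ N) ∣ N.index :=
    orderOf_dvd_natCard _
  have h4 : (2 ^ a).Coprime N.index :=
    Nat.Coprime.pow_left a ((Nat.Prime.coprime_iff_not_dvd Nat.prime_two).2 hodd)
  have h5 : orderOf ((⟨x, hx'⟩ : K.subgroupOf H) : ↥(K.subgroupOf H) ⧸ N) ∣ 1 := by
    rw [← h4]; exact Nat.dvd_gcd h2 h3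
  rw [Nat.dvd_one, orderOf_eq_one_iff, QuotientGroup.eq_one_iff] at h5
  exact h5

/-- a Sylow 2-subgroup of `K` contained in `H` maps to one of the trace -/
theorem syl_tr (h : ∀ K ∈ Om, IsType K) (hK : K ∈ cov Om H) {Q : Subgroup G} (hQ : Syl Q K) (hQH : Q ≤ H) :
    Syl ((Q.subgroupOf H).map (qm H)) (tr H K) := by
  have hr := isRd h H
  have hm := RdOm.mem_OmIn hK
  refine ⟨?_, (hQ.2.1.comap_subtype).map _, ?_⟩
  · rintro _ ⟨x, hx, rfl⟩
    obtain ⟨a, ha⟩ := hQ.2.1 ⟨x, hx⟩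
    exact mem_tr h hK (hQ.1 hx) (a := a) (Subtype.ext (by simpa using congrArg Subtype.val ha))
  · intro h2
    have h3 : Syl (Q.subgroupOf H) (K.subgroupOf H) := by
      refine ⟨fun x hx => hQ.1 hx, hQ.2.1.comap_subtype, ?_⟩
      have h4 : (Q.subgroupOf H).relIndex (K.subgroupOf H) = Q.relIndex (K ⊓ H) := by
        rw [← relIndex_map_map_of_injective _ _ H.subtype_injective, subgroupOf_map_subtype,
          subgroupOf_map_subtype, inf_of_le_left hQH]
      rw [h4]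
      exact (syl_inf_of_syl hQ hQH).2.2
    have h5 := (h3.map (f := qm H)).2.2
    refine h5 (h2.trans ?_)
    rw [← relIndex_mul_relIndex ((Q.subgroupOf H).map (qm H)) (tr H K) ((K.subgroupOf H).map (qm H)) ?_
      (tr_le h hK)]
    · exact dvd_mul_right _ _
    · rintro _ ⟨x, hx, rfl⟩
      obtain ⟨a, ha⟩ := hQ.2.1 ⟨x, hx⟩
      exact mem_tr h hK (hQ.1 hx) (a := a) (Subtype.ext (by simpa using congrArg Subtype.val ha))

theorem mem_OmS_fam (h : ∀ K ∈ Om, IsType K) (hK : K ∈ cov Om H) {S : Subgroup G} (hSH : S ≤ H)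
    (hS : IsPGroup 2 S) (hKS : K ∈ OmS Om S) : tr H K ∈ OmS (fam Om H) ((S.subgroupOf H).map (qm H)) := by
  refine mem_OmS_of_le (tr_mem hK) (syl_tr h hK (syl_inf hS hKS) (inf_le_right.trans hSH)) ?_
  exact Subgroup.map_mono fun x hx => hx.2

/-- the commutator group of a member is not in its core -/
theorem not_commutator_le {X : Type*} [Group X] [Finite X] {Om : Set (Subgroup X)} (h : Hyp Om)
    {K : Subgroup X} (hK : K ∈ Om) : ¬ ⁅K, K⁆ ≤ OO K := by
  intro h1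
  obtain ⟨Q, hQ⟩ := Hyp.exists_syl K
  obtain ⟨c, v, n, hq⟩ := h.exists_gq hK hQ
  have h2 := h1 (commutator_mem_commutator (hQ.1 hq.c_mem) (hQ.1 hq.v_mem))
  rw [commutatorElement_def] at h2
  have h3 : c * v * c⁻¹ * v⁻¹ ∈ Q :=
    Q.mul_mem (Q.mul_mem (Q.mul_mem hq.c_mem hq.v_mem) (Q.inv_mem hq.c_mem)) (Q.inv_mem hq.v_mem)
  obtain ⟨k, hk⟩ := hQ.2.1 ⟨_, h3⟩
  have h4 := eq_one_of_odd (odd_OO K) h2 (a := k) (congrArg Subtype.val hk)
  rw [mul_inv_eq_one, mul_inv_eq_iff_eq_mul] at h4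
  exact hq.not_comm h4.symm

omit [Finite G] in
theorem cj_mem_cov' (hOm : Hyp Om) (hK : K ∈ cov Om H) {x : G} (hx : x ∈ H) : cj x K ∈ cov Om H :=
  cj_mem_cov_of_mem hOm.conj (le_normalizer hx) hK

/-- the traces of `K` and `L` coincide iff `K` and `L` are conjugate under `O(H)` -/
theorem tr_eq_iff (hOm : Hyp Om) (h : ∀ K ∈ Om, IsType K) (hK : K ∈ cov Om H) (hL : L ∈ cov Om H) :
    tr H K = tr H L ↔ ∃ x ∈ pPrimeCore 2 ↥H, cj (x : G) K = L := by
  constructor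
  · intro he
    have hz : qm H ⟨zz K, zz_mem_of_cov hOm hK⟩ = qm H ⟨zz L, zz_mem_of_cov hOm hL⟩ := by
      rw [← zz_tr hOm h hK, ← zz_tr hOm h hL, he]
    obtain ⟨n, hn, hn2⟩ := exists_ker_conj (not_dvd_ker H)
      (z := ⟨zz K, zz_mem_of_cov hOm hK⟩) (t := ⟨zz L, zz_mem_of_cov hOm hL⟩)
      (Subtype.ext (hOm.zz_mul hK.1)) (Subtype.ext (hOm.zz_mul hL.1)) hz
    rw [ker_qm] at hn
    refine ⟨n, hn, ?_⟩
    have hK' : cj (n : G) K ∈ cov Om H := cj_mem_cov' hOm hK n.2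
    have hzz : zz (cj (n : G) K) = zz L := by
      rw [hOm.zz_cj hK.1]; exact congrArg Subtype.val hn2
    have hqn : qm H n = 1 := by
      have : n ∈ (qm H).ker := by rw [ker_qm]; exact hn
      exact this
    have he' : tr H (cj (n : G) K) = tr H L := by
      rw [tr_cj h n hK, hqn, cj_one, he]
    -- (H2) for the reductions
    have hr := isRd h H
    have hH := RdOm.hyp_rd (RdOm.hyp_OmIn hOm H) (RdOm.isType_OmIn h H)
    have hzr : zz (rd ((cj (n : G) K).subgroupOf H)) = zz (rd (L.subgroupOf H)) := by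
      rw [hr.zz_eq (RdOm.hyp_OmIn hOm H) (RdOm.mem_OmIn hK'),
        hr.zz_eq (RdOm.hyp_OmIn hOm H) (RdOm.mem_OmIn hL)]
      apply Subtype.ext
      rw [zz_subgroupOf hOm hK', zz_subgroupOf hOm hL, hzz]
    rcases hH.h2 _ ⟨_, RdOm.mem_OmIn hK', rfl⟩ _ ⟨_, RdOm.mem_OmIn hL, rfl⟩ hzr with h1 | h1
    · exact injOn hOm hK' hL
        (hr.injOn (RdOm.hyp_OmIn hOm H) (RdOm.mem_OmIn hK') (RdOm.mem_OmIn hL) h1)
    · exfalso
      refine not_commutator_le (hyp_fam hOm h H) (tr_mem hL) ?_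
      have h2 : ⁅tr H L, tr H L⁆ = ⁅tr H (cj (n : G) K), tr H L⁆ := by rw [he']
      rw [h2, tr, tr, ← map_commutator]
      exact (Subgroup.map_mono (h1.trans inf_le_right)).trans (map_OO_le _ _)
  · rintro ⟨x, hx, rfl⟩
    have hqn : qm H x = 1 := by
      have : x ∈ (qm H).ker := by rw [ker_qm]; exact hx
      exact this
    rw [tr_cj h x hK, hqn, cj_one]

/-! ### Adjacent members -/

/-- if all cores are trivial, two different members of `Om(S)` commute -/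
theorem comm_of_core {X : Type*} [Group X] [Finite X] {Om : Set (Subgroup X)} (h : Hyp Om)
    (hc : ∀ K ∈ Om, OO K = ⊥) {S K L : Subgroup X} (hS : IsPGroup 2 S) (hK : K ∈ OmS Om S)
    (hL : L ∈ OmS Om S) (hne : K ≠ L) : K ≤ centralizer (L : Set X) := by
  have key : ∀ {K L : Subgroup X}, K ∈ OmS Om S → L ∈ OmS Om S → K ≠ L → K ≤ centralizer {zz L} := by
    intro K L hK hL hne k hk
    obtain ⟨o, ho, h1⟩ := (PairComm.mem_cov h hS hK hL hne).2 k hk
    rw [hc K hK.1, mem_bot] at ho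
    rwa [ho, mul_one] at h1
  have h1 := PairComm.commutator_inf_le h hS hK hL hne
  rw [inf_eq_left.2 (key hK hL hne), inf_eq_left.2 (key hL hK (Ne.symm hne)), hc K hK.1, bot_inf_eq,
    le_bot_iff, commutator_eq_bot_iff_le_centralizer] at h1
  exact h1

/-- traces of different members of `Om(S)` are different -/
theorem tr_ne (hOm : Hyp Om) (h : ∀ K ∈ Om, IsType K) (hK : K ∈ cov Om H) (hL : L ∈ cov Om H)
    {S : Subgroup G} (hS : IsPGroup 2 S) (hSH : S ≤ H) (hKS : K ∈ OmS Om S) (hLS : L ∈ OmS Om S)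
    (hne : K ≠ L) : tr H K ≠ tr H L := by
  intro he
  have hQK := syl_tr h hK (syl_inf hS hKS) (inf_le_right.trans hSH)
  have hQL := syl_tr h hL (syl_inf hS hLS) (inf_le_right.trans hSH)
  rw [← he] at hQL
  -- both are contained in the 2-group `S` modulo `O(H)`
  set S' := (S.subgroupOf H).map (qm H) with hS'
  have hS2 : IsPGroup 2 S' := hS.comap_subtype.map _
  have e1 : ((K ⊓ S).subgroupOf H).map (qm H) = tr H K ⊓ S' := by
    refine hQK.eq_of_le (le_inf hQK.1 (Subgroup.map_mono fun x hx => hx.2)) inf_le_left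
      (hS2.to_le inf_le_right)
  have e2 : ((L ⊓ S).subgroupOf H).map (qm H) = tr H K ⊓ S' := by
    refine hQL.eq_of_le (le_inf hQL.1 (Subgroup.map_mono fun x hx => hx.2)) inf_le_left
      (hS2.to_le inf_le_right)
  obtain ⟨c, v, n, hq⟩ := (hyp_fam hOm h H).exists_gq (tr_mem hK) hQK
  have hv := hq.v_mem
  rw [e1, ← e2] at hv
  obtain ⟨c', hc', hcc⟩ := hq.c_mem
  obtain ⟨v', hv', hvv⟩ := hv
  refine hq.not_comm ?_
  rw [← hcc, ← hvv, ← map_mul, ← map_mul]
  congr 1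
  apply Subtype.ext
  exact (hOm.comm hS hKS hLS hne hc' hv').symm

/-- traces of different members of `Om(S)`, `S ≤ H`, commute -/
theorem comm_tr (hOm : Hyp Om) (h : ∀ K ∈ Om, IsType K) (hc : ∀ J ∈ fam Om H, OO J = ⊥)
    (hK : K ∈ cov Om H) (hL : L ∈ cov Om H) {S : Subgroup G} (hS : IsPGroup 2 S) (hSH : S ≤ H)
    (hKS : K ∈ OmS Om S) (hLS : L ∈ OmS Om S) (hne : K ≠ L) :
    tr H K ≤ centralizer (tr H L : Set (HQ H)) :=
  comm_of_core (hyp_fam hOm h H) hc (hS.comap_subtype.map (qm H)) (mem_OmS_fam h hK hSH hS hKS)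
    (mem_OmS_fam h hL hSH hS hLS) (tr_ne hOm h hK hL hS hSH hKS hLS hne)

/-- 2-subgroups lift through epimorphisms with odd kernel -/
theorem exists_lift {X Y : Type*} [Group X] [Finite X] [Group Y] {f : X →* Y} (hf : Function.Surjective f)
    {S : Subgroup Y} (hS : IsPGroup 2 S) : ∃ T : Subgroup X, IsPGroup 2 T ∧ T.map f = S := by
  haveI : Fact (Nat.Prime 2) := ⟨Nat.prime_two⟩
  haveI : Finite Y := Finite.of_surjective f hf
  obtain ⟨P⟩ : Nonempty (Sylow 2 (S.comap f)) := inferInstance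
  refine ⟨(P : Subgroup _).map (S.comap f).subtype, P.isPGroup'.map _, ?_⟩
  have h1 : Syl ((P : Subgroup _).map (S.comap f).subtype) (S.comap f) := by
    refine ⟨map_subtype_le _, P.isPGroup'.map _, ?_⟩
    have h1 : ((P : Subgroup (S.comap f)).map (S.comap f).subtype).subgroupOf (S.comap f) = P := by
      rw [subgroupOf, comap_map_eq_self_of_injective (S.comap f).subtype_injective]
    rw [relIndex, h1]
    exact P.not_dvd_index
  have h2 := h1.map (f := f)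
  rw [map_comap_eq_self_of_surjective hf] at h2
  exact h2.eq_of_le h2.1 le_rfl hS

/-- if the traces of `K` and `L` commute then, up to conjugation in `O(H)`, `K` and `L` are in some `Om(S)`,
`S ≤ H` -/
theorem exists_adj (hOm : Hyp Om) (h : ∀ K ∈ Om, IsType K) (hK : K ∈ cov Om H) (hL : L ∈ cov Om H)
    (hc : tr H K ≤ centralizer (tr H L : Set (HQ H))) :
    ∃ x ∈ pPrimeCore 2 ↥H, ∃ S : Subgroup G, IsPGroup 2 S ∧ S ≤ H ∧ cj (x : G) K ∈ OmS Om S ∧
      L ∈ OmS Om S ∧ cj (x : G) K ≠ L := by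
  haveI : Fact (Nat.Prime 2) := ⟨Nat.prime_two⟩
  obtain ⟨Q, hQ⟩ := Hyp.exists_syl (tr H K)
  obtain ⟨R, hR⟩ := Hyp.exists_syl (tr H L)
  have hQR : Q ≤ normalizer (R : Set (HQ H)) := by
    refine (hQ.1.trans hc).trans ((centralizer_le (s := (R : Set (HQ H))) (t := (tr H L : Set (HQ H)))
      hR.1).trans (centralizer_le_normalizer _))
  have h2 : IsPGroup 2 (Q ⊔ R : Subgroup (HQ H)) := hQ.2.1.to_sup_of_normal_right' hR.2.1 hQR
  obtain ⟨T, hT, hTm⟩ := exists_lift (qm_surjective H) h2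
  have hH := RdOm.hyp_rd (RdOm.hyp_OmIn hOm H) (RdOm.isType_OmIn h H)
  have hset := OmS_img hH (not_dvd_ker H) hT
  rw [hTm] at hset
  have hr := isRd h H
  -- members over the traces
  have key : ∀ {M : Subgroup G} {P : Subgroup (HQ H)}, M ∈ cov Om H → Syl P (tr H M) → P ≤ Q ⊔ R →
      ∃ y ∈ pPrimeCore 2 ↥H, cj (y : G) M ∈ OmS Om (T.map H.subtype) := by
    intro M P hM hP hPle
    have h3 : tr H M ∈ OmS (img (qm H) (rd '' OmIn Om H)) (Q ⊔ R) := mem_OmS_of_le (tr_mem hM) hP hPle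
    rw [hset] at h3
    obtain ⟨J, ⟨⟨J', hJ', rfl⟩, hJ2⟩, hJm⟩ := h3
    rw [RdOm.OmIn_eq] at hJ'
    obtain ⟨M', hM', rfl⟩ := hJ'
    obtain ⟨y, hy, hyM⟩ := (tr_eq_iff hOm h hM hM').1 hJm.symm
    refine ⟨y, hy, ?_⟩
    rw [hyM]
    refine ⟨hM'.1, fun h4 => ?_⟩
    -- `|M' : M' ⊓ T|` is odd
    have hJ3 : ¬ 2 ∣ T.relIndex (M'.subgroupOf H) := by
      intro h5
      have hle := hr.le _ (RdOm.mem_OmIn hM')
      have h6 : T.relIndex (M'.subgroupOf H) ∣
          T.relIndex (rd (M'.subgroupOf H)) * (rd (M'.subgroupOf H)).relIndex (M'.subgroupOf H) := by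
        rw [← inf_relIndex_right T (M'.subgroupOf H), ← inf_relIndex_right T (rd (M'.subgroupOf H)),
          relIndex_mul_relIndex _ _ _ inf_le_right hle]
        exact relIndex_dvd_of_le_left _ (inf_le_inf_left _ hle)
      rcases (Nat.Prime.dvd_mul Nat.prime_two).1 (h5.trans h6) with h7 | h7
      · exact hJ2 h7
      · exact not_dvd_relIndex (hr.mem_cov (RdOm.mem_OmIn hM')) h7
    have h7 : (T.map H.subtype).relIndex M' ∣
        (T.map H.subtype).relIndex (M' ⊓ H) * (M' ⊓ H).relIndex M' := by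
      rw [← inf_relIndex_right (T.map H.subtype) M', ← inf_relIndex_right (T.map H.subtype) (M' ⊓ H),
        relIndex_mul_relIndex _ _ _ inf_le_right inf_le_left]
      exact relIndex_dvd_of_le_left _ (inf_le_inf_left _ inf_le_left)
    rcases (Nat.Prime.dvd_mul Nat.prime_two).1 (h4.trans h7) with h8 | h8
    · apply hJ3
      rw [← subgroupOf_map_subtype, relIndex_map_map_of_injective _ _ H.subtype_injective] at h8
      exact h8
    · rw [inf_relIndex_left] at h8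
      exact not_dvd_relIndex hM' h8
  obtain ⟨x, hx, hxK⟩ := key hK hQ le_sup_left
  obtain ⟨y, hy, hyL⟩ := key hL hR le_sup_right
  refine ⟨y⁻¹ * x, mul_mem (inv_mem hy) hx, cj ((y⁻¹ : H) : G) (T.map H.subtype),
    isPGroup_cj (hT.map _), ?_, ?_, ?_, ?_⟩
  · have h3 : cj ((y⁻¹ : H) : G) H = H := mem_normalizer_iff_cj.1 (le_normalizer (y⁻¹ : H).2)
    conv_rhs => rw [← h3]
    exact cj_mono _ (map_subtype_le T)
  · have h3 := cj_mem_OmS hOm.conj ((y⁻¹ : H) : G) hxK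
    rw [← cj_mul] at h3
    exact h3
  · have h3 := cj_mem_OmS hOm.conj ((y⁻¹ : H) : G) hyL
    rw [← cj_mul] at h3
    have h4 : ((y⁻¹ : H) : G) * (y : G) = 1 := by rw [coe_inv, inv_mul_cancel]
    rwa [h4, cj_one] at h3
  · intro he
    have h3 : tr H K = tr H L := (tr_eq_iff hOm h hK hL).2 ⟨_, mul_mem (inv_mem hy) hx, he⟩
    rw [h3] at hc
    refine not_commutator_le (hyp_fam hOm h H) (tr_mem hL) ?_
    rw [← commutator_eq_bot_iff_le_centralizer] at hc
    rw [hc]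
    exact bot_le

/-- for a 2-element `b` -/
theorem mem_cov_cent (hOm : Hyp Om) {b : G} {a : ℕ} (hb : b ^ 2 ^ a = 1) :
    K ∈ cov Om (centralizer {b}) ↔ K ∈ Om ∧ ∀ k ∈ K, k * b * k⁻¹ * b⁻¹ ∈ OO K := by
  have hA : IsPGroup 2 (zpowers b) := by
    rintro ⟨_, i, rfl⟩
    refine ⟨a, Subtype.ext ?_⟩
    change (b ^ i) ^ 2 ^ a = 1
    rw [← zpow_natCast, ← zpow_mul, mul_comm, zpow_mul, zpow_natCast, hb, one_zpow]
  rw [← PairComm.centralizer_zpowers, mem_cov_centralizer hOm hA]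
  constructor
  · rintro ⟨h1, h2⟩
    refine ⟨h1, fun k hk => ?_⟩
    have := h2 (commutator_mem_commutator hk (mem_zpowers b))
    rwa [commutatorElement_def] at this
  · rintro ⟨h1, h2⟩
    refine ⟨h1, ?_⟩
    -- the elements acting trivially on `K / O(K)`
    have hbK : b ∈ normalizer (K : Set G) := by
      have h3 : ∀ k ∈ K, b * k * b⁻¹ ∈ K := by
        intro k hk
        have h4 := K.mul_mem hk (OO_le K (h2 _ (K.inv_mem hk)))
        have h5 : k * (k⁻¹ * b * k⁻¹⁻¹ * b⁻¹) = b * k * b⁻¹ := by group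
        rwa [h5] at h4
      rw [mem_normalizer_iff_cj]
      refine eq_of_le_of_card_ge ?_ (by rw [card_cj])
      rintro _ ⟨k, hk, rfl⟩
      exact h3 k hk
    have hbO : b ∈ normalizer (OO K : Set G) := by
      rw [mem_normalizer_iff_cj] at hbK ⊢
      rw [← OO_cj, hbK]
    let E : Subgroup G :=
      { carrier := {x | x ∈ normalizer (OO K : Set G) ∧ ∀ k ∈ K, k * x * k⁻¹ * x⁻¹ ∈ OO K}
        one_mem' := ⟨one_mem _, fun k hk => by simp⟩
        mul_mem' := by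
          rintro x y ⟨hx1, hx2⟩ ⟨hy1, hy2⟩
          refine ⟨mul_mem hx1 hy1, fun k hk => ?_⟩
          have e : k * (x * y) * k⁻¹ * (x * y)⁻¹ =
              (k * x * k⁻¹ * x⁻¹) * (x * (k * y * k⁻¹ * y⁻¹) * x⁻¹) := by group
          rw [e]
          exact mul_mem (hx2 k hk) ((mem_normalizer_iff.1 hx1 _).1 (hy2 k hk))
        inv_mem' := by
          rintro x ⟨hx1, hx2⟩
          refine ⟨inv_mem hx1, fun k hk => ?_⟩
          have e : k * x⁻¹ * k⁻¹ * x⁻¹⁻¹ = x⁻¹ * (k * x * k⁻¹ * x⁻¹)⁻¹ * x⁻¹⁻¹ := by group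
          rw [e]
          exact (mem_normalizer_iff.1 (inv_mem hx1) _).1 (inv_mem (hx2 k hk)) }
    have hbE : b ∈ E := ⟨hbO, h2⟩
    rw [Subgroup.commutator_le]
    intro k hk x hx
    rw [commutatorElement_def]
    have hxE : x ∈ E := (zpowers_le.2 hbE) hx
    exact hxE.2 k hk

end

/-! ### `MinG`, `MinS` -/

section

variable {G : Type u} [Group G] [Finite G] {Om : Set (Subgroup G)}

/-- **T for a proper subgroup `H`** -/
theorem fam_hasPieces (h : ∀ K ∈ Om, IsType K) (hOm : Hyp Om) (hU : Uni Om) (ind : TLt.{u} (Nat.card G))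
    {H : Subgroup G} (hH : H ≠ ⊤) : HasPieces (fam Om H) := RdOm.tt_of_lt hOm h hU ind hH

theorem _root_.Cfsg.Agent.Cit.MinG.isType {L : Subgroup G} (h : MinG Om L) : ∀ K ∈ Om, IsType K :=
  fun K hK => (h.ty K hK).isType

theorem _root_.Cfsg.Agent.Cit.MinS.isType (h : MinS Om) : ∀ K ∈ Om, IsType K :=
  fun K hK => (h.ty K hK).isType

theorem _root_.Cfsg.Agent.Cit.MinG.fam_hasPieces {L : Subgroup G} (h : MinG Om L) {H : Subgroup G}
    (hH : H ≠ ⊤) : HasPieces (fam Om H) := UseT.fam_hasPieces h.isType h.hyp h.uni h.ind hH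

theorem _root_.Cfsg.Agent.Cit.MinS.fam_hasPieces (h : MinS Om) {H : Subgroup G}
    (hH : H ≠ ⊤) : HasPieces (fam Om H) := UseT.fam_hasPieces h.isType h.hyp h.uni h.ind hH

/-- the centre is trivial -/
theorem _root_.Cfsg.Agent.Cit.MinG.centralizer_ne_top {L : Subgroup G} (h : MinG Om L) {b : G} (hb : b ≠ 1) :
    centralizer {b} ≠ ⊤ := by
  intro h1
  apply hb
  have h2 : b ∈ centralizer (L : Set G) := by
    rw [mem_centralizer_iff]
    intro x _
    have h3 : x ∈ centralizer {b} := by rw [h1]; trivial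
    exact mem_centralizer_singleton_iff.1 h3
  rwa [h.cent, mem_bot] at h2

theorem _root_.Cfsg.Agent.Cit.MinS.center_eq_bot (h : MinS Om) : center G = ⊥ := by
  haveI := h.simple
  rcases IsSimpleGroup.eq_bot_or_eq_top_of_normal (center G) inferInstance with h1 | h1
  · exact h1
  · exfalso
    obtain ⟨K, hK⟩ := h.ne
    obtain ⟨Q, hQ⟩ := Hyp.exists_syl K
    obtain ⟨c, v, n, hq⟩ := h.hyp.exists_gq hK hQ
    have h2 : c ∈ center G := by rw [h1]; trivial
    exact hq.not_comm (mem_center_iff.1 h2 v)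

theorem _root_.Cfsg.Agent.Cit.MinS.centralizer_ne_top (h : MinS Om) {b : G} (hb : b ≠ 1) :
    centralizer {b} ≠ ⊤ := by
  intro h1
  apply hb
  have h2 : b ∈ center G := by
    rw [mem_center_iff]
    intro x
    have h3 : x ∈ centralizer {b} := by rw [h1]; trivial
    exact mem_centralizer_singleton_iff.1 h3
  rwa [h.center_eq_bot, mem_bot] at h2

/-- **T for `C(b)`** -/
theorem _root_.Cfsg.Agent.Cit.MinS.fam_cent (h : MinS Om) {b : G} (hb : b ≠ 1) :
    HasPieces (fam Om (centralizer {b})) := h.fam_hasPieces (h.centralizer_ne_top hb)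

theorem _root_.Cfsg.Agent.Cit.MinG.fam_cent {L : Subgroup G} (h : MinG Om L) {b : G} (hb : b ≠ 1) :
    HasPieces (fam Om (centralizer {b})) := h.fam_hasPieces (h.centralizer_ne_top hb)

end

end Cfsg.Agent.Cit.UseT
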