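import Cfsg.Agent.Cit.TypeDet.KindsAll
import Cfsg.Agent.Cit.UseT
import Cfsg.Agent.Cit.Eleven
import Cfsg.Agent.Nodes.ThreeEq

/-!
# Three members with the same involution in a piece (project CIT, helper717's (KF))

* `exists_max` : a commuting family of members of `T` is contained in a maximal one;
* `false_of_mathieu` : `M₁₁` does not contain three commuting quaternion groups (also modulo a centre of even order);
* `zz_eq_of_piece`, **`kfs`** : three different commuting members with the same involution in a piece `D` ⟹ every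
  member in `D` commuting with them has the same involution.
-/

set_option autoImplicit false
set_option linter.unusedSectionVars false

namespace Cfsg.Agent.Cit.ThreePiece

open Subgroup Cfsg
open Cfsg.Agent.Cit.TypeDet (cm cm_symm cm_iff_le_centralizer data)
open Classical

universe u

variable {G : Type u} [Group G] [Finite G] {Om : Set (Subgroup G)}

/-! ### Maximal commuting families -/

theorem not_cm_self (hyp : Hyp Om) {K : Subgroup G} (hK : K ∈ Om) : ¬ cm K K := fun h =>
  hyp.not_le_centralizer_self hK (cm_iff_le_centralizer.1 h)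

/-- A commuting family is contained in a maximal one. -/
theorem exists_max {T : Set (Subgroup G)} (hT : ∀ K ∈ T, ¬ cm K K) {C : Set (Subgroup G)} (hC : C ⊆ T)
    (hcc : ∀ K ∈ C, ∀ L ∈ C, K ≠ L → cm K L) :
    ∃ C' : Set (Subgroup G), C ⊆ C' ∧ C' ⊆ T ∧ (∀ K ∈ C', ∀ L ∈ C', K ≠ L → cm K L) ∧
      ∀ L ∈ T, ∃ K ∈ C', ¬ cm L K := by
  let F : Set (Set (Subgroup G)) := {C' | C' ⊆ T ∧ ∀ K ∈ C', ∀ L ∈ C', K ≠ L → cm K L}
  obtain ⟨C', h1, h2⟩ := (Set.toFinite F).exists_le_maximal (show C ∈ F from ⟨hC, hcc⟩)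
  refine ⟨C', h1, h2.prop.1, h2.prop.2, fun L hL => ?_⟩
  by_contra h3
  push Not at h3
  have h4 : insert L C' ∈ F := by
    refine ⟨Set.insert_subset hL h2.prop.1, ?_⟩
    rintro K (rfl | hK) M (rfl | hM) hKM
    · exact absurd rfl hKM
    · exact h3 M hM
    · exact cm_symm (h3 K hK)
    · exact h2.prop.2 K hK M hM hKM
  have h5 : L ∈ C' := h2.le_of_ge h4 (Set.subset_insert _ _) (Set.mem_insert _ _)
  exact hT L hL (h3 L h5)

/-! ### `M₁₁` -/

/-- the centre of a generalised quaternion group -/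
theorem eq_of_comm {Q : Subgroup G} (hQ : IsGQ Q) : ∃ z : G, ∀ x ∈ Q, (∀ y ∈ Q, y * x = x * y) → x = 1 ∨ x = z := by
  obtain ⟨c, v, z, n, h⟩ := exists_gq hQ
  refine ⟨z, fun x hx hc => ?_⟩
  by_cases h1 : x = 1
  · exact Or.inl h1
  right
  refine h.eq_z hx ?_ h1
  rcases h.cov x hx with ⟨i, rfl⟩ | ⟨i, rfl⟩
  · have h2 := hc v h.v_mem
    rw [h.conj_pow i] at h2
    have h3 := mul_right_cancel h2
    nth_rewrite 1 [← h3]
    rw [inv_mul_cancel]
  · exfalso
    have h2 := hc c h.c_mem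
    have h3 : c * v = v * c := by
      have h4 : c * v * c ^ i = v * c * c ^ i := by
        calc c * v * c ^ i = c * (v * c ^ i) := by group
          _ = v * c ^ i * c := h2
          _ = v * (c ^ i * c) := by group
          _ = v * (c * c ^ i) := by rw [(Commute.self_pow c i).eq]
          _ = v * c * c ^ i := by group
      exact mul_right_cancel h4
    exact h.not_comm h3.symm

theorem card_ge {Q : Subgroup G} (hQ : IsGQ Q) : 8 ≤ Nat.card Q := by
  obtain ⟨n, ⟨e⟩⟩ := hQ
  have : NeZero (2 ^ (n + 1)) := ⟨by positivity⟩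
  rw [Nat.card_congr e.toEquiv, Nat.card_eq_fintype_card, QuaternionGroup.card]
  have : 1 ≤ 2 ^ n := Nat.one_le_two_pow
  rw [pow_succ]
  omega

/-- In a group `H` in which the centralisers of involutions have less than 64 elements there are no homomorphic images,
with central kernel, of three commuting quaternion groups. -/
theorem false_of_three {H : Type*} [Group H] [Finite H] (h48 : ∀ t : H, orderOf t = 2 → Nat.card (centralizer {t}) < 64)
    {D : Subgroup G} (f : D →* H) (hf : f.ker ≤ center D) {A B C : Subgroup G} (hA : IsGQ A) (hB : IsGQ B)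
    (hC : IsGQ C) (pA : IsPGroup 2 A) (pB : IsPGroup 2 B) (pC : IsPGroup 2 C)
    (hAD : A ≤ D) (hBD : B ≤ D) (hCD : C ≤ D) (hAB : cm A B) (hAC : cm A C) (hBC : cm B C) : False := by
  haveI : Fact (Nat.Prime 2) := ⟨Nat.prime_two⟩
  let fA : A →* H := f.comp (inclusion hAD)
  let fB : B →* H := f.comp (inclusion hBD)
  let fC : C →* H := f.comp (inclusion hCD)
  have cBC : ∀ b c, Commute (fB b) (fC c) := fun b c => by
    change f _ * f _ = f _ * f _
    rw [← map_mul, ← map_mul]
    congr 1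
    exact Subtype.ext (hBC b b.2 c c.2)
  have cAB : ∀ a b, Commute (fA a) (fB b) := fun a b => by
    change f _ * f _ = f _ * f _
    rw [← map_mul, ← map_mul]
    congr 1
    exact Subtype.ext (hAB a a.2 b b.2)
  have cAC : ∀ a c, Commute (fA a) (fC c) := fun a c => by
    change f _ * f _ = f _ * f _
    rw [← map_mul, ← map_mul]
    congr 1
    exact Subtype.ext (hAC a a.2 c c.2)
  let fBC : B × C →* H := MonoidHom.noncommCoprod fB fC cBC
  have cA : ∀ a x, Commute (fA a) (fBC x) := fun a x => by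
    change Commute (fA a) (fB x.1 * fC x.2)
    exact (cAB a x.1).mul_right (cAC a x.2)
  let φ : A × (B × C) →* H := MonoidHom.noncommCoprod fA fBC cA
  have hφ : ∀ x, φ x = fA x.1 * (fB x.2.1 * fC x.2.2) := fun x => rfl
  -- the kernel
  obtain ⟨zA, hzA⟩ := eq_of_comm hA
  obtain ⟨zB, hzB⟩ := eq_of_comm hB
  obtain ⟨zC, hzC⟩ := eq_of_comm hC
  have hker : ∀ x : A × (B × C), φ x = 1 → ∀ d ∈ D, d * ((x.1 : G) * ((x.2.1 : G) * (x.2.2 : G))) =
      ((x.1 : G) * ((x.2.1 : G) * (x.2.2 : G))) * d := by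
    intro x hx d hd
    have h1 : f (inclusion hAD x.1 * (inclusion hBD x.2.1 * inclusion hCD x.2.2)) = 1 := by
      rw [map_mul, map_mul]; exact hx
    have h2 := hf (MonoidHom.mem_ker.2 h1)
    exact congrArg Subtype.val (mem_center_iff.1 h2 ⟨d, hd⟩)
  have kA : ∀ x : A × (B × C), φ x = 1 → (x.1 : G) = 1 ∨ (x.1 : G) = zA := by
    intro x hx
    refine hzA _ x.1.2 fun y hy => ?_
    have h1 := hker x hx y (hAD hy)
    have h2 : y * ((x.2.1 : G) * (x.2.2 : G)) = ((x.2.1 : G) * (x.2.2 : G)) * y := by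
      rw [← mul_assoc, hAB y hy _ x.2.1.2, mul_assoc, hAC y hy _ x.2.2.2, mul_assoc]
    have h3 : y * (x.1 : G) * ((x.2.1 : G) * (x.2.2 : G)) = (x.1 : G) * y * ((x.2.1 : G) * (x.2.2 : G)) := by
      rw [mul_assoc, h1, mul_assoc (x.1 : G), ← h2, ← mul_assoc]
    exact mul_right_cancel h3
  have kB : ∀ x : A × (B × C), φ x = 1 → (x.2.1 : G) = 1 ∨ (x.2.1 : G) = zB := by
    intro x hx
    refine hzB _ x.2.1.2 fun y hy => ?_
    have h1 := hker x hx y (hBD hy)
    have e1 : (x.1 : G) * y = y * (x.1 : G) := hAB _ x.1.2 y hy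
    have e2 : y * (x.2.2 : G) = (x.2.2 : G) * y := hBC y hy _ x.2.2.2
    have h3 : (x.1 : G) * (y * (x.2.1 : G)) * (x.2.2 : G) = (x.1 : G) * ((x.2.1 : G) * y) * (x.2.2 : G) := by
      calc (x.1 : G) * (y * (x.2.1 : G)) * (x.2.2 : G) = ((x.1 : G) * y) * (x.2.1 : G) * (x.2.2 : G) := by group
        _ = y * ((x.1 : G) * ((x.2.1 : G) * (x.2.2 : G))) := by rw [e1]; group
        _ = ((x.1 : G) * ((x.2.1 : G) * (x.2.2 : G))) * y := h1
        _ = (x.1 : G) * (x.2.1 : G) * ((x.2.2 : G) * y) := by group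
        _ = (x.1 : G) * ((x.2.1 : G) * y) * (x.2.2 : G) := by rw [← e2]; group
    exact mul_left_cancel (mul_right_cancel h3)
  have kC : ∀ x : A × (B × C), φ x = 1 → (x.2.2 : G) = 1 ∨ (x.2.2 : G) = zC := by
    intro x hx
    refine hzC _ x.2.2.2 fun y hy => ?_
    have h1 := hker x hx y (hCD hy)
    have e1 : (x.1 : G) * y = y * (x.1 : G) := hAC _ x.1.2 y hy
    have e2 : (x.2.1 : G) * y = y * (x.2.1 : G) := hBC _ x.2.1.2 y hy
    have h3 : ((x.1 : G) * (x.2.1 : G)) * (y * (x.2.2 : G)) = ((x.1 : G) * (x.2.1 : G)) * ((x.2.2 : G) * y) := by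
      calc ((x.1 : G) * (x.2.1 : G)) * (y * (x.2.2 : G)) = (x.1 : G) * ((x.2.1 : G) * y) * (x.2.2 : G) := by group
        _ = ((x.1 : G) * y) * (x.2.1 : G) * (x.2.2 : G) := by rw [e2]; group
        _ = y * ((x.1 : G) * ((x.2.1 : G) * (x.2.2 : G))) := by rw [e1]; group
        _ = ((x.1 : G) * ((x.2.1 : G) * (x.2.2 : G))) * y := h1
        _ = _ := by group
    exact mul_left_cancel h3
  have hk8 : Nat.card φ.ker ≤ 8 := by
    let g : φ.ker → Bool × Bool × Bool := fun x =>
      (decide ((x.1.1 : G) = 1), decide ((x.1.2.1 : G) = 1), decide ((x.1.2.2 : G) = 1))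
    have hg : Function.Injective g := by
      rintro ⟨x, hx⟩ ⟨y, hy⟩ hxy
      simp only [g, Prod.mk.injEq, decide_eq_decide] at hxy
      obtain ⟨e1, e2, e3⟩ := hxy
      have hx' := MonoidHom.mem_ker.1 hx
      have hy' := MonoidHom.mem_ker.1 hy
      have t1 : (x.1 : G) = (y.1 : G) := by
        rcases kA x hx' with h | h
        · rw [h, e1.1 h]
        · rcases kA y hy' with h' | h'
          · rw [h', e1.2 h']
          · rw [h, h']
      have t2 : (x.2.1 : G) = (y.2.1 : G) := by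
        rcases kB x hx' with h | h
        · rw [h, e2.1 h]
        · rcases kB y hy' with h' | h'
          · rw [h', e2.2 h']
          · rw [h, h']
      have t3 : (x.2.2 : G) = (y.2.2 : G) := by
        rcases kC x hx' with h | h
        · rw [h, e3.1 h]
        · rcases kC y hy' with h' | h'
          · rw [h', e3.2 h']
          · rw [h, h']
      apply Subtype.ext
      exact Prod.ext (Subtype.ext t1) (Prod.ext (Subtype.ext t2) (Subtype.ext t3))
    calc Nat.card φ.ker ≤ Nat.card (Bool × Bool × Bool) := Nat.card_le_card_of_injective g hg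
      _ = 8 := by simp
  have hcard : 64 ≤ Nat.card φ.range := by
    have h1 : Nat.card (A × (B × C)) = Nat.card φ.ker * Nat.card φ.range := by
      rw [Subgroup.card_eq_card_quotient_mul_card_subgroup φ.ker, mul_comm,
        Nat.card_congr (QuotientGroup.quotientKerEquivRange φ).toEquiv]
    rw [Nat.card_prod, Nat.card_prod] at h1
    have hA8 := card_ge hA
    have hB8 := card_ge hB
    have hC8 := card_ge hC
    have h2 : 8 * (8 * 8) ≤ Nat.card A * (Nat.card B * Nat.card C) :=
      Nat.mul_le_mul hA8 (Nat.mul_le_mul hB8 hC8)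
    have h3 : Nat.card φ.ker * Nat.card φ.range ≤ 8 * Nat.card φ.range := Nat.mul_le_mul_right _ hk8
    omega
  -- a central involution of the range
  have hp : IsPGroup 2 φ.range := by
    have hprod : IsPGroup 2 (A × (B × C)) := by
      rintro ⟨a, b, c⟩
      obtain ⟨k1, e1⟩ := pA a
      obtain ⟨k2, e2⟩ := pB b
      obtain ⟨k3, e3⟩ := pC c
      refine ⟨k1 + k2 + k3, ?_⟩
      have f1 : a ^ 2 ^ (k1 + k2 + k3) = 1 := by
        rw [show k1 + k2 + k3 = k1 + (k2 + k3) by ring, pow_add, pow_mul, e1, one_pow]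
      have f2 : b ^ 2 ^ (k1 + k2 + k3) = 1 := by
        rw [show k1 + k2 + k3 = k2 + (k1 + k3) by ring, pow_add, pow_mul, e2, one_pow]
      have f3 : c ^ 2 ^ (k1 + k2 + k3) = 1 := by
        rw [show k1 + k2 + k3 = k3 + (k1 + k2) by ring, pow_add, pow_mul, e3, one_pow]
      exact Prod.ext f1 (Prod.ext f2 f3)
    exact hprod.of_surjective φ.rangeRestrict φ.rangeRestrict_surjective
  have : Nontrivial φ.range := by
    rw [← Finite.one_lt_card_iff_nontrivial]; omega
  have hZ := hp.center_nontrivial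
  obtain ⟨t, ht⟩ : ∃ t : center φ.range, orderOf t = 2 := by
    have h1 : 2 ∣ Nat.card (center φ.range) := by
      obtain ⟨k, hk⟩ := (hp.to_subgroup (center φ.range)).exists_card_eq
      have h2 : 1 < Nat.card (center φ.range) := Finite.one_lt_card_iff_nontrivial.2 hZ
      rw [hk] at h2 ⊢
      rcases k with _ | k
      · simp at h2
      · exact dvd_pow_self 2 (Nat.succ_ne_zero k)
    exact exists_prime_orderOf_dvd_card' 2 h1
  have ht2 : orderOf ((t : φ.range) : H) = 2 := by
    rw [Subgroup.orderOf_coe, Subgroup.orderOf_coe, ht]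
  have h1 : φ.range ≤ centralizer {((t : φ.range) : H)} := by
    intro x hx
    rw [mem_centralizer_singleton_iff]
    exact congrArg Subtype.val (mem_center_iff.1 t.2 ⟨x, hx⟩)
  have h2 := h48 _ ht2
  have h3 : Nat.card φ.range ≤ Nat.card (centralizer {((t : φ.range) : H)}) :=
    Nat.card_le_card_of_injective _ (inclusion_injective h1)
  omega

theorem isGQ_of_syl (hyp : Hyp Om) {K Q : Subgroup G} (hK : K ∈ Om) (hQ : Syl Q K) : IsGQ Q :=
  hyp.isGQ hK hQ

/-- `M₁₁` does not contain three commuting members. -/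
theorem false_of_mathieu (hyp : Hyp Om) {D : Subgroup G} (iso : Spor.IsoM11 (↥D ⧸ center D)) {K L N : Subgroup G}
    (hK : K ∈ Om) (hL : L ∈ Om) (hN : N ∈ Om) (hKD : K ≤ D) (hLD : L ≤ D) (hND : N ≤ D)
    (hKL : cm K L) (hKN : cm K N) (hLN : cm L N) : False := by
  obtain ⟨A, hA⟩ := Hyp.exists_syl K
  obtain ⟨B, hB⟩ := Hyp.exists_syl L
  obtain ⟨C, hC⟩ := Hyp.exists_syl N
  refine false_of_three (H := ↥D ⧸ center D) ?_ (QuotientGroup.mk' (center D)) ?_ (hyp.isGQ hK hA) (hyp.isGQ hL hB)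
    (hyp.isGQ hN hC) hA.2.1 hB.2.1 hC.2.1 (hA.1.trans hKD) (hB.1.trans hLD) (hC.1.trans hND)
    (TypeDet.cm_mono hA.1 hB.1 hKL) (TypeDet.cm_mono hA.1 hC.1 hKN) (TypeDet.cm_mono hB.1 hC.1 hLN)
  · intro t ht
    rw [Eleven.card_centralizer iso ht]
    norm_num
  · rw [QuotientGroup.ker_mk']

/-! ### Pieces -/

/-- **(KF)**: three different commuting members of a piece with the same involution. -/
theorem zz_eq_of_piece (hyp : Hyp Om) {D : Subgroup G} (hD : Piece Om D) {K L N J : Subgroup G}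
    (hK : K ∈ Om) (hL : L ∈ Om) (hN : N ∈ Om) (hJ : J ∈ Om) (hKD : K ≤ D) (hLD : L ≤ D) (hND : N ≤ D) (hJD : J ≤ D)
    (hKL : cm K L) (hKN : cm K N) (hLN : cm L N) (hJK : cm J K) (hJL : cm J L) (hJN : cm J N)
    (h1 : zz K = zz L) (h2 : zz K = zz N) : zz J = zz K := by
  have hne : ∀ {A B : Subgroup G}, A ∈ Om → cm A B → A ≠ B := by
    rintro A B hA hAB rfl
    exact not_cm_self hyp hA hAB
  cases hD with
  | single mem =>
    exfalso
    exact hne hK hKL ((hyp.eq_of_le hK mem hKD).trans (hyp.eq_of_le hL mem hLD).symm)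
  | chart nmem qs two p c τ kind ok small sl zx =>
    obtain ⟨C, hC, hCT, hcc, hmax⟩ := exists_max (T := TypeDet.OmIn Om D) (fun K hK => not_cm_self hyp hK.1)
      (C := {K, L, N, J}) (by
        rintro X (rfl | rfl | rfl | rfl)
        · exact ⟨hK, hKD⟩
        · exact ⟨hL, hLD⟩
        · exact ⟨hN, hND⟩
        · exact ⟨hJ, hJD⟩) (by
        rintro X (rfl | rfl | rfl | rfl) Y (rfl | rfl | rfl | rfl) hXY <;>
          first
            | exact absurd rfl hXY
            | assumption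
            | (apply cm_symm; assumption))
    have := Fintype.ofFinite ↥C
    have h3 := TypeDet.KindsAll.kinds hyp c kind (κ := ↥C) (K := fun X => X.1) (fun X => hCT X.2)
      (fun X Y hXY => hcc X.1 X.2 Y.1 Y.2 fun e => hXY (Subtype.ext e))
      (fun L' hL' => by
        obtain ⟨X, hX, hX'⟩ := hmax L' hL'
        exact ⟨⟨X, hX⟩, hX'⟩)
    have h4 := Nodes.ThreeEq.three_eq hyp c _ _ h3 (i := ⟨L, hC (by simp)⟩) (j := ⟨N, hC (by simp)⟩)
      (l := ⟨K, hC (by simp)⟩) (fun e => hne hL hLN (congrArg Subtype.val e))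
      (fun e => hne hK hKL (congrArg Subtype.val e).symm) (fun e => hne hK hKN (congrArg Subtype.val e).symm)
      h1.symm h2.symm
    exact h4.2 ⟨J, hC (by simp)⟩
  | exc qs two p prime odd iso ne zzc three =>
    exfalso
    rcases three K hK L hL N hN hKD hLD hND (cm_iff_le_centralizer.1 hKL) (cm_iff_le_centralizer.1 hKN)
      (cm_iff_le_centralizer.1 hLN) with h | h | h
    · exact hne hK hKL h
    · exact hne hK hKN h
    · exact hne hL hLN h
  | mathieu qs two iso ne mem =>
    exact (false_of_mathieu hyp iso hK hL hN hKD hLD hND hKL hKN hLN).elim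

/-- **(KF)** for members with Sylow 2-subgroups in a common 2-group `P`, trivial cores. -/
theorem kfs (hyp : Hyp Om) (hO : ∀ K ∈ Om, OO K = ⊥) {D : Subgroup G} (hD : Piece Om D) {P : Subgroup G}
    (hP : IsPGroup 2 P) {K L N J : Subgroup G} (hK : K ∈ OmS Om P) (hL : L ∈ OmS Om P) (hN : N ∈ OmS Om P)
    (hJ : J ∈ OmS Om P) (hKD : K ≤ D) (hLD : L ≤ D) (hND : N ≤ D) (hJD : J ≤ D) (hKL : K ≠ L) (hKN : K ≠ N)
    (hLN : L ≠ N) (h1 : zz K = zz L) (h2 : zz K = zz N) : zz J = zz K := by
  have hc : ∀ {A B : Subgroup G}, A ∈ OmS Om P → B ∈ OmS Om P → A ≠ B → cm A B := fun hA hB hAB =>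
    cm_iff_le_centralizer.2 (UseT.comm_of_core hyp hO hP hA hB hAB)
  by_cases e1 : J = K
  · rw [e1]
  by_cases e2 : J = L
  · rw [e2, h1]
  by_cases e3 : J = N
  · rw [e3, h2]
  exact zz_eq_of_piece hyp hD hK.1 hL.1 hN.1 hJ.1 hKD hLD hND hJD (hc hK hL hKL) (hc hK hN hKN) (hc hL hN hLN)
    (hc hJ hK e1) (hc hJ hL e2) (hc hJ hN e3) h1 h2

end Cfsg.Agent.Cit.ThreePiece
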