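import Cfsg.Agent.Cit.CloseCor
import Cfsg.Agent.Cit.CloSwTau
import Cfsg.Agent.Cit.CloTwinStmt
import Cfsg.Agent.Cit.ThreePiece

/-!
# CONN / CLOSE: the inputs of THEOREM CLOSE

`closeIn` : `CloseIn` from (F3) for `G₂(q)`, `³D₄(q)`, `M₁₁` (`GenChart.ExcTrip`), Bender's theorem, S1174 and S1175.
-/

set_option autoImplicit false
set_option linter.dupNamespace false

namespace Cfsg.Agent.Cit.CloseFull

open Subgroup Cfsg Cfsg.Agent.Cit CloseMain

universe u

/-- SWAP (helper463) -/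
theorem swStmt : SwStmt.{u} := fun _ _ _ _ ms _ =>
  CloSw.sw_any ms.hyp ms.isType fun K hK L hL => by
    obtain ⟨g, hg⟩ := ms.cls K hK L hL
    exact ⟨g, hg.symm⟩

/-- (KF) (helper197) -/
theorem kfStmt : KFStmt.{u} := fun _ _ _ _ hyp _ hO _ hD _ hP _ hK _ hL _ hN _ hJ a b c d n1 n2 n3 e1 e2 =>
  ThreePiece.kfs hyp hO hD hP hK hL hN hJ a b c d n1 n2 n3 e1 e2

/-- **the inputs of THEOREM CLOSE** -/
theorem closeIn (hE : GenChart.ExcTrip.{u})
    (hB : ∀ (G : Type u) [Group G] [Finite G] [IsSimpleGroup G], CloEnd.Bend G)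
    (h74 : ∀ (G : Type u) [Group G] [Finite G] [IsSimpleGroup G], CloEnd.Crit1174 G)
    (h75 : ∀ (G : Type u) [Group G] [Finite G] [IsSimpleGroup G], CloEnd.Crit1175 G) : CloseIn.{u} where
  sw := swStmt
  exc := hE
  twin := twinStmt
  kf := kfStmt
  bend := hB
  c74 := h74
  c75 := h75

end Cfsg.Agent.Cit.CloseFull
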