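import Cfsg.Agent.Cit.CoreOne
import Cfsg.Agent.Cit.TwoB.MemFact
import Cfsg.Agent.Cit.TwoB.CenCyc
import Cfsg.Agent.Cit.TwoB.CenFac
import Cfsg.Agent.Cit.TwoB.ZeroMain
import Cfsg.Agent.Cit.TwoB.One

/-!
# The branch `|Om(S)| = 2`, `z₁ ≠ z₂` of THEOREM T: assembly

`coreTwoNe` : `Branches.CoreTwoNe` from

* `CoreOne.S1173Stmt` (external), `CoreOne.IdentStmt` (as in the branch `|Om(S)| = 1`);
* `FactA`, `FactB` : the facts `LFact`, `CycCent`, `LPair`, `TwoFac`, `LEight` for the members of the simple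
  groups with `|Om(S)| = 1`;
* `BackStmt` : the back half (`G ≃ PSL₅(q)`, `PSU₅(q)`);
* `FiveStmt` : the pieces for `PSL₅(q)`, `PSU₅(q)`.
-/

set_option autoImplicit false
set_option linter.style.haveILetI false
set_option linter.unusedSectionVars false

namespace Cfsg.Agent.Cit.CoreTwoNe

open Subgroup Cfsg Cfsg.Agent.Cit.TwoB Cfsg.Agent.Cit.CoreOne UseT

universe u

/-! ### The inputs -/

/-- the members of `PSL₃(q)`, `PSU₃(q)`, `M₁₁` -/
def FactA : Prop := ∀ (X : Type u) [Group X] [Finite X] [IsSimpleGroup X] (Om : Set (Subgroup X)), One Om →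
  (∀ K ∈ Om, Ty K) → (∀ K ∈ Om, OO K = ⊥) → L3 X ∨ U3 X ∨ Spor.IsoM11 X → ∀ K ∈ Om,
  LFact X K (zz K) ∧ CycCent X K (zz K) ∧ LPair X

/-- the members of `G₂(q)`, `³D₄(q)` -/
def FactB : Prop := ∀ (X : Type u) [Group X] [Finite X] [IsSimpleGroup X] (Om : Set (Subgroup X)), One Om →
  (∀ K ∈ Om, Ty K) → (∀ K ∈ Om, OO K = ⊥) → G2D4 X → ∀ K ∈ Om,
  LFact X K (zz K) ∧ LEight (zz K) ∧ ∃ K2, TwoFac X K K2 (zz K) ∧ TyTwo K2

/-- `PSL₅(q)` or `PSU₅(q)`, `q` odd -/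
def Five (G : Type*) [Group G] : Prop :=
  (∃ (F : Type) (_ : Field F) (_ : Fintype F), Odd (Fintype.card F) ∧
    Nonempty (G ≃* Matrix.ProjectiveSpecialLinearGroup (Fin 5) F)) ∨
  ∃ (F : Type) (_ : Field F) (_ : Fintype F) (q : ℕ), Fintype.card F = q ^ 2 ∧ Odd q ∧ Nonempty (G ≃* Cfsg.PSU 5 F q)

/-- the back half -/
def BackStmt : Prop := ∀ (G : Type u) [Group G] [Finite G] (Om : Set (Subgroup G)), MinS Om → Two Om → ¬ Iso Om →
  LPiece Om (LLd Om) → OutP Om (LLd Om) → (∀ K ∈ Om, IsSimpleGroup (DK Om K) ∧ center (DK Om K) = ⊥) →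
  (∀ K ∈ Om, ((L3 (DK Om K) ∨ U3 (DK Om K) ∨ Spor.IsoM11 (DK Om K)) ∧ LPair (DK Om K) ∧
      ∀ M, Pt Om K M → CycCent (DK Om K) (JK Om K M) (zz (JK Om K M))) ∨
    (G2D4 (DK Om K) ∧ ∀ M, Pt Om K M → LEight (zz (JK Om K M)))) → Five G

/-- the pieces for `PSL₅(q)`, `PSU₅(q)` -/
def FiveStmt : Prop := ∀ (G : Type u) [Group G] [Finite G] (Om : Set (Subgroup G)), MinS Om → Two Om → Five G →
  HasPieces Om

/-! ### The family in `D`, `D / Z(D)` -/

section QOne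

variable {X : Type u} [Group X] [Finite X] {Om : Set (Subgroup X)}

theorem ty_of_equiv_inf {Y : Type*} [Group Y] {f : X →* Y} {J : Subgroup X} (h : Ty J) (hi : J ⊓ f.ker = ⊥) :
    Ty (J.map f) := by
  rcases h with h1 | ⟨h1, h2⟩
  · exact Or.inl (TyTrans.isT_of_quot (TyTrans.quotMapInf hi) h1)
  · exact Or.inr ⟨TyTrans.isType_of_quot (TyTrans.quotMapInf hi) h1, TyTrans.perfect_map h2⟩

/-- all facts for a quasisimple group with `|Om(S)| = 1` -/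
theorem qOne_facts (h1173 : S1173Stmt.{u}) (hI : IdentStmt.{u}) (hA : FactA.{u}) (hB : FactB.{u})
    (h : QOne Om) (hT : ∀ K ∈ Om, Ty K) (hO : ∀ K ∈ Om, OO K = ⊥) :
    center X = ⊥ ∧ IsSimpleGroup X ∧
      (((L3 X ∨ U3 X ∨ Spor.IsoM11 X) ∧ LPair X ∧ ∀ K ∈ Om, LFact X K (zz K) ∧ CycCent X K (zz K)) ∨
        (G2D4 X ∧ ∀ K ∈ Om, LFact X K (zz K) ∧ LEight (zz K))) := by
  have ident : ∀ (Y : Type u) [Group Y] [Finite Y] [IsSimpleGroup Y] (Omy : Set (Subgroup Y)), One Omy →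
      Omy.Nonempty → (∀ K ∈ Omy, Ty K) → L3 Y ∨ U3 Y ∨ Spor.IsoM11 Y ∨ G2D4 Y := by
    intro Y _ _ _ Omy h1 hne hTy
    obtain ⟨S⟩ : Nonempty (Sylow 2 Y) := inferInstance
    obtain ⟨K, hK⟩ := id hne
    exact hI Y Omy h1 hne hTy S (sylow_type h1 hne (fun K hK => (hTy K hK).isType.tyTwo)
      (h1173 Y (oddCore_eq_bot (two_dvd_card h1.hyp hK))) S)
  obtain ⟨J, hJ⟩ := h.ne
  have hcen : center X = ⊥ := by
    haveI := h.simple
    have hi : ∀ K ∈ Om, K ⊓ (QuotientGroup.mk' (center X)).ker = ⊥ := fun K hK => by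
      rw [QuotientGroup.ker_mk']; exact h.inf_center hK
    have hTy : ∀ K ∈ img (QuotientGroup.mk' (center X)) Om, Ty K := by
      rintro _ ⟨K, hK, rfl⟩
      exact ty_of_equiv_inf (hT K hK) (hi K hK)
    have hOy : ∀ K ∈ img (QuotientGroup.mk' (center X)) Om, OO K = ⊥ := by
      rintro _ ⟨K, hK, rfl⟩
      rw [QuoCen.OO_map_of_inf (hi K hK), hO K hK, Subgroup.map_bot]
    have hz : zz (J.map (QuotientGroup.mk' (center X))) = QuotientGroup.mk' (center X) (zz J) :=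
      QuoCen.zz_map_of_inf h.one.hyp hJ (hi J hJ)
    have hJy : J.map (QuotientGroup.mk' (center X)) ∈ img (QuotientGroup.mk' (center X)) Om := ⟨J, hJ, rfl⟩
    have key : L3 (X ⧸ center X) ∨ U3 (X ⧸ center X) ∨ Spor.IsoM11 (X ⧸ center X) → center X = ⊥ := by
      intro h1
      obtain ⟨-, h2, -⟩ := hA (X ⧸ center X) _ h.one_img hTy hOy h1 _ hJy
      rw [hz] at h2
      exact h.center_eq_bot_of_cyc hJ h2
    rcases ident (X ⧸ center X) _ h.one_img ⟨_, hJy⟩ hTy with h1 | h1 | h1 | h1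
    · exact key (Or.inl h1)
    · exact key (Or.inr (Or.inl h1))
    · exact key (Or.inr (Or.inr h1))
    · obtain ⟨-, -, K2, h2, h3⟩ := hB (X ⧸ center X) _ h.one_img hTy hOy h1 _ hJy
      rw [hz] at h2
      exact h.center_eq_bot_of_twoFac hJ h2 h3
  have hs : IsSimpleGroup X := by
    haveI := h.simple
    have e : X ⧸ center X ≃* X := (QuotientGroup.quotientMulEquivOfEq hcen).trans QuotientGroup.quotientBot
    exact (MulEquiv.isSimpleGroup_congr e).1 h.simple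
  refine ⟨hcen, hs, ?_⟩
  have key : L3 X ∨ U3 X ∨ Spor.IsoM11 X → ((L3 X ∨ U3 X ∨ Spor.IsoM11 X) ∧ LPair X ∧
      ∀ K ∈ Om, LFact X K (zz K) ∧ CycCent X K (zz K)) :=
    fun h1 => ⟨h1, (hA X Om h.one hT hO h1 J hJ).2.2, fun K hK =>
      ⟨(hA X Om h.one hT hO h1 K hK).1, (hA X Om h.one hT hO h1 K hK).2.1⟩⟩
  rcases ident X Om h.one h.ne hT with h1 | h1 | h1 | h1
  · exact Or.inl (key (Or.inl h1))
  · exact Or.inl (key (Or.inr (Or.inl h1)))
  · exact Or.inl (key (Or.inr (Or.inr h1)))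
  · exact Or.inr ⟨h1, fun K hK => ⟨(hB X Om h.one hT hO h1 K hK).1, (hB X Om h.one hT hO h1 K hK).2.1⟩⟩

end QOne

/-! ### Assembly -/

/-- **the branch `|Om(S)| = 2`, `z₁ ≠ z₂`** -/
theorem coreTwoNe (h1173 : S1173Stmt.{u}) (hI : IdentStmt.{u}) (hA : FactA.{u}) (hB : FactB.{u})
    (hBack : BackStmt.{u}) (hF : FiveStmt.{u}) : Branches.CoreTwoNe.{u} := by
  intro G _ _ Om hm h
  haveI := hm.simple
  have hT := hm.isType
  obtain ⟨K₀, hK₀⟩ := hm.ne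
  have hni : ¬ Iso Om := h.not_iso
  -- the facts on the pieces
  have key : ∀ K ∈ Om, center (DK Om K) = ⊥ ∧ IsSimpleGroup (DK Om K) ∧
      (((L3 (DK Om K) ∨ U3 (DK Om K) ∨ Spor.IsoM11 (DK Om K)) ∧ LPair (DK Om K) ∧
        ∀ J ∈ restr (fam Om (CK K)) (DK Om K), LFact (DK Om K) J (zz J) ∧ CycCent (DK Om K) J (zz J)) ∨
        (G2D4 (DK Om K) ∧ ∀ J ∈ restr (fam Om (CK K)) (DK Om K), LFact (DK Om K) J (zz J) ∧ LEight (zz J))) := by
    intro K hK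
    have hsit := sit hm h hni hK
    refine qOne_facts h1173 hI hA hB hsit.qOne ?_ ?_
    · intro J hJ
      exact Ty.of_map _ (DK Om K).subtype_injective (ty_fam hT (CK K) _ hJ)
    · intro J hJ
      have h1 := hsit.pieces.core _ hJ
      rw [OO_map _ (DK Om K).subtype_injective,
        Subgroup.map_eq_bot_iff_of_injective _ (DK Om K).subtype_injective] at h1
      exact h1
  obtain ⟨M, hP⟩ := exists_pt h hK₀
  have hf : LFact (DK Om K₀) (JK Om K₀ M) (zz (JK Om K₀ M)) := by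
    rcases (key K₀ hK₀).2.2 with h1 | h1
    · exact (h1.2.2 _ (JK_mem hm h hni hP)).1
    · exact (h1.2 _ (JK_mem hm h hni hP)).1
  obtain ⟨hL, hOut⟩ := lpiece_of_fact hm h hni (fun K hK => (key K hK).2.1) (fun K hK => (key K hK).1) hP hf
  refine hF G Om hm h (hBack G Om hm h hni hL hOut (fun K hK => ⟨(key K hK).2.1, (key K hK).1⟩) ?_)
  intro K hK
  rcases (key K hK).2.2 with h1 | h1
  · exact Or.inl ⟨h1.1, h1.2.1, fun M hM => (h1.2.2 _ (JK_mem hm h hni hM)).2⟩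
  · exact Or.inr ⟨h1.1, fun M hM => (h1.2 _ (JK_mem hm h hni hM)).2⟩

end Cfsg.Agent.Cit.CoreTwoNe
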