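import Cfsg.Agent.Cit.Parab
import Cfsg.Agent.Lib.AutSL2Out
import Cfsg.Agent.TwoFusion.SLTwoFacts
import Cfsg.Agent.TwoFusion.QuatCoverSL
import Cfsg.Agent.LieClassical.SLTwoUnipotent
import Cfsg.Agent.S1303

/-!
# Long root subgroups of subgroups isomorphic to `SL(2,q)`

If `K ≅ SL(2, F)`, `F` a finite field of odd order, and `X` is a Sylow `p`-subgroup of `K` (a subgroup of
order `|F|`), then `Long K X z` (see `Cit/Parab.lean`) as soon as the conjugates of `K` under `C(z)` are equal to
`K` or centralize `K`.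
-/

set_option autoImplicit false
set_option linter.style.haveILetI false

namespace Cfsg.Agent.Cit.ParabSL2

open Subgroup Cfsg Matrix Cfsg.Agent.Lib.SL2Mat Cfsg.Agent.Lib.AutSL2

section sl

variable {F : Type*} [Field F] [Fintype F]

/-- The odd core of `SL(2,q)`, `q` odd, is trivial. -/
theorem oddCore_sl (hF : Odd (Fintype.card F)) : oddCore (Matrix.SpecialLinearGroup (Fin 2) F) = ⊥ := by
  haveI : Finite (Matrix.SpecialLinearGroup (Fin 2) F) := inferInstance
  have hodd : Odd (Nat.card (oddCore (Matrix.SpecialLinearGroup (Fin 2) F))) :=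
    Nat.coprime_two_right.1 (Lib.Cores.pPrimeCore_coprime (G := Matrix.SpecialLinearGroup (Fin 2) F) 2)
  haveI hN : (oddCore (Matrix.SpecialLinearGroup (Fin 2) F)).Normal := Lib.Cores.pPrimeCore_normal 2
  rcases Nat.lt_or_ge 3 (Fintype.card F) with h3 | h3
  · -- simplicity modulo the centre
    haveI hs := Cfsg.Agent.TwoFusion.SLTwoFacts.isSimpleGroup_psl (F := F) h3
    set π : Matrix.SpecialLinearGroup (Fin 2) F →* Matrix.ProjectiveSpecialLinearGroup (Fin 2) F :=
      QuotientGroup.mk' _ with hπ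
    have hsur : Function.Surjective π := QuotientGroup.mk'_surjective _
    have hmap : ((oddCore (Matrix.SpecialLinearGroup (Fin 2) F)).map π).Normal := hN.map π hsur
    rcases hmap.eq_bot_or_eq_top with h | h
    · rw [eq_bot_iff]
      intro x hx
      have h1 : π x = 1 := by
        have h2 : π x ∈ (oddCore (Matrix.SpecialLinearGroup (Fin 2) F)).map π := ⟨x, hx, rfl⟩
        rw [h] at h2
        exact Subgroup.mem_bot.1 h2
      have h2 : x ∈ center (Matrix.SpecialLinearGroup (Fin 2) F) := (QuotientGroup.eq_one_iff x).1 h1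
      rw [Cfsg.Agent.TwoFusion.QuatCoverSL.center_eq_zpowers hF] at h2
      have h3 : orderOf x ∣ 2 :=
        (orderOf_dvd_of_mem_zpowers h2).trans
          (dvd_of_eq (Cfsg.Agent.TwoFusion.QuatCoverSL.orderOf_neg_one hF))
      have h4 : orderOf x ∣ Nat.card (oddCore (Matrix.SpecialLinearGroup (Fin 2) F)) := by
        have h5 := orderOf_dvd_natCard (⟨x, hx⟩ : oddCore (Matrix.SpecialLinearGroup (Fin 2) F))
        rwa [← Subgroup.orderOf_coe] at h5
      have h5 : orderOf x = 1 :=
        Nat.eq_one_of_dvd_coprimes (Nat.coprime_two_left.2 hodd) h3 h4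
      exact Subgroup.mem_bot.2 (orderOf_eq_one_iff.1 h5)
    · exfalso
      have h1 : Nat.card (Matrix.ProjectiveSpecialLinearGroup (Fin 2) F) ∣
          Nat.card (oddCore (Matrix.SpecialLinearGroup (Fin 2) F)) := by
        have h2 : Nat.card ((oddCore (Matrix.SpecialLinearGroup (Fin 2) F)).map π) ∣ _ := Subgroup.card_map_dvd _ π
        rwa [h, Subgroup.card_top] at h2
      have h2 := Cfsg.Agent.ClassicalGeometry.PSL2Basic.card_PSL2_odd (F := F) hF
      have h3 : Odd (Nat.card (Matrix.ProjectiveSpecialLinearGroup (Fin 2) F)) := hodd.of_dvd_nat h1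
      obtain ⟨k, hk⟩ := hF
      have h4 : Fintype.card F ^ 2 - 1 = 4 * (k * (k + 1)) := by
        rw [hk]
        have : (2 * k + 1) ^ 2 = 4 * (k * (k + 1)) + 1 := by ring
        omega
      have h5 : Nat.card (Matrix.ProjectiveSpecialLinearGroup (Fin 2) F) =
          2 * (Fintype.card F * (k * (k + 1))) := by
        rw [h4] at h2
        nlinarith [h2]
      rw [h5] at h3
      exact (Nat.not_even_iff_odd.2 h3) (even_two_mul _)
  · have h1 := Fintype.one_lt_card (α := F)
    have h2 : Fintype.card F = 3 := by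
      obtain ⟨k, hk⟩ := hF
      omega
    let φ : ZMod 3 ≃+* F := ZMod.ringEquivOfPrime F Nat.prime_three h2
    let e : Matrix.SpecialLinearGroup (Fin 2) (ZMod 3) ≃* Matrix.SpecialLinearGroup (Fin 2) F :=
      { toFun := fun x => Matrix.SpecialLinearGroup.map φ.toRingHom x
        invFun := fun x => Matrix.SpecialLinearGroup.map φ.symm.toRingHom x
        left_inv := fun x => by
          refine Matrix.SpecialLinearGroup.ext _ _ fun i j => ?_
          exact φ.symm_apply_apply (x.1 i j)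
        right_inv := fun x => by
          refine Matrix.SpecialLinearGroup.ext _ _ fun i j => ?_
          exact φ.apply_symm_apply (x.1 i j)
        map_mul' := fun x y => map_mul _ x y }
    change pPrimeCore 2 _ = ⊥
    rw [← Lib.Cores.map_equiv_pPrimeCore e 2, Cfsg.Agent.S1303.result.2.1, Subgroup.map_bot]

/-- An automorphism of `SL(2,F)` fixing all upper unitriangular matrices is the conjugation by one of them. -/
theorem exists_up_of_fix (α : MulAut (Matrix.SpecialLinearGroup (Fin 2) F)) (hα : ∀ b, α (up b) = up b) :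
    ∃ t : F, ∀ x, α x = up t * x * (up t)⁻¹ := by
  haveI : Finite F := inferInstance
  obtain ⟨g, σ, rfl⟩ := Cfsg.Agent.Lib.AutSL2Out.exists_eq α
  -- matrix identities `g up(σ b) = up(b) g`
  have h1 : ∀ b : F, g.1 * (up (σ b)).1 = (up b).1 * g.1 := by
    intro b
    have h2 := congrArg Subtype.val (hα b)
    have h3 : ((conjGL g * fieldAut σ) (up b)) = conjGL g (up (σ b)) := by
      rw [MulAut.mul_apply, fieldAut_up]
    rw [h3, conjGL_val] at h2
    rw [← h2, Matrix.mul_assoc, inv_val_mul_val, Matrix.mul_one]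
  have hup : ∀ b : F, (up b).1 = !![1, b; 0, 1] := fun _ => rfl
  have h2 : ∀ b : F, ∀ i j, (g.1 * !![1, σ b; 0, 1]) i j = (!![1, b; 0, 1] * g.1) i j := by
    intro b i j
    have := h1 b
    rw [hup, hup] at this
    rw [this]
  have e10 : g.1 1 0 = 0 := by
    have := h2 1 0 0
    simp [Matrix.mul_apply, Fin.sum_univ_two] at this
    exact this
  have e01 : ∀ b : F, g.1 0 0 * σ b = b * g.1 1 1 := by
    intro b
    have := h2 b 0 1
    simp [Matrix.mul_apply, Fin.sum_univ_two] at this
    linear_combination this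
  have e11 : g.1 0 0 = g.1 1 1 := by
    have := e01 1
    rwa [map_one, mul_one, one_mul] at this
  have hdet : g.1.det ≠ 0 := (Matrix.GeneralLinearGroup.det g).ne_zero
  have h00 : g.1 0 0 ≠ 0 := by
    intro h
    apply hdet
    rw [Matrix.det_fin_two, h, e10]
    ring
  have hσ : ∀ b, σ b = b := by
    intro b
    have h3 := e01 b
    rw [← e11, mul_comm b] at h3
    exact mul_left_cancel₀ h00 h3
  refine ⟨g.1 0 1 / g.1 0 0, fun x => ?_⟩
  have h4 : (conjGL g * fieldAut σ) x = conjGL g x := by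
    rw [MulAut.mul_apply]
    congr 1
    refine Matrix.SpecialLinearGroup.ext _ _ fun i j => ?_
    exact hσ _
  rw [h4, eq_mul_inv_iff_mul_eq]
  apply Subtype.ext
  -- `g = a • up t`
  have h5 : g.1 = g.1 0 0 • (up (g.1 0 1 / g.1 0 0)).1 := by
    rw [hup]
    ext i j
    fin_cases i <;> fin_cases j
    · simp
    · simp
      field_simp
    · simp [e10]
    · simp [e11]
  change (g.1 * x.1 * g⁻¹.1) * (up (g.1 0 1 / g.1 0 0)).1 = (up (g.1 0 1 / g.1 0 0)).1 * x.1
  have h6 : g.1 0 0 • ((g.1 * x.1 * g⁻¹.1) * (up (g.1 0 1 / g.1 0 0)).1) =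
      g.1 0 0 • ((up (g.1 0 1 / g.1 0 0)).1 * x.1) := by
    rw [← Matrix.mul_smul, ← Matrix.smul_mul, ← h5, Matrix.mul_assoc, inv_val_mul_val, Matrix.mul_one]
  have h7 := congrArg (fun M : Matrix (Fin 2) (Fin 2) F => (g.1 0 0)⁻¹ • M) h6
  simpa [smul_smul, inv_mul_cancel₀ h00] using h7

omit [Fintype F] in
theorem neg_one_eq : ((-1 : Matrix.SpecialLinearGroup (Fin 2) F)) * (-1) = 1 := by
  rw [neg_mul_neg, one_mul]

end sl

variable {G : Type*} [Group G]

section std

variable {F : Type*} [Field F] [Fintype F] {K : Subgroup G}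

/-- The image of the group of upper unitriangular matrices. -/
def root (e : Matrix.SpecialLinearGroup (Fin 2) F ≃* K) : Subgroup G :=
  (upG F).map (K.subtype.comp e.toMonoidHom)

omit [Fintype F] in
theorem mem_root {e : Matrix.SpecialLinearGroup (Fin 2) F ≃* K} {x : G} :
    x ∈ root e ↔ ∃ b : F, (e (up b) : G) = x := by
  constructor
  · rintro ⟨_, ⟨b, rfl⟩, rfl⟩
    exact ⟨b, rfl⟩
  · rintro ⟨b, rfl⟩
    exact ⟨up b, ⟨b, rfl⟩, rfl⟩

omit [Fintype F] in
theorem root_le (e : Matrix.SpecialLinearGroup (Fin 2) F ≃* K) : root e ≤ K := by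
  intro x hx
  obtain ⟨b, rfl⟩ := mem_root.1 hx
  exact (e (up b)).2

theorem card_root (e : Matrix.SpecialLinearGroup (Fin 2) F ≃* K) : Nat.card (root e) = Fintype.card F := by
  have h1 : Nat.card (root e) = Nat.card (upG F) :=
    (Nat.card_congr ((upG F).equivMapOfInjective _
      (K.subtype_injective.comp e.injective)).toEquiv).symm
  have h2 : Nat.card (upG F) = Nat.card F :=
    Nat.card_congr (Equiv.ofBijective (fun b : F => (⟨up b, up_mem b⟩ : upG F))
      ⟨fun b c h => up_inj (congrArg Subtype.val h), fun ⟨_, b, hb⟩ => ⟨b, Subtype.ext hb⟩⟩).symm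
  rw [h1, h2, Nat.card_eq_fintype_card]

/-- The standard case. -/
theorem long_root (hF : Odd (Fintype.card F)) (e : Matrix.SpecialLinearGroup (Fin 2) F ≃* K)
    (alt : ∀ c : G, c * (e (-1) : G) = (e (-1) : G) * c → cj c K = K ∨ ∀ k ∈ K, ∀ l ∈ cj c K, k * l = l * k) :
    Parab.Long K (root e) (e (-1) : G) where
  zK := (e (-1)).2
  zsq := by
    rw [← Subgroup.coe_mul, ← map_mul, neg_one_eq, map_one, Subgroup.coe_one]
  zne := by
    intro h
    have h1 : e (-1) = 1 := Subtype.ext h
    rw [map_eq_one_iff e e.injective] at h1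
    exact Cfsg.Agent.TwoFusion.QuatCoverSL.neg_one_ne_one hF h1
  uniq := by
    intro t ht htt htne
    have h1 : orderOf (⟨t, ht⟩ : K) = 2 := by
      rw [Subgroup.orderOf_mk]
      exact orderOf_eq_prime (by rw [pow_two]; exact htt) htne
    have h2 : orderOf (e.symm ⟨t, ht⟩) = 2 := by rw [MulEquiv.orderOf_eq, h1]
    have h3 := Cfsg.Agent.TwoFusion.QuatCoverSL.eq_neg_one_of_orderOf_two hF _ h2
    rw [← h3, MulEquiv.apply_symm_apply]
  alt := alt
  XK := root_le e
  Xodd := by rw [card_root]; exact hF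
  Xcomm := by
    intro x hx y hy
    obtain ⟨b, rfl⟩ := mem_root.1 hx
    obtain ⟨c, rfl⟩ := mem_root.1 hy
    rw [← Subgroup.coe_mul, ← map_mul, ← Subgroup.coe_mul, ← map_mul, up_mul, up_mul, add_comm]
  gen := by
    intro L hL hinv
    have hup : ∀ b : F, (e (up b) : G) ∈ L := fun b => hL (mem_root.2 ⟨b, rfl⟩)
    have hlo : ∀ b : F, (e (lo b) : G) ∈ L := by
      intro b
      have h1 := wm_up (1 : F) (-b) one_ne_zero
      have h2 : lo b = wm 1 one_ne_zero * up (-b) * (wm 1 one_ne_zero)⁻¹ := by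
        rw [h1]
        have h3 : -(-b / 1 ^ 2) = b := by ring
        rw [h3, mul_assoc, mul_inv_cancel, mul_one]
      rw [h2, map_mul, map_mul, map_inv]
      exact hinv _ (e _).2 _ (hup _)
    intro k hk
    have h1 : Subgroup.comap (K.subtype.comp e.toMonoidHom) L = ⊤ := by
      refine Cfsg.Agent.LieClassical.SLTwoUnipotent.eq_top_of_u_mem_of_l_mem _ ?_ ?_
      · intro b
        have h2 : Cfsg.Agent.LieClassical.SLTwoUnipotent.u b = up b := rfl
        rw [h2]
        exact hup b
      · intro b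
        have h2 : Cfsg.Agent.LieClassical.SLTwoUnipotent.l b = lo b := rfl
        rw [h2]
        exact hlo b
    have h2 : e.symm ⟨k, hk⟩ ∈ Subgroup.comap (K.subtype.comp e.toMonoidHom) L := by rw [h1]; trivial
    have h3 : (e (e.symm ⟨k, hk⟩) : G) ∈ L := h2
    rwa [MulEquiv.apply_symm_apply] at h3
  inner := by
    intro c hc hX
    have hcK : ∀ k : K, c * (k : G) * c⁻¹ ∈ K := by
      intro k
      have h1 := conj_mem_cj (g := c) k.2
      rwa [hc] at h1
    have hc' : cj c⁻¹ K = K := by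
      conv_lhs => rw [← hc]
      exact cj_inv_cj _ _
    have hcK' : ∀ k : K, c⁻¹ * (k : G) * c ∈ K := by
      intro k
      have h1 := conj_mem_cj (g := c⁻¹) k.2
      rwa [hc', inv_inv] at h1
    -- the automorphism of `SL(2,F)` induced by `c`
    let γ : MulAut K :=
      { toFun := fun k => ⟨c * k * c⁻¹, hcK k⟩
        invFun := fun k => ⟨c⁻¹ * k * c, hcK' k⟩
        left_inv := fun k => Subtype.ext (by group)
        right_inv := fun k => Subtype.ext (by group)
        map_mul' := fun k l => Subtype.ext (by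
          show c * ((k : G) * l) * c⁻¹ = c * k * c⁻¹ * (c * l * c⁻¹)
          group) }
    have hγ : ∀ k : K, ((γ k : K) : G) = c * k * c⁻¹ := fun _ => rfl
    obtain ⟨t, ht⟩ := exists_up_of_fix (F := F) ((e.trans γ).trans e.symm) (by
      intro b
      have h1 : γ (e (up b)) = e (up b) := by
        apply Subtype.ext
        rw [hγ, hX _ (mem_root.2 ⟨b, rfl⟩)]
        group
      show e.symm (γ (e (up b))) = up b
      rw [h1, MulEquiv.symm_apply_apply])
    refine ⟨e (up t), mem_root.2 ⟨t, rfl⟩, ?_⟩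
    intro k hk
    have h1 := ht (e.symm ⟨k, hk⟩)
    have h2 : γ ⟨k, hk⟩ = e (up t) * ⟨k, hk⟩ * (e (up t))⁻¹ := by
      have h3 : e.symm (γ (e (e.symm ⟨k, hk⟩))) = up t * e.symm ⟨k, hk⟩ * (up t)⁻¹ := h1
      rw [MulEquiv.apply_symm_apply] at h3
      have h4 := congrArg e h3
      rw [MulEquiv.apply_symm_apply, map_mul, map_mul, map_inv, MulEquiv.apply_symm_apply] at h4
      exact h4
    have h5 : c * k * c⁻¹ = (e (up t) : G) * k * (e (up t) : G)⁻¹ := congrArg Subtype.val h2
    have h6 : c * k = (e (up t) : G) * k * (e (up t) : G)⁻¹ * c := by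
      rw [← h5]; group
    rw [mul_assoc, h6]
    group

/-- All subgroups of order `|F|` of `K` are conjugate in `K`. -/
theorem exists_conj_root (e : Matrix.SpecialLinearGroup (Fin 2) F ≃* K) {X : Subgroup G}
    (hX : X ≤ K) (hc : Nat.card X = Fintype.card F) : ∃ k ∈ K, cj k (root e) = X := by
  obtain ⟨p, hpc⟩ := CharP.exists F
  haveI : CharP F p := hpc
  haveI hp : Fact p.Prime := ⟨CharP.char_is_prime F p⟩
  obtain ⟨n, -, hn⟩ := FiniteField.card F p
  haveI : Finite K := Finite.of_equiv _ e.toEquiv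
  -- the Sylow subgroup of `K`
  obtain ⟨P, hP⟩ : ∃ P : Sylow p K, (P : Subgroup K) = (upG F).map e.toMonoidHom := by
    refine ⟨(sylU F p).mapSurjective (f := e.toMonoidHom) e.surjective, ?_⟩
    rfl
  have hXp : IsPGroup p (X.subgroupOf K) := by
    refine IsPGroup.of_card (n := (n : ℕ)) ?_
    rw [Nat.card_congr (subgroupOfEquivOfLe hX).toEquiv, hc, hn]
  obtain ⟨Q, hQ⟩ := hXp.exists_le_sylow
  obtain ⟨k, hk⟩ := MulAction.exists_smul_eq K P Q
  have hcardP : Nat.card (P : Subgroup K) = Fintype.card F := by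
    rw [hP, ← card_root e]
    have h1 : root e = ((upG F).map e.toMonoidHom).map K.subtype := by
      rw [Subgroup.map_map]; rfl
    rw [h1]
    exact Nat.card_congr (((upG F).map e.toMonoidHom).equivMapOfInjective _ K.subtype_injective).toEquiv
  have hcardQ : Nat.card (Q : Subgroup K) = Fintype.card F := by
    rw [← hcardP]
    exact Nat.card_congr (Sylow.equiv Q P).toEquiv
  have hQX : X.subgroupOf K = Q := by
    refine Subgroup.eq_of_le_of_card_ge hQ ?_
    rw [hcardQ, Nat.card_congr (subgroupOfEquivOfLe hX).toEquiv, hc]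
  refine ⟨k, k.2, ?_⟩
  have h2 := congrArg (fun X : Sylow p K => (X : Subgroup K).map K.subtype) hk
  simp only [Sylow.coe_subgroup_smul, ← hQX] at h2
  rw [map_subgroupOf_eq_of_le hX] at h2
  rw [← h2, hP]
  ext x
  simp only [mem_cj, Subgroup.mem_map, Subgroup.mem_pointwise_smul_iff_inv_smul_mem]
  constructor
  · intro hx
    obtain ⟨b, hb⟩ := mem_root.1 hx
    refine ⟨k * e (up b) * k⁻¹, ?_, ?_⟩
    · refine ⟨up b, ⟨b, rfl⟩, ?_⟩
      simp [MulAut.smul_def, mul_assoc]
    · show (k : G) * (e (up b) : G) * (k : G)⁻¹ = x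
      rw [hb]; group
  · rintro ⟨y, ⟨_, ⟨b, rfl⟩, hb⟩, rfl⟩
    refine mem_root.2 ⟨b, ?_⟩
    have h3 : e (up b) = k⁻¹ * y * k := by
      have h4 : e.toMonoidHom (up b) = e (up b) := rfl
      rw [h4] at hb
      rw [hb]
      simp [MulAut.smul_def, mul_assoc]
    rw [h3]
    rfl

theorem exists_conj [Finite G] (e : Matrix.SpecialLinearGroup (Fin 2) F ≃* K) {X Y : Subgroup G}
    (hX : X ≤ K) (hc : Nat.card X = Fintype.card F) (hY : Y ≤ K) (hcY : Nat.card Y = Nat.card X) :
    ∃ k ∈ K, cj k Y = X := by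
  obtain ⟨k, hk, h1⟩ := exists_conj_root e hX hc
  obtain ⟨l, hl, h2⟩ := exists_conj_root e hY (hcY.trans hc)
  refine ⟨k * l⁻¹, K.mul_mem hk (K.inv_mem hl), ?_⟩
  rw [← h2, ← h1, ← cj_mul]
  congr 1
  group

/-- **Long root subgroups**: `K ≅ SL(2,F)` and `X ≤ K` of order `|F|`. -/
theorem long (hF : Odd (Fintype.card F)) (e : Matrix.SpecialLinearGroup (Fin 2) F ≃* K)
    (alt : ∀ c : G, c * (e (-1) : G) = (e (-1) : G) * c → cj c K = K ∨ ∀ k ∈ K, ∀ l ∈ cj c K, k * l = l * k)
    {X : Subgroup G} (hX : X ≤ K) (hc : Nat.card X = Fintype.card F) : Parab.Long K X (e (-1) : G) := by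
  obtain ⟨k, hk, h1⟩ := exists_conj_root e hX hc
  have h2 := (long_root hF e alt).conj k
  have h3 : cj k K = K := by
    rw [← mem_normalizer_iff_cj]
    exact le_normalizer hk
  have h4 : k * (e (-1) : G) * k⁻¹ = e (-1) := by
    have h5 := (long_root hF e alt).central hk
    rw [h5]; group
  rwa [h1, h3, h4] at h2

end std

section hyp

variable [Finite G] {F : Type*} [Field F] [Fintype F] {Om : Set (Subgroup G)} {K : Subgroup G}

omit [Finite G] in
theorem OO_eq_bot (hF : Odd (Fintype.card F)) (e : Matrix.SpecialLinearGroup (Fin 2) F ≃* K) : OO K = ⊥ := by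
  have h1 : oddCore K = ⊥ := by
    change pPrimeCore 2 K = ⊥
    rw [← Lib.Cores.map_equiv_pPrimeCore e 2]
    have h2 := oddCore_sl (F := F) hF
    change pPrimeCore 2 _ = ⊥ at h2
    rw [h2, Subgroup.map_bot]
  rw [OO_def, h1, Subgroup.map_bot]

/-- From `HYP(G,Om)`: a member `K ≅ SL(2,F)` with a subgroup `X` of order `|F|`. -/
theorem long_of_hyp (h : Hyp Om) (hK : K ∈ Om) (hF : Odd (Fintype.card F))
    (e : Matrix.SpecialLinearGroup (Fin 2) F ≃* K) {X : Subgroup G} (hX : X ≤ K)
    (hc : Nat.card X = Fintype.card F) : Parab.Long K X (zz K) := by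
  have hz : (e (-1) : G) = zz K := by
    refine h.uniq K hK _ (e (-1)).2 ?_
    rw [Subgroup.orderOf_coe, MulEquiv.orderOf_eq]
    exact Cfsg.Agent.TwoFusion.QuatCoverSL.orderOf_neg_one hF
  rw [← hz]
  refine long hF e ?_ hX hc
  intro c hcz
  rw [hz] at hcz
  have h1 : zz K = zz (cj c K) := by
    rw [h.zz_cj hK c, hcz]; group
  rcases h.h2 K hK _ (h.conj K hK c) h1 with h2 | h2
  · exact Or.inl h2.symm
  · right
    rw [OO_eq_bot hF e, bot_inf_eq, le_bot_iff, commutator_eq_bot_iff_le_centralizer] at h2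
    intro k hk l hl
    exact (mem_centralizer_iff.1 (h2 hk) l hl).symm

end hyp

end Cfsg.Agent.Cit.ParabSL2
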