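import Cfsg.Agent.Cit.HexCent2
import Cfsg.Agent.Cit.ParabSL2
import Cfsg.Agent.Lib.AutSL2Out

/-!
# Groups of type `G₂` and `³D₄`: one class of involutions, `O(C(t)) = 1`
-/

set_option autoImplicit false

namespace Cfsg.Agent.Cit.HexBase

open Cfsg.Agent.SplitTwo Cfsg.Agent.TitsThree.RankTwoZ Cfsg.Agent.Lib.SL2Mat
  Cfsg.Agent.TitsThree.RankTwoIdx Cfsg.Agent.TitsThree.RankTwoRGD
open scoped commutatorElement Pointwise

section sl

variable {K : Type*} [Field K]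

theorem exists_anti_aux {s : K} (hs : s ≠ 0) (x : SL2 K) (hc : ent x 1 0 ≠ 0)
    (h : ent x 0 0 * s + ent x 1 1 = 0) :
    ∃ (v : SL2 K) (b : K) (hb : b ≠ 0), v * x * (conjGL (dgl s hs) v)⁻¹ = wm b hb := by
  have hd := det_eq x
  refine ⟨up (-ent x 0 0 / ent x 1 0), -(ent x 1 0)⁻¹, neg_ne_zero.2 (inv_ne_zero hc), ?_⟩
  rw [conjGL_dgl_up, up_inv]
  refine ext_ent ?_ ?_ ?_ ?_ <;>
    simp only [ent_mul, up_00, up_01, up_10, up_11, wm_00, wm_01, wm_10, wm_11]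
  · field_simp
    ring
  · field_simp
    linear_combination -hd
  · rw [inv_neg, inv_inv]
    ring
  · field_simp
    linear_combination ent x 1 0 * h

theorem exists_anti (h2 : (2 : K) ≠ 0) {s : K} (hs : s ≠ 0) (x : SL2 K)
    (h : ent x 0 0 * s + ent x 1 1 = 0) :
    ∃ (v : SL2 K) (b : K) (hb : b ≠ 0), v * x * (conjGL (dgl s hs) v)⁻¹ = wm b hb := by
  by_cases hc : ent x 1 0 = 0
  · have hd := det_eq x
    rw [hc, mul_zero, sub_zero] at hd
    have ha : ent x 0 0 ≠ 0 := by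
      intro h0
      rw [h0, zero_mul] at hd
      exact zero_ne_one hd
    -- `lo r`
    obtain ⟨r, hr⟩ : ∃ r : K, ent (lo r * x * (conjGL (dgl s hs) (lo r))⁻¹) 1 0 ≠ 0 := by
      have key : ∀ r : K, ent (lo r * x * (conjGL (dgl s hs) (lo r))⁻¹) 1 0 =
          r * (2 * ent x 0 0 - r * ent x 0 1 / s) := by
        intro r
        rw [conjGL_dgl_lo, lo_inv]
        simp only [ent_mul, lo_00, lo_10, lo_11, hc]
        have h3 : ent x 1 1 = -(ent x 0 0 * s) := eq_neg_of_add_eq_zero_right h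
        rw [h3]
        field_simp
        ring
      by_contra hcon
      push Not at hcon
      have e1 := hcon 1
      have e2 := hcon (-1)
      rw [key] at e1 e2
      have h3 : (2 : K) * 2 * ent x 0 0 = 0 := by linear_combination e1 - e2
      exact mul_ne_zero (mul_ne_zero h2 h2) ha h3
    have htr : ent (lo r * x * (conjGL (dgl s hs) (lo r))⁻¹) 0 0 * s +
        ent (lo r * x * (conjGL (dgl s hs) (lo r))⁻¹) 1 1 = 0 := by
      rw [conjGL_dgl_lo, lo_inv]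
      simp only [ent_mul, lo_00, lo_01, lo_10, lo_11, hc]
      field_simp
      linear_combination h
    obtain ⟨v, b, hb, e⟩ := exists_anti_aux hs _ hr htr
    refine ⟨v * lo r, b, hb, ?_⟩
    rw [← e, map_mul]
    group
  · exact exists_anti_aux hs x hc h

/-- sums of two squares with coefficients -/
theorem exists_quad [Finite K] (h2 : (2 : K) ≠ 0) {s : K} (hs : s ≠ 0) (a : K) : ∃ p q : K, p ^ 2 + s * q ^ 2 = a := by
  classical
  have := Fintype.ofFinite K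
  have hodd : Fintype.card K % 2 = 1 := by
    apply FiniteField.odd_card_of_char_ne_two
    intro h
    apply h2
    have := (ringChar.spec K 2).2 (by rw [h])
    exact_mod_cast this
  obtain ⟨p, q, h⟩ := FiniteField.exists_root_sum_quadratic (R := K) (f := Polynomial.X ^ 2 - Polynomial.C a)
    (g := Polynomial.C s * Polynomial.X ^ 2) (by compute_degree!) (by compute_degree!) hodd
  refine ⟨p, q, ?_⟩
  simp at h
  linear_combination h

theorem exists_wm_conj [Finite K] (h2 : (2 : K) ≠ 0) {s : K} (hs : s ≠ 0) {a : K} (ha : a ≠ 0) :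
    ∃ v : SL2 K, v * wm 1 one_ne_zero * (conjGL (dgl s hs) v)⁻¹ = wm 1 one_ne_zero * dg a ha := by
  obtain ⟨p, q, h⟩ := exists_quad h2 hs a⁻¹
  have hdet : p * (a * p) - q * (-(a * s * q)) = 1 := by
    have : a * (p ^ 2 + s * q ^ 2) = 1 := by rw [h, mul_inv_cancel₀ ha]
    linear_combination this
  refine ⟨mk p q (-(a * s * q)) (a * p) hdet, ?_⟩
  rw [mul_inv_eq_iff_eq_mul, conjGL_dgl_ent]
  refine ext_ent ?_ ?_ ?_ ?_ <;>
    simp only [ent_mul, mk_00, mk_01, mk_10, mk_11, wm_00, wm_01, wm_10, wm_11, dg_00, dg_01, dg_10, dg_11] <;>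
    field_simp <;> ring

/-- the square of `x` in the coset of `dgl s` -/
theorem sq_cases {s : K} (hs : s ≠ 0) (x : SL2 K) (e : K) (he : e * e = 1)
    (h00 : ent (x * conjGL (dgl s hs) x) 0 0 = e * s⁻¹) (h01 : ent (x * conjGL (dgl s hs) x) 0 1 = 0)
    (h10 : ent (x * conjGL (dgl s hs) x) 1 0 = 0) :
    ent x 0 0 * s + ent x 1 1 = 0 ∨ ∃ (a : K) (ha : a ≠ 0), x = dg a ha ∧ s = (a ^ 2)⁻¹ := by
  have hd := det_eq x
  rw [conjGL_dgl_ent] at h00 h01 h10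
  simp only [ent_mul, mk_00, mk_01, mk_10, mk_11] at h00 h01 h10
  by_cases h : ent x 0 0 * s + ent x 1 1 = 0
  · exact Or.inl h
  right
  have hb : ent x 0 1 = 0 := by
    have : ent x 0 1 * (ent x 0 0 * s + ent x 1 1) = 0 := by linear_combination h01
    rcases mul_eq_zero.1 this with h' | h'
    · exact h'
    · exact absurd h' h
  have hc : ent x 1 0 = 0 := by
    have : ent x 1 0 * (ent x 0 0 * s + ent x 1 1) = 0 := by
      field_simp at h10
      linear_combination h10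
    rcases mul_eq_zero.1 this with h' | h'
    · exact h'
    · exact absurd h' h
  rw [hb, zero_mul, sub_zero] at hd
  rw [hb, zero_mul, add_zero] at h00
  have ha : ent x 0 0 ≠ 0 := by
    intro h0
    rw [h0, zero_mul] at hd
    exact zero_ne_one hd
  refine ⟨ent x 0 0, ha, ?_, ?_⟩
  · refine ext_ent rfl hb hc ?_
    rw [dg_11]
    field_simp
    linear_combination hd
  · -- `a² = e s⁻¹`, `e = 1`
    have h3 : ent x 0 0 ^ 2 * s = e := by
      have h6 : ent x 0 0 * ent x 0 0 * s = e * s⁻¹ * s := by rw [h00]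
      rw [mul_assoc e, inv_mul_cancel₀ hs, mul_one] at h6
      linear_combination h6
    have h4 : ent x 0 0 * (ent x 0 0 * s + ent x 1 1) = e + 1 := by linear_combination h3 + hd
    have h5 : e = 1 := by
      have : (e - 1) * (e + 1) = 0 := by linear_combination he
      rcases mul_eq_zero.1 this with h' | h'
      · exact sub_eq_zero.1 h'
      · rw [h'] at h4
        exact absurd h4 (mul_ne_zero ha h)
    rw [h5] at h3
    field_simp
    linear_combination h3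

theorem sl_sq_one (h2 : (2 : K) ≠ 0) {x : SL2 K} (h : x * x = 1) :
    x = 1 ∨ x = dg (-1) (neg_ne_zero.2 one_ne_zero) := by
  have hd := det_eq x
  have h00 := congrArg (fun y => ent y 0 0) h
  have h01 := congrArg (fun y => ent y 0 1) h
  have h10 := congrArg (fun y => ent y 1 0) h
  simp only [ent_mul, ent_one_00, ent_one_01, ent_one_10] at h00 h01 h10
  have hs : ent x 0 0 + ent x 1 1 ≠ 0 := by
    intro h3
    apply h2
    linear_combination -h00 + ent x 0 0 * h3 - hd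
  have hb : ent x 0 1 = 0 := by
    have : ent x 0 1 * (ent x 0 0 + ent x 1 1) = 0 := by linear_combination h01
    rcases mul_eq_zero.1 this with h' | h'
    · exact h'
    · exact absurd h' hs
  have hc : ent x 1 0 = 0 := by
    have : ent x 1 0 * (ent x 0 0 + ent x 1 1) = 0 := by linear_combination h10
    rcases mul_eq_zero.1 this with h' | h'
    · exact h'
    · exact absurd h' hs
  rw [hb, zero_mul, add_zero] at h00
  rw [hb, zero_mul, sub_zero] at hd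
  have h3 : (ent x 0 0 - 1) * (ent x 0 0 + 1) = 0 := by linear_combination h00
  rcases mul_eq_zero.1 h3 with h' | h'
  · left
    have ha : ent x 0 0 = 1 := sub_eq_zero.1 h'
    rw [ha, one_mul] at hd
    exact ext_ent ha hb hc hd
  · right
    have ha : ent x 0 0 = -1 := eq_neg_of_add_eq_zero_left h'
    rw [ha] at hd
    refine ext_ent ha hb hc ?_
    rw [dg_11, inv_neg, inv_one]
    linear_combination -hd

end sl

namespace HexGrp

universe u

variable {E : Type*} [Field E] {σ : E ≃+* E} {L : Type u} [Group L] (c : HexGrp σ L)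

theorem two_ne (h2 : (2 : E) ≠ 0) : (2 : ↥(fx σ)) ≠ 0 := fun h => h2 (congrArg Subtype.val h)

/-- a representative of the longest element of the Weyl group -/
def y : L := c.n1 * c.n4

theorem maps_y : Maps c.X c.y (fun k => k + 6) :=
  (c.maps_n1.mul c.maps_n4).congr fun k => by
    simp only [Function.comp]
    ring

theorem act_y {g : L} {c1 c6 : E} (h : c.Act g c1 c6) : c.Act (c.y * g * c.y⁻¹) c1⁻¹ c6⁻¹ := by
  obtain ⟨t, ht⟩ : ∃ t : L, t = (alt c.n1 c.n6 6)⁻¹ * c.y := ⟨_, rfl⟩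
  have hT : t ∈ c.T0 := by
    have h1 : t = (c.n6⁻¹ * (c.n1 * c.n1)⁻¹ * c.n6) * (c.n6 * c.n6)⁻¹ := by
      rw [ht, HexGrp.y, n4_eq]
      simp only [alt]
      group
    rw [h1]
    refine mul_mem (inv_conj_T0 n6_sq ?_ (inv_mem n1_sq)) (inv_mem n6_sq)
    rintro h ⟨c1, c6, h1⟩
    exact ⟨_, _, h1.n6⟩
  have hy : c.y = alt c.n1 c.n6 6 * t := by rw [ht]; group
  have hc := c.T0_comm hT ⟨_, _, h⟩
  refine h.alt1.congr ?_ rfl rfl
  rw [hy]
  calc alt c.n1 c.n6 6 * g * (alt c.n1 c.n6 6)⁻¹ = alt c.n1 c.n6 6 * (g * t) * t⁻¹ * (alt c.n1 c.n6 6)⁻¹ := by group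
    _ = _ := by rw [← hc]; group

theorem y_conj {g : L} (h : g ∈ c.T0) : c.y * g * c.y⁻¹ = g⁻¹ := by
  obtain ⟨c1, c6, h⟩ := h
  exact (c.act_y h).unique h.inv

theorem y_conj' {g : L} (h : g ∈ c.T0) : c.y⁻¹ * g * c.y = g⁻¹ := by
  have h1 := c.y_conj (inv_mem h)
  rw [inv_inv] at h1
  calc c.y⁻¹ * g * c.y = c.y⁻¹ * (c.y * g⁻¹ * c.y⁻¹) * c.y := by rw [h1]
    _ = g⁻¹ := by group

/-- the commutator of `y` and `n6` -/
def t0 : L := c.y⁻¹ * c.n6 * c.y * c.n6⁻¹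

theorem t0_mem [Finite E] (h2 : (2 : E) ≠ 0) : c.t0 ∈ c.T0 := by
  refine c.mem_T0_of_comm h2 ?_ fun t ht => ?_
  · have h1 := (((c.maps_y.inv (g := fun k => k - 6) fun k => by ring).mul c.maps_n6).mul c.maps_y).mul
      (c.maps_n6.inv (g := fun k => 6 - k) fun k => by ring)
    refine h1.congr fun k => ?_
    simp only [Function.comp, id]
    have : (12 : ZMod (2 * 6)) = 0 := by decide
    linear_combination (-1 : ZMod (2 * 6)) * this
  · have h1 : c.n6⁻¹ * t * c.n6 ∈ c.T0 := by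
      refine inv_conj_T0 n6_sq ?_ ht
      rintro h ⟨c1, c6, h1⟩
      exact ⟨_, _, h1.n6⟩
    have h3 := c.y_conj h1
    have h4 := c.y_conj' (inv_mem ht)
    rw [inv_inv] at h4
    have h5 : c.t0 * t * c.t0⁻¹ = t := by
      calc c.t0 * t * c.t0⁻¹ = c.y⁻¹ * (c.n6 * (c.y * (c.n6⁻¹ * t * c.n6) * c.y⁻¹) * c.n6⁻¹) * c.y := by
            rw [t0]; group
        _ = c.y⁻¹ * t⁻¹ * c.y := by rw [h3]; group
        _ = t := h4
    calc t * c.t0 = (c.t0 * t * c.t0⁻¹) * c.t0 := by rw [h5]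
      _ = c.t0 * t := by group

theorem conj_p4 [Finite E] (h2 : (2 : E) ≠ 0) (v w : SL2 ↥(fx σ)) (x : SL2 E) {h : L} {c1 c6 : E} (hA : c.Act h c1 c6) :
    c.p4 v * (c.pb x * c.p4 w * h) * (c.p4 v)⁻¹ =
      c.pb x * c.p4 (v * w * (conjGL (dgl (⟨c6 ^ 2 * nrm σ c1, hA.fix4⟩ : ↥(fx σ)) (sub_ne _ hA.ne4)) v)⁻¹) * h := by
  have h1 := hA.p4 h2 v
  rw [map_mul, map_mul, map_inv, ← h1]
  have h3 := c.comm_pb_p4 x v
  calc c.p4 v * (c.pb x * c.p4 w * h) * (c.p4 v)⁻¹ = (c.p4 v * c.pb x) * c.p4 w * h * (c.p4 v)⁻¹ := by group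
    _ = _ := by rw [← h3]; group

theorem conj_pb (v x : SL2 E) (w : SL2 ↥(fx σ)) {h : L} {c1 c6 : E} (hA : c.Act h c1 c6) :
    c.pb v * (c.pb x * c.p4 w * h) * (c.pb v)⁻¹ =
      c.pb (v * x * (conjGL (dgl c1 hA.ne1) v)⁻¹) * c.p4 w * h := by
  have h1 := hA.pb v
  obtain ⟨v', hv'⟩ : ∃ v', v' = conjGL (dgl c1 hA.ne1) v := ⟨_, rfl⟩
  rw [← hv'] at h1 ⊢
  rw [map_mul, map_mul, map_inv]
  have h3 := c.comm_pb_p4 v'⁻¹ w
  rw [map_inv] at h3
  calc c.pb v * (c.pb x * c.p4 w * h) * (c.pb v)⁻¹ = c.pb v * c.pb x * c.p4 w * (h * c.pb v * h⁻¹)⁻¹ * h := by group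
    _ = c.pb v * c.pb x * (c.p4 w * (c.pb v')⁻¹) * h := by rw [h1]; group
    _ = _ := by rw [← h3]; group

theorem isConj_p4 [Finite E] (h2 : (2 : E) ≠ 0) {h : L} (hh : h ∈ c.T0) {a : ↥(fx σ)} (ha : a ≠ 0) :
    IsConj (c.y * h) (c.y * (c.p4 (dg a ha) * h)) := by
  obtain ⟨c1, c6, hA⟩ := hh
  obtain ⟨v, hv⟩ := exists_wm_conj (two_ne h2)
    (s := (⟨c6 ^ 2 * nrm σ c1, hA.fix4⟩ : ↥(fx σ))) (sub_ne _ hA.ne4) ha
  rw [isConj_iff]
  refine ⟨c.p4 v, ?_⟩
  have h1 := c.conj_p4 h2 v (wm 1 one_ne_zero) (wm 1 one_ne_zero) hA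
  rw [hv, map_mul] at h1
  calc _ = c.p4 v * (c.pb (wm 1 one_ne_zero) * c.p4 (wm 1 one_ne_zero) * h) * (c.p4 v)⁻¹ := rfl
    _ = _ := by
      rw [h1]
      unfold y n1 n4
      group

theorem isConj_sq {h d : L} (hh : h ∈ c.T0) (hd : d ∈ c.T0) : IsConj (c.y * h) (c.y * (h * (d * d)⁻¹)) := by
  rw [isConj_iff]
  refine ⟨d, ?_⟩
  have h1 := c.y_conj' hd
  have h3 := c.T0_comm (inv_mem hd) hh
  calc d * (c.y * h) * d⁻¹ = c.y * (c.y⁻¹ * d * c.y) * h * d⁻¹ := by group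
    _ = c.y * (d⁻¹ * h) * d⁻¹ := by rw [h1]; group
    _ = _ := by rw [h3]; group

theorem isConj_n6 (h : L) : IsConj (c.y * h) (c.y * (c.t0 * (c.n6 * h * c.n6⁻¹))) := by
  rw [isConj_iff]
  refine ⟨c.n6, ?_⟩
  rw [t0]
  group

omit [Group L] c in
theorem sq_nrm [Finite E] (u : E) : ∃ d : E, u * nrm σ u = d * d := by
  obtain ⟨d, hd⟩ := Cfsg.Agent.Lib.AutSL2Out.isSquare_mul_map σ (σ u)
  refine ⟨u * d, ?_⟩
  unfold nrm
  linear_combination (u * u) * hd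

theorem isConj_y [Finite E] (h2 : (2 : E) ≠ 0) {h : L} (hh : h ∈ c.T0) : IsConj (c.y * h) c.y := by
  obtain ⟨c1, c6, hA⟩ := hh
  obtain ⟨e1, e6, hT⟩ := c.t0_mem h2
  obtain ⟨u, hu⟩ : ∃ u : E, u = e1 * (c6 * c1) := ⟨_, rfl⟩
  have hu0 : u ≠ 0 := by rw [hu]; exact mul_ne_zero hT.ne1 (mul_ne_zero hA.ne6 hA.ne1)
  obtain ⟨d, hd⟩ := sq_nrm (σ := σ) u
  have hN := nrm_ne (σ := σ) hu0
  have hd0 : d ≠ 0 := by
    rintro rfl
    rw [mul_zero] at hd
    exact mul_ne_zero hu0 hN hd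
  have haf : σ (nrm σ u) = nrm σ u := c.nf u
  have s1 := c.isConj_p4 h2 ⟨_, _, hA⟩ (sub_ne haf hN)
  have hA1 := (c.act_p4_dg ⟨nrm σ u, haf⟩ (sub_ne haf hN)).mul hA
  have s2 := c.isConj_n6 (c.p4 (dg ⟨nrm σ u, haf⟩ (sub_ne haf hN)) * h)
  have hA2 := hT.mul hA1.n6
  obtain ⟨d', hd'⟩ := c.exists_act' h2 hd0 one_ne_zero (map_one σ)
  have s3 := c.isConj_sq ⟨_, _, hA2⟩ ⟨_, _, hd'⟩
  have hA3 := hA2.mul (hd'.mul hd').inv
  have s4 := c.isConj_p4 h2 ⟨_, _, hA3⟩ (a := (⟨_, hA3.fix⟩ : ↥(fx σ))⁻¹) (inv_ne_zero (sub_ne hA3.fix hA3.ne6))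
  have hA4 := (c.act_p4_dg (⟨_, hA3.fix⟩ : ↥(fx σ))⁻¹ (inv_ne_zero (sub_ne hA3.fix hA3.ne6))).mul hA3
  have e4 := (hA4.congr rfl (d1 := 1) (d6 := 1) (by
    rw [show ((⟨nrm σ u, haf⟩ : ↥(fx σ)) : E) = nrm σ u from rfl]
    have : e1 * (nrm σ u * c6 * (1 * c1)) = d * d := by rw [← hd, hu]; ring
    rw [this]
    field_simp) (by
    exact inv_mul_cancel₀ hA3.ne6)).eq_one
  rw [e4, mul_one] at s4
  exact s1.trans (s2.trans (s3.trans s4))

/-- the second involution of the torus -/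
def z0 : L := c.pa (dg (-1) (neg_ne_zero.2 one_ne_zero))

theorem act_z0 : c.Act c.z0 (-1) 1 := by
  refine (c.act_a (-1) (neg_ne_zero.2 one_ne_zero)).congr rfl ?_ ?_
  · rw [show (((-1 : ↥(fx σ)) : E)) = -1 from rfl, inv_neg, inv_one]
  · rw [show (((-1 : ↥(fx σ)) : E)) = -1 from rfl]
    ring

theorem z0_sq : c.z0 * c.z0 = 1 := by
  have h := c.act_z0.mul c.act_z0
  rw [one_mul, neg_mul_neg, one_mul] at h
  exact h.eq_one

theorem z0_x1 : c.z0 * c.x1 1 * c.z0⁻¹ = c.x1 (-1) := by rw [c.act_z0.a1, mul_one]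

theorem x1_ne (h2 : (2 : E) ≠ 0) : c.x1 (-1) ≠ c.x1 1 := by
  intro h
  have := c.x1_inj h
  exact h2 (by linear_combination -this)

theorem z0_ne_one (h2 : (2 : E) ≠ 0) : c.z0 ≠ 1 := by
  intro h
  have h1 := c.z0_x1
  rw [h, one_mul, inv_one, mul_one] at h1
  exact c.x1_ne h2 h1.symm

theorem z0_ne_z (h2 : (2 : E) ≠ 0) : c.z0 ≠ c.z := by
  intro h
  have h1 := c.z0_x1
  rw [h, c.z_x1] at h1
  exact c.x1_ne h2 h1.symm

theorem isConj_z0 : IsConj c.z c.z0 := by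
  rw [isConj_iff]
  refine ⟨(c.n6 * c.n1)⁻¹, ?_⟩
  rw [z_eq_p4, p4_apply, z0]
  group

theorem z0_z : c.z0 * c.z = c.z * c.z0 := c.T0_comm ⟨_, _, c.act_z0⟩ ⟨_, _, c.act_z⟩

theorem p4_sq (h2 : (2 : E) ≠ 0) {w : SL2 ↥(fx σ)} (h : c.p4 w * c.p4 w = 1) : c.p4 w = 1 ∨ c.p4 w = c.z := by
  rw [← map_mul] at h
  have h1 := c.p4_inj (h.trans (map_one c.p4).symm)
  rcases sl_sq_one (two_ne h2) h1 with rfl | rfl
  · left; exact map_one _
  · right; exact c.z_eq_p4.symm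

theorem pb_sq (h2 : (2 : E) ≠ 0) {x : SL2 E} (h : c.pb x * c.pb x = 1) : c.pb x = 1 ∨ c.pb x = c.z := by
  rw [← map_mul] at h
  have h1 := c.pb_inj h2 (h.trans (map_one c.pb).symm)
  rcases sl_sq_one h2 h1 with rfl | rfl
  · left; exact map_one _
  · right; rfl

theorem pb_of_cases (h2 : (2 : E) ≠ 0) {x : SL2 E} (h : c.pb x = 1 ∨ c.pb x = c.z) :
    x = 1 ∨ x = dg (-1) (neg_ne_zero.2 one_ne_zero) := by
  rcases h with h | h
  · left; exact c.pb_inj h2 (h.trans (map_one c.pb).symm)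
  · right; exact c.pb_inj h2 h

theorem p4_of_cases {x : SL2 ↥(fx σ)} (h : c.p4 x = 1 ∨ c.p4 x = c.z) :
    x = 1 ∨ x = dg (-1) (neg_ne_zero.2 one_ne_zero) := by
  rcases h with h | h
  · left; exact c.p4_inj (h.trans (map_one c.p4).symm)
  · right; exact c.p4_inj (h.trans c.z_eq_p4)

omit c in
/-- the entries of `x * conjGL x` -/
theorem ent_cases {K : Type*} [Field K] {s : K} (hs : s ≠ 0) {X : SL2 K}
    (h : X * (dg s hs)⁻¹ = 1 ∨ X * (dg s hs)⁻¹ = dg (-1) (neg_ne_zero.2 one_ne_zero)) :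
    ∃ e : K, e * e = 1 ∧ ent X 0 0 = e * s ∧ ent X 0 1 = 0 ∧ ent X 1 0 = 0 := by
  rcases h with h | h
  · rw [mul_inv_eq_one] at h
    refine ⟨1, one_mul 1, ?_, ?_, ?_⟩ <;> rw [h] <;> simp
  · rw [mul_inv_eq_iff_eq_mul] at h
    refine ⟨-1, by ring, ?_, ?_, ?_⟩ <;> rw [h] <;> simp [ent_mul]

/-- **Every involution of `C(z)` other than `z` is conjugate to `y`.** -/
theorem isConj_of_mem_CZ [Finite E] (h2 : (2 : E) ≠ 0) {t : L} (ht : t * c.z = c.z * t) (hsq : t * t = 1)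
    (h1 : t ≠ 1) (hz : t ≠ c.z) : IsConj t c.y := by
  obtain ⟨x, w, s, hs, rfl⟩ := c.mem_CZ_form h2 ht
  have hs' : (s : E) ≠ 0 := fun h => hs (Subtype.ext h)
  obtain ⟨h0, hh0⟩ : ∃ h0 : L, h0 = c.pa (dg s hs) := ⟨_, rfl⟩
  have hA : c.Act h0 (s : E)⁻¹ ((s : E) ^ 2) := by rw [hh0]; exact c.act_a s hs
  -- the square
  obtain ⟨x', hx'⟩ : ∃ x', x' = conjGL (dgl (s : E)⁻¹ hA.ne1) x := ⟨_, rfl⟩
  obtain ⟨w', hw'⟩ : ∃ w', w' = conjGL (dgl s hs) w := ⟨_, rfl⟩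
  have e1 : h0 * c.pb x * h0⁻¹ = c.pb x' := by rw [hx']; exact hA.pb x
  have e4 : h0 * c.p4 w * h0⁻¹ = c.p4 w' := by rw [hw', hh0]; exact c.pa_dg_p4 h2 s hs w
  have e0 : h0 * h0 = (c.pb (dg (s : E) hs'))⁻¹ * c.p4 (dg s hs) := by
    rw [hh0, ← map_mul, dg_mul_dg]
    have := c.pa_dg_sq s hs
    rw [← this]
    congr 1
    refine ext_ent ?_ ?_ ?_ ?_ <;> simp <;> ring
  have e5 : c.pb (x * x' * (dg (s : E) hs')⁻¹) * c.p4 (w * w' * dg s hs) = 1 := by
    rw [← hsq, ← hh0]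
    have k1 := c.comm_pb_p4 x' w
    have k2 := c.comm_pb_p4 (dg (s : E) hs')⁻¹ (w * w')
    simp only [map_mul, map_inv] at k2 ⊢
    calc c.pb x * c.pb x' * (c.pb (dg (s : E) hs'))⁻¹ * (c.p4 w * c.p4 w' * c.p4 (dg s hs))
        = c.pb x * c.pb x' * ((c.pb (dg (s : E) hs'))⁻¹ * (c.p4 w * c.p4 w')) * c.p4 (dg s hs) := by group
      _ = c.pb x * (c.pb x' * c.p4 w) * c.p4 w' * ((c.pb (dg (s : E) hs'))⁻¹ * c.p4 (dg s hs)) := by
        rw [k2]; group
      _ = c.pb x * (c.p4 w * c.pb x') * c.p4 w' * (h0 * h0) := by rw [k1, e0]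
      _ = c.pb x * c.p4 w * h0 * (c.pb x * c.p4 w * h0) := by rw [← e1, ← e4]; group
  have e6 : c.pb (x * x' * (dg (s : E) hs')⁻¹) = c.p4 (w * w' * dg s hs)⁻¹ := by
    rw [map_inv]
    exact eq_inv_of_mul_eq_one_left e5
  have e7 := c.eq_of_pb_eq_p4 e6
  have e8 : c.p4 (w * w' * dg s hs) = 1 ∨ c.p4 (w * w' * dg s hs) = c.z := by
    rw [e6, map_inv] at e7
    rcases e7 with h | h
    · left; exact inv_eq_one.1 h
    · right; rw [← inv_inv (c.p4 _), h, c.z_inv]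
  obtain ⟨e, he, f00, f01, f10⟩ := ent_cases hs' (c.pb_of_cases h2 e7)
  obtain ⟨e', he', g00, g01, g10⟩ := ent_cases (inv_ne_zero hs) (X := w * w') (by
    have : dg s hs = (dg s⁻¹ (inv_ne_zero hs))⁻¹ := by
      rw [eq_inv_iff_mul_eq_one, dg_mul_dg]
      refine ext_ent ?_ ?_ ?_ ?_ <;> simp [hs]
    rw [← this]
    exact c.p4_of_cases e8)
  -- the two traces
  have tx : ent x 0 0 * (s : E)⁻¹ + ent x 1 1 = 0 := by
    rcases sq_cases (hA.ne1) x e he (by rw [← hx', inv_inv]; exact f00) (by rw [← hx']; exact f01)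
      (by rw [← hx']; exact f10) with h | ⟨a, ha, hxa, hsa⟩
    · exact h
    · exfalso
      have hK : ∀ v, c.pb x * c.p4 w * c.pa (dg s hs) * c.pb v = c.pb v * (c.pb x * c.p4 w * c.pa (dg s hs)) := by
        intro v
        rw [← hh0]
        have k := hA.pb v
        have k2 : x * conjGL (dgl (s : E)⁻¹ hA.ne1) v * x⁻¹ = v := by
          rw [hxa, conjGL_dgl_ent, mul_inv_eq_iff_eq_mul]
          refine ext_ent ?_ ?_ ?_ ?_ <;>
            simp only [ent_mul, mk_00, mk_01, mk_10, mk_11, dg_00, dg_01, dg_10, dg_11, hsa] <;>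
            field_simp <;> ring
        have k3 := c.comm_pb_p4 (conjGL (dgl (s : E)⁻¹ hA.ne1) v) w
        calc c.pb x * c.p4 w * h0 * c.pb v = c.pb x * c.p4 w * (h0 * c.pb v * h0⁻¹) * h0 := by group
          _ = c.pb x * (c.p4 w * c.pb (conjGL (dgl (s : E)⁻¹ hA.ne1) v)) * h0 := by rw [k]; group
          _ = c.pb x * c.pb (conjGL (dgl (s : E)⁻¹ hA.ne1) v) * (c.pb x)⁻¹ * (c.pb x * c.p4 w * h0) := by
            rw [← k3]; group
          _ = _ := by rw [← map_mul, ← map_inv, ← map_mul, k2]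
      obtain ⟨w2, hw2⟩ := c.centralizer_K1 h2 hK
      rw [← hw2] at hsq h1 hz
      rcases c.p4_sq h2 hsq with h | h
      · exact h1 h
      · exact hz h
  have tw : ent w 0 0 * s + ent w 1 1 = 0 := by
    rcases sq_cases hs w e' he' (by rw [← hw']; exact g00) (by rw [← hw']; exact g01)
      (by rw [← hw']; exact g10) with h | ⟨a, ha, hxa, hsa⟩
    · exact h
    · exfalso
      have hK : ∀ v, c.pb x * c.p4 w * c.pa (dg s hs) * c.p4 v = c.p4 v * (c.pb x * c.p4 w * c.pa (dg s hs)) := by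
        intro v
        rw [← hh0]
        have k : h0 * c.p4 v * h0⁻¹ = c.p4 (conjGL (dgl s hs) v) := by rw [hh0]; exact c.pa_dg_p4 h2 s hs v
        have k2 : w * conjGL (dgl s hs) v * w⁻¹ = v := by
          rw [hxa, conjGL_dgl_ent, mul_inv_eq_iff_eq_mul]
          refine ext_ent ?_ ?_ ?_ ?_ <;>
            simp only [ent_mul, mk_00, mk_01, mk_10, mk_11, dg_00, dg_01, dg_10, dg_11, hsa] <;>
            field_simp <;> ring
        have k3 := c.comm_pb_p4 x v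
        calc c.pb x * c.p4 w * h0 * c.p4 v = c.pb x * c.p4 w * (h0 * c.p4 v * h0⁻¹) * h0 := by group
          _ = c.pb x * (c.p4 w * c.p4 (conjGL (dgl s hs) v) * (c.p4 w)⁻¹) * c.p4 w * h0 := by rw [k]; group
          _ = c.pb x * c.p4 v * c.p4 w * h0 := by rw [← map_mul, ← map_inv, ← map_mul, k2]
          _ = _ := by rw [k3]; group
      obtain ⟨w2, hw2⟩ := c.centralizer_K4 h2 hK
      rw [← hw2] at hsq h1 hz
      rcases c.pb_sq h2 hsq with h | h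
      · exact h1 h
      · exact hz h
  obtain ⟨v1, b1, hb1, k1⟩ := exists_anti h2 (hA.ne1) x tx
  obtain ⟨v4, b4, hb4, k4⟩ := exists_anti (two_ne h2) hs w tw
  have i1 : IsConj (c.pb x * c.p4 w * c.pa (dg s hs)) (c.pb (wm b1 hb1) * c.p4 w * c.pa (dg s hs)) := by
    rw [isConj_iff]
    refine ⟨c.pb v1, ?_⟩
    rw [← hh0, c.conj_pb v1 x w hA, k1]
  have i4 : IsConj (c.pb (wm b1 hb1) * c.p4 w * c.pa (dg s hs))
      (c.pb (wm b1 hb1) * c.p4 (wm b4 hb4) * c.pa (dg s hs)) := by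
    rw [isConj_iff]
    refine ⟨c.p4 v4, ?_⟩
    rw [← k4, map_mul, map_mul, map_inv, ← c.pa_dg_p4 h2 s hs v4]
    have k3 := c.comm_pb_p4 (wm b1 hb1) v4
    calc c.p4 v4 * (c.pb (wm b1 hb1) * c.p4 w * c.pa (dg s hs)) * (c.p4 v4)⁻¹
        = (c.p4 v4 * c.pb (wm b1 hb1)) * c.p4 w * c.pa (dg s hs) * (c.p4 v4)⁻¹ := by group
      _ = _ := by rw [← k3]; group
  refine i1.trans (i4.trans ?_)
  have hwm : ∀ {K : Type _} [Field K] (b : K) (hb : b ≠ 0), wm b hb = wm 1 one_ne_zero * dg b⁻¹ (inv_ne_zero hb) := by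
    intro K _ b hb
    refine ext_ent ?_ ?_ ?_ ?_ <;> simp [ent_mul]
  have hT1 := c.act_b b1⁻¹ (inv_ne_zero hb1)
  have hT4 := c.act_p4_dg b4⁻¹ (inv_ne_zero hb4)
  have hTa := c.act_a s hs
  have e : c.pb (wm b1 hb1) * c.p4 (wm b4 hb4) * c.pa (dg s hs) =
      c.y * (c.pb (dg b1⁻¹ (inv_ne_zero hb1)) * c.p4 (dg b4⁻¹ (inv_ne_zero hb4)) * c.pa (dg s hs)) := by
    rw [hwm b1 hb1, hwm b4 hb4, map_mul, map_mul]
    have k3 := c.comm_pb_p4 (dg b1⁻¹ (inv_ne_zero hb1)) (wm 1 one_ne_zero)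
    calc c.pb (wm 1 one_ne_zero) * c.pb (dg b1⁻¹ (inv_ne_zero hb1)) *
          (c.p4 (wm 1 one_ne_zero) * c.p4 (dg b4⁻¹ (inv_ne_zero hb4))) * c.pa (dg s hs)
        = c.pb (wm 1 one_ne_zero) * (c.pb (dg b1⁻¹ (inv_ne_zero hb1)) *
          c.p4 (wm 1 one_ne_zero)) * c.p4 (dg b4⁻¹ (inv_ne_zero hb4)) * c.pa (dg s hs) := by group
      _ = _ := by
        rw [k3]
        unfold y n1 n4
        group
  rw [e]
  exact c.isConj_y h2 (mul_mem (mul_mem ⟨_, _, hT1⟩ ⟨_, _, hT4⟩) ⟨_, _, hTa⟩)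

theorem isConj_z_y [Finite E] (h2 : (2 : E) ≠ 0) : IsConj c.z c.y :=
  c.isConj_z0.trans (c.isConj_of_mem_CZ h2 c.z0_z c.z0_sq (c.z0_ne_one h2) (c.z0_ne_z h2))

omit c in
/-- two involutions are conjugate or commute with a third one -/
theorem dihedral_cases [Finite L] {s t : L} (hs : s * s = 1) (ht : t * t = 1) :
    IsConj s t ∨ ∃ w : L, w * w = 1 ∧ w ≠ 1 ∧ w * s = s * w ∧ w * t = t * w := by
  obtain ⟨r, hr⟩ : ∃ r : L, r = s * t := ⟨_, rfl⟩
  have hsi : s⁻¹ = s := inv_eq_of_mul_eq_one_right hs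
  have hti : t⁻¹ = t := inv_eq_of_mul_eq_one_right ht
  have hri : r⁻¹ = t * s := by rw [hr, mul_inv_rev, hsi, hti]
  have h1 : s * r * s⁻¹ = r⁻¹ := by
    rw [hri, hr, hsi]
    calc s * (s * t) * s = (s * s) * t * s := by group
      _ = t * s := by rw [hs, one_mul]
  have h3 : t * r * t⁻¹ = r⁻¹ := by
    rw [hri, hr, hti]
    calc t * (s * t) * t = t * s * (t * t) := by group
      _ = t * s := by rw [ht, mul_one]
  have hp : ∀ n : ℕ, s * r ^ n * s⁻¹ = (r ^ n)⁻¹ := by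
    intro n
    rw [← conj_pow, h1, inv_pow]
  have hp' : ∀ n : ℕ, t * r ^ n * t⁻¹ = (r ^ n)⁻¹ := by
    intro n
    rw [← conj_pow, h3, inv_pow]
  rcases Nat.even_or_odd (orderOf r) with he | ho
  · right
    obtain ⟨m, hm⟩ := he
    have hpos := orderOf_pos r
    have hm0 : r ^ m ≠ 1 := by
      intro h
      have := orderOf_dvd_of_pow_eq_one h
      have := Nat.le_of_dvd (by omega) this
      omega
    have hm2 : r ^ m * r ^ m = 1 := by rw [← pow_add, ← hm, pow_orderOf_eq_one]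
    have hinv : (r ^ m)⁻¹ = r ^ m := inv_eq_of_mul_eq_one_right hm2
    refine ⟨r ^ m, hm2, hm0, ?_, ?_⟩
    · have := hp m
      rw [hinv, mul_inv_eq_iff_eq_mul] at this
      exact this.symm
    · have := hp' m
      rw [hinv, mul_inv_eq_iff_eq_mul] at this
      exact this.symm
  · left
    obtain ⟨m, hm⟩ := ho
    rw [isConj_iff]
    refine ⟨r ^ m, ?_⟩
    have h5 : r ^ m * s = s * (r ^ m)⁻¹ := by
      have := hp m
      rw [mul_inv_eq_iff_eq_mul] at this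
      calc r ^ m * s = r ^ m * (s * r ^ m) * (r ^ m)⁻¹ := by group
        _ = _ := by rw [this]; group
    have h6 : r ^ m * r ^ m = r⁻¹ := by
      rw [eq_inv_iff_mul_eq_one, ← pow_add, ← pow_succ, ← two_mul, ← hm, pow_orderOf_eq_one]
    have h7 : (r ^ m)⁻¹ * (r ^ m)⁻¹ = r := by rw [← mul_inv_rev, h6, inv_inv]
    rw [h5, mul_assoc, h7, hr, ← mul_assoc, hs, one_mul]

/-- **One class of involutions.** -/
theorem isConj_z [Finite E] [Finite L] (h2 : (2 : E) ≠ 0) {t : L} (ht : t * t = 1) (h1 : t ≠ 1) : IsConj t c.z := by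
  have key : ∀ s : L, s * c.z = c.z * s → s * s = 1 → s ≠ 1 → IsConj s c.z := by
    intro s hs hs2 hs1
    by_cases hz : s = c.z
    · rw [hz]
    · exact (c.isConj_of_mem_CZ h2 hs hs2 hs1 hz).trans (c.isConj_z_y h2).symm
  rcases dihedral_cases ht c.z_sq with h | ⟨w, hw2, hw1, hwt, hwz⟩
  · exact h
  · obtain ⟨g, hg⟩ := isConj_iff.1 (key w hwz hw2 hw1)
    have k1 : IsConj t (g * t * g⁻¹) := isConj_iff.2 ⟨g, rfl⟩
    refine k1.trans (key _ ?_ ?_ ?_)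
    · rw [← hg]
      calc g * t * g⁻¹ * (g * w * g⁻¹) = g * (t * w) * g⁻¹ := by group
        _ = g * w * g⁻¹ * (g * t * g⁻¹) := by rw [← hwt]; group
    · calc g * t * g⁻¹ * (g * t * g⁻¹) = g * (t * t) * g⁻¹ := by group
        _ = 1 := by rw [ht]; group
    · intro h
      apply h1
      calc t = g⁻¹ * (g * t * g⁻¹) * g := by group
        _ = 1 := by rw [h]; group

include c in
theorem isConj_invol [Finite E] [Finite L] (h2 : (2 : E) ≠ 0) {s t : L} (hs : s * s = 1) (hs1 : s ≠ 1)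
    (ht : t * t = 1) (ht1 : t ≠ 1) : IsConj s t :=
  (c.isConj_z h2 hs hs1).trans (c.isConj_z h2 ht ht1).symm

end HexGrp

end Cfsg.Agent.Cit.HexBase
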