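import Cfsg.Agent.Cit.HexForm
import Cfsg.Agent.Cit.HexInv

/-!
# Groups of type `G₂` and `³D₄`: involutory automorphisms trivial on `K 4` or on `K 1`
-/

set_option autoImplicit false

namespace Cfsg.Agent.Cit.HexBase

open Cfsg.Agent.SplitTwo Cfsg.Agent.TitsThree.RankTwoZ Cfsg.Agent.Lib.SL2Mat
  Cfsg.Agent.TitsThree.RankTwoIdx Cfsg.Agent.TitsThree.RankTwoRGD
open scoped commutatorElement Pointwise

/-- the radical of the trace form -/
def R0 {E : Type*} [Field E] (σ : E ≃+* E) (b : E) : Prop := ∀ s, trc σ s b = 0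

theorem R0_zero {E : Type*} [Field E] {σ : E ≃+* E} : R0 σ 0 := fun s => by
  unfold trc
  simp

theorem R0_cases {E : Type*} [Field E] (σ : E ≃+* E) : (∀ b, R0 σ b → b = 0) ∨ (∀ s b, trc σ s b = 0) := by
  by_cases h : ∀ b, R0 σ b → b = 0
  · exact Or.inl h
  · right
    push Not at h
    obtain ⟨b, hb, hb0⟩ := h
    intro s b'
    have := hb (s * b' / b)
    unfold trc at this ⊢
    rw [div_mul_cancel₀ _ hb0] at this
    exact this

theorem crs_self {E : Type*} [Field E] {σ : E ≃+* E} (b : E) : crs σ b b = 2 * shp σ b := by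
  unfold crs shp
  ring

theorem shp_ne {E : Type*} [Field E] {σ : E ≃+* E} {b : E} (h : b ≠ 0) : shp σ b ≠ 0 := by
  unfold shp
  exact mul_ne_zero ((map_ne_zero σ).2 h) ((map_ne_zero σ).2 ((map_ne_zero σ).2 h))

theorem inv3 {G : Type*} [Group G] {a b d : G} (h1 : a * b = b * a) (h2 : a * d = d * a) (h3 : b * d = d * b) :
    (a * b * d)⁻¹ = a⁻¹ * b⁻¹ * d⁻¹ := by
  have e : a * b * d = d * (b * a) := by
    calc a * b * d = a * (b * d) := by group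
      _ = (a * d) * b := by rw [h3]; group
      _ = d * (a * b) := by rw [h2]; group
      _ = d * (b * a) := by rw [h1]
  rw [e]
  group

theorem conj3 {G : Type*} [Group G] (z a b d : G) :
    z * (a * b * d) * z⁻¹ = (z * a * z⁻¹) * (z * b * z⁻¹) * (z * d * z⁻¹) := by group

namespace HexGrp

universe u

variable {E : Type*} [Field E] {σ : E ≃+* E} {L : Type u} [Group L] (c : HexGrp σ L)

/-- the elements of `Q 4` commuting with `X 1` and inverted by `z`, with their first coordinate -/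
def M1 (g : L) (a : E) : Prop := σ a = a ∧ ∃ b, R0 σ b ∧ g = c.x2 a * c.x3 b

/-- the elements of `Q 4` commuting with `X 7` and inverted by `z`, with their last coordinate -/
def M7 (g : L) (e : E) : Prop := σ e = e ∧ ∃ d, R0 σ d ∧ g = c.x6 e * c.x5 d

variable {c}

theorem M1.nf {g : L} {a : E} (h : c.M1 g a) : ∃ b, R0 σ b ∧ c.NF g a b 0 0 := by
  obtain ⟨fa, b, hb, rfl⟩ := h
  exact ⟨b, hb, ((c.nf2 fa).mul (c.nf3 b)).congr rfl (by ring) (by ring) (by ring) (by ring)⟩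

theorem M7.nf {g : L} {e : E} (h : c.M7 g e) : ∃ d, R0 σ d ∧ c.NF g 0 0 d e := by
  obtain ⟨fe, d, hd, rfl⟩ := h
  exact ⟨d, hd, ((c.nf6 fe).mul (c.nf5 d)).congr rfl (by ring) (by ring) (by ring) (by ring)⟩

theorem M1.unique {g : L} {a a' : E} (h : c.M1 g a) (h' : c.M1 g a') : a = a' := by
  obtain ⟨b, _, h⟩ := h.nf
  obtain ⟨b', _, h'⟩ := h'.nf
  exact (h.unique h').1

theorem M7.unique {g : L} {a a' : E} (h : c.M7 g a) (h' : c.M7 g a') : a = a' := by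
  obtain ⟨b, _, h⟩ := h.nf
  obtain ⟨b', _, h'⟩ := h'.nf
  exact (h.unique h').2.2.2

theorem m1_x2 {a : E} (ha : σ a = a) : c.M1 (c.x2 a) a := ⟨ha, 0, R0_zero, by rw [c.x3_zero, mul_one]⟩
theorem m7_x6 {a : E} (ha : σ a = a) : c.M7 (c.x6 a) a := ⟨ha, 0, R0_zero, by rw [c.x5_zero, mul_one]⟩

theorem x23 {a b : E} (ha : σ a = a) : c.x2 a * c.x3 b = c.x3 b * c.x2 a := eq_of_kk (c.par.rel.c23 a b ha)
theorem x24 {a b : E} (ha : σ a = a) (hb : σ b = b) : c.x2 a * c.x4 b = c.x4 b * c.x2 a :=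
  eq_of_kk (c.par.rel.c24 a b ha hb)
theorem x34 {a b : E} (hb : σ b = b) : c.x3 a * c.x4 b = c.x4 b * c.x3 a := eq_of_kk (c.par.rel.c34 a b hb)
theorem x56 {a b : E} (hb : σ b = b) : c.x5 a * c.x6 b = c.x6 b * c.x5 a := eq_of_kk (c.par.rel.c56 a b hb)

theorem M1.comm {g : L} {a : E} (h : c.M1 g a) {x : L} (hx : x ∈ c.X 1) : g * x = x * g := by
  obtain ⟨fa, b, hb, rfl⟩ := h
  obtain ⟨s, rfl⟩ := (c.par.mem1 _).1 hx
  have h2 := eq_of_kk (c.par.rel.c12 s a fa)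
  have h3 := eq_of_kk (a := c.x1 s) (b := c.x3 b) (by rw [c.par.rel.c13, hb s, c.x2_zero])
  rw [mul_assoc, ← h3, ← mul_assoc, ← h2, mul_assoc]

theorem M1.inv_z {g : L} {a : E} (h : c.M1 g a) : c.z * g * c.z⁻¹ = g⁻¹ := by
  obtain ⟨fa, b, hb, rfl⟩ := h
  have h1 : c.z * (c.x2 a * c.x3 b) * c.z⁻¹ = (c.z * c.x2 a * c.z⁻¹) * (c.z * c.x3 b * c.z⁻¹) := by group
  rw [h1, c.z_x2 fa, c.z_x3, c.x2_neg fa, c.x3_neg, x23 fa, mul_inv_rev]

theorem exists_M1 (h2 : (2 : E) ≠ 0) {g : L} (hg : g ∈ c.Q4) (h1 : ∀ x ∈ c.X 1, g * x = x * g)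
    (hz : c.z * g * c.z⁻¹ = g⁻¹) : ∃ a, c.M1 g a := by
  obtain ⟨b2, b3, b5, b6, hn⟩ := c.exists_NF hg
  have hn' := hn
  obtain ⟨f2, f6, b4, f4, rfl⟩ := hn'
  have key : ∀ s, b2 - trc σ s b3 + trc σ (shp σ s) b5 + b6 * nrm σ s = b2 ∧
      b3 - crs σ s b5 - b6 * shp σ s = b3 ∧ b5 + b6 * s = b5 ∧ b6 = b6 := by
    intro s
    have h3 := hn.conj1 s
    have e : (c.x1 s)⁻¹ * (c.x2 b2 * c.x3 b3 * c.x4 b4 * c.x5 b5 * c.x6 b6) * c.x1 s =
        c.x2 b2 * c.x3 b3 * c.x4 b4 * c.x5 b5 * c.x6 b6 := by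
      rw [mul_assoc, h1 _ (c.mem1 s)]
      group
    rw [e] at h3
    exact h3.unique hn
  have z6 : b6 = 0 := by
    have := (key 1).2.2.1
    linear_combination this
  have z5 : b5 = 0 := by
    by_contra hne
    have h3 := (key b5).2.1
    rw [z6, crs_self] at h3
    have h4 : 2 * shp σ b5 = 0 := by linear_combination -h3
    exact mul_ne_zero h2 (shp_ne hne) h4
  have r3 : R0 σ b3 := by
    intro s
    have h3 := (key s).1
    have h4 : trc σ (shp σ s) 0 = 0 := by unfold trc; simp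
    rw [z6, z5, h4] at h3
    linear_combination -h3
  subst z6 z5
  rw [c.x5_zero, c.x6_zero, mul_one, mul_one] at hz ⊢
  rw [conj3, c.z_x2 f2, c.z_x3, c.z_x4 f4, inv3 (x23 f2) (x24 f2 f4) (x34 f4), ← c.x2_neg f2, ← c.x3_neg,
    ← c.x4_neg f4] at hz
  have k4 := mul_left_cancel hz
  have k5 := c.x4_inj f4 (neg_fix f4) k4
  have z4 : b4 = 0 := neg_eq_self h2 k5.symm
  exact ⟨b2, f2, b3, r3, by rw [z4, c.x4_zero, mul_one]⟩

variable (c)

theorem n1_M7 {g : L} {e : E} (h : c.M7 g e) : c.M1 (c.n1⁻¹ * g * c.n1) e := by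
  obtain ⟨fe, d, hd, rfl⟩ := h
  have h1 : c.n1⁻¹ * (c.x6 e * c.x5 d) * c.n1 = (c.n1⁻¹ * c.x6 e * c.n1) * (c.n1⁻¹ * c.x5 d * c.n1) := by group
  have h3 : c.n1⁻¹ * c.x5 d * c.n1 ∈ c.X 3 := by
    have hm := (c.maps_n1.inv (g := fun k => 8 - k) fun k => by ring)
    have := maps_mem hm (c.mem5 d) (j := 3) (by decide)
    rwa [inv_inv] at this
  obtain ⟨b, hb⟩ := (c.par.mem3 _).1 h3
  refine ⟨fe, b, ?_, ?_⟩
  · rcases R0_cases σ with h | h
    · have hd0 := h d hd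
      rw [hd0, c.x5_zero, mul_one, inv_mul_cancel, ← c.x3_zero] at hb
      rw [c.x3_inj hb]
      exact R0_zero
    · exact fun s => h s b
  · rw [h1, n1_inv_x6 e fe, hb]

theorem n1_M1 {g : L} {e : E} (h : c.M1 g e) : c.M7 (c.n1 * g * c.n1⁻¹) e := by
  obtain ⟨fe, d, hd, rfl⟩ := h
  have h1 : c.n1 * (c.x2 e * c.x3 d) * c.n1⁻¹ = (c.n1 * c.x2 e * c.n1⁻¹) * (c.n1 * c.x3 d * c.n1⁻¹) := by group
  have h3 : c.n1 * c.x3 d * c.n1⁻¹ ∈ c.X 5 := maps_mem c.maps_n1 (c.mem3 d) (by decide)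
  obtain ⟨b, hb⟩ := (c.par.mem5 _).1 h3
  refine ⟨fe, b, ?_, ?_⟩
  · rcases R0_cases σ with h | h
    · have hd0 := h d hd
      rw [hd0, c.x3_zero, mul_one, mul_inv_cancel, ← c.x5_zero] at hb
      rw [c.x5_inj hb]
      exact R0_zero
    · exact fun s => h s b
  · rw [h1, n1_x2 e fe, hb]

theorem conj_mem_Q4 {x g : L} (hx : x ∈ c.K1) (hg : g ∈ c.Q4) : x⁻¹ * g * x ∈ c.Q4 := by
  have := c.K1_Q4 (inv_mem hx) hg
  rwa [inv_inv] at this

theorem n1_z : c.n1 * c.z = c.z * c.n1 := (c.z_pb _).symm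

theorem exists_M7 (h2 : (2 : E) ≠ 0) {g : L} (hg : g ∈ c.Q4) (h1 : ∀ x ∈ c.X 7, g * x = x * g)
    (hz : c.z * g * c.z⁻¹ = g⁻¹) : ∃ a, c.M7 g a := by
  obtain ⟨a, ha⟩ := exists_M1 (c := c) h2 (g := c.n1⁻¹ * g * c.n1) (c.conj_mem_Q4 c.n1_mem_K1 hg) (fun x hx => by
    have h7 : c.n1 * x * c.n1⁻¹ ∈ c.X 7 := maps_mem c.maps_n1 hx (by decide)
    have := h1 _ h7
    calc c.n1⁻¹ * g * c.n1 * x = c.n1⁻¹ * (g * (c.n1 * x * c.n1⁻¹)) * c.n1 := by group
      _ = _ := by rw [this]; group) (by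
    have h3 := c.n1_z
    have h4 : c.z * c.n1⁻¹ = c.n1⁻¹ * c.z := by
      calc c.z * c.n1⁻¹ = c.n1⁻¹ * (c.n1 * c.z) * c.n1⁻¹ := by group
        _ = _ := by rw [h3]; group
    calc c.z * (c.n1⁻¹ * g * c.n1) * c.z⁻¹ = (c.z * c.n1⁻¹) * g * (c.z * c.n1⁻¹)⁻¹ := by group
      _ = c.n1⁻¹ * (c.z * g * c.z⁻¹) * c.n1 := by rw [h4]; group
      _ = _ := by rw [hz]; group)
  have h5 := c.n1_M1 ha
  have e : c.n1 * (c.n1⁻¹ * g * c.n1) * c.n1⁻¹ = g := by group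
  rw [e] at h5
  exact ⟨a, h5⟩

variable {c}

theorem M7.comm {g : L} {a : E} (h : c.M7 g a) {x : L} (hx : x ∈ c.X 7) : g * x = x * g := by
  have h1 := c.n1_M7 h
  have h3 : c.n1⁻¹ * x * c.n1 ∈ c.X 1 := by
    have hm := (c.maps_n1.inv (g := fun k => 8 - k) fun k => by ring)
    have := maps_mem hm hx (j := 1) (by decide)
    rwa [inv_inv] at this
  have h4 := h1.comm h3
  calc g * x = c.n1 * ((c.n1⁻¹ * g * c.n1) * (c.n1⁻¹ * x * c.n1)) * c.n1⁻¹ := by group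
    _ = _ := by rw [h4]; group

theorem M7.inv_z {g : L} {a : E} (h : c.M7 g a) : c.z * g * c.z⁻¹ = g⁻¹ := by
  obtain ⟨fa, b, hb, rfl⟩ := h
  have h1 : c.z * (c.x6 a * c.x5 b) * c.z⁻¹ = (c.z * c.x6 a * c.z⁻¹) * (c.z * c.x5 b * c.z⁻¹) := by group
  rw [h1, c.z_x6 fa, c.z_x5, c.x6_neg fa, c.x5_neg, ← x56 fa, mul_inv_rev]

/-- the pairing -/
theorem M1.pair {g h : L} {a e : E} (hg : c.M1 g a) (hh : c.M7 h e) : kk g h = c.x4 (a * e) := by
  obtain ⟨b, hb, hg⟩ := hg.nf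
  obtain ⟨d, hd, hh⟩ := hh.nf
  rw [hg.form hh]
  have h1 : trc σ (0 : E) 0 = 0 := by unfold trc; simp
  rw [hd b, h1]
  congr 1
  ring

theorem M7.cubic {h h' : L} {e e' : E} (hh : c.M7 h e) (hh' : c.M7 h' e') (a : E) :
    kk (kk (c.x1 a) h) h' = c.x4 (-(e * nrm σ a * e')) := by
  obtain ⟨d, hd, hh⟩ := hh.nf
  obtain ⟨d', hd', hh'⟩ := hh'.nf
  rw [(hh.kk1 a).form hh', hd', hd]
  have h1 : ∀ x : E, trc σ x 0 = 0 := by intro x; unfold trc; simp
  have h3 : ∀ x : E, trc σ 0 x = 0 := by intro x; unfold trc; simp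
  rw [h1, h3]
  congr 1
  ring

/-! ### Automorphisms normalising `X 1`, `X 7`, `X 4` and fixing `z` -/

variable (c)

/-- automorphisms normalising `X 1`, `X 7`, `X 4` and fixing `z` -/
structure Nrm (τ : MulAut L) : Prop where
  z : τ c.z = c.z
  m1 : ∀ x ∈ c.X 1, τ x ∈ c.X 1
  m7 : ∀ x ∈ c.X 7, τ x ∈ c.X 7
  m4 : ∀ x ∈ c.X 4, τ x ∈ c.X 4

omit c in
theorem surj_of {H : Subgroup L} [Finite L] (τ : MulAut L) (h : ∀ x ∈ H, τ x ∈ H) : ∀ x ∈ H, ∃ y ∈ H, τ y = x := by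
  have h1 : H.map τ.toMonoidHom ≤ H := by
    rintro _ ⟨x, hx, rfl⟩
    exact h x hx
  have h3 : H.map τ.toMonoidHom = H := Subgroup.eq_of_le_of_card_ge h1 (by
    rw [Subgroup.card_map_of_injective τ.injective])
  intro x hx
  rw [← h3] at hx
  obtain ⟨y, hy, e⟩ := hx
  exact ⟨y, hy, e⟩

variable {c}

theorem Nrm.M1 [Finite E] [Finite L] (h2 : (2 : E) ≠ 0) {τ : MulAut L} (h : c.Nrm τ) {g : L} {a : E}
    (hg : c.M1 g a) : ∃ a', c.M1 (τ g) a' := by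
  obtain ⟨b, hb, hn⟩ := hg.nf
  refine exists_M1 h2 (c.Q4_char h2 τ h.m4 g hn.mem) (fun x hx => ?_) ?_
  · obtain ⟨y, hy, rfl⟩ := surj_of τ h.m1 x hx
    rw [← map_mul, hg.comm hy, map_mul]
  · have := congrArg τ hg.inv_z
    rw [map_mul, map_mul, map_inv, map_inv, h.z] at this
    exact this

theorem Nrm.M7 [Finite E] [Finite L] (h2 : (2 : E) ≠ 0) {τ : MulAut L} (h : c.Nrm τ) {g : L} {a : E}
    (hg : c.M7 g a) : ∃ a', c.M7 (τ g) a' := by
  obtain ⟨b, hb, hn⟩ := hg.nf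
  refine c.exists_M7 h2 (c.Q4_char h2 τ h.m4 g hn.mem) (fun x hx => ?_) ?_
  · obtain ⟨y, hy, rfl⟩ := surj_of τ h.m7 x hx
    rw [← map_mul, hg.comm hy, map_mul]
  · have := congrArg τ hg.inv_z
    rw [map_mul, map_mul, map_inv, map_inv, h.z] at this
    exact this

omit c in
theorem map_kk {G : Type*} [Group G] (τ : MulAut G) (a b : G) : τ (kk a b) = kk (τ a) (τ b) := by
  unfold kk
  simp only [map_mul, map_inv]

theorem M1.fix {g : L} {a : E} (h : c.M1 g a) : σ a = a := h.1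
theorem M7.fix {g : L} {a : E} (h : c.M7 g a) : σ a = a := h.1

theorem mem_K4_of_X4 {x : L} (hx : x ∈ c.X 4) : ∃ y, c.p4 y = x := by
  obtain ⟨t, ht⟩ := c.mem_X4.1 hx
  exact ⟨_, ht⟩

/-- an automorphism trivial on `K 4` and normalising `X 1`, `X 7` -/
theorem nrm_of_K4 {τ : MulAut L} (h4 : ∀ y, τ (c.p4 y) = c.p4 y) (h1 : ∀ x ∈ c.X 1, τ x ∈ c.X 1)
    (h7 : ∀ x ∈ c.X 7, τ x ∈ c.X 7) : c.Nrm τ where
  z := by rw [z_eq_p4]; exact h4 _
  m1 := h1
  m7 := h7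
  m4 x hx := by
    obtain ⟨y, rfl⟩ := mem_K4_of_X4 hx
    rw [h4]
    exact hx

theorem fix_x4 {τ : MulAut L} (h4 : ∀ y, τ (c.p4 y) = c.p4 y) {t : E} (ht : σ t = t) : τ (c.x4 t) = c.x4 t := by
  obtain ⟨y, hy⟩ := mem_K4_of_X4 (c.mem4 ht)
  rw [← hy]
  exact h4 y

theorem exists_scale [Finite E] [Finite L] (h2 : (2 : E) ≠ 0) {τ : MulAut L} (h4 : ∀ y, τ (c.p4 y) = c.p4 y)
    (h1 : ∀ x ∈ c.X 1, τ x ∈ c.X 1) (h7 : ∀ x ∈ c.X 7, τ x ∈ c.X 7) :
    ∃ u : E, u ≠ 0 ∧ σ u = u ∧ (∀ g a, c.M1 g a → c.M1 (τ g) (u⁻¹ * a)) ∧ (∀ h e, c.M7 h e → c.M7 (τ h) (u * e)) ∧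
      (∀ a a', τ (c.x1 a) = c.x1 a' → nrm σ a = u ^ 2 * nrm σ a') := by
  have hN := nrm_of_K4 h4 h1 h7
  obtain ⟨u, hu⟩ := hN.M7 h2 (m7_x6 (c := c) (map_one σ))
  obtain ⟨v, hv⟩ := hN.M1 h2 (m1_x2 (c := c) (map_one σ))
  have key1 : ∀ g a a', c.M1 g a → c.M1 (τ g) a' → a' * u = a := by
    intro g a a' hg hg'
    have e1 := hg.pair (m7_x6 (c := c) (map_one σ))
    have e2 := hg'.pair hu
    rw [← map_kk, e1, mul_one, fix_x4 h4 hg.fix] at e2
    exact (c.x4_inj hg.fix (mul_fix hg'.fix hu.fix) e2).symm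
  have key7 : ∀ g a a', c.M7 g a → c.M7 (τ g) a' → v * a' = a := by
    intro g a a' hg hg'
    have e1 := (m1_x2 (c := c) (map_one σ)).pair hg
    have e2 := hv.pair hg'
    rw [← map_kk, e1, one_mul, fix_x4 h4 hg.fix] at e2
    exact (c.x4_inj hg.fix (mul_fix hv.fix hg'.fix) e2).symm
  have huv : v * u = 1 := key1 _ _ _ (m1_x2 (c := c) (map_one σ)) hv
  have hu0 : u ≠ 0 := right_ne_zero_of_mul_eq_one huv
  refine ⟨u, hu0, hu.fix, fun g a hg => ?_, fun h e hh => ?_, fun a a' ha => ?_⟩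
  · obtain ⟨a', hg'⟩ := hN.M1 h2 hg
    have := key1 _ _ _ hg hg'
    rw [← this, mul_comm a' u, inv_mul_cancel_left₀ hu0]
    exact hg'
  · obtain ⟨a', hh'⟩ := hN.M7 h2 hh
    have := key7 _ _ _ hh hh'
    rw [← this, ← mul_assoc, mul_comm u v, huv, one_mul]
    exact hh'
  · have e1 := (m7_x6 (c := c) (map_one σ)).cubic (m7_x6 (c := c) (map_one σ)) a
    have e2 := hu.cubic hu a'
    have f1 : σ (-(1 * nrm σ a * 1)) = -(1 * nrm σ a * 1) := by
      rw [one_mul, mul_one]; exact neg_fix (c.nf a)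
    rw [← ha, ← map_kk, ← map_kk, e1, fix_x4 h4 f1] at e2
    have e3 := c.x4_inj f1 (neg_fix (mul_fix (mul_fix hu.fix (c.nf a')) hu.fix)) e2
    linear_combination -e3

/-- **An involution trivial on `K 4`, normalising `X 1`, `X 7` and preserving the coordinate on `M1` is trivial.** -/
theorem eq_one_of_D0 [Finite E] [Finite L] (h2 : (2 : E) ≠ 0) {τ : MulAut L} (h4 : ∀ y, τ (c.p4 y) = c.p4 y)
    (h1 : ∀ x ∈ c.X 1, τ x ∈ c.X 1) (h7 : ∀ x ∈ c.X 7, τ x ∈ c.X 7) (hM : ∀ g a, c.M1 g a → c.M1 (τ g) a)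
    (hτ : τ * τ = 1) : τ = 1 := by
  obtain ⟨u, hu0, fu, k1, k7, kN⟩ := exists_scale h2 h4 h1 h7
  have hu : u = 1 := by
    have e := (k1 _ _ (m1_x2 (c := c) (map_one σ))).unique (hM _ _ (m1_x2 (c := c) (map_one σ)))
    rw [mul_one] at e
    rw [← inv_inv u, e, inv_one]
  subst hu
  have hττ : ∀ x, τ (τ x) = x := fun x => by
    have := DFunLike.congr_fun hτ x
    exact this
  -- `τ` is trivial on `X 1`
  have t1 : ∀ a, τ (c.x1 a) = c.x1 a := by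
    intro a
    obtain ⟨b, hb⟩ := (c.par.mem1 _).1 (h1 _ (c.mem1 a))
    obtain ⟨b', hb'⟩ := (c.par.mem1 _).1 (h1 _ (c.mem1 b))
    have e1 : c.x1 b' = c.x1 a := by rw [hb', hb, hττ]
    have e2 := c.x1_inj e1
    rw [e2] at hb'
    -- `d = a - b`
    have e3 : τ (c.x1 (a - b)) = c.x1 (b - a) := by
      rw [sub_eq_add_neg, sub_eq_add_neg, c.x1_add, c.x1_add, map_mul, c.x1_neg, c.x1_neg, map_inv, ← hb, ← hb']
    have e4 := kN _ _ e3
    rw [one_pow, one_mul, ← neg_sub a b, nrm_neg] at e4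
    have e5 : (2 : E) * nrm σ (a - b) = 0 := by linear_combination e4
    have e6 : a - b = 0 := by
      by_contra hne
      exact mul_ne_zero h2 (nrm_ne hne) e5
    rw [← hb, sub_eq_zero.1 e6]
  have tpb : ∀ x, τ (c.pb x) = c.pb x := c.fix_pb (φ := τ.toMonoidHom) t1 h7
  have tn1 : τ c.n1 = c.n1 := tpb _
  -- `τ` is trivial on `X 6`
  have t6 : ∀ t, σ t = t → τ (c.x6 t) = c.x6 t := by
    rcases R0_cases σ with hR | hR
    · intro t ht
      obtain ⟨_, d, hd, e⟩ := k7 _ _ (m7_x6 (c := c) ht)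
      rw [hR d hd, c.x5_zero, mul_one, one_mul] at e
      exact e
    · -- characteristic 3, `σ = 1`
      have hs1 : ∀ x : E, σ x = x := by
        intro x
        have h3 : (3 : E) = 0 := by
          have := hR 1 1
          unfold trc at this
          simp only [mul_one, map_one] at this
          linear_combination this
        have e1 : x + σ x + σ (σ x) = 0 := by
          have := hR x 1
          unfold trc at this
          simpa only [mul_one] using this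
        have e2 : x * x + σ x * σ x + σ (σ x) * σ (σ x) = 0 := by
          have := hR x x
          unfold trc at this
          simpa only [map_mul] using this
        have e3 : (σ x - x) ^ 2 = 0 := by
          have e4 : σ (σ x) = -(x + σ x) := eq_neg_of_add_eq_zero_right e1
          rw [e4] at e2
          have e5 : (2 : E) * (σ x - x) ^ 2 = 0 := by linear_combination e2 - 2 * x * σ x * h3
          rcases mul_eq_zero.1 e5 with h | h
          · exact absurd h h2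
          · exact h
        exact sub_eq_zero.1 (pow_eq_zero_iff (two_ne_zero) |>.1 e3)
      -- `X 5`
      have k5 : ∀ d, ∃ d', τ (c.x5 d) = c.x5 d' := by
        intro d
        have := k7 (c.x5 d) 0 ⟨map_zero σ, d, fun s => hR s d, by rw [c.x6_zero, one_mul]⟩
        obtain ⟨_, d', _, e⟩ := this
        rw [mul_zero, c.x6_zero, one_mul] at e
        exact ⟨d', e⟩
      obtain ⟨_, δ, _, eδ⟩ := k7 _ _ (m7_x6 (c := c) (map_one σ))
      rw [one_mul] at eδ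
      -- a fixed element `y = x6 1 * x5 (δ / 2)`
      obtain ⟨δ', hδ'⟩ := k5 (δ / 2)
      have e1 : τ (c.x5 δ) = c.x5 (δ' + δ') := by
        have : δ = δ / 2 + δ / 2 := by field_simp; ring
        rw [this, c.x5_add, map_mul, hδ', ← c.x5_add]
      have e2 : δ + (δ' + δ') = 0 := by
        have h5 := hττ (c.x6 1)
        rw [eδ, map_mul, eδ, e1, mul_assoc, ← c.x5_add, mul_eq_left, ← c.x5_zero] at h5
        exact c.x5_inj h5
      have hy : τ (c.x6 1 * c.x5 (δ / 2)) = c.x6 1 * c.x5 (δ / 2) := by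
        rw [map_mul, eδ, hδ', mul_assoc, ← c.x5_add]
        congr 2
        field_simp
        linear_combination e2
      -- `x3 (2 a²)` is fixed
      have hyN : c.NF (c.x6 1 * c.x5 (δ / 2)) 0 0 (δ / 2) 1 :=
        ((c.nf6 (map_one σ)).mul (c.nf5 (δ / 2))).congr rfl (by ring) (by ring) (by ring) (by ring)
      have t3 : ∀ a, τ (c.x3 (2 * (a * a))) = c.x3 (2 * (a * a)) := by
        intro a
        have hW := (hyN.kk1 a).mul (hyN.kk1 (-a))
        have hW' := hW.congr rfl (d2 := 0) (d3 := 2 * (a * a)) (d5 := 0) (d6 := 0)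
          (by rw [hR, hR, hR, hR, nrm_neg]; ring) (by unfold crs shp; simp only [hs1]; ring) (by ring) (by ring)
        obtain ⟨_, _, b4, f4, eW⟩ := hW'
        rw [c.x2_zero, c.x5_zero, c.x6_zero, one_mul, mul_one, mul_one] at eW
        have h5 := congrArg τ eW
        rw [map_mul, map_kk, map_kk, hy, t1, t1, eW, map_mul, fix_x4 h4 f4] at h5
        exact (mul_right_cancel h5).symm
      have h8 : (8 : E) ≠ 0 := by
        have : (8 : E) = 2 * 2 * 2 := by norm_num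
        rw [this]
        exact mul_ne_zero (mul_ne_zero h2 h2) h2
      have t3' : ∀ b, τ (c.x3 b) = c.x3 b := by
        intro b
        have e3 : b = 2 * ((b / 8 + 1) * (b / 8 + 1)) + -(2 * ((b / 8 - 1) * (b / 8 - 1))) := by
          field_simp
          ring
        rw [e3, c.x3_add, map_mul, c.x3_neg, map_inv, t3, t3]
      have t5 : ∀ b, τ (c.x5 b) = c.x5 b := by
        intro b
        have h3 : c.n1⁻¹ * c.x5 b * c.n1 ∈ c.X 3 := by
          have hm := (c.maps_n1.inv (g := fun k => 8 - k) fun k => by ring)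
          have := maps_mem hm (c.mem5 b) (j := 3) (by decide)
          rwa [inv_inv] at this
        obtain ⟨b', hb'⟩ := (c.par.mem3 _).1 h3
        have e3 : c.x5 b = c.n1 * c.x3 b' * c.n1⁻¹ := by rw [hb']; group
        rw [e3, map_mul, map_mul, map_inv, tn1, t3']
      intro t ht
      obtain ⟨_, d, _, e⟩ := k7 _ _ (m7_x6 (c := c) ht)
      rw [one_mul] at e
      have h5 := hττ (c.x6 t)
      rw [e, map_mul, e, t5, mul_assoc, ← c.x5_add, mul_eq_left, ← c.x5_zero] at h5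
      have h6 := c.x5_inj h5
      have h7' : d = 0 := by
        have : (2 : E) * d = 0 := by linear_combination h6
        exact (mul_eq_zero.1 this).resolve_left h2
      rw [e, h7', c.x5_zero, mul_one]
  have t2 : ∀ t, σ t = t → τ (c.x2 t) = c.x2 t := by
    intro t ht
    rw [← n1_inv_x6 t ht, map_mul, map_mul, map_inv, tn1, t6 t ht]
  have tn4 : τ c.n4 = c.n4 := h4 _
  have t0' : ∀ g ∈ c.X 0, τ g ∈ c.X 0 := by
    intro g hg
    have h3 : c.n4⁻¹ * g * c.n4 ∈ c.X 2 := by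
      have hm := (c.maps_n4.inv (g := fun k => 2 - k) fun k => by ring)
      have := maps_mem hm hg (j := 2) (by decide)
      rwa [inv_inv] at this
    obtain ⟨t, ht, hb⟩ := (c.par.mem2 _).1 h3
    have e3 : g = c.n4 * c.x2 t * c.n4⁻¹ := by rw [hb]; group
    have e4 : τ g = g := by
      rw [e3, map_mul, map_mul, map_inv, tn4, t2 t ht]
    rw [e4]
    exact hg
  ext x
  exact c.eq_id (φ := τ.toMonoidHom) t1 h7 t6 t0' x

/-! ### Reduction to `D0` -/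

/-- `SL(2,K)`: an automorphism is a diagonal-field automorphism up to an inner one -/
theorem sl_aut {K : Type*} [Field K] [Finite K] (α : MulAut (SL2 K)) :
    ∃ (s : SL2 K) (d : K) (hd : d ≠ 0) (φ : K ≃+* K),
      ∀ x, α x = s * conjGL (dgl d hd) (fieldAut φ x) * s⁻¹ := by
  classical
  obtain ⟨g, φ, rfl⟩ := Cfsg.Agent.Lib.AutSL2Out.exists_eq α
  have hd : g.1.det ≠ 0 := (Matrix.isUnits_det_units g).ne_zero
  obtain ⟨s, hs⟩ := Cfsg.Agent.Lib.AutSL2Out.conjGL_of_det_sq (g * (dgl g.1.det hd)⁻¹) 1 one_ne_zero (by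
    have h1 : ((dgl g.1.det hd)⁻¹ : GL (Fin 2) K).1.det = (g.1.det)⁻¹ := by
      change Matrix.det !![(g.1.det)⁻¹, 0; 0, 1] = _
      rw [Matrix.det_fin_two_of]
      ring
    rw [Units.val_mul, Matrix.det_mul, h1, mul_inv_cancel₀ hd, one_pow])
  refine ⟨s, _, hd, φ, fun x => ?_⟩
  rw [← hs, map_mul, map_inv, MulAut.mul_apply, MulAut.mul_apply]
  congr 1
  exact (MulAut.inv_apply_self _ _ _).symm

omit c in
/-- the automorphism induced on the image of `SL(2,K)` -/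
theorem exists_sl_aut {K : Type*} [Field K] [Finite K] (ρ : SL2 K →* L) (hρ : Function.Injective ρ) (t : MulAut L)
    (ht : ∀ x, ∃ y, t (ρ x) = ρ y) : ∃ α : MulAut (SL2 K), ∀ x, t (ρ x) = ρ (α x) := by
  choose f hf using ht
  let F : SL2 K →* SL2 K := MonoidHom.mk' f fun x y => by
    apply hρ
    rw [map_mul, ← hf, ← hf, ← hf, map_mul, map_mul]
  have hF : Function.Injective F := by
    intro x y hxy
    apply hρ
    apply t.injective
    rw [hf, hf]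
    exact congrArg ρ hxy
  exact ⟨MulEquiv.ofBijective F (Finite.injective_iff_bijective.1 hF), fun x => hf x⟩

/-- `t` normalises and centralises suitable root groups after an inner automorphism -/
theorem exists_adjust {K : Type*} [Field K] [Finite K] (ρ : SL2 K →* L) (hρ : Function.Injective ρ) (t : MulAut L)
    (ht : ∀ x, ∃ y, t (ρ x) = ρ y) : ∃ (s : SL2 K) (d : K) (_ : d ≠ 0) (φ : K ≃+* K),
      (∀ a, (MulAut.conj (ρ s) * t) (ρ (up a)) = ρ (up (d * φ a))) ∧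
      (∀ a, (MulAut.conj (ρ s) * t) (ρ (lo a)) = ρ (lo (φ a / d))) := by
  obtain ⟨α, hα⟩ := exists_sl_aut ρ hρ t ht
  obtain ⟨s, d, hd, φ, h⟩ := sl_aut α
  refine ⟨s⁻¹, d, hd, φ, fun a => ?_, fun a => ?_⟩
  · rw [MulAut.mul_apply, MulAut.conj_apply, hα, h, fieldAut_up, conjGL_dgl_up, ← map_mul, ← map_inv, ← map_mul]
    congr 1
    group
  · rw [MulAut.mul_apply, MulAut.conj_apply, hα, h, fieldAut_lo, conjGL_dgl_lo, ← map_mul, ← map_inv, ← map_mul]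
    congr 1
    group

omit c in
/-- the final argument -/
theorem exists_conj_of_odd {K : Subgroup L} {t δ : MulAut L} {k : L} (hk : k ∈ K) (ht : t * t = 1)
    (h : t = MulAut.conj k * δ) (hK : ∀ x ∈ K, δ x ∈ K) (ho : Odd (orderOf δ)) : ∃ k' ∈ K, t = MulAut.conj k' := by
  have key : ∀ n : ℕ, ∃ k' ∈ K, t ^ n = MulAut.conj k' * δ ^ n := by
    intro n
    induction n with
    | zero => exact ⟨1, one_mem _, by simp⟩
    | succ n ih =>
      obtain ⟨k', hk', e⟩ := ih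
      refine ⟨k * δ k', mul_mem hk (hK _ hk'), ?_⟩
      rw [pow_succ' t, e, pow_succ' δ, map_mul]
      have e2 : δ * MulAut.conj k' = MulAut.conj (δ k') * δ := by
        ext x
        simp only [MulAut.mul_apply, MulAut.conj_apply, map_mul, map_inv]
      calc t * (MulAut.conj k' * δ ^ n) = MulAut.conj k * (δ * MulAut.conj k') * δ ^ n := by rw [h]; group
        _ = _ := by rw [e2]; group
  obtain ⟨m, hm⟩ := ho
  obtain ⟨k', hk', e⟩ := key (orderOf δ)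
  refine ⟨k', hk', ?_⟩
  rw [pow_orderOf_eq_one, mul_one, hm, pow_succ, pow_mul, pow_two, ht, one_pow, one_mul] at e
  exact e

/-- the automorphisms trivial on `K 4` normalising `X 1`, `X 7` and preserving the coordinate on `M1` -/
def D0 (c : HexGrp σ L) (τ : MulAut L) : Prop :=
  (∀ y, τ (c.p4 y) = c.p4 y) ∧ (∀ x ∈ c.X 1, τ x ∈ c.X 1) ∧ (∀ x ∈ c.X 7, τ x ∈ c.X 7) ∧
    ∀ g a, c.M1 g a → c.M1 (τ g) a

theorem D0.mul {τ τ' : MulAut L} (h : c.D0 τ) (h' : c.D0 τ') : c.D0 (τ * τ') :=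
  ⟨fun y => by rw [MulAut.mul_apply, h'.1, h.1], fun x hx => h.2.1 _ (h'.2.1 _ hx),
    fun x hx => h.2.2.1 _ (h'.2.2.1 _ hx), fun g a hg => h.2.2.2 _ _ (h'.2.2.2 _ _ hg)⟩

theorem D0.one : c.D0 1 := ⟨fun _ => rfl, fun _ hx => hx, fun _ hx => hx, fun _ _ hg => hg⟩

theorem D0.pow {τ : MulAut L} (h : c.D0 τ) (n : ℕ) : c.D0 (τ ^ n) := by
  induction n with
  | zero => rw [pow_zero]; exact D0.one
  | succ n ih => rw [pow_succ]; exact ih.mul h

theorem D0.odd [Finite E] [Finite L] (h2 : (2 : E) ≠ 0) {τ : MulAut L} (h : c.D0 τ) : Odd (orderOf τ) := by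
  rw [← Nat.not_even_iff_odd]
  rintro ⟨m, hm⟩
  have hpos := orderOf_pos τ
  have h1 := h.pow m
  have h3 : τ ^ m * τ ^ m = 1 := by rw [← pow_add, ← hm, pow_orderOf_eq_one]
  have h4 := eq_one_of_D0 h2 h1.1 h1.2.1 h1.2.2.1 h1.2.2.2 h3
  have := orderOf_dvd_of_pow_eq_one h4
  have := Nat.le_of_dvd (by omega) this
  omega

theorem Act.M1 {g : L} {c1 c6 : E} (h : c.Act g c1 c6) {x : L} {a : E} (hx : c.M1 x a) :
    c.M1 (g * x * g⁻¹) (c6 * nrm σ c1 * a) := by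
  obtain ⟨fa, b, hb, rfl⟩ := hx
  refine ⟨mul_fix (mul_fix h.fix (c.nf c1)) fa, c6 * shp σ c1 * b, ?_, ?_⟩
  · rcases R0_cases σ with hR | hR
    · rw [hR b hb, mul_zero]
      exact R0_zero
    · exact fun s => hR s _
  · rw [← h.a2 a fa, ← h.a3]
    group

theorem conj_mem_of_act {g : L} {c1 c6 : E} (h : c.Act g c1 c6) {k : ZMod (2 * 6)} {x : L} (hx : x ∈ c.X k) :
    g * x * g⁻¹ ∈ c.X k := maps_mem h.maps hx rfl

/-- **(F3) for `K 4`** -/
theorem inn4 [Finite E] [Finite L] (h2 : (2 : E) ≠ 0) {t : MulAut L} (ht : t * t = 1)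
    (h4 : ∀ y, t (c.p4 y) = c.p4 y) : t = 1 ∨ t = MulAut.conj c.z := by
  -- `t` normalises `K 1`
  have hK : ∀ τ : MulAut L, (∀ y, τ (c.p4 y) = c.p4 y) → ∀ x, ∃ y, τ (c.pb x) = c.pb y := by
    intro τ h4 x
    have : τ (c.pb x) ∈ c.K1 := by
      refine c.centralizer_K4 h2 fun y => ?_
      have h := congrArg τ (c.comm_pb_p4 x y)
      rw [map_mul, map_mul, h4] at h
      exact h
    obtain ⟨y, hy⟩ := this
    exact ⟨y, hy.symm⟩
  obtain ⟨s, d, hd, φ, hup, hlo⟩ := exists_adjust c.pb (c.pb_inj h2) t (hK t h4)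
  have hτ4 : ∀ y, (MulAut.conj (c.pb s) * t) (c.p4 y) = c.p4 y := by
    intro y
    rw [MulAut.mul_apply, h4, MulAut.conj_apply, c.comm_pb_p4]
    group
  obtain ⟨τ, hτ⟩ : ∃ τ, τ = MulAut.conj (c.pb s) * t := ⟨_, rfl⟩
  rw [← hτ] at hup hlo hτ4
  have hτ1 : ∀ x ∈ c.X 1, τ x ∈ c.X 1 := by
    intro x hx
    obtain ⟨a, rfl⟩ := (c.par.mem1 _).1 hx
    rw [← c.pb_up, hup, c.pb_up]
    exact c.mem1 _
  have hτ7 : ∀ x ∈ c.X 7, τ x ∈ c.X 7 := by
    intro x hx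
    obtain ⟨a, rfl⟩ := (c.pb_lo _).1 hx
    rw [hlo]
    exact (c.pb_lo _).2 ⟨_, rfl⟩
  obtain ⟨u, hu0, fu, k1, k7, kN⟩ := exists_scale h2 hτ4 hτ1 hτ7
  -- the element `s'` with `N s' = u`
  obtain ⟨b, hb⟩ := (c.par.mem1 _).1 (hτ1 _ (c.mem1 1))
  have hNb := kN 1 b hb.symm
  rw [nrm_one] at hNb
  have hb0 : b ≠ 0 := by
    rintro rfl
    have : nrm σ (0 : E) = 0 := by unfold nrm; simp
    rw [this, mul_zero] at hNb
    exact one_ne_zero hNb
  have hs' : u * b ≠ 0 := mul_ne_zero hu0 hb0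
  have hNs : nrm σ (u * b) = u := by
    rw [nrm_mul, nrm_of_fix fu]
    linear_combination -u * hNb
  have hA := c.act_b (u * b) hs'
  rw [hNs] at hA
  obtain ⟨δ, hδ⟩ : ∃ δ, δ = MulAut.conj (c.pb (dg (u * b) hs')) * τ := ⟨_, rfl⟩
  have hD : c.D0 δ := by
    rw [hδ]
    refine ⟨fun y => ?_, fun x hx => ?_, fun x hx => ?_, fun g a hg => ?_⟩
    · rw [MulAut.mul_apply, hτ4, MulAut.conj_apply, c.comm_pb_p4]
      group
    · exact conj_mem_of_act hA (hτ1 x hx)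
    · exact conj_mem_of_act hA (hτ7 x hx)
    · have h5 := hA.M1 (k1 g a hg)
      have e : u⁻¹ * nrm σ ((u * b) ^ 2) * (u⁻¹ * a) = a := by
        rw [pow_two, nrm_mul, hNs]
        field_simp
      rw [e] at h5
      exact h5
  have e : t = MulAut.conj (c.pb (dg (u * b) hs' * s)⁻¹) * δ := by
    rw [hδ, hτ, map_inv, map_inv, map_mul, map_mul]
    group
  obtain ⟨k', hk', e2⟩ := exists_conj_of_odd (K := c.K1) (t := t) ⟨_, rfl⟩ ht e (by
    rintro _ ⟨x, rfl⟩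
    obtain ⟨y, hy⟩ := hK δ hD.1 x
    rw [hy]
    exact ⟨_, rfl⟩) (hD.odd h2)
  obtain ⟨x, rfl⟩ := hk'
  have h6 : c.pb x * c.pb x = 1 := by
    apply c.cen
    intro w
    have h7 := DFunLike.congr_fun ht w
    rw [e2, MulAut.mul_apply, MulAut.conj_apply, MulAut.conj_apply, MulAut.one_apply] at h7
    calc c.pb x * c.pb x * w = (c.pb x * (c.pb x * w * (c.pb x)⁻¹) * (c.pb x)⁻¹) * (c.pb x * c.pb x) := by group
      _ = _ := by rw [h7]
  rcases c.pb_sq h2 h6 with h | h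
  · left; rw [e2, h, map_one]
  · right; rw [e2, h]

variable (c) in
theorem p4_up [Finite E] (h2 : (2 : E) ≠ 0) :
    ∃ v : E, σ v = v ∧ v ≠ 0 ∧ ∀ t : ↥(fx σ), c.p4 (up t) = c.x4 (t * v) := by
  obtain ⟨v, fv, hv⟩ := (c.par.mem4 _).1 (c.p4_up_mem 1)
  refine ⟨v, fv, ?_, fun t => ?_⟩
  · rintro rfl
    rw [c.x4_zero] at hv
    have h1 := c.p4_inj (hv.symm.trans (map_one c.p4).symm)
    have h3 := congrArg (fun y => ent y 0 1) h1
    simp at h3
  · by_cases ht : t = 0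
    · rw [ht, up_zero, map_one, show (((0 : ↥(fx σ)) : E)) = 0 from rfl, zero_mul, c.x4_zero]
    · have ht0 : (t : E) ≠ 0 := fun h => ht (Subtype.ext h)
      obtain ⟨h, hA⟩ := c.exists_act' h2 ht0 (inv_ne_zero ht0) (inv_fix t.2)
      have e1 := hA.p4 h2 (up 1)
      have e2 := hA.a4 v fv
      rw [hv, e1, conjGL_dgl_up, mul_one] at e2
      have ew : (t : E)⁻¹ ^ 2 * nrm σ (t : E) = t := by
        rw [nrm_of_fix t.2]
        field_simp
      have e3 : (⟨(t : E)⁻¹ ^ 2 * nrm σ (t : E), hA.fix4⟩ : ↥(fx σ)) = t := Subtype.ext ew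
      rw [e3, ew] at e2
      exact e2

theorem mem_X10_up_lo (a b : ↥(fx σ)) (h : c.p4 (up a) = c.p4 (lo b)) : a = 0 := by
  have h1 : c.p4 (up a) = 1 := c.eq_one_of_ne (j := 4) (k := 10) (by decide) (c.p4_up_mem a)
    (by rw [h]; exact c.p4_lo_mem b)
  have h3 := c.p4_inj (h1.trans (map_one c.p4).symm)
  have h4 := congrArg (fun y => ent y 0 1) h3
  simpa using h4

/-- a field automorphism fixing all cubes is trivial -/
theorem eq_of_cube {K : Type*} [Field K] (h2 : (2 : K) ≠ 0) (φ : K ≃+* K) (h : ∀ x, φ (x ^ 3) = x ^ 3) (x : K) :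
    φ x = x := by
  by_cases h3 : (3 : K) = 0
  · have h4 := h x
    rw [map_pow] at h4
    have h5 : (φ x - x) ^ 3 = 0 := by
      linear_combination h4 - (φ x ^ 2 * x - φ x * x ^ 2) * h3
    exact sub_eq_zero.1 (pow_eq_zero_iff (by norm_num) |>.1 h5)
  · have e : (2 * 3 : K) * x = (x + 1) ^ 3 - 2 * x ^ 3 + (x - 1) ^ 3 := by ring
    have e2 : φ ((2 * 3 : K) * x) = (2 * 3 : K) * x := by
      rw [e, map_add, map_sub, h, h, map_mul, h, map_ofNat]
    rw [map_mul, map_mul, map_ofNat, map_ofNat] at e2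
    exact mul_left_cancel₀ (mul_ne_zero h2 h3) e2

/-- **(F3) for `K 1`** -/
theorem inn1 [Finite E] [Finite L] (h2 : (2 : E) ≠ 0) {t : MulAut L} (ht : t * t = 1)
    (h1 : ∀ x, t (c.pb x) = c.pb x) : t = 1 ∨ t = MulAut.conj c.z := by
  have : Finite ↥(fx σ) := Subtype.finite
  have hK : ∀ τ : MulAut L, (∀ y, τ (c.pb y) = c.pb y) → ∀ x, ∃ y, τ (c.p4 x) = c.p4 y := by
    intro τ h4 x
    have : τ (c.p4 x) ∈ c.K4 := by
      refine c.centralizer_K1 h2 fun y => ?_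
      have h := congrArg τ (c.comm_pb_p4 y x)
      rw [map_mul, map_mul, h4] at h
      exact h.symm
    obtain ⟨y, hy⟩ := this
    exact ⟨y, hy.symm⟩
  obtain ⟨s, d, hd, φ, hup, hlo⟩ := exists_adjust c.p4 c.p4_inj t (hK t h1)
  have hτ1 : ∀ y, (MulAut.conj (c.p4 s) * t) (c.pb y) = c.pb y := by
    intro y
    rw [MulAut.mul_apply, h1, MulAut.conj_apply, ← c.comm_pb_p4]
    group
  obtain ⟨τ, hτ⟩ : ∃ τ, τ = MulAut.conj (c.p4 s) * t := ⟨_, rfl⟩
  rw [← hτ] at hup hlo hτ1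
  have tx1 : ∀ a, τ (c.x1 a) = c.x1 a := fun a => by rw [← c.pb_up]; exact hτ1 _
  have hN : c.Nrm τ := by
    refine ⟨hτ1 _, fun x hx => ?_, fun x hx => ?_, fun x hx => ?_⟩
    · obtain ⟨a, rfl⟩ := (c.par.mem1 _).1 hx
      rw [tx1]
      exact hx
    · obtain ⟨a, rfl⟩ := (c.pb_lo _).1 hx
      rw [hτ1]
      exact hx
    · obtain ⟨a, rfl⟩ := c.mem_X4.1 hx
      rw [hup]
      exact c.p4_up_mem _
  obtain ⟨u, hu⟩ := hN.M7 h2 (m7_x6 (c := c) (map_one σ))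
  have fu := hu.fix
  obtain ⟨v, fv, hv0, hv⟩ := c.p4_up h2
  obtain ⟨v', hv'⟩ : ∃ v' : ↥(fx σ), (v' : E) = v := ⟨⟨v, fv⟩, rfl⟩
  have hv'0 : v' ≠ 0 := by
    rintro rfl
    exact hv0 hv'.symm
  have k4 : ∀ w : ↥(fx σ), τ (c.x4 w) = c.x4 ((d * φ (w * v'⁻¹) * v' : ↥(fx σ)) : E) := by
    intro w
    have e1 := hup (w * v'⁻¹)
    rw [hv, hv] at e1
    have e2 : ((w * v'⁻¹ : ↥(fx σ)) : E) * v = w := by
      rw [← hv']
      change (w : E) * (v' : E)⁻¹ * (v' : E) = w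
      have : (v' : E) ≠ 0 := by rw [hv']; exact hv0
      field_simp
    rw [e2, ← hv'] at e1
    exact e1
  have kN : ∀ a : E, d * φ (⟨nrm σ a, c.nf a⟩ * v'⁻¹) * v' = ⟨u, fu⟩ ^ 2 * ⟨nrm σ a, c.nf a⟩ := by
    intro a
    have e1 := (m7_x6 (c := c) (map_one σ)).cubic (m7_x6 (c := c) (map_one σ)) a
    have e2 := hu.cubic hu a
    rw [← tx1, ← map_kk, ← map_kk, e1] at e2
    have e3 := k4 (-⟨nrm σ a, c.nf a⟩)
    have e4 : ((-⟨nrm σ a, c.nf a⟩ : ↥(fx σ)) : E) = -(1 * nrm σ a * 1) := by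
      rw [one_mul, mul_one]
      rfl
    rw [e4, e2] at e3
    have e5 := c.x4_inj (neg_fix (mul_fix (mul_fix fu (c.nf a)) fu))
      (d * φ (-⟨nrm σ a, c.nf a⟩ * v'⁻¹) * v' : ↥(fx σ)).2 e3
    rw [neg_mul, map_neg, mul_neg, neg_mul] at e5
    apply Subtype.ext
    rw [← neg_inj]
    rw [← Subfield.coe_neg, ← e5]
    change -(u * nrm σ a * u) = -(u ^ 2 * nrm σ a)
    ring
  have k1 : d * φ v'⁻¹ * v' = ⟨u, fu⟩ ^ 2 := by
    have := kN 1
    have e : (⟨nrm σ (1 : E), c.nf 1⟩ : ↥(fx σ)) = 1 := Subtype.ext nrm_one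
    rw [e, one_mul, mul_one] at this
    exact this
  have hu0 : (⟨u, fu⟩ : ↥(fx σ)) ≠ 0 := by
    intro h
    rw [h, zero_pow two_ne_zero] at k1
    exact mul_ne_zero (mul_ne_zero hd ((map_ne_zero φ).2 (inv_ne_zero hv'0))) hv'0 k1
  have hφN : ∀ a : E, φ ⟨nrm σ a, c.nf a⟩ = ⟨nrm σ a, c.nf a⟩ := by
    intro a
    have e1 := kN a
    rw [map_mul] at e1
    have e2 : (⟨u, fu⟩ : ↥(fx σ)) ^ 2 * φ ⟨nrm σ a, c.nf a⟩ = ⟨u, fu⟩ ^ 2 * ⟨nrm σ a, c.nf a⟩ := by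
      rw [← e1, ← k1]
      ring
    exact mul_left_cancel₀ (pow_ne_zero 2 hu0) e2
  have hφ : ∀ x, φ x = x := eq_of_cube (two_ne h2) φ fun x => by
    have e1 := hφN x
    have e : (⟨nrm σ (x : E), c.nf x⟩ : ↥(fx σ)) = x ^ 3 := Subtype.ext (nrm_of_fix x.2)
    rw [e] at e1
    exact e1
  have k4' : ∀ w : E, σ w = w → τ (c.x4 w) = c.x4 (u ^ 2 * w) := by
    intro w hw
    have e1 := k4 ⟨w, hw⟩
    rw [map_mul, hφ ⟨w, hw⟩] at e1
    have e2 : d * (⟨w, hw⟩ * φ v'⁻¹) * v' = (⟨u, fu⟩ ^ 2 * ⟨w, hw⟩ : ↥(fx σ)) := by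
      rw [← k1]
      ring
    rw [e2] at e1
    exact e1
  have hu0' : u ≠ 0 := fun h => hu0 (Subtype.ext h)
  have kM : ∀ g a, c.M1 g a → c.M1 (τ g) (u * a) := by
    intro g a hg
    obtain ⟨a', hg'⟩ := hN.M1 h2 hg
    have e1 := hg.pair (m7_x6 (c := c) (map_one σ))
    have e2 := hg'.pair hu
    rw [← map_kk, e1, mul_one, k4' _ hg.fix] at e2
    have e3 := c.x4_inj (mul_fix (by rw [map_pow, fu]) hg.fix) (mul_fix hg'.fix fu) e2
    have e4 : a' = u * a := by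
      apply mul_right_cancel₀ hu0'
      linear_combination -e3
    rw [← e4]
    exact hg'
  -- the torus element
  have hA := c.act_p4_dg (⟨u, fu⟩ : ↥(fx σ))⁻¹ (inv_ne_zero hu0)
  have hinv : (((⟨u, fu⟩ : ↥(fx σ))⁻¹ : ↥(fx σ)) : E) = u⁻¹ := rfl
  rw [hinv] at hA
  obtain ⟨h0, hh0⟩ : ∃ h0, h0 = c.p4 (dg (⟨u, fu⟩ : ↥(fx σ))⁻¹ (inv_ne_zero hu0)) := ⟨_, rfl⟩
  obtain ⟨δ, hδ⟩ : ∃ δ, δ = MulAut.conj h0 * τ := ⟨_, rfl⟩
  rw [← hh0] at hA
  have δ1 : ∀ x, δ (c.pb x) = c.pb x := by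
    intro x
    rw [hδ, MulAut.mul_apply, hτ1, MulAut.conj_apply, hh0, ← c.comm_pb_p4]
    group
  have δx4 : ∀ w, σ w = w → δ (c.x4 w) = c.x4 w := by
    intro w hw
    rw [hδ, MulAut.mul_apply, k4' w hw, MulAut.conj_apply, hA.a4 _ (mul_fix (by rw [map_pow, fu]) hw), nrm_one]
    congr 1
    field_simp
  have δ4 : ∀ y, δ (c.p4 y) = c.p4 y := by
    have e1 : ∀ a, δ (c.p4 (up a)) = c.p4 (up a) := by
      intro a
      rw [hv]
      exact δx4 _ (mul_fix a.2 fv)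
    have e2 := sl_fix c.p4 c.p4 δ.toMonoidHom e1 (fun b => by
      have h5 : h0 * c.p4 (lo (φ b / d)) * h0⁻¹ ∈ c.X 10 := conj_mem_of_act hA (c.p4_lo_mem _)
      obtain ⟨b', hb'⟩ := c.mem_X10.1 h5
      refine ⟨b', ?_⟩
      rw [hb']
      change δ (c.p4 (lo b)) = _
      rw [hδ, MulAut.mul_apply, hlo, MulAut.conj_apply]) mem_X10_up_lo
    have e3 : δ.toMonoidHom.comp c.p4 = c.p4 := hom_ext _ _ e1 e2
    exact fun y => DFunLike.congr_fun e3 y
  have hD : c.D0 δ := by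
    refine ⟨δ4, fun x hx => ?_, fun x hx => ?_, fun g a hg => ?_⟩
    · obtain ⟨a, rfl⟩ := (c.par.mem1 _).1 hx
      rw [← c.pb_up, δ1, c.pb_up]
      exact hx
    · obtain ⟨a, rfl⟩ := (c.pb_lo _).1 hx
      rw [δ1]
      exact hx
    · have h5 := hA.M1 (kM g a hg)
      have e : u⁻¹ * nrm σ (1 : E) * (u * a) = a := by
        rw [nrm_one]
        field_simp
      rw [e] at h5
      rw [hδ]
      exact h5
  have e : t = MulAut.conj (h0 * c.p4 s)⁻¹ * δ := by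
    rw [hδ, hτ, map_inv, map_mul]
    group
  obtain ⟨k', hk', e2⟩ := exists_conj_of_odd (K := c.K4) (t := t)
    (inv_mem (mul_mem (by rw [hh0]; exact ⟨_, rfl⟩) ⟨_, rfl⟩)) ht e (by
    rintro _ ⟨x, rfl⟩
    rw [δ4]
    exact ⟨_, rfl⟩) (hD.odd h2)
  obtain ⟨x, rfl⟩ := hk'
  have h6 : c.p4 x * c.p4 x = 1 := by
    apply c.cen
    intro w
    have h7 := DFunLike.congr_fun ht w
    rw [e2, MulAut.mul_apply, MulAut.conj_apply, MulAut.conj_apply, MulAut.one_apply] at h7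
    calc c.p4 x * c.p4 x * w = (c.p4 x * (c.p4 x * w * (c.p4 x)⁻¹) * (c.p4 x)⁻¹) * (c.p4 x * c.p4 x) := by group
      _ = _ := by rw [h7]
  rcases c.p4_sq h2 h6 with h | h
  · left; rw [e2, h, map_one]
  · right; rw [e2, h]

end HexGrp

end Cfsg.Agent.Cit.HexBase
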