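import Cfsg.Agent.Cit.HexBase

/-!
# Groups of type `G₂` and `³D₄`: the torus and the Weyl elements
-/

set_option autoImplicit false

namespace Cfsg.Agent.Cit.HexBase

open Cfsg.Agent.SplitTwo Cfsg.Agent.TitsThree.RankTwoZ Cfsg.Agent.Lib.SL2Mat
open scoped commutatorElement

/-! ### Generalities on `SL(2,K)` -/

section sl

variable {K : Type*} [Field K] {L : Type*} [Group L]

theorem dg_one' (h : (1 : K) ≠ 0) : dg (1 : K) h = 1 := by
  apply ext_ent <;> simp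

theorem dg_mul_dg (a b : K) (ha : a ≠ 0) (hb : b ≠ 0) : dg a ha * dg b hb = dg (a * b) (mul_ne_zero ha hb) := by
  refine ext_ent ?_ ?_ ?_ ?_ <;> simp [ent_mul, mul_comm]

theorem dg_up' (b c : K) (hb : b ≠ 0) : dg b hb * up c * (dg b hb)⁻¹ = up (b ^ 2 * c) := by
  rw [dg_up, mul_assoc, mul_inv_cancel, mul_one]

theorem wm_up' (b c : K) (hb : b ≠ 0) : wm b hb * up c * (wm b hb)⁻¹ = lo (-(c / b ^ 2)) := by
  rw [wm_up, mul_assoc, mul_inv_cancel, mul_one]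

theorem wm_lo' (b c : K) (hb : b ≠ 0) : wm b hb * lo c * (wm b hb)⁻¹ = up (-(c * b ^ 2)) := by
  rw [wm_lo, mul_assoc, mul_inv_cancel, mul_one]

theorem dg_eq_wm (b : K) (hb : b ≠ 0) : dg b hb = wm b hb * (wm 1 one_ne_zero)⁻¹ := by
  rw [eq_mul_inv_iff_mul_eq, wm_eq_dg_mul b 1 hb one_ne_zero]
  congr 1
  simp

theorem dg_eq_wm' (b : K) (hb : b ≠ 0) : dg b hb = (wm b hb)⁻¹ * wm 1 one_ne_zero := by
  rw [eq_inv_mul_iff_mul_eq]
  refine ext_ent ?_ ?_ ?_ ?_ <;> simp [ent_mul, hb]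

theorem eq_lo_up_lo (x : SL2 K) (hb : ent x 0 1 ≠ 0) :
    x = lo ((ent x 1 1 - 1) / ent x 0 1) * up (ent x 0 1) * lo ((ent x 0 0 - 1) / ent x 0 1) := by
  have hd := det_eq x
  generalize hu : lo ((ent x 1 1 - 1) / ent x 0 1) * up (ent x 0 1) * lo ((ent x 0 0 - 1) / ent x 0 1) = y
  refine ext_ent ?_ ?_ ?_ ?_ <;> rw [← hu] <;>
    simp only [ent_mul, up_00, up_01, up_10, up_11, lo_00, lo_01, lo_10, lo_11] <;> field_simp
  · ring
  · ring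
  · linear_combination -hd
  · ring

/-- A homomorphism is determined on the lower triangular matrices. -/
theorem sl_fix (ρ ρ' : SL2 K →* L) (φ : L →* L) (h1 : ∀ a, φ (ρ (up a)) = ρ' (up a))
    (h2 : ∀ b, ∃ b', φ (ρ (lo b)) = ρ' (lo b')) (hd : ∀ a b, ρ' (up a) = ρ' (lo b) → a = 0) (b : K) :
    φ (ρ (lo b)) = ρ' (lo b) := by
  by_cases hb : b = 0
  · subst hb
    rw [lo_zero, map_one, map_one, map_one]
  obtain ⟨b', hb'⟩ := h2 b
  suffices b' = b by rw [hb', this]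
  -- `w = up s * lo b * up s`, `s = -b⁻¹`
  have hs : (-b⁻¹ : K) ≠ 0 := neg_ne_zero.2 (inv_ne_zero hb)
  have hw : wm (-b⁻¹) hs = up (-b⁻¹) * lo b * up (-b⁻¹) := by
    refine ext_ent ?_ ?_ ?_ ?_ <;> simp [ent_mul, hb]
  obtain ⟨M, hM⟩ : ∃ M : SL2 K, M = up (-b⁻¹) * lo b' * up (-b⁻¹) := ⟨_, rfl⟩
  have h3 : φ (ρ (wm (-b⁻¹) hs)) = ρ' M := by
    rw [hw, hM]
    simp only [map_mul, hb', h1]
  obtain ⟨d, hd'⟩ := h2 (-(1 / (-b⁻¹) ^ 2))
  have h4 : ρ' (M * up 1 * M⁻¹) = ρ' (lo d) := by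
    rw [← hd', ← wm_up' _ _ hs]
    simp only [map_mul, map_inv, h3, h1]
  have h5 : ρ' (M * up 1 * M⁻¹ * lo (-d)) = 1 := by
    rw [map_mul, h4, ← map_mul, lo_mul, add_neg_cancel, lo_zero, map_one]
  obtain ⟨P, hP⟩ : ∃ P : SL2 K, P = M * up 1 * M⁻¹ * lo (-d) := ⟨_, rfl⟩
  rw [← hP] at h5
  -- entry `(0,1)` of `P`
  have e01 : ent P 0 1 = (1 - b' / b) ^ 2 := by
    rw [hP, hM, ent_inv]
    simp only [ent_mul, up_00, up_01, up_10, up_11, lo_00, lo_01, lo_10, lo_11, mk_00, mk_01, mk_10, mk_11]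
    field_simp
    ring
  by_contra hne
  have hp : ent P 0 1 ≠ 0 := by
    rw [e01]
    apply pow_ne_zero
    intro h
    apply hne
    rw [sub_eq_zero, eq_comm, div_eq_one_iff_eq hb] at h
    exact h
  have h6 := eq_lo_up_lo P hp
  generalize (ent P 1 1 - 1) / ent P 0 1 = u at h6
  generalize (ent P 0 0 - 1) / ent P 0 1 = v at h6
  generalize ent P 0 1 = w at h6 hp
  have h7 : ρ' (up w) = ρ' (lo (-u - v)) := by
    have h8 : up w = lo (-u) * P * lo (-v) := by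
      rw [h6, ← mul_assoc, ← mul_assoc, lo_mul, neg_add_cancel, lo_zero, one_mul, mul_assoc, lo_mul, add_neg_cancel,
        lo_zero, mul_one]
    rw [h8, map_mul, map_mul, h5, mul_one, ← map_mul, lo_mul, sub_eq_add_neg]
  exact hp (hd _ _ h7)

end sl

section nrm

variable {E : Type*} [Field E] {σ : E ≃+* E}

theorem nrm_mul (a b : E) : nrm σ (a * b) = nrm σ a * nrm σ b := by
  unfold nrm; rw [map_mul, map_mul]; ring

theorem nrm_one : nrm σ (1 : E) = 1 := by unfold nrm; simp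

theorem nrm_ne {a : E} (h : a ≠ 0) : nrm σ a ≠ 0 := by
  unfold nrm
  have h1 : σ a ≠ 0 := (map_ne_zero σ).2 h
  exact mul_ne_zero (mul_ne_zero h h1) ((map_ne_zero σ).2 h1)

theorem nrm_fix (hc : ∀ a : E, σ (σ (σ a)) = a) (a : E) : σ (nrm σ a) = nrm σ a :=
  Cfsg.Agent.Hexagon.HexComm.nrm_fix hc a

theorem nrm_neg (a : E) : nrm σ (-a) = -nrm σ a := by unfold nrm; rw [map_neg, map_neg]; ring

theorem nrm_of_fix {a : E} (h : σ a = a) : nrm σ a = a ^ 3 := by unfold nrm; rw [h, h]; ring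

theorem shp_mul (a b : E) : shp σ (a * b) = shp σ a * shp σ b := by
  unfold shp; rw [map_mul, map_mul]; ring

theorem shp_neg (a : E) : shp σ (-a) = shp σ a := by unfold shp; rw [map_neg, map_neg]; ring

theorem nrm_inv (a : E) : nrm σ a⁻¹ = (nrm σ a)⁻¹ := by
  unfold nrm; rw [map_inv₀, map_inv₀]; simp only [mul_inv]

theorem mul_fix {a b : E} (ha : σ a = a) (hb : σ b = b) : σ (a * b) = a * b := by rw [map_mul, ha, hb]

theorem inv_fix {a : E} (ha : σ a = a) : σ a⁻¹ = a⁻¹ := by rw [map_inv₀, ha]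

theorem trc_fix (hc : ∀ a : E, σ (σ (σ a)) = a) (a b : E) : σ (trc σ a b) = trc σ a b :=
  Cfsg.Agent.Hexagon.HexComm.trc_fix hc a b

end nrm

namespace HexGrp

variable {E : Type*} [Field E] {σ : E ≃+* E} {L : Type*} [Group L] (c : HexGrp σ L)

/-- `x6 t` conjugated by `x1 a` -/
theorem conj16 (a t : E) (ht : σ t = t) : c.x1 a * c.x6 t * (c.x1 a)⁻¹ =
    c.x6 t * (c.x5 (t * a))⁻¹ * (c.x4 (-(t ^ 2 * nrm σ a)))⁻¹ * (c.x3 (t * shp σ a))⁻¹ * (c.x2 (t * nrm σ a))⁻¹ := by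
  have h := c.par.rel.c16 (-a) t ht
  rw [nrm_neg, shp_neg] at h
  rw [show -(t * -nrm σ a) = t * nrm σ a by ring, show t ^ 2 * -nrm σ a = -(t ^ 2 * nrm σ a) by ring,
    show -(t * -a) = t * a by ring] at h
  have e : c.x1 a * c.x6 t * (c.x1 a)⁻¹ = c.x6 t * (kk (c.x1 (-a)) (c.x6 t))⁻¹ := by
    unfold kk
    rw [c.x1_neg]
    group
  rw [e, h]
  group

/-- `x1 a` conjugated by `x6 t` -/
theorem conj61 (a t : E) (ht : σ t = t) : c.x6 t * c.x1 a * (c.x6 t)⁻¹ =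
    c.x1 a * (c.x2 (t * nrm σ a) * c.x3 (-(t * shp σ a)) * c.x4 (t ^ 2 * nrm σ a) * c.x5 (t * a)) := by
  have h := c.par.rel.c16 a (-t) (neg_fix ht)
  rw [show -(-t * nrm σ a) = t * nrm σ a by ring, show -t * shp σ a = -(t * shp σ a) by ring,
    show (-t) ^ 2 * nrm σ a = t ^ 2 * nrm σ a by ring, show -(-t * a) = t * a by ring] at h
  rw [← h]
  unfold kk
  rw [c.x6_neg ht]
  group

omit c in
theorem maps_mem {X : ZMod (2 * 6) → Subgroup L} {n : L} {f : ZMod (2 * 6) → ZMod (2 * 6)} (hn : Maps X n f)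
    {k j : ZMod (2 * 6)} {x : L} (hx : x ∈ X k) (e : f k = j) : n * x * n⁻¹ ∈ X j := by
  rw [← e]
  exact (hn k x).2 hx

theorem sg {s : Finset (ZMod (2 * 6))} {k : ZMod (2 * 6)} (hk : k ∈ s) {g : L} (hg : g ∈ c.X k) : g ∈ Sg c.X s :=
  X_le_Sg hk hg

include c in
theorem nf (a : E) : σ (nrm σ a) = nrm σ a := nrm_fix c.cube a

theorem wmB_x6 (s : E) (hs : s ≠ 0) (t : E) (ht : σ t = t) :
    c.pb (wm s hs) * c.x6 t * (c.pb (wm s hs))⁻¹ = c.x2 (-(t * nrm σ s)) := by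
  obtain ⟨y, hy⟩ : ∃ y : L, y = c.pb (lo (-s⁻¹)) := ⟨_, rfl⟩
  have hy7 : y ∈ c.X 7 := (c.pb_lo _).2 ⟨_, hy.symm⟩
  have hw : c.pb (wm s hs) = y * c.x1 s * y := by
    rw [wm_eq, map_mul, map_mul, c.pb_up, hy]
  have h6 := c.mem6 ht
  have hc : y * c.x6 t * y⁻¹ = c.x6 t := by
    have h := c.comm (k := 7) (j := 6) (by decide) (by decide) hy7 h6
    have h0 : bt (7 : ZMod (2 * 6)) 6 = ∅ := by decide +kernel
    rw [h0] at h
    have h1 : ⁅y, c.x6 t⁆ = 1 := by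
      have : Sg c.X ∅ = ⊥ := by unfold Sg; simp
      rw [this] at h
      exact Subgroup.mem_bot.1 h
    rw [commutatorElement_def] at h1
    exact mul_inv_eq_one.1 h1
  have hfix : σ (t * nrm σ s) = t * nrm σ s := mul_fix ht (c.nf s)
  have hg : c.pb (wm s hs) * c.x6 t * (c.pb (wm s hs))⁻¹ ∈ c.X 2 := by
    exact maps_mem (c.mapsB s hs) h6 (by decide)
  obtain ⟨v, hv⟩ : ∃ v : L, v = c.x6 t * (c.x5 (t * s))⁻¹ * (c.x4 (-(t ^ 2 * nrm σ s)))⁻¹ * (c.x3 (t * shp σ s))⁻¹ :=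
    ⟨_, rfl⟩
  have hv' : v ∈ Sg c.X {3, 4, 5, 6} := by
    rw [hv]
    refine mul_mem (mul_mem (mul_mem (c.sg (by decide) h6) (inv_mem (c.sg (by decide) (c.mem5 _))))
      (inv_mem (c.sg (by decide) (c.mem4 ?_)))) (inv_mem (c.sg (by decide) (c.mem3 _)))
    exact neg_fix (mul_fix (by rw [map_pow, ht]) (c.nf s))
  have e : c.pb (wm s hs) * c.x6 t * (c.pb (wm s hs))⁻¹ =
      (y * v * y⁻¹) * (⁅y, c.x2 (-(t * nrm σ s))⁆ * c.x2 (-(t * nrm σ s))) := by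
    calc c.pb (wm s hs) * c.x6 t * (c.pb (wm s hs))⁻¹
        = y * (c.x1 s * (y * c.x6 t * y⁻¹) * (c.x1 s)⁻¹) * y⁻¹ := by rw [hw]; group
      _ = y * (v * (c.x2 (t * nrm σ s))⁻¹) * y⁻¹ := by rw [hc, c.conj16 s t ht, hv]
      _ = _ := by
        rw [← c.x2_neg hfix, commutatorElement_def]
        group
  have h1 : y * v * y⁻¹ ∈ Sg c.X {3, 4, 5, 6} := c.conj_mem_Sg (by decide +kernel) hy7 hv'
  have h2 : ⁅y, c.x2 (-(t * nrm σ s))⁆ ∈ Sg c.X {3, 4, 5, 6} :=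
    Sg_mono (by decide +kernel) (c.comm (k := 7) (j := 2) (by decide) (by decide) hy7 (c.mem2 (neg_fix hfix)))
  rw [← mul_assoc] at e
  have h3 := c.peel' (k := 2) (s := {3, 4, 5, 6}) (by decide +kernel) hg (one_mem _) (c.mem2 (neg_fix hfix))
    (mul_mem h1 h2) (by rw [one_mul]; exact e)
  exact h3.1

theorem wmA_x1 (t : ↥(fx σ)) (ht : t ≠ 0) (a : E) :
    c.pa (wm t ht) * c.x1 a * (c.pa (wm t ht))⁻¹ = c.x5 (t * a) := by
  obtain ⟨y, hy⟩ : ∃ y : L, y = c.pa (lo (-t⁻¹)) := ⟨_, rfl⟩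
  have hy0 : y ∈ c.X 0 := (c.pa_lo _).2 ⟨_, hy.symm⟩
  have htf : σ (t : E) = t := t.2
  have hw : c.pa (wm t ht) = y * c.x6 t * y := by
    rw [wm_eq, map_mul, map_mul, c.pa_up, hy]
  have h1 := c.mem1 a
  have hc : y * c.x1 a * y⁻¹ = c.x1 a := by
    have h := c.comm (k := 0) (j := 1) (by decide) (by decide) hy0 h1
    have h0 : bt (0 : ZMod (2 * 6)) 1 = ∅ := by decide +kernel
    rw [h0] at h
    have h1 : ⁅y, c.x1 a⁆ = 1 := by
      have : Sg c.X ∅ = ⊥ := by unfold Sg; simp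
      rw [this] at h
      exact Subgroup.mem_bot.1 h
    rw [commutatorElement_def] at h1
    exact mul_inv_eq_one.1 h1
  have hfix : σ ((t : E) * nrm σ a) = t * nrm σ a := mul_fix htf (c.nf a)
  have hg : c.pa (wm t ht) * c.x1 a * (c.pa (wm t ht))⁻¹ ∈ c.X 5 := by
    exact maps_mem (c.mapsA t ht) h1 (by decide)
  obtain ⟨v, hv⟩ : ∃ v : L, v = c.x1 a * (c.x2 (t * nrm σ a) * c.x3 (-(t * shp σ a)) * c.x4 ((t : E) ^ 2 * nrm σ a)) :=
    ⟨_, rfl⟩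
  have hv' : v ∈ Sg c.X {1, 2, 3, 4} := by
    rw [hv]
    refine mul_mem (c.sg (by decide) h1) (mul_mem (mul_mem (c.sg (by decide) (c.mem2 hfix))
      (c.sg (by decide) (c.mem3 _))) (c.sg (by decide) (c.mem4 ?_)))
    exact mul_fix (by rw [map_pow, htf]) (c.nf a)
  have e : c.pa (wm t ht) * c.x1 a * (c.pa (wm t ht))⁻¹ =
      (y * v * y⁻¹) * (⁅y, c.x5 (t * a)⁆ * c.x5 (t * a)) := by
    calc c.pa (wm t ht) * c.x1 a * (c.pa (wm t ht))⁻¹
        = y * (c.x6 t * (y * c.x1 a * y⁻¹) * (c.x6 t)⁻¹) * y⁻¹ := by rw [hw]; group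
      _ = y * (v * (c.x5 (t * a))) * y⁻¹ := by rw [hc, c.conj61 a t htf, hv]; group
      _ = _ := by
        rw [commutatorElement_def]
        group
  have k1 : y * v * y⁻¹ ∈ Sg c.X {1, 2, 3, 4} := c.conj_mem_Sg (by decide +kernel) hy0 hv'
  have k2 : ⁅y, c.x5 (t * a)⁆ ∈ Sg c.X {1, 2, 3, 4} :=
    Sg_mono (by decide +kernel) (c.comm (k := 0) (j := 5) (by decide) (by decide) hy0 (c.mem5 _))
  rw [← mul_assoc] at e
  have h3 := c.peel' (k := 5) (s := {1, 2, 3, 4}) (by decide +kernel) hg (one_mem _) (c.mem5 _)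
    (mul_mem k1 k2) (by rw [one_mul]; exact e)
  exact h3.1

/-- `g` normalises all root groups and acts on `X 1`, `X 6` as the multiplication by `c1`, `c6`. -/
structure Act (g : L) (c1 c6 : E) : Prop where
  maps : Maps c.X g id
  a1 : ∀ a, g * c.x1 a * g⁻¹ = c.x1 (c1 * a)
  a6 : ∀ t, σ t = t → g * c.x6 t * g⁻¹ = c.x6 (c6 * t)
  ne1 : c1 ≠ 0
  ne6 : c6 ≠ 0
  fix : σ c6 = c6

omit c in
theorem conj_kk {G : Type*} [Group G] (g a b : G) : g * kk a b * g⁻¹ = kk (g * a * g⁻¹) (g * b * g⁻¹) := by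
  unfold kk
  group

variable {c}

theorem Act.key {g : L} {c1 c6 : E} (h : c.Act g c1 c6) (a t : E) (ht : σ t = t) :
    g * c.x2 (-(t * nrm σ a)) * g⁻¹ = c.x2 (-(c6 * t * nrm σ (c1 * a))) ∧
    g * c.x3 (t * shp σ a) * g⁻¹ = c.x3 (c6 * t * shp σ (c1 * a)) ∧
    g * c.x4 (t ^ 2 * nrm σ a) * g⁻¹ = c.x4 ((c6 * t) ^ 2 * nrm σ (c1 * a)) ∧
    g * c.x5 (-(t * a)) * g⁻¹ = c.x5 (-(c6 * t * (c1 * a))) := by
  have e := conj_kk g (c.x1 a) (c.x6 t)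
  have ht' : σ (c6 * t) = c6 * t := mul_fix h.fix ht
  rw [h.a1, h.a6 t ht, c.par.rel.c16 a t ht, c.par.rel.c16 (c1 * a) (c6 * t) ht'] at e
  have e1 : (g * c.x2 (-(t * nrm σ a)) * g⁻¹) * (g * c.x3 (t * shp σ a) * g⁻¹) *
      (g * c.x4 (t ^ 2 * nrm σ a) * g⁻¹) * (g * c.x5 (-(t * a)) * g⁻¹) =
      g * (c.x2 (-(t * nrm σ a)) * c.x3 (t * shp σ a) * c.x4 (t ^ 2 * nrm σ a) * c.x5 (-(t * a))) * g⁻¹ := by
    group
  rw [← e1] at e
  have m : ∀ {k : ZMod (2 * 6)} {x : L}, x ∈ c.X k → g * x * g⁻¹ ∈ c.X k := fun hx => maps_mem h.maps hx rfl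
  exact c.uniq25 (m (c.mem2 (neg_fix (mul_fix ht (c.nf a))))) (m (c.mem3 _))
    (m (c.mem4 (mul_fix (by rw [map_pow, ht]) (c.nf a)))) (m (c.mem5 _))
    (c.mem2 (neg_fix (mul_fix ht' (c.nf _)))) (c.mem3 _) (c.mem4 (mul_fix (by rw [map_pow, ht']) (c.nf _)))
    (c.mem5 _) e

theorem Act.a2 {g : L} {c1 c6 : E} (h : c.Act g c1 c6) (t : E) (ht : σ t = t) :
    g * c.x2 t * g⁻¹ = c.x2 (c6 * nrm σ c1 * t) := by
  have := (h.key 1 (-t) (neg_fix ht)).1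
  rw [nrm_one, mul_one, neg_neg, mul_one] at this
  rw [this]
  congr 1
  ring

theorem Act.a3 {g : L} {c1 c6 : E} (h : c.Act g c1 c6) (b : E) :
    g * c.x3 b * g⁻¹ = c.x3 (c6 * shp σ c1 * b) := by
  by_cases hb : b = 0
  · subst hb
    rw [mul_zero, c.x3_zero]
    group
  have hn := nrm_ne (σ := σ) hb
  have hnb : nrm σ b * shp σ b⁻¹ = b := by
    unfold nrm shp
    have h1 : σ b ≠ 0 := (map_ne_zero σ).2 hb
    have h2 : σ (σ b) ≠ 0 := (map_ne_zero σ).2 h1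
    rw [map_inv₀, map_inv₀]
    field_simp
  have := (h.key b⁻¹ (nrm σ b) (c.nf b)).2.1
  rw [hnb] at this
  rw [this, shp_mul]
  congr 1
  calc c6 * nrm σ b * (shp σ c1 * shp σ b⁻¹) = c6 * shp σ c1 * (nrm σ b * shp σ b⁻¹) := by ring
    _ = _ := by rw [hnb]

theorem Act.a4 {g : L} {c1 c6 : E} (h : c.Act g c1 c6) (t : E) (ht : σ t = t) :
    g * c.x4 t * g⁻¹ = c.x4 (c6 ^ 2 * nrm σ c1 * t) := by
  by_cases hb : t = 0
  · subst hb
    rw [mul_zero, c.x4_zero]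
    group
  have := (h.key t t⁻¹ (inv_fix ht)).2.2.1
  rw [nrm_mul, nrm_of_fix ht, show t⁻¹ ^ 2 * t ^ 3 = t by field_simp] at this
  rw [this]
  congr 1
  field_simp

theorem Act.a5 {g : L} {c1 c6 : E} (h : c.Act g c1 c6) (b : E) :
    g * c.x5 b * g⁻¹ = c.x5 (c6 * c1 * b) := by
  have := (h.key b (-1) (by rw [map_neg, map_one])).2.2.2
  rw [neg_mul, one_mul, neg_neg] at this
  rw [this]
  congr 1
  ring

theorem Act.mul {g g' : L} {c1 c6 c1' c6' : E} (h : c.Act g c1 c6) (h' : c.Act g' c1' c6') :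
    c.Act (g * g') (c1 * c1') (c6 * c6') where
  maps := (h.maps.mul h'.maps).congr fun _ => rfl
  a1 a := by
    rw [show g * g' * c.x1 a * (g * g')⁻¹ = g * (g' * c.x1 a * g'⁻¹) * g⁻¹ by group, h'.a1, h.a1, mul_assoc]
  a6 t ht := by
    rw [show g * g' * c.x6 t * (g * g')⁻¹ = g * (g' * c.x6 t * g'⁻¹) * g⁻¹ by group, h'.a6 t ht,
      h.a6 _ (mul_fix h'.fix ht), mul_assoc]
  ne1 := mul_ne_zero h.ne1 h'.ne1
  ne6 := mul_ne_zero h.ne6 h'.ne6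
  fix := mul_fix h.fix h'.fix

theorem Act.inv {g : L} {c1 c6 : E} (h : c.Act g c1 c6) : c.Act g⁻¹ c1⁻¹ c6⁻¹ where
  maps := h.maps.inv fun _ => rfl
  a1 a := by
    have := h.a1 (c1⁻¹ * a)
    rw [mul_inv_cancel_left₀ h.ne1] at this
    rw [← this]
    group
  a6 t ht := by
    have := h.a6 (c6⁻¹ * t) (mul_fix (inv_fix h.fix) ht)
    rw [mul_inv_cancel_left₀ h.ne6] at this
    rw [← this]
    group
  ne1 := inv_ne_zero h.ne1
  ne6 := inv_ne_zero h.ne6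
  fix := inv_fix h.fix

variable (c)

theorem act_one : c.Act 1 1 1 where
  maps := Maps.one
  a1 a := by rw [one_mul, one_mul, inv_one, mul_one]
  a6 t _ := by rw [one_mul, one_mul, inv_one, mul_one]
  ne1 := one_ne_zero
  ne6 := one_ne_zero
  fix := map_one σ

theorem wmB_inv_x2 (s : E) (hs : s ≠ 0) (t : E) (ht : σ t = t) :
    (c.pb (wm s hs))⁻¹ * c.x2 t * c.pb (wm s hs) = c.x6 (-(t * (nrm σ s)⁻¹)) := by
  have hn := nrm_ne (σ := σ) hs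
  have h1 : σ (-(t * (nrm σ s)⁻¹)) = -(t * (nrm σ s)⁻¹) := neg_fix (mul_fix ht (inv_fix (c.nf s)))
  have h := c.wmB_x6 s hs _ h1
  rw [show -(-(t * (nrm σ s)⁻¹) * nrm σ s) = t by field_simp] at h
  rw [← h]
  group

/-- the torus of `⟨X 1, X 7⟩` -/
theorem act_b (s : E) (hs : s ≠ 0) : c.Act (c.pb (dg s hs)) (s ^ 2) (nrm σ s)⁻¹ where
  maps := by
    rw [dg_eq_wm, map_mul, map_inv]
    refine ((c.mapsB s hs).mul ((c.mapsB 1 one_ne_zero).inv (g := fun k => 8 - k) fun k => ?_)).congr fun k => ?_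
    · ring
    · simp only [Function.comp, id]
      ring
  a1 a := by rw [← c.pb_up, ← c.pb_up, ← map_inv, ← map_mul, ← map_mul, dg_up']
  a6 t ht := by
    have hn := nrm_ne (σ := σ) hs
    rw [dg_eq_wm', map_mul, map_inv]
    have h1 := c.wmB_x6 1 one_ne_zero t ht
    rw [nrm_one, mul_one] at h1
    have h2 := c.wmB_inv_x2 s hs (-t) (neg_fix ht)
    rw [show (c.pb (wm s hs))⁻¹ * c.pb (wm 1 one_ne_zero) * c.x6 t * ((c.pb (wm s hs))⁻¹ * c.pb (wm 1 one_ne_zero))⁻¹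
      = (c.pb (wm s hs))⁻¹ * (c.pb (wm 1 one_ne_zero) * c.x6 t * (c.pb (wm 1 one_ne_zero))⁻¹) * c.pb (wm s hs) by group,
      h1, h2]
    congr 1
    ring
  ne1 := pow_ne_zero 2 hs
  ne6 := inv_ne_zero (nrm_ne hs)
  fix := inv_fix (c.nf s)

theorem wmA_inv_x5 (t : ↥(fx σ)) (ht : t ≠ 0) (a : E) :
    (c.pa (wm t ht))⁻¹ * c.x5 a * c.pa (wm t ht) = c.x1 ((t : E)⁻¹ * a) := by
  have h0 : (t : E) ≠ 0 := fun h => ht (Subtype.ext h)
  have h := c.wmA_x1 t ht ((t : E)⁻¹ * a)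
  rw [mul_inv_cancel_left₀ h0] at h
  rw [← h]
  group

/-- the torus of `⟨X 6, X 0⟩` -/
theorem act_a (t : ↥(fx σ)) (ht : t ≠ 0) : c.Act (c.pa (dg t ht)) (t : E)⁻¹ ((t : E) ^ 2) where
  maps := by
    rw [dg_eq_wm, map_mul, map_inv]
    refine ((c.mapsA t ht).mul ((c.mapsA 1 one_ne_zero).inv (g := fun k => 6 - k) fun k => ?_)).congr fun k => ?_
    · ring
    · simp only [Function.comp, id]
      ring
  a1 a := by
    rw [dg_eq_wm', map_mul, map_inv]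
    have h1 := c.wmA_x1 1 one_ne_zero a
    rw [show ((1 : ↥(fx σ)) : E) = 1 from rfl, one_mul] at h1
    have h2 := c.wmA_inv_x5 t ht a
    rw [show (c.pa (wm t ht))⁻¹ * c.pa (wm 1 one_ne_zero) * c.x1 a * ((c.pa (wm t ht))⁻¹ * c.pa (wm 1 one_ne_zero))⁻¹
      = (c.pa (wm t ht))⁻¹ * (c.pa (wm 1 one_ne_zero) * c.x1 a * (c.pa (wm 1 one_ne_zero))⁻¹) * c.pa (wm t ht) by group,
      h1, h2]
  a6 u hu := by
    have h1 : c.x6 u = c.pa (up ⟨u, hu⟩) := (c.pa_up ⟨u, hu⟩).symm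
    rw [h1, ← map_inv, ← map_mul, ← map_mul, dg_up', c.pa_up]
    rfl
  ne1 := inv_ne_zero fun h => ht (Subtype.ext h)
  ne6 := pow_ne_zero 2 fun h => ht (Subtype.ext h)
  fix := by rw [map_pow, show σ (t : E) = t from t.2]

/-! ### Faithfulness -/

theorem disjA (a b : ↥(fx σ)) (h : c.pa (up a) = c.pa (lo b)) : a = 0 := by
  have h1 : c.pa (up a) ∈ c.X 6 := by rw [c.pa_up]; exact c.mem6 a.2
  have h2 : c.pa (up a) ∈ Sg c.X {0} := c.sg (by decide) ((c.pa_lo _).2 ⟨b, h.symm⟩)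
  have h3 := c.eq_one_of_mem (k := 6) (s := {0}) (by decide +kernel) h1 h2
  rw [c.pa_up, ← c.x6_zero] at h3
  exact Subtype.ext (c.x6_inj a.2 (map_zero σ) h3)

theorem disjB (a b : E) (h : c.pb (up a) = c.pb (lo b)) : a = 0 := by
  have h1 : c.pb (up a) ∈ c.X 1 := by rw [c.pb_up]; exact c.mem1 a
  have h2 : c.pb (up a) ∈ Sg c.X {7} := c.sg (by decide) ((c.pb_lo _).2 ⟨b, h.symm⟩)
  have h3 := c.eq_one_of_mem (k := 1) (s := {7}) (by decide +kernel) h1 h2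
  rw [c.pb_up, ← c.x1_zero] at h3
  exact c.x1_inj h3

/-- an endomorphism fixing `X 1` pointwise and normalising `X 7` fixes `pb` -/
theorem fix_pb {φ : L →* L} (h1 : ∀ a, φ (c.x1 a) = c.x1 a) (h7 : ∀ g ∈ c.X 7, φ g ∈ c.X 7) (x : SL2 E) :
    φ (c.pb x) = c.pb x := by
  have h := sl_fix c.pb c.pb φ (fun a => by rw [c.pb_up, h1])
    (fun b => by
      obtain ⟨b', hb'⟩ := (c.pb_lo _).1 (h7 (c.pb (lo b)) ((c.pb_lo _).2 ⟨b, rfl⟩))
      exact ⟨b', hb'.symm⟩) c.disjB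
  have h2 : φ.comp c.pb = c.pb := hom_ext _ _ (fun a => by rw [MonoidHom.comp_apply, c.pb_up, h1])
    (fun b => h b)
  exact DFunLike.congr_fun h2 x

/-- an endomorphism fixing `X 6` pointwise and normalising `X 0` fixes `pa` -/
theorem fix_pa {φ : L →* L} (h6 : ∀ t, σ t = t → φ (c.x6 t) = c.x6 t) (h0 : ∀ g ∈ c.X 0, φ g ∈ c.X 0)
    (x : SL2 ↥(fx σ)) : φ (c.pa x) = c.pa x := by
  have h := sl_fix c.pa c.pa φ (fun a => by rw [c.pa_up, h6 _ a.2])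
    (fun b => by
      obtain ⟨b', hb'⟩ := (c.pa_lo _).1 (h0 (c.pa (lo b)) ((c.pa_lo _).2 ⟨b, rfl⟩))
      exact ⟨b', hb'.symm⟩) c.disjA
  have h2 : φ.comp c.pa = c.pa := hom_ext _ _ (fun a => by rw [MonoidHom.comp_apply, c.pa_up, h6 _ a.2])
    (fun b => h b)
  exact DFunLike.congr_fun h2 x

theorem idx_rot : ∀ k : ZMod (2 * 6), ∃ r : Fin 6, k = 1 + 2 * (r.val : ZMod (2 * 6)) ∨
    k = 6 + 2 * (r.val : ZMod (2 * 6)) := by decide +kernel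

/-- `L` is generated by the images of `pa` and `pb` -/
theorem closure_eq_top (H : Subgroup L) (ha : ∀ x, c.pa x ∈ H) (hb : ∀ x, c.pb x ∈ H) : H = ⊤ := by
  rw [eq_top_iff, ← c.gen]
  refine iSup_le fun k => ?_
  have hn : ∀ r : ℕ, (c.n1 * c.n6) ^ r ∈ H := fun r => pow_mem (mul_mem (hb _) (ha _)) r
  obtain ⟨r, rfl | rfl⟩ := idx_rot k
  · intro x hx
    have h1 : ((c.n1 * c.n6) ^ r.val)⁻¹ * x * (c.n1 * c.n6) ^ r.val ∈ c.X 1 := by
      rw [← c.maps_rot r.val]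
      convert hx using 1
      group
    obtain ⟨a, ha'⟩ := (c.par.mem1 _).1 h1
    have h2 : x = (c.n1 * c.n6) ^ r.val * c.x1 a * ((c.n1 * c.n6) ^ r.val)⁻¹ := by rw [ha']; group
    rw [h2, ← c.pb_up]
    exact mul_mem (mul_mem (hn _) (hb _)) (inv_mem (hn _))
  · intro x hx
    have h1 : ((c.n1 * c.n6) ^ r.val)⁻¹ * x * (c.n1 * c.n6) ^ r.val ∈ c.X 6 := by
      rw [← c.maps_rot r.val]
      convert hx using 1
      group
    obtain ⟨a, haf, ha'⟩ := (c.par.mem6 _).1 h1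
    have h2 : x = (c.n1 * c.n6) ^ r.val * c.x6 a * ((c.n1 * c.n6) ^ r.val)⁻¹ := by rw [ha']; group
    rw [h2, show c.x6 a = c.pa (up ⟨a, haf⟩) from (c.pa_up ⟨a, haf⟩).symm]
    exact mul_mem (mul_mem (hn _) (ha _)) (inv_mem (hn _))

/-- an endomorphism fixing `X 1`, `X 6` pointwise and normalising `X 7`, `X 0` is the identity -/
theorem eq_id {φ : L →* L} (h1 : ∀ a, φ (c.x1 a) = c.x1 a) (h7 : ∀ g ∈ c.X 7, φ g ∈ c.X 7)
    (h6 : ∀ t, σ t = t → φ (c.x6 t) = c.x6 t) (h0 : ∀ g ∈ c.X 0, φ g ∈ c.X 0) (x : L) : φ x = x := by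
  have h := c.closure_eq_top (φ.eqLocus (MonoidHom.id L)) (fun x => c.fix_pa h6 h0 x)
    (fun x => c.fix_pb h1 h7 x)
  have h2 : x ∈ φ.eqLocus (MonoidHom.id L) := by rw [h]; exact Subgroup.mem_top x
  exact h2

variable {c}

theorem Act.eq_one {g : L} (h : c.Act g 1 1) : g = 1 := by
  refine c.cen g fun x => ?_
  have := c.eq_id (φ := (MulAut.conj g).toMonoidHom) (fun a => by
    change g * c.x1 a * g⁻¹ = _
    rw [h.a1, one_mul]) (fun y hy => maps_mem h.maps hy rfl) (fun t ht => by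
    change g * c.x6 t * g⁻¹ = _
    rw [h.a6 t ht, one_mul]) (fun y hy => maps_mem h.maps hy rfl) x
  change g * x * g⁻¹ = x at this
  exact mul_inv_eq_iff_eq_mul.1 this

theorem Act.unique {g g' : L} {c1 c6 : E} (h : c.Act g c1 c6) (h' : c.Act g' c1 c6) : g = g' := by
  have h1 := h.mul h'.inv
  rw [mul_inv_cancel₀ h.ne1, mul_inv_cancel₀ h.ne6] at h1
  exact mul_inv_eq_one.1 h1.eq_one

/-- action on `X 7` -/
theorem Act.a7 {g : L} {c1 c6 : E} (h : c.Act g c1 c6) (b : E) :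
    g * c.pb (lo b) * g⁻¹ = c.pb (lo (b / c1)) := by
  have h1 := sl_fix c.pb (c.pb.comp (conjGL (dgl c1 h.ne1)).toMonoidHom) (MulAut.conj g).toMonoidHom
    (fun a => by
      change g * c.pb (up a) * g⁻¹ = c.pb (conjGL (dgl c1 h.ne1) (up a))
      rw [conjGL_dgl_up, c.pb_up, h.a1, c.pb_up])
    (fun b => by
      change ∃ b', g * c.pb (lo b) * g⁻¹ = c.pb (conjGL (dgl c1 h.ne1) (lo b'))
      obtain ⟨b', hb'⟩ := (c.pb_lo _).1 (maps_mem h.maps ((c.pb_lo _).2 ⟨b, rfl⟩) rfl)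
      refine ⟨b' * c1, ?_⟩
      rw [conjGL_dgl_lo, mul_div_cancel_right₀ _ h.ne1]
      exact hb'.symm)
    (fun a b hab => by
      change c.pb (conjGL (dgl c1 h.ne1) (up a)) = c.pb (conjGL (dgl c1 h.ne1) (lo b)) at hab
      rw [conjGL_dgl_up, conjGL_dgl_lo] at hab
      exact (mul_eq_zero.1 (c.disjB _ _ hab)).resolve_left h.ne1) b
  change g * c.pb (lo b) * g⁻¹ = c.pb (conjGL (dgl c1 h.ne1) (lo b)) at h1
  rw [h1, conjGL_dgl_lo]

/-- action on `X 0` -/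
theorem Act.a0 {g : L} {c1 c6 : E} (h : c.Act g c1 c6) (b : ↥(fx σ)) :
    g * c.pa (lo b) * g⁻¹ = c.pa (lo (b / ⟨c6, h.fix⟩)) := by
  have hne : (⟨c6, h.fix⟩ : ↥(fx σ)) ≠ 0 := fun e => h.ne6 (congrArg Subtype.val e)
  have h1 := sl_fix c.pa (c.pa.comp (conjGL (dgl (⟨c6, h.fix⟩ : ↥(fx σ)) hne)).toMonoidHom)
    (MulAut.conj g).toMonoidHom
    (fun a => by
      change g * c.pa (up a) * g⁻¹ = c.pa (conjGL (dgl _ hne) (up a))
      rw [conjGL_dgl_up, c.pa_up, h.a6 _ a.2, c.pa_up]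
      rfl)
    (fun b => by
      change ∃ b', g * c.pa (lo b) * g⁻¹ = c.pa (conjGL (dgl _ hne) (lo b'))
      obtain ⟨b', hb'⟩ := (c.pa_lo _).1 (maps_mem h.maps ((c.pa_lo _).2 ⟨b, rfl⟩) rfl)
      refine ⟨b' * ⟨c6, h.fix⟩, ?_⟩
      rw [conjGL_dgl_lo, mul_div_cancel_right₀ _ hne]
      exact hb'.symm)
    (fun a b hab => by
      change c.pa (conjGL (dgl _ hne) (up a)) = c.pa (conjGL (dgl _ hne) (lo b)) at hab
      rw [conjGL_dgl_up, conjGL_dgl_lo] at hab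
      exact (mul_eq_zero.1 (c.disjA _ _ hab)).resolve_left hne) b
  change g * c.pa (lo b) * g⁻¹ = c.pa (conjGL (dgl _ hne) (lo b)) at h1
  rw [h1, conjGL_dgl_lo]

end HexGrp

end Cfsg.Agent.Cit.HexBase
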