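import Mathlib
import Cfsg.Agent.Cit.HexTorus
import Cfsg.Agent.Hexagon.TwD4Par
import Cfsg.Agent.GH.LowRankD4
import Cfsg.Agent.S1071

/-!
# The instance `³D₄(q)` of `HexGrp` (project CIT, S1310)
-/

set_option autoImplicit false

namespace Cfsg.Agent.Cit.HexD4

open Cfsg.Lie
open Cfsg.Agent.ChevalleyStructure
open Cfsg.Agent.ChevalleyStructure.D4Fixed (fix mem_fix)
open Cfsg.Agent.ChevalleyStructure.D4Comm
open Cfsg.Agent.ChevalleyStructure.D4Cols (xU)
open Cfsg.Agent.ChevalleyStructure.D4NCheck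
open Cfsg.Agent.ChevalleyStructure.D4NConj (nR nR_def nG hR hR_eq nR_eq)
open Cfsg.Agent.ChevalleyStructure.D4U
open Cfsg.Agent.ChevalleyStructure.D4RGD
open Cfsg.Agent.ChevalleyStructure.D4Twisted
open Cfsg.Agent.Hexagon.TwD4RGD Cfsg.Agent.Hexagon.TwD4Par Cfsg.Agent.Hexagon.TwD4Rel
open Cfsg.Agent.TitsThree.RankTwoZ
open Cfsg.Agent.SplitTwo Cfsg.Agent.Cit.HexBase
open Cfsg.Agent.Lib.SL2Mat
open Cfsg.Agent.GH.LowRankD4 (ou)

/-! ### the homomorphisms -/

section hom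

variable {K P : Type*} [Field K] [Field P]

theorem ou_up' (c : P →+* K) (r : ℕ) (hr : r < 24) (t : P) : ou c r hr (up t) = xU r (c t) :=
  Cfsg.Agent.GH.LowRankD4.ou_up c r hr t

theorem ou_lo' (c : P →+* K) (r s : ℕ) (hr : r < 24) (hs : chevD4.neg r = s) (t : P) :
    ou c r hr (lo t) = xU s (c t) :=
  Cfsg.Agent.GH.LowRankD4.ou_lo c r s hr hs t

theorem comm_of (c c' : P →+* K) (r s r' s' : ℕ) (hr : r < 24) (hr' : r' < 24) (hs : chevD4.neg r = s)
    (hs' : chevD4.neg r' = s')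
    (h1 : ∀ t u : K, Commute (xU r t) (xU r' u)) (h2 : ∀ t u : K, Commute (xU r t) (xU s' u))
    (h3 : ∀ t u : K, Commute (xU s t) (xU r' u)) (h4 : ∀ t u : K, Commute (xU s t) (xU s' u))
    (g h : SL2 P) : ou c r hr g * ou c' r' hr' h = ou c' r' hr' h * ou c r hr g := by
  have key : ∀ b : P, ∀ h : SL2 P, Commute (ou c r hr (up b)) (ou c' r' hr' h) ∧
      Commute (ou c r hr (lo b)) (ou c' r' hr' h) := by
    intro b h
    obtain ⟨x, y, z, w, rfl⟩ := exists_up_lo h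
    simp only [map_mul, ou_up', ou_lo' c' r' s' hr' hs', ou_lo' c r s hr hs]
    exact ⟨(((h1 _ _).mul_right (h2 _ _)).mul_right (h1 _ _)).mul_right (h2 _ _),
      (((h3 _ _).mul_right (h4 _ _)).mul_right (h3 _ _)).mul_right (h4 _ _)⟩
  obtain ⟨x, y, z, w, rfl⟩ := exists_up_lo g
  simp only [map_mul]
  exact ((((key x h).1.mul_left (key y h).2).mul_left (key z h).1).mul_left (key w h).2).eq

variable (φ : K →+* K)

/-- The product of the three outer nodes. -/
noncomputable def pb0 : SL2 K →* GL chevD4.Idx K :=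
  MonoidHom.mk' (fun g => ou (RingHom.id K) 18 (by decide) g * ou φ 13 (by decide) g *
    ou (φ.comp φ) 12 (by decide) g) (by
    intro g h
    simp only [map_mul]
    have e1 := comm_of φ (RingHom.id K) 13 10 18 5 (by decide) (by decide) (by decide +kernel) (by decide +kernel)
      (Cfsg.Agent.GH.LowRankD4.pc' (by decide)) (Cfsg.Agent.GH.LowRankD4.pc' (by decide))
      (Cfsg.Agent.GH.LowRankD4.pc' (by decide)) (Cfsg.Agent.GH.LowRankD4.pc' (by decide)) g h
    have e2 := comm_of (φ.comp φ) (RingHom.id K) 12 11 18 5 (by decide) (by decide) (by decide +kernel)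
      (by decide +kernel)
      (Cfsg.Agent.GH.LowRankD4.pc' (by decide)) (Cfsg.Agent.GH.LowRankD4.pc' (by decide))
      (Cfsg.Agent.GH.LowRankD4.pc' (by decide)) (Cfsg.Agent.GH.LowRankD4.pc' (by decide)) g h
    have e3 := comm_of (φ.comp φ) φ 12 11 13 10 (by decide) (by decide) (by decide +kernel)
      (by decide +kernel)
      (Cfsg.Agent.GH.LowRankD4.pc' (by decide)) (Cfsg.Agent.GH.LowRankD4.pc' (by decide))
      (Cfsg.Agent.GH.LowRankD4.pc' (by decide)) (Cfsg.Agent.GH.LowRankD4.pc' (by decide)) g h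
    generalize ou (RingHom.id K) 18 (by decide) g = A at *
    generalize ou (RingHom.id K) 18 (by decide) h = A' at *
    generalize ou φ 13 (by decide) g = B at *
    generalize ou φ 13 (by decide) h = B' at *
    generalize ou (φ.comp φ) 12 (by decide) g = D at *
    generalize ou (φ.comp φ) 12 (by decide) h = D' at *
    calc A * A' * (B * B') * (D * D') = A * (A' * B) * B' * D * D' := by simp only [mul_assoc]
      _ = A * (B * A') * B' * D * D' := by rw [e1]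
      _ = A * B * A' * (B' * D) * D' := by simp only [mul_assoc]
      _ = A * B * A' * (D * B') * D' := by rw [e3]
      _ = A * B * (A' * D) * B' * D' := by simp only [mul_assoc]
      _ = A * B * (D * A') * B' * D' := by rw [e2]
      _ = A * B * D * (A' * B' * D') := by simp only [mul_assoc])

theorem pb0_up (t : K) : pb0 φ (up t) = D4Fixed.X φ t := by
  change ou _ 18 _ _ * ou φ 13 _ _ * ou (φ.comp φ) 12 _ _ = _
  rw [ou_up', ou_up', ou_up']
  rfl

theorem pb0_lo (t : K) : pb0 φ (lo t) = D4Fixed.Y φ t := by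
  change ou _ 18 _ _ * ou φ 13 _ _ * ou (φ.comp φ) 12 _ _ = _
  rw [ou_lo' _ 18 5 _ (by decide +kernel), ou_lo' _ 13 10 _ (by decide +kernel),
    ou_lo' _ 12 11 _ (by decide +kernel)]
  rfl

theorem wm_eq' {F : Type*} [Field F] (b : F) (hb : b ≠ 0) : wm b hb = up b * lo (-b⁻¹) * up b := by
  refine ext_ent ?_ ?_ ?_ ?_ <;> simp [ent_mul, hb]

theorem pb0_wm (t : K) (ht : t ≠ 0) : pb0 φ (wm t ht) = nbt φ t := by
  rw [wm_eq', map_mul, map_mul, pb0_up, pb0_lo, Y_rank_one, inv_neg, inv_inv, X_neg, neg_neg]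
  group

theorem pb0_dg (t : K) (ht : t ≠ 0) : pb0 φ (dg t ht) = hb φ t := by
  rw [dg_eq_wm, map_mul, map_inv, pb0_wm, pb0_wm, ← nb_eq, nbt_eq, mul_inv_cancel_right]

/-- The homomorphism of the central node. -/
noncomputable def pa0 (c : P →+* K) : SL2 P →* GL chevD4.Idx K := ou c 14 (by decide)

theorem pa0_up (c : P →+* K) (t : P) : pa0 c (up t) = xG 14 (c t) := (ou_up' c 14 _ t).trans (xU_eq _ _)

theorem pa0_lo (c : P →+* K) (t : P) : pa0 c (lo t) = xG 9 (c t) :=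
  (ou_lo' c 14 9 _ (by decide +kernel) t).trans (xU_eq _ _)

theorem pa0_wm (c : P →+* K) (t : P) (ht : t ≠ 0) : pa0 c (wm t ht) = nR 14 (c t) := by
  rw [wm_eq', map_mul, map_mul, pa0_up, pa0_lo, nR_def, map_neg, map_inv₀, mul_assoc]

theorem pa0_dg (c : P →+* K) (t : P) (ht : t ≠ 0) : pa0 c (dg t ht) = hR 14 (c t) := by
  rw [dg_eq_wm, map_mul, map_inv, pa0_wm, pa0_wm, map_one, ← hR_eq]

end hom

section Twisted

variable {K : Type*} [Field K] {q : ℕ} {φ : K →+* K} (hφ : ∀ x, φ x = x ^ q) (hle : twistedD4 K q ≤ fix φ)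
  {σ : K ≃+* K} (hσ : ∀ x, σ x = φ x)

include hφ

theorem pb0_mem (g : SL2 K) : pb0 φ g ∈ twistedD4 K q := by
  obtain ⟨x, y, z, w, rfl⟩ := exists_up_lo g
  simp only [map_mul, pb0_up, pb0_lo]
  exact mul_mem (mul_mem (mul_mem (X_mem_tw hφ _) (Y_mem_tw hφ _)) (X_mem_tw hφ _)) (Y_mem_tw hφ _)

include hσ

theorem pa0_mem (g : SL2 ↥(fx σ)) : pa0 (fx σ).subtype g ∈ twistedD4 K q := by
  have h1 : ∀ t : ↥(fx σ), (t : K) ^ q = t := fun t => by
    rw [← hφ, ← hσ]; exact t.2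
  have hx : ∀ t : ↥(fx σ), xG 14 ((fx σ).subtype t) ∈ twistedD4 K q := fun t => by
    rw [← xU_eq]; exact D4Fixed.x14_mem (h1 t)
  have hy : ∀ t : ↥(fx σ), xG 9 ((fx σ).subtype t) ∈ twistedD4 K q := fun t => by
    rw [← xU_eq]; exact D4Fixed.x9_mem (h1 t)
  obtain ⟨x, y, z, w, rfl⟩ := exists_up_lo g
  simp only [map_mul, pa0_up, pa0_lo]
  exact mul_mem (mul_mem (mul_mem (hx _) (hy _)) (hx _)) (hy _)

omit hφ hσ in
theorem Sg_pos : ∀ u ∈ Sg (X K q) {1, 2, 3, 4, 5, 6}, (u : GL chevD4.Idx K) ∈ chevD4.posUnipotent K := by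
  have h : Sg (X K q) {1, 2, 3, 4, 5, 6} ≤ (chevD4.posUnipotent K).subgroupOf (twistedD4 K q) := by
    refine Sg_le fun k hk g hg => Subgroup.mem_subgroupOf.2 (RS_le_U ?_ (mem_X.1 hg))
    have key : ∀ k : ZMod (2 * 6), k ∈ ({1, 2, 3, 4, 5, 6} : Finset (ZMod (2 * 6))) →
        ((L k).all fun s => decide (12 ≤ s) && decide (s < 24)) = true := by decide +kernel
    exact key k hk
  exact fun g hg => h hg

omit hφ hσ in
theorem Sg_neg : ∀ u ∈ Sg (X K q) {7, 8, 9, 10, 11, 0}, (u : GL chevD4.Idx K) ∈ chevD4.negUnipotent K := by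
  have h : Sg (X K q) {7, 8, 9, 10, 11, 0} ≤ (chevD4.negUnipotent K).subgroupOf (twistedD4 K q) := by
    refine Sg_le fun k hk g hg => Subgroup.mem_subgroupOf.2 ?_
    have key : ∀ k : ZMod (2 * 6), k ∈ ({7, 8, 9, 10, 11, 0} : Finset (ZMod (2 * 6))) → ∀ s ∈ L k, s < 12 := by
      decide +kernel
    have h1 : RS K (L k) ≤ chevD4.negUnipotent K := by
      refine Cfsg.Agent.ChevalleyStructure.TwistedU.rspan_le xG fun s hs t => ?_
      exact Subgroup.subset_closure ⟨s, t, (isNegRoot_iff _).2 (key k hk s hs), coe_xG _ _⟩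
    exact h1 (mem_X.1 hg)
  exact fun g hg => h hg

omit hφ hσ in
theorem tri_aux {u v h : ↥(twistedD4 K q)} (hu : (u : GL chevD4.Idx K) ∈ chevD4.posUnipotent K)
    (hv : (v : GL chevD4.Idx K) ∈ chevD4.negUnipotent K) (hh : (h : GL chevD4.Idx K) ∈ chevD4.diagonalSubgroup K)
    (e : u = h * v) : u = 1 ∧ v = 1 := by
  have h1 := Triangular.borel_inf_neg mem_types (diagonal_le_diagSub K)
  have h2 := Triangular.pos_inf_diagonal mem_types (diagonal_le_diagSub K)
  have e1 : (u : GL chevD4.Idx K) = h * v := congrArg Subtype.val e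
  have hv1 : (v : GL chevD4.Idx K) ∈ chevD4.borelSubgroup K ⊓ chevD4.negUnipotent K := by
    refine ⟨?_, hv⟩
    have e2 : (v : GL chevD4.Idx K) = (h : GL chevD4.Idx K)⁻¹ * u := by rw [e1, inv_mul_cancel_left]
    rw [e2]
    exact Subgroup.mul_mem _ (Subgroup.inv_mem _ (Subgroup.mem_sup_right hh)) (Subgroup.mem_sup_left hu)
  rw [h1, Subgroup.mem_bot] at hv1
  have hu1 : (u : GL chevD4.Idx K) ∈ chevD4.posUnipotent K ⊓ chevD4.diagonalSubgroup K := by
    refine ⟨hu, ?_⟩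
    rw [e1, hv1, mul_one]
    exact hh
  rw [h2, Subgroup.mem_bot] at hu1
  exact ⟨Subtype.ext hu1, Subtype.ext hv1⟩

omit hφ hσ in
theorem center_eq [Fintype K] (hq : IsPrimePow q) (hK : Fintype.card K = q ^ 3) (g : ↥(twistedD4 K q))
    (hg : ∀ x, g * x = x * g) : g = 1 := by
  obtain ⟨hs, hc⟩ := S1071.result hq hK
  have hz : Subgroup.center ↥(twistedD4 K q) = ⊥ := by
    rcases hs.eq_bot_or_eq_top_of_normal (Subgroup.center ↥(twistedD4 K q)) inferInstance with h | h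
    · exact h
    · exact absurd ⟨⟨fun a b => (Subgroup.mem_center_iff.1 (h ▸ Subgroup.mem_top b) a)⟩⟩ hc
  have : g ∈ Subgroup.center ↥(twistedD4 K q) := Subgroup.mem_center_iff.2 fun x => (hg x).symm
  rwa [hz, Subgroup.mem_bot] at this

end Twisted

section Instance

variable {K : Type*} [Field K] [Fintype K] {q : ℕ}

theorem frob_three (hK : Fintype.card K = q ^ 3) {σ : K ≃+* K} (hσ : ∀ x, σ x = x ^ q) (a : K) :
    σ (σ (σ a)) = a := by
  rw [hσ, hσ, hσ, ← pow_mul, ← pow_mul]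
  have e : q * (q * q) = Fintype.card K := by rw [hK]; ring
  rw [e, FiniteField.pow_card]

omit [Fintype K] in
theorem coe_sub_ne {σ : K ≃+* K} {t : ↥(fx σ)} (ht : t ≠ 0) : (t : K) ≠ 0 := fun h => ht (Subtype.ext h)

/-- **`³D₄(q)`** is a `HexGrp`. -/
noncomputable def d4 (hq : IsPrimePow q) (hK : Fintype.card K = q ^ 3) {σ : K ≃+* K} (hσ : ∀ x, σ x = x ^ q) :
    HexGrp σ ↥(twistedD4 K q) where
  X := X K q
  x1 := ev (X1 σ)
  x2 := ev X2
  x3 := ev (X3 σ)
  x4 := ev X4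
  x5 := ev (X5 σ)
  x6 := ev X6
  par := Cfsg.Agent.Hexagon.TwD4Par.hexPar (φ := (σ : K →+* K)) hσ (D4Fixed.twisted_le_fix hK hσ) (fun _ => rfl)
    (frob_three hK hσ)
  pa := (pa0 (fx σ).subtype).codRestrict _ (pa0_mem (φ := (σ : K →+* K)) hσ fun _ => rfl)
  pb := (pb0 (σ : K →+* K)).codRestrict _ (pb0_mem (φ := (σ : K →+* K)) hσ)
  pa_up t := by
    apply Subtype.ext
    refine (pa0_up (fx σ).subtype t).trans ?_
    rw [c6 (φ := (σ : K →+* K)) hσ (fun _ => rfl) t.2]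
    exact (w1_eq 14 (t : K)).symm
  pb_up a := by
    apply Subtype.ext
    refine (pb0_up (σ : K →+* K) a).trans ?_
    rw [c1 (φ := (σ : K →+* K)) hσ (fun _ => rfl) a]
    exact (X1_eq σ (σ : K →+* K) (fun _ => rfl) a).symm
  pa_lo g := by
    rw [onto0 (φ := (σ : K →+* K)) hσ (D4Fixed.twisted_le_fix hK hσ) (fun _ => rfl) g]
    constructor
    · rintro ⟨t, ht, e⟩
      exact ⟨⟨t, ht⟩, Subtype.ext ((pa0_lo (fx σ).subtype _).trans e)⟩
    · rintro ⟨t, e⟩
      exact ⟨t, t.2, (pa0_lo (fx σ).subtype _).symm.trans (congrArg Subtype.val e)⟩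
  pb_lo g := by
    have h := onto7 (φ := (σ : K →+* K)) hσ (D4Fixed.twisted_le_fix hK hσ) g
    have e7 : ((6 : ℕ) + 1 : ZMod (2 * 6)) = 7 := by decide +kernel
    rw [e7] at h
    rw [h]
    constructor
    · rintro ⟨t, -, e⟩
      exact ⟨t, Subtype.ext ((pb0_lo (σ : K →+* K) _).trans e)⟩
    · rintro ⟨t, e⟩
      exact ⟨t, trivial, (pb0_lo (σ : K →+* K) _).symm.trans (congrArg Subtype.val e)⟩
  mapsA t ht := by
    refine maps_a (h := hR 14 (t : K)) (hR_mem (by norm_num) (coe_sub_ne ht)) ?_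
    refine (pa0_wm (fx σ).subtype t ht).trans ?_
    rw [nR_eq 14 ((fx σ).subtype t)]
    rfl
  mapsB s hs := by
    refine (maps_b (h := hb (σ : K →+* K) s) (hb_mem_diagonal _ hs) ?_).congr fun k => ?_
    · refine (pb0_wm (σ : K →+* K) s hs).trans ?_
      exact nbt_eq _ s
    · have e8 : (((6 : ℕ) : ZMod (2 * 6)) + 2) = 8 := by decide +kernel
      rw [e8]
  gen := iSup_X (φ := (σ : K →+* K)) hσ
  cen := center_eq hq hK
  tri u hu v hv s hs t ht e := by
    refine tri_aux (Sg_pos u hu) (Sg_neg v hv) ?_ e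
    rw [Subgroup.coe_mul]
    refine mul_mem ?_ ?_
    · change pb0 (σ : K →+* K) (dg s hs) ∈ _
      rw [pb0_dg]
      exact hb_mem_diagonal _ hs
    · change pa0 (fx σ).subtype (dg t ht) ∈ _
      rw [pa0_dg]
      exact hR_mem (by norm_num) (coe_sub_ne ht)

theorem isPrimePow_of_card (hK : Fintype.card K = q ^ 3) : IsPrimePow q := by
  have h1 : IsPrimePow (q ^ 3) := by rw [← hK]; exact Fintype.isPrimePow_card_of_field
  rwa [isPrimePow_pow_iff (by norm_num)] at h1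

/-- the instance, existence form -/
theorem exists_d4 (hK : Fintype.card K = q ^ 3) :
    ∃ σ : K ≃+* K, (∀ x, σ x = x ^ q) ∧ Nonempty (HexGrp σ ↥(twistedD4 K q)) := by
  obtain ⟨φ, hφ⟩ := D4Fixed.exists_frob (isPrimePow_of_card hK) hK
  have hb : Function.Bijective φ := by
    rw [Fintype.bijective_iff_injective_and_card]
    exact ⟨RingHom.injective (φ : K →+* K), rfl⟩
  exact ⟨RingEquiv.ofBijective φ hb, hφ, ⟨d4 (isPrimePow_of_card hK) hK hφ⟩⟩

end Instance

end Cfsg.Agent.Cit.HexD4
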