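import Mathlib
import Cfsg.Agent.SplitTwo.HexDefs
import Cfsg.Agent.Hexagon.HexComm
import Cfsg.Agent.TitsThree.RankTwoZ
import Cfsg.Agent.Lib.SL2Mat

/-!
# Groups of type `G₂` and `³D₄` over a finite field of odd characteristic (project CIT, S1310)

`HexGrp σ L` : a group `L` with root groups `X k`, `k : ZMod 12`, coordinates `x1, …, x6` satisfying the positive
relations `HexPar`, and the two simple root homomorphisms `pb : SL(2,E) → L` (short roots `1, 7`),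
`pa : SL(2,F) → L` (long roots `6, 0`), `F` the fixed field of `σ`.

First part: root groups, segments, the torus.
-/

set_option autoImplicit false

namespace Cfsg.Agent.Cit.HexBase

open Cfsg.Agent.SplitTwo Cfsg.Agent.TitsThree.RankTwoZ Cfsg.Agent.Lib.SL2Mat
open scoped commutatorElement

/-- `SL(2,F)` -/
abbrev SL2 (F : Type*) [Field F] := Matrix.SpecialLinearGroup (Fin 2) F

/-- The fixed field. -/
def fx {E : Type*} [Field E] (σ : E ≃+* E) : Subfield E where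
  carrier := {x | σ x = x}
  mul_mem' := by
    intro a b ha hb
    change σ (a * b) = a * b
    rw [map_mul, show σ a = a from ha, show σ b = b from hb]
  one_mem' := map_one σ
  add_mem' := by
    intro a b ha hb
    change σ (a + b) = a + b
    rw [map_add, show σ a = a from ha, show σ b = b from hb]
  zero_mem' := map_zero σ
  neg_mem' := by
    intro a ha
    change σ (-a) = -a
    rw [map_neg, show σ a = a from ha]
  inv_mem' := by
    intro a ha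
    change σ a⁻¹ = a⁻¹
    rw [map_inv₀, show σ a = a from ha]

theorem mem_fx {E : Type*} [Field E] {σ : E ≃+* E} {x : E} : x ∈ fx σ ↔ σ x = x := Iff.rfl

section index

/-- the roots strictly between `k` and `j` -/
def bt (k j : ZMod (2 * 6)) : Finset (ZMod (2 * 6)) :=
  Finset.univ.filter fun i => if (j - k).val < 6 then 0 < (i - k).val ∧ (i - k).val < (j - k).val
    else 0 < (i - j).val ∧ (i - j).val < (k - j).val

/-- the join of the root groups over a set of roots -/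
def Sg {L : Type*} [Group L] (X : ZMod (2 * 6) → Subgroup L) (s : Finset (ZMod (2 * 6))) : Subgroup L :=
  ⨆ k ∈ s, X k

variable {L : Type*} [Group L] {X : ZMod (2 * 6) → Subgroup L}

theorem X_le_Sg {k : ZMod (2 * 6)} {s : Finset (ZMod (2 * 6))} (h : k ∈ s) : X k ≤ Sg X s :=
  le_iSup₂_of_le k h le_rfl

theorem Sg_le {s : Finset (ZMod (2 * 6))} {H : Subgroup L} (h : ∀ k ∈ s, X k ≤ H) : Sg X s ≤ H :=
  iSup₂_le h

theorem Sg_mono {s t : Finset (ZMod (2 * 6))} (h : s ⊆ t) : Sg X s ≤ Sg X t :=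
  Sg_le fun _ hk => X_le_Sg (h hk)

theorem conj_Sg {n : L} {f : ZMod (2 * 6) → ZMod (2 * 6)} (hn : Maps X n f) {s t : Finset (ZMod (2 * 6))}
    (h : ∀ k ∈ s, f k ∈ t) {g : L} (hg : g ∈ Sg X s) : n * g * n⁻¹ ∈ Sg X t := by
  have key : Sg X s ≤ (Sg X t).comap (MulAut.conj n).toMonoidHom := by
    refine Sg_le fun k hk x hx => ?_
    exact X_le_Sg (h k hk) ((hn k x).2 hx)
  exact key hg

end index

/-- A group with root groups of type `G₂` (`σ = 1`) or `³D₄`. -/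
structure HexGrp {E : Type*} [Field E] (σ : E ≃+* E) (L : Type*) [Group L] where
  X : ZMod (2 * 6) → Subgroup L
  x1 : E → L
  x2 : E → L
  x3 : E → L
  x4 : E → L
  x5 : E → L
  x6 : E → L
  par : HexPar σ X x1 x2 x3 x4 x5 x6
  pa : SL2 ↥(fx σ) →* L
  pb : SL2 E →* L
  pa_up : ∀ t : ↥(fx σ), pa (up t) = x6 t
  pb_up : ∀ a : E, pb (up a) = x1 a
  pa_lo : ∀ g, g ∈ X 0 ↔ ∃ t, pa (lo t) = g
  pb_lo : ∀ g, g ∈ X 7 ↔ ∃ a, pb (lo a) = g
  mapsA : ∀ (t : ↥(fx σ)) (ht : t ≠ 0), Maps X (pa (wm t ht)) (fun k => 6 - k)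
  mapsB : ∀ (s : E) (hs : s ≠ 0), Maps X (pb (wm s hs)) (fun k => 8 - k)
  gen : ⨆ k, X k = ⊤
  cen : ∀ g : L, (∀ x, g * x = x * g) → g = 1
  tri : ∀ u ∈ Sg X {1, 2, 3, 4, 5, 6}, ∀ v ∈ Sg X {7, 8, 9, 10, 11, 0}, ∀ (s : E) (hs : s ≠ 0)
    (t : ↥(fx σ)) (ht : t ≠ 0), u = pb (dg s hs) * pa (dg t ht) * v → u = 1 ∧ v = 1

namespace HexGrp

variable {E : Type*} [Field E] {σ : E ≃+* E} {L : Type*} [Group L] (c : HexGrp σ L)

/-! ### The Weyl group -/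

/-- the reflection at the short simple root -/
def n1 : L := c.pb (wm 1 one_ne_zero)

/-- the reflection at the long simple root -/
def n6 : L := c.pa (wm 1 one_ne_zero)

theorem maps_n1 : Maps c.X c.n1 (fun k => 8 - k) := c.mapsB 1 one_ne_zero
theorem maps_n6 : Maps c.X c.n6 (fun k => 6 - k) := c.mapsA 1 one_ne_zero

theorem maps_rot2 : Maps c.X (c.n1 * c.n6) (fun k => k + 2) :=
  (c.maps_n1.mul c.maps_n6).congr fun k => by
    simp only [Function.comp]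
    ring

theorem maps_rot (r : ℕ) : Maps c.X ((c.n1 * c.n6) ^ r) (fun k => k + 2 * r) := by
  induction r with
  | zero => rw [pow_zero]; exact Maps.one.congr fun k => by simp
  | succ r ih =>
    rw [pow_succ]
    refine (ih.mul c.maps_rot2).congr fun k => ?_
    simp only [Function.comp]
    push_cast
    ring

/-- the reflections -/
theorem maps_ref (r : ℕ) : Maps c.X ((c.n1 * c.n6) ^ r * c.n6) (fun k => 6 + 2 * r - k) := by
  refine ((c.maps_rot r).mul c.maps_n6).congr fun k => ?_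
  simp only [Function.comp]
  ring

/-! ### Commutators -/

theorem idx : ∀ k j : ZMod (2 * 6), k ≠ j → k ≠ j + 6 → ∃ r : Fin 6, ∃ a b : Fin 7,
    1 ≤ a.val ∧ a.val < b.val ∧
    ((k = (a.val : ZMod (2 * 6)) + 2 * (r.val : ZMod (2 * 6)) ∧ j = (b.val : ZMod (2 * 6)) + 2 * (r.val : ZMod (2 * 6))) ∨
     (j = (a.val : ZMod (2 * 6)) + 2 * (r.val : ZMod (2 * 6)) ∧ k = (b.val : ZMod (2 * 6)) + 2 * (r.val : ZMod (2 * 6))) ∨
     (k = 6 + 2 * (r.val : ZMod (2 * 6)) - (a.val : ZMod (2 * 6)) ∧ j = 6 + 2 * (r.val : ZMod (2 * 6)) - (b.val : ZMod (2 * 6))) ∨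
     (j = 6 + 2 * (r.val : ZMod (2 * 6)) - (a.val : ZMod (2 * 6)) ∧ k = 6 + 2 * (r.val : ZMod (2 * 6)) - (b.val : ZMod (2 * 6)))) := by
  decide +kernel

theorem bt_symm : ∀ k j : ZMod (2 * 6), k ≠ j → k ≠ j + 6 → bt k j = bt j k := by decide +kernel

theorem bt_rot : ∀ (r : Fin 6) (a b : Fin 7), 1 ≤ a.val → a.val < b.val → ∀ i : Fin 7, a.val < i.val → i.val < b.val →
    (i.val : ZMod (2 * 6)) + 2 * (r.val : ZMod (2 * 6)) ∈
      bt ((a.val : ZMod (2 * 6)) + 2 * (r.val : ZMod (2 * 6))) ((b.val : ZMod (2 * 6)) + 2 * (r.val : ZMod (2 * 6))) := by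
  decide +kernel

theorem bt_ref : ∀ (r : Fin 6) (a b : Fin 7), 1 ≤ a.val → a.val < b.val → ∀ i : Fin 7, a.val < i.val → i.val < b.val →
    6 + 2 * (r.val : ZMod (2 * 6)) - (i.val : ZMod (2 * 6)) ∈
      bt (6 + 2 * (r.val : ZMod (2 * 6)) - (a.val : ZMod (2 * 6))) (6 + 2 * (r.val : ZMod (2 * 6)) - (b.val : ZMod (2 * 6))) := by
  decide +kernel

theorem comm_aux {n : L} {f : ZMod (2 * 6) → ZMod (2 * 6)} (hn : Maps c.X n f) {a b : Fin 7} (ha : 1 ≤ a.val)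
    (hab : a.val < b.val) {s : Finset (ZMod (2 * 6))}
    (hs : ∀ i : Fin 7, a.val < i.val → i.val < b.val → f (i.val : ZMod (2 * 6)) ∈ s) {x y : L}
    (hx : x ∈ c.X (f (a.val : ZMod (2 * 6)))) (hy : y ∈ c.X (f (b.val : ZMod (2 * 6)))) : ⁅x, y⁆ ∈ Sg c.X s := by
  have hx' : n⁻¹ * x * n ∈ c.X (a.val : ZMod (2 * 6)) := by
    rw [← hn]
    convert hx using 1
    group
  have hy' : n⁻¹ * y * n ∈ c.X (b.val : ZMod (2 * 6)) := by
    rw [← hn]
    convert hy using 1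
    group
  have h1 := Cfsg.Agent.Hexagon.HexComm.comm_of_hexPar c.par a.val b.val ha hab (by omega) _ hx' _ hy'
  have h2 : ⁅x, y⁆ = n * ⁅n⁻¹ * x * n, n⁻¹ * y * n⁆ * n⁻¹ := by
    rw [commutatorElement_def, commutatorElement_def]
    group
  rw [h2]
  have key : (⨆ r ∈ Set.Ioo a.val b.val, c.X ((r : ℕ) : ZMod (2 * 6))) ≤
      (Sg c.X s).comap (MulAut.conj n).toMonoidHom := by
    refine iSup₂_le fun r hr w hw => ?_
    exact X_le_Sg (hs ⟨r, by have := hr.2; omega⟩ hr.1 hr.2) ((hn _ w).2 hw)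
  exact key h1

/-- **All commutator relations.** -/
theorem comm {k j : ZMod (2 * 6)} (h1 : k ≠ j) (h2 : k ≠ j + 6) {x y : L} (hx : x ∈ c.X k) (hy : y ∈ c.X j) :
    ⁅x, y⁆ ∈ Sg c.X (bt k j) := by
  obtain ⟨r, a, b, ha, hab, h | h | h | h⟩ := idx k j h1 h2
  · obtain ⟨rfl, rfl⟩ := h
    exact c.comm_aux (c.maps_rot r.val) ha hab (bt_rot r a b ha hab) hx hy
  · obtain ⟨rfl, rfl⟩ := h
    rw [bt_symm _ _ h1 h2, ← commutatorElement_inv]
    exact inv_mem (c.comm_aux (c.maps_rot r.val) ha hab (bt_rot r a b ha hab) hy hx)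
  · obtain ⟨rfl, rfl⟩ := h
    exact c.comm_aux (c.maps_ref r.val) ha hab (bt_ref r a b ha hab) hx hy
  · obtain ⟨rfl, rfl⟩ := h
    rw [bt_symm _ _ h1 h2, ← commutatorElement_inv]
    exact inv_mem (c.comm_aux (c.maps_ref r.val) ha hab (bt_ref r a b ha hab) hy hx)

/-- `X k` normalises `Sg X s` when `s` absorbs the intervals. -/
theorem conj_mem_Sg {k : ZMod (2 * 6)} {s : Finset (ZMod (2 * 6))}
    (h : ∀ j ∈ s, j = k ∨ (k ≠ j + 6 ∧ bt k j ⊆ s)) {x g : L} (hx : x ∈ c.X k) (hg : g ∈ Sg c.X s) :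
    x * g * x⁻¹ ∈ Sg c.X s := by
  have key : Sg c.X s ≤ (Sg c.X s).comap (MulAut.conj x).toMonoidHom := by
    refine Sg_le fun j hj y hy => ?_
    change x * y * x⁻¹ ∈ Sg c.X s
    by_cases hjk : j = k
    · subst hjk
      exact X_le_Sg hj (mul_mem (mul_mem hx hy) (inv_mem hx))
    · rcases h j hj with e | ⟨h1, h2⟩
      · exact absurd e hjk
      · have h3 : x * y * x⁻¹ = ⁅x, y⁆ * y := by rw [commutatorElement_def]; group
        rw [h3]
        exact mul_mem (Sg_mono h2 (c.comm (Ne.symm hjk) h1 hx hy)) (X_le_Sg hj hy)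
  exact key hg

theorem conj_mem_Sg_of_le {H : Subgroup L} {s : Finset (ZMod (2 * 6))}
    (h : ∀ x ∈ H, ∀ g ∈ Sg c.X s, x * g * x⁻¹ ∈ Sg c.X s) : H ≤ Subgroup.normalizer (Sg c.X s : Set L) := by
  intro x hx
  rw [Subgroup.mem_normalizer_iff]
  intro g
  constructor
  · exact h x hx g
  · intro hg
    have := h x⁻¹ (inv_mem hx) _ hg
    have e : x⁻¹ * (x * g * x⁻¹) * x⁻¹⁻¹ = g := by group
    rwa [e] at this

/-- product decomposition, `X k` first -/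
theorem exists_mul {k : ZMod (2 * 6)} {s : Finset (ZMod (2 * 6))}
    (h : ∀ j ∈ s, j = k ∨ (k ≠ j + 6 ∧ bt k j ⊆ s)) {g : L} (hg : g ∈ Sg c.X (insert k s)) :
    ∃ x ∈ c.X k, ∃ v ∈ Sg c.X s, g = x * v := by
  have h1 : g ∈ c.X k ⊔ Sg c.X s := by
    have h2 : Sg c.X (insert k s) ≤ c.X k ⊔ Sg c.X s := by
      refine Sg_le fun j hj => ?_
      rcases Finset.mem_insert.1 hj with rfl | hj
      · exact le_sup_left
      · exact (X_le_Sg hj).trans le_sup_right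
    exact h2 hg
  rw [Subgroup.sup_eq_closure] at h1
  have hn : ∀ x ∈ c.X k, ∀ g ∈ Sg c.X s, x * g * x⁻¹ ∈ Sg c.X s := fun x hx g hg => c.conj_mem_Sg h hx hg
  refine Subgroup.closure_induction (p := fun y _ => ∃ x ∈ c.X k, ∃ v ∈ Sg c.X s, y = x * v) ?_ ?_ ?_ ?_ h1
  · rintro y (hy | hy)
    · exact ⟨y, hy, 1, one_mem _, by simp⟩
    · exact ⟨1, one_mem _, y, hy, by simp⟩
  · exact ⟨1, one_mem _, 1, one_mem _, by simp⟩
  · rintro _ _ _ _ ⟨x, hx, v, hv, rfl⟩ ⟨x', hx', v', hv', rfl⟩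
    refine ⟨x * x', mul_mem hx hx', x'⁻¹ * v * x' * v', mul_mem ?_ hv', by group⟩
    have := hn x'⁻¹ (inv_mem hx') v hv
    rwa [inv_inv] at this
  · rintro _ _ ⟨x, hx, v, hv, rfl⟩
    refine ⟨x⁻¹, inv_mem hx, x * v⁻¹ * x⁻¹, hn x hx _ (inv_mem hv), by group⟩

/-- product decomposition, `X k` last -/
theorem exists_mul' {k : ZMod (2 * 6)} {s : Finset (ZMod (2 * 6))}
    (h : ∀ j ∈ s, j = k ∨ (k ≠ j + 6 ∧ bt k j ⊆ s)) {g : L} (hg : g ∈ Sg c.X (insert k s)) :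
    ∃ v ∈ Sg c.X s, ∃ x ∈ c.X k, g = v * x := by
  obtain ⟨x, hx, v, hv, e⟩ := c.exists_mul h (inv_mem hg)
  refine ⟨v⁻¹, inv_mem hv, x⁻¹, inv_mem hx, ?_⟩
  rw [← mul_inv_rev, ← e, inv_inv]

theorem dg_one {K : Type*} [Field K] (h : (1 : K) ≠ 0) : dg (1 : K) h = 1 := by
  apply ext_ent <;> simp

theorem eq_one_of_pos_neg {g : L} (h1 : g ∈ Sg c.X {1, 2, 3, 4, 5, 6}) (h2 : g ∈ Sg c.X {7, 8, 9, 10, 11, 0}) :
    g = 1 := by
  refine (c.tri g h1 g h2 1 one_ne_zero 1 one_ne_zero ?_).1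
  rw [dg_one, dg_one, map_one, map_one, one_mul, one_mul]

/-- `Sg X s` and `Sg X t` intersect trivially if some Weyl group element makes `s` positive and `t` negative. -/
theorem eq_one_of_maps {n : L} {f : ZMod (2 * 6) → ZMod (2 * 6)} (hn : Maps c.X n f) {s t : Finset (ZMod (2 * 6))}
    (hs : ∀ k ∈ s, f k ∈ ({1, 2, 3, 4, 5, 6} : Finset (ZMod (2 * 6))))
    (ht : ∀ k ∈ t, f k ∈ ({7, 8, 9, 10, 11, 0} : Finset (ZMod (2 * 6)))) {g : L} (h1 : g ∈ Sg c.X s)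
    (h2 : g ∈ Sg c.X t) : g = 1 := by
  have h3 := c.eq_one_of_pos_neg (conj_Sg hn hs h1) (conj_Sg hn ht h2)
  have h4 : n * g = n := by rw [mul_inv_eq_one] at h3; exact h3
  exact mul_eq_left.1 h4

/-- positive roots -/
abbrev Pos : Finset (ZMod (2 * 6)) := {1, 2, 3, 4, 5, 6}
/-- negative roots -/
abbrev Neg : Finset (ZMod (2 * 6)) := {7, 8, 9, 10, 11, 0}

/-- some element of the Weyl group separates `s` and `t` -/
def Sep (s t : Finset (ZMod (2 * 6))) : Prop :=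
  ∃ r : Fin 6, ((∀ j ∈ s, j + 2 * (r.val : ZMod (2 * 6)) ∈ Pos) ∧ (∀ j ∈ t, j + 2 * (r.val : ZMod (2 * 6)) ∈ Neg)) ∨
    ((∀ j ∈ s, 6 + 2 * (r.val : ZMod (2 * 6)) - j ∈ Pos) ∧ (∀ j ∈ t, 6 + 2 * (r.val : ZMod (2 * 6)) - j ∈ Neg))

instance (s t : Finset (ZMod (2 * 6))) : Decidable (Sep s t) := by unfold Sep; infer_instance

theorem eq_one_of_sep {s t : Finset (ZMod (2 * 6))} (h : Sep s t) {g : L} (h1 : g ∈ Sg c.X s)
    (h2 : g ∈ Sg c.X t) : g = 1 := by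
  obtain ⟨r, ⟨ha, hb⟩ | ⟨ha, hb⟩⟩ := h
  · exact c.eq_one_of_maps (c.maps_rot r.val) ha hb h1 h2
  · exact c.eq_one_of_maps (c.maps_ref r.val) ha hb h1 h2

theorem eq_one_of_mem {k : ZMod (2 * 6)} {s : Finset (ZMod (2 * 6))} (h : Sep s {k}) {g : L} (h1 : g ∈ c.X k)
    (h2 : g ∈ Sg c.X s) : g = 1 :=
  c.eq_one_of_sep h h2 (X_le_Sg (Finset.mem_singleton_self k) h1)

/-- the first factor is unique -/
theorem peel {k : ZMod (2 * 6)} {s : Finset (ZMod (2 * 6))} (h : Sep s {k}) {x v x' v' : L} (hx : x ∈ c.X k)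
    (hv : v ∈ Sg c.X s) (hx' : x' ∈ c.X k) (hv' : v' ∈ Sg c.X s) (e : x * v = x' * v') : x = x' ∧ v = v' := by
  have h1 : x'⁻¹ * x = v' * v⁻¹ := by
    calc x'⁻¹ * x = x'⁻¹ * (x * v) * v⁻¹ := by group
      _ = v' * v⁻¹ := by rw [e]; group
  have h2 : x'⁻¹ * x = 1 := c.eq_one_of_mem h (mul_mem (inv_mem hx') hx) (by rw [h1]; exact mul_mem hv' (inv_mem hv))
  refine ⟨(inv_mul_eq_one.1 h2).symm, ?_⟩
  rw [h2] at h1
  exact (mul_inv_eq_one.1 h1.symm).symm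

/-- the last factor is unique -/
theorem peel' {k : ZMod (2 * 6)} {s : Finset (ZMod (2 * 6))} (h : Sep s {k}) {x v x' v' : L} (hx : x ∈ c.X k)
    (hv : v ∈ Sg c.X s) (hx' : x' ∈ c.X k) (hv' : v' ∈ Sg c.X s) (e : v * x = v' * x') : x = x' ∧ v = v' := by
  have h1 := c.peel h (inv_mem hx) (inv_mem hv) (inv_mem hx') (inv_mem hv')
    (by rw [← mul_inv_rev, ← mul_inv_rev, e])
  exact ⟨inv_injective h1.1, inv_injective h1.2⟩

/-! ### Coordinates -/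

include c in
theorem cube (a : E) : σ (σ (σ a)) = a := c.par.rel.cube a

theorem mem1 (a : E) : c.x1 a ∈ c.X 1 := (c.par.mem1 _).2 ⟨a, rfl⟩
theorem mem2 {a : E} (h : σ a = a) : c.x2 a ∈ c.X 2 := (c.par.mem2 _).2 ⟨a, h, rfl⟩
theorem mem3 (a : E) : c.x3 a ∈ c.X 3 := (c.par.mem3 _).2 ⟨a, rfl⟩
theorem mem4 {a : E} (h : σ a = a) : c.x4 a ∈ c.X 4 := (c.par.mem4 _).2 ⟨a, h, rfl⟩
theorem mem5 (a : E) : c.x5 a ∈ c.X 5 := (c.par.mem5 _).2 ⟨a, rfl⟩
theorem mem6 {a : E} (h : σ a = a) : c.x6 a ∈ c.X 6 := (c.par.mem6 _).2 ⟨a, h, rfl⟩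

theorem x1_add (a b : E) : c.x1 (a + b) = c.x1 a * c.x1 b := c.par.rel.add1 a b
theorem x3_add (a b : E) : c.x3 (a + b) = c.x3 a * c.x3 b := c.par.rel.add3 a b
theorem x5_add (a b : E) : c.x5 (a + b) = c.x5 a * c.x5 b := c.par.rel.add5 a b
theorem x2_add {a b : E} (ha : σ a = a) (hb : σ b = b) : c.x2 (a + b) = c.x2 a * c.x2 b := c.par.rel.add2 a b ha hb
theorem x4_add {a b : E} (ha : σ a = a) (hb : σ b = b) : c.x4 (a + b) = c.x4 a * c.x4 b := c.par.rel.add4 a b ha hb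
theorem x6_add {a b : E} (ha : σ a = a) (hb : σ b = b) : c.x6 (a + b) = c.x6 a * c.x6 b := c.par.rel.add6 a b ha hb

theorem x1_zero : c.x1 0 = 1 := by
  have h := c.x1_add 0 0
  rw [add_zero] at h
  exact (left_eq_mul.1 h)
theorem x3_zero : c.x3 0 = 1 := by
  have h := c.x3_add 0 0
  rw [add_zero] at h
  exact (left_eq_mul.1 h)
theorem x5_zero : c.x5 0 = 1 := by
  have h := c.x5_add 0 0
  rw [add_zero] at h
  exact (left_eq_mul.1 h)
theorem x2_zero : c.x2 0 = 1 := by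
  have h := c.x2_add (map_zero σ) (map_zero σ)
  rw [add_zero] at h
  exact (left_eq_mul.1 h)
theorem x4_zero : c.x4 0 = 1 := by
  have h := c.x4_add (map_zero σ) (map_zero σ)
  rw [add_zero] at h
  exact (left_eq_mul.1 h)
theorem x6_zero : c.x6 0 = 1 := by
  have h := c.x6_add (map_zero σ) (map_zero σ)
  rw [add_zero] at h
  exact (left_eq_mul.1 h)

theorem x1_neg (a : E) : c.x1 (-a) = (c.x1 a)⁻¹ := by
  rw [eq_inv_iff_mul_eq_one, ← c.x1_add, neg_add_cancel, c.x1_zero]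
theorem x3_neg (a : E) : c.x3 (-a) = (c.x3 a)⁻¹ := by
  rw [eq_inv_iff_mul_eq_one, ← c.x3_add, neg_add_cancel, c.x3_zero]
theorem x5_neg (a : E) : c.x5 (-a) = (c.x5 a)⁻¹ := by
  rw [eq_inv_iff_mul_eq_one, ← c.x5_add, neg_add_cancel, c.x5_zero]

theorem neg_fix {a : E} (h : σ a = a) : σ (-a) = -a := by rw [map_neg, h]

theorem x2_neg {a : E} (h : σ a = a) : c.x2 (-a) = (c.x2 a)⁻¹ := by
  rw [eq_inv_iff_mul_eq_one, ← c.x2_add (neg_fix h) h, neg_add_cancel, c.x2_zero]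
theorem x4_neg {a : E} (h : σ a = a) : c.x4 (-a) = (c.x4 a)⁻¹ := by
  rw [eq_inv_iff_mul_eq_one, ← c.x4_add (neg_fix h) h, neg_add_cancel, c.x4_zero]
theorem x6_neg {a : E} (h : σ a = a) : c.x6 (-a) = (c.x6 a)⁻¹ := by
  rw [eq_inv_iff_mul_eq_one, ← c.x6_add (neg_fix h) h, neg_add_cancel, c.x6_zero]

theorem x1_inj {a b : E} (h : c.x1 a = c.x1 b) : a = b := c.par.inj1 a b h
theorem x3_inj {a b : E} (h : c.x3 a = c.x3 b) : a = b := c.par.inj3 a b h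
theorem x5_inj {a b : E} (h : c.x5 a = c.x5 b) : a = b := c.par.inj5 a b h
theorem x2_inj {a b : E} (ha : σ a = a) (hb : σ b = b) (h : c.x2 a = c.x2 b) : a = b := c.par.inj2 a b ha hb h
theorem x4_inj {a b : E} (ha : σ a = a) (hb : σ b = b) (h : c.x4 a = c.x4 b) : a = b := c.par.inj4 a b ha hb h
theorem x6_inj {a b : E} (ha : σ a = a) (hb : σ b = b) (h : c.x6 a = c.x6 b) : a = b := c.par.inj6 a b ha hb h

/-- factorisation in `⟨X 2, …, X 5⟩` is unique -/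
theorem uniq25 {a2 a3 a4 a5 b2 b3 b4 b5 : L} (h2 : a2 ∈ c.X 2) (h3 : a3 ∈ c.X 3) (h4 : a4 ∈ c.X 4) (h5 : a5 ∈ c.X 5)
    (k2 : b2 ∈ c.X 2) (k3 : b3 ∈ c.X 3) (k4 : b4 ∈ c.X 4) (k5 : b5 ∈ c.X 5)
    (e : a2 * a3 * a4 * a5 = b2 * b3 * b4 * b5) : a2 = b2 ∧ a3 = b3 ∧ a4 = b4 ∧ a5 = b5 := by
  have m : ∀ (s : Finset (ZMod (2 * 6))) {k : ZMod (2 * 6)} {g : L}, g ∈ c.X k → k ∈ s → g ∈ Sg c.X s :=
    fun s k g hg hk => X_le_Sg hk hg
  have e1 : a2 * (a3 * (a4 * a5)) = b2 * (b3 * (b4 * b5)) := by simpa [mul_assoc] using e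
  have s5 : ∀ {g : L}, g ∈ c.X 5 → g ∈ Sg c.X {5} := fun hg => m _ hg (by decide)
  obtain ⟨r2, e2⟩ := c.peel (k := 2) (s := {3, 4, 5}) (by decide +kernel) h2
    (mul_mem (m _ h3 (by decide)) (mul_mem (m _ h4 (by decide)) (m _ h5 (by decide)))) k2
    (mul_mem (m _ k3 (by decide)) (mul_mem (m _ k4 (by decide)) (m _ k5 (by decide)))) e1
  obtain ⟨r3, e3⟩ := c.peel (k := 3) (s := {4, 5}) (by decide +kernel) h3
    (mul_mem (m _ h4 (by decide)) (m _ h5 (by decide))) k3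
    (mul_mem (m _ k4 (by decide)) (m _ k5 (by decide))) e2
  obtain ⟨r4, e4⟩ := c.peel (k := 4) (s := {5}) (by decide +kernel) h4 (s5 h5) k4 (s5 k5) e3
  exact ⟨r2, r3, r4, e4⟩

end HexGrp

end Cfsg.Agent.Cit.HexBase
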