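import Mathlib
import Cfsg.Agent.Cit.HexBase
import Cfsg.Agent.Hexagon.G2End
import Cfsg.Agent.ClassificationK.GTwoChev
import Cfsg.Agent.S1036
import Cfsg.Agent.S1037
import Cfsg.Agent.S1055

/-!
# The instance `G₂(F)` of `HexGrp` (project CIT, S1310)
-/

set_option autoImplicit false

namespace Cfsg.Agent.Cit.HexG2

open Cfsg.Lie
open Cfsg.Agent.ChevalleyStructure.Elts Cfsg.Agent.ChevalleyStructure.NConj
open Cfsg.Agent.Hexagon.G2Pos Cfsg.Agent.Hexagon.G2Side Cfsg.Agent.Hexagon.G2Rel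
open Cfsg.Agent.SplitTwo Cfsg.Agent.Cit.HexBase
open Cfsg.Agent.TitsThree.RankTwoIdx Cfsg.Agent.TitsThree.RankTwoZ
open Cfsg.Agent.Lib.SL2Mat
open Cfsg.Agent.ClassificationK.GTwoChev (ph ph6 ph7)

universe u

variable {F : Type u} [Field F]

theorem ph_up' {r : ℕ} (hr : r < chevG2.nroots) (t : F) : ph r hr F (up t) = xs r t := by
  apply Subtype.ext
  apply Units.ext
  rw [coe_xs, coe_xG]
  exact Cfsg.Agent.ClassificationK.GTwoChev.ph_up r hr t

theorem ph_lo' {r s : ℕ} (hr : r < chevG2.nroots) (hs : chevG2.neg r = s) (t : F) :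
    ph r hr F (lo t) = xs s t := by
  apply Subtype.ext
  apply Units.ext
  rw [coe_xs, coe_xG]
  exact Cfsg.Agent.ClassificationK.GTwoChev.ph_lo r s hr hs t

theorem wm_eq' (b : F) (hb : b ≠ 0) : wm b hb = up b * (lo (-b⁻¹) * up b) := by
  refine ext_ent ?_ ?_ ?_ ?_ <;> simp [ent_mul, hb]

theorem dg_eq' (b : F) (hb : b ≠ 0) : dg b hb = wm b hb * wm (-1) (neg_ne_zero.2 one_ne_zero) := by
  refine ext_ent ?_ ?_ ?_ ?_ <;> simp [ent_mul]

theorem ph_wm {r : ℕ} (hr : r < chevG2.nroots) (t : F) (ht : t ≠ 0) :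
    ((ph r hr F (wm t ht) : ↥(chevG2.group F)) : GL chevG2.Idx F) = nG hG2 r t := by
  rw [wm_eq', map_mul, map_mul, ph_up', ph_lo' hr rfl, nG_def]
  rfl

theorem ph_dg {r : ℕ} (hr : r < chevG2.nroots) (t : F) (ht : t ≠ 0) :
    ((ph r hr F (dg t ht) : ↥(chevG2.group F)) : GL chevG2.Idx F) = hG hG2 r t := by
  rw [dg_eq', map_mul, Subgroup.coe_mul, ph_wm, ph_wm, hG_def]

theorem ph_dg_mem {r : ℕ} (hr : r < chevG2.nroots) (t : F) (ht : t ≠ 0) :
    ((ph r hr F (dg t ht) : ↥(chevG2.group F)) : GL chevG2.Idx F) ∈ chevG2.diagonalSubgroup F := by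
  rw [ph_dg]
  exact hG_mem_diagonal hG2 hr ht

/-- the inclusion of the fixed field -/
def inc (F : Type u) [Field F] : SL2 ↥(fx (RingEquiv.refl F)) →* SL2 F :=
  Matrix.SpecialLinearGroup.map (fx (RingEquiv.refl F)).subtype

theorem ent_inc (x : SL2 ↥(fx (RingEquiv.refl F))) (i j : Fin 2) :
    ent (inc F x) i j = ((ent x i j : ↥(fx (RingEquiv.refl F))) : F) := rfl

theorem inc_up (t : ↥(fx (RingEquiv.refl F))) : inc F (up t) = up (t : F) := by
  refine ext_ent ?_ ?_ ?_ ?_ <;> rw [ent_inc] <;> simp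

theorem inc_lo (t : ↥(fx (RingEquiv.refl F))) : inc F (lo t) = lo (t : F) := by
  refine ext_ent ?_ ?_ ?_ ?_ <;> rw [ent_inc] <;> simp

theorem coe_ne {t : ↥(fx (RingEquiv.refl F))} (ht : t ≠ 0) : (t : F) ≠ 0 := fun h => ht (Subtype.ext h)

theorem inc_wm (t : ↥(fx (RingEquiv.refl F))) (ht : t ≠ 0) : inc F (wm t ht) = wm (t : F) (coe_ne ht) := by
  refine ext_ent ?_ ?_ ?_ ?_ <;> rw [ent_inc] <;> simp

theorem inc_dg (t : ↥(fx (RingEquiv.refl F))) (ht : t ≠ 0) : inc F (dg t ht) = dg (t : F) (coe_ne ht) := by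
  refine ext_ent ?_ ?_ ?_ ?_ <;> rw [ent_inc] <;> simp

theorem mem_X' {k : ZMod (2 * 6)} {r : ℕ} (hr : tab k = r) {g : ↥(chevG2.group F)} :
    g ∈ X F k ↔ ∃ t, g = xs r t := by
  rw [mem_X, hr]

theorem Sg_pos : ∀ u ∈ Sg (X F) {1, 2, 3, 4, 5, 6}, (u : GL chevG2.Idx F) ∈ chevG2.posUnipotent F := by
  have h : Sg (X F) {1, 2, 3, 4, 5, 6} ≤ (chevG2.posUnipotent F).subgroupOf (chevG2.group F) := by
    refine Sg_le fun k hk g hg => ?_
    obtain ⟨t, rfl⟩ := mem_X.1 hg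
    rw [Subgroup.mem_subgroupOf, coe_xs]
    apply xG_mem_posUnipotent
    have key : ∀ k : ZMod (2 * 6), k ∈ ({1, 2, 3, 4, 5, 6} : Finset (ZMod (2 * 6))) → chevG2.IsPosRoot (tab k) := by
      decide +kernel
    exact key k hk
  exact fun g hg => h hg

theorem Sg_neg : ∀ u ∈ Sg (X F) {7, 8, 9, 10, 11, 0}, (u : GL chevG2.Idx F) ∈ chevG2.negUnipotent F := by
  have h : Sg (X F) {7, 8, 9, 10, 11, 0} ≤ (chevG2.negUnipotent F).subgroupOf (chevG2.group F) := by
    refine Sg_le fun k hk g hg => ?_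
    obtain ⟨t, rfl⟩ := mem_X.1 hg
    rw [Subgroup.mem_subgroupOf, coe_xs]
    apply xG_mem_negUnipotent
    have key : ∀ k : ZMod (2 * 6), k ∈ ({7, 8, 9, 10, 11, 0} : Finset (ZMod (2 * 6))) → chevG2.IsNegRoot (tab k) := by
      decide +kernel
    exact key k hk
  exact fun g hg => h hg

theorem tri_aux {u v h : ↥(chevG2.group F)} (hu : (u : GL chevG2.Idx F) ∈ chevG2.posUnipotent F)
    (hv : (v : GL chevG2.Idx F) ∈ chevG2.negUnipotent F) (hh : (h : GL chevG2.Idx F) ∈ chevG2.diagonalSubgroup F)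
    (e : u = h * v) : u = 1 ∧ v = 1 := by
  have h1 := (S1037.result (F := F) chevG2 hG2).1
  have h2 := (S1036.result (F := F) chevG2 hG2).2
  have e1 : (u : GL chevG2.Idx F) = h * v := congrArg Subtype.val e
  have hv1 : (v : GL chevG2.Idx F) ∈ chevG2.borelSubgroup F ⊓ chevG2.negUnipotent F := by
    refine ⟨?_, hv⟩
    have e2 : (v : GL chevG2.Idx F) = (h : GL chevG2.Idx F)⁻¹ * u := by rw [e1, inv_mul_cancel_left]
    rw [e2]
    exact Subgroup.mul_mem _ (Subgroup.inv_mem _ (Subgroup.mem_sup_right hh)) (Subgroup.mem_sup_left hu)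
  rw [h1, Subgroup.mem_bot] at hv1
  have hu1 : (u : GL chevG2.Idx F) ∈ chevG2.posUnipotent F ⊓ chevG2.diagonalSubgroup F := by
    refine ⟨hu, ?_⟩
    rw [e1, hv1, mul_one]
    exact hh
  rw [h2, Subgroup.mem_bot] at hu1
  exact ⟨Subtype.ext hu1, Subtype.ext hv1⟩

theorem center_eq (h2 : (2 : F) ≠ 0) (g : ↥(chevG2.group F)) (hg : ∀ x, g * x = x * g) : g = 1 := by
  have ha : ∃ a : F, a ≠ 0 ∧ a ≠ 1 := by
    refine ⟨-1, neg_ne_zero.2 one_ne_zero, fun h => h2 ?_⟩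
    have : (1 : F) + 1 = 0 := by
      nth_rewrite 1 [← h]
      ring
    rw [← this]
    norm_num
  obtain ⟨hs, hc⟩ := S1055.result ha
  have hz : Subgroup.center ↥(chevG2.group F) = ⊥ := by
    rcases hs.eq_bot_or_eq_top_of_normal (Subgroup.center ↥(chevG2.group F)) inferInstance with h | h
    · exact h
    · exact absurd ⟨⟨fun a b => (Subgroup.mem_center_iff.1 (h ▸ Subgroup.mem_top b) a)⟩⟩ hc
  have : g ∈ Subgroup.center ↥(chevG2.group F) := Subgroup.mem_center_iff.2 fun x => (hg x).symm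
  rwa [hz, Subgroup.mem_bot] at this

/-- **`G₂(F)`**, `F` of characteristic different from two, is a `HexGrp`. -/
noncomputable def g2 (F : Type u) [Field F] (h2 : (2 : F) ≠ 0) : HexGrp (RingEquiv.refl F) ↥(chevG2.group F) where
  X := X F
  x1 := Cfsg.Agent.Hexagon.G2Par.y1
  x2 := Cfsg.Agent.Hexagon.G2Par.y2
  x3 := Cfsg.Agent.Hexagon.G2Par.y3
  x4 := Cfsg.Agent.Hexagon.G2Par.y4
  x5 := Cfsg.Agent.Hexagon.G2Par.y5
  x6 := Cfsg.Agent.Hexagon.G2Par.y6
  par := Cfsg.Agent.Hexagon.G2End.hexPar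
  pa := (ph6 F).comp (inc F)
  pb := ph7 F
  pa_up t := by
    rw [MonoidHom.comp_apply, inc_up]
    refine (ph_up' (by decide) _).trans (Subtype.ext ?_)
    exact (Cfsg.Agent.Hexagon.G2End.xG_eq 6 (t : F)).symm
  pb_up a := by
    refine (ph_up' (by decide) _).trans (Subtype.ext ?_)
    exact (Cfsg.Agent.Hexagon.G2End.xG_eq 7 a).symm
  pa_lo g := by
    rw [mem_X' (show tab 0 = 5 by decide +kernel)]
    constructor
    · rintro ⟨t, rfl⟩
      refine ⟨⟨t, rfl⟩, ?_⟩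
      rw [MonoidHom.comp_apply, inc_lo]
      exact ph_lo' (by decide) (by decide) t
    · rintro ⟨t, rfl⟩
      refine ⟨t, ?_⟩
      rw [MonoidHom.comp_apply, inc_lo]
      exact ph_lo' (by decide) (by decide) _
  pb_lo g := by
    rw [mem_X' (show tab 7 = 4 by decide +kernel)]
    constructor
    · rintro ⟨t, rfl⟩
      exact ⟨t, ph_lo' (by decide) (by decide) t⟩
    · rintro ⟨t, rfl⟩
      exact ⟨t, ph_lo' (by decide) (by decide) t⟩
  mapsA t ht := by
    refine maps_n (i := 1) (t := (t : F)) (by norm_num) (fun k => ?_) (fun k => by ring) (coe_ne ht) ?_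
    · exact tab_J k
    · rw [MonoidHom.comp_apply, inc_wm]
      exact ph_wm _ _ _
  mapsB s hs := by
    refine maps_n (i := 0) (t := s) (by norm_num) (fun k => ?_) (fun k => by ring) hs ?_
    · have h := tab_I k
      have e : (((6 : ℕ) : ZMod (2 * 6)) + 2 - k) = 8 - k := by
        congr 1
      rwa [e] at h
    · exact ph_wm _ _ _
  gen := Cfsg.Agent.Hexagon.G2Side.gen F
  cen := center_eq h2
  tri u hu v hv s hs t ht e := by
    refine tri_aux (h := ph7 F (dg s hs) * (ph6 F).comp (inc F) (dg t ht)) (Sg_pos u hu) (Sg_neg v hv) ?_ e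
    rw [Subgroup.coe_mul, MonoidHom.comp_apply, inc_dg]
    exact mul_mem (ph_dg_mem _ _ _) (ph_dg_mem _ _ _)

end Cfsg.Agent.Cit.HexG2
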