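import Cfsg.Agent.Cit.HexInvol

/-!
# Groups of type `G₂` and `³D₄`: `C(K 1) = K 4`, `C(K 4) = K 1`, the index of `K 1 K 4` in `C(z)`
-/

set_option autoImplicit false

namespace Cfsg.Agent.Cit.HexBase

open Cfsg.Agent.SplitTwo Cfsg.Agent.TitsThree.RankTwoZ Cfsg.Agent.Lib.SL2Mat
  Cfsg.Agent.TitsThree.RankTwoIdx Cfsg.Agent.TitsThree.RankTwoRGD
open scoped commutatorElement Pointwise

section sl

variable {K : Type*} [Field K]

theorem mul_conj_dgl {y : SL2 K} {t : K} {ht : t ≠ 0} (h : ∀ x, y * conjGL (dgl t ht) x * y⁻¹ = x) :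
    ∃ (a : K) (ha : a ≠ 0), y = dg a ha ∧ t = (a ^ 2)⁻¹ := by
  have h1 := h (up 1)
  have h2 := h (lo 1)
  rw [conjGL_dgl_up, mul_one, mul_inv_eq_iff_eq_mul] at h1
  rw [conjGL_dgl_lo, mul_inv_eq_iff_eq_mul] at h2
  have hd := det_eq y
  have a00 := congrArg (fun x => ent x 0 0) h1
  have a01 := congrArg (fun x => ent x 0 1) h1
  have b00 := congrArg (fun x => ent x 0 0) h2
  simp only [ent_mul, up_00, up_01, up_10, up_11, lo_00, lo_01, lo_10] at a00 a01 b00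
  have hc : ent y 1 0 = 0 := by linear_combination -a00
  have hb : ent y 0 1 = 0 := by
    have : ent y 0 1 * (1 / t) = 0 := by linear_combination b00
    rcases mul_eq_zero.1 this with h | h
    · exact h
    · exact absurd h (one_div_ne_zero ht)
  have hat : ent y 0 0 * t = ent y 1 1 := by linear_combination a01
  rw [hb, zero_mul, sub_zero] at hd
  have ha : ent y 0 0 ≠ 0 := by
    intro h0
    rw [h0, zero_mul] at hd
    exact zero_ne_one hd
  refine ⟨ent y 0 0, ha, ?_, ?_⟩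
  · refine ext_ent rfl hb hc ?_
    rw [dg_11]
    field_simp
    linear_combination hd
  · refine eq_inv_of_mul_eq_one_left ?_
    linear_combination ent y 0 0 * hat + hd

theorem central_cases {x : SL2 K} (h : ∀ y, x * y = y * x) : x = 1 ∨ x = dg (-1) (neg_ne_zero.2 one_ne_zero) := by
  obtain ⟨a, ha, rfl, h1⟩ := mul_conj_dgl (y := x) (t := 1) (ht := one_ne_zero) (fun y => by
    have : conjGL (dgl (1 : K) one_ne_zero) = 1 := by
      have e : (dgl (1 : K) one_ne_zero) = 1 := by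
        apply Units.ext
        ext i j
        fin_cases i <;> fin_cases j <;> simp [dgl]
      rw [e, map_one]
    rw [this, MulAut.one_apply, h y, mul_assoc, mul_inv_cancel, mul_one])
  have h2 : a ^ 2 = 1 := by rw [← inv_inv (a ^ 2), ← h1, inv_one]
  rcases sq_eq_one_iff_of_ne_zero_aux h2 with rfl | rfl
  · left
    exact dg_one' _
  · right
    rfl
where
  sq_eq_one_iff_of_ne_zero_aux {a : K} (h : a ^ 2 = 1) : a = 1 ∨ a = -1 := by
    have : (a - 1) * (a + 1) = 0 := by linear_combination h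
    rcases mul_eq_zero.1 this with h | h
    · exact Or.inl (sub_eq_zero.1 h)
    · exact Or.inr (eq_neg_of_add_eq_zero_left h)

/-- a homomorphism of `SL(2,K)` which is injective on the upper triangular part and separates `up` and `lo` -/
theorem inj_of {L : Type*} [Group L] (ρ : SL2 K →* L) (hd : ∀ a b, ρ (up a) = ρ (lo b) → a = 0)
    (hdg : ∀ a (ha : a ≠ 0), ρ (dg a ha) = 1 → a = 1) : Function.Injective ρ := by
  rw [injective_iff_map_eq_one]
  have hlo : ∀ b, ρ (lo b) = 1 → b = 0 := by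
    intro b hb
    have h1 : ρ (up (-b)) = 1 := by
      have e : wm (1 : K) one_ne_zero * lo b * (wm 1 one_ne_zero)⁻¹ = up (-b) := by rw [wm_lo']; congr 1; ring
      rw [← e, map_mul, map_mul, hb, mul_one, map_inv, mul_inv_cancel]
    have h2 := hd (-b) 0 (by rw [h1, lo_zero, map_one])
    exact neg_eq_zero.1 h2
  have h10 : ∀ x, ρ x = 1 → ent x 1 0 = 0 := by
    intro x hx
    by_contra hne
    have e := eq_up_lo_up x hne
    generalize (ent x 0 0 - 1) / ent x 1 0 = u at e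
    generalize (ent x 1 1 - 1) / ent x 1 0 = v at e
    generalize ent x 1 0 = w at e hne
    have e2 : lo w = up (-u) * x * up (-v) := by
      rw [e, ← mul_assoc, ← mul_assoc, up_mul, neg_add_cancel, up_zero, one_mul, mul_assoc, up_mul, add_neg_cancel,
        up_zero, mul_one]
    have e3 : ρ (up (-u + -v)) = ρ (lo w) := by
      rw [e2, map_mul, map_mul, hx, mul_one, ← map_mul, up_mul]
    have e4 := hd _ _ e3
    rw [e4, up_zero, map_one] at e3
    exact hne (hlo w e3.symm)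
  intro x hx
  have c0 := h10 x hx
  have b0 : ent x 0 1 = 0 := by
    have h1 := h10 (wm 1 one_ne_zero * x * (wm 1 one_ne_zero)⁻¹)
      (by rw [map_mul, map_mul, hx, mul_one, map_inv, mul_inv_cancel])
    rw [ent_inv] at h1
    simp only [ent_mul, wm_00, wm_01, wm_10, wm_11, mk_00, mk_10] at h1
    simp at h1
    exact h1
  have hdx := det_eq x
  rw [c0, mul_zero, sub_zero] at hdx
  have ha : ent x 0 0 ≠ 0 := by
    intro h0
    rw [h0, zero_mul] at hdx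
    exact zero_ne_one hdx
  have e : x = dg (ent x 0 0) ha := by
    refine ext_ent rfl b0 c0 ?_
    rw [dg_11]
    field_simp
    linear_combination hdx
  have h1 := hdg (ent x 0 0) ha (by rw [← e]; exact hx)
  rw [e]
  generalize ent x 0 0 = w at h1 ha
  subst h1
  exact dg_one' _

end sl

namespace HexGrp

universe u

variable {E : Type*} [Field E] {σ : E ≃+* E} {L : Type u} [Group L] (c : HexGrp σ L)

theorem pb_inj (h2 : (2 : E) ≠ 0) : Function.Injective c.pb := by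
  refine inj_of c.pb c.disjB fun a ha h => ?_
  have h1 := c.act_b a ha
  rw [h] at h1
  have e1 := h1.a1 1
  rw [one_mul, inv_one, mul_one, mul_one] at e1
  have e2 := h1.a6 1 (map_one σ)
  rw [one_mul, inv_one, mul_one, mul_one] at e2
  have e3 := c.x1_inj e1
  have e4 := c.x6_inj (map_one σ) h1.fix e2
  have h3 : (a - 1) * (a + 1) = 0 := by linear_combination -e3
  rcases mul_eq_zero.1 h3 with h | h
  · exact sub_eq_zero.1 h
  · exfalso
    have : a = -1 := eq_neg_of_add_eq_zero_left h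
    rw [this, nrm_neg, nrm_one, inv_neg, inv_one] at e4
    exact h2 (by linear_combination e4)

theorem pa_inj : Function.Injective c.pa := by
  refine inj_of c.pa c.disjA fun a ha h => ?_
  have h1 := c.act_a a ha
  rw [h] at h1
  have e1 := h1.a1 1
  rw [one_mul, inv_one, mul_one, mul_one] at e1
  have e3 := c.x1_inj e1
  apply Subtype.ext
  change (a : E) = 1
  rw [← inv_inv (a : E), ← e3, inv_one]

theorem p4_inj : Function.Injective c.p4 := by
  intro x y h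
  rw [p4_apply, p4_apply] at h
  exact c.pa_inj (mul_left_cancel (mul_right_cancel h))

/-- the long root subgroup is `SL(2,F)` -/
noncomputable def equivK4 : SL2 ↥(fx σ) ≃* ↥c.K4 := MonoidHom.ofInjective c.p4_inj

/-- the short root subgroup is `SL(2,E)` -/
noncomputable def equivK1 (h2 : (2 : E) ≠ 0) : SL2 E ≃* ↥c.K1 := MonoidHom.ofInjective (c.pb_inj h2)

theorem act_p4_dg (a : ↥(fx σ)) (ha : a ≠ 0) : c.Act (c.p4 (dg a ha)) 1 a := by
  have h1 := (c.act_a a ha).n1.n6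
  have hf : σ (a : E) = a := a.2
  have h0 : (a : E) ≠ 0 := fun h => ha (Subtype.ext h)
  refine h1.congr ?_ ?_ ?_
  · rw [p4_apply]; group
  · rw [nrm_inv, nrm_of_fix hf]; field_simp
  · rw [nrm_inv, nrm_of_fix hf]; field_simp

theorem mem_CZ_form [Finite E] (h2 : (2 : E) ≠ 0) {g : L} (hg : g * c.z = c.z * g) :
    ∃ (x : SL2 E) (y : SL2 ↥(fx σ)) (t : ↥(fx σ)) (ht : t ≠ 0), g = c.pb x * c.p4 y * c.pa (dg t ht) := by
  have h := c.mem_CZ.2 hg
  rw [c.CZ_eq h2] at h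
  have hn : c.T0 ≤ Subgroup.normalizer ((c.K1 ⊔ c.K4 : Subgroup L) : Set L) := by
    have key : ∀ τ ∈ c.T0, ∀ g ∈ c.K1 ⊔ c.K4, τ * g * τ⁻¹ ∈ c.K1 ⊔ c.K4 := by
      rintro τ ⟨c1, c6, hA⟩ g hg
      have hle : c.K1 ⊔ c.K4 ≤ (c.K1 ⊔ c.K4).comap (MulAut.conj τ).toMonoidHom := by
        refine sup_le ?_ ?_
        · rintro _ ⟨x, rfl⟩
          change τ * c.pb x * τ⁻¹ ∈ c.K1 ⊔ c.K4
          rw [hA.pb]
          exact (le_sup_left : c.K1 ≤ _) ⟨_, rfl⟩
        · rintro _ ⟨x, rfl⟩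
          change τ * c.p4 x * τ⁻¹ ∈ c.K1 ⊔ c.K4
          rw [hA.p4 h2]
          exact (le_sup_right : c.K4 ≤ _) ⟨_, rfl⟩
      exact hle hg
    intro τ hτ
    rw [Subgroup.mem_normalizer_iff]
    intro g
    refine ⟨key τ hτ g, fun h => ?_⟩
    have := key τ⁻¹ (inv_mem hτ) _ h
    have e : τ⁻¹ * (τ * g * τ⁻¹) * τ⁻¹⁻¹ = g := by group
    rwa [e] at this
  have h3 : (↑(c.K1 ⊔ c.K4 ⊔ c.T0) : Set L) = ((c.K1 ⊔ c.K4 : Subgroup L) : Set L) * (c.T0 : Set L) :=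
    Subgroup.coe_mul_of_right_le_normalizer_left _ _ hn
  have h4 : g ∈ ((c.K1 ⊔ c.K4 : Subgroup L) : Set L) * (c.T0 : Set L) := by
    rw [← h3]; exact h
  obtain ⟨k, hk, τ, hτ, rfl⟩ := Set.mem_mul.1 h4
  have h14 : (↑(c.K1 ⊔ c.K4) : Set L) = (c.K1 : Set L) * (c.K4 : Set L) := by
    refine Subgroup.coe_mul_of_right_le_normalizer_left _ _ ?_
    rintro _ ⟨y, rfl⟩
    rw [Subgroup.mem_normalizer_iff]
    intro g
    constructor
    · rintro ⟨x, rfl⟩
      rw [← c.comm_pb_p4 x y, mul_assoc, mul_inv_cancel, mul_one]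
      exact ⟨x, rfl⟩
    · rintro ⟨x, hx⟩
      refine ⟨x, ?_⟩
      have : g = (c.p4 y)⁻¹ * c.pb x * c.p4 y := by rw [hx]; group
      rw [this, mul_assoc, c.comm_pb_p4 x y]
      group
  have hk' : k ∈ (c.K1 : Set L) * (c.K4 : Set L) := by rw [← h14]; exact hk
  obtain ⟨k1, ⟨x, rfl⟩, k4, ⟨y, rfl⟩, rfl⟩ := Set.mem_mul.1 hk'
  obtain ⟨s, hs, t, ht, rfl⟩ := c.exists_of_mem_T0 h2 hτ
  refine ⟨x * dg s hs, y, t, ht, ?_⟩
  rw [map_mul]
  have := c.comm_pb_p4 (dg s hs) y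
  calc c.pb x * c.p4 y * (c.pb (dg s hs) * c.pa (dg t ht))
      = c.pb x * (c.p4 y * c.pb (dg s hs)) * c.pa (dg t ht) := by group
    _ = _ := by rw [← this]; group

/-- weight of `X 4` on `pa (dg t)` -/
theorem pa_dg_p4 [Finite E] (h2 : (2 : E) ≠ 0) (t : ↥(fx σ)) (ht : t ≠ 0) (y : SL2 ↥(fx σ)) :
    c.pa (dg t ht) * c.p4 y * (c.pa (dg t ht))⁻¹ = c.p4 (conjGL (dgl t ht) y) := by
  have h := c.act_a t ht
  rw [h.p4 h2]
  have h0 : (t : E) ≠ 0 := fun h => ht (Subtype.ext h)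
  have e : (⟨((t : E) ^ 2) ^ 2 * nrm σ (t : E)⁻¹, h.fix4⟩ : ↥(fx σ)) = t := by
    apply Subtype.ext
    change ((t : E) ^ 2) ^ 2 * nrm σ (t : E)⁻¹ = t
    rw [nrm_inv, nrm_of_fix t.2]
    field_simp
  congr 3
  congr 1

theorem pa_dg_pb (t : ↥(fx σ)) (ht : t ≠ 0) (x : SL2 E) :
    c.pa (dg t ht) * c.pb x * (c.pa (dg t ht))⁻¹ =
      c.pb (conjGL (dgl (t : E)⁻¹ (c.act_a t ht).ne1) x) := (c.act_a t ht).pb x

/-- **`C(K 4) = K 1`.** -/
theorem centralizer_K4 [Finite E] (h2 : (2 : E) ≠ 0) {g : L} (hg : ∀ y, g * c.p4 y = c.p4 y * g) : g ∈ c.K1 := by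
  have hz : g * c.z = c.z * g := by rw [z_eq_p4]; exact hg _
  obtain ⟨x, y, t, ht, rfl⟩ := c.mem_CZ_form h2 hz
  obtain ⟨a, ha, rfl, hta⟩ := mul_conj_dgl (y := y) (t := t) (ht := ht) (fun y' => by
    apply c.p4_inj
    rw [map_mul, map_mul, map_inv, ← c.pa_dg_p4 h2 t ht y']
    have h1 := hg y'
    have h3 := c.comm_pb_p4 x y'
    have h4 : c.p4 y * c.pa (dg t ht) * c.p4 y' = c.p4 y' * (c.p4 y * c.pa (dg t ht)) := by
      have : c.pb x * (c.p4 y * c.pa (dg t ht) * c.p4 y') = c.pb x * (c.p4 y' * (c.p4 y * c.pa (dg t ht))) := by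
        calc _ = c.pb x * c.p4 y * c.pa (dg t ht) * c.p4 y' := by group
          _ = c.p4 y' * (c.pb x * c.p4 y * c.pa (dg t ht)) := h1
          _ = (c.p4 y' * c.pb x) * (c.p4 y * c.pa (dg t ht)) := by group
          _ = _ := by rw [← h3]; group
      exact mul_left_cancel this
    calc c.p4 y * (c.pa (dg t ht) * c.p4 y' * (c.pa (dg t ht))⁻¹) * (c.p4 y)⁻¹
        = (c.p4 y * c.pa (dg t ht) * c.p4 y') * (c.p4 y * c.pa (dg t ht))⁻¹ := by group
      _ = c.p4 y' := by rw [h4]; group)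
  have h1 := (c.act_p4_dg a ha).mul (c.act_a t ht)
  have ha' : (a : E) ≠ 0 := fun h => ha (Subtype.ext h)
  have e : c.p4 (dg a ha) * c.pa (dg t ht) = c.pb (dg (a : E) ha') := by
    have ht' : (t : E) = ((a : E) ^ 2)⁻¹ := by rw [hta]; rfl
    refine (h1.congr rfl ?_ ?_).unique (c.act_b (a : E) ha')
    · rw [ht']; field_simp
    · rw [ht', nrm_of_fix a.2]; field_simp
  rw [mul_assoc, e]
  exact mul_mem ⟨x, rfl⟩ ⟨_, rfl⟩

include c in
theorem fix_of_sq (h2 : (2 : E) ≠ 0) {r : E} (h : σ (r ^ 2) = r ^ 2) : σ r = r := by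
  have h3 : (σ r - r) * (σ r + r) = 0 := by
    rw [map_pow] at h
    linear_combination h
  rcases mul_eq_zero.1 h3 with h3 | h3
  · exact sub_eq_zero.1 h3
  · have h4 : σ r = -r := eq_neg_of_add_eq_zero_left h3
    have h5 := c.cube r
    rw [h4, map_neg, h4, neg_neg, h4] at h5
    have h6 : (2 : E) * r = 0 := by linear_combination -h5
    rcases mul_eq_zero.1 h6 with h7 | h7
    · exact absurd h7 h2
    · rw [h7, map_zero]

/-- **`C(K 1) = K 4`.** -/
theorem centralizer_K1 [Finite E] (h2 : (2 : E) ≠ 0) {g : L} (hg : ∀ x, g * c.pb x = c.pb x * g) : g ∈ c.K4 := by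
  have hz : g * c.z = c.z * g := hg _
  obtain ⟨x, y, t, ht, rfl⟩ := c.mem_CZ_form h2 hz
  obtain ⟨a, ha, rfl, hta⟩ := mul_conj_dgl (y := x) (t := (t : E)⁻¹) (ht := (c.act_a t ht).ne1) (fun x' => by
    apply c.pb_inj h2
    rw [map_mul, map_mul, map_inv, ← c.pa_dg_pb t ht x']
    have h1 := hg x'
    have h4 : c.pb x * c.pa (dg t ht) * c.pb x' = c.pb x' * (c.pb x * c.pa (dg t ht)) := by
      have : c.p4 y * (c.pb x * c.pa (dg t ht) * c.pb x') = c.p4 y * (c.pb x' * (c.pb x * c.pa (dg t ht))) := by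
        calc _ = (c.p4 y * c.pb x) * c.pa (dg t ht) * c.pb x' := by group
          _ = c.pb x * c.p4 y * c.pa (dg t ht) * c.pb x' := by rw [← c.comm_pb_p4]
          _ = c.pb x' * (c.pb x * c.p4 y * c.pa (dg t ht)) := h1
          _ = c.pb x' * (c.p4 y * c.pb x) * c.pa (dg t ht) := by rw [c.comm_pb_p4]; group
          _ = (c.pb x' * c.p4 y) * (c.pb x * c.pa (dg t ht)) := by group
          _ = _ := by rw [c.comm_pb_p4]; group
      exact mul_left_cancel this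
    calc c.pb x * (c.pa (dg t ht) * c.pb x' * (c.pa (dg t ht))⁻¹) * (c.pb x)⁻¹
        = (c.pb x * c.pa (dg t ht) * c.pb x') * (c.pb x * c.pa (dg t ht))⁻¹ := by group
      _ = c.pb x' := by rw [h4]; group)
  have ht' : (t : E) = a ^ 2 := by rw [← inv_inv (t : E), hta, inv_inv]
  have hf : σ a = a := c.fix_of_sq h2 (by rw [← ht']; exact t.2)
  have e : c.pb (dg a ha) * c.pa (dg t ht) = c.p4 (dg ⟨a, hf⟩ (sub_ne hf ha)) := by
    refine (((c.act_b a ha).mul (c.act_a t ht)).congr rfl ?_ ?_).unique (c.act_p4_dg ⟨a, hf⟩ (sub_ne hf ha))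
    · rw [ht']; field_simp
    · rw [ht', nrm_of_fix hf]
      field_simp
  have e2 : c.pb (dg a ha) * c.p4 y * c.pa (dg t ht) = c.p4 y * (c.pb (dg a ha) * c.pa (dg t ht)) := by
    rw [c.comm_pb_p4]; group
  rw [e2, e]
  exact mul_mem ⟨y, rfl⟩ ⟨_, rfl⟩

/-- `K 1 ∩ K 4 = ⟨z⟩` -/
theorem eq_of_pb_eq_p4 {x : SL2 E} {y : SL2 ↥(fx σ)} (h : c.pb x = c.p4 y) : c.pb x = 1 ∨ c.pb x = c.z := by
  have hc : ∀ y', y * y' = y' * y := by
    intro y'
    apply c.p4_inj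
    rw [map_mul, map_mul, ← h]
    exact c.comm_pb_p4 x y'
  rcases central_cases hc with rfl | rfl
  · left
    rw [h, map_one]
  · right
    rw [h, z_eq_p4]

/-- `C(K 1 K 4) = ⟨z⟩` -/
theorem centralizer_K1K4 [Finite E] (h2 : (2 : E) ≠ 0) {g : L} (h1 : ∀ x, g * c.pb x = c.pb x * g)
    (h4 : ∀ y, g * c.p4 y = c.p4 y * g) : g = 1 ∨ g = c.z := by
  obtain ⟨x, hx⟩ := c.centralizer_K4 h2 h4
  obtain ⟨y, hy⟩ := c.centralizer_K1 h2 h1
  rw [← hx]
  exact c.eq_of_pb_eq_p4 (hx.trans hy.symm)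

/-- an element `pb x * p4 y * pa (dg t)` lies in `K 1 K 4` iff `t` is a square -/
theorem sq_of_mem [Finite E] (h2 : (2 : E) ≠ 0) {x x' : SL2 E} {y y' : SL2 ↥(fx σ)} {t : ↥(fx σ)} {ht : t ≠ 0}
    (h : c.pb x * c.p4 y * c.pa (dg t ht) = c.pb x' * c.p4 y') : ∃ a : ↥(fx σ), a ≠ 0 ∧ t = a ^ 2 := by
  have e : c.pa (dg t ht) = c.pb (x⁻¹ * x') * c.p4 (y⁻¹ * y') := by
    have h1 : c.pa (dg t ht) = (c.p4 y)⁻¹ * ((c.pb x)⁻¹ * c.pb x') * c.p4 y' := by
      calc c.pa (dg t ht) = (c.p4 y)⁻¹ * (c.pb x)⁻¹ * (c.pb x * c.p4 y * c.pa (dg t ht)) := by group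
        _ = _ := by rw [h]; group
    rw [h1, ← map_inv, ← map_inv, ← map_mul, ← c.comm_pb_p4, mul_assoc, ← map_mul]
  generalize x⁻¹ * x' = u at e
  generalize y⁻¹ * y' = v at e
  obtain ⟨a, ha, _, hta⟩ := mul_conj_dgl (y := v⁻¹) (t := t) (ht := ht) (fun w => by
    apply c.p4_inj
    rw [map_mul, map_mul, ← c.pa_dg_p4 h2 t ht w, e, inv_inv, map_inv]
    have := c.comm_pb_p4 u w
    have h3 := c.comm_pb_p4 u v
    calc (c.p4 v)⁻¹ * (c.pb u * c.p4 v * c.p4 w * (c.pb u * c.p4 v)⁻¹) * c.p4 v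
        = (c.p4 v)⁻¹ * (c.pb u * c.p4 v) * c.p4 w * (c.pb u * c.p4 v)⁻¹ * c.p4 v := by group
      _ = (c.p4 v)⁻¹ * (c.p4 v * c.pb u) * c.p4 w * (c.p4 v * c.pb u)⁻¹ * c.p4 v := by rw [h3]
      _ = (c.pb u * c.p4 w) * (c.pb u)⁻¹ := by group
      _ = c.p4 w := by rw [this]; group)
  exact ⟨a⁻¹, inv_ne_zero ha, by rw [hta, inv_pow]⟩

theorem pa_dg_sq (a : ↥(fx σ)) (ha : a ≠ 0) :
    c.pa (dg (a ^ 2) (pow_ne_zero 2 ha)) = (c.pb (dg (a : E) fun h => ha (Subtype.ext h)))⁻¹ * c.p4 (dg a ha) := by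
  have ha' : (a : E) ≠ 0 := fun h => ha (Subtype.ext h)
  have h1 := (c.act_b (a : E) ha').inv.mul (c.act_p4_dg a ha)
  refine ((c.act_a (a ^ 2) (pow_ne_zero 2 ha)).congr rfl ?_ ?_).unique h1
  · rw [show (((a ^ 2 : ↥(fx σ))) : E) = (a : E) ^ 2 from rfl]
    field_simp
  · rw [show (((a ^ 2 : ↥(fx σ))) : E) = (a : E) ^ 2 from rfl, nrm_of_fix a.2]
    field_simp

end HexGrp

end Cfsg.Agent.Cit.HexBase
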