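import Mathlib
import Cfsg.Agent.Cit.HexCent2
import Cfsg.Agent.Cit.AutInv
import Cfsg.Agent.Cit.TwoB.LFact

/-!
# `K1`, `K4` are of type `SL₂`; the four-group and the `E₈` containing `z` (project CIT, S1310)
-/

set_option autoImplicit false

namespace Cfsg.Agent.Cit.HexBase

open Cfsg.Agent.SplitTwo Cfsg.Agent.TitsThree.RankTwoZ Cfsg.Agent.Lib.SL2Mat
open Cfsg.Agent.Cit.AutFacts

/-- `SL(2,·)` of a ring isomorphism -/
def slEquiv {K K' : Type*} [Field K] [Field K'] (r : K ≃+* K') : SL2 K ≃* SL2 K' :=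
  MonoidHom.toMulEquiv (Matrix.SpecialLinearGroup.map (r : K →+* K'))
    (Matrix.SpecialLinearGroup.map (r.symm : K' →+* K))
    (by
      ext x i j
      simp)
    (by
      ext x i j
      simp)

/-- a group isomorphic to `SL(2,F)` is of type `IsTy`, any universe -/
theorem isTy_sl {F X : Type*} [Field F] [Finite F] [Group X] (h2 : (2 : F) ≠ 0) (f : X ≃* SL2 F) : IsTy X := by
  have : Fintype F := Fintype.ofFinite F
  obtain ⟨F0, i1, i2, hc, ⟨r⟩⟩ : ∃ (F0 : Type) (_ : Field F0) (_ : Fintype F0),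
      Fintype.card F0 = Fintype.card F ∧ Nonempty (F0 ≃+* F) := by
    let e : Fin (Fintype.card F) ≃ F := (Fintype.equivFin F).symm
    exact ⟨Fin (Fintype.card F), e.field, inferInstance, Fintype.card_fin _, ⟨@Equiv.ringEquiv _ _ e _ _⟩⟩
  refine Or.inl ⟨F0, i1, i2, ?_, ⟨f.trans (slEquiv r).symm⟩⟩
  rw [hc]
  rw [← Nat.not_even_iff_odd]
  intro h
  apply h2
  have h3 := FiniteField.even_card_iff_char_two (F := F)
  have h4 : ringChar F = 2 := h3.2 (Nat.even_iff.1 h)
  have h5 := ringChar.spec F 2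
  exact_mod_cast (h5.2 (by rw [h4]))

theorem exists_ab {F : Type*} [Field F] [Finite F] : ∃ a b : F, a ^ 2 + b ^ 2 = -1 := by
  obtain ⟨p, hpc⟩ := CharP.exists F
  have : CharP F p := hpc
  have hp : p.Prime := CharP.char_is_prime F p
  have : NeZero p := ⟨hp.ne_zero⟩
  obtain ⟨a, b, hab⟩ := CharP.sq_add_sq F p (-1)
  refine ⟨a, b, ?_⟩
  rw [hab]; push_cast; rfl

/-- a quaternion subgroup of `SL(2,F)` -/
theorem exists_quat {F : Type*} [Field F] [Finite F] : ∃ i j : SL2 F, i * i = dg (-1) (neg_ne_zero.2 one_ne_zero) ∧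
    j * j = dg (-1) (neg_ne_zero.2 one_ne_zero) ∧ j * i = dg (-1) (neg_ne_zero.2 one_ne_zero) * (i * j) := by
  obtain ⟨a, b, hab⟩ := exists_ab (F := F)
  refine ⟨wm 1 one_ne_zero, mk a b b (-a) (by linear_combination -hab), ?_, ?_, ?_⟩
  · refine ext_ent ?_ ?_ ?_ ?_ <;> simp [ent_mul]
  · refine ext_ent ?_ ?_ ?_ ?_ <;> simp [ent_mul]
    · linear_combination hab
    · ring
    · ring
    · linear_combination hab
  · refine ext_ent ?_ ?_ ?_ ?_ <;> simp [ent_mul]

namespace HexGrp

variable {E : Type*} [Field E] {σ : E ≃+* E} {L : Type*} [Group L] (c : HexGrp σ L)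

omit c in
theorem two_fx (h2 : (2 : E) ≠ 0) : (2 : ↥(fx σ)) ≠ 0 := fun h => h2 (congrArg Subtype.val h)

theorem isTy_K1 [Finite E] (h2 : (2 : E) ≠ 0) : IsTy c.K1 := isTy_sl h2 (c.equivK1 h2).symm

theorem isTy_K4 [Finite E] (h2 : (2 : E) ≠ 0) : IsTy c.K4 := isTy_sl (two_fx h2) c.equivK4.symm

theorem orderOf_z (h2 : (2 : E) ≠ 0) : orderOf c.z = 2 :=
  orderOf_eq_prime (by rw [pow_two, c.z_sq]) (c.z_ne h2)

theorem tyZ_K1 [Finite E] (h2 : (2 : E) ≠ 0) : TyZ c.K1 ⟨c.z, c.z_mem_K1⟩ :=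
  ⟨c.isTy_K1 h2, by rw [Subgroup.orderOf_mk, c.orderOf_z h2]⟩

theorem tyZ_K4 [Finite E] (h2 : (2 : E) ≠ 0) : TyZ c.K4 ⟨c.z, c.z_mem_K4⟩ :=
  ⟨c.isTy_K4 h2, by rw [Subgroup.orderOf_mk, c.orderOf_z h2]⟩

/-- `K1`, `K4` commute -/
theorem comm14 {x y : L} (hx : x ∈ c.K1) (hy : y ∈ c.K4) : x * y = y * x := by
  obtain ⟨a, rfl⟩ := hx
  obtain ⟨b, rfl⟩ := hy
  exact c.comm_pb_p4 a b

theorem eq_of_mem_inf [Finite E] (h2 : (2 : E) ≠ 0) {x : L} (h1 : x ∈ c.K1) (h4 : x ∈ c.K4) : x = 1 ∨ x = c.z := by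
  rcases (c.tyZ_K1 h2).center (s := ⟨x, h1⟩) (fun y => Subtype.ext (c.comm14 y.2 h4).symm) with h | h
  · exact Or.inl (congrArg Subtype.val h)
  · exact Or.inr (congrArg Subtype.val h)

/-- the product of two elements of order four -/
theorem four_aux [Finite E] (h2 : (2 : E) ≠ 0) {x y : L} (hx : x ∈ c.K1) (hy : y ∈ c.K4) (hxx : x * x = c.z)
    (hyy : y * y = c.z) : x * y * (x * y) = 1 ∧ x * y ≠ 1 ∧ x * y ≠ c.z ∧ x * y * c.z = c.z * (x * y) := by
  have hxy := c.comm14 hx hy
  have hz := c.z_ne h2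
  have hnot : ∀ w : L, w ∈ c.K1 → w ∈ c.K4 → w * w ≠ c.z := by
    intro w h1 h4 h
    rcases c.eq_of_mem_inf h2 h1 h4 with e | e
    · rw [e, one_mul] at h
      exact hz h.symm
    · rw [e, c.z_sq] at h
      exact hz h.symm
  refine ⟨?_, fun h => ?_, fun h => ?_, ?_⟩
  · calc x * y * (x * y) = x * (y * x) * y := by group
      _ = (x * x) * (y * y) := by rw [← hxy]; group
      _ = 1 := by rw [hxx, hyy, c.z_sq]
  · have e : x = y⁻¹ := eq_inv_of_mul_eq_one_left h
    exact hnot x hx (by rw [e]; exact inv_mem hy) hxx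
  · have e : x = c.z * y⁻¹ := eq_mul_inv_of_mul_eq h
    exact hnot x hx (by rw [e]; exact mul_mem c.z_mem_K4 (inv_mem hy)) hxx
  · rw [← hxx]
    calc x * y * (x * x) = x * (y * x) * x := by group
      _ = x * (x * y) * x := by rw [hxy]
      _ = x * x * (y * x) := by group
      _ = x * x * (x * y) := by rw [hxy]

omit c in
/-- images of the quaternion relations -/
theorem quat_of {K : Type*} [Field K] [Finite K] (ρ : SL2 K →* L) {z : L}
    (hz : z = ρ (dg (-1) (neg_ne_zero.2 one_ne_zero))) :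
    ∃ i ∈ ρ.range, ∃ j ∈ ρ.range, i * i = z ∧ j * j = z ∧ j * i = z * (i * j) := by
  obtain ⟨i, j, h1, h2, h3⟩ := exists_quat (F := K)
  exact ⟨ρ i, ⟨i, rfl⟩, ρ j, ⟨j, rfl⟩, by rw [← map_mul, h1, hz], by rw [← map_mul, h2, hz],
    by rw [← map_mul, h3, map_mul, hz, map_mul]⟩

/-- (F5) -/
theorem four [Finite E] (h2 : (2 : E) ≠ 0) : ∃ t, t * t = 1 ∧ t ≠ 1 ∧ t ≠ c.z ∧ t * c.z = c.z * t := by
  obtain ⟨i, hi, j, hj, h1, -, -⟩ := quat_of (K := E) c.pb rfl
  obtain ⟨i', hi', j', hj', h1', -, -⟩ := quat_of (K := ↥(fx σ)) c.p4 c.z_eq_p4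
  exact ⟨i * i', c.four_aux h2 hi hi' h1 h1'⟩

omit c in
/-- adjoining a commuting involution -/
theorem exists_adjoin {G : Type*} [Group G] (H : Subgroup G) (hH : ∀ x ∈ H, x * x = 1) {t : G} (htt : t * t = 1)
    (hc : ∀ x ∈ H, x * t = t * x) (ht : t ∉ H) : ∃ K : Subgroup G, H ≤ K ∧ t ∈ K ∧ (∀ x ∈ K, x * x = 1) ∧
      Nat.card K = Nat.card H * 2 ∧ ∀ x, x ∈ K ↔ x ∈ H ∨ x * t ∈ H := by
  have hc' : ∀ x : G, x * t ∈ H → x * t = t * x := by
    intro x hx
    have h1 := hc _ hx
    have h3 : x * t * t = x := by rw [mul_assoc, htt, mul_one]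
    calc x * t = t * t * (x * t) := by rw [htt, one_mul]
      _ = t * (t * (x * t)) := by group
      _ = t * (x * t * t) := by rw [h1]
      _ = t * x := by rw [h3]
  let K : Subgroup G :=
    { carrier := {x | x ∈ H ∨ x * t ∈ H}
      one_mem' := Or.inl H.one_mem
      mul_mem' := by
        rintro a b (ha | ha) (hb | hb)
        · exact Or.inl (H.mul_mem ha hb)
        · exact Or.inr (by rw [mul_assoc]; exact H.mul_mem ha hb)
        · refine Or.inr ?_
          have := H.mul_mem ha hb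
          rwa [mul_assoc, ← hc b hb, ← mul_assoc] at this
        · refine Or.inl ?_
          have h1 := H.mul_mem ha hb
          have h3 : a * t * (b * t) = a * b := by
            rw [hc' b hb]
            calc a * t * (t * b) = a * (t * t) * b := by group
              _ = a * b := by rw [htt, mul_one]
          rwa [h3] at h1
      inv_mem' := by
        rintro a (ha | ha)
        · exact Or.inl (H.inv_mem ha)
        · refine Or.inr ?_
          have h1 := H.inv_mem ha
          rw [hc' a ha, mul_inv_rev, inv_eq_of_mul_eq_one_right htt] at h1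
          exact h1 }
  have hmem : ∀ x, x ∈ K ↔ x ∈ H ∨ x * t ∈ H := fun x => Iff.rfl
  have hHK : H ≤ K := fun x hx => Or.inl hx
  have htK : t ∈ K := Or.inr (by rw [htt]; exact H.one_mem)
  refine ⟨K, hHK, htK, ?_, ?_, hmem⟩
  · rintro x (hx | hx)
    · exact hH x hx
    · have h1 := hH _ hx
      have h3 : x * t * (x * t) = x * x := by
        rw [hc' x hx]
        calc t * x * (t * x) = t * (x * t) * x := by group
          _ = t * (t * x) * x := by rw [hc' x hx]
          _ = t * t * (x * x) := by group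
          _ = x * x := by rw [htt, one_mul]
      rwa [h3] at h1
  · have h1 : H.relIndex K = 2 := by
      rw [Subgroup.relIndex_eq_two_iff]
      refine ⟨t, htK, fun b hb => ?_⟩
      rcases hb with hb | hb
      · refine Or.inr ⟨hb, fun h => ht ?_⟩
        have := H.mul_mem (H.inv_mem hb) h
        rwa [inv_mul_cancel_left] at this
      · refine Or.inl ⟨hb, fun h => ht ?_⟩
        have := H.mul_mem (H.inv_mem h) hb
        rwa [inv_mul_cancel_left] at this
    have h3 := Subgroup.relIndex_mul_relIndex ⊥ H K bot_le hHK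
    rw [Subgroup.relIndex_bot_left, Subgroup.relIndex_bot_left, h1] at h3
    exact h3.symm

/-- (F6): an elementary abelian subgroup of order 8 containing `z` -/
theorem lEight [Finite E] (h2 : (2 : E) ≠ 0) : TwoB.LEight c.z := by
  obtain ⟨i, hi, j, hj, h1, h3, h4⟩ := quat_of (K := E) c.pb rfl
  obtain ⟨i', hi', j', hj', h1', h3', h4'⟩ := quat_of (K := ↥(fx σ)) c.p4 c.z_eq_p4
  have hi1 : i ∈ c.K1 := hi
  have hj1 : j ∈ c.K1 := hj
  have hi4 : i' ∈ c.K4 := hi'
  have hj4 : j' ∈ c.K4 := hj'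
  obtain ⟨a1, a2, a3, a4⟩ := c.four_aux h2 hi1 hi4 h1 h1'
  obtain ⟨b1, b2, b3, b4⟩ := c.four_aux h2 hj1 hj4 h3 h3'
  have hzc : ∀ {x : L}, x ∈ c.K1 → x * c.z = c.z * x := fun hx => c.comm14 hx c.z_mem_K4
  have hzc4 : ∀ {x : L}, x ∈ c.K4 → x * c.z = c.z * x := fun hx => (c.comm14 c.z_mem_K1 hx).symm
  have hsq : ∀ {x y : L}, x * c.z = c.z * x → x * x = c.z → y * y = c.z → y * x = c.z * (x * y) →
      y * x * (y * x) = c.z := by
    intro x y hx hxx hyy hyx
    calc y * x * (y * x) = y * x * (c.z * (x * y)) := by rw [← hyx]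
      _ = y * (x * c.z) * x * y := by group
      _ = y * (c.z * x) * x * y := by rw [hx]
      _ = y * (c.z * (x * x)) * y := by group
      _ = y * y := by rw [hxx, c.z_sq, mul_one]
      _ = c.z := hyy
  obtain ⟨d1, d2, d3, d4⟩ := c.four_aux h2 (mul_mem hj1 hi1) (mul_mem hj4 hi4) (hsq (hzc hi1) h1 h3 h4)
    (hsq (hzc4 hi4) h1' h3' h4')
  have e1 : j * j' * (i * i') = j * i * (j' * i') := by
    calc j * j' * (i * i') = j * (j' * i) * i' := by group
      _ = j * (i * j') * i' := by rw [c.comm14 hi1 hj4]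
      _ = _ := by group
  have e2 : i * i' * (j * j') = i * j * (i' * j') := by
    calc i * i' * (j * j') = i * (i' * j) * j' := by group
      _ = i * (j * i') * j' := by rw [c.comm14 hj1 hi4]
      _ = _ := by group
  have hcomm : i * i' * (j * j') = j * j' * (i * i') := by
    rw [e1, e2, h4, h4']
    have h5 : i * j * c.z = c.z * (i * j) := hzc (mul_mem hi1 hj1)
    calc i * j * (i' * j') = c.z * c.z * (i * j * (i' * j')) := by rw [c.z_sq, one_mul]
      _ = c.z * (c.z * (i * j)) * (i' * j') := by group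
      _ = c.z * (i * j * c.z) * (i' * j') := by rw [h5]
      _ = c.z * (i * j) * (c.z * (i' * j')) := by group
  obtain ⟨H1, l1, m1, s1, k1, n1⟩ := exists_adjoin (G := L) ⊥
    (by intro x hx; rw [Subgroup.mem_bot.1 hx, one_mul]) c.z_sq
    (by intro x hx; rw [Subgroup.mem_bot.1 hx, one_mul, mul_one]) (by
      rw [Subgroup.mem_bot]
      exact c.z_ne h2)
  have q1 : ∀ x, x ∈ H1 → x = 1 ∨ x = c.z := by
    intro x hx
    rcases (n1 x).1 hx with h | h
    · exact Or.inl (Subgroup.mem_bot.1 h)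
    · exact Or.inr (by rw [← c.z_inv]; exact eq_inv_of_mul_eq_one_left (Subgroup.mem_bot.1 h))
  obtain ⟨H2, l2, m2, s2, k2, n2⟩ := exists_adjoin (G := L) H1 s1 a1
    (by
      intro x hx
      rcases q1 x hx with rfl | rfl
      · rw [one_mul, mul_one]
      · exact a4.symm) (by
      intro h
      rcases q1 _ h with h | h
      · exact a2 h
      · exact a3 h)
  obtain ⟨H3, l3, m3, s3, k3, n3⟩ := exists_adjoin (G := L) H2 s2 b1
    (by
      have key : H2 ≤ Subgroup.centralizer {j * j'} := by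
        intro x hx
        rw [Subgroup.mem_centralizer_singleton_iff]
        have hH1 : ∀ y ∈ H1, y * (j * j') = j * j' * y := by
          intro y hy
          rcases q1 y hy with rfl | rfl
          · rw [one_mul, mul_one]
          · exact b4.symm
        rcases (n2 x).1 hx with h | h
        · exact hH1 x h
        · have h5 := hH1 _ h
          have h6 : x = x * (i * i') * (i * i') := by rw [mul_assoc, a1, mul_one]
          rw [h6]
          calc x * (i * i') * (i * i') * (j * j') = x * (i * i') * (i * i' * (j * j')) := by group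
            _ = x * (i * i') * (j * j') * (i * i') := by rw [hcomm]; group
            _ = j * j' * (x * (i * i')) * (i * i') := by rw [h5]
            _ = _ := by group
      intro x hx
      exact Subgroup.mem_centralizer_singleton_iff.1 (key hx)) (by
      intro h
      rcases (n2 _).1 h with h | h
      · rcases q1 _ h with h | h
        · exact b2 h
        · exact b3 h
      · rw [e1] at h
        rcases q1 _ h with h | h
        · exact d2 h
        · exact d3 h)
  refine ⟨H3, l3 (l2 m1), ?_, s3⟩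
  rw [k3, k2, k1, Subgroup.card_bot]

omit c in
/-- an odd normal subgroup of a group of this type is trivial -/
theorem core_of_isTy {G : Type*} [Group G] {K : Subgroup G} [Finite K] (hK : IsTy K) (N : Subgroup G) (hN : N ≤ K)
    (hn : K ≤ Subgroup.normalizer (N : Set G)) (hodd : Odd (Nat.card N)) : N = ⊥ := by
  have hnor : (N.subgroupOf K).Normal := by
    refine ⟨fun x hx g => ?_⟩
    rw [Subgroup.mem_subgroupOf] at hx ⊢
    exact (Subgroup.mem_normalizer_iff.1 (hn g.2) x).1 hx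
  have hcard : Nat.card (N.subgroupOf K) = Nat.card N := Nat.card_congr (Subgroup.subgroupOfEquivOfLe hN).toEquiv
  rcases hK.good.one _ hnor with h | h
  · exfalso
    obtain ⟨w, hw, -⟩ := hK.good.uniq
    have h1 : 2 ∣ Nat.card K := hw ▸ orderOf_dvd_natCard w
    rw [← (N.subgroupOf K).card_mul_index, hcard] at h1
    exact (Nat.not_even_iff_odd.2 (hodd.mul h)) (even_iff_two_dvd.2 h1)
  · rw [Subgroup.eq_bot_iff_forall]
    intro x hx
    rcases h ⟨x, hN hx⟩ (Subgroup.mem_subgroupOf.2 hx) with h1 | h1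
    · exact congrArg Subtype.val h1
    · exfalso
      rw [Subgroup.orderOf_mk] at h1
      have h2 : orderOf (⟨x, hx⟩ : N) ∣ Nat.card N := orderOf_dvd_natCard _
      rw [Subgroup.orderOf_mk, h1] at h2
      exact (Nat.not_even_iff_odd.2 hodd) (even_iff_two_dvd.2 h2)

end HexGrp

end Cfsg.Agent.Cit.HexBase
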