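import Mathlib
import Cfsg.Agent.Cit.HexSL
import Cfsg.Agent.Cit.TwoB.CenDef

/-!
# `LFact`, `TwoFac` for `G₂(q)`, `³D₄(q)`, `q` odd, from one class of involutions, (H4) and (H5)
-/

set_option autoImplicit false
set_option linter.style.haveILetI false

namespace Cfsg.Agent.Cit.HexBase

open Cfsg.Agent.SplitTwo Cfsg.Agent.TitsThree.RankTwoZ Cfsg.Agent.Lib.SL2Mat
open Cfsg.Agent.Cit.AutFacts

/-- an involutory automorphism leaving a subgroup `K` of type `SL₂` invariant and not trivial on it inverts an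
element of `K` of order 4 -/
theorem exists_inv_of {L : Type*} [Group L] {K : Subgroup L} [Finite K] {z : L} (hz : z ∈ K)
    (hK : TyZ K ⟨z, hz⟩) {a : MulAut L} (haa : a * a = 1) (haK : ∀ x ∈ K, a x ∈ K) (hne : ∃ x ∈ K, a x ≠ x) :
    ∃ x ∈ K, x * x = z ∧ a x = x⁻¹ := by
  have haa' : ∀ x, a (a x) = x := fun x => DFunLike.congr_fun haa x
  let b : MulAut K :=
    { toFun := fun x => ⟨a x, haK x x.2⟩
      invFun := fun x => ⟨a x, haK x x.2⟩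
      left_inv := fun x => Subtype.ext (haa' x)
      right_inv := fun x => Subtype.ext (haa' x)
      map_mul' := fun x y => Subtype.ext (map_mul a (x : L) y) }
  have hb : ∀ x : K, ((b x : K) : L) = a x := fun x => rfl
  have hbb : b * b = 1 := by
    ext x
    exact haa' x
  have hb1 : b ≠ 1 := by
    intro h
    obtain ⟨x, hx, h1⟩ := hne
    apply h1
    have := congrArg (fun f : MulAut K => ((f ⟨x, hx⟩ : K) : L)) h
    exact this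
  obtain ⟨x, hxx, hx⟩ := hK.exists_inverted hbb hb1
  refine ⟨x, x.2, congrArg Subtype.val hxx, ?_⟩
  have := congrArg Subtype.val hx
  exact this

namespace HexGrp

variable {E : Type*} [Field E] {σ : E ≃+* E} {L : Type*} [Group L] (c : HexGrp σ L)

/-- (H4) in the form used here: an automorphism fixing `z` permutes `K1`, `K4` -/
def Perm14 : Prop := ∀ a : MulAut L, a c.z = c.z →
  ((∀ x ∈ c.K1, a x ∈ c.K1) ∧ (∀ x ∈ c.K4, a x ∈ c.K4)) ∨ (∀ x ∈ c.K1, a x ∈ c.K4)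

/-- (F4) -/
theorem out_of [Finite L] [Finite E] (h2 : (2 : E) ≠ 0) (hp : c.Perm14)
    (h1 : ∀ a : MulAut L, a * a = 1 → (∀ x ∈ c.K1, a x = x) → a = 1 ∨ a = MulAut.conj c.z)
    (h4 : ∀ a : MulAut L, a * a = 1 → (∀ x ∈ c.K4, a x = x) → a = 1 ∨ a = MulAut.conj c.z)
    (a : MulAut L) (haa : a * a = 1) (hout : ∀ l, a ≠ MulAut.conj l) (haz : a c.z = c.z) :
    ∃ t, t * t = 1 ∧ t ≠ 1 ∧ t ≠ c.z ∧ t * c.z = c.z * t ∧ a t = t := by
  have hno : ¬ (a = 1 ∨ a = MulAut.conj c.z) := by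
    rintro (h | h)
    · exact hout 1 (by rw [h, map_one])
    · exact hout _ h
  rcases hp a haz with ⟨ha1, ha4⟩ | hsw
  · obtain ⟨x, hx, hxx, hax⟩ := exists_inv_of c.z_mem_K1 (c.tyZ_K1 h2) haa ha1 (by
      by_contra h
      push Not at h
      exact hno (h1 a haa h))
    obtain ⟨y, hy, hyy, hay⟩ := exists_inv_of c.z_mem_K4 (c.tyZ_K4 h2) haa ha4 (by
      by_contra h
      push Not at h
      exact hno (h4 a haa h))
    obtain ⟨t1, t2, t3, t4⟩ := c.four_aux h2 hx hy hxx hyy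
    refine ⟨x * y, t1, t2, t3, t4, ?_⟩
    have e1 : x⁻¹ = c.z * x := by
      apply inv_eq_of_mul_eq_one_right
      rw [← mul_assoc, c.comm14 hx c.z_mem_K4, mul_assoc, hxx, c.z_sq]
    have e2 : y⁻¹ = c.z * y := by
      apply inv_eq_of_mul_eq_one_right
      rw [← mul_assoc, ← c.comm14 c.z_mem_K1 hy, mul_assoc, hyy, c.z_sq]
    rw [map_mul, hax, hay, e1, e2, c.comm14 c.z_mem_K1 hy]
    calc c.z * x * (y * c.z) = c.z * (x * y * c.z) := by group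
      _ = c.z * (c.z * (x * y)) := by rw [t4]
      _ = x * y := by rw [← mul_assoc, c.z_sq, one_mul]
  · obtain ⟨i, hi, j, hj, hii, -, -⟩ := quat_of (K := E) c.pb (z := c.z) rfl
    have hi1 : i ∈ c.K1 := hi
    have hai : a i ∈ c.K4 := hsw i hi1
    have haii : a i * a i = c.z := by rw [← map_mul, hii, haz]
    obtain ⟨t1, t2, t3, t4⟩ := c.four_aux h2 hi1 hai hii haii
    refine ⟨i * a i, t1, t2, t3, t4, ?_⟩
    rw [map_mul, c.comm14 hi1 hai]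
    congr 1
    exact DFunLike.congr_fun haa i

/-- **`LFact` for `K1`, `K4`.** -/
theorem lfact1_of [Finite L] [Finite E] (h2 : (2 : E) ≠ 0) (hp : c.Perm14)
    (hone : ∀ s t : L, s * s = 1 → s ≠ 1 → t * t = 1 → t ≠ 1 → ∃ g, g * s * g⁻¹ = t)
    (h1 : ∀ a : MulAut L, a * a = 1 → (∀ x ∈ c.K1, a x = x) → a = 1 ∨ a = MulAut.conj c.z)
    (h4 : ∀ a : MulAut L, a * a = 1 → (∀ x ∈ c.K4, a x = x) → a = 1 ∨ a = MulAut.conj c.z) :
    TwoB.LFact L c.K1 c.z where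
  sq := c.z_sq
  ne := c.z_ne h2
  one := hone
  inn := h1
  out := c.out_of h2 hp h1 h4
  four := c.four h2
  core := core_of_isTy (c.isTy_K1 h2)

theorem lfact4_of [Finite L] [Finite E] (h2 : (2 : E) ≠ 0) (hp : c.Perm14)
    (hone : ∀ s t : L, s * s = 1 → s ≠ 1 → t * t = 1 → t ≠ 1 → ∃ g, g * s * g⁻¹ = t)
    (h1 : ∀ a : MulAut L, a * a = 1 → (∀ x ∈ c.K1, a x = x) → a = 1 ∨ a = MulAut.conj c.z)
    (h4 : ∀ a : MulAut L, a * a = 1 → (∀ x ∈ c.K4, a x = x) → a = 1 ∨ a = MulAut.conj c.z) :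
    TwoB.LFact L c.K4 c.z where
  sq := c.z_sq
  ne := c.z_ne h2
  one := hone
  inn := h4
  out := c.out_of h2 hp h1 h4
  four := c.four h2
  core := core_of_isTy (c.isTy_K4 h2)

/-! ### `TwoFac` -/

/-- `K1` is normal in `C(z)` -/
theorem nml1 [Finite E] (h2 : (2 : E) ≠ 0) {x : L} (hx : x * c.z = c.z * x) {y : L} (hy : y ∈ c.K1) :
    x * y * x⁻¹ ∈ c.K1 := by
  obtain ⟨u, v, t, ht, rfl⟩ := c.mem_CZ_form h2 hx
  obtain ⟨y, rfl⟩ := hy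
  have e : c.pb u * c.p4 v * c.pa (dg t ht) * c.pb y * (c.pb u * c.p4 v * c.pa (dg t ht))⁻¹ =
      c.pb u * (c.p4 v * (c.pa (dg t ht) * c.pb y * (c.pa (dg t ht))⁻¹) * (c.p4 v)⁻¹) * (c.pb u)⁻¹ := by group
  rw [e, c.pa_dg_pb, ← c.comm_pb_p4, mul_inv_cancel_right, ← map_inv, ← map_mul, ← map_mul]
  exact ⟨_, rfl⟩

theorem nml4 [Finite E] (h2 : (2 : E) ≠ 0) {x : L} (hx : x * c.z = c.z * x) {y : L} (hy : y ∈ c.K4) :
    x * y * x⁻¹ ∈ c.K4 := by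
  obtain ⟨u, v, t, ht, rfl⟩ := c.mem_CZ_form h2 hx
  obtain ⟨y, rfl⟩ := hy
  have e : c.pb u * c.p4 v * c.pa (dg t ht) * c.p4 y * (c.pb u * c.p4 v * c.pa (dg t ht))⁻¹ =
      c.pb u * (c.p4 v * (c.pa (dg t ht) * c.p4 y * (c.pa (dg t ht))⁻¹) * (c.p4 v)⁻¹) * (c.pb u)⁻¹ := by group
  rw [e, c.pa_dg_p4 h2, ← map_inv, ← map_mul, ← map_mul, c.comm_pb_p4, mul_inv_cancel_right]
  exact ⟨_, rfl⟩

theorem cyc_aux [Finite E] (h2 : (2 : E) ≠ 0) : ∃ g : L, g * c.z = c.z * g ∧ ∀ x, x * c.z = c.z * x →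
    ∃ n : ℕ, ∃ a ∈ c.K1, ∃ b ∈ c.K4, x * g ^ n = a * b := by
  have : Finite (↥(fx σ))ˣ := inferInstance
  obtain ⟨ν, hν⟩ := IsCyclic.exists_generator (α := (↥(fx σ))ˣ)
  have hpow : ∀ n : ℕ, (c.pa (dg (ν : ↥(fx σ)) ν.ne_zero)) ^ n =
      c.pa (dg ((ν ^ n : (↥(fx σ))ˣ) : ↥(fx σ)) (ν ^ n).ne_zero) := by
    intro n
    induction n with
    | zero =>
      rw [pow_zero]
      have e : dg ((ν ^ 0 : (↥(fx σ))ˣ) : ↥(fx σ)) (ν ^ 0).ne_zero = 1 := by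
        refine ext_ent ?_ ?_ ?_ ?_ <;> simp
      rw [e, map_one]
    | succ n ih =>
      rw [pow_succ, ih, ← map_mul, dg_mul_dg]
      congr 1
      refine ext_ent ?_ ?_ ?_ ?_ <;> simp [pow_succ, mul_comm]
  refine ⟨c.pa (dg (ν : ↥(fx σ)) ν.ne_zero), (c.mem_CZ.1 (c.T0_le_CZ ⟨_, _, c.act_a _ _⟩)), ?_⟩
  intro x hx
  obtain ⟨u, v, t, ht, rfl⟩ := c.mem_CZ_form h2 hx
  obtain ⟨k, hk⟩ := (Submonoid.mem_powers_iff _ _).1
    ((mem_powers_iff_mem_zpowers).2 (hν (Units.mk0 t ht)⁻¹))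
  refine ⟨k, _, ⟨u, rfl⟩, _, ⟨v, rfl⟩, ?_⟩
  rw [hpow, mul_assoc, ← map_mul, dg_mul_dg]
  have e : dg (t * ((ν ^ k : (↥(fx σ))ˣ) : ↥(fx σ))) (mul_ne_zero ht (ν ^ k).ne_zero) = 1 := by
    have e1 : t * ((ν ^ k : (↥(fx σ))ˣ) : ↥(fx σ)) = 1 := by
      rw [hk]
      simp [ht]
    have e2 : ∀ (s : ↥(fx σ)) (hs : s ≠ 0), s = 1 → dg s hs = 1 := by
      rintro _ _ rfl
      exact dg_one' _
    exact e2 _ _ e1
  rw [e, map_one, mul_one]

omit c in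
theorem hasQS_of {K : Subgroup L} [Finite K] {z : L} (hz : z ∈ K) (hK : TyZ K ⟨z, hz⟩) : HasQS K := by
  haveI : Fact (Nat.Prime 2) := ⟨Nat.prime_two⟩
  obtain ⟨n, ⟨e⟩⟩ := hK.isQ (default : Sylow 2 K)
  exact ⟨default, n, ⟨e⟩⟩

/-- **`TwoFac`** with `K1`, `K4` -/
theorem twoFac14 [Finite L] [Finite E] (h2 : (2 : E) ≠ 0)
    (hone : ∀ s t : L, s * s = 1 → s ≠ 1 → t * t = 1 → t ≠ 1 → ∃ g, g * s * g⁻¹ = t) :
    TwoB.TwoFac L c.K1 c.K4 c.z where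
  comm _ hx _ hy := c.comm14 hx hy
  cyc := c.cyc_aux h2
  nml _ hx _ hy := c.nml4 h2 hx hy
  quat := hasQS_of _ (c.tyZ_K4 h2)
  uniq t ht h := congrArg Subtype.val ((c.tyZ_K4 h2).uniq (t := ⟨t, ht⟩) (by rw [Subgroup.orderOf_mk, h]))
  one := hone

theorem twoFac41 [Finite L] [Finite E] (h2 : (2 : E) ≠ 0)
    (hone : ∀ s t : L, s * s = 1 → s ≠ 1 → t * t = 1 → t ≠ 1 → ∃ g, g * s * g⁻¹ = t) :
    TwoB.TwoFac L c.K4 c.K1 c.z where
  comm _ hx _ hy := (c.comm14 hy hx).symm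
  cyc := by
    obtain ⟨g, hg, h⟩ := c.cyc_aux h2
    refine ⟨g, hg, fun x hx => ?_⟩
    obtain ⟨n, a, ha, b, hb, e⟩ := h x hx
    exact ⟨n, b, hb, a, ha, by rw [e, c.comm14 ha hb]⟩
  nml _ hx _ hy := c.nml1 h2 hx hy
  quat := hasQS_of _ (c.tyZ_K1 h2)
  uniq t ht h := congrArg Subtype.val ((c.tyZ_K1 h2).uniq (t := ⟨t, ht⟩) (by rw [Subgroup.orderOf_mk, h]))
  one := hone

end HexGrp

end Cfsg.Agent.Cit.HexBase
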