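import Mathlib
import Cfsg.Agent.Cit.HexFact

/-!
# `IsType`, `OO = ⊥`, `TyTwo` for subgroups isomorphic to `SL(2,F)`; `K1`, `K4`
-/

set_option autoImplicit false
set_option linter.style.haveILetI false

namespace Cfsg.Agent.Cit.HexBase

open Cfsg.Agent.SplitTwo Cfsg.Agent.TitsThree.RankTwoZ Cfsg.Agent.Lib.SL2Mat
open Cfsg.Agent.Cit.AutFacts

variable {G : Type*} [Group G]

theorem OO_eq_bot_of [Finite G] {K : Subgroup G} (h : IsTy K) : OO K = ⊥ := by
  refine HexGrp.core_of_isTy h (OO K) (OO_le K) (le_normalizer_OO K) ?_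
  rw [← Nat.not_even_iff_odd, even_iff_two_dvd]
  exact odd_OO K

theorem oddCore_eq_bot_of [Finite G] {K : Subgroup G} (h : IsTy K) : oddCore ↥K = ⊥ := by
  have h1 := OO_eq_bot_of h
  rw [OO_def] at h1
  exact (Subgroup.map_eq_bot_iff_of_injective _ K.subtype_injective).1 h1

/-- the odd core of `SL(2,F)` is trivial -/
theorem isType_of_equiv {F : Type*} [Field F] [Finite F] (h2 : (2 : F) ≠ 0) [Finite G] {K : Subgroup G}
    (f : K ≃* SL2 F) : IsType K := by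
  have h := isTy_sl h2 f
  exact isTy_sl h2 (((QuotientGroup.quotientMulEquivOfEq (oddCore_eq_bot_of h)).trans
    QuotientGroup.quotientBot).trans f)

namespace HexGrp

variable {E : Type*} [Field E] {σ : E ≃+* E} {L : Type*} [Group L] (c : HexGrp σ L)

theorem isType_K1 [Finite L] [Finite E] (h2 : (2 : E) ≠ 0) : IsType c.K1 :=
  isType_of_equiv h2 (c.equivK1 h2).symm

theorem isType_K4 [Finite L] [Finite E] (h2 : (2 : E) ≠ 0) : IsType c.K4 :=
  isType_of_equiv (two_fx h2) c.equivK4.symm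

theorem OO_K1 [Finite L] [Finite E] (h2 : (2 : E) ≠ 0) : OO c.K1 = ⊥ := OO_eq_bot_of (c.isTy_K1 h2)
theorem OO_K4 [Finite L] [Finite E] (h2 : (2 : E) ≠ 0) : OO c.K4 = ⊥ := OO_eq_bot_of (c.isTy_K4 h2)

theorem tyTwo_K1 [Finite L] [Finite E] (h2 : (2 : E) ≠ 0) : TyTwo c.K1 := (c.isType_K1 h2).tyTwo
theorem tyTwo_K4 [Finite L] [Finite E] (h2 : (2 : E) ≠ 0) : TyTwo c.K4 := (c.isType_K4 h2).tyTwo

end HexGrp

end Cfsg.Agent.Cit.HexBase
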