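import Cfsg.Agent.Cit.Defs

/-!
# HYP passes to subgroups

`restr Om H` : the set of `K ≤ H` (as subgroups of `↥H`) whose image in `G` lies in `Om`.
-/

set_option autoImplicit false
set_option linter.style.haveILetI false

namespace Cfsg.Agent.Cit

open Subgroup Cfsg

variable {G : Type*} [Group G]

/-- generalised quaternion Sylow 2-subgroups -/
def HasQS (X : Type*) [Group X] : Prop :=
  ∃ S : Sylow 2 X, ∃ n : ℕ, Nonempty (↥(S : Subgroup X) ≃* QuaternionGroup (2 ^ (n + 1)))

theorem HasQS.of_equiv {X Y : Type*} [Group X] [Group Y] [Finite X] (e : X ≃* Y) (h : HasQS X) :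
    HasQS Y := by
  obtain ⟨S, n, ⟨f⟩⟩ := h
  haveI : Fact (Nat.Prime 2) := ⟨Nat.prime_two⟩
  refine ⟨(S.isPGroup'.map e.toMonoidHom).toSylow ?_, n, ⟨?_⟩⟩
  · have h5 : ((S : Subgroup X).map e.toMonoidHom).index = (S : Subgroup X).index :=
      Subgroup.index_map_equiv _ e
    rw [h5]
    exact S.not_dvd_index
  · exact (((S : Subgroup X).equivMapOfInjective e.toMonoidHom e.injective).symm).trans f

/-- the odd core is preserved by injective maps -/
theorem OO_map {G' : Type*} [Group G'] (f : G →* G') (hf : Function.Injective f) (K : Subgroup G) :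
    OO (K.map f) = (OO K).map f := by
  rw [OO, OO, oddCore, ← Lib.Cores.map_equiv_pPrimeCore (K.equivMapOfInjective f hf),
    Subgroup.map_map, Subgroup.map_map]
  congr 1

/-- the image of the odd core lies in the odd core of the image -/
theorem map_OO_le [Finite G] {G' : Type*} [Group G'] (f : G →* G') (K : Subgroup G) :
    (OO K).map f ≤ OO (K.map f) := by
  refine le_OO (Subgroup.map_mono (OO_le K)) ?_ ?_
  · rintro _ ⟨k, hk, rfl⟩
    rw [mem_normalizer_iff_cj]
    have h1 : cj k (OO K) = OO K := mem_normalizer_iff_cj.1 (le_normalizer_OO K hk)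
    conv_rhs => rw [← h1]
    rw [cj_def, cj_def, Subgroup.map_map, Subgroup.map_map]
    congr 1
    ext x
    simp
  · exact fun h => odd_OO K (h.trans (card_map_dvd _ _))

theorem cj_map {G' : Type*} [Group G'] (f : G →* G') (g : G) (K : Subgroup G) :
    (cj g K).map f = cj (f g) (K.map f) := by
  rw [cj_def, cj_def, Subgroup.map_map, Subgroup.map_map]
  congr 1
  ext x
  simp

theorem orderOf_coe_two {H : Subgroup G} {t : H} : orderOf (t : G) = orderOf t := orderOf_coe t

/-- the members of `Om` contained in `H` -/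
def restr (Om : Set (Subgroup G)) (H : Subgroup G) : Set (Subgroup H) :=
  {K | K.map H.subtype ∈ Om}

variable {Om : Set (Subgroup G)} {H : Subgroup G}

theorem mem_restr {K : Subgroup H} : K ∈ restr Om H ↔ K.map H.subtype ∈ Om := Iff.rfl

theorem subgroupOf_mem_restr {K : Subgroup G} (hK : K ∈ Om) (hKH : K ≤ H) :
    K.subgroupOf H ∈ restr Om H := by
  rw [mem_restr, map_subgroupOf_eq_of_le hKH]; exact hK

theorem zz_map [Finite G] (h : Hyp Om) {K : Subgroup H} (hK : K ∈ restr Om H) :
    ((zz K : H) : G) = zz (K.map H.subtype) := by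
  obtain ⟨⟨t, ht, ht1⟩, ht2⟩ := h.zz_spec hK
  have h1 : ∃ t ∈ K, orderOf t = 2 := ⟨t, ht, by rw [← ht2, ← ht1]; exact (orderOf_coe t).symm⟩
  obtain ⟨h2, h3⟩ := zz_spec h1
  exact h.uniq _ hK _ ⟨_, h2, rfl⟩ (by rw [orderOf_coe]; exact h3)

theorem Hyp.restr [Finite G] (h : Hyp Om) (H : Subgroup G) : Hyp (restr Om H) := by
  refine ⟨?_, ?_, ?_, ?_, ?_, ?_⟩
  · intro K hK g
    rw [mem_restr, cj_map]
    exact h.conj _ hK _
  · intro K hK
    exact HasQS.of_equiv (K.equivMapOfInjective _ H.subtype_injective).symm (h.quat _ hK)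
  · intro K hK t ht ht2
    apply Subtype.ext
    rw [zz_map h hK]
    exact h.uniq _ hK _ ⟨t, ht, rfl⟩ (by rw [orderOf_coe]; exact ht2)
  · intro K hK
    have h1 := h.sub _ hK
    let f : centralizer {zz K} →* centralizer {zz (K.map H.subtype)} :=
      { toFun := fun x => ⟨(x : H), by
          have h2 := mem_centralizer_singleton_iff.1 x.2
          rw [mem_centralizer_singleton_iff, ← zz_map h hK]
          exact congrArg Subtype.val h2⟩
        map_one' := rfl
        map_mul' := fun x y => rfl }
    convert h1.comap f using 1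
    ext x
    simp only [mem_subgroupOf, mem_comap, mem_map]
    constructor
    · intro hx
      exact ⟨x, hx, rfl⟩
    · rintro ⟨y, hy, hyx⟩
      have : y = (x : H) := Subtype.ext hyx
      rwa [← this]
  · intro K hK L hL hKL
    have h1 := h.h2 _ hK _ hL (by rw [← zz_map h hK, ← zz_map h hL, hKL])
    rcases h1 with h1 | h1
    · left
      exact Subgroup.map_injective H.subtype_injective h1
    · right
      rw [← map_commutator, OO_map _ H.subtype_injective, OO_map _ H.subtype_injective,
        ← map_inf _ _ _ H.subtype_injective] at h1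
      exact (map_le_map_iff_of_injective H.subtype_injective).1 h1
  · intro K hK L hL y hy hy2 hy4 hyz
    have h1 := h.h3 _ hK _ hL (y : G) ⟨y, hy, rfl⟩ (by
      have h2 : zpowers (y : G) = (zpowers y).map H.subtype := by
        rw [MonoidHom.map_zpowers]; rfl
      rw [h2]; exact hy2.map _) (by rw [orderOf_coe]; exact hy4) (by
      rw [← zz_map h hL]; exact congrArg Subtype.val hyz)
    rw [mem_normalizer_iff_cj] at h1 ⊢
    have h2 := cj_map H.subtype y L
    rw [coe_subtype, h1] at h2
    exact Subgroup.map_injective H.subtype_injective h2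

/-- `Om(S)` of a subgroup -/
theorem mem_OmS_restr {S : Subgroup H} {K : Subgroup H} :
    K ∈ OmS (restr Om H) S ↔ K.map H.subtype ∈ OmS Om (S.map H.subtype) := by
  rw [mem_OmS, mem_OmS, mem_restr, relIndex_map_map_of_injective _ _ H.subtype_injective]

end Cfsg.Agent.Cit
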