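import Cfsg.Agent.Cit.Quo
import Cfsg.Agent.Cit.Sub
import Cfsg.Agent.Cit.SolvTwo
import Cfsg.Agent.Cit.Types
import Cfsg.Agent.Nodes.Ty
import Cfsg.Prelude.Def_LieTypeChar
import Cfsg.Prelude.Def_SporadicB
import Cfsg.Prelude.Def_Local
import Cfsg.Prelude.Def_Spor_Mathieu

/-!
# THEOREM T (the inductive theorem of project CIT): exact statement

* `Ty K` : type condition on the members. `K / O(K) ≃ SL₂(3)` (`IsT K`, no further condition), or `K` is perfect and
  `K / O(K)` is `SL₂(F)`, `|F| > 3` odd, or `2.A₇`.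
* `Piece Om D` : the four kinds of pieces: (T0) a single member; (T1) a quasisimple group with a chart; (T1') `G₂(q)`,
  `³D₄(q)` (no chart, only the isomorphism type and the facts `three`, `zzc`); (T2) `M₁₁`.
* `HasPieces Om` (for groups with `O(X) = 1`): `O(K) = 1` for all members `K`, and the members are contained in
  pairwise commuting pieces. `TT Om` : the image of `Om` in `X / O(X)` has pieces. THEOREM T = `TStmt`.
* `Uni Om` : all members have the same type (hypothesis of THEOREM T).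
* `rd K`, `OmIn Om H` : reduction of a member (`K` itself for `SL₂(3)`-type, the perfect residual otherwise); the
  members that are covered by `H` modulo their core.
* `MinG Om L` : the core case of THEOREM T: `F*(G) = L` simple, `G = ⟨Om⟩`, `Om` one class, `T` for smaller groups.
  `MinS Om` : the same with `G` simple.
-/

set_option autoImplicit false
set_option linter.dupNamespace false

namespace Cfsg.Agent.Cit

open Subgroup Cfsg Cfsg.Agent.Nodes.Chart

universe u

variable {G : Type*} [Group G]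

/-- the type condition of THEOREM T for a member `K` -/
def Ty (K : Subgroup G) : Prop := SolvTwo.IsT K ∨ (IsType K ∧ ⁅K, K⁆ = K)

/-- `X` is `G₂(q)` or `³D₄(q)`, `q` a power of `p` (fields of characteristic `p`) -/
def IsG2D4 (p : ℕ) (X : Type*) [Group X] : Prop :=
  ∃ (F : Type) (_ : Field F) (_ : Fintype F) (_ : CharP F p),
    Nonempty (X ≃* Lie.chevG2.group F) ∨
      ∃ q : ℕ, IsPrimePow q ∧ Fintype.card F = q ^ 3 ∧ Nonempty (X ≃* Lie.twistedD4 F q)

/-- the types of the charts in THEOREM T: `A n` (`n ≥ 2`), `C n` (`n ≥ 1`: `SU₃`, `Sp_2n`, `SU_2n`, `SU_2n+1`), `B n`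
(`n ≥ 3`: `Ω_2n+1`, `Ω⁻_2n+2`), `D n` (`n ≥ 4`), `E₆`, `E₇`, `E₈`, `F₄` (`F₄(q)`, `²E₆(q)`) -/
def KindOk : Nodes.Chart.Ty → Prop
  | .A n => 2 ≤ n
  | .B n => 3 ≤ n
  | .C n => 1 ≤ n
  | .D n => 4 ≤ n
  | .E6 => True
  | .E7 => True
  | .E8 => True
  | .F4 => True
  | .G2 => False

/-- **The pieces of THEOREM T** -/
inductive Piece (Om : Set (Subgroup G)) (D : Subgroup G) : Prop
  /-- (T0) a single member -/
  | single (mem : D ∈ Om) : Piece Om D
  /-- (T1) a chart of one of the standard types; for Lie rank at most 2 the isomorphism type is part of the statement;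
  `K_r ≃ SL₂(F)`, `F` of characteristic `p`; `Z r = X r` except for type `C n` -/
  | chart (nmem : D ∉ Om) (qs : IsQuasisimple D) (two : IsPGroup 2 (center D)) (p : ℕ) (c : Chart Om p D)
      (τ : Nodes.Chart.Ty) (kind : c.IsTy τ) (ok : KindOk τ)
      (small : Fintype.card c.I ≤ 2 → IsLieTypeChar p (↥D ⧸ center D))
      (sl : ∃ (F : Type) (_ : Field F) (_ : Fintype F), CharP F p ∧
        ∀ r ∈ c.R, Nonempty (Matrix.SpecialLinearGroup (Fin 2) F ≃* ↥(c.Z r ⊔ c.Z (-r))))
      (zx : (∀ r ∈ c.R, c.Z r = c.X r) ∨ ∃ n, τ = .C n) : Piece Om D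
  /-- (T1') `G₂(q)` or `³D₄(q)`; the members are long or short, at most two of them commute -/
  | exc (qs : IsQuasisimple D) (two : IsPGroup 2 (center D)) (p : ℕ) (prime : p.Prime) (odd : p ≠ 2)
      (iso : IsG2D4 p (↥D ⧸ center D)) (ne : ∃ K ∈ Om, K ≤ D)
      (zzc : ∀ K ∈ Om, ∀ J ∈ Om, K ≤ D → J ≤ D → K ≠ J → K ≤ centralizer (J : Set G) →
        ∀ d ∈ D, zz K * zz J * d = d * (zz K * zz J))
      (three : ∀ K ∈ Om, ∀ J ∈ Om, ∀ M ∈ Om, K ≤ D → J ≤ D → M ≤ D → K ≤ centralizer (J : Set G) →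
        K ≤ centralizer (M : Set G) → J ≤ centralizer (M : Set G) → K = J ∨ K = M ∨ J = M) : Piece Om D
  /-- (T2) `M₁₁` -/
  | mathieu (qs : IsQuasisimple D) (two : IsPGroup 2 (center D)) (iso : Spor.IsoM11 (↥D ⧸ center D))
      (ne : ∃ K ∈ Om, K ≤ D) (mem : ∀ K ∈ Om, K ≤ D → SolvTwo.IsT K) : Piece Om D

/-- the conclusion of THEOREM T for groups with trivial odd core -/
structure HasPieces (Om : Set (Subgroup G)) : Prop where
  core : ∀ K ∈ Om, OO K = ⊥
  fam : ∃ 𝒟 : Set (Subgroup G), (∀ D ∈ 𝒟, Piece Om D) ∧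
    (∀ D ∈ 𝒟, ∀ E ∈ 𝒟, D ≠ E → D ≤ centralizer (E : Set G)) ∧ (∀ K ∈ Om, ∃ D ∈ 𝒟, K ≤ D)

/-- the conclusion of THEOREM T -/
def TT (Om : Set (Subgroup G)) : Prop :=
  HasPieces (img (QuotientGroup.mk' (pPrimeCore 2 G)) Om)

/-- all members have the same type: the quotients `K / O(K)` are isomorphic -/
def Uni (Om : Set (Subgroup G)) : Prop :=
  ∀ K ∈ Om, ∀ J ∈ Om, Nonempty ((↥K ⧸ oddCore ↥K) ≃* (↥J ⧸ oddCore ↥J))

/-- THEOREM T for all groups (in the universe `u`) of order less than `N` -/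
def TLt (N : ℕ) : Prop :=
  ∀ (Y : Type u) [Group Y] [Finite Y], Nat.card Y < N → ∀ Om : Set (Subgroup Y), Hyp Om → (∀ K ∈ Om, Ty K) →
    Uni Om → TT Om

/-- **THEOREM T** -/
def TStmt : Prop :=
  ∀ (Y : Type u) [Group Y] [Finite Y], ∀ Om : Set (Subgroup Y), Hyp Om → (∀ K ∈ Om, Ty K) → Uni Om → TT Om

/-! ### Reduction of the members, and members covered by a subgroup -/

/-- the perfect residual: the join of all perfect subgroups of `K` -/
def pres (K : Subgroup G) : Subgroup G := sSup {P | P ≤ K ∧ ⁅P, P⁆ = P}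

open Classical in
/-- reduction of a member: `K` itself if `K / O(K) ≃ SL₂(3)`, the perfect residual otherwise -/
noncomputable def rd (K : Subgroup G) : Subgroup G := if SolvTwo.IsT K then K else pres K

/-- the members `K` with `K = (K ⊓ H) O(K)`, intersected with `H` -/
def OmIn (Om : Set (Subgroup G)) (H : Subgroup G) : Set (Subgroup H) :=
  {J | ∃ K ∈ Om, J = K.subgroupOf H ∧ K ≤ (K ⊓ H) ⊔ OO K}

/-! ### The core case -/

/-- The core case of THEOREM T: `F*(G) = L` is simple, `G = ⟨Om⟩`, `Om` is one class, and THEOREM T holds for all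
smaller groups. -/
structure MinG {G : Type u} [Group G] (Om : Set (Subgroup G)) (L : Subgroup G) : Prop where
  hyp : Hyp Om
  ty : ∀ K ∈ Om, Ty K
  ne : Om.Nonempty
  cls : ∀ K ∈ Om, ∀ J ∈ Om, ∃ g, J = cj g K
  gen : sSup Om = ⊤
  normal : L.Normal
  simple : IsSimpleGroup L
  nab : ¬ IsMulCommutative L
  cent : centralizer (L : Set G) = ⊥
  ind : TLt.{u} (Nat.card G)

/-- The simple core case: `G` simple, `Om` one class, THEOREM T for all smaller groups. -/
structure MinS {G : Type u} [Group G] (Om : Set (Subgroup G)) : Prop where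
  hyp : Hyp Om
  ty : ∀ K ∈ Om, Ty K
  ne : Om.Nonempty
  cls : ∀ K ∈ Om, ∀ J ∈ Om, ∃ g, J = cj g K
  simple : IsSimpleGroup G
  ind : TLt.{u} (Nat.card G)

end Cfsg.Agent.Cit
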