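import Cfsg.Agent.Cit.QuoCen
import Cfsg.Agent.Cit.Types
import Cfsg.Agent.Cit.SolvTwo

/-!
# Transport of the type `K / O(K)`

Equivalences between the quotients `K / O(K)` for restriction to a subgroup, `Om[H]`, conjugates, images under
homomorphisms with odd kernel or with kernel meeting `K` trivially; consequences for `IsType`, `SolvTwo.IsT`.
-/

set_option autoImplicit false
set_option linter.style.haveILetI false

namespace Cfsg.Agent.Cit.TyTrans

open Subgroup Cfsg

variable {G G' : Type*} [Group G] [Group G'] {f : G →* G'} {Om : Set (Subgroup G)}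

/-- isomorphic groups have isomorphic quotients by the odd core -/
noncomputable def quotOfEquiv {A B : Type*} [Group A] [Group B] (e : A ≃* B) :
    A ⧸ oddCore A ≃* B ⧸ oddCore B :=
  QuotientGroup.congr _ _ e (Lib.Cores.map_equiv_pPrimeCore e 2)

/-- restriction to a subgroup `H` -/
noncomputable def quotRestr {H : Subgroup G} (K : Subgroup H) :
    (↥K ⧸ oddCore ↥K) ≃* (↥(K.map H.subtype) ⧸ oddCore ↥(K.map H.subtype)) :=
  quotOfEquiv (K.equivMapOfInjective H.subtype H.subtype_injective)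

/-- restriction to a subgroup containing `K` -/
noncomputable def quotSubgroupOf {H K : Subgroup G} (h : K ≤ H) :
    (↥(K.subgroupOf H) ⧸ oddCore ↥(K.subgroupOf H)) ≃* (↥K ⧸ oddCore ↥K) :=
  quotOfEquiv (subgroupOfEquivOfLe h)

/-- conjugates -/
noncomputable def quotCj (g : G) (K : Subgroup G) : (↥K ⧸ oddCore ↥K) ≃* (↥(cj g K) ⧸ oddCore ↥(cj g K)) :=
  quotOfEquiv (cjEquiv g K)

/-- images under `f` with `K ⊓ ker f = 1` -/
noncomputable def quotMapInf {K : Subgroup G} (h : K ⊓ f.ker = ⊥) :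
    (↥K ⧸ oddCore ↥K) ≃* (↥(K.map f) ⧸ oddCore ↥(K.map f)) :=
  quotOfEquiv (QuoCen.equivMap h)

/-- the odd core of the image under `f` with odd kernel -/
theorem OO_map_odd [Finite G] {K : Subgroup G} (hker : ¬ 2 ∣ Nat.card f.ker) :
    OO (K.map f) = (OO K).map f := by
  refine le_antisymm ?_ (map_OO_le f K)
  -- the preimage in `K`
  have h1 : (OO (K.map f)).comap f ⊓ K ≤ OO K := by
    refine le_OO inf_le_right ?_ ?_
    · intro k hk
      rw [mem_normalizer_iff]
      have h2 : f k ∈ normalizer (OO (K.map f) : Set G') := le_normalizer_OO _ ⟨k, hk, rfl⟩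
      intro x
      rw [mem_inf, mem_inf, mem_comap, mem_comap, map_mul, map_mul, map_inv,
        ← mem_normalizer_iff.1 h2 (f x), ← mem_normalizer_iff.1 (le_normalizer hk) x]
    · intro h2
      have h3 : Nat.card ((OO (K.map f)).comap f : Subgroup G) ∣
          Nat.card f.ker * Nat.card (OO (K.map f)) := by
        have h4 : f.ker ≤ (OO (K.map f)).comap f := fun x hx => by
          rw [mem_comap, MonoidHom.mem_ker.1 hx]; exact one_mem _
        have h5 : Nat.card f.ker * f.ker.relIndex ((OO (K.map f)).comap f) =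
            Nat.card ((OO (K.map f)).comap f : Subgroup G) := by
          rw [← relIndex_bot_left f.ker, relIndex_mul_relIndex ⊥ _ _ bot_le h4, relIndex_bot_left]
        rw [← h5]
        refine Nat.mul_dvd_mul_left _ ?_
        rw [relIndex_ker]
        exact card_dvd_of_le (map_comap_le _ _)
      have h6 := (h2.trans (card_dvd_of_le inf_le_left)).trans h3
      rcases (Nat.Prime.dvd_mul Nat.prime_two).1 h6 with h7 | h7
      · exact hker h7
      · haveI : Finite ↥(K.map f) := Finite.of_surjective (f.subgroupMap K) (f.subgroupMap_surjective K)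
        have h8 := Lib.Cores.pPrimeCore_coprime (G := ↥(K.map f)) 2
        have h9 : Nat.card (OO (K.map f)) = Nat.card (oddCore ↥(K.map f)) :=
          card_map_of_injective (K.map f).subtype_injective
        rw [h9] at h7
        have h10 := Nat.dvd_gcd h7 (dvd_refl 2)
        have h11 : Nat.gcd (Nat.card (oddCore ↥(K.map f))) 2 = 1 := h8
        rw [h11] at h10
        omega
  rintro y hy
  obtain ⟨k, hk, rfl⟩ := OO_le _ hy
  exact ⟨k, h1 ⟨hy, hk⟩, rfl⟩

/-- images under `f` with odd kernel -/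
noncomputable def quotMapOdd [Finite G] (K : Subgroup G) (hker : ¬ 2 ∣ Nat.card f.ker) :
    (↥K ⧸ oddCore ↥K) ≃* (↥(K.map f) ⧸ oddCore ↥(K.map f)) := by
  let φ : K →* ↥(K.map f) ⧸ oddCore ↥(K.map f) := (QuotientGroup.mk' _).comp (f.subgroupMap K)
  have hs : Function.Surjective φ :=
    (QuotientGroup.mk'_surjective _).comp (f.subgroupMap_surjective K)
  have hk : φ.ker = oddCore K := by
    have key : ∀ x : K, x ∈ φ.ker ↔ (x : G) ∈ OO K := by
      intro x
      have h1 : x ∈ φ.ker ↔ f.subgroupMap K x ∈ oddCore ↥(K.map f) := by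
        rw [MonoidHom.mem_ker]
        change ((f.subgroupMap K x : ↥(K.map f)) : ↥(K.map f) ⧸ oddCore ↥(K.map f)) = 1 ↔ _
        rw [QuotientGroup.eq_one_iff]
      have h2 : f.subgroupMap K x ∈ oddCore ↥(K.map f) ↔ f x ∈ OO (K.map f) := by
        constructor
        · intro h; exact ⟨_, h, rfl⟩
        · rintro ⟨y, hy, hyx⟩
          have h3 : f.subgroupMap K x = y := Subtype.ext hyx.symm
          rw [h3]; exact hy
      rw [h1, h2, OO_map_odd hker]
      constructor
      · rintro ⟨y, hy, hyx⟩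
        -- `x = y n` with `n` in the kernel
        have h3 : y⁻¹ * (x : G) ∈ f.ker ⊓ K := by
          refine ⟨?_, K.mul_mem (K.inv_mem (OO_le K hy)) x.2⟩
          change f (y⁻¹ * (x : G)) = 1
          rw [map_mul, map_inv, hyx, inv_mul_cancel]
        have h4 : f.ker ⊓ K ≤ OO K := by
          refine le_OO inf_le_right ?_ fun h => hker (h.trans (card_dvd_of_le inf_le_left))
          intro k hk
          rw [mem_normalizer_iff_cj, cj_inf, mem_normalizer_iff_cj.1 (le_normalizer hk)]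
          congr 1
          rw [← mem_normalizer_iff_cj, normalizer_eq_top]
          trivial
        have h5 := mul_mem hy (h4 h3)
        rwa [mul_inv_cancel_left] at h5
      · intro h
        exact ⟨_, h, rfl⟩
    ext x
    rw [key]
    constructor
    · rintro ⟨y, hy, hyx⟩
      rwa [← (Subtype.ext hyx : y = x)]
    · intro h
      exact ⟨x, h, rfl⟩
  exact (QuotientGroup.quotientMulEquivOfEq hk.symm).trans (QuotientGroup.quotientKerEquivOfSurjective φ hs)

/-! ### `IsTy`, `IsType`, `IsT` -/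

theorem isTy_congr {X Y : Type*} [Group X] [Group Y] (e : X ≃* Y) (h : IsTy X) : IsTy Y := by
  rcases h with ⟨F, i1, i2, h1, ⟨g⟩⟩ | h
  · exact Or.inl ⟨F, i1, i2, h1, ⟨e.symm.trans g⟩⟩
  · exact Or.inr (Intrinsic.Basic.cover_congr e h)

theorem isType_of_quot {K : Subgroup G} {K' : Subgroup G'} (e : (↥K ⧸ oddCore ↥K) ≃* (↥K' ⧸ oddCore ↥K'))
    (h : IsType K) : IsType K' := isTy_congr e h

theorem isType_iff_of_quot {K : Subgroup G} {K' : Subgroup G'}
    (e : (↥K ⧸ oddCore ↥K) ≃* (↥K' ⧸ oddCore ↥K')) : IsType K ↔ IsType K' :=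
  ⟨isTy_congr e, isTy_congr e.symm⟩

theorem isT_of_quot {K : Subgroup G} {K' : Subgroup G'} (e : (↥K ⧸ oddCore ↥K) ≃* (↥K' ⧸ oddCore ↥K'))
    (h : SolvTwo.IsT K) : SolvTwo.IsT K' := by
  obtain ⟨g⟩ := h
  exact ⟨e.symm.trans g⟩

theorem isT_iff_of_quot {K : Subgroup G} {K' : Subgroup G'}
    (e : (↥K ⧸ oddCore ↥K) ≃* (↥K' ⧸ oddCore ↥K')) : SolvTwo.IsT K ↔ SolvTwo.IsT K' :=
  ⟨isT_of_quot e, isT_of_quot e.symm⟩

/-! ### The families -/

/-- all members of `Om` have the type `H₀` modulo their core -/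
def Uni (Om : Set (Subgroup G)) (H₀ : Type*) [Group H₀] : Prop :=
  ∀ K ∈ Om, Nonempty ((↥K ⧸ oddCore ↥K) ≃* H₀)

variable {H₀ : Type*} [Group H₀]

theorem Uni.mono {Om' : Set (Subgroup G)} (h : Uni Om H₀) (hs : Om' ⊆ Om) : Uni Om' H₀ :=
  fun K hK => h K (hs hK)

theorem Uni.restr (h : Uni Om H₀) (H : Subgroup G) : Uni (restr Om H) H₀ := fun K hK => by
  obtain ⟨e⟩ := h _ hK
  exact ⟨(quotRestr K).trans e⟩

theorem Uni.restrX [Finite G] (h : Uni Om H₀) (H : Subgroup G) : Uni (SubCent.restrX Om H) H₀ := by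
  rintro _ ⟨K, hK, rfl⟩
  obtain ⟨e⟩ := h _ hK.1
  exact ⟨(SubCent.quotEquiv hK).trans e⟩

theorem Uni.img_odd [Finite G] (h : Uni Om H₀) (hker : ¬ 2 ∣ Nat.card f.ker) : Uni (img f Om) H₀ := by
  rintro _ ⟨K, hK, rfl⟩
  obtain ⟨e⟩ := h _ hK
  exact ⟨(quotMapOdd K hker).symm.trans e⟩

theorem Uni.img_inf (h : Uni Om H₀) (hi : ∀ K ∈ Om, K ⊓ f.ker = ⊥) : Uni (img f Om) H₀ := by
  rintro _ ⟨K, hK, rfl⟩
  obtain ⟨e⟩ := h _ hK
  exact ⟨(quotMapInf (hi K hK)).symm.trans e⟩

theorem uni_cls {J : Subgroup G} (e : (↥J ⧸ oddCore ↥J) ≃* H₀) : Uni (cls J) H₀ := by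
  rintro _ ⟨g, rfl⟩
  exact ⟨(quotCj g J).symm.trans e⟩

theorem isType_restr (h : ∀ K ∈ Om, IsType K) (H : Subgroup G) : ∀ K ∈ restr Om H, IsType K :=
  fun K hK => isType_of_quot (quotRestr K).symm (h _ hK)

theorem isType_restrX [Finite G] (h : ∀ K ∈ Om, IsType K) (H : Subgroup G) :
    ∀ K ∈ SubCent.restrX Om H, IsType K := by
  rintro _ ⟨K, hK, rfl⟩
  exact isType_of_quot (SubCent.quotEquiv hK).symm (h _ hK.1)

theorem isType_img_odd [Finite G] (h : ∀ K ∈ Om, IsType K) (hker : ¬ 2 ∣ Nat.card f.ker) :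
    ∀ K ∈ img f Om, IsType K := by
  rintro _ ⟨K, hK, rfl⟩
  exact isType_of_quot (quotMapOdd K hker) (h _ hK)

theorem isType_img_inf (h : ∀ K ∈ Om, IsType K) (hi : ∀ K ∈ Om, K ⊓ f.ker = ⊥) :
    ∀ K ∈ img f Om, IsType K := by
  rintro _ ⟨K, hK, rfl⟩
  exact isType_of_quot (quotMapInf (hi K hK)) (h _ hK)

/-- perfectness -/
theorem perfect_map {K : Subgroup G} (h : ⁅K, K⁆ = K) : ⁅K.map f, K.map f⁆ = K.map f := by
  rw [← map_commutator, h]

theorem perfect_of_restr {H : Subgroup G} {K : Subgroup H}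
    (h : ⁅K.map H.subtype, K.map H.subtype⁆ = K.map H.subtype) : ⁅K, K⁆ = K := by
  apply Subgroup.map_injective H.subtype_injective
  rw [map_commutator, h]

end Cfsg.Agent.Cit.TyTrans
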