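import Mathlib
import Cfsg.Agent.Cit.HexType
import Cfsg.Agent.Cit.HexInv
import Cfsg.Agent.Cit.HexG2
import Cfsg.Agent.Cit.HexD4
import Cfsg.Agent.Cit.TyTrans
import Cfsg.Agent.Cit.TDef

/-!
# The members of a family with `|Om(S)| = 1` in `G₂(q)`, `³D₄(q)`: `LFact`, `LEight`, `TwoFac`
-/

set_option autoImplicit false
set_option linter.style.haveILetI false

namespace Cfsg.Agent.Cit.HexBase

open Cfsg.Agent.SplitTwo Cfsg.Agent.TitsThree.RankTwoZ Cfsg.Agent.Lib.SL2Mat
open Cfsg.Agent.Cit.AutFacts Cfsg.Agent.Cit.TwoB Subgroup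

section transport

variable {L L' : Type*} [Group L] [Group L']

theorem mem_map_iff (e : L ≃* L') {K : Subgroup L} {x : L'} : x ∈ K.map e.toMonoidHom ↔ e.symm x ∈ K := by
  constructor
  · rintro ⟨y, hy, rfl⟩
    change e.symm (e y) ∈ K
    rwa [e.symm_apply_apply]
  · intro h
    exact ⟨_, h, e.apply_symm_apply x⟩

theorem subnormal_equiv (e : L ≃* L') {K : Subgroup L} {w : L}
    (hs : (K.subgroupOf (centralizer {w})).IsSubnormal) :
    ((K.map e.toMonoidHom).subgroupOf (centralizer {e w})).IsSubnormal := by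
  have hf : ∀ x ∈ centralizer {e w}, e.symm x ∈ centralizer {w} := by
    intro x hx
    rw [mem_centralizer_singleton_iff] at hx ⊢
    apply e.injective
    rw [map_mul, map_mul, e.apply_symm_apply, hx]
  let f : centralizer {e w} →* centralizer {w} :=
    (e.symm.toMonoidHom.comp (centralizer {e w}).subtype).codRestrict _ fun x => hf x x.2
  have h1 : (K.map e.toMonoidHom).subgroupOf (centralizer {e w}) = (K.subgroupOf (centralizer {w})).comap f := by
    ext x
    rw [mem_subgroupOf, mem_map_iff, mem_comap, mem_subgroupOf]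
    rfl
  rw [h1]
  exact hs.comap f

theorem le_centralizer_equiv (e : L ≃* L') {K : Subgroup L} {w : L} (h : K ≤ centralizer {w}) :
    K.map e.toMonoidHom ≤ centralizer {e w} := by
  rintro _ ⟨x, hx, rfl⟩
  have := mem_centralizer_singleton_iff.1 (h hx)
  rw [mem_centralizer_singleton_iff]
  change e x * e w = e w * e x
  rw [← map_mul, this, map_mul]

theorem isType_equiv (e : L ≃* L') {K : Subgroup L} (h : IsType K) : IsType (K.map e.toMonoidHom) :=
  TyTrans.isType_of_quot (TyTrans.quotMapInf (by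
    rw [(MonoidHom.ker_eq_bot_iff e.toMonoidHom).2 e.injective, inf_bot_eq])) h

theorem twoFac_equiv [Finite L] (e : L ≃* L') {K1 K2 : Subgroup L} {z : L} (h : TwoFac L K1 K2 z) :
    TwoFac L' (K1.map e.toMonoidHom) (K2.map e.toMonoidHom) (e z) where
  comm x hx y hy := by
    rw [mem_map_iff] at hx hy
    apply e.symm.injective
    rw [map_mul, map_mul, h.comm _ hx _ hy]
  cyc := by
    obtain ⟨g, hg, hc⟩ := h.cyc
    refine ⟨e g, by rw [← map_mul, hg, map_mul], fun x hx => ?_⟩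
    obtain ⟨n, a, ha, b, hb, hab⟩ := hc (e.symm x) (by
      apply e.injective
      rw [map_mul, map_mul, e.apply_symm_apply, hx])
    refine ⟨n, e a, ⟨a, ha, rfl⟩, e b, ⟨b, hb, rfl⟩, ?_⟩
    rw [← map_mul, ← hab, map_mul, e.apply_symm_apply, map_pow]
  nml x hx y hy := by
    rw [mem_map_iff] at hy ⊢
    rw [map_mul, map_mul, map_inv]
    refine h.nml _ ?_ _ hy
    apply e.injective
    rw [map_mul, map_mul, e.apply_symm_apply, hx]
  quat := HasQS.of_equiv (K2.equivMapOfInjective e.toMonoidHom e.injective) h.quat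
  uniq t ht ho := by
    rw [mem_map_iff] at ht
    rw [← h.uniq _ ht (by rw [e.symm.orderOf_eq, ho]), e.apply_symm_apply]
  one s t hs hs1 ht ht1 := by
    obtain ⟨g, hg⟩ := h.one (e.symm s) (e.symm t) (by rw [← map_mul, hs, map_one]) (by simpa using hs1)
      (by rw [← map_mul, ht, map_one]) (by simpa using ht1)
    refine ⟨e g, e.symm.injective ?_⟩
    rw [map_mul, map_mul, map_inv, e.symm_apply_apply, hg]

theorem tyTwo_equiv (e : L ≃* L') {K : Subgroup L} (h : TyTwo K) : TyTwo (K.map e.toMonoidHom) := by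
  rintro _ ⟨x, hx, rfl⟩
  have h1 := h hx
  have h2 : K ≤ (closure {c | c ∈ K.map e.toMonoidHom ∧ Odd (orderOf c)}).comap e.toMonoidHom := by
    refine h.trans ((closure_le _).2 ?_)
    rintro c ⟨hc, ho⟩
    refine subset_closure ⟨⟨c, hc, rfl⟩, ?_⟩
    change Odd (orderOf (e c))
    rwa [e.orderOf_eq]
  exact h2 hx

end transport

/-- all facts on a member -/
def Facts (L : Type*) [Group L] (K : Subgroup L) (w : L) : Prop :=
  LFact L K w ∧ LEight w ∧ ∃ K2, TwoFac L K K2 w ∧ TyTwo K2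

theorem facts_equiv {L L' : Type*} [Group L] [Group L'] [Finite L] (e : L ≃* L') {K : Subgroup L} {w : L}
    (h : Facts L K w) : Facts L' (K.map e.toMonoidHom) (e w) := by
  obtain ⟨h1, h2, K2, h3, h4⟩ := h
  exact ⟨h1.of_equiv e, h2.of_equiv e, K2.map e.toMonoidHom, twoFac_equiv e h3, tyTwo_equiv e h4⟩

/-- the hypothesis on `K`, `w` -/
structure Mem (L : Type*) [Group L] (K : Subgroup L) (w : L) : Prop where
  mem : w ∈ K
  sq : w * w = 1
  ne : w ≠ 1
  le : K ≤ centralizer {w}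
  sub : (K.subgroupOf (centralizer {w})).IsSubnormal
  ty : IsType K

theorem Mem.equiv {L L' : Type*} [Group L] [Group L'] (e : L ≃* L') {K : Subgroup L} {w : L} (h : Mem L K w) :
    Mem L' (K.map e.toMonoidHom) (e w) where
  mem := ⟨w, h.mem, rfl⟩
  sq := by rw [← map_mul, h.sq, map_one]
  ne := by simpa using h.ne
  le := le_centralizer_equiv e h.le
  sub := subnormal_equiv e h.sub
  ty := isType_equiv e h.ty

namespace HexGrp

variable {E : Type*} [Field E] {σ : E ≃+* E} {L : Type*} [Group L] (c : HexGrp σ L)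

/-- (H4) -/
def H4 : Prop := ∀ K : Subgroup L, Mem L K c.z → K = c.K1 ∨ K = c.K4

/-- (H5) -/
def H5 : Prop := (∀ a : MulAut L, a * a = 1 → (∀ x ∈ c.K1, a x = x) → a = 1 ∨ a = MulAut.conj c.z) ∧
  (∀ a : MulAut L, a * a = 1 → (∀ x ∈ c.K4, a x = x) → a = 1 ∨ a = MulAut.conj c.z)

theorem memK1 [Finite L] [Finite E] (h2 : (2 : E) ≠ 0) : Mem L c.K1 c.z where
  mem := c.z_mem_K1
  sq := c.z_sq
  ne := c.z_ne h2
  le := c.K1_le_CZ
  sub := by
    have h : (c.K1.subgroupOf (centralizer {c.z})).Normal := by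
      refine ⟨fun x hx g => ?_⟩
      rw [mem_subgroupOf] at hx ⊢
      exact c.nml1 h2 (mem_centralizer_singleton_iff.1 g.2) hx
    exact h.isSubnormal
  ty := c.isType_K1 h2

theorem memK4 [Finite L] [Finite E] (h2 : (2 : E) ≠ 0) : Mem L c.K4 c.z where
  mem := c.z_mem_K4
  sq := c.z_sq
  ne := c.z_ne h2
  le := c.K4_le_CZ
  sub := by
    have h : (c.K4.subgroupOf (centralizer {c.z})).Normal := by
      refine ⟨fun x hx g => ?_⟩
      rw [mem_subgroupOf] at hx ⊢
      exact c.nml4 h2 (mem_centralizer_singleton_iff.1 g.2) hx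
    exact h.isSubnormal
  ty := c.isType_K4 h2

theorem K1_ne_K4 [Finite E] (h2 : (2 : E) ≠ 0) : c.K1 ≠ c.K4 := by
  intro h
  obtain ⟨i, hi, j, hj, h1, -, -⟩ := quat_of (K := E) c.pb (z := c.z) rfl
  have hi1 : i ∈ c.K1 := hi
  have hi4 : i ∈ c.K4 := h ▸ hi1
  rcases c.eq_of_mem_inf h2 hi1 hi4 with e | e
  · rw [e, one_mul] at h1
    exact c.z_ne h2 h1.symm
  · rw [e, c.z_sq] at h1
    exact c.z_ne h2 h1.symm

theorem perm14 [Finite L] [Finite E] (h2 : (2 : E) ≠ 0) (h4 : c.H4) : c.Perm14 := by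
  intro a ha
  have k1 : Mem L (c.K1.map (a : L ≃* L).toMonoidHom) c.z := by
    have := (c.memK1 h2).equiv a
    rwa [ha] at this
  have k4 : Mem L (c.K4.map (a : L ≃* L).toMonoidHom) c.z := by
    have := (c.memK4 h2).equiv a
    rwa [ha] at this
  rcases h4 _ k1 with e1 | e1
  · left
    rcases h4 _ k4 with e4 | e4
    · exfalso
      apply c.K1_ne_K4 h2
      exact Subgroup.map_injective a.injective (e1.trans e4.symm)
    · refine ⟨fun x hx => ?_, fun x hx => ?_⟩
      · rw [← e1]; exact ⟨x, hx, rfl⟩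
      · rw [← e4]; exact ⟨x, hx, rfl⟩
  · right
    intro x hx
    rw [← e1]
    exact ⟨x, hx, rfl⟩

end HexGrp

namespace HexGrp

universe u

variable {E : Type*} [Field E] {σ : E ≃+* E} {L : Type u} [Group L] (c : HexGrp σ L)

include c in
theorem hone [Finite L] [Finite E] (h2 : (2 : E) ≠ 0) (s t : L) (hs : s * s = 1) (hs1 : s ≠ 1) (ht : t * t = 1)
    (ht1 : t ≠ 1) : ∃ g, g * s * g⁻¹ = t :=
  isConj_iff.1 (c.isConj_invol h2 hs hs1 ht ht1)

theorem facts [Finite L] [Finite E] (h2 : (2 : E) ≠ 0) (h4 : c.H4) (h5 : c.H5) {K : Subgroup L} {w : L}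
    (hK : Mem L K w) : Facts L K w := by
  obtain ⟨g, hg⟩ := c.hone h2 w c.z hK.sq hK.ne c.z_sq (c.z_ne h2)
  have k := hK.equiv (MulAut.conj g)
  have eg : (MulAut.conj g) w = c.z := by rw [MulAut.conj_apply, hg]
  rw [eg] at k
  have key : Facts L (K.map (MulAut.conj g : L ≃* L).toMonoidHom) c.z := by
    rcases h4 _ k with e | e
    · rw [e]
      exact ⟨c.lfact1_of h2 (c.perm14 h2 h4) (c.hone h2) h5.1 h5.2, c.lEight h2, c.K4,
        c.twoFac14 h2 (c.hone h2), c.tyTwo_K4 h2⟩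
    · rw [e]
      exact ⟨c.lfact4_of h2 (c.perm14 h2 h4) (c.hone h2) h5.1 h5.2, c.lEight h2, c.K1,
        c.twoFac41 h2 (c.hone h2), c.tyTwo_K1 h2⟩
  have k2 := facts_equiv (MulAut.conj g⁻¹) key
  have e1 : (K.map (MulAut.conj g : L ≃* L).toMonoidHom).map (MulAut.conj g⁻¹ : L ≃* L).toMonoidHom = K := by
    rw [Subgroup.map_map]
    convert Subgroup.map_id K using 2
    ext x
    change g⁻¹ * (g * x * g⁻¹) * g⁻¹⁻¹ = x
    group
  have e2 : (MulAut.conj g⁻¹) c.z = w := by
    rw [MulAut.conj_apply, ← hg]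
    group
  rwa [e1, e2] at k2

end HexGrp

section main

universe u

/-- (H4) for all `HexGrp` over finite fields of odd characteristic -/
def H4All : Prop := ∀ (E : Type) [Field E] [Finite E] (σ : E ≃+* E) (L : Type) [Group L] [Finite L] (c : HexGrp σ L),
  (2 : E) ≠ 0 → c.H4

/-- (H5) for all `HexGrp` over finite fields of odd characteristic -/
def H5All : Prop := ∀ (E : Type) [Field E] [Finite E] (σ : E ≃+* E) (L : Type) [Group L] [Finite L] (c : HexGrp σ L),
  (2 : E) ≠ 0 → c.H5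

theorem two_ne_of_char {F : Type*} [Field F] {p : ℕ} (hp : p.Prime) (h : p ≠ 2) [CharP F p] : (2 : F) ≠ 0 := by
  intro h0
  have h1 : ((2 : ℕ) : F) = 0 := by exact_mod_cast h0
  rw [CharP.cast_eq_zero_iff F p] at h1
  exact h ((Nat.prime_dvd_prime_iff_eq hp Nat.prime_two).1 h1)

theorem facts_of_iso (h4 : H4All) (h5 : H5All) {X : Type u} [Group X] [Finite X]
    (hX : ∃ p : ℕ, p.Prime ∧ p ≠ 2 ∧ IsG2D4 p X) {K : Subgroup X} {w : X} (hK : Mem X K w) : Facts X K w := by
  obtain ⟨p, hp, hp2, F, i1, i2, i3, h⟩ := hX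
  have h2 : (2 : F) ≠ 0 := two_ne_of_char hp hp2
  have back : ∀ (L : Type) [Group L] (e : X ≃* L), (∀ K' : Subgroup L, ∀ w', Mem L K' w' → Facts L K' w') →
      Facts X K w := by
    intro L _ e h
    have : Finite L := Finite.of_equiv _ e.toEquiv
    have k := facts_equiv e.symm (h _ _ (hK.equiv e))
    have e1 : (K.map e.toMonoidHom).map e.symm.toMonoidHom = K := by
      ext x
      rw [mem_map_iff, mem_map_iff]
      simp
    rwa [e1, e.symm_apply_apply] at k
  rcases h with ⟨⟨e⟩⟩ | ⟨q, hq, hc, ⟨e⟩⟩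
  · refine back _ e fun K' w' hM => ?_
    have : Finite ↥(Lie.chevG2.group F) := Finite.of_equiv _ e.toEquiv
    have c := HexG2.g2 F h2
    exact c.facts h2 (h4 _ _ _ c h2) (h5 _ _ _ c h2) hM
  · refine back _ e fun K' w' hM => ?_
    have : Finite ↥(Lie.twistedD4 F q) := Finite.of_equiv _ e.toEquiv
    obtain ⟨σ, -, ⟨c⟩⟩ := HexD4.exists_d4 hc
    exact c.facts h2 (h4 _ _ _ c h2) (h5 _ _ _ c h2) hM

theorem mem_of_hyp {X : Type u} [Group X] [Finite X] {Om : Set (Subgroup X)} (h : Hyp Om) {K : Subgroup X}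
    (hK : K ∈ Om) (hT : IsType K) : Mem X K (zz K) where
  mem := (Ty.zz_of_isType hT).1
  sq := Ty.mul_self_of_orderOf (Ty.zz_of_isType hT).2
  ne h1 := by
    have := (Ty.zz_of_isType hT).2
    rw [h1, orderOf_one] at this
    omega
  le := h.le_centralizer hK
  sub := h.sub K hK
  ty := hT

end main

end Cfsg.Agent.Cit.HexBase
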