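import Cfsg.Agent.Cit.HexInv
import Cfsg.Agent.Cit.Defs
import Cfsg.Agent.S1273

/-!
# Groups of type `G₂` and `³D₄`: `O(C(t)) = 1`
-/

set_option autoImplicit false

namespace Cfsg.Agent.Cit.HexBase

open Cfsg Cfsg.Agent.SplitTwo Cfsg.Agent.TitsThree.RankTwoZ Cfsg.Agent.Lib.SL2Mat
  Cfsg.Agent.TitsThree.RankTwoIdx Cfsg.Agent.TitsThree.RankTwoRGD
open scoped commutatorElement Pointwise

theorem odd_of_two {K : Type*} [Field K] [Fintype K] (h2 : (2 : K) ≠ 0) : Odd (Fintype.card K) := by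
  rw [Nat.odd_iff]
  apply FiniteField.odd_card_of_char_ne_two
  intro h
  apply h2
  have := (ringChar.spec K 2).2 (by rw [h])
  exact_mod_cast this

/-- a normal subgroup of odd order of `SL(2,K)` is trivial -/
theorem sl_odd {K : Type*} [Field K] [Finite K] (h2 : (2 : K) ≠ 0) (N : Subgroup (SL2 K)) (hN : N.Normal)
    (ho : (Nat.card N).Coprime 2) : N = ⊥ := by
  have := Fintype.ofFinite K
  rw [eq_bot_iff, ← ParabSL2.oddCore_sl (odd_of_two h2)]
  exact Lib.Cores.le_pPrimeCore hN ho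

/-- commuting with a normal subgroup isomorphic to `SL(2,K)` -/
theorem comm_of_odd {K : Type*} [Field K] [Finite K] (h2 : (2 : K) ≠ 0) {L : Type*} [Group L] (ρ : SL2 K →* L)
    (hρ : Function.Injective ρ) {N : Subgroup L} (ho : (Nat.card N).Coprime 2) [Finite L]
    (hn : ∀ v, ∀ n ∈ N, ρ v * n * (ρ v)⁻¹ ∈ N) (hk : ∀ n ∈ N, ∀ v, ∃ v', n * ρ v * n⁻¹ = ρ v') {n : L}
    (hnN : n ∈ N) (v : SL2 K) : n * ρ v = ρ v * n := by
  have h1 : N.comap ρ = ⊥ := by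
    refine sl_odd h2 _ ⟨fun x hx v => ?_⟩ ?_
    · rw [Subgroup.mem_comap] at hx ⊢
      rw [map_mul, map_mul, map_inv]
      exact hn v _ hx
    · refine Nat.Coprime.coprime_dvd_left ?_ ho
      rw [← Subgroup.card_map_of_injective hρ (K := N.comap ρ)]
      exact Subgroup.card_dvd_of_le (Subgroup.map_comap_le _ _)
  obtain ⟨v', hv'⟩ := hk n hnN v
  have h3 : v' * v⁻¹ ∈ N.comap ρ := by
    rw [Subgroup.mem_comap, map_mul, map_inv, ← hv']
    have := hn v _ (inv_mem hnN)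
    have e : n * ρ v * n⁻¹ * (ρ v)⁻¹ = n * (ρ v * n⁻¹ * (ρ v)⁻¹) := by group
    rw [e]
    exact mul_mem hnN this
  rw [h1, Subgroup.mem_bot, mul_inv_eq_one] at h3
  rw [← mul_inv_eq_iff_eq_mul, hv', h3]

namespace HexGrp

universe u

variable {E : Type*} [Field E] {σ : E ≃+* E} {L : Type u} [Group L] (c : HexGrp σ L)

/-- `K 1` is normal in `C(z)` -/
theorem CZ_pb [Finite E] (h2 : (2 : E) ≠ 0) {g : L} (hg : g * c.z = c.z * g) (v : SL2 E) :
    ∃ v', g * c.pb v * g⁻¹ = c.pb v' := by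
  obtain ⟨x, w, s, hs, rfl⟩ := c.mem_CZ_form h2 hg
  have hA := c.act_a s hs
  have k := hA.pb v
  obtain ⟨v', hv'⟩ : ∃ v', v' = conjGL (dgl (s : E)⁻¹ hA.ne1) v := ⟨_, rfl⟩
  rw [← hv'] at k
  have k3 := c.comm_pb_p4 v' w
  refine ⟨x * v' * x⁻¹, ?_⟩
  calc c.pb x * c.p4 w * c.pa (dg s hs) * c.pb v * (c.pb x * c.p4 w * c.pa (dg s hs))⁻¹
      = c.pb x * (c.p4 w * (c.pa (dg s hs) * c.pb v * (c.pa (dg s hs))⁻¹)) * (c.p4 w)⁻¹ * (c.pb x)⁻¹ := by group
    _ = c.pb x * c.pb v' * (c.pb x)⁻¹ := by rw [k, ← k3]; group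
    _ = _ := by rw [map_mul, map_mul, map_inv]

/-- `K 4` is normal in `C(z)` -/
theorem CZ_p4 [Finite E] (h2 : (2 : E) ≠ 0) {g : L} (hg : g * c.z = c.z * g) (v : SL2 ↥(fx σ)) :
    ∃ v', g * c.p4 v * g⁻¹ = c.p4 v' := by
  obtain ⟨x, w, s, hs, rfl⟩ := c.mem_CZ_form h2 hg
  have k := c.pa_dg_p4 h2 s hs v
  obtain ⟨v', hv'⟩ : ∃ v', v' = conjGL (dgl s hs) v := ⟨_, rfl⟩
  rw [← hv'] at k
  have k3 := c.comm_pb_p4 x (w * v' * w⁻¹)
  refine ⟨w * v' * w⁻¹, ?_⟩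
  calc c.pb x * c.p4 w * c.pa (dg s hs) * c.p4 v * (c.pb x * c.p4 w * c.pa (dg s hs))⁻¹
      = c.pb x * (c.p4 w * (c.pa (dg s hs) * c.p4 v * (c.pa (dg s hs))⁻¹) * (c.p4 w)⁻¹) * (c.pb x)⁻¹ := by group
    _ = c.pb x * c.p4 (w * v' * w⁻¹) * (c.pb x)⁻¹ := by rw [k, map_mul, map_mul, map_inv]
    _ = _ := by rw [k3]; group

/-- a subgroup of odd order of `C(z)` normalised by `K 1`, `K 4` is trivial -/
theorem eq_bot_of_odd [Finite E] [Finite L] (h2 : (2 : E) ≠ 0) {N : Subgroup L} (ho : (Nat.card N).Coprime 2)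
    (hz : ∀ n ∈ N, n * c.z = c.z * n) (h1 : ∀ v, ∀ n ∈ N, c.pb v * n * (c.pb v)⁻¹ ∈ N)
    (h4 : ∀ v, ∀ n ∈ N, c.p4 v * n * (c.p4 v)⁻¹ ∈ N) : N = ⊥ := by
  have : Finite ↥(fx σ) := Subtype.finite
  rw [eq_bot_iff]
  intro n hn
  have k1 : ∀ v, n * c.pb v = c.pb v * n := fun v =>
    comm_of_odd h2 c.pb (c.pb_inj h2) ho h1 (fun n hn v => c.CZ_pb h2 (hz n hn) v) hn v
  have k4 : ∀ v, n * c.p4 v = c.p4 v * n := fun v =>
    comm_of_odd (two_ne h2) c.p4 c.p4_inj ho h4 (fun n hn v => c.CZ_p4 h2 (hz n hn) v) hn v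
  rcases c.centralizer_K1K4 h2 k1 k4 with h | h
  · exact Subgroup.mem_bot.2 h
  · exfalso
    rw [h] at hn
    have h5 : orderOf c.z ∣ Nat.card N := by
      have := orderOf_dvd_natCard (⟨c.z, hn⟩ : N)
      rwa [← Subgroup.orderOf_coe] at this
    have h6 : orderOf c.z ∣ 2 := orderOf_dvd_of_pow_eq_one (by rw [pow_two, c.z_sq])
    have h7 : orderOf c.z = 1 := Nat.eq_one_of_dvd_coprimes ho h5 h6
    exact c.z_ne h2 (orderOf_eq_one_iff.1 h7)

theorem oddCore_CZ [Finite E] [Finite L] (h2 : (2 : E) ≠ 0) :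
    oddCore ↥(Subgroup.centralizer ({c.z} : Set L)) = ⊥ := by
  have h : (oddCore ↥(Subgroup.centralizer ({c.z} : Set L))).map (Subgroup.centralizer ({c.z} : Set L)).subtype = ⊥ := by
    have hn : ∀ g : L, g * c.z = c.z * g → ∀ n ∈ (oddCore ↥(Subgroup.centralizer ({c.z} : Set L))).map
        (Subgroup.centralizer ({c.z} : Set L)).subtype, g * n * g⁻¹ ∈
        (oddCore ↥(Subgroup.centralizer ({c.z} : Set L))).map (Subgroup.centralizer ({c.z} : Set L)).subtype := by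
      rintro g hg _ ⟨n, hn, rfl⟩
      exact ⟨⟨g, Subgroup.mem_centralizer_singleton_iff.2 hg⟩ * n *
        (⟨g, Subgroup.mem_centralizer_singleton_iff.2 hg⟩)⁻¹, (Lib.Cores.pPrimeCore_normal 2).conj_mem _ hn _, rfl⟩
    refine c.eq_bot_of_odd h2 ?_ ?_ ?_ ?_
    · rw [Subgroup.card_map_of_injective (Subgroup.subtype_injective _)]
      exact Lib.Cores.pPrimeCore_coprime 2
    · rintro _ ⟨n, hn, rfl⟩
      exact Subgroup.mem_centralizer_singleton_iff.1 n.2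
    · exact fun v => hn _ (c.z_pb v).symm
    · exact fun v => hn _ (c.z_p4 v).symm
  rwa [Subgroup.map_eq_bot_iff_of_injective _ (Subgroup.subtype_injective _)] at h

include c in
/-- **`O(C(t)) = 1` for every involution `t`.** -/
theorem oddCore_centralizer [Finite E] [Finite L] (h2 : (2 : E) ≠ 0) {t : L} (ht : t * t = 1) (h1 : t ≠ 1) :
    oddCore ↥(Subgroup.centralizer ({t} : Set L)) = ⊥ := by
  obtain ⟨g, hg⟩ := isConj_iff.1 (c.isConj_z h2 ht h1)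
  have e : cj g (Subgroup.centralizer ({t} : Set L)) = Subgroup.centralizer ({c.z} : Set L) := by
    rw [cj_centralizer, hg]
  have h3 : OO (cj g (Subgroup.centralizer ({t} : Set L))) = ⊥ := by
    rw [e, OO_def, c.oddCore_CZ h2, Subgroup.map_bot]
  rw [OO_cj] at h3
  have h4 : OO (Subgroup.centralizer ({t} : Set L)) = ⊥ := by
    rw [← cj_inv_cj g (OO _), h3]
    exact Subgroup.map_bot _
  rwa [OO_def, Subgroup.map_eq_bot_iff_of_injective _ (Subgroup.subtype_injective _)] at h4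

include c in
/-- **Subnormal subgroups of `C(t)` have trivial odd core.** -/
theorem oddCore_subnormal [Finite E] [Finite L] (h2 : (2 : E) ≠ 0) {t : L} (ht : t * t = 1) (h1 : t ≠ 1)
    {K : Subgroup L} (hK : K ≤ Subgroup.centralizer ({t} : Set L))
    (hs : (K.subgroupOf (Subgroup.centralizer ({t} : Set L))).IsSubnormal) : oddCore ↥K = ⊥ := by
  obtain ⟨C, hC⟩ : ∃ C, C = Subgroup.centralizer ({t} : Set L) := ⟨_, rfl⟩
  rw [← hC] at hK hs
  have h3 : (oddCore ↥(K.subgroupOf C)).map (K.subgroupOf C).subtype ≤ oddCore ↥C := by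
    refine S1273.subnormal_coprime_le_pPrimeCore 2 ?_ ?_
    · exact Subgroup.IsSubnormal.trans' (Lib.Cores.pPrimeCore_normal 2).isSubnormal hs
    · rw [Subgroup.card_map_of_injective (Subgroup.subtype_injective _)]
      exact Lib.Cores.pPrimeCore_coprime 2
  have h4 : oddCore ↥C = ⊥ := by rw [hC]; exact c.oddCore_centralizer h2 ht h1
  rw [h4, le_bot_iff, Subgroup.map_eq_bot_iff_of_injective _ (Subgroup.subtype_injective _)] at h3
  rw [oddCore, ← Lib.Cores.map_equiv_pPrimeCore (Subgroup.subgroupOfEquivOfLe hK) 2]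
  rw [oddCore] at h3
  rw [h3, Subgroup.map_bot]

end HexGrp

end Cfsg.Agent.Cit.HexBase
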