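import Cfsg.Agent.Cit.TwoSub
import Cfsg.Agent.Cit.HexCore
import Cfsg.Agent.Cit.HexType

/-!
# Groups of type `G₂` and `³D₄`: (H4), the subnormal subgroups of `C(z)` of type `SL₂(q)`, `2.A₇` are `K 1` and `K 4`
-/

set_option autoImplicit false

namespace Cfsg.Agent.Cit.HexBase

open Cfsg Cfsg.Agent.SplitTwo Cfsg.Agent.TitsThree.RankTwoZ Cfsg.Agent.Lib.SL2Mat
  Cfsg.Agent.TitsThree.RankTwoIdx Cfsg.Agent.TitsThree.RankTwoRGD Cfsg.Agent.Cit.TwoSub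
open scoped commutatorElement Pointwise

namespace HexGrp

universe u

variable {E : Type*} [Field E] {σ : E ≃+* E} {L : Type u} [Group L] (c : HexGrp σ L)

theorem CZ_le_normalizer_K1 [Finite E] (h2 : (2 : E) ≠ 0) : c.CZ ≤ Subgroup.normalizer (c.K1 : Set L) := by
  have key : ∀ g ∈ c.CZ, ∀ x ∈ c.K1, g * x * g⁻¹ ∈ c.K1 := by
    rintro g hg _ ⟨v, rfl⟩
    obtain ⟨v', hv'⟩ := c.CZ_pb h2 (c.mem_CZ.1 hg) v
    exact ⟨v', hv'.symm⟩
  intro g hg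
  rw [Subgroup.mem_normalizer_iff]
  refine fun x => ⟨key g hg x, fun h => ?_⟩
  have h1 := key g⁻¹ (inv_mem hg) _ h
  have e : g⁻¹ * (g * x * g⁻¹) * g⁻¹⁻¹ = x := by group
  rwa [e] at h1

theorem CZ_le_normalizer_K4 [Finite E] (h2 : (2 : E) ≠ 0) : c.CZ ≤ Subgroup.normalizer (c.K4 : Set L) := by
  have key : ∀ g ∈ c.CZ, ∀ x ∈ c.K4, g * x * g⁻¹ ∈ c.K4 := by
    rintro g hg _ ⟨v, rfl⟩
    obtain ⟨v', hv'⟩ := c.CZ_p4 h2 (c.mem_CZ.1 hg) v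
    exact ⟨v', hv'.symm⟩
  intro g hg
  rw [Subgroup.mem_normalizer_iff]
  refine fun x => ⟨key g hg x, fun h => ?_⟩
  have h1 := key g⁻¹ (inv_mem hg) _ h
  have e : g⁻¹ * (g * x * g⁻¹) * g⁻¹⁻¹ = x := by group
  rwa [e] at h1

/-- the squares of `C(z)` lie in `K 1 K 4` -/
theorem sq_CZ [Finite E] (h2 : (2 : E) ≠ 0) {g : L} (hg : g ∈ c.CZ) : ∃ a ∈ c.K1, ∃ b ∈ c.K4, g * g = a * b := by
  obtain ⟨x, y, t, ht, rfl⟩ := c.mem_CZ_form h2 (c.mem_CZ.1 hg)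
  have h1 := c.pa_dg_pb t ht x
  have h3 := c.pa_dg_p4 h2 t ht y
  obtain ⟨x', hx'⟩ : ∃ x', x' = conjGL (dgl (t : E)⁻¹ (c.act_a t ht).ne1) x := ⟨_, rfl⟩
  obtain ⟨y', hy'⟩ : ∃ y', y' = conjGL (dgl t ht) y := ⟨_, rfl⟩
  rw [← hx'] at h1
  rw [← hy'] at h3
  set τ := c.pa (dg t ht) with hτ
  have h4 : τ * τ = (c.pb (dg (t : E) fun h => ht (Subtype.ext h)))⁻¹ * c.p4 (dg t ht) := by
    rw [← c.pa_dg_sq t ht, hτ, ← map_mul]
    congr 1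
    refine ext_ent ?_ ?_ ?_ ?_ <;> simp [ent_mul, pow_two]
  refine ⟨c.pb x * c.pb x' * (c.pb (dg (t : E) fun h => ht (Subtype.ext h)))⁻¹,
    mul_mem (mul_mem ⟨_, rfl⟩ ⟨_, rfl⟩) (inv_mem ⟨_, rfl⟩), c.p4 y * c.p4 y' * c.p4 (dg t ht),
    mul_mem (mul_mem ⟨_, rfl⟩ ⟨_, rfl⟩) ⟨_, rfl⟩, ?_⟩
  have e1 : τ * c.pb x = c.pb x' * τ := by rw [← h1]; group
  have e3 : τ * c.p4 y = c.p4 y' * τ := by rw [← h3]; group
  have c1 := c.comm_pb_p4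
  calc c.pb x * c.p4 y * τ * (c.pb x * c.p4 y * τ)
      = c.pb x * c.p4 y * (τ * c.pb x) * c.p4 y * τ := by group
    _ = c.pb x * (c.p4 y * c.pb x') * (τ * c.p4 y) * τ := by rw [e1]; group
    _ = c.pb x * (c.pb x' * c.p4 y) * (c.p4 y' * τ) * τ := by rw [e3, c1 x' y]
    _ = c.pb x * c.pb x' * c.p4 y * c.p4 y' * (τ * τ) := by group
    _ = c.pb x * c.pb x' * (c.p4 y * c.p4 y' * (c.pb (dg (t : E) fun h => ht (Subtype.ext h)))⁻¹) * c.p4 (dg t ht) := by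
        rw [h4]; group
    _ = _ := by
        rw [← map_inv, ← map_mul c.p4 y y', ← c1]
        group

/-- the pair `K 1`, `K 4` -/
theorem two [Finite E] [Finite L] (h2 : (2 : E) ≠ 0) : Two c.CZ c.K1 c.K4 c.z where
  leA := c.K1_le_CZ
  leB := c.K4_le_CZ
  nA := c.CZ_le_normalizer_K1 h2
  nB := c.CZ_le_normalizer_K4 h2
  comm := by
    rintro _ ⟨x, rfl⟩ _ ⟨y, rfl⟩
    exact c.comm_pb_p4 x y
  cA := fun g _ hc => c.centralizer_K1 h2 fun x => hc _ ⟨x, rfl⟩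
  cB := fun g _ hc => c.centralizer_K4 h2 fun x => hc _ ⟨x, rfl⟩
  sq := fun g hg => c.sq_CZ h2 hg
  qA := QX.of_isType (c.isType_K1 h2) (c.OO_K1 h2)
  qB := QX.of_isType (c.isType_K4 h2) (c.OO_K4 h2)
  zA := c.z_mem_K1
  zB := c.z_mem_K4
  zz := c.z_sq
  ne := c.z_ne h2

include c in
theorem oddCore_sub [Finite E] [Finite L] (h2 : (2 : E) ≠ 0) {t : L} (ht : t * t = 1) (h1 : t ≠ 1)
    {K : Subgroup L} (hK : K ≤ Subgroup.centralizer ({t} : Set L))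
    (hs : (K.subgroupOf (Subgroup.centralizer ({t} : Set L))).IsSubnormal) : OO K = ⊥ := by
  rw [OO_def, c.oddCore_subnormal h2 ht h1 hK hs, Subgroup.map_bot]

/-- **(H4)** -/
theorem eq_K1_or_eq_K4 [Finite E] [Finite L] (h2 : (2 : E) ≠ 0) {K : Subgroup L} (hK : IsType K)
    (hKz : K ≤ Subgroup.centralizer ({c.z} : Set L))
    (hs : (K.subgroupOf (Subgroup.centralizer ({c.z} : Set L))).IsSubnormal) : K = c.K1 ∨ K = c.K4 :=
  (c.two h2).eq_or_eq (QX.of_isType hK (c.oddCore_sub h2 c.z_sq (c.z_ne h2) hKz hs)) hKz hs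

/-- **(H4)** for an arbitrary involution: `K` is conjugate to `K 1` or `K 4` -/
theorem exists_cj_eq [Finite E] [Finite L] (h2 : (2 : E) ≠ 0) {t : L} (ht : t * t = 1) (h1 : t ≠ 1)
    {K : Subgroup L} (hK : IsType K) (hKt : K ≤ Subgroup.centralizer ({t} : Set L))
    (hs : (K.subgroupOf (Subgroup.centralizer ({t} : Set L))).IsSubnormal) :
    ∃ g, g * t * g⁻¹ = c.z ∧ (cj g K = c.K1 ∨ cj g K = c.K4) := by
  obtain ⟨g, hg⟩ := isConj_iff.1 (c.isConj_z h2 ht h1)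
  refine ⟨g, hg, ?_⟩
  have e : cj g (Subgroup.centralizer ({t} : Set L)) = Subgroup.centralizer ({c.z} : Set L) := by
    rw [cj_centralizer, hg]
  have h3 : cj g K ≤ Subgroup.centralizer ({c.z} : Set L) := by
    rw [← e]; exact Subgroup.map_mono hKt
  refine c.eq_K1_or_eq_K4 h2 (hK.cj g) h3 ?_
  let f : ↥(Subgroup.centralizer ({c.z} : Set L)) →* ↥(Subgroup.centralizer ({t} : Set L)) :=
    ((MulAut.conj g⁻¹).toMonoidHom.comp (Subgroup.centralizer ({c.z} : Set L)).subtype).codRestrict _ (by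
      intro x
      have hx : (x : L) ∈ cj g (Subgroup.centralizer ({t} : Set L)) := by rw [e]; exact x.2
      obtain ⟨y, hy, hyx⟩ := hx
      have h4 : g⁻¹ * (x : L) * g⁻¹⁻¹ = y := by
        rw [← hyx]
        change g⁻¹ * (g * y * g⁻¹) * g⁻¹⁻¹ = y
        group
      change g⁻¹ * (x : L) * g⁻¹⁻¹ ∈ _
      rw [h4]
      exact hy)
  have h4 := hs.comap f
  convert h4 using 1
  ext x
  rw [Subgroup.mem_subgroupOf, Subgroup.mem_comap, Subgroup.mem_subgroupOf, Cit.mem_cj]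
  change g⁻¹ * (x : L) * g ∈ K ↔ g⁻¹ * (x : L) * g⁻¹⁻¹ ∈ K
  rw [inv_inv]

end HexGrp

end Cfsg.Agent.Cit.HexBase
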