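import Mathlib
import Cfsg.Agent.Cit.HexFactB
import Cfsg.Agent.Cit.HexMem
import Cfsg.Agent.Cit.HexAut
import Cfsg.Agent.Cit.CoreTwoNe

/-!
# `CoreTwoNe.FactB` (unconditional)
-/

set_option autoImplicit false

namespace Cfsg.Agent.Cit.HexFactBMain

open Cfsg.Agent.Cit.HexBase

universe u

/-- (H4), helper822 -/
theorem h4_all : H4All := fun _ _ _ _ _ _ _ c h2 _ hK => c.eq_K1_or_eq_K4 h2 hK.ty hK.le hK.sub

/-- (H5), helper764 -/
theorem h5_all : H5All := fun _ _ _ _ _ _ _ c h2 =>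
  ⟨fun _ ha h => c.inn1 h2 ha fun x => h _ ⟨x, rfl⟩, fun _ ha h => c.inn4 h2 ha fun y => h _ ⟨y, rfl⟩⟩

/-- **`FactB`** -/
theorem factB : CoreTwoNe.FactB.{u} := by
  intro X _ _ _ Om h hT _ hX K hK
  exact facts_of_iso h4_all h5_all hX (mem_of_hyp h.hyp hK (hT K hK).isType)

end Cfsg.Agent.Cit.HexFactBMain
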