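import Cfsg.Agent.Cit.ExcTripBase
import Cfsg.Agent.Cit.HexFactBMain

/-!
# `ExcTrip`, unconditional
-/

set_option autoImplicit false

namespace Cfsg.Agent.Cit.ExcTripOf

open Subgroup Cfsg Cfsg.Agent.Cit Cfsg.Agent.Cit.GenChart

universe u

theorem hexInn : HexInn.{u} := fun _ _ _ _ _ hX hm hs hn hc hb hT =>
  (HexBase.facts_of_iso HexFactBMain.h4_all HexFactBMain.h5_all hX ⟨hm, hs, hn, hc, hb, hT⟩).1.inn

/-- **(F3) for the pieces `G₂(q)`, `³D₄(q)`, `M₁₁`** -/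
theorem excTrip : ExcTrip.{u} := excTrip_of hexInn

end Cfsg.Agent.Cit.ExcTripOf
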