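import Cfsg.Agent.Cit.CloseFull
import Cfsg.Agent.Cit.ExcTripOf
import Cfsg.Agent.StrongEmb.Strong
import Cfsg.Agent.S1174
import Cfsg.Agent.S1175

/-!
# CONN / CLOSE: THEOREM CLOSE, unconditional

Heavy closure (odd order theorem, Bender's theorem, S1174, S1175): import only in the last file.
-/

set_option autoImplicit false
set_option linter.dupNamespace false

namespace Cfsg.Agent.Cit.CloseTop

open Subgroup Cfsg Cfsg.Agent.Cit

universe u

/-- a simple group with a strongly embedded subgroup is not abelian -/
theorem exists_noncomm {G : Type*} [Group G] [Finite G] [IsSimpleGroup G] {H : Subgroup G}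
    (hH : Cfsg.IsStronglyEmbedded H) : ∃ a b : G, a * b ≠ b * a := by
  by_contra hcon
  push Not at hcon
  haveI : H.Normal := ⟨fun h hh g => by rwa [hcon g h, mul_inv_cancel_right]⟩
  rcases IsSimpleGroup.eq_bot_or_eq_top_of_normal H inferInstance with h1 | h1
  · have h2 := hH.2.1
    rw [h1, Subgroup.card_bot] at h2
    exact absurd h2 (by decide)
  · exact hH.1 h1

theorem bend (G : Type u) [Group G] [Finite G] [IsSimpleGroup G] : CloEnd.Bend G := fun H hH =>
  StrongEmb.Strong.result (exists_noncomm hH) H hH

/-- **all inputs of THEOREM CLOSE** -/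
theorem closeIn : CloseMain.CloseIn.{u} :=
  CloseFull.closeIn ExcTripOf.excTrip bend
    (fun _ _ _ _ S T h1 h2 h3 => S1174.result S T h1 h2 h3)
    (fun _ _ _ _ M hM z hz hzM h1 h2 h3 => S1175.result M hM z hz hzM h1 h2 h3)

end Cfsg.Agent.Cit.CloseTop
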