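import Cfsg.Agent.Cit.CoresClose
import Cfsg.Agent.SignalizersComponents.CoprimeBasic
import Cfsg.Agent.SignalizersComponents.CoprimeGen
import Cfsg.Agent.SignalizersComponents.SolFunctorTwo

/-!
# THEOREM F (helper533, bb #5967): balance modulo a torus

`XX a = O(C_G(a))`, `Del B = ⨅ b ∈ B#, XX b`. For an elementary abelian 2-subgroup `A` of order at least 8
with

* (TOR) `⁅XX a ⊓ C(b), A⁆ ≤ XX b` for `a, b ∈ A#`,
* (2B) `Del B ⊓ C(A) ≤ XX s` for every four-group `B ≤ A` and `s ∈ A#`,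

the group `DF A` generated by the `Del B`, `B` a four-subgroup of `A`, has odd order, `C_D(B) = Del B`,
`C_D(a) = ⁅XX a, B⁆ Del B ≤ XX a` for `a ∈ B#`, it is normalised by the normalisers of all four-subgroups of
`A` and by all `XX a`, and contains `⁅XX a, A⁆`.
-/

set_option autoImplicit false
set_option linter.style.haveILetI false

namespace Cfsg.Agent.Cit.TorFunctor

open Subgroup Cfsg
open scoped commutatorElement
open Cfsg.Agent.Lib.CoprimeCommutator
open Cfsg.Agent.SignalizersComponents.CoprimeGen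
open Cfsg.Agent.SignalizersComponents.CoprimeBasic (mem_sup_iff card_sup_dvd)
open Cfsg.Agent.SignalizersComponents.GoldschmidtGen (le_normalizer_of_conj_mem
  conj_mem_of_le_normalizer le_normalizer_commutator le_normalizer_inf_centralizer le_normalizer_sup)

variable {G : Type*} [Group G]

/-! ### General tools -/

theorem commutator_mono_left {X Y Z : Subgroup G} (h : X ≤ Y) : ⁅X, Z⁆ ≤ ⁅Y, Z⁆ := commutator_mono h le_rfl

theorem centralizer_le_singleton {A : Subgroup G} {a : G} (ha : a ∈ A) :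
    centralizer (A : Set G) ≤ centralizer {a} :=
  centralizer_le (Set.singleton_subset_iff.2 ha)

theorem not_two_dvd_of_le [Finite G] {X Y : Subgroup G} (h : X ≤ Y) (hY : ¬ 2 ∣ Nat.card Y) :
    ¬ 2 ∣ Nat.card X := fun h2 => hY (h2.trans (card_dvd_of_le h))

/-- `X = ⁅X, E⁆ C_X(E)` for a 2-group `E` acting on a group `X` of odd order. -/
theorem le_commutator_sup [Finite G] {E X : Subgroup G} (hE : IsPGroup 2 E) (hX : ¬ 2 ∣ Nat.card X)
    (hn : E ≤ normalizer (X : Set G)) : X ≤ ⁅X, E⁆ ⊔ (X ⊓ centralizer (E : Set G)) := by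
  haveI : Fact (Nat.Prime 2) := ⟨Nat.prime_two⟩
  intro x hx
  obtain ⟨m, hm, c, hc, rfl⟩ := exists_commutator_mul_fixed_of_isPGroup 2 E X hE hn hX x hx
  exact mul_mem (mem_sup_left hm) (mem_sup_right hc)

theorem coprime_of_isPGroup [Finite G] {E X : Subgroup G} (hE : IsPGroup 2 E) (hX : ¬ 2 ∣ Nat.card X) :
    (Nat.card E).Coprime (Nat.card X) := by
  haveI : Fact (Nat.Prime 2) := ⟨Nat.prime_two⟩
  obtain ⟨k, hk⟩ := IsPGroup.iff_card.1 hE
  rw [hk]
  exact Nat.Coprime.pow_left k ((Nat.Prime.coprime_iff_not_dvd Nat.prime_two).2 hX)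

/-- Dedekind's law. -/
theorem sup_inf_le {X U C : Subgroup G} (hn : U ≤ normalizer (X : Set G)) (hU : U ≤ C) :
    (X ⊔ U) ⊓ C ≤ (X ⊓ C) ⊔ U := by
  rintro _ ⟨hg, hC⟩
  obtain ⟨x, hx, u, hu, rfl⟩ := (mem_sup_iff hn _).1 hg
  refine mul_mem (mem_sup_left ⟨hx, ?_⟩) (mem_sup_right hu)
  have := C.mul_mem hC (C.inv_mem (hU hu))
  simpa using this

/-- `⁅X U, A⁆ ≤ X` if `U` normalises `X` and centralises `A`, `A` normalises `X`. -/
theorem commutator_sup_le {X U A : Subgroup G} (hn : U ≤ normalizer (X : Set G))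
    (hA : A ≤ normalizer (X : Set G)) (hU : U ≤ centralizer (A : Set G)) : ⁅X ⊔ U, A⁆ ≤ X := by
  rw [commutator_le]
  intro g hg a ha
  obtain ⟨x, hx, u, hu, rfl⟩ := (mem_sup_iff hn _).1 hg
  have h1 : a * u = u * a := mem_centralizer_iff.1 (hU hu) a ha
  have h2 : ⁅x * u, a⁆ = x * (a * x⁻¹ * a⁻¹) := by
    calc ⁅x * u, a⁆ = x * (u * a) * u⁻¹ * x⁻¹ * a⁻¹ := by rw [commutatorElement_def]; group
      _ = x * (a * u) * u⁻¹ * x⁻¹ * a⁻¹ := by rw [h1]
      _ = x * (a * x⁻¹ * a⁻¹) := by group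
  rw [h2]
  exact X.mul_mem hx (conj_mem_of_le_normalizer hA ha (X.inv_mem hx))

/-! ### The subgroups `Del B` -/

theorem Dl_le_XX {B : Subgroup G} {b : G} (hb : b ∈ B) (hb1 : b ≠ 1) : Del B ≤ XX b := Del_le hb hb1

theorem le_Dl {B X : Subgroup G} (h : ∀ b ∈ B, b ≠ 1 → X ≤ XX b) : X ≤ Del B :=
  fun _ hx => mem_Del.2 fun b hb hb1 => h b hb hb1 hx

theorem Dl_anti {B C : Subgroup G} (h : B ≤ C) : Del C ≤ Del B :=
  le_Dl fun _ hb hb1 => Dl_le_XX (h hb) hb1

theorem Dl_le_centralizer (B : Subgroup G) : Del B ≤ centralizer (B : Set G) := by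
  intro x hx
  rw [mem_centralizer_iff]
  intro b hb
  by_cases hb1 : b = 1
  · subst hb1; simp
  · exact (mem_centralizer_singleton_iff.1 (XX_le b (Dl_le_XX hb hb1 hx))).symm

theorem normalizer_inf_le {A X Y : Subgroup G} (h : A ≤ normalizer (X : Set G))
    (h' : A ≤ normalizer (Y : Set G)) : A ≤ normalizer ((X ⊓ Y : Subgroup G) : Set G) := by
  apply le_normalizer_of_conj_mem
  intro a ha x hx
  exact ⟨conj_mem_of_le_normalizer h ha hx.1, conj_mem_of_le_normalizer h' ha hx.2⟩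

/-- `C(B)` normalises `Del B`. -/
theorem centralizer_le_normalizer_Dl (B : Subgroup G) :
    centralizer (B : Set G) ≤ normalizer (Del B : Set G) := by
  apply le_normalizer_of_conj_mem
  intro c hc x hx
  exact mem_Del.2 fun b hb hb1 => conj_mem_of_le_normalizer (centralizer_le_normalizer_XX b)
      (centralizer_le_singleton hb hc) (Dl_le_XX hb hb1 hx)

/-- the group `D(A)` of THEOREM F: generated by the `Del B`, `B ≤ A` a four-group -/
def DF (A : Subgroup G) : Subgroup G := ⨆ B : {B : Subgroup G // B ≤ A ∧ Nat.card B = 4}, Del B.1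

theorem Dl_le_DF' {A B : Subgroup G} (hB : B ≤ A) (h4 : Nat.card B = 4) : Del B ≤ DF A :=
  le_iSup (fun B : {B : Subgroup G // B ≤ A ∧ Nat.card B = 4} => Del B.1) ⟨B, hB, h4⟩

/-! ### The four-group generated by two commuting involutions -/

/-- the four-group `{1, s, t, st}` -/
def kl (s t : G) (hs : s * s = 1) (ht : t * t = 1) (hst : s * t = t * s) : Subgroup G where
  carrier := {x | x = 1 ∨ x = s ∨ x = t ∨ x = s * t}
  one_mem' := Or.inl rfl
  mul_mem' := by
    have e1 : s * (s * t) = t := by rw [← mul_assoc, hs, one_mul]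
    have e2 : t * (s * t) = s := by rw [hst, ← mul_assoc, ht, one_mul]
    have e3 : s * t * s = t := by rw [hst, mul_assoc, hs, mul_one]
    have e4 : s * t * t = s := by rw [mul_assoc, ht, mul_one]
    have e5 : s * t * (s * t) = 1 := by rw [mul_assoc, e2, hs]
    rintro a b (rfl | rfl | rfl | rfl) (rfl | rfl | rfl | rfl)
    · left; exact mul_one _
    · right; left; exact one_mul _
    · right; right; left; exact one_mul _
    · right; right; right; exact one_mul _
    · right; left; exact mul_one _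
    · left; exact hs
    · right; right; right; rfl
    · right; right; left; exact e1
    · right; right; left; exact mul_one _
    · right; right; right; exact hst.symm
    · left; exact ht
    · right; left; exact e2
    · right; right; right; exact mul_one _
    · right; right; left; exact e3
    · right; left; exact e4
    · left; exact e5
  inv_mem' := by
    have e5 : (s * t)⁻¹ = s * t := by
      rw [inv_eq_iff_mul_eq_one]
      calc s * t * (s * t) = s * (t * s) * t := by group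
        _ = s * (s * t) * t := by rw [hst]
        _ = (s * s) * (t * t) := by group
        _ = 1 := by rw [hs, ht, one_mul]
    rintro a (rfl | rfl | rfl | rfl)
    · left; exact inv_one
    · right; left; exact inv_eq_of_mul_eq_one_left hs
    · right; right; left; exact inv_eq_of_mul_eq_one_left ht
    · right; right; right; exact e5

theorem mem_kl {s t : G} {hs : s * s = 1} {ht : t * t = 1} {hst : s * t = t * s} {x : G} :
    x ∈ kl s t hs ht hst ↔ x = 1 ∨ x = s ∨ x = t ∨ x = s * t := Iff.rfl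

theorem card_kl {s t : G} (hs : s * s = 1) (ht : t * t = 1) (hst : s * t = t * s)
    (hs1 : s ≠ 1) (ht1 : t ≠ 1) (hne : s ≠ t) : Nat.card (kl s t hs ht hst) = 4 := by
  classical
  have h1 : ((kl s t hs ht hst : Subgroup G) : Set G) = (({1, s, t, s * t} : Finset G) : Set G) := by
    ext x
    simp [mem_kl]
  have h2 : Nat.card (kl s t hs ht hst) = Set.ncard ((kl s t hs ht hst : Subgroup G) : Set G) := rfl
  have hst1 : s * t ≠ 1 := by
    intro h
    apply hne
    have : s⁻¹ = s := inv_eq_of_mul_eq_one_left hs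
    rw [← this]
    exact (eq_inv_of_mul_eq_one_right h).symm
  have hst2 : s * t ≠ s := fun h => ht1 (mul_eq_left.1 h)
  have hst3 : s * t ≠ t := fun h => hs1 (mul_eq_right.1 h)
  rw [h2, h1, Set.ncard_coe_finset, Finset.card_insert_of_notMem, Finset.card_insert_of_notMem,
    Finset.card_insert_of_notMem, Finset.card_singleton]
  · rw [Finset.mem_singleton]
    exact fun h => hst3 h.symm
  · simp only [Finset.mem_insert, Finset.mem_singleton, not_or]
    exact ⟨hne, fun h => hst2 h.symm⟩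
  · simp only [Finset.mem_insert, Finset.mem_singleton, not_or]
    exact ⟨hs1.symm, ht1.symm, hst1.symm⟩

/-- The hypotheses of THEOREM F. -/
structure Tor (A : Subgroup G) : Prop where
  solv : ∀ X : Subgroup G, ¬ 2 ∣ Nat.card X → Group.IsSolvable X
  comm : ∀ a ∈ A, ∀ b ∈ A, a * b = b * a
  sq : ∀ a ∈ A, a ^ 2 = 1
  card : 8 ≤ Nat.card A
  tor : ∀ a ∈ A, a ≠ 1 → ∀ b ∈ A, b ≠ 1 → ⁅XX a ⊓ centralizer {b}, A⁆ ≤ XX b
  two : ∀ B : Subgroup G, B ≤ A → Nat.card B = 4 → ∀ s ∈ A, s ≠ 1 →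
    Del B ⊓ centralizer (A : Set G) ≤ XX s

namespace Tor

variable {A : Subgroup G}

theorem elem (h : Tor A) : IsElementaryAbelian 2 A :=
  ⟨⟨⟨fun x y => Subtype.ext (h.comm x x.2 y y.2)⟩⟩, h.sq⟩

theorem isPGroup (h : Tor A) : IsPGroup 2 A := isPGroup_of_isElementaryAbelian h.elem

theorem le_centralizer (h : Tor A) {a : G} (ha : a ∈ A) : A ≤ centralizer {a} := fun b hb =>
  mem_centralizer_singleton_iff.2 (h.comm b hb a ha)

theorem le_centralizer_self (h : Tor A) : A ≤ centralizer (A : Set G) := fun b hb =>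
  mem_centralizer_iff.2 fun a ha => h.comm a ha b hb

theorem le_normalizer_XX (h : Tor A) {a : G} (ha : a ∈ A) : A ≤ normalizer (XX a : Set G) :=
  (h.le_centralizer ha).trans (centralizer_le_normalizer_XX a)

theorem ne_bot (h : Tor A) : A ≠ ⊥ := by
  rintro rfl
  have := h.card
  rw [card_bot] at this
  omega

theorem exists_ne_one (h : Tor A) : ∃ a ∈ A, a ≠ 1 := A.bot_or_exists_ne_one.resolve_left h.ne_bot

/-- a subgroup of order at least 4 contains a four-group -/
theorem exists_four [Finite G] (h : Tor A) {B : Subgroup G} (hB : B ≤ A) (h4 : 4 ≤ Nat.card B) :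
    ∃ C : Subgroup G, C ≤ B ∧ Nat.card C = 4 := by
  haveI : Fact (Nat.Prime 2) := ⟨Nat.prime_two⟩
  obtain ⟨k, hk⟩ := IsPGroup.iff_card.1 (h.isPGroup.to_le hB)
  have hk2 : 2 ≤ k := by
    by_contra hlt
    have : k ≤ 1 := by omega
    have h5 : 2 ^ k ≤ 2 ^ 1 := Nat.pow_le_pow_right (by norm_num) this
    omega
  have h6 : 2 ^ 2 ∣ Nat.card B := by rw [hk]; exact pow_dvd_pow 2 hk2
  obtain ⟨C, hC⟩ := Sylow.exists_subgroup_card_pow_prime (G := B) 2 h6
  refine ⟨C.map B.subtype, map_subtype_le _, ?_⟩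
  rw [card_map_of_injective B.subtype_injective, hC]
  norm_num

theorem conj_XX (h : Tor A) {a : G} (ha : a ∈ A) {b x : G} (hb : b ∈ A) (hx : x ∈ XX a) :
    b * x * b⁻¹ ∈ XX a := conj_mem_of_le_normalizer (h.le_normalizer_XX ha) hb hx

/-! ### The functor -/

/-- `U = O(C_G(A))` -/
theorem inf_centralizer_le_OO [Finite G] (a : G) (ha : a ∈ A) :
    XX a ⊓ centralizer (A : Set G) ≤ OO (centralizer (A : Set G)) := by
  refine le_OO inf_le_right ?_ (not_two_dvd_of_le inf_le_left (odd_XX a))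
  exact normalizer_inf_le ((centralizer_le_singleton ha).trans (centralizer_le_normalizer_XX a))
    le_normalizer

/-- `ψ(a) = X_a U` -/
def psi (A : Subgroup G) (a : G) : Subgroup G := XX a ⊔ OO (centralizer (A : Set G))

theorem OO_le_normalizer {a : G} (ha : a ∈ A) :
    OO (centralizer (A : Set G)) ≤ normalizer (XX a : Set G) :=
  (OO_le _).trans ((centralizer_le_singleton ha).trans (centralizer_le_normalizer_XX a))

theorem psi_le_centralizer {a : G} (ha : a ∈ A) : psi A a ≤ centralizer {a} :=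
  sup_le (XX_le a) ((OO_le _).trans (centralizer_le_singleton ha))

theorem odd_psi [Finite G] {a : G} (ha : a ∈ A) : ¬ 2 ∣ Nat.card (psi A a) := by
  intro h2
  have h3 := h2.trans (card_sup_dvd (OO_le_normalizer ha))
  rcases (Nat.Prime.dvd_mul Nat.prime_two).1 h3 with h4 | h4
  · exact odd_XX a h4
  · exact odd_OO _ h4

theorem commutator_psi_le (h : Tor A) {a : G} (ha : a ∈ A) : ⁅psi A a, A⁆ ≤ XX a :=
  commutator_sup_le (OO_le_normalizer ha) (h.le_normalizer_XX ha) (OO_le _)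

theorem balance [Finite G] (h : Tor A) {a b : G} (ha : a ∈ A) (ha1 : a ≠ 1) (hb : b ∈ A) (hb1 : b ≠ 1) :
    psi A a ⊓ centralizer {b} ≤ psi A b := by
  refine (sup_inf_le (OO_le_normalizer ha) ((OO_le _).trans (centralizer_le_singleton hb))).trans
    (sup_le ?_ le_sup_right)
  have hn : A ≤ normalizer ((XX a ⊓ centralizer {b} : Subgroup G) : Set G) :=
    normalizer_inf_le (h.le_normalizer_XX ha) ((h.le_centralizer hb).trans le_normalizer)
  refine (le_commutator_sup h.isPGroup (not_two_dvd_of_le inf_le_left (odd_XX a)) hn).trans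
    (sup_le ((h.tor a ha ha1 b hb hb1).trans le_sup_left) ?_)
  exact (inf_le_inf_right _ inf_le_left).trans ((inf_centralizer_le_OO a ha).trans le_sup_right)

/-- `W`, the closure of the functor `ψ` -/
def W (A : Subgroup G) : Subgroup G := ⨆ a : {a : G // a ∈ A ∧ a ≠ 1}, psi A a

theorem psi_le_W {a : G} (ha : a ∈ A) (ha1 : a ≠ 1) : psi A a ≤ W A :=
  le_iSup (fun a : {a : G // a ∈ A ∧ a ≠ 1} => psi A a) ⟨a, ha, ha1⟩

theorem XX_le_W {a : G} (ha : a ∈ A) (ha1 : a ≠ 1) : XX a ≤ W A := le_sup_left.trans (psi_le_W ha ha1)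

theorem functor [Finite G] (h : Tor A) : ¬ 2 ∣ Nat.card (W A) ∧
    (∀ a ∈ A, a ≠ 1 → W A ⊓ centralizer {a} = psi A a) := by
  have h1 := Cfsg.Agent.SignalizersComponents.SolFunctorTwo.solvable_signalizer_functor_two A h.comm h.sq
    (by have := h.card; norm_num; exact this) (psi A) (fun a ha _ => psi_le_centralizer ha)
    (fun a ha _ => odd_psi ha) (fun a ha _ b hb x hx => ?_) (fun a ha _ => ?_)
    (fun a ha ha1 b hb hb1 => h.balance ha ha1 hb hb1)
  · exact ⟨h1.1, h1.2.1⟩
  · refine conj_mem_of_le_normalizer (le_normalizer_sup (h.le_normalizer_XX ha) ?_) hb hx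
    exact h.le_centralizer_self.trans (le_normalizer_OO _)
  · exact h.solv _ (odd_psi ha)

theorem odd_W [Finite G] (h : Tor A) : ¬ 2 ∣ Nat.card (W A) := h.functor.1

theorem W_inf [Finite G] (h : Tor A) {a : G} (ha : a ∈ A) (ha1 : a ≠ 1) :
    W A ⊓ centralizer {a} = psi A a := h.functor.2 a ha ha1

theorem solvable_of_le_W [Finite G] (h : Tor A) {X : Subgroup G} (hX : X ≤ W A) : Group.IsSolvable X :=
  h.solv _ (not_two_dvd_of_le hX h.odd_W)

theorem le_normalizer_W (h : Tor A) : A ≤ normalizer (W A : Set G) := by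
  apply le_normalizer_of_conj_mem
  intro b hb x hx
  have h1 : W A ≤ cj b⁻¹ (W A) := by
    refine iSup_le fun a => ?_
    rw [← cj_le_cj (g := b), cj_cj_inv]
    refine le_trans ?_ (psi_le_W a.2.1 a.2.2)
    rintro _ ⟨y, hy, rfl⟩
    exact conj_mem_of_le_normalizer (le_normalizer_sup (h.le_normalizer_XX a.2.1)
      (h.le_centralizer_self.trans (le_normalizer_OO _))) hb hy
  have h2 := mem_cj.1 (h1 hx)
  simpa using h2

theorem OO_le_W (h : Tor A) : OO (centralizer (A : Set G)) ≤ W A := by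
  obtain ⟨a, ha, ha1⟩ := h.exists_ne_one
  exact le_sup_right.trans (psi_le_W ha ha1)

/-- `C_W(A) = U` -/
theorem W_inf_centralizer [Finite G] (h : Tor A) :
    W A ⊓ centralizer (A : Set G) = OO (centralizer (A : Set G)) := by
  obtain ⟨a, ha, ha1⟩ := h.exists_ne_one
  apply le_antisymm
  · have h1 : W A ⊓ centralizer (A : Set G) ≤ psi A a ⊓ centralizer (A : Set G) := by
      rw [← h.W_inf ha ha1]
      exact le_inf (inf_le_inf_left _ (centralizer_le_singleton ha)) inf_le_right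
    exact h1.trans ((sup_inf_le (OO_le_normalizer ha) (OO_le _)).trans
      (sup_le (inf_centralizer_le_OO a ha) le_rfl))
  · exact le_inf h.OO_le_W (OO_le _)

/-- Step 1 -/
theorem commutator_W_inf_le [Finite G] (h : Tor A) {B : Subgroup G} (hB : B ≤ A) :
    ⁅W A ⊓ centralizer (B : Set G), A⁆ ≤ Del B := by
  apply le_Dl
  intro b hb hb1
  refine le_trans (commutator_mono_left ?_) (h.commutator_psi_le (hB hb))
  rw [← h.W_inf (hB hb) hb1]
  exact inf_le_inf_left _ (centralizer_le_singleton hb)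

/-- a subgroup with cyclic quotient has order at least 4 -/
theorem four_le_of_isCyclic [Finite G] (h : Tor A) {B : Subgroup G} (hB : B ≤ A)
    (hc : ∀ [(B.subgroupOf A).Normal], IsCyclic (↥A ⧸ B.subgroupOf A)) : 4 ≤ Nat.card B := by
  haveI hn : (B.subgroupOf A).Normal := by
    refine ⟨fun x hx g => ?_⟩
    have : g * x * g⁻¹ = x := by
      apply Subtype.ext
      have := h.comm g g.2 x x.2
      simp only [Subgroup.coe_mul, Subgroup.coe_inv, this]
      group
    rwa [this]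
  haveI := hc
  obtain ⟨g, hg⟩ := IsCyclic.exists_generator (α := ↥A ⧸ B.subgroupOf A)
  have h1 : g ^ 2 = 1 := by
    obtain ⟨x, rfl⟩ := QuotientGroup.mk_surjective g
    rw [← QuotientGroup.mk_pow]
    have : x ^ 2 = 1 := Subtype.ext (by simpa using h.sq x x.2)
    rw [this, QuotientGroup.mk_one]
  have h2 : Nat.card (↥A ⧸ B.subgroupOf A) ≤ 2 := by
    have h3 : Nat.card (zpowers g) = Nat.card (↥A ⧸ B.subgroupOf A) := by
      rw [(eq_top_iff' (zpowers g)).2 hg, card_top]
    rw [← h3, Nat.card_zpowers]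
    exact Nat.le_of_dvd (by norm_num) (orderOf_dvd_of_pow_eq_one h1)
  have h3 : Nat.card B * (B.subgroupOf A).index = Nat.card A := by
    have := (B.subgroupOf A).card_mul_index
    rwa [Nat.card_congr (subgroupOfEquivOfLe hB).toEquiv] at this
  have h4 : (B.subgroupOf A).index ≤ 2 := h2
  have h5 := h.card
  nlinarith

/-- `R = ⁅W, A⁆` -/
def RR (A : Subgroup G) : Subgroup G := ⁅W A, A⁆

theorem RR_le_W (h : Tor A) : RR A ≤ W A := commutator_le_left h.le_normalizer_W

theorem le_normalizer_RR (_h : Tor A) : A ≤ normalizer (RR A : Set G) :=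
  right_le_normalizer_commutator _ _

theorem W_le_normalizer_RR : W A ≤ normalizer (RR A : Set G) := left_le_normalizer_commutator _ _

theorem commutator_RR [Finite G] (h : Tor A) : ⁅RR A, A⁆ = RR A :=
  commutator_commutator_eq A (W A) h.le_normalizer_W (coprime_of_isPGroup h.isPGroup h.odd_W)

/-- Step 2 -/
theorem RR_inf_centralizer_le [Finite G] (h : Tor A) : RR A ⊓ centralizer (A : Set G) ≤ Del A := by
  apply le_Dl
  intro s hs hs1
  haveI : Fact (Nat.Prime 2) := ⟨Nat.prime_two⟩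
  have h1 := Cfsg.Agent.SignalizersComponents.GoldschmidtGen.inf_centralizer_eq (p := 2) (A := A) (B := A)
    (Y := RR A) h.isPGroup h.comm le_rfl (h.solvable_of_le_W h.RR_le_W)
    (not_two_dvd_of_le h.RR_le_W h.odd_W) h.le_normalizer_RR h.commutator_RR
  rw [h1]
  refine iSup_le fun B₀ => ?_
  obtain ⟨B, hBB, hB4⟩ := h.exists_four B₀.2.1 (h.four_le_of_isCyclic B₀.2.1 B₀.2.2)
  refine le_trans ?_ (h.two B (hBB.trans B₀.2.1) hB4 s hs hs1)
  refine le_inf (inf_le_right.trans ?_) (inf_le_left.trans inf_le_right)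
  refine le_trans (commutator_mono_left ?_) (h.commutator_W_inf_le (hBB.trans B₀.2.1))
  exact inf_le_inf h.RR_le_W (centralizer_le hBB)

theorem odd_Dl [Finite G] {B : Subgroup G} {b : G} (hb : b ∈ B) (hb1 : b ≠ 1) :
    ¬ 2 ∣ Nat.card (Del B) := not_two_dvd_of_le (Dl_le_XX hb hb1) (odd_XX b)

theorem exists_ne_one_of_card {B : Subgroup G} (h4 : Nat.card B = 4) : ∃ b ∈ B, b ≠ 1 := by
  refine B.bot_or_exists_ne_one.resolve_left ?_
  rintro rfl
  rw [card_bot] at h4
  omega

theorem Dl_le_W {B : Subgroup G} (hB : B ≤ A) {b : G} (hb : b ∈ B) (hb1 : b ≠ 1) :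
    Del B ≤ W A := (Dl_le_XX hb hb1).trans (XX_le_W (hB hb) hb1)

theorem le_normalizer_Dl (h : Tor A) {B : Subgroup G} (hB : B ≤ A) : A ≤ normalizer (Del B : Set G) :=
  (h.le_centralizer_self.trans (centralizer_le hB)).trans (centralizer_le_normalizer_Dl B)

/-- an `A`-invariant subgroup `Y` of `W` centralising `B` with `C_Y(A) ≤ Δ_A` lies in `Δ_B` -/
theorem le_Dl_of [Finite G] (h : Tor A) {B Y : Subgroup G} (hB : B ≤ A) (hY : Y ≤ W A)
    (hYB : Y ≤ centralizer (B : Set G)) (hn : A ≤ normalizer (Y : Set G))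
    (hYA : Y ⊓ centralizer (A : Set G) ≤ Del A) : Y ≤ Del B := by
  refine (le_commutator_sup h.isPGroup (not_two_dvd_of_le hY h.odd_W) hn).trans (sup_le ?_ ?_)
  · exact (commutator_mono_left (le_inf hY hYB)).trans (h.commutator_W_inf_le hB)
  · exact hYA.trans (Dl_anti hB)

theorem four_le_of_relIndex [Finite G] (h : Tor A) {B : Subgroup G} (hB : B ≤ A)
    (hi : B.relIndex A = 2) : 4 ≤ Nat.card B := by
  have h1 := relIndex_mul_relIndex ⊥ B A bot_le hB
  rw [relIndex_bot_left, relIndex_bot_left, hi] at h1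
  have := h.card
  omega

theorem RR_le_DF [Finite G] (h : Tor A) : RR A ≤ DF A := by
  haveI : Fact (Nat.Prime 2) := ⟨Nat.prime_two⟩
  rw [← Cfsg.Agent.Lib.CoprimeHyperplane.iSup_centralizer_hyperplane h.elem h.ne_bot
    (not_two_dvd_of_le h.RR_le_W h.odd_W) h.le_normalizer_RR]
  refine iSup_le fun B₀ => ?_
  obtain ⟨B, hBB, hB4⟩ := h.exists_four B₀.2.1 (h.four_le_of_relIndex B₀.2.1 B₀.2.2)
  have hBA : B ≤ A := hBB.trans B₀.2.1
  refine le_trans ?_ (Dl_le_DF' hBA hB4)
  refine h.le_Dl_of hBA (inf_le_left.trans h.RR_le_W) (inf_le_right.trans (centralizer_le hBB)) ?_ ?_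
  · exact normalizer_inf_le h.le_normalizer_RR
      ((h.le_centralizer_self.trans (centralizer_le B₀.2.1)).trans le_normalizer)
  · exact (inf_le_inf_right _ inf_le_left).trans h.RR_inf_centralizer_le

theorem exists_four_le [Finite G] (h : Tor A) : ∃ B : Subgroup G, B ≤ A ∧ Nat.card B = 4 :=
  h.exists_four le_rfl (by have := h.card; omega)

theorem Dl_self_le_DF [Finite G] (h : Tor A) : Del A ≤ DF A := by
  obtain ⟨B, hB, h4⟩ := h.exists_four_le
  exact (Dl_anti hB).trans (Dl_le_DF' hB h4)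

/-- Step 3 -/
theorem DF_eq_sup [Finite G] (h : Tor A) : DF A = RR A ⊔ Del A := by
  apply le_antisymm
  · refine iSup_le fun B => ?_
    obtain ⟨b, hb, hb1⟩ := exists_ne_one_of_card B.2.2
    refine (le_commutator_sup h.isPGroup (odd_Dl hb hb1) (h.le_normalizer_Dl B.2.1)).trans
      (sup_le (le_sup_of_le_left (commutator_mono_left (Dl_le_W B.2.1 hb hb1))) (le_sup_of_le_right ?_))
    exact le_Dl fun s hs hs1 => h.two B.1 B.2.1 B.2.2 s hs hs1
  · exact sup_le h.RR_le_DF h.Dl_self_le_DF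

theorem DF_le_W [Finite G] (h : Tor A) : DF A ≤ W A := by
  rw [h.DF_eq_sup]
  obtain ⟨a, ha, ha1⟩ := h.exists_ne_one
  exact sup_le h.RR_le_W (Dl_le_W le_rfl ha ha1)

/-- **D has odd order.** -/
theorem odd [Finite G] (h : Tor A) : ¬ 2 ∣ Nat.card (DF A) := not_two_dvd_of_le h.DF_le_W h.odd_W

theorem W_le_normalizer_DF [Finite G] (h : Tor A) : W A ≤ normalizer (DF A : Set G) := by
  refine (le_commutator_sup h.isPGroup h.odd_W h.le_normalizer_W).trans (sup_le ?_ ?_)
  · exact h.RR_le_DF.trans le_normalizer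
  · rw [h.DF_eq_sup]
    refine le_normalizer_sup (inf_le_left.trans W_le_normalizer_RR) ?_
    exact inf_le_right.trans (centralizer_le_normalizer_Dl A)

theorem le_normalizer_DF [Finite G] (h : Tor A) : A ≤ normalizer (DF A : Set G) := by
  rw [h.DF_eq_sup]
  exact le_normalizer_sup h.le_normalizer_RR (h.le_normalizer_Dl le_rfl)

/-- `X_a` normalises `D` -/
theorem XX_le_normalizer_DF [Finite G] (h : Tor A) {a : G} (ha : a ∈ A) (ha1 : a ≠ 1) :
    XX a ≤ normalizer (DF A : Set G) := (XX_le_W ha ha1).trans h.W_le_normalizer_DF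

/-- `⁅X_a, A⁆ ≤ D` -/
theorem commutator_XX_le [Finite G] (h : Tor A) {a : G} (ha : a ∈ A) (ha1 : a ≠ 1) :
    ⁅XX a, A⁆ ≤ DF A := (commutator_mono_left (XX_le_W ha ha1)).trans h.RR_le_DF

theorem DF_inf_centralizer_self [Finite G] (h : Tor A) : DF A ⊓ centralizer (A : Set G) = Del A := by
  apply le_antisymm
  · rw [h.DF_eq_sup]
    obtain ⟨a, ha, ha1⟩ := h.exists_ne_one
    refine (sup_inf_le ((Dl_le_W le_rfl ha ha1).trans W_le_normalizer_RR) (Dl_le_centralizer A)).trans
      (sup_le h.RR_inf_centralizer_le le_rfl)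
  · exact le_inf h.Dl_self_le_DF (Dl_le_centralizer A)

theorem DF_inf_le_Dl [Finite G] (h : Tor A) {B : Subgroup G} (hB : B ≤ A) :
    DF A ⊓ centralizer (B : Set G) ≤ Del B := by
  refine h.le_Dl_of hB (inf_le_left.trans h.DF_le_W) inf_le_right ?_ ?_
  · exact normalizer_inf_le h.le_normalizer_DF
      ((h.le_centralizer_self.trans (centralizer_le hB)).trans le_normalizer)
  · rw [← h.DF_inf_centralizer_self]
    exact inf_le_inf_right _ inf_le_left

/-- `C_D(a) ≤ X_a` -/
theorem DF_inf_le_XX [Finite G] (h : Tor A) {a : G} (ha : a ∈ A) (ha1 : a ≠ 1) :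
    DF A ⊓ centralizer {a} ≤ XX a := by
  have h1 := h.DF_inf_le_Dl (B := zpowers a) (by rwa [zpowers_le])
  rw [centralizer_zpowers] at h1
  exact h1.trans (Dl_le_XX (mem_zpowers a) ha1)

/-- `Δ_B ≤ D` if `|B| ≥ 4`. -/
theorem Dl_le_DF [Finite G] (h : Tor A) {B : Subgroup G} (hB : B ≤ A) (h4 : 4 ≤ Nat.card B) :
    Del B ≤ DF A := by
  obtain ⟨C, hC, hC4⟩ := h.exists_four hB h4
  exact (Dl_anti hC).trans (Dl_le_DF' (hC.trans hB) hC4)

/-- `C_D(B) = Δ_B` for `B ≤ A`, `|B| ≥ 4`. -/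
theorem DF_inf_eq_Dl [Finite G] (h : Tor A) {B : Subgroup G} (hB : B ≤ A) (h4 : 4 ≤ Nat.card B) :
    DF A ⊓ centralizer (B : Set G) = Del B :=
  le_antisymm (h.DF_inf_le_Dl hB) (le_inf (h.Dl_le_DF hB h4) (Dl_le_centralizer B))

/-- Step 4: `C_D(a) = ⁅X_a, B⁆ Δ_B` for `a ∈ B#`, `B ≤ A`, `|B| ≥ 4`. -/
theorem DF_inf_eq [Finite G] (h : Tor A) {B : Subgroup G} (hB : B ≤ A) (h4 : 4 ≤ Nat.card B)
    {a : G} (ha : a ∈ B) (ha1 : a ≠ 1) : DF A ⊓ centralizer {a} = ⁅XX a, B⁆ ⊔ Del B := by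
  apply le_antisymm
  · have hn : B ≤ normalizer ((DF A ⊓ centralizer {a} : Subgroup G) : Set G) :=
      normalizer_inf_le (hB.trans h.le_normalizer_DF)
        ((hB.trans (h.le_centralizer (hB ha))).trans le_normalizer)
    refine (le_commutator_sup (h.isPGroup.to_le hB) (not_two_dvd_of_le inf_le_left h.odd) hn).trans
      (sup_le_sup (commutator_mono_left (h.DF_inf_le_XX (hB ha) ha1)) ?_)
    rw [← h.DF_inf_eq_Dl hB h4]
    exact inf_le_inf_right _ inf_le_left
  · refine sup_le (le_inf ?_ ?_) (le_inf (h.Dl_le_DF hB h4) ((Dl_le_XX ha ha1).trans (XX_le a)))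
    · exact (commutator_mono le_rfl hB).trans (h.commutator_XX_le (hB ha) ha1)
    · exact (commutator_le_left (hB.trans (h.le_normalizer_XX (hB ha)))).trans (XX_le a)

/-- `D = ⟨⁅X_b, B⁆, Δ_B : b ∈ B#⟩` -/
theorem DF_eq [Finite G] (h : Tor A) {B : Subgroup G} (hB : B ≤ A) (h4 : 4 ≤ Nat.card B) :
    DF A = ⨆ b : {b : G // b ∈ B ∧ b ≠ 1}, ⁅XX b.1, B⁆ ⊔ Del B := by
  haveI : Fact (Nat.Prime 2) := ⟨Nat.prime_two⟩
  apply le_antisymm
  · refine (le_iSup_centralizer_ne_one (p := 2) (isElementaryAbelian_mono h.elem hB)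
      (by norm_num; exact h4) h.odd (hB.trans h.le_normalizer_DF)).trans ?_
    exact iSup_mono fun b => (h.DF_inf_eq hB h4 b.2.1 b.2.2).le
  · refine iSup_le fun b => ?_
    rw [← h.DF_inf_eq hB h4 b.2.1 b.2.2]
    exact inf_le_left

/-- **`N_G(B) ≤ N_G(D)`** for every `B ≤ A` with `|B| ≥ 4`. -/
theorem normalizer_le [Finite G] (h : Tor A) {B : Subgroup G} (hB : B ≤ A) (h4 : 4 ≤ Nat.card B) :
    normalizer (B : Set G) ≤ normalizer (DF A : Set G) := by
  apply le_normalizer_of_conj_mem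
  intro g hg x hx
  have hgB : cj g B = B := mem_normalizer_iff_cj.1 hg
  have h1 : cj g (DF A) ≤ DF A := by
    conv_lhs => rw [h.DF_eq hB h4]
    rw [cj, Subgroup.map_iSup]
    refine iSup_le fun b => ?_
    change cj g (⁅XX b.1, B⁆ ⊔ Del B) ≤ DF A
    rw [cj_sup, cj_commutator, cj_XX, cj_Del, hgB, ← h.DF_inf_eq hB h4 (a := g * b.1 * g⁻¹)]
    · exact inf_le_left
    · have := conj_mem_cj (g := g) b.2.1
      rwa [hgB] at this
    · intro h2
      apply b.2.2
      have h3 : b.1 = g⁻¹ * (g * b.1 * g⁻¹) * g := by group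
      rw [h3, h2]; simp
  exact h1 (conj_mem_cj hx)

/-- the centraliser of `B ≤ A`, `|B| ≥ 4`, normalises `D` -/
theorem centralizer_le [Finite G] (h : Tor A) {B : Subgroup G} (hB : B ≤ A) (h4 : 4 ≤ Nat.card B) :
    centralizer (B : Set G) ≤ normalizer (DF A : Set G) :=
  (centralizer_le_normalizer (B : Set G)).trans (h.normalizer_le hB h4)

theorem mul_self (h : Tor A) {a : G} (ha : a ∈ A) : a * a = 1 := by
  have := h.sq a ha
  rwa [pow_two] at this

/-- `X_a ∩ X_b ∩ X_{ab} ≤ D`. -/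
theorem inf_le_DF [Finite G] (_h : Tor A) {a b : G} (hs : a * a = 1) (ht : b * b = 1)
    (hst : a * b = b * a) (ha : a ∈ A) (hb : b ∈ A) (ha1 : a ≠ 1) (hb1 : b ≠ 1) (hab : a ≠ b) {X : Subgroup G}
    (h1 : X ≤ XX a) (h2 : X ≤ XX b) (h3 : X ≤ XX (a * b)) : X ≤ DF A := by
  have hle : kl a b hs ht hst ≤ A := by
    rintro x (rfl | rfl | rfl | rfl)
    exacts [A.one_mem, ha, hb, A.mul_mem ha hb]
  refine le_trans (le_Dl ?_) (Dl_le_DF' hle (card_kl hs ht hst ha1 hb1 hab))
  rintro x (rfl | rfl | rfl | rfl) hx1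
  exacts [absurd rfl hx1, h1, h2, h3]

/-- a subgroup of order at least 4 contains an element different from `1` and `a` -/
theorem exists_ne [Finite G] {B : Subgroup G} (h4 : 4 ≤ Nat.card B) {a : G} (ha : a * a = 1) :
    ∃ b ∈ B, b ≠ 1 ∧ b ≠ a := by
  by_contra hcon
  push Not at hcon
  have h1 : B ≤ zpowers a := by
    intro b hb
    by_cases hb1 : b = 1
    · subst hb1; exact one_mem _
    · rw [hcon b hb hb1]; exact mem_zpowers a
  have h2 : Nat.card B ≤ Nat.card (zpowers a) := card_le_of_le h1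
  rw [Nat.card_zpowers] at h2
  have h3 : orderOf a ∣ 2 := orderOf_dvd_of_pow_eq_one (by rw [pow_two, ha])
  have := Nat.le_of_dvd (by norm_num) h3
  omega

/-- **Step 5**: `⁅X_a, Q⁆ ≤ D` for a 2-group `Q` commuting with `A` such that
`⁅X_a ∩ C(b), Q⁆ ≤ X_b` for `a, b ∈ A#`. -/
theorem commutator_Q_le [Finite G] (h : Tor A) {Q : Subgroup G} (hQ : IsPGroup 2 Q)
    (hQA : ∀ q ∈ Q, ∀ a ∈ A, q * a = a * q)
    (hT : ∀ a ∈ A, a ≠ 1 → ∀ b ∈ A, b ≠ 1 → ⁅XX a ⊓ centralizer {b}, Q⁆ ≤ XX b)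
    {a : G} (ha : a ∈ A) (ha1 : a ≠ 1) : ⁅XX a, Q⁆ ≤ DF A := by
  haveI : Fact (Nat.Prime 2) := ⟨Nat.prime_two⟩
  rw [commutator_le]
  intro x hx q hq
  have hqz : zpowers q ≤ Q := by rwa [zpowers_le]
  have hcomm : ∀ u ∈ A ⊔ zpowers q, ∀ v ∈ A ⊔ zpowers q, u * v = v * u := by
    have h1 : A ⊔ zpowers q ≤ centralizer ((A ⊔ zpowers q : Subgroup G) : Set G) := by
      have hA : A ≤ centralizer (A : Set G) := h.le_centralizer_self
      have hz : zpowers q ≤ centralizer (A : Set G) := by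
        rw [zpowers_le, mem_centralizer_iff]
        exact fun b hb => (hQA q hq b hb).symm
      have hz2 : zpowers q ≤ centralizer ((zpowers q : Subgroup G) : Set G) := by
        rw [zpowers_le, centralizer_zpowers]
        exact mem_centralizer_singleton_iff.2 rfl
      refine sup_le ?_ ?_
      · rw [le_centralizer_iff]
        exact sup_le hA hz
      · rw [le_centralizer_iff]
        refine sup_le ?_ hz2
        rw [← le_centralizer_iff]
        exact hz
    intro u hu v hv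
    exact (mem_centralizer_iff.1 (h1 hu) v hv).symm
  have hqp : IsPGroup 2 (zpowers q) := hQ.to_le hqz
  have hP : IsPGroup 2 ↥(A ⊔ zpowers q) := by
    refine IsPGroup.to_sup_of_normal_right' h.isPGroup hqp ?_
    refine le_trans ?_ (centralizer_le_normalizer ((zpowers q : Subgroup G) : Set G))
    intro v hv
    exact mem_centralizer_iff.2 fun b hb => hcomm b (mem_sup_right hb) v (mem_sup_left hv)
  have hsol : Group.IsSolvable (XX a) := h.solv _ (odd_XX a)
  have hqn : A ⊔ zpowers q ≤ normalizer (XX a : Set G) := by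
    refine le_trans ?_ (centralizer_le_normalizer_XX a)
    intro v hv
    exact mem_centralizer_singleton_iff.2 (hcomm v hv a (mem_sup_left ha))
  have key := le_iSup_commutator (p := 2) (A := A ⊔ zpowers q) (K := XX a) (L := zpowers q)
    {B | B ≤ A ∧ B.relIndex A = 2} hP hcomm le_sup_right hsol (odd_XX a) hqn
    (fun B hB => hB.1.trans le_sup_left) (fun Z hZ hAZ =>
      (Cfsg.Agent.Lib.CoprimeHyperplane.iSup_centralizer_hyperplane h.elem h.ne_bot
        (not_two_dvd_of_le hZ (odd_XX a)) (le_sup_left.trans hAZ)).ge)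
  refine (key.trans (iSup_le fun B => ?_)) (commutator_mem_commutator hx (mem_zpowers q))
  obtain ⟨B, hB, hi⟩ := B
  obtain ⟨b, hb, hb1, hba⟩ := exists_ne (h.four_le_of_relIndex hB hi) (h.mul_self ha)
  have hbA : b ∈ A := hB hb
  have h1 : XX a ⊓ centralizer (B : Set G) ≤ XX a ⊓ centralizer {b} :=
    inf_le_inf_left _ (centralizer_le_singleton hb)
  refine h.inf_le_DF (h.mul_self ha) (h.mul_self hbA) (h.comm a ha b hbA) ha hbA ha1 hb1 hba.symm ?_ ?_ ?_
  · refine (commutator_mono inf_le_left le_rfl).trans (commutator_le_left ?_)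
    exact le_sup_right.trans hqn
  · exact (commutator_mono h1 hqz).trans (hT a ha ha1 b hbA hb1)
  · have hab1 : a * b ≠ 1 := by
      intro he
      apply hba
      have h2 := h.mul_self ha
      rw [← h2] at he
      exact mul_left_cancel he
    refine (commutator_mono (h1.trans ?_) hqz).trans (hT a ha ha1 (a * b) (A.mul_mem ha hbA) hab1)
    refine le_inf inf_le_left ?_
    rintro y ⟨hy, hyb⟩
    have h2 := mem_centralizer_singleton_iff.1 (XX_le a hy)
    have h3 := mem_centralizer_singleton_iff.1 hyb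
    rw [mem_centralizer_singleton_iff]
    calc y * (a * b) = (y * a) * b := by group
      _ = a * (y * b) := by rw [h2]; group
      _ = a * b * y := by rw [h3]; group

/-- **THEOREM F** in the form used in `CoresClose`. -/
theorem fout [Finite G] (h : Tor A) : FOut A (DF A) where
  odd := h.odd
  del_le B hB h4 := Dl_le_DF' hB h4
  comm_le a ha ha1 := h.commutator_XX_le ha ha1
  gen B hB h4 := by
    conv_lhs => rw [h.DF_eq hB h4.ge]
    refine iSup_le fun b => sup_le ?_ le_sup_left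
    exact le_sup_of_le_right (le_iSup₂ (f := fun (b : G) (_ : b ∈ B ∧ b ≠ 1) => ⁅XX b, B⁆) b.1 b.2)
  nor a ha ha1 := h.XX_le_normalizer_DF ha ha1

end Tor

end Cfsg.Agent.Cit.TorFunctor
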