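import Cfsg.Agent.Cit.CoresH
import Cfsg.Agent.Cit.UseT
import Cfsg.Agent.Cit.TorFunctor

/-!
# COROLLARY E: the cores of involution centralisers (project CIT, row B7)

`G` finite, `Hyp Om`, all members of type `SL₂(q)`, `2.A₇`, `S` a Sylow 2-subgroup (or any 2-subgroup), `E = ES Om S`,
and for all `s ∈ E`, `s ≠ 1`, the conclusion of THEOREM T for `C(s) / O(C(s))`: `HasPieces (fam Om (centralizer {s}))`.

* `two` : (2B), from THEOREM FIX (`FixStmt`) and the odd order theorem;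
* `gen` : the generation of the normal subgroup of `C(z_K)` generated by the members, modulo `O(C(z_K))`;
* `tor` : (TOR) and `⁅XX a ⊓ C(b), Q⁆ ≤ XX b`, from (CT) (`CTStmt`).
* `tor_ES`, `cdata` : the hypotheses of THEOREM F and of the closing theorem;
* `DF_eq_bot` : `D(E) = 1`; `commutator_eq_bot` : `⁅O(C(s)), K ⊓ S⁆ = 1` for `s ∈ E`, `s ≠ 1`, `K ∈ Om(S)`.
-/

set_option autoImplicit false
set_option linter.style.haveILetI false
set_option linter.unusedSectionVars false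

namespace Cfsg.Agent.Cit.CoresG

open Subgroup Cfsg Cfsg.Agent.Cit SubCent UseT Cfsg.Agent.Cit.Comp CoreTwoB TorFunctor

universe u

/-! ### The statements used -/

/-- the odd order theorem -/
def OddStmt : Prop := ∀ (X : Type u) [Group X] [Finite X], ¬ 2 ∣ Nat.card X → Group.IsSolvable X

/-- THEOREM FIX -/
def FixStmt : Prop := ∀ (X : Type u) [Group X] [Finite X] (Om : Set (Subgroup X)), Hyp Om → pPrimeCore 2 X = ⊥ →
  ∀ (p : ℕ) (D : Subgroup X), IsComponent D → Nonempty (Nodes.Chart.Chart Om p D) → CT.FixP p D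

/-- (CT) -/
def CTStmt : Prop := ∀ (X : Type u) [Group X] [Finite X] (Om : Set (Subgroup X)), Hyp Om → (∀ K ∈ Om, Ty K) →
  HasPieces Om → pPrimeCore 2 X = ⊥ → ∀ K ∈ Om, ∀ Q, Syl Q K → ∀ b, b * b = 1 → (∀ q ∈ Q, q * b = b * q) →
    ∀ x ∈ XX b, ∀ q ∈ Q, q * x = x * q

theorem OddStmt.evQ (h : OddStmt.{u}) (X : Type u) [Group X] [Finite X] : EvQ X :=
  evQ_of_solvable fun D hD => h D (by
    intro h2
    have := Nat.odd_iff.1 hD
    omega)

section

variable {G : Type u} [Group G] [Finite G] {Om : Set (Subgroup G)}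

/-! ### `XX` modulo `O(H)` -/

theorem core_HQ (H : Subgroup G) : pPrimeCore 2 (HQ H) = ⊥ := Lib.Cores.pPrimeCore_quotient_pPrimeCore 2

/-- `O(C(b)) ⊓ H` maps into `O(C(b̄))` -/
theorem qm_mem_XX {H : Subgroup G} {b x : H} (hb : b * b = 1) (hx : (x : G) ∈ XX (b : G)) :
    qm H x ∈ XX (qm H b) := by
  have h1 : (((XX (b : G)).subgroupOf H).map (qm H)) ≤ XX (qm H b) := by
    refine le_OO ?_ ?_ ?_
    · rintro _ ⟨y, hy, rfl⟩
      rw [mem_centralizer_singleton_iff, ← map_mul, ← map_mul]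
      congr 1
      exact Subtype.ext (mem_centralizer_singleton_iff.1 (XX_le _ (mem_subgroupOf.1 hy)))
    · rw [← centralizer_map (qm_surjective H) (not_dvd_ker H) hb]
      rintro _ ⟨c, hc, rfl⟩
      rw [mem_normalizer_iff_cj, ← cj_map, ← cj_subgroupOf]
      have h2 : (c : G) ∈ centralizer {(b : G)} := by
        rw [mem_centralizer_singleton_iff]
        exact congrArg Subtype.val (mem_centralizer_singleton_iff.1 hc)
      rw [mem_normalizer_iff_cj.1 (centralizer_le_normalizer_XX _ h2)]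
    · intro h2
      have h3 := h2.trans (card_map_dvd _ _)
      have h4 : Nat.card ((XX (b : G)).subgroupOf H) ∣ Nat.card (XX (b : G)) := by
        rw [← card_map_of_injective H.subtype_injective, subgroupOf_map_subtype]
        exact card_dvd_of_le inf_le_left
      exact odd_XX _ (h3.trans h4)
  exact h1 ⟨x, hx, rfl⟩

theorem mem_ker_iff (H : Subgroup G) {x : H} : qm H x = 1 ↔ (x : G) ∈ OO H := by
  rw [← MonoidHom.mem_ker, ker_qm]
  constructor
  · exact fun h => ⟨x, h, rfl⟩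
  · rintro ⟨y, hy, hyx⟩
    rwa [← Subtype.ext hyx]

/-! ### `E` in the quotient -/

variable {S : Subgroup G}

/-- `E` acts trivially on `K / O(K)`, `K ∈ Om(S)` -/
theorem commutator_ES_le (h : Hyp Om) (hS : IsPGroup 2 S) {K : Subgroup G} (hK : K ∈ OmS Om S) :
    ⁅K, ES Om S⁆ ≤ OO K := by
  refine Trivial.commutator_le h hK.1 (syl_inf hS hK) (hS.to_le (ES_le h hS))
    ((ES_le_DD h hS).trans (h.DD_le_normalizer hS hK)) fun a ha x hx => ?_
  exact mem_centralizer_iff.1 (DD_le_centralizer_ES h hS (inf_le_DD hK hx)) a ha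

theorem mem_cov (h : Hyp Om) (hS : IsPGroup 2 S) {K : Subgroup G} (hK : K ∈ OmS Om S) {s : G}
    (hs : s ∈ ES Om S) : K ∈ cov Om (centralizer {s}) := by
  rw [mem_cov_cent h (a := 1) (by rw [pow_one, pow_two]; exact ES_sq h hS hs)]
  refine ⟨hK.1, fun k hk => ?_⟩
  have h1 := commutator_ES_le h hS hK (commutator_mem_commutator hk hs)
  rwa [commutatorElement_def] at h1

theorem DD_le_cent (h : Hyp Om) (hS : IsPGroup 2 S) {s : G} (hs : s ∈ ES Om S) :
    DD Om S ≤ centralizer {s} :=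
  (DD_le_centralizer_ES h hS).trans (centralizer_le (Set.singleton_subset_iff.2 hs))

theorem ES_le_cent (h : Hyp Om) (hS : IsPGroup 2 S) {s : G} (hs : s ∈ ES Om S) :
    ES Om S ≤ centralizer {s} := (ES_le_DD h hS).trans (DD_le_cent h hS hs)

/-- the image of `D(S)` in `H / O(H)` -/
def TB (Om : Set (Subgroup G)) (S H : Subgroup G) : Subgroup (HQ H) := ((DD Om S).subgroupOf H).map (qm H)

theorem isPGroup_TB (hS : IsPGroup 2 S) (H : Subgroup G) : IsPGroup 2 (TB Om S H) :=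
  ((hS.to_le DD_le).comap_subtype).map _

theorem tr_mem_OmS (h : Hyp Om) (ty : ∀ K ∈ Om, IsType K) (hS : IsPGroup 2 S) {K : Subgroup G} (hK : K ∈ OmS Om S)
    {s : G} (hs : s ∈ ES Om S) :
    tr (centralizer {s}) K ∈ OmS (fam Om (centralizer {s})) (TB Om S (centralizer {s})) := by
  refine mem_OmS_fam ty (mem_cov h hS hK hs) (DD_le_cent h hS hs) (hS.to_le DD_le) ?_
  rw [OmS_DD hS]
  exact hK

/-- the image of `E` is contained in the group `E` of `C(s) / O(C(s))` -/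
theorem qm_mem_ES (h : Hyp Om) (ty : ∀ K ∈ Om, IsType K) (hS : IsPGroup 2 S) {s : G} (hs : s ∈ ES Om S)
    {e : centralizer ({s} : Set G)} (he : (e : G) ∈ ES Om S) :
    qm (centralizer {s}) e ∈ ES (fam Om (centralizer {s})) (TB Om S (centralizer {s})) := by
  have h1 : ES Om S ≤ ((ES (fam Om (centralizer {s})) (TB Om S (centralizer {s}))).comap
      (qm (centralizer {s}))).map (centralizer ({s} : Set G)).subtype := by
    rw [ES_le_iff]
    intro K hK
    refine ⟨⟨zz K, zz_mem_of_cov h (mem_cov h hS hK hs)⟩, ?_, rfl⟩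
    rw [SetLike.mem_coe, mem_comap, ← zz_tr h ty (mem_cov h hS hK hs)]
    exact zz_mem_ES (tr_mem_OmS h ty hS hK hs)
  obtain ⟨e', he', hee⟩ := h1 he
  have h2 : e' = e := Subtype.ext hee
  rw [← h2]
  exact he'

/-! ### (2B) -/

theorem two (hodd : OddStmt.{u}) (hfix : FixStmt.{u}) (h : Hyp Om) (ty : ∀ K ∈ Om, IsType K) (hS : IsPGroup 2 S)
    {s : G} (hs : s ∈ ES Om S) (hp : HasPieces (fam Om (centralizer {s}))) {B : Subgroup G} (hB : B ≤ ES Om S)
    (h4 : Nat.card B = 4) : Del B ⊓ centralizer (ES Om S : Set G) ≤ XX s := by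
  rintro u ⟨hu, huE⟩
  set H := centralizer ({s} : Set G) with hH
  have huH : u ∈ H := centralizer_le (Set.singleton_subset_iff.2 hs) huE
  have hBH : B ≤ H := hB.trans (ES_le_cent h hS hs)
  have hf := hyp_fam h ty H
  have hT := isPGroup_TB (Om := Om) hS H
  set B' : Subgroup (HQ H) := (B.subgroupOf H).map (qm H) with hB'
  have hB2 : IsPGroup 2 B := hS.to_le (hB.trans (ES_le h hS))
  have hcard : Nat.card B' = 4 := by
    have h1 : Function.Injective ((qm H).comp (B.subgroupOf H).subtype) :=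
      injOn_two (not_dvd_ker H) hB2.comap_subtype
    have h2 : B' = ((qm H).comp (B.subgroupOf H).subtype).range := by
      rw [MonoidHom.range_comp, range_subtype]
    rw [h2, ← Nat.card_congr (MonoidHom.ofInjective h1).toEquiv,
      Nat.card_congr (subgroupOfEquivOfLe hBH).toEquiv, h4]
  have hBE : B' ≤ ES (fam Om H) (TB Om S H) := by
    rintro _ ⟨b, hb, rfl⟩
    exact qm_mem_ES h ty hS hs (hB hb)
  have key : qm H ⟨u, huH⟩ = 1 := by
    refine CoreTwoB.eq_one (core_HQ H) (E := ES (fam Om H) (TB Om S H)) (B := B') (fun b hb => ES_sq hf hT hb)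
      hBE (by omega) ?_ ?_
    · rintro _ ⟨b, hb, rfl⟩ hb1
      refine qm_mem_XX ?_ ?_
      · exact Subtype.ext (ES_sq h hS (hB hb))
      · refine Del_le (mem_subgroupOf.1 hb) ?_ hu
        intro h1
        apply hb1
        have h2 : b = 1 := Subtype.ext h1
        rw [h2, map_one]
    · intro L hL
      exact CoresH.component_le_good hf (ty_fam ty H) hp hT (core_HQ H) (hodd.evQ _)
        (fun p D hD hc => hfix _ _ hf (core_HQ H) p D hD hc) hL
  exact (mem_ker_iff H).1 key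

/-! ### Generation -/

/-- the subgroup of `H` generated modulo `O(H)` by the members -/
def LL (Om : Set (Subgroup G)) (H : Subgroup G) : Subgroup G := ((sSup (fam Om H)).comap (qm H)).map H.subtype

theorem mem_LL {H : Subgroup G} {x : H} : (x : G) ∈ LL Om H ↔ qm H x ∈ sSup (fam Om H) := by
  constructor
  · rintro ⟨y, hy, hyx⟩
    rwa [← Subtype.ext hyx]
  · exact fun h => ⟨x, h, rfl⟩

theorem LL_normal (h : Hyp Om) (ty : ∀ K ∈ Om, IsType K) (H : Subgroup G) : H ≤ normalizer (LL Om H : Set G) := by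
  intro g hg
  have h1 := (CoresH.sSup_normal (hyp_fam h ty H)).comap (qm H)
  rw [mem_normalizer_iff_cj]
  refine eq_of_le_of_card_ge ?_ (by rw [card_cj])
  rintro _ ⟨_, ⟨x, hx, rfl⟩, rfl⟩
  exact ⟨⟨g, hg⟩ * x * ⟨g, hg⟩⁻¹, h1.conj_mem x hx _, rfl⟩

theorem DD_le_LL (h : Hyp Om) (ty : ∀ K ∈ Om, IsType K) (hS : IsPGroup 2 S) {s : G} (hs : s ∈ ES Om S) :
    DD Om S ≤ LL Om (centralizer {s}) := by
  rw [DD_le_iff]
  intro K hK x hx
  have hxH : x ∈ centralizer ({s} : Set G) := DD_le_cent h hS hs (inf_le_DD hK hx)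
  obtain ⟨a, ha⟩ := hS ⟨x, hx.2⟩
  refine (mem_LL (x := ⟨x, hxH⟩)).2 ?_
  have hx2 : x ^ 2 ^ a = 1 := congrArg Subtype.val ha
  have h1 := mem_tr ty (mem_cov h hS hK hs) (x := ⟨x, hxH⟩) hx.1 (a := a) (Subtype.ext hx2)
  exact le_sSup (tr_mem (mem_cov h hS hK hs)) h1

theorem LL_le (h : Hyp Om) (ty : ∀ K ∈ Om, IsType K) (hS : IsPGroup 2 S) (h8 : 8 ≤ Nat.card (ES Om S)) {s : G}
    (hs : s ∈ ES Om S) (hp : HasPieces (fam Om (centralizer {s}))) :
    LL Om (centralizer {s}) ≤ XX s ⊔ ⨆ (b : G) (_ : b ∈ ES Om S ∧ b ≠ 1 ∧ b ≠ s),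
      centralizer {s} ⊓ centralizer {b} := by
  set H := centralizer ({s} : Set G) with hH
  set R := XX s ⊔ ⨆ (b : G) (_ : b ∈ ES Om S ∧ b ≠ 1 ∧ b ≠ s), H ⊓ centralizer {b} with hR
  have hf := hyp_fam h ty H
  have hT := isPGroup_TB (Om := Om) hS H
  have hEH := ES_le_cent h hS hs
  have hE2 : IsPGroup 2 (ES Om S) := hS.to_le (ES_le h hS)
  set E' : Subgroup (HQ H) := ((ES Om S).subgroupOf H).map (qm H) with hE'
  have hcard : Nat.card E' = Nat.card (ES Om S) := by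
    have h1 : Function.Injective ((qm H).comp ((ES Om S).subgroupOf H).subtype) :=
      injOn_two (not_dvd_ker H) hE2.comap_subtype
    have h2 : E' = ((qm H).comp ((ES Om S).subgroupOf H).subtype).range := by
      rw [MonoidHom.range_comp, range_subtype]
    rw [h2, ← Nat.card_congr (MonoidHom.ofInjective h1).toEquiv,
      Nat.card_congr (subgroupOfEquivOfLe hEH).toEquiv]
  have hEE : E' ≤ ES (fam Om H) (TB Om S H) := by
    rintro _ ⟨b, hb, rfl⟩
    exact qm_mem_ES h ty hS hs hb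
  -- modulo `O(H)`
  have key : sSup (fam Om H) ≤ (R.subgroupOf H).map (qm H) := by
    refine (CoresH.sSup_le_half hf hp hT).trans ?_
    rw [closure_le]
    intro y hy
    -- `C_{E'}(y)` has order at least 4
    have h1 : (ES (fam Om H) (TB Om S H) ⊓ centralizer {y}).relIndex E' ≤ 2 :=
      (relIndex_le_of_le_right hEE (index_ne_zero_of_finite (H := Subgroup.subgroupOf _ _))).trans hy
    have h2 : 4 ≤ Nat.card (ES (fam Om H) (TB Om S H) ⊓ centralizer {y} ⊓ E' : Subgroup (HQ H)) := by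
      have h3 : Nat.card (ES (fam Om H) (TB Om S H) ⊓ centralizer {y} ⊓ E' : Subgroup (HQ H)) *
          (ES (fam Om H) (TB Om S H) ⊓ centralizer {y} ⊓ E').relIndex E' = Nat.card E' := by
        have h4 := relIndex_mul_relIndex (⊥ : Subgroup (HQ H)) (ES (fam Om H) (TB Om S H) ⊓ centralizer {y} ⊓ E')
          E' bot_le inf_le_right
        rwa [relIndex_bot_left, relIndex_bot_left] at h4
      rw [inf_relIndex_right] at h3
      by_contra h4
      have h5 := Nat.mul_le_mul (Nat.le_of_lt_succ (not_le.1 h4)) h1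
      omega
    obtain ⟨_, hb, hb1, hbs⟩ := Tor.exists_ne h2 (a := qm H ⟨s, mem_centralizer_singleton_iff.2 rfl⟩) (by
      rw [← map_mul, ← map_one (qm H)]
      congr 1
      exact Subtype.ext (ES_sq h hS hs))
    obtain ⟨b, hbE, rfl⟩ := hb.2
    have hbb : b * b = 1 := Subtype.ext (ES_sq h hS hbE)
    have h3 : y ∈ centralizer {qm H b} := by
      rw [mem_centralizer_singleton_iff]
      exact (mem_centralizer_singleton_iff.1 hb.1.2).symm
    rw [← centralizer_map (qm_surjective H) (not_dvd_ker H) hbb] at h3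
    obtain ⟨c, hc, rfl⟩ := h3
    refine ⟨c, ?_, rfl⟩
    rw [SetLike.mem_coe, mem_subgroupOf, hR]
    refine mem_sup_right ?_
    have h4 : H ⊓ centralizer {(b : G)} ≤ ⨆ (b : G) (_ : b ∈ ES Om S ∧ b ≠ 1 ∧ b ≠ s), H ⊓ centralizer {b} := by
      refine le_iSup₂ (f := fun (b : G) (_ : b ∈ ES Om S ∧ b ≠ 1 ∧ b ≠ s) => H ⊓ centralizer {b}) (b : G)
        ⟨hbE, ?_, ?_⟩
      · intro h5
        apply hb1
        have h6 : b = 1 := Subtype.ext h5
        rw [h6, map_one]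
      · intro h5
        apply hbs
        congr 1
        exact Subtype.ext h5
    exact h4 ⟨c.2, mem_centralizer_singleton_iff.2 (congrArg Subtype.val (mem_centralizer_singleton_iff.1 hc))⟩
  rintro _ ⟨x, hx, rfl⟩
  obtain ⟨r, hr, hrx⟩ := key hx
  have h1 : qm H (x * r⁻¹) = 1 := by rw [map_mul, map_inv, hrx, mul_inv_cancel]
  have h2 := (mem_ker_iff H).1 h1
  have h3 : (x : G) = ((x * r⁻¹ : H) : G) * (r : G) := by simp
  change (x : G) ∈ R
  rw [h3]
  exact R.mul_mem (mem_sup_left h2) hr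

/-! ### (TOR) -/

/-- `⁅Q, O(C(a)) ⊓ C(b)⁆ ≤ O(C(b))` -/
theorem comm_mem_XX (hct : CTStmt.{u}) (h : Hyp Om) (ty : ∀ K ∈ Om, IsType K) (hS : IsPGroup 2 S) {b : G}
    (hb : b ∈ ES Om S) (hp : HasPieces (fam Om (centralizer {b}))) {K : Subgroup G} (hK : K ∈ OmS Om S) {a : G}
    (ha : a ∈ ES Om S) {x : G} (hx : x ∈ XX a) (hxb : x ∈ centralizer {b}) {q : G} (hq : q ∈ K ⊓ S) :
    q * x * q⁻¹ * x⁻¹ ∈ XX b := by
  set H := centralizer ({b} : Set G) with hH
  have hKc := mem_cov h hS hK hb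
  have hDH := DD_le_cent h hS hb
  have hQH : K ⊓ S ≤ H := (inf_le_DD hK).trans hDH
  have haH : a ∈ H := ES_le_cent h hS hb ha
  have h1 := hct (HQ H) (fam Om H) (hyp_fam h ty H) (ty_fam ty H) hp (core_HQ H) (tr H K) (tr_mem hKc) _
    (syl_tr ty hKc (syl_inf hS hK) hQH) (qm H ⟨a, haH⟩) (by
      rw [← map_mul, ← map_one (qm H)]
      congr 1
      exact Subtype.ext (ES_sq h hS ha)) (by
      rintro _ ⟨y, hy, rfl⟩
      rw [← map_mul, ← map_mul]
      congr 1
      exact Subtype.ext (mem_centralizer_iff.1 (DD_le_centralizer_ES h hS (inf_le_DD hK hy)) a ha).symm)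
    (qm H ⟨x, hxb⟩) (qm_mem_XX (Subtype.ext (ES_sq h hS ha)) hx) (qm H ⟨q, hQH hq⟩) ⟨⟨q, hQH hq⟩, hq, rfl⟩
  have h2 : qm H (⟨q, hQH hq⟩ * ⟨x, hxb⟩ * ⟨q, hQH hq⟩⁻¹ * ⟨x, hxb⟩⁻¹) = 1 := by
    rw [map_mul, map_mul, map_mul, h1, map_inv, map_inv]
    group
  exact (mem_ker_iff H).1 h2

/-- (TOR) for `Q = K ⊓ S` -/
theorem commutator_Q_le (hct : CTStmt.{u}) (h : Hyp Om) (ty : ∀ K ∈ Om, IsType K) (hS : IsPGroup 2 S) {b : G}
    (hb : b ∈ ES Om S) (hp : HasPieces (fam Om (centralizer {b}))) {K : Subgroup G} (hK : K ∈ OmS Om S) {a : G}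
    (ha : a ∈ ES Om S) : ⁅XX a ⊓ centralizer {b}, K ⊓ S⁆ ≤ XX b := by
  rw [commutator_comm, Subgroup.commutator_le]
  intro q hq x hx
  rw [commutatorElement_def]
  exact comm_mem_XX hct h ty hS hb hp hK ha hx.1 hx.2 hq

/-- (TOR) -/
theorem tor (hct : CTStmt.{u}) (h : Hyp Om) (ty : ∀ K ∈ Om, IsType K) (hS : IsPGroup 2 S) {b : G}
    (hb : b ∈ ES Om S) (hp : HasPieces (fam Om (centralizer {b}))) {a : G}
    (ha : a ∈ ES Om S) : ⁅XX a ⊓ centralizer {b}, ES Om S⁆ ≤ XX b := by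
  rw [Subgroup.commutator_le]
  intro x hx e he
  have hEb := ES_le_cent h hS hb
  have key : ES Om S ≤ ((centralizer {qm (centralizer {b}) ⟨x, hx.2⟩}).comap
      (qm (centralizer {b}))).map (centralizer ({b} : Set G)).subtype := by
    rw [ES_le_iff]
    intro K hK
    have hz := hEb (zz_mem_ES hK)
    refine ⟨⟨zz K, hz⟩, ?_, rfl⟩
    rw [SetLike.mem_coe, mem_comap, mem_centralizer_singleton_iff]
    have h1 := comm_mem_XX hct h ty hS hb hp hK ha hx.1 hx.2 (h.zz_mem_inf hS hK)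
    have h2 : qm (centralizer {b}) (⟨zz K, hz⟩ * ⟨x, hx.2⟩ * ⟨zz K, hz⟩⁻¹ * ⟨x, hx.2⟩⁻¹) = 1 :=
      (mem_ker_iff _).2 h1
    rw [map_mul, map_mul, map_mul, map_inv, map_inv, mul_inv_eq_one, mul_inv_eq_iff_eq_mul] at h2
    exact h2
  obtain ⟨e', he', hee⟩ := key he
  rw [SetLike.mem_coe, mem_comap, mem_centralizer_singleton_iff] at he'
  have h2 : qm (centralizer {b}) (⟨x, hx.2⟩ * e' * ⟨x, hx.2⟩⁻¹ * e'⁻¹) = 1 := by
    rw [map_mul, map_mul, map_mul, ← he', map_inv, map_inv]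
    group
  have h3 := (mem_ker_iff _).1 h2
  rw [commutatorElement_def, ← hee]
  exact h3

/-! ### The hypotheses of THEOREM F and of the closing theorem -/

/-- **the hypotheses of THEOREM F** -/
theorem tor_ES (hodd : OddStmt.{u}) (hfix : FixStmt.{u}) (hct : CTStmt.{u}) (h : Hyp Om) (ty : ∀ K ∈ Om, IsType K)
    (hS : IsPGroup 2 S) (h8 : 8 ≤ Nat.card (ES Om S))
    (hp : ∀ s ∈ ES Om S, s ≠ 1 → HasPieces (fam Om (centralizer {s}))) : Tor (ES Om S) where
  solv X hX := hodd X fun h2 => hX h2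
  comm _ ha _ hb := ES_comm h hS ha hb
  sq a ha := by rw [pow_two]; exact ES_sq h hS ha
  card := h8
  tor a ha _ b hb hb1 := tor hct h ty hS hb (hp b hb hb1) ha
  two B hB h4 s hs hs1 := two hodd hfix h ty hS hs (hp s hs hs1) hB h4

theorem cdata (hodd : OddStmt.{u}) (hfix : FixStmt.{u}) (hct : CTStmt.{u}) (h : Hyp Om) (ty : ∀ K ∈ Om, IsType K)
    (hS : IsPGroup 2 S) (h8 : 8 ≤ Nat.card (ES Om S))
    (hp : ∀ s ∈ ES Om S, s ≠ 1 → HasPieces (fam Om (centralizer {s}))) :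
    CData Om S (ES Om S) (DF (ES Om S)) where
  out := (tor_ES hodd hfix hct h ty hS h8 hp).fout
  sq _ ha := ES_sq h hS ha
  comm _ ha _ hb := ES_comm h hS ha hb
  le := le_rfl
  four := (tor_ES hodd hfix hct h ty hS h8 hp).exists_four_le
  gen K hK := ⟨LL Om (centralizer {zz K}), LL_normal h ty _, DD_le_LL h ty hS (zz_mem_ES hK),
    LL_le h ty hS h8 (zz_mem_ES hK) (hp _ (zz_mem_ES hK) (h.zz_ne hK.1))⟩

/-! ### COROLLARY E -/

/-- `E` has the same order for all Sylow 2-subgroups -/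
theorem card_ES (h : Hyp Om) (S S' : Sylow 2 G) :
    Nat.card (ES Om (S' : Subgroup G)) = Nat.card (ES Om (S : Subgroup G)) := by
  obtain ⟨g, hg⟩ := exists_cj_sylow S S'
  rw [← hg, ← cj_ES h, card_cj]

/-- **COROLLARY E** : `D(E) = 1` -/
theorem DF_eq_bot (hodd : OddStmt.{u}) (hfix : FixStmt.{u}) (hct : CTStmt.{u}) (h : Hyp Om)
    (ty : ∀ K ∈ Om, IsType K) (hne : Om.Nonempty)
    (hcon : ∀ K ∈ Om, ∀ L ∈ Om, Relation.ReflTransGen (Adj Om) K L)
    (hO : ∀ N : Subgroup G, N.Normal → ¬ 2 ∣ Nat.card N → N = ⊥)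
    (hp : ∀ s : G, orderOf s = 2 → HasPieces (fam Om (centralizer {s})))
    (S : Sylow 2 G) (h8 : 8 ≤ Nat.card (ES Om (S : Subgroup G))) : DF (ES Om (S : Subgroup G)) = ⊥ := by
  have hp' : ∀ S : Sylow 2 G, ∀ s ∈ ES Om (S : Subgroup G), s ≠ 1 → HasPieces (fam Om (centralizer {s})) :=
    fun S s hs hs1 => hp s (orderOf_two (ES_sq h S.isPGroup' hs) hs1)
  exact CData.eq_bot h hne hcon hO (fun S => ES Om (S : Subgroup G)) (fun S => DF (ES Om (S : Subgroup G)))
    (fun S' => cdata hodd hfix hct h ty S'.isPGroup' (by rw [card_ES h S S']; exact h8) (hp' S')) S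

/-- **COROLLARY E** : `Q = K ⊓ S` centralises `O(C(s))` for `s ∈ E`, `s ≠ 1` -/
theorem commutator_eq_bot (hodd : OddStmt.{u}) (hfix : FixStmt.{u}) (hct : CTStmt.{u}) (h : Hyp Om)
    (ty : ∀ K ∈ Om, IsType K) (hne : Om.Nonempty)
    (hcon : ∀ K ∈ Om, ∀ L ∈ Om, Relation.ReflTransGen (Adj Om) K L)
    (hO : ∀ N : Subgroup G, N.Normal → ¬ 2 ∣ Nat.card N → N = ⊥)
    (hp : ∀ s : G, orderOf s = 2 → HasPieces (fam Om (centralizer {s})))
    (S : Sylow 2 G) (h8 : 8 ≤ Nat.card (ES Om (S : Subgroup G))) {K : Subgroup G} (hK : K ∈ OmS Om (S : Subgroup G))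
    {s : G} (hs : s ∈ ES Om (S : Subgroup G)) (hs1 : s ≠ 1) : ⁅XX s, K ⊓ (S : Subgroup G)⁆ = ⊥ := by
  have hS := S.isPGroup'
  have hp' : ∀ s ∈ ES Om (S : Subgroup G), s ≠ 1 → HasPieces (fam Om (centralizer {s})) :=
    fun s hs hs1 => hp s (orderOf_two (ES_sq h hS hs) hs1)
  have h1 := (tor_ES hodd hfix hct h ty hS h8 hp').commutator_Q_le (Q := K ⊓ (S : Subgroup G))
    (hS.to_le inf_le_right)
    (fun q hq a ha => (mem_centralizer_iff.1 (DD_le_centralizer_ES h hS (inf_le_DD hK hq)) a ha).symm)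
    (fun a ha _ b hb hb1 => commutator_Q_le hct h ty hS hb (hp' b hb hb1) hK ha) hs hs1
  rw [DF_eq_bot hodd hfix hct h ty hne hcon hO hp S h8, le_bot_iff] at h1
  exact h1

end

end Cfsg.Agent.Cit.CoresG
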