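import Cfsg.Agent.Cit.Branches
import Cfsg.Agent.Cit.CoresG
import Cfsg.Agent.Cit.CloOne
import Cfsg.Agent.Cit.TypeDet.FourMain
import Cfsg.Agent.Cit.TypeDet.Trans

/-!
# `CoreFour` : `|Om(S)| = 4` (project CIT, S1310, rows F). SKELETON

`four_cases` : for `|Om(S)| = 4` and one class either all members of `Om(S)` have the same involution (`AllEq`), or the
involutions occur in pairs (`Tau2`), or different members have different involutions (`CloOne.Inj`).

* `AllEq` : `FourEq` (input): `PΩ₈⁺(q)`;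
* `Tau2` : `FourTau` (input): `PSp₄`-, `L₄`-, `Ω₇`-, `Ω₈⁻`-pieces: `Ω₉, …, Ω₁₂⁻`;
* `Inj` : `|E(S)| ≥ 8`; connectedness of the commuting graph (`ConnStmt`, THEOREM CLOSE), COROLLARY E (`CoresG`) give
  (C); the family `hatF Om` of the groups generated by the Sylow 2-subgroups of the members is exact; its type
  determination (`four_KL`) from `HatStmt`; exactness of `Om` and the charts of the `Δ_k` from `ExactStmt`;
  identification `IdentC`, `IdentA5`, `IdentA6`.
-/

set_option autoImplicit false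
set_option linter.unusedSectionVars false
set_option linter.style.haveILetI false

namespace Cfsg.Agent.Cit.CoreFour

open Subgroup Cfsg Cfsg.Agent.Cit Branches

universe u

/-! ### The three cases -/

section cases

variable {G : Type*} [Group G] {Om : Set (Subgroup G)}

/-- the involutions of the members of `Om(S)` occur in pairs -/
def Tau2 (Om : Set (Subgroup G)) : Prop :=
  ∀ S : Sylow 2 G, ∀ K ∈ OmS Om (S : Subgroup G), ∃ L ∈ OmS Om (S : Subgroup G), L ≠ K ∧ zz L = zz K ∧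
    ∀ M ∈ OmS Om (S : Subgroup G), zz M = zz K → M = K ∨ M = L

/-- the members of `Om(S)` with the same involution as `K` -/
def Tws (Om : Set (Subgroup G)) (S K : Subgroup G) : Set (Subgroup G) := {M | M ∈ OmS Om S ∧ zz M = zz K}

theorem Tws_subset {S K : Subgroup G} : Tws Om S K ⊆ OmS Om S := fun _ h => h.1

theorem mem_Tws_self {S K : Subgroup G} (hK : K ∈ OmS Om S) : K ∈ Tws Om S K := ⟨hK, rfl⟩

theorem Tws_cj (hO : ∀ K ∈ Om, ∀ g, cj g K ∈ Om) (hz : ∀ K ∈ Om, ∀ g, zz (cj g K) = g * zz K * g⁻¹) (g : G)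
    {S K : Subgroup G} (hK : K ∈ Om) : Tws Om (cj g S) (cj g K) = cj g '' Tws Om S K := by
  ext M
  constructor
  · rintro ⟨h1, h2⟩
    refine ⟨cj g⁻¹ M, ⟨?_, ?_⟩, cj_cj_inv g M⟩
    · have h3 := cj_mem_OmS hO g⁻¹ h1
      rwa [cj_inv_cj] at h3
    · rw [hz M h1.1, h2, hz K hK]
      group
  · rintro ⟨N, ⟨h1, h2⟩, rfl⟩
    exact ⟨cj_mem_OmS hO g h1, by rw [hz N h1.1, hz K hK, h2]⟩

/-- `|Tws Om S K|` is the same for all `S` and `K ∈ Om(S)` -/
theorem ncard_Tws [Finite G] (h : Hyp Om) (hcls : ∀ K ∈ Om, ∀ J ∈ Om, ∃ g, J = cj g K) (S S' : Sylow 2 G)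
    {K L : Subgroup G} (hK : K ∈ OmS Om (S : Subgroup G)) (hL : L ∈ OmS Om (S' : Subgroup G)) :
    (Tws Om (S' : Subgroup G) L).ncard = (Tws Om (S : Subgroup G) K).ncard := by
  obtain ⟨x, hx⟩ := exists_cj_sylow S S'
  have hz := fun K (hK : K ∈ Om) (g : G) => h.zz_cj hK g
  have h1 : cj x K ∈ OmS Om (S' : Subgroup G) := by rw [← hx]; exact cj_mem_OmS h.conj x hK
  obtain ⟨g, hg⟩ := hcls (cj x K) h1.1 L hL.1
  obtain ⟨n, hn, hnL⟩ := TypeDet.exists_normalizer_cj h S' h1 hL hg.symm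
  have h2 : Tws Om (S' : Subgroup G) (cj x K) = cj x '' Tws Om (S : Subgroup G) K := by
    rw [← hx]; exact Tws_cj h.conj hz x hK.1
  have h3 : Tws Om (S' : Subgroup G) L = cj n '' Tws Om (S' : Subgroup G) (cj x K) := by
    have h4 : ∀ M : Subgroup G, Tws Om (S' : Subgroup G) M = Tws Om (DD Om (S' : Subgroup G)) M := by
      intro M
      unfold Tws
      rw [OmS_DD S'.isPGroup']
    rw [h4, h4, ← Tws_cj h.conj hz n h1.1, hnL, mem_normalizer_iff_cj.1 hn]
  rw [h3, Set.ncard_image_of_injective _ (cj_injective n), h2, Set.ncard_image_of_injective _ (cj_injective x)]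

/-- **the three cases for `|Om(S)| = 4`** -/
theorem four_cases [Finite G] (h : Hyp Om) (hcls : ∀ K ∈ Om, ∀ J ∈ Om, ∃ g, J = cj g K) (hne : Om.Nonempty)
    (hc : Card Om 4) : AllEq Om ∨ Tau2 Om ∨ CloOne.Inj Om := by
  obtain ⟨S₀⟩ : Nonempty (Sylow 2 G) := inferInstance
  obtain ⟨K₀, hK₀⟩ := h.OmS_nonempty S₀ hne
  have hall := fun (S : Sylow 2 G) (K : Subgroup G) (hK : K ∈ OmS Om (S : Subgroup G)) =>
    ncard_Tws h hcls S₀ S hK₀ hK
  generalize (Tws Om (S₀ : Subgroup G) K₀).ncard = n at hall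
  have hle : n ≤ 4 := by
    rw [← hall S₀ K₀ hK₀, ← hc S₀]
    exact Set.ncard_le_ncard Tws_subset (Set.toFinite _)
  have hpos : 0 < n := by
    rw [← hall S₀ K₀ hK₀, Set.ncard_pos (Set.toFinite _)]
    exact ⟨K₀, mem_Tws_self hK₀⟩
  interval_cases n
  · -- `n = 1`
    right; right
    intro K hK L hL hz
    obtain ⟨S, hKS, -⟩ := h.exists_sylow hK
    have hLS := h.mem_OmS_of_zz_eq S hKS hL hz.symm
    obtain ⟨a, ha⟩ := Set.ncard_eq_one.1 (hall S K hKS)
    have h1 : K ∈ Tws Om (S : Subgroup G) K := mem_Tws_self hKS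
    have h2 : L ∈ Tws Om (S : Subgroup G) K := ⟨hLS, hz.symm⟩
    rw [ha] at h1 h2
    rw [Set.mem_singleton_iff.1 h1, Set.mem_singleton_iff.1 h2]
  · -- `n = 2`
    right; left
    intro S K hK
    obtain ⟨a, b, hab, hT⟩ := Set.ncard_eq_two.1 (hall S K hK)
    have h1 : K ∈ Tws Om (S : Subgroup G) K := mem_Tws_self hK
    rw [hT] at h1
    have key : ∀ c d : Subgroup G, c ≠ d → Tws Om (S : Subgroup G) K = {c, d} → K = c →
        ∃ L ∈ OmS Om (S : Subgroup G), L ≠ K ∧ zz L = zz K ∧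
          ∀ M ∈ OmS Om (S : Subgroup G), zz M = zz K → M = K ∨ M = L := by
      rintro c d hcd hT rfl
      have h2 : d ∈ Tws Om (S : Subgroup G) K := by rw [hT]; exact Or.inr rfl
      refine ⟨d, h2.1, hcd.symm, h2.2, fun M hM hz => ?_⟩
      have h3 : M ∈ Tws Om (S : Subgroup G) K := ⟨hM, hz⟩
      rw [hT] at h3
      exact h3
    rcases h1 with h1 | h1
    · exact key a b hab hT h1
    · exact key b a hab.symm (by rw [hT, Set.pair_comm]) h1
  · -- `n = 3`
    exfalso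
    have h1 : ∃ L ∈ OmS Om (S₀ : Subgroup G), L ∉ Tws Om (S₀ : Subgroup G) K₀ := by
      by_contra hcon
      push Not at hcon
      have h2 := Set.ncard_le_ncard (fun L hL => hcon L hL) (Set.toFinite (Tws Om (S₀ : Subgroup G) K₀))
      rw [hall S₀ K₀ hK₀, hc S₀] at h2
      omega
    obtain ⟨L, hL, hLn⟩ := h1
    have hdis : Disjoint (Tws Om (S₀ : Subgroup G) K₀) (Tws Om (S₀ : Subgroup G) L) := by
      rw [Set.disjoint_left]
      intro M h2 h3
      exact hLn ⟨hL, h3.2.symm.trans h2.2⟩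
    have h2 : (Tws Om (S₀ : Subgroup G) K₀ ∪ Tws Om (S₀ : Subgroup G) L).ncard ≤ 4 := by
      rw [← hc S₀]
      exact Set.ncard_le_ncard (Set.union_subset Tws_subset Tws_subset) (Set.toFinite _)
    rw [Set.ncard_union_eq hdis (Set.toFinite _) (Set.toFinite _), hall S₀ K₀ hK₀, hall S₀ L hL] at h2
    omega
  · -- `n = 4`
    left
    have h1 : ∀ S : Sylow 2 G, ∀ K ∈ OmS Om (S : Subgroup G),
        Tws Om (S : Subgroup G) K = OmS Om (S : Subgroup G) := fun S K hK =>
      Set.eq_of_subset_of_ncard_le Tws_subset (by rw [hall S K hK, hc S]) (Set.toFinite _)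
    intro S K hK L hL
    have h2 : L ∈ Tws Om (S : Subgroup G) K := by rw [h1 S K hK]; exact hL
    exact h2.2.symm

/-- four different involutions: `|E(S)| ≥ 8` -/
theorem eight_le [Finite G] (h : Hyp Om) (hc : Card Om 4) (hi : CloOne.Inj Om) (S : Sylow 2 G) :
    8 ≤ Nat.card (ES Om (S : Subgroup G)) := by
  have h1 : ((ES Om (S : Subgroup G) : Set G)).ncard = Nat.card (ES Om (S : Subgroup G)) := by
    rw [← Nat.card_coe_set_eq]; rfl
  have h2 : (insert 1 (zz '' OmS Om (S : Subgroup G))).ncard = 5 := by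
    rw [Set.ncard_insert_of_notMem _ (Set.toFinite _), Set.InjOn.ncard_image, hc S]
    · intro K hK L hL hz
      exact hi K hK.1 L hL.1 hz
    · rintro ⟨K, hK, hz⟩
      exact h.zz_ne hK.1 hz
  have h3 : 5 ≤ Nat.card (ES Om (S : Subgroup G)) := by
    rw [← h1, ← h2]
    refine Set.ncard_le_ncard (Set.insert_subset (one_mem _) ?_) (Set.toFinite _)
    rintro _ ⟨K, hK, rfl⟩
    exact zz_mem_ES hK
  have h4 : IsPGroup 2 (ES Om (S : Subgroup G)) := S.isPGroup'.to_le (ES_le h S.isPGroup')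
  haveI : Fact (Nat.Prime 2) := ⟨Nat.prime_two⟩
  obtain ⟨n, hn⟩ := IsPGroup.iff_card.1 h4
  rw [hn] at h3 ⊢
  have h5 : 3 ≤ n := by
    by_contra h6
    have h7 : 2 ^ n ≤ 2 ^ 2 := Nat.pow_le_pow_right (by norm_num) (by omega)
    omega
  calc 8 = 2 ^ 3 := rfl
    _ ≤ 2 ^ n := Nat.pow_le_pow_right (by norm_num) h5

end cases

/-! ### The inputs -/

/-- `AllEq` (EQ) -/
def FourEq : Prop := ∀ (G : Type u) [Group G] [Finite G] (Om : Set (Subgroup G)), MinS Om → Card Om 4 → AllEq Om →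
  HasPieces Om

/-- `Tau2` (TW) -/
def FourTau : Prop := ∀ (G : Type u) [Group G] [Finite G] (Om : Set (Subgroup G)), MinS Om → Card Om 4 → Tau2 Om →
  HasPieces Om

/-- different involutions -/
def FourInj : Prop := ∀ (G : Type u) [Group G] [Finite G] (Om : Set (Subgroup G)), MinS Om → Card Om 4 →
  CloOne.Inj Om → HasPieces Om

/-- **`CoreFour` from the three cases** -/
theorem coreFour_of (h1 : FourEq.{u}) (h2 : FourTau.{u}) (h3 : FourInj.{u}) : CoreFour.{u} := by
  intro G _ _ Om ms hc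
  rcases four_cases ms.hyp ms.cls ms.ne hc with h | h | h
  · exact h1 G Om ms hc h
  · exact h2 G Om ms hc h
  · exact h3 G Om ms hc h

end Cfsg.Agent.Cit.CoreFour
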