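import Cfsg.Agent.Cit.EqHad

/-!
# All `z_K`, `K ∈ Om(S)`, equal, `|Om(S)| ≥ 3`: `EqFour`

* `EqZ.eqFour` : `|Om(S)| ≥ 3` and some `zz L ≠ zz K` commutes with `zz K`: then `|Om(S)| = 4` and the products
  `x₀x₁x₂x₃` are again involutions of members;
* `EqFour.exists_swap` : `z`, `s = x₀x₁x₂x₃`, `s z` are conjugate in `N(⟨z, s⟩) ∩ C(x_i x_j)`.
-/

set_option autoImplicit false
set_option linter.style.haveILetI false
set_option linter.unusedSectionVars false

namespace Cfsg.Agent.Cit.EqHad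

open Subgroup Cfsg Cfsg.Agent.Cit.EqClose Cfsg.Agent.Cit.EqType

variable {G : Type*} [Group G] [Finite G] {Om : Set (Subgroup G)} {z z' : G}

/-- elements of order four of the members of `Om(S)` -/
structure Xs (Om : Set (Subgroup G)) (S : Subgroup G) (K : Fin 4 → Subgroup G) (x : Fin 4 → G) : Prop where
  two : IsPGroup 2 S
  inj : Function.Injective K
  mem : ∀ i, K i ∈ OmS Om S
  x_mem : ∀ i, x i ∈ K i ⊓ S
  four : ∀ i, orderOf (x i) = 4

namespace Xs

variable {S : Subgroup G} {K J : Fin 4 → Subgroup G} {x x' : Fin 4 → G}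

theorem comm (h : Xs Om S K x) (hH : Hyp Om) (i j : Fin 4) : x i * x j = x j * x i := by
  by_cases hij : i = j
  · rw [hij]
  · exact hH.comm h.two (h.mem i) (h.mem j) (fun h1 => hij (h.inj h1)) (h.x_mem i) (h.x_mem j)

/-- the product -/
def pr (x : Fin 4 → G) : G := x 0 * x 1 * x 2 * x 3

theorem conj_pr (k : G) (hk : ∀ i, k * x i * k⁻¹ = x' i) : k * pr x * k⁻¹ = pr x' := by
  unfold pr
  rw [← hk 0, ← hk 1, ← hk 2, ← hk 3]
  group

/-- replace one factor -/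
theorem step (h : Xs Om S K x) (hH : Hyp Om) (ty : ∀ K ∈ Om, TyTwo K) (j : Fin 4) {y : G} (hy : y ∈ K j ⊓ S)
    (hy4 : orderOf y = 4) (hs : ∃ L ∈ Om, zz L = pr x) :
    Xs Om S K (Function.update x j y) ∧ ∃ L ∈ Om, zz L = pr (Function.update x j y) := by
  obtain ⟨L, hL, hzL⟩ := hs
  refine ⟨⟨h.two, h.inj, h.mem, fun i => ?_, fun i => ?_⟩, ?_⟩
  · by_cases hij : i = j
    · subst hij; rw [Function.update_self]; exact hy
    · rw [Function.update_of_ne hij]; exact h.x_mem i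
  · by_cases hij : i = j
    · subst hij; rw [Function.update_self]; exact hy4
    · rw [Function.update_of_ne hij]; exact h.four i
  · obtain ⟨A, hA⟩ : ∃ A : Subgroup G, A = DD Om S ⊓ centralizer ((K j ⊓ S : Subgroup G) : Set G) := ⟨_, rfl⟩
    obtain ⟨k, -, hkA, hkx⟩ := hH.conj_four_rel (h.mem j).1 (A := A)
      (fun a ha b hb ha4 hb4 => hH.conj_four (h.mem j).1 (ty _ (h.mem j).1) ha hb ha4 hb4)
      (syl_inf h.two (h.mem j)) (h.two.to_le (by rw [hA]; exact inf_le_left.trans DD_le))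
      (by rw [hA]; exact inf_le_left.trans (hH.DD_le_normalizer h.two (h.mem j)))
      (fun a ha q hq => by
        rw [hA] at ha
        exact (mem_centralizer_iff.1 ha.2 q hq).symm) (h.x_mem j) hy (h.four j) hy4
    refine ⟨cj k L, hH.conj L hL k, ?_⟩
    rw [hH.zz_cj hL, hzL]
    refine conj_pr k fun i => ?_
    by_cases hij : i = j
    · subst hij; rw [Function.update_self]; exact hkx
    · rw [Function.update_of_ne hij]
      have h1 : x i ∈ A := by
        rw [hA]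
        refine ⟨inf_le_DD (h.mem i) (h.x_mem i), mem_centralizer_iff.2 fun q hq => ?_⟩
        exact (hH.comm h.two (h.mem i) (h.mem j) (fun h1 => hij (h.inj h1)) (h.x_mem i) hq).symm
      rw [hkA _ h1, mul_inv_cancel_right]

/-- replace all factors -/
theorem replace (h : Xs Om S K x) (hH : Hyp Om) (ty : ∀ K ∈ Om, TyTwo K) (h' : Xs Om S K x')
    (hs : ∃ L ∈ Om, zz L = pr x) : ∃ L ∈ Om, zz L = pr x' := by
  obtain ⟨a1, b1⟩ := h.step hH ty 0 (h'.x_mem 0) (h'.four 0) hs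
  obtain ⟨a2, b2⟩ := a1.step hH ty 1 (h'.x_mem 1) (h'.four 1) b1
  obtain ⟨a3, b3⟩ := a2.step hH ty 2 (h'.x_mem 2) (h'.four 2) b2
  obtain ⟨a4, b4⟩ := a3.step hH ty 3 (h'.x_mem 3) (h'.four 3) b3
  exact b4

/-- another order of the members -/
theorem reorder (h : Xs Om S K x) (hH : Hyp Om) (hJ : Function.Injective J) (hJm : ∀ i, ∃ j, K j = J i) :
    ∃ y, Xs Om S J y ∧ pr y = pr x := by
  choose σ hσ using hJm
  have hinj : Function.Injective σ := by
    intro i j hij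
    apply hJ
    rw [← hσ i, ← hσ j, hij]
  let e : Equiv.Perm (Fin 4) := Equiv.ofBijective σ (Finite.injective_iff_bijective.1 hinj)
  refine ⟨fun i => x (σ i), ⟨h.two, hJ, fun i => ?_, fun i => ?_, fun i => h.four _⟩, ?_⟩
  · rw [← hσ i]; exact h.mem _
  · rw [← hσ i]; exact h.x_mem _
  · have h1 : ∀ f : Fin 4 → G, pr f = (List.ofFn f).prod := by
      intro f
      simp [pr, List.ofFn_succ, mul_assoc]
    rw [h1, h1]
    have h2 : (fun i => x (σ i)) = x ∘ e := rfl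
    rw [h2]
    apply List.Perm.prod_eq' (e.ofFn_comp_perm x)
    apply List.pairwise_of_forall_mem_list
    intro a ha b hb
    rw [List.mem_ofFn] at ha hb
    obtain ⟨i, rfl⟩ := ha
    obtain ⟨j, rfl⟩ := hb
    exact h.comm hH _ _

end Xs

/-- a pair of type I over every `zz K` -/
theorem exists_ti (e : EqZ Om) (hone : ∃ K ∈ Om, ∃ L ∈ Om, zz K ≠ zz L ∧ TypeOne Om (zz K) (zz L)) {K : Subgroup G}
    (hK : K ∈ Om) : ∃ z' U T T', TI Om (zz K) z' U T T' := by
  have h := e.hyp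
  obtain ⟨K₀, hK₀, L₀, hL₀, hne, ht⟩ := hone
  obtain ⟨S₀, -, -, hS₀⟩ := e.exists_sylow_ge hK₀ (R := ⊥) IsPGroup.of_bot bot_le
  obtain ⟨S, -, -, hS⟩ := e.exists_sylow_ge hK (R := ⊥) IsPGroup.of_bot bot_le
  obtain ⟨g, hg⟩ := exists_cj_sylow S₀ S
  have h1 : cj g K₀ ∈ OmS Om (S : Subgroup G) := by rw [← hg]; exact cj_mem_OmS h.conj g hS₀
  have h2 : g * zz K₀ * g⁻¹ = zz K := by rw [← h.zz_cj hK₀]; exact e.eqz S _ h1 _ hS
  obtain ⟨U, T, T', p⟩ := exists_pairS' (zz K) (g * zz L₀ * g⁻¹)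
  refine ⟨g * zz L₀ * g⁻¹, U, T, T', e, p, ?_, ⟨K, hK, rfl⟩, ?_⟩
  · rw [← h2]
    intro h3
    exact hne (mul_left_cancel (mul_right_cancel h3))
  · rw [← h2]
    exact ht.conj h g

theorem syl_centralizer (e : EqZ Om) (S : Sylow 2 G) {K : Subgroup G} (hK : K ∈ OmS Om (S : Subgroup G)) :
    Syl (S : Subgroup G) (centralizer {zz K}) := by
  haveI : Fact (Nat.Prime 2) := ⟨Nat.prime_two⟩
  have hTC : (S : Subgroup G) ≤ centralizer {zz K} :=
    le_normalizer.trans (e.normalizer_le S.isPGroup' hK)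
  exact ⟨hTC, S.isPGroup', fun h2 => S.not_dvd_index (h2.trans (relIndex_dvd_index_of_le hTC))⟩

/-- **`|Om(S)| ≥ 3` and a pair of type I : `EqFour Om`** -/
theorem eqFour_of_one (e : EqZ Om) {S₁ : Sylow 2 G} (h3 : 3 ≤ (OmS Om (S₁ : Subgroup G)).ncard)
    (hone : ∃ K ∈ Om, ∃ L ∈ Om, zz K ≠ zz L ∧ TypeOne Om (zz K) (zz L)) : EqFour Om := by
  have h := e.hyp
  have card : ∀ S : Sylow 2 G, (OmS Om (S : Subgroup G)).ncard = 4 := by
    intro S
    obtain ⟨K, hK, -⟩ := id hone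
    obtain ⟨z', U, T, T', a⟩ := exists_ti e hone hK
    exact a.ncard_eq_four (by rw [mz_ncard e ⟨hK, rfl⟩ S₁]; exact h3) S
  refine ⟨e, card, fun S K hinj hK x hx hx4 => ?_⟩
  have hXs : Xs Om S K x := ⟨S.isPGroup', hinj, hK, hx, hx4⟩
  obtain ⟨z', U, T, T', a⟩ := exists_ti e hone (hK 0).1
  obtain ⟨L', hL'⟩ := a.symm.kz
  obtain ⟨L, y, hL, hLm, hy, hprod⟩ := a.symm.exists_prod (by rw [mz_ncard e hL' S₁]; exact h3)
  obtain ⟨k, hk, hkS⟩ := a.p.sylT.exists_conj (syl_centralizer e S (hK 0))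
  have hkz := mem_centralizer_singleton_iff.1 hk
  have hX : Xs Om (S : Subgroup G) (fun i => cj k (L i)) (fun i => k * y i * k⁻¹) := by
    refine ⟨S.isPGroup', fun i j hij => hL (cj_inj.1 hij), fun i => ?_, fun i => ?_, fun i => ?_⟩
    · rw [← hkS]
      exact cj_mem_OmS h.conj k (a.mem_OmS (hLm i))
    · rw [← hkS, ← cj_inf]
      exact conj_mem_cj (hy i).mem
    · rw [← (hy i).order a (hLm i)]
      exact (MulAut.conj k).orderOf_eq (y i)
  obtain ⟨w, hw, hwp⟩ := hX.reorder h hinj (by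
    have h1 : Set.range (fun i => cj k (L i)) = OmS Om (S : Subgroup G) := by
      apply Set.eq_of_subset_of_ncard_le
      · rintro _ ⟨i, rfl⟩
        exact hX.mem i
      · rw [card S, Set.ncard_range_of_injective hX.inj]
        simp
      · exact Set.toFinite _
    intro i
    have h2 := hK i
    rw [← h1] at h2
    exact h2)
  exact hw.replace h e.ty hXs ⟨cj k L', h.conj L' hL'.1 k, by
    rw [h.zz_cj hL'.1, hL'.2, hwp, hprod]
    exact Xs.conj_pr k fun i => rfl⟩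

/-- **`|Om(S)| ≥ 3` and `z` not isolated : `EqFour Om`** -/
theorem eqFour (e : EqZ Om) {S₁ : Sylow 2 G} (h3 : 3 ≤ (OmS Om (S₁ : Subgroup G)).ncard)
    (hni : ∃ K ∈ Om, ∃ L ∈ Om, zz K ≠ zz L ∧ zz K * zz L = zz L * zz K) : EqFour Om := by
  obtain ⟨K, hK, L, hL, hne, hc⟩ := hni
  have h4 : 3 ≤ (Mz Om (zz K)).ncard := by rw [mz_ncard e ⟨hK, rfl⟩ S₁]; exact h3
  obtain ⟨K₁, K₂, K₃, m₁, m₂, m₃, h12, h13, h23⟩ := exists_three h4
  exact eqFour_of_one e h3 (EqExist.exists_typeOne e m₁.1 m₂.1 m₃.1 m₁.2 m₂.2 m₃.2 h12 h13 h23 hL hne.symm hc)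

/-- exactly two members over `z'` are centralised by `x x'` -/
theorem ncard_two (e : EqFour Om) {U T T' K K' : Subgroup G} (p : PairS z z' U T T') (hne : z ≠ z')
    (hone : TypeOne Om z z') (hz : zz K = z) (hK : K ∈ OmS Om T) (hK' : K' ∈ OmS Om T) (hKK : K ≠ K') {x x' : G}
    (hx : x ∈ K ⊓ T) (hx' : x' ∈ K' ⊓ T) (hx4 : orderOf x = 4) (hx'4 : orderOf x' = 4) (hxz : x * z' = z' * x)
    (hxz' : x' * z' = z' * x') :
    {L | L ∈ OmS Om T' ∧ ∀ q ∈ L ⊓ T', q * (x * x') = x * x' * q}.ncard = 2 := by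
  have h := e.hyp
  have a : TI Om z z' U T T' := ⟨e.toEqZ, p, hne, ⟨K, hK.1, hz⟩, hone⟩
  have hKm : K ∈ Mz Om z := ⟨hK.1, hz⟩
  have hKm' : K' ∈ Mz Om z := by rw [← a.OmS_eq]; exact hK'
  obtain ⟨S⟩ : Nonempty (Sylow 2 G) := inferInstance
  have h4 : (Mz Om z).ncard = 4 := by rw [mz_ncard e.toEqZ hKm S]; exact e.card S
  have b : Two Om z z' T K K' x x' := ⟨hKm, hKm', hKK, ⟨hx, by rw [h.sq_eq_zz hK.1 hx.1 hx4, hz], hxz⟩,
    ⟨hx', by rw [h.sq_eq_zz hK'.1 hx'.1 hx'4, hKm'.2], hxz'⟩⟩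
  obtain ⟨K₃, h3, h13, h23⟩ : ∃ K₃ ∈ Mz Om z, K ≠ K₃ ∧ K' ≠ K₃ := by
    by_contra hcon
    push Not at hcon
    have h5 : Mz Om z ⊆ {K, K'} := by
      intro J hJ
      by_cases h6 : K = J
      · exact Or.inl h6.symm
      · exact Or.inr (hcon J hJ h6).symm
    have h6 := Set.ncard_le_ncard h5 (Set.toFinite _)
    have h7 := Set.ncard_insert_le K {K'}
    rw [Set.ncard_singleton] at h7
    omega
  have h5 := b.ncard_pt a h3 h13 h23 (b.nonempty a h3 h13 h23)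
  have h6 : {L | L ∈ OmS Om T' ∧ ∀ q ∈ L ⊓ T', q * (x * x') = x * x' * q} = Two.Pt Om z' T' (x * x') := by
    rw [a.symm.OmS_eq]
    rfl
  rw [h6]
  omega

/-- the three involutions `z`, `s`, `s z` are conjugate in `C(x_i x_j)` -/
theorem exists_swap (e : EqFour Om) (S : Sylow 2 G) {K : Fin 4 → Subgroup G} {x : Fin 4 → G}
    (hX : Xs Om (S : Subgroup G) K x) (hz : zz (K 0) = z) {i j : Fin 4} (hij : i ≠ j) :
    ∃ n n' : G, n * (x i * x j) = x i * x j * n ∧ n' * (x i * x j) = x i * x j * n' ∧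
      n * z * n⁻¹ = Xs.pr x ∧ n * Xs.pr x * n⁻¹ = Xs.pr x * z ∧
      n' * z * n'⁻¹ = Xs.pr x * z ∧ n' * Xs.pr x * n'⁻¹ = Xs.pr x := by
  have h := e.hyp
  have hSp := S.isPGroup'
  have hzK : ∀ l, zz (K l) = z := fun l => by rw [← hz]; exact e.eqz S _ (hX.mem l) _ (hX.mem 0)
  have hzz : z * z = 1 := by rw [← hz]; exact h.zz_mul (hX.mem 0).1
  have hxx : ∀ l, x l * x l = z := fun l => by rw [← hzK l]; exact h.sq_eq_zz (hX.mem l).1 (hX.x_mem l).1 (hX.four l)
  have hxz : ∀ l, Commute (x l) z := fun l => by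
    have := hxx l
    show x l * z = z * x l
    rw [← this, mul_assoc]
  obtain ⟨s, hs⟩ : ∃ s, s = Xs.pr x := ⟨_, rfl⟩
  have hxc : ∀ l m, Commute (x l) (x m) := fun l m => hX.comm h l m
  have hxs : ∀ l, Commute (x l) s := fun l => by
    rw [hs]
    exact (((hxc l 0).mul_right (hxc l 1)).mul_right (hxc l 2)).mul_right (hxc l 3)
  obtain ⟨L, hL, hzL⟩ : ∃ L ∈ Om, zz L = s := by rw [hs]; exact e.ss S K hX.inj hX.mem x hX.x_mem hX.four
  have hss : s * s = 1 := by rw [← hzL]; exact h.zz_mul hL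
  have hsz : z * s = s * z := by
    rw [← hxx 0, mul_assoc, (hxs 0).eq, ← mul_assoc, (hxs 0).eq, mul_assoc]
  have hne : z ≠ s := by
    intro h1
    obtain ⟨q, hq, hqx⟩ := EqExist.not_central h hSp (hX.mem 0) (hX.x_mem 0) (by rw [hxx, hz])
    apply hqx
    have hqc : ∀ l, l ≠ 0 → Commute q (x l) := fun l hl =>
      h.comm hSp (hX.mem 0) (hX.mem l) (fun h2 => hl (hX.inj h2).symm) hq (hX.x_mem l)
    have hqz : Commute q z := by
      have := h.comm_zz (hX.mem 0).1 (le_normalizer hq.1)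
      rwa [hz] at this
    have h2 : x 0 = z * (x 1 * x 2 * x 3)⁻¹ := by
      rw [h1, hs]; unfold Xs.pr; group
    rw [h2]
    exact (hqz.mul_right (((hqc 1 (by decide)).mul_right (hqc 2 (by decide))).mul_right
      (hqc 3 (by decide))).inv_right).eq
  -- the pair `(z, s)` is of type I
  have hP : IsPGroup 2 ((S : Subgroup G) ⊓ (centralizer {z} ⊓ centralizer {s}) : Subgroup G) := hSp.to_le inf_le_left
  obtain ⟨U, T, T', p, hPU⟩ := exists_pairS hP inf_le_right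
  have hxU : ∀ l, x l ∈ U := fun l => hPU ⟨(hX.x_mem l).2, mem_centralizer_singleton_iff.2 (hxz l).eq,
    mem_centralizer_singleton_iff.2 (hxs l).eq⟩
  have hone : TypeOne Om z s := by
    have h1 : TypeOne Om (zz L) z :=
      ⟨K 0, (hX.mem 0).1, hz, x 0, (hX.x_mem 0).1, hxx 0, by rw [hzL]; exact (hxs 0).eq⟩
    have h2 := h1.symm e.toEqZ hL (by rw [hzL]; exact hne.symm)
    rwa [hzL] at h2
  have a : TI Om z s U T T' := ⟨e.toEqZ, p, hne, ⟨K 0, (hX.mem 0).1, hz⟩, hone⟩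
  have hW : ∀ l, W z s T (K l) (x l) := fun l => ⟨⟨(hX.x_mem l).1, p.le (hxU l)⟩, hxx l, (hxs l).eq⟩
  have hM : ∀ l, K l ∈ Mz Om z := fun l => ⟨(hX.mem l).1, hzK l⟩
  have b : Two Om z s T (K i) (K j) (x i) (x j) := ⟨hM i, hM j, fun h1 => hij (hX.inj h1), hW i, hW j⟩
  obtain ⟨l, hil, hjl⟩ : ∃ l, i ≠ l ∧ j ≠ l :=
    (by decide : ∀ i j : Fin 4, ∃ l, i ≠ l ∧ j ≠ l) i j
  obtain ⟨L₀, hL₀, hct⟩ := b.nonempty a (hM l) (fun h1 => hil (hX.inj h1)) (fun h1 => hjl (hX.inj h1))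
  obtain ⟨-, c, v, n, hi, -⟩ := a.symm.inner hL₀
  have hvt : v * (x i * x j) = x i * x j * v := hct v hi.gq.v_mem
  have hvs : v * s = s * v := by
    have := h.comm_zz hL₀.1 (le_normalizer hi.gq.v_mem.1)
    rwa [hL₀.2] at this
  have hvz : v * z * v⁻¹ = s * z := by
    have h1 : z * v = v * s * z := by
      have := hi.act
      rw [mul_inv_eq_iff_eq_mul] at this
      exact this
    calc v * z * v⁻¹ = s * s * (v * z * v⁻¹) := by rw [hss, one_mul]
      _ = s * (s * v) * z * v⁻¹ := by group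
      _ = s * (v * s * z) * v⁻¹ := by rw [← hvs]; group
      _ = s * z := by rw [← h1]; group
  -- the element `u`
  obtain ⟨c', v', n', hgq⟩ := h.exists_gq (hX.mem l).1 (syl_inf hSp (hX.mem l))
  obtain ⟨u, hu, -, hux⟩ := hgq.exists_inverting (hX.x_mem l) (hX.four l)
  have huc : ∀ m, m ≠ l → u * x m = x m * u := fun m hm =>
    h.comm hSp (hX.mem l) (hX.mem m) (fun h1 => hm (hX.inj h1).symm) hu (hX.x_mem m)
  have hut : u * (x i * x j) = x i * x j * u :=
    ((show Commute u (x i) from huc i hil).mul_right (show Commute u (x j) from huc j hjl)).eq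
  have huz : u * z = z * u := by
    have := h.comm_zz (hX.mem l).1 (le_normalizer hu.1)
    rwa [hzK] at this
  have hxi : (x l)⁻¹ = x l * z := by rw [inv_eq_iff_mul_eq_one, ← mul_assoc, hxx, hzz]
  have hus : u * s * u⁻¹ = s * z := by
    rw [hs, Xs.conj_pr (x' := Function.update x l (x l * z)) u (fun m => by
      by_cases hm : m = l
      · subst hm; rw [Function.update_self, hux, hxi]
      · rw [Function.update_of_ne hm, huc m hm, mul_inv_cancel_right])]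
    unfold Xs.pr
    have e1 := (hxz 1).eq
    have e2 := (hxz 2).eq
    have e3 := (hxz 3).eq
    fin_cases l
    · simp [Function.update]
      calc x 0 * z * x 1 * x 2 * x 3 = x 0 * (z * x 1) * x 2 * x 3 := by group
        _ = x 0 * x 1 * (z * x 2) * x 3 := by rw [← e1]; group
        _ = x 0 * x 1 * x 2 * (z * x 3) := by rw [← e2]; group
        _ = x 0 * x 1 * x 2 * x 3 * z := by rw [← e3]; group
    · simp [Function.update]
      calc x 0 * (x 1 * z) * x 2 * x 3 = x 0 * x 1 * (z * x 2) * x 3 := by group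
        _ = x 0 * x 1 * x 2 * (z * x 3) := by rw [← e2]; group
        _ = x 0 * x 1 * x 2 * x 3 * z := by rw [← e3]; group
    · simp [Function.update]
      calc x 0 * x 1 * (x 2 * z) * x 3 = x 0 * x 1 * x 2 * (z * x 3) := by group
        _ = x 0 * x 1 * x 2 * x 3 * z := by rw [← e3]; group
    · simp [Function.update]
      group
  rw [← hs]
  refine ⟨u * v, v, ?_, hvt, ?_, ?_, hvz, ?_⟩
  · rw [mul_assoc, hvt, ← mul_assoc, hut, mul_assoc]
  · calc u * v * z * (u * v)⁻¹ = u * (v * z * v⁻¹) * u⁻¹ := by group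
      _ = (u * s * u⁻¹) * (u * z * u⁻¹) := by rw [hvz]; group
      _ = s := by rw [hus, huz, mul_inv_cancel_right, mul_assoc, hzz, mul_one]
  · calc u * v * s * (u * v)⁻¹ = u * (v * s * v⁻¹) * u⁻¹ := by group
      _ = s * z := by rw [hvs, mul_inv_cancel_right, hus]
  · rw [hvs, mul_inv_cancel_right]

/-! ### Versions without a Sylow subgroup -/

theorem isPGroup_sup_zpowers {A : Subgroup G} {x : G} (hA : IsPGroup 2 A) (hx : IsPGroup 2 (zpowers x))
    (hc : ∀ a ∈ A, x * a = a * x) : IsPGroup 2 (A ⊔ zpowers x : Subgroup G) := by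
  refine hA.to_sup_of_normal_left' hx ?_
  rw [zpowers_le, mem_normalizer_iff]
  intro a
  constructor
  · intro ha
    rw [hc a ha, mul_inv_cancel_right]
    exact ha
  · intro ha
    have h1 := hc _ ha
    have h2 : x * (x * a * x⁻¹) = x * a * x⁻¹ * x := h1
    have h3 : x * a * x⁻¹ = a := by
      have h4 : x * (x * a * x⁻¹) = x * a := by rw [h2, inv_mul_cancel_right]
      exact mul_left_cancel h4
    rwa [h3] at ha

/-- pairwise commuting elements of order four of four members over `z` lie in a Sylow subgroup -/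
theorem exists_xs (e : EqFour Om) {K : Fin 4 → Subgroup G} {x : Fin 4 → G} (hinj : Function.Injective K)
    (hK : ∀ i, K i ∈ Om) (hz : ∀ i, zz (K i) = z) (hx : ∀ i, x i ∈ K i) (hx4 : ∀ i, orderOf (x i) = 4)
    (hc : ∀ i j, x i * x j = x j * x i) : ∃ S : Sylow 2 G, Xs Om (S : Subgroup G) K x := by
  have h := e.hyp
  have hp : ∀ i, IsPGroup 2 (zpowers (x i)) := fun i => by
    refine IsPGroup.of_card (n := 2) ?_
    rw [Nat.card_zpowers, hx4]
    norm_num
  have hle : ∀ i (A : Subgroup G), A ≤ centralizer {x i} → ∀ a ∈ A, x i * a = a * x i := fun i A hA a ha =>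
    (mem_centralizer_singleton_iff.1 (hA ha)).symm
  have hzc : ∀ i j, zpowers (x j) ≤ centralizer {x i} := fun i j =>
    zpowers_le.2 (mem_centralizer_singleton_iff.2 (hc j i))
  have p1 : IsPGroup 2 (zpowers (x 0) ⊔ zpowers (x 1) : Subgroup G) :=
    isPGroup_sup_zpowers (hp 0) (hp 1) (hle 1 _ (hzc 1 0))
  have p2 : IsPGroup 2 (zpowers (x 0) ⊔ zpowers (x 1) ⊔ zpowers (x 2) : Subgroup G) :=
    isPGroup_sup_zpowers p1 (hp 2) (hle 2 _ (sup_le (hzc 2 0) (hzc 2 1)))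
  have p3 : IsPGroup 2 (zpowers (x 0) ⊔ zpowers (x 1) ⊔ zpowers (x 2) ⊔ zpowers (x 3) : Subgroup G) :=
    isPGroup_sup_zpowers p2 (hp 3) (hle 3 _ (sup_le (sup_le (hzc 3 0) (hzc 3 1)) (hzc 3 2)))
  have hxz : ∀ i, zpowers (x i) ≤ centralizer {zz (K 0)} := fun i => by
    rw [zpowers_le, hz 0, ← hz i]
    exact h.le_centralizer (hK i) (hx i)
  obtain ⟨S, hS, -, hS0⟩ := e.exists_sylow_ge (hK 0) p3
    (sup_le (sup_le (sup_le (hxz 0) (hxz 1)) (hxz 2)) (hxz 3))
  refine ⟨S, S.isPGroup', hinj, fun i => (e.mem_OmS_iff S hS0).2 ⟨hK i, by rw [hz, hz]⟩, fun i => ⟨hx i, ?_⟩, hx4⟩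
  apply hS
  revert i
  refine fin4 ?_ ?_ ?_ ?_
  · exact mem_sup_left (mem_sup_left (mem_sup_left (mem_zpowers _)))
  · exact mem_sup_left (mem_sup_left (mem_sup_right (mem_zpowers _)))
  · exact mem_sup_left (mem_sup_right (mem_zpowers _))
  · exact mem_sup_right (mem_zpowers _)

/-- `s = x₀x₁x₂x₃` is the involution of a member, conjugate to `z` in `C(x_i x_j)` -/
theorem exists_of_commute (e : EqFour Om) {K : Fin 4 → Subgroup G} {x : Fin 4 → G} (hinj : Function.Injective K)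
    (hK : ∀ i, K i ∈ Om) (hz : ∀ i, zz (K i) = z) (hx : ∀ i, x i ∈ K i) (hx4 : ∀ i, orderOf (x i) = 4)
    (hc : ∀ i j, x i * x j = x j * x i) {i j : Fin 4} (hij : i ≠ j) :
    (∃ L ∈ Om, zz L = x 0 * x 1 * x 2 * x 3) ∧
      ∃ n : G, n * (x i * x j) = x i * x j * n ∧ n * z * n⁻¹ = x 0 * x 1 * x 2 * x 3 ∧
        n * (x 0 * x 1 * x 2 * x 3) * n⁻¹ = x 0 * x 1 * x 2 * x 3 * z := by
  obtain ⟨S, hX⟩ := exists_xs e hinj hK hz hx hx4 hc
  obtain ⟨n, -, h1, -, h2, h3, -, -⟩ := exists_swap e S hX (hz 0) hij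
  exact ⟨e.ss S K hX.inj hX.mem x hX.x_mem hX.four, n, h1, h2, h3⟩

end Cfsg.Agent.Cit.EqHad
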