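import Cfsg.Agent.Cit.TDef
import Cfsg.Agent.OddHalf.Known
import Cfsg.Agent.Nodes.ClsMap
import Cfsg.Agent.SignalizersComponents.LayerBasic

/-!
# THEOREM T: basic transport lemmas

* `Ty` under injective maps and maps with odd kernel;
* `Hyp` for invariant subsets of `Om`;
* charts and pieces under injective maps;
* `TT` and `HasPieces`.
-/

set_option autoImplicit false
set_option linter.dupNamespace false
set_option linter.style.haveILetI false

namespace Cfsg.Agent.Cit

open Subgroup Cfsg Cfsg.Agent.Nodes.Chart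

universe u

/-! ### Odd cores of quotients -/

theorem not_two_dvd_oddCore (X : Type*) [Group X] [Finite X] : ¬ 2 ∣ Nat.card (oddCore X) := by
  intro h
  have h1 := Lib.Cores.pPrimeCore_coprime (G := X) 2
  have h2 := Nat.dvd_gcd h (dvd_refl 2)
  rw [show (Nat.card (oddCore X)).gcd 2 = 1 from h1] at h2
  omega

theorem le_oddCore {X : Type*} [Group X] [Finite X] {N : Subgroup X} (hN : N.Normal)
    (h : ¬ 2 ∣ Nat.card N) : N ≤ oddCore X := by
  refine Lib.Cores.le_pPrimeCore hN ?_
  rw [Nat.coprime_comm]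
  exact (Nat.Prime.coprime_iff_not_dvd Nat.prime_two).2 h

theorem not_two_dvd_comap {X X' : Type*} [Group X] [Finite X] [Group X'] (f : X →* X')
    (hk : ¬ 2 ∣ Nat.card f.ker) {N : Subgroup X'} (hN : ¬ 2 ∣ Nat.card (N ⊓ f.range : Subgroup X')) :
    ¬ 2 ∣ Nat.card (N.comap f) := by
  intro h
  obtain ⟨t, ht⟩ := exists_prime_orderOf_dvd_card' (hp := ⟨Nat.prime_two⟩) 2 h
  have ht2 : ((t : X) ^ 2 ^ 1) = 1 := by
    have := pow_orderOf_eq_one t
    rw [ht] at this
    rw [pow_one]
    exact_mod_cast congrArg Subtype.val this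
  haveI : Finite f.range := Finite.of_surjective f.rangeRestrict f.rangeRestrict_surjective
  haveI : Finite (N ⊓ f.range : Subgroup X') :=
    Finite.of_injective (fun x => (⟨x, x.2.2⟩ : f.range)) (fun a b hab => by
      apply Subtype.ext
      exact congrArg (fun y : f.range => (y : X')) hab)
  have h1 : f (t : X) ∈ (N ⊓ f.range : Subgroup X') := ⟨t.2, ⟨_, rfl⟩⟩
  have h2 : f (t : X) = 1 := by
    by_contra hne
    apply hN
    have h3 : orderOf (f (t : X)) = 2 := by
      apply orderOf_eq_prime _ hne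
      rw [← map_pow]
      rw [pow_one] at ht2
      rw [ht2, map_one]
    rw [← h3, ← Nat.card_zpowers]
    exact card_dvd_of_le (by rwa [zpowers_le])
  have h3 := eq_one_of_odd hk (x := (t : X)) h2 ht2
  have h4 : t = 1 := Subtype.ext h3
  rw [h4, orderOf_one] at ht
  omega

theorem comap_oddCore {X X' : Type*} [Group X] [Finite X] [Group X'] (f : X →* X')
    (hf : Function.Surjective f) (hk : ¬ 2 ∣ Nat.card f.ker) : (oddCore X').comap f = oddCore X := by
  haveI : Finite X' := Finite.of_surjective f hf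
  apply le_antisymm
  · haveI : (oddCore X').Normal := Lib.Cores.pPrimeCore_normal 2
    refine le_oddCore inferInstance (not_two_dvd_comap f hk ?_)
    exact fun h => not_two_dvd_oddCore X' (h.trans (card_dvd_of_le inf_le_left))
  · rw [← Subgroup.map_le_iff_le_comap]
    haveI : (oddCore X).Normal := Lib.Cores.pPrimeCore_normal 2
    refine le_oddCore (Subgroup.Normal.map inferInstance f hf) ?_
    exact fun h => not_two_dvd_oddCore X (h.trans (card_map_dvd _ _))

/-- `X / O(X) ≃ X' / O(X')` for an epimorphism `X → X'` with odd kernel -/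
noncomputable def quotEquiv {X X' : Type*} [Group X] [Finite X] [Group X'] (f : X →* X')
    (hf : Function.Surjective f) (hk : ¬ 2 ∣ Nat.card f.ker) :
    X ⧸ oddCore X ≃* X' ⧸ oddCore X' := by
  let g : X →* X' ⧸ oddCore X' := (QuotientGroup.mk' (oddCore X')).comp f
  have hg : Function.Surjective g := (QuotientGroup.mk'_surjective _).comp hf
  have hker : g.ker = oddCore X := by
    rw [← comap_oddCore f hf hk]
    ext x
    simp [g, MonoidHom.mem_ker]
  exact (QuotientGroup.quotientMulEquivOfEq hker.symm).trans (QuotientGroup.quotientKerEquivOfSurjective g hg)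

/-! ### Types -/

theorem IsTy.congr {X Y : Type*} [Group X] [Group Y] (e : X ≃* Y) (h : IsTy X) : IsTy Y := by
  rcases h with ⟨F, i1, i2, h1, ⟨f⟩⟩ | h
  · exact Or.inl ⟨F, i1, i2, h1, ⟨e.symm.trans f⟩⟩
  · exact Or.inr (Intrinsic.Basic.cover_congr e h)

section

variable {G G' : Type*} [Group G] [Group G']

/-- the type condition passes to images under maps whose kernel meets `K` in a group of odd order -/
theorem Ty.map [Finite G] {K : Subgroup G} (h : Ty K) (f : G →* G')
    (hk : ¬ 2 ∣ Nat.card (f.subgroupMap K).ker) : Ty (K.map f) := by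
  have e := quotEquiv (f.subgroupMap K) (f.subgroupMap_surjective K) hk
  rcases h with ⟨⟨g⟩⟩ | ⟨h1, h2⟩
  · exact Or.inl ⟨e.symm.trans g⟩
  · refine Or.inr ⟨IsTy.congr e h1, ?_⟩
    rw [← map_commutator, h2]

theorem not_two_dvd_ker_subgroupMap [Finite G] (f : G →* G') (hk : ¬ 2 ∣ Nat.card f.ker) (K : Subgroup G) :
    ¬ 2 ∣ Nat.card (f.subgroupMap K).ker := by
  intro h
  apply hk
  refine h.trans ?_
  rw [← card_map_of_injective K.subtype_injective]
  refine card_dvd_of_le ?_
  rintro _ ⟨x, hx, rfl⟩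
  have h1 := congrArg Subtype.val (MonoidHom.mem_ker.1 hx)
  exact h1

theorem Ty.map_of_odd [Finite G] {K : Subgroup G} (h : Ty K) (f : G →* G')
    (hk : ¬ 2 ∣ Nat.card f.ker) : Ty (K.map f) :=
  h.map f (not_two_dvd_ker_subgroupMap f hk K)

theorem not_two_dvd_ker_of_injective [Finite G] (f : G →* G') (hf : Function.Injective f) :
    ¬ 2 ∣ Nat.card f.ker := by
  rw [(MonoidHom.ker_eq_bot_iff f).2 hf, card_bot]
  omega

theorem Ty.map_of_injective [Finite G] {K : Subgroup G} (h : Ty K) (f : G →* G')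
    (hf : Function.Injective f) : Ty (K.map f) :=
  h.map_of_odd f (not_two_dvd_ker_of_injective f hf)

theorem Ty.of_map [Finite G] {K : Subgroup G} (f : G →* G') (hf : Function.Injective f)
    (h : Ty (K.map f)) : Ty K := by
  let e : ↥K ≃* ↥(K.map f) := K.equivMapOfInjective f hf
  haveI : Finite ↥(K.map f) := Finite.of_equiv _ e.toEquiv
  have hk : ¬ 2 ∣ Nat.card e.symm.toMonoidHom.ker :=
    not_two_dvd_ker_of_injective _ e.symm.injective
  have e' := quotEquiv e.symm.toMonoidHom e.symm.surjective hk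
  rcases h with ⟨⟨g⟩⟩ | ⟨h1, h2⟩
  · exact Or.inl ⟨e'.symm.trans g⟩
  · refine Or.inr ⟨IsTy.congr e' h1, ?_⟩
    rw [← map_commutator] at h2
    exact Subgroup.map_injective hf h2

theorem Ty.restr [Finite G] {Om : Set (Subgroup G)} (h : ∀ K ∈ Om, Ty K) (H : Subgroup G) :
    ∀ K ∈ restr Om H, Ty K :=
  fun K hK => Ty.of_map H.subtype H.subtype_injective (h _ hK)

theorem Ty.img [Finite G] {Om : Set (Subgroup G)} (h : ∀ K ∈ Om, Ty K) (f : G →* G')
    (hk : ¬ 2 ∣ Nat.card f.ker) : ∀ K ∈ img f Om, Ty K := by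
  rintro _ ⟨K, hK, rfl⟩
  exact (h K hK).map_of_odd f hk

theorem Ty.isType {K : Subgroup G} (h : Ty K) : IsType K := by
  rcases h with h | h
  · refine Or.inl ⟨ZMod 3, inferInstance, inferInstance, ?_, h⟩
    rw [ZMod.card]; decide
  · exact h.1

/-! ### `Hyp` for invariant subsets -/

theorem Hyp.mono {Om Om' : Set (Subgroup G)} (h : Hyp Om) (hs : Om' ⊆ Om)
    (hc : ∀ K ∈ Om', ∀ g, cj g K ∈ Om') : Hyp Om' where
  conj := hc
  quat K hK := h.quat K (hs hK)
  uniq K hK := h.uniq K (hs hK)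
  sub K hK := h.sub K (hs hK)
  h2 K hK L hL := h.h2 K (hs hK) L (hs hL)
  h3 K hK L hL := h.h3 K (hs hK) L (hs hL)

theorem cj_mem_cls {J K : Subgroup G} (hK : K ∈ cls J) (g : G) : cj g K ∈ cls J := by
  obtain ⟨x, rfl⟩ := hK
  exact ⟨g * x, by rw [cj_mul]⟩

theorem Hyp.cls_subset {Om : Set (Subgroup G)} (h : Hyp Om) {J : Subgroup G} (hJ : J ∈ Om) :
    cls J ⊆ Om := by
  rintro _ ⟨g, rfl⟩
  exact h.conj J hJ g

theorem Hyp.of_cls {Om : Set (Subgroup G)} (h : Hyp Om) {J : Subgroup G} (hJ : J ∈ Om) : Hyp (cls J) :=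
  h.mono (h.cls_subset hJ) fun _ hK g => cj_mem_cls hK g

/-! ### Charts and pieces under injective maps -/

theorem le_chart {Om : Set (Subgroup G)} {p : ℕ} {D : Subgroup G} (c : Chart Om p D) {r : c.I → ℤ}
    (hr : r ∈ c.R) : c.Z r ⊔ c.Z (-r) ≤ D := by
  have h1 : ∀ x, Tits.Roots.IsRoot c.cs c.h x → c.X x ≤ D := fun x hx =>
    (Nodes.RGDLib.X_le_G1 hx).trans c.gen.le
  refine sup_le ((c.cls.le r hr).trans (h1 r (c.cls.root r hr))) ?_
  have h2 := Nodes.ClsMap.neg_mem c.cls hr
  exact (c.cls.le _ h2).trans (h1 _ (c.cls.root _ h2))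

theorem eq_map_comap {f : G →* G'} (hf : Function.Injective f) {K : Subgroup G'} {D : Subgroup G}
    (hK : K ≤ D.map f) : K.comap f ≤ D ∧ (K.comap f).map f = K := by
  refine ⟨fun x hx => ?_, ?_⟩
  · obtain ⟨y, hy, hyx⟩ := hK hx
    rwa [← hf hyx]
  · rw [map_comap_eq]
    exact inf_eq_right.2 (hK.trans (Subgroup.map_le_range f D))

/-- transport of a chart along an injective map -/
noncomputable def Chart.map' {Om : Set (Subgroup G)} {Om' : Set (Subgroup G')} {p : ℕ} {D : Subgroup G}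
    (c : Chart Om p D) (f : G →* G') (hf : Function.Injective f)
    (h1 : ∀ K ≤ D, K ∈ Om ↔ K.map f ∈ Om') : Chart Om' p (D.map f) where
  prime := c.prime
  odd := c.odd
  I := c.I
  W := c.W
  M := c.M
  cs := c.cs
  A := c.A
  h := c.h
  T := c.T.map f
  n := fun i => f (c.n i)
  X := fun x => (c.X x).map f
  R := c.R
  Z := fun x => (c.Z x).map f
  z := fun x => f (c.z x)
  cls := Nodes.ClsMap.cls_map_of_injective c.cls f hf
  irr := c.irr
  ne := c.ne
  T_le := Subgroup.map_mono c.T_le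
  gen := by
    conv_rhs => rw [← c.gen]
    unfold Nodes.RGDLib.G1 Nodes.BNOf.RGD.Sup
    rw [Subgroup.map_iSup]
  trans := c.trans
  Rne := c.Rne
  om := fun r hr => by
    rw [← Subgroup.map_sup]
    exact (h1 _ (le_chart c hr)).1 (c.om r hr)
  om_conj := fun K hK hKD => by
    obtain ⟨h2, h3⟩ := eq_map_comap hf hKD
    have h4 : K.comap f ∈ Om := (h1 _ h2).2 (by rwa [h3])
    obtain ⟨r, hr, g, hg, e⟩ := c.om_conj _ h4 h2
    refine ⟨r, hr, f g, mem_map_of_mem f hg, ?_⟩
    rw [← Subgroup.map_sup, Nodes.RGDLib.cj_map, ← e, h3]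

theorem isPGroup_center_congr {X Y : Type*} [Group X] [Group Y] (e : X ≃* Y) {p : ℕ}
    (h : IsPGroup p (center X)) : IsPGroup p (center Y) := by
  rw [← SignalizersComponents.LayerBasic.map_center_equiv e]
  exact h.map _

/-- isomorphism of the central quotients -/
noncomputable def centerQuotEquiv {X Y : Type*} [Group X] [Group Y] (e : X ≃* Y) :
    X ⧸ center X ≃* Y ⧸ center Y :=
  QuotientGroup.congr (center X) (center Y) e (SignalizersComponents.LayerBasic.map_center_equiv e)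

theorem IsG2D4.congr {p : ℕ} {X Y : Type*} [Group X] [Group Y] (e : X ≃* Y) (h : IsG2D4 p X) :
    IsG2D4 p Y := by
  obtain ⟨F, i1, i2, i3, (⟨⟨f⟩⟩ | ⟨q, hq, hF, ⟨f⟩⟩)⟩ := h
  · exact ⟨F, i1, i2, i3, Or.inl ⟨e.symm.trans f⟩⟩
  · exact ⟨F, i1, i2, i3, Or.inr ⟨q, hq, hF, ⟨e.symm.trans f⟩⟩⟩

theorem zz_map_of_injective [Finite G] {Om : Set (Subgroup G)} (h : Hyp Om) {K : Subgroup G} (hK : K ∈ Om)
    (f : G →* G') (hf : Function.Injective f) : zz (K.map f) = f (zz K) :=
  zz_map' h (not_two_dvd_ker_of_injective f hf) hK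

theorem map_le_centralizer_map {f : G →* G'} (hf : Function.Injective f) {K L : Subgroup G} :
    K.map f ≤ centralizer (L.map f : Set G') ↔ K ≤ centralizer (L : Set G) := by
  constructor
  · intro h x hx y hy
    have h1 := h (mem_map_of_mem f hx) (f y) (mem_map_of_mem f hy)
    exact hf (by rw [map_mul, map_mul]; exact h1)
  · rintro h _ ⟨x, hx, rfl⟩ _ ⟨y, hy, rfl⟩
    have h1 := h hx y hy
    rw [← map_mul, ← map_mul, h1]

/-- transport of a piece along an injective map -/
theorem Piece.map' [Finite G] {Om : Set (Subgroup G)} {Om' : Set (Subgroup G')} (hOm : Hyp Om)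
    {D : Subgroup G} (hD : Piece Om D) (f : G →* G') (hf : Function.Injective f)
    (h1 : ∀ K ≤ D, K ∈ Om ↔ K.map f ∈ Om') : Piece Om' (D.map f) := by
  let e : ↥D ≃* ↥(D.map f) := D.equivMapOfInjective f hf
  cases hD with
  | single mem => exact Piece.single ((h1 D le_rfl).1 mem)
  | chart nmem qs two p c τ kind ok small sl zx =>
    refine Piece.chart (fun h => nmem ((h1 D le_rfl).2 h))
      (SignalizersComponents.LayerBasic.quasisimple_congr e qs) (isPGroup_center_congr e two) p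
      (Chart.map' c f hf h1) τ kind ok (fun hI => OddHalf.Known.isLieTypeChar_congr (centerQuotEquiv e) (small hI))
      ?_ ?_
    · obtain ⟨F, i1, i2, i3, h2⟩ := sl
      refine ⟨F, i1, i2, i3, fun r hr => ?_⟩
      obtain ⟨g⟩ := h2 r hr
      exact ⟨g.trans (((c.Z r ⊔ c.Z (-r)).equivMapOfInjective f hf).trans
        (MulEquiv.subgroupCongr (Subgroup.map_sup _ _ _)))⟩
    · rcases zx with h2 | h2
      · exact Or.inl fun r hr => congrArg (Subgroup.map f) (h2 r hr)
      · exact Or.inr h2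
  | exc qs two p prime odd iso ne zzc three =>
    refine Piece.exc (SignalizersComponents.LayerBasic.quasisimple_congr e qs)
      (isPGroup_center_congr e two) p prime odd (iso.congr (centerQuotEquiv e)) ?_ ?_ ?_
    · obtain ⟨K, hK, hKD⟩ := ne
      exact ⟨K.map f, (h1 K hKD).1 hK, Subgroup.map_mono hKD⟩
    · rintro K hK J hJ hKD hJD hne hc _ ⟨d, hd, rfl⟩
      obtain ⟨hK1, hK2⟩ := eq_map_comap hf hKD
      obtain ⟨hJ1, hJ2⟩ := eq_map_comap hf hJD
      have hK' : K.comap f ∈ Om := (h1 _ hK1).2 (by rwa [hK2])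
      have hJ' : J.comap f ∈ Om := (h1 _ hJ1).2 (by rwa [hJ2])
      rw [← hK2, ← hJ2] at hc
      rw [← hK2, ← hJ2, zz_map_of_injective hOm hK' f hf, zz_map_of_injective hOm hJ' f hf, ← map_mul,
        ← map_mul, ← map_mul,
        zzc _ hK' _ hJ' hK1 hJ1 (fun h => hne (by rw [← hK2, ← hJ2, h])) ((map_le_centralizer_map hf).1 hc) d hd]
    · intro K hK J hJ M hM hKD hJD hMD hKJ hKM hJM
      obtain ⟨hK1, hK2⟩ := eq_map_comap hf hKD
      obtain ⟨hJ1, hJ2⟩ := eq_map_comap hf hJD
      obtain ⟨hM1, hM2⟩ := eq_map_comap hf hMD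
      have hK' : K.comap f ∈ Om := (h1 _ hK1).2 (by rwa [hK2])
      have hJ' : J.comap f ∈ Om := (h1 _ hJ1).2 (by rwa [hJ2])
      have hM' : M.comap f ∈ Om := (h1 _ hM1).2 (by rwa [hM2])
      rw [← hK2, ← hJ2] at hKJ
      rw [← hK2, ← hM2] at hKM
      rw [← hJ2, ← hM2] at hJM
      rcases three _ hK' _ hJ' _ hM' hK1 hJ1 hM1 ((map_le_centralizer_map hf).1 hKJ)
        ((map_le_centralizer_map hf).1 hKM) ((map_le_centralizer_map hf).1 hJM) with h | h | h
      · left; rw [← hK2, ← hJ2, h]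
      · right; left; rw [← hK2, ← hM2, h]
      · right; right; rw [← hJ2, ← hM2, h]
  | mathieu qs two iso ne mem =>
    refine Piece.mathieu (SignalizersComponents.LayerBasic.quasisimple_congr e qs)
      (isPGroup_center_congr e two) ?_ ?_ ?_
    · obtain ⟨g⟩ := iso
      exact ⟨(centerQuotEquiv e).symm.trans g⟩
    · obtain ⟨K, hK, hKD⟩ := ne
      exact ⟨K.map f, (h1 K hKD).1 hK, Subgroup.map_mono hKD⟩
    · intro K hK hKD
      obtain ⟨hK1, hK2⟩ := eq_map_comap hf hKD
      have h2 := mem _ ((h1 _ hK1).2 (by rwa [hK2])) hK1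
      obtain ⟨g⟩ := h2
      let e' : ↥(K.comap f) ≃* ↥K :=
        ((K.comap f).equivMapOfInjective f hf).trans (MulEquiv.subgroupCongr hK2)
      haveI : Finite ↥K := Finite.of_equiv _ e'.toEquiv
      have hk : ¬ 2 ∣ Nat.card e'.toMonoidHom.ker :=
        not_two_dvd_ker_of_injective _ e'.injective
      exact ⟨(quotEquiv e'.toMonoidHom e'.surjective hk).symm.trans g⟩

end

end Cfsg.Agent.Cit
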