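import Cfsg.Agent.Cit.Branches
import Cfsg.Agent.Cit.EqFourMain
import Cfsg.Agent.Cit.Parab
import Cfsg.Agent.Cit.TBasic

/-!
# `AllEq Om`, `|Om(S)| = n ≥ 3` : `n = 4` and `EqFour Om`

`exists_comm_ne` : in a simple group `zz K` commutes with some `zz L ≠ zz K` (`Z*`, type free).
`eqFour_of_allEq`, `eq_four_of_allEq` : `MinS Om`, `AllEq Om`, `Card Om n`, `3 ≤ n` ⟹ `EqFour Om`, `n = 4`; so `n = 3` and
`n ≥ 5` are impossible (`not_allEq_three`, `not_allEq_many`).
-/

set_option autoImplicit false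

namespace Cfsg.Agent.Cit.EqCard

open Subgroup Cfsg Cfsg.Agent.Cit.Branches Cfsg.Agent.Cit.EqClose

universe u

/-- in a simple group every involution `zz K` commutes with some `zz L ≠ zz K` -/
theorem exists_comm_ne {G : Type*} [Group G] [Finite G] [IsSimpleGroup G] {Om : Set (Subgroup G)} (h : Hyp Om)
    {K : Subgroup G} (hK : K ∈ Om) : ∃ L ∈ Om, zz K ≠ zz L ∧ zz K * zz L = zz L * zz K := by
  by_contra hno
  push Not at hno
  obtain ⟨N, hN, hodd, hc⟩ := Parab.zstar (h.orderOf_zz hK) (by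
    intro g hg
    by_contra hne
    have h1 := h.zz_cj hK g
    refine hno _ (h.conj K hK g) (by rw [h1]; exact Ne.symm hne) ?_
    rw [h1]; exact hg.symm)
  obtain ⟨Q, hQ⟩ := Hyp.exists_syl K
  obtain ⟨c, v, n, hq⟩ := h.exists_gq hK hQ
  rcases hN.eq_bot_or_eq_top with h1 | h1
  · have h2 : zz K ∈ center G := by
      rw [mem_center_iff]
      intro g
      have h3 := hc g
      rw [h1, mem_bot, mul_inv_eq_one, mul_inv_eq_iff_eq_mul] at h3
      exact h3.symm
    rcases (inferInstance : (center G).Normal).eq_bot_or_eq_top with h3 | h3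
    · rw [h3, mem_bot] at h2
      exact h.zz_ne hK h2
    · apply hq.not_comm
      have h4 : c ∈ center G := by rw [h3]; trivial
      exact mem_center_iff.1 h4 v
  · rw [h1, card_top, Nat.odd_iff] at hodd
    have h2 : 2 ∣ Nat.card G := by
      rw [← h.orderOf_zz hK]
      exact orderOf_dvd_natCard _
    omega

variable {G : Type u} [Group G] [Finite G] {Om : Set (Subgroup G)} {n : ℕ}

theorem eqZ_of (hyp : Hyp Om) (ne : Om.Nonempty) (ty : ∀ K ∈ Om, TyTwo K) (he : AllEq Om) (hc : Card Om n)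
    (h2 : 2 ≤ n) : EqZ Om where
  hyp := hyp
  ne := ne
  ty := ty
  eqz := he
  two S K hK := by
    have h1 : 1 < (OmS Om (S : Subgroup G)).ncard := by rw [hc S]; exact h2
    obtain ⟨a, ha, b, hb, hab⟩ := (Set.one_lt_ncard (Set.toFinite _)).1 h1
    by_cases h : a = K
    · exact ⟨b, hb, fun e => hab (h.trans e.symm)⟩
    · exact ⟨a, ha, h⟩

/-- **`G` simple, all `zz K`, `K ∈ Om(S)`, equal, `|Om(S)| ≥ 3` : `EqFour Om`** -/
theorem eqFour_of [IsSimpleGroup G] (hyp : Hyp Om) (ne : Om.Nonempty) (ty : ∀ K ∈ Om, TyTwo K) (he : AllEq Om)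
    (hc : Card Om n) (h3 : 3 ≤ n) : EqFour Om := by
  obtain ⟨S⟩ : Nonempty (Sylow 2 G) := inferInstance
  obtain ⟨K, hK⟩ := id ne
  exact EqHad.eqFour (eqZ_of hyp ne ty he hc (by omega)) (S₁ := S) (by rw [hc S]; exact h3)
    ⟨K, hK, exists_comm_ne hyp hK⟩

theorem eqFour_of_allEq (ms : MinS Om) (he : AllEq Om) (hc : Card Om n) (h3 : 3 ≤ n) : EqFour Om :=
  haveI := ms.simple
  eqFour_of ms.hyp ms.ne (fun K hK => (Ty.isType (ms.ty K hK)).tyTwo) he hc h3

/-- **`MinS Om`, all `zz K`, `K ∈ Om(S)`, equal, `|Om(S)| = n ≥ 3` : `n = 4`** -/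
theorem eq_four_of_allEq (ms : MinS Om) (he : AllEq Om) (hc : Card Om n) (h3 : 3 ≤ n) : n = 4 := by
  obtain ⟨S⟩ : Nonempty (Sylow 2 G) := inferInstance
  rw [← hc S]
  exact (eqFour_of_allEq ms he hc h3).card S

theorem not_allEq_three (ms : MinS Om) (hc : Card Om 3) : ¬ AllEq Om := fun he => by
  have := eq_four_of_allEq ms he hc le_rfl
  omega

theorem not_allEq_many (ms : MinS Om) (hc : Card Om n) (h5 : 5 ≤ n) : ¬ AllEq Om := fun he => by
  have := eq_four_of_allEq ms he hc (by omega)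
  omega

theorem eqFour_of_card_four (ms : MinS Om) (hc : Card Om 4) (he : AllEq Om) : EqFour Om :=
  eqFour_of_allEq ms he hc (by norm_num)

end Cfsg.Agent.Cit.EqCard
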