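import Cfsg.Agent.Cit.CoresClose

/-!
# The CONSTANT LEMMA (project CIT, (EX') (B), helper61 bb #9241)

`G` finite, `Hyp Om`, `S` a Sylow 2-subgroup, `F = OmS Om S` the frame, `b : Subgroup G → Subgroup G` equivariant on
`Om`. `Lnk b K J` : some `d` commuting with `b K` conjugates `K` to `J`, so `b J = b K`.

* `const_of_gen` : `b` is constant on the classes of the equivalence generated by the links;
* `normalizer_le`, `normalizer_DD_le` : the normalisers of the members of `F` and of `D(S)` normalise the constant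
  value `B`;
* `centralizer_le_of_two` : (Frattini) `C(s) ≤ M` if the 2-subgroups of the members in `C(s)` and `N(D(S))` are in `M`;
* `le_centralizer_of_comm` : `K ≤ C(s)` for `K ∈ F`, `s ∈ E(S)`, if different members of the frame commute on
  2-subgroups;
* `eq_bot` : the CONSTANT LEMMA: `b K = 1` for all `K ∈ Om`.
-/

set_option autoImplicit false
set_option linter.style.haveILetI false

namespace Cfsg.Agent.Cit.ConstLemma

open Subgroup Cfsg

variable {G : Type*} [Group G]

/-- `K` and `J` are conjugate by an element commuting with `b K` -/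
def Lnk (b : Subgroup G → Subgroup G) (K J : Subgroup G) : Prop :=
  ∃ d : G, (∀ y ∈ b K, d * y = y * d) ∧ cj d K = J

/-- conjugation by an element commuting with `B` fixes `B` -/
theorem cj_eq_of_comm {B : Subgroup G} {d : G} (h : ∀ y ∈ B, d * y = y * d) : cj d B = B := by
  rw [← mem_normalizer_iff_cj]
  refine centralizer_le_normalizer _ ?_
  rw [mem_centralizer_iff]
  exact fun y hy => (h y hy).symm

variable {Om : Set (Subgroup G)} {b : Subgroup G → Subgroup G}

/-- a link does not change `b` -/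
theorem Lnk.eq {K J : Subgroup G} (h : Lnk b K J) (hb : ∀ g, b (cj g K) = cj g (b K)) : b J = b K := by
  obtain ⟨d, hd, rfl⟩ := h
  rw [hb, cj_eq_of_comm hd]

/-- links in `Om` -/
def LnkIn (Om : Set (Subgroup G)) (b : Subgroup G → Subgroup G) (K J : Subgroup G) : Prop :=
  K ∈ Om ∧ Lnk b K J

/-- `b` is constant on the classes generated by the links -/
theorem eq_of_gen (hb : ∀ K ∈ Om, ∀ g, b (cj g K) = cj g (b K)) {K J : Subgroup G}
    (h : Relation.EqvGen (LnkIn Om b) K J) : b K = b J := by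
  induction h with
  | rel x y h => exact (h.2.eq (hb x h.1)).symm
  | refl x => rfl
  | symm x y _ ih => exact ih.symm
  | trans x y z _ _ h1 h2 => exact h1.trans h2

theorem eq_of_reflTransGen (hb : ∀ K ∈ Om, ∀ g, b (cj g K) = cj g (b K)) {K J : Subgroup G}
    (h : Relation.ReflTransGen (fun K J => LnkIn Om b K J ∨ LnkIn Om b J K) K J) : b K = b J := by
  induction h with
  | refl => rfl
  | tail _ h1 ih =>
    rcases h1 with h1 | h1
    · exact ih.trans (h1.2.eq (hb _ h1.1)).symm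
    · exact ih.trans (h1.2.eq (hb _ h1.1))

/-- the normaliser of a member normalises its value -/
theorem normalizer_le (hb : ∀ K ∈ Om, ∀ g, b (cj g K) = cj g (b K)) {K : Subgroup G} (hK : K ∈ Om) :
    normalizer (K : Set G) ≤ normalizer (b K : Set G) := by
  intro g hg
  rw [mem_normalizer_iff_cj, ← hb K hK, mem_normalizer_iff_cj.1 hg]

section

variable [Finite G] {S : Subgroup G}

/-- the normaliser of `D(S)` normalises the constant value on `Om(S)` -/
theorem normalizer_DD_le (h : Hyp Om) (hS : IsPGroup 2 S)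
    (hb : ∀ K ∈ Om, ∀ g, b (cj g K) = cj g (b K)) {B : Subgroup G} (hB : ∀ K ∈ OmS Om S, b K = B)
    (hne : (OmS Om S).Nonempty) :
    normalizer (DD Om S : Set G) ≤ normalizer (B : Set G) := by
  obtain ⟨K, hK⟩ := hne
  intro g hg
  have h1 : cj g K ∈ OmS Om S := by
    have h2 := cj_mem_OmS' h.conj hg (K := K) (by rw [OmS_DD hS]; exact hK)
    rwa [OmS_DD hS] at h2
  rw [mem_normalizer_iff_cj]
  conv_lhs => rw [← hB K hK]
  rw [← hb K hK.1, hB _ h1]

/-- **Frattini**: `C(s) ≤ M` if `M` contains the 2-subgroups of the members contained in `C(s)` and `N(D(S))` -/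
theorem centralizer_le_of_two (h : Hyp Om) (S : Sylow 2 G) {s : G} {M : Subgroup G}
    (hs : ∀ K ∈ OmS Om (S : Subgroup G), K ≤ centralizer {s})
    (hM : ∀ J ∈ Om, J ≤ centralizer {s} → ∀ P ≤ J, IsPGroup 2 P → P ≤ M)
    (hN : normalizer (DD Om (S : Subgroup G) : Set G) ≤ M) : centralizer {s} ≤ M := by
  set Λ : Subgroup G := sSup {P | IsPGroup 2 P ∧ ∃ J ∈ Om, J ≤ centralizer {s} ∧ P ≤ J} with hΛ
  have h1 : Λ ≤ M := by
    refine sSup_le ?_
    rintro P ⟨hP, J, hJ, hJs, hPJ⟩
    exact hM J hJ hJs P hPJ hP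
  have key : ∀ g ∈ centralizer {s}, cj g Λ ≤ Λ := by
    intro g hg
    rw [Cit.cj_le_iff]
    refine sSup_le ?_
    rintro P ⟨hP, J, hJ, hJs, hPJ⟩
    rw [← Cit.cj_le_iff]
    refine le_sSup ⟨isPGroup_cj hP, cj g J, h.conj J hJ g, ?_, cj_mono g hPJ⟩
    have h2 := cj_mono g hJs
    rw [cj_centralizer] at h2
    have h3 : g * s * g⁻¹ = s := by
      rw [mem_centralizer_singleton_iff.1 hg]; group
    rwa [h3] at h2
  have hn : centralizer {s} ≤ normalizer (Λ : Set G) := by
    intro g hg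
    rw [mem_normalizer_iff_cj]
    refine le_antisymm (key g hg) ?_
    have h2 := cj_mono g (key g⁻¹ (inv_mem hg))
    rwa [cj_cj_inv] at h2
  have hD : DD Om (S : Subgroup G) ≤ Λ := by
    rw [DD_le_iff]
    intro K hK
    exact le_sSup ⟨S.isPGroup'.to_le inf_le_right, K, hK.1, hs K hK, inf_le_left⟩
  intro g hg
  obtain ⟨l, hl, hlg⟩ := frattini_DD h S hn hD hg
  have h2 : g = l⁻¹ * (l * g) := by group
  rw [h2]
  exact mul_mem (inv_mem (h1 hl)) (hN hlg)

/-- if the members of the frame commute with the 2-subgroups of the others then they centralise `E(S)` -/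
theorem le_centralizer_of_comm (h : Hyp Om) (hS : IsPGroup 2 S)
    (h0 : ∀ K ∈ OmS Om S, ∀ L ∈ OmS Om S, K ≠ L → ∀ k ∈ K, ∀ q ∈ L ⊓ S, k * q = q * k)
    {K : Subgroup G} (hK : K ∈ OmS Om S) {s : G} (hs : s ∈ ES Om S) : K ≤ centralizer {s} := by
  have h1 : ES Om S ≤ centralizer (K : Set G) := by
    rw [ES_le_iff]
    intro L hL
    rw [mem_centralizer_iff]
    intro k hk
    by_cases hKL : K = L
    · subst hKL
      exact mem_centralizer_singleton_iff.1 (h.le_centralizer hK.1 hk)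
    · exact h0 K hK L hL hKL k hk _ (h.zz_mem_inf hS hL)
  intro k hk
  rw [mem_centralizer_singleton_iff]
  exact (mem_centralizer_iff.1 (h1 hs)) k hk

/-- every member of `Om` is conjugate to a member of the frame -/
theorem exists_cj_mem_frame (h : Hyp Om) (S : Sylow 2 G) {K : Subgroup G} (hK : K ∈ Om) :
    ∃ g : G, cj g K ∈ OmS Om (S : Subgroup G) := by
  obtain ⟨Q, hQ⟩ := Hyp.exists_syl K
  obtain ⟨S', hS'⟩ := hQ.2.1.exists_le_sylow
  obtain ⟨g, hg⟩ := exists_cj_sylow S' S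
  refine ⟨g, ?_⟩
  rw [← hg]
  exact cj_mem_OmS h.conj g (mem_OmS_of_le hK hQ hS')

/-- the input of the CONSTANT LEMMA -/
structure Inp (Om : Set (Subgroup G)) (b : Subgroup G → Subgroup G) (S : Subgroup G) : Prop where
  /-- `b` is equivariant -/
  equi : ∀ K ∈ Om, ∀ g, b (cj g K) = cj g (b K)
  /-- the frame is connected by links -/
  conn : ∀ K ∈ OmS Om S, ∀ J ∈ OmS Om S, Relation.EqvGen (LnkIn Om b) K J
  /-- members of the frame centralise `E(S)` -/
  le_cent : ∀ s ∈ ES Om S, s ≠ 1 → ∀ K ∈ OmS Om S, K ≤ centralizer {s}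
  /-- the 2-subgroups of the members in `C(s)` normalise a member of the frame or centralise its value -/
  cov : ∀ s ∈ ES Om S, s ≠ 1 → ∀ J ∈ Om, J ≤ centralizer {s} → ∀ P ≤ J, IsPGroup 2 P →
    ∃ K ∈ OmS Om S, P ≤ normalizer (K : Set G) ∨ P ≤ centralizer (b K : Set G)
  /-- closing -/
  close : ∀ M : Subgroup G, (∀ s ∈ ES Om S, s ≠ 1 → centralizer {s} ≤ M) → M = ⊤

/-- the value of `b` on the frame is normal in `G` -/
theorem Inp.normal (h : Hyp Om) (S : Sylow 2 G) (I : Inp Om b (S : Subgroup G)) {K : Subgroup G}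
    (hK : K ∈ OmS Om (S : Subgroup G)) : (b K).Normal := by
  have hB : ∀ L ∈ OmS Om (S : Subgroup G), b L = b K := fun L hL => eq_of_gen I.equi (I.conn L hL K hK)
  rw [← normalizer_eq_top_iff]
  refine I.close _ fun s hs hs1 => ?_
  refine centralizer_le_of_two h S (I.le_cent s hs hs1) ?_
    (normalizer_DD_le h S.isPGroup' I.equi hB ⟨K, hK⟩)
  intro J hJ hJs P hPJ hP
  obtain ⟨L, hL, h1 | h1⟩ := I.cov s hs hs1 J hJ hJs P hPJ hP
  · rw [← hB L hL]
    exact h1.trans (normalizer_le I.equi hL.1)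
  · rw [← hB L hL]
    exact h1.trans (centralizer_le_normalizer _)

/-- the values at all members of the frame agree -/
theorem Inp.eq_of_mem (S : Subgroup G) (I : Inp Om b S) {K L : Subgroup G}
    (hK : K ∈ OmS Om S) (hL : L ∈ OmS Om S) : b K = b L := eq_of_gen I.equi (I.conn K hK L hL)

/-- **CONSTANT LEMMA** -/
theorem Inp.eq_bot (h : Hyp Om) (S : Sylow 2 G) (I : Inp Om b (S : Subgroup G))
    (hN : ∀ N : Subgroup G, N.Normal → N = ⊥ ∨ N = ⊤) (hb : ∀ K ∈ Om, b K ≠ ⊤) :
    ∀ K ∈ Om, b K = ⊥ := by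
  intro K hK
  obtain ⟨g, hg⟩ := exists_cj_mem_frame h S hK
  have h1 : b (cj g K) = ⊥ := (hN _ (I.normal h S hg)).resolve_right (hb _ hg.1)
  rw [I.equi K hK, eq_bot_iff] at h1
  have h2 := cj_mono g⁻¹ h1
  rw [cj_inv_cj] at h2
  rw [eq_bot_iff]
  refine h2.trans ?_
  intro x hx
  rw [mem_cj, mem_bot] at hx
  rw [mem_bot]
  have h3 : g * x * g⁻¹ = 1 := by rwa [inv_inv] at hx
  have h4 : x = g⁻¹ * (g * x * g⁻¹) * g := by group
  rw [h4, h3]; group

/-- the CONSTANT LEMMA if `G` has no normal subgroups of odd order -/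
theorem Inp.eq_bot_of_odd (h : Hyp Om) (S : Sylow 2 G) (I : Inp Om b (S : Subgroup G))
    (hN : ∀ N : Subgroup G, N.Normal → ¬ 2 ∣ Nat.card N → N = ⊥) (hb : ∀ K ∈ Om, ¬ 2 ∣ Nat.card (b K)) :
    ∀ K ∈ Om, b K = ⊥ := by
  intro K hK
  obtain ⟨g, hg⟩ := exists_cj_mem_frame h S hK
  have h1 : b (cj g K) = ⊥ := hN _ (I.normal h S hg) (hb _ hg.1)
  rw [I.equi K hK, eq_bot_iff] at h1
  have h2 := cj_mono g⁻¹ h1
  rw [cj_inv_cj] at h2
  rw [eq_bot_iff]
  refine h2.trans ?_
  intro x hx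
  rw [mem_cj, mem_bot] at hx
  rw [mem_bot]
  have h3 : g * x * g⁻¹ = 1 := by rwa [inv_inv] at hx
  have h4 : x = g⁻¹ * (g * x * g⁻¹) * g := by group
  rw [h4, h3]; group

end

end Cfsg.Agent.Cit.ConstLemma
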