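import Mathlib
import Cfsg.Agent.Cit.TPieces
import Cfsg.Agent.SignalizersComponents.PCompQuot

/-!
# Lifts of the pieces modulo odd cores (project CIT, (EX'), bb #9241)

`π : H → H'` an epimorphism with kernel of odd order such that the 2-subgroups of the members of `Om` centralise
`ker π` (`Cor Om π`); `D'` a quasisimple subgroup of `H'` (a piece of `img π Om`).

* `EE Om π D'` : the group generated by the 2-subgroups of the members `J` with `J π ≤ D'`; it covers `D'`, it is
  perfect, quasisimple, subnormal if `D'` is, and centralises `ker π`;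
* `exists_conj_mem` : it is transitive on the members if `D'` is;
* `comm_of_commute` : members commuting with `D'` modulo `ker π` commute with `EE`.
-/

set_option autoImplicit false
set_option linter.dupNamespace false
set_option linter.style.haveILetI false

namespace Cfsg.Agent.Cit.PieceLift

open Subgroup Cfsg
open scoped commutatorElement

variable {H H' : Type*} [Group H] [Group H']

/-- members with a common Sylow 2-subgroup are equal -/
theorem eq_of_syl_le [Finite H] {Om : Set (Subgroup H)} (h : Hyp Om) {K J Q : Subgroup H} (hK : K ∈ Om)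
    (hJ : J ∈ Om) (hQ : Syl Q K) (hQJ : Q ≤ J) : K = J := by
  obtain ⟨c, v, n, hq⟩ := h.exists_gq hK hQ
  have hzQ : zz K ∈ Q := by
    have h1 : orderOf (zz K) = 2 := h.orderOf_zz hK
    obtain ⟨S, hS⟩ := hQ.exists_sylow
    have h2 : IsPGroup 2 (zpowers (⟨zz K, h.zz_mem hK⟩ : K)) := by
      refine IsPGroup.of_card (n := 1) ?_
      rw [Nat.card_zpowers, Subgroup.orderOf_mk, h1, pow_one]
    haveI : Fact (Nat.Prime 2) := ⟨Nat.prime_two⟩
    obtain ⟨T, hT⟩ := h2.exists_le_sylow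
    obtain ⟨k, hk⟩ := MulAction.exists_smul_eq K T S
    have h3 : (k * ⟨zz K, h.zz_mem hK⟩ * k⁻¹ : K) ∈ (S : Subgroup K) := by
      rw [← hk]
      exact Subgroup.smul_mem_pointwise_smul _ (MulAut.conj k) (T : Subgroup K) (hT (mem_zpowers _))
    rw [hS] at h3
    have h4 : (k : H) * zz K * (k : H)⁻¹ = zz K := by
      have h5 := mem_centralizer_singleton_iff.1 (h.le_centralizer hK k.2)
      rw [h5]; group
    have h6 : (k : H) * zz K * (k : H)⁻¹ ∈ Q := h3
    rwa [h4] at h6
  have hz : zz K = zz J := h.uniq J hJ _ (hQJ hzQ) (h.orderOf_zz hK)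
  rcases h.h2 K hK J hJ hz with h1 | h1
  · exact h1
  · exfalso
    have h2 : ⁅c, v⁆ ∈ OO K :=
      (h1.trans inf_le_left) (commutator_mem_commutator (hQ.1 hq.c_mem) (hQJ hq.v_mem))
    have h3 : ⁅c, v⁆ ∈ Q := by
      rw [commutatorElement_def]
      exact Q.mul_mem (Q.mul_mem (Q.mul_mem hq.c_mem hq.v_mem) (Q.inv_mem hq.c_mem)) (Q.inv_mem hq.v_mem)
    obtain ⟨k, hk⟩ := hQ.2.1 ⟨_, h3⟩
    have h4 : ⁅c, v⁆ = 1 := eq_one_of_odd (odd_OO K) h2 (a := k) (congrArg Subtype.val hk)
    exact hq.not_comm (commutatorElement_eq_one_iff_mul_comm.1 h4).symm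

/-- (C) : the 2-subgroups of the members centralise the kernel of `π`, of odd order -/
structure Cor (Om : Set (Subgroup H)) (π : H →* H') : Prop where
  hyp : Hyp Om
  surj : Function.Surjective π
  odd : ¬ 2 ∣ Nat.card π.ker
  cor : ∀ J ∈ Om, ∀ P ≤ J, IsPGroup 2 P → P ≤ centralizer (π.ker : Set H)

/-- the lift of `D'` -/
def EE (Om : Set (Subgroup H)) (π : H →* H') (D' : Subgroup H') : Subgroup H :=
  sSup {P | IsPGroup 2 P ∧ ∃ J ∈ Om, P ≤ J ∧ J.map π ≤ D'}

variable {Om : Set (Subgroup H)} {π : H →* H'} {D' : Subgroup H'}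

theorem le_EE {J P : Subgroup H} (hP : IsPGroup 2 P) (hJ : J ∈ Om) (hPJ : P ≤ J) (hJD : J.map π ≤ D') :
    P ≤ EE Om π D' := le_sSup ⟨hP, J, hJ, hPJ, hJD⟩

theorem EE_map_le : (EE Om π D').map π ≤ D' := by
  rw [Subgroup.map_le_iff_le_comap]
  refine sSup_le ?_
  rintro P ⟨-, J, -, h1, h2⟩
  exact h1.trans (Subgroup.map_le_iff_le_comap.1 h2)

theorem cj_EE (hO : ∀ K ∈ Om, ∀ g, cj g K ∈ Om) (g : H) : cj g (EE Om π D') = EE Om π (cj (π g) D') := by
  have key : ∀ (g : H) (D' : Subgroup H'), cj g (EE Om π D') ≤ EE Om π (cj (π g) D') := by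
    intro g D'
    rw [Cit.cj_le_iff]
    refine sSup_le ?_
    rintro P ⟨h1, J, hJ, h2, h3⟩
    rw [← Cit.cj_le_iff]
    refine le_EE (isPGroup_cj h1) (hO J hJ g) (cj_mono g h2) ?_
    rw [Cit.cj_map]
    exact cj_mono _ h3
  refine le_antisymm (key g D') ?_
  have h1 := cj_mono g (key g⁻¹ (cj (π g) D'))
  rwa [cj_cj_inv, map_inv, cj_inv_cj] at h1

section

variable [Finite H] (C : Cor Om π)

include C

theorem EE_le_centralizer : EE Om π D' ≤ centralizer (π.ker : Set H) := by
  refine sSup_le ?_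
  rintro P ⟨h1, J, hJ, h2, -⟩
  exact C.cor J hJ P h2 h1

theorem EE_comm_ker {e a : H} (he : e ∈ EE Om π D') (ha : a ∈ π.ker) : e * a = a * e :=
  ((mem_centralizer_iff.1 (EE_le_centralizer C he)) a ha).symm

/-- the lift covers `D'` -/
theorem EE_map (hD : IsQuasisimple D') (hne : ∃ J ∈ Om, J.map π ≤ D') : (EE Om π D').map π = D' := by
  have hn : D' ≤ normalizer (((EE Om π D').map π : Subgroup H') : Set H') := by
    intro d hd
    obtain ⟨g, rfl⟩ := C.surj d
    rw [mem_normalizer_iff_cj, ← Cit.cj_map, cj_EE C.hyp.conj, mem_normalizer_iff_cj.1 (le_normalizer hd)]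
  have hN : (((EE Om π D').map π).subgroupOf D').Normal :=
    (normal_subgroupOf_iff_le_normalizer EE_map_le).2 hn
  rcases SignalizersComponents.LayerBasic.quasisimple_normal hD _ hN with h1 | h1
  · exact le_antisymm EE_map_le (subgroupOf_eq_top.1 h1)
  · exfalso
    obtain ⟨J, hJ, hJD⟩ := hne
    obtain ⟨Q, hQ⟩ := Hyp.exists_syl J
    obtain ⟨c, v, n, hq⟩ := C.hyp.exists_gq hJ hQ
    have hQE : Q ≤ EE Om π D' := le_EE hQ.2.1 hJ hQ.1 hJD
    have hcD : π c ∈ D' := hJD ⟨c, hQ.1 hq.c_mem, rfl⟩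
    have hvD : π v ∈ D' := hJD ⟨v, hQ.1 hq.v_mem, rfl⟩
    have h2 : (⟨π c, hcD⟩ : D') ∈ center D' := h1 (⟨c, hQE hq.c_mem, rfl⟩ : π c ∈ (EE Om π D').map π)
    have h3 : π v * π c = π c * π v := congrArg Subtype.val (mem_center_iff.1 h2 ⟨π v, hvD⟩)
    have h4 : ⁅c, v⁆ ∈ π.ker := by
      rw [MonoidHom.mem_ker, map_commutatorElement, commutatorElement_eq_one_iff_mul_comm]
      exact h3.symm
    have h5 : ⁅c, v⁆ ∈ Q := by
      rw [commutatorElement_def]
      exact Q.mul_mem (Q.mul_mem (Q.mul_mem hq.c_mem hq.v_mem) (Q.inv_mem hq.c_mem)) (Q.inv_mem hq.v_mem)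
    obtain ⟨k, hk⟩ := hQ.2.1 ⟨_, h5⟩
    have h6 : ⁅c, v⁆ = 1 := eq_one_of_odd C.odd h4 (a := k) (congrArg Subtype.val hk)
    exact hq.not_comm (commutatorElement_eq_one_iff_mul_comm.1 h6).symm

/-- the lift is perfect -/
theorem EE_perfect (hD : IsQuasisimple D') (hne : ∃ J ∈ Om, J.map π ≤ D') :
    ⁅EE Om π D', EE Om π D'⁆ = EE Om π D' := by
  apply le_antisymm
  · exact commutator_le_self _
  · have hDD : ⁅D', D'⁆ = D' := Subgroup.isPerfect_iff.1 hD.1
    have h1 : (⁅EE Om π D', EE Om π D'⁆).map π = D' := by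
      rw [Subgroup.map_commutator, EE_map C hD hne, hDD]
    set E := EE Om π D' with hE
    refine sSup_le ?_
    rintro P ⟨hP, J, hJ, hPJ, hJD⟩ t ht
    have htE : t ∈ E := le_EE hP hJ hPJ hJD ht
    obtain ⟨e, he, hee⟩ : π t ∈ (⁅E, E⁆).map π := by
      rw [h1]; exact hJD ⟨t, hPJ ht, rfl⟩
    have heE : e ∈ E := commutator_le_self _ he
    have ha : e⁻¹ * t ∈ π.ker := by
      rw [MonoidHom.mem_ker, map_mul, map_inv, hee, inv_mul_cancel]
    set a := e⁻¹ * t with hadef
    have hc : Commute e a := EE_comm_ker C heE ha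
    have hta : t = e * a := by rw [hadef]; group
    have hodd : Odd (orderOf a) := odd_orderOf C.odd ha
    obtain ⟨k, hk⟩ := hP ⟨t, ht⟩
    have hk' : t ^ 2 ^ k = 1 := congrArg Subtype.val hk
    have hcop : (orderOf a).Coprime (orderOf t) := by
      have h3 : orderOf t ∣ 2 ^ k := orderOf_dvd_of_pow_eq_one hk'
      refine Nat.Coprime.coprime_dvd_right h3 (Nat.Coprime.pow_right k ?_)
      exact hodd.coprime_two_right
    have h4 : t ^ orderOf a ∈ ⁅E, E⁆ := by
      rw [hta, hc.mul_pow, pow_orderOf_eq_one, mul_one]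
      exact Subgroup.pow_mem _ he _
    obtain ⟨m, hm⟩ := exists_pow_eq_self_of_coprime hcop
    rw [← hm]
    exact Subgroup.pow_mem _ h4 m

/-- the lift is quasisimple -/
theorem EE_quasisimple (hD : IsQuasisimple D') (hne : ∃ J ∈ Om, J.map π ≤ D') :
    IsQuasisimple (EE Om π D') := by
  set E := EE Om π D' with hE
  have hmem : ∀ x : ↥E, (π.comp E.subtype) x ∈ D' := fun x => EE_map_le (Om := Om) (π := π) ⟨x, x.2, rfl⟩
  let φ : ↥E →* ↥D' := (π.comp E.subtype).codRestrict D' hmem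
  have hφ : Function.Surjective φ := by
    rintro ⟨d, hd⟩
    rw [← EE_map C hD hne] at hd
    obtain ⟨e, he, rfl⟩ := hd
    exact ⟨⟨e, he⟩, rfl⟩
  have hker : φ.ker ≤ center ↥E := by
    intro x hx
    rw [mem_center_iff]
    intro y
    apply Subtype.ext
    have h1 : (x : H) ∈ π.ker := congrArg Subtype.val (MonoidHom.mem_ker.1 hx)
    exact EE_comm_ker C y.2 h1
  refine SignalizersComponents.PCompQuot.quasisimple_of_central_quotient
    (Subgroup.isPerfect_iff.2 (EE_perfect C hD hne)) hker ?_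
  exact SignalizersComponents.LayerBasic.quasisimple_congr
    (QuotientGroup.quotientKerEquivOfSurjective φ hφ).symm hD

theorem comap_le_normalizer (hD : IsQuasisimple D') (hne : ∃ J ∈ Om, J.map π ≤ D') :
    D'.comap π ≤ normalizer (EE Om π D' : Set H) := by
  intro g hg
  have h1 : π g ∈ (EE Om π D').map π := by rw [EE_map C hD hne]; exact hg
  obtain ⟨e, he, hee⟩ := h1
  have h2 : e⁻¹ * g ∈ π.ker := by rw [MonoidHom.mem_ker, map_mul, map_inv, hee, inv_mul_cancel]
  have h3 : e⁻¹ * g ∈ normalizer (EE Om π D' : Set H) := by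
    refine centralizer_le_normalizer _ ?_
    rw [mem_centralizer_iff]
    exact fun y hy => EE_comm_ker C hy h2
  have h4 : g = e * (e⁻¹ * g) := by group
  rw [h4]
  exact mul_mem (le_normalizer he) h3

/-- the lift is subnormal -/
theorem EE_subnormal (hD : IsQuasisimple D') (hne : ∃ J ∈ Om, J.map π ≤ D') (hs : D'.IsSubnormal) :
    (EE Om π D').IsSubnormal := by
  have hle : EE Om π D' ≤ D'.comap π := Subgroup.map_le_iff_le_comap.1 EE_map_le
  exact IsSubnormal.step _ _ hle (hs.comap π)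
    ((normal_subgroupOf_iff_le_normalizer hle).2 (comap_le_normalizer C hD hne))

theorem EE_component (hD : IsQuasisimple D') (hne : ∃ J ∈ Om, J.map π ≤ D') (hs : D'.IsSubnormal) :
    IsComponent (EE Om π D') := ⟨EE_subnormal C hD hne hs, EE_quasisimple C hD hne⟩

/-- (P2) members equal modulo the kernel are equal -/
theorem eq_of_map_eq {J K : Subgroup H} (hJ : J ∈ Om) (hK : K ∈ Om) (h : J.map π = K.map π) : J = K := by
  haveI : Fact (Nat.Prime 2) := ⟨Nat.prime_two⟩
  haveI : Finite H' := Finite.of_surjective π C.surj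
  obtain ⟨Q, hQ⟩ := Hyp.exists_syl J
  obtain ⟨R, hR⟩ := Hyp.exists_syl K
  -- `Q` and `R` are Sylow in `K ⊔ ker π`
  have hQ' : Q.map π ≤ K.map π := by rw [← h]; exact Subgroup.map_mono hQ.1
  -- conjugate inside the image
  obtain ⟨k, hk, hkR⟩ := (Syl.map (f := π) hR).exists_conj (R := Q.map π) (K := K.map π)
    ⟨hQ', hQ.2.1.map _, by
      have h1 := (Syl.map (f := π) hQ).2.2
      rwa [h] at h1⟩
  obtain ⟨y, hy, rfl⟩ := hk
  rw [← Cit.cj_map] at hkR
  -- `Q ≤ (cj y R) ⊔ ker π` and both centralise the kernel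
  have h5 : Q ≤ cj y R := by
    intro q hq
    have h6 : π q ∈ (cj y R).map π := by rw [hkR]; exact ⟨q, hq, rfl⟩
    obtain ⟨r, hr, hrr⟩ := h6
    have h7 : r⁻¹ * q ∈ π.ker := by rw [MonoidHom.mem_ker, map_mul, map_inv, hrr, inv_mul_cancel]
    have hrK : cj y R ≤ K := by
      have := cj_mono y hR.1
      rwa [mem_normalizer_iff_cj.1 (le_normalizer hy)] at this
    have h8 : Commute r (r⁻¹ * q) :=
      (mem_centralizer_iff.1 (C.cor K hK _ hrK (isPGroup_cj hR.2.1) hr) _ h7).symm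
    obtain ⟨a, ha⟩ := hQ.2.1 ⟨q, hq⟩
    obtain ⟨b, hb⟩ := (isPGroup_cj (g := y) hR.2.1) ⟨r, hr⟩
    have ha' : q ^ 2 ^ a = 1 := congrArg Subtype.val ha
    have hb' : r ^ 2 ^ b = 1 := congrArg Subtype.val hb
    have h9 : (r⁻¹ * q) ^ 2 ^ (a + b) = 1 := by
      have h10 : Commute r⁻¹ q := by
        have := h8.symm
        have h11 : Commute (r⁻¹ * q) r := this
        have h12 : r⁻¹ * q * r = r * (r⁻¹ * q) := h11
        have h13 : r⁻¹ * q * r = q := by rw [h12]; group
        have h14 : q * r = r * q := by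
          have : r * (r⁻¹ * q * r) = r * q := by rw [h13]
          rw [← this]; group
        exact (show Commute r q from h14.symm).inv_left
      rw [h10.mul_pow, pow_add, pow_mul', inv_pow, hb', inv_one, one_pow, one_mul, pow_mul, ha', one_pow]
    have h15 := eq_one_of_odd C.odd h7 h9
    have h16 : q = r := by
      have : r⁻¹ * q = 1 := h15
      rw [inv_mul_eq_one] at this
      exact this.symm
    rw [h16]; exact hr
  have h6 : cj y R ≤ K := by
    have := cj_mono y hR.1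
    rwa [mem_normalizer_iff_cj.1 (le_normalizer hy)] at this
  exact eq_of_syl_le C.hyp hJ hK hQ (h5.trans h6)

/-- (P2) transitivity -/
theorem exists_conj_mem (hD : IsQuasisimple D') {J K : Subgroup H} (hJ : J ∈ Om) (hK : K ∈ Om)
    (hJD : J.map π ≤ D') {d : H'} (hd : d ∈ D') (h : cj d (J.map π) = K.map π) :
    ∃ e ∈ EE Om π D', cj e J = K := by
  rw [← EE_map C hD ⟨J, hJ, hJD⟩] at hd
  obtain ⟨e, he, rfl⟩ := hd
  refine ⟨e, he, eq_of_map_eq C (C.hyp.conj J hJ e) hK ?_⟩
  rw [Cit.cj_map, h]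

/-- (P4) a subgroup commuting with `D'` modulo the kernel commutes with the lift -/
theorem comm_of_commute (hD : IsQuasisimple D') (hne : ∃ J ∈ Om, J.map π ≤ D') {Y : Subgroup H}
    (h : ∀ y ∈ Y, ∀ d ∈ D', π y * d = d * π y) : ∀ y ∈ Y, ∀ e ∈ EE Om π D', y * e = e * y := by
  set E := EE Om π D' with hE
  have h1 : ⁅Y, E⁆ ≤ π.ker := by
    rw [commutator_le]
    intro y hy e he
    rw [MonoidHom.mem_ker, map_commutatorElement, commutatorElement_eq_one_iff_mul_comm]
    exact h y hy _ (EE_map_le ⟨e, he, rfl⟩)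
  have h2 : ⁅π.ker, E⁆ = ⊥ := by
    rw [commutator_comm, commutator_eq_bot_iff_le_centralizer]
    exact EE_le_centralizer C
  have h3 : ⁅Y, E⁆ = ⊥ := by
    refine Lib.ComponentSolvable.commutator_eq_bot_of_perfect
      (Subgroup.isPerfect_iff.2 (EE_perfect C hD hne)) ?_
    rw [eq_bot_iff, ← h2]
    exact commutator_mono h1 le_rfl
  intro y hy e he
  have h4 : ⁅y, e⁆ ∈ ⁅Y, E⁆ := commutator_mem_commutator hy he
  rw [h3, mem_bot, commutatorElement_eq_one_iff_mul_comm] at h4
  exact h4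

/-- (P3) the lift centralises the solvable subgroups it normalises -/
theorem comm_of_normalizes (hD : IsQuasisimple D') (hne : ∃ J ∈ Om, J.map π ≤ D') (hs : D'.IsSubnormal)
    {Y : Subgroup H} (hY : Group.IsSolvable Y) (hn : EE Om π D' ≤ normalizer (Y : Set H)) :
    ∀ y ∈ Y, ∀ e ∈ EE Om π D', y * e = e * y := by
  have h1 := Lib.ComponentSolvable.commutator_component_solvable_eq_bot (EE_component C hD hne hs) hY hn
  intro y hy e he
  have h4 : ⁅e, y⁆ ∈ ⁅EE Om π D', Y⁆ := commutator_mem_commutator he hy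
  rw [h1, mem_bot, commutatorElement_eq_one_iff_mul_comm] at h4
  exact h4.symm

end

end Cfsg.Agent.Cit.PieceLift
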