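import Mathlib
import Cfsg.Agent.Cit.PieceLift
import Cfsg.Agent.Cit.UseT

/-!
# Lifts of the pieces of `C(s)/O(C(s))` to `G` (project CIT, (EX'), bb #9241)

`CorG Om H` : the 2-subgroups of the members in `H` centralise `O(H)` and `H / O(H)` has pieces.

* `bar H K` : the image of `K` in `H / O(H)`; `fb Om H` : the images of the members contained in `H`;
* `PT Om H K` : the piece of `bar H K`; `DL Om H D'` : the lift of the piece `D'` to a subgroup of `G`;
* `DL_quasisimple`, `DL_comm_core`, `comm_of_bar`, `comm_of_normalizes`, `exists_conj_DL`, `cj_DL`,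
  `mem_normalizer_DL`.
-/

set_option autoImplicit false
set_option linter.dupNamespace false
set_option linter.style.haveILetI false
set_option linter.unusedSectionVars false

namespace Cfsg.Agent.Cit.PieceG

open Subgroup Cfsg Cfsg.Agent.Cit.UseT Cfsg.Agent.Cit.PieceLift
open scoped commutatorElement

/-! ### Pieces are subnormal -/

section Sub

variable {X : Type*} [Group X] {Om : Set (Subgroup X)}

theorem normal_sSup (hO : ∀ K ∈ Om, ∀ g, cj g K ∈ Om) : (sSup Om).Normal := by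
  have key : ∀ g : X, cj g (sSup Om) ≤ sSup Om := by
    intro g
    rw [Cit.cj_le_iff]
    refine sSup_le fun J hJ => ?_
    rw [← Cit.cj_le_iff]
    exact le_sSup (hO J hJ g)
  constructor
  intro n hn g
  exact key g (conj_mem_cj hn)

theorem pc_le_sSup {K : Subgroup X} (hK : K ∈ Om) : pc Om K ≤ sSup Om :=
  sSup_le fun _ hJ => le_sSup (chn_mem hK hJ)

theorem pc_subnormal (hO : ∀ K ∈ Om, ∀ g, cj g K ∈ Om) {K : Subgroup X} (hK : K ∈ Om) :
    (pc Om K).IsSubnormal :=
  IsSubnormal.step _ _ (pc_le_sSup hK) (normal_sSup hO).isSubnormal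
    ((normal_subgroupOf_iff_le_normalizer (pc_le_sSup hK)).2 (sSup_le_normalizer_pc hK))

end Sub

variable {G : Type*} [Group G] {Om : Set (Subgroup G)}

/-- the image of `K` in `H / O(H)` -/
def bar (H K : Subgroup G) : Subgroup (HQ H) := (K.subgroupOf H).map (qm H)

/-- the images of the members contained in `H` -/
def fb (Om : Set (Subgroup G)) (H : Subgroup G) : Set (Subgroup (HQ H)) := img (qm H) (restr Om H)

/-- the piece of `bar H K` -/
def PT (Om : Set (Subgroup G)) (H K : Subgroup G) : Subgroup (HQ H) := pc (fb Om H) (bar H K)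

/-- the lift of the piece `D'` -/
def DL (Om : Set (Subgroup G)) (H : Subgroup G) (D' : Subgroup (HQ H)) : Subgroup G :=
  (EE (restr Om H) (qm H) D').map H.subtype

theorem bar_mem {H K : Subgroup G} (hK : K ∈ Om) (hKH : K ≤ H) : bar H K ∈ fb Om H :=
  ⟨_, subgroupOf_mem_restr hK hKH, rfl⟩

theorem exists_bar {H : Subgroup G} {J : Subgroup (HQ H)} (hJ : J ∈ fb Om H) :
    ∃ K ∈ Om, K ≤ H ∧ bar H K = J := by
  obtain ⟨K, hK, rfl⟩ := hJ
  refine ⟨K.map H.subtype, hK, map_subtype_le _, ?_⟩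
  rw [bar]
  congr 1
  ext x
  simp [mem_subgroupOf]

theorem bar_mono {H K L : Subgroup G} (h : K ≤ L) : bar H K ≤ bar H L :=
  Subgroup.map_mono (fun _ hx => h hx)

theorem mem_bar {H K : Subgroup G} {x : H} (hx : (x : G) ∈ K) : qm H x ∈ bar H K := ⟨x, hx, rfl⟩

theorem qm_eq_one_iff {H : Subgroup G} {x : H} : qm H x = 1 ↔ (x : G) ∈ OO H := by
  rw [← MonoidHom.mem_ker, ker_qm]
  constructor
  · exact fun h => ⟨x, h, rfl⟩
  · rintro ⟨y, hy, h⟩
    rwa [← Subtype.ext (h : (y : G) = x)]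

theorem cj_bar {H K : Subgroup G} (g : H) : bar H (cj (g : G) K) = cj (qm H g) (bar H K) := by
  rw [bar, bar, cj_subgroupOf, cj_map]

theorem le_bar {H K : Subgroup G} : K ⊓ H ≤ ((bar H K).comap (qm H)).map H.subtype := by
  intro x hx
  exact ⟨⟨x, hx.2⟩, ⟨⟨x, hx.2⟩, hx.1, rfl⟩, rfl⟩

/-- (C) for `H` and the pieces of `H / O(H)` -/
structure CorG (Om : Set (Subgroup G)) (H : Subgroup G) : Prop where
  hyp : Hyp Om
  cor : ∀ K ∈ Om, K ≤ H → ∀ P ≤ K, IsPGroup 2 P → P ≤ centralizer (OO H : Set G)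
  pcs : HasPieces (fb Om H)

/-- a quasisimple piece -/
structure QP (Om : Set (Subgroup G)) (H : Subgroup G) (D' : Subgroup (HQ H)) : Prop where
  qs : IsQuasisimple D'
  two : IsPGroup 2 (center D')
  sub : D'.IsSubnormal
  ne : ∃ J ∈ restr Om H, J.map (qm H) ≤ D'
  cases : ∀ J ∈ fb Om H, J ≤ D' ∨ J ≤ centralizer (D' : Set (HQ H))
  conj : ∀ g : HQ H, cj g D' = D' ∨ cj g D' ≤ centralizer (D' : Set (HQ H))

section

variable [Finite G] {H : Subgroup G}

theorem fb_hyp (h : Hyp Om) (H : Subgroup G) : Hyp (fb Om H) :=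
  (h.restr H).img (qm_surjective H) (not_dvd_ker H)

/-- the quasisimple pieces -/
theorem qp_PT (C : CorG Om H) {K : Subgroup G} (hK : K ∈ Om) (hKH : K ≤ H) (hne : PT Om H K ∉ fb Om H) :
    QP Om H (PT Om H K) := by
  have hf := fb_hyp C.hyp H
  have hb : bar H K ∈ fb Om H := bar_mem hK hKH
  have h1 := (C.pcs.piece hf hb).quasisimple hne
  refine ⟨h1.1, h1.2, pc_subnormal hf.conj hb, ⟨K.subgroupOf H, subgroupOf_mem_restr hK hKH, le_pc⟩, ?_, ?_⟩
  · intro J hJ
    by_cases h2 : pc (fb Om H) J = pc (fb Om H) (bar H K)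
    · left
      exact le_pc.trans h2.le
    · right
      exact le_pc.trans (pc_comm hJ hb h2)
  · intro g
    rw [PT, cj_pc hf.conj]
    by_cases h2 : pc (fb Om H) (cj g (bar H K)) = pc (fb Om H) (bar H K)
    · left; exact h2
    · right
      exact pc_comm (hf.conj _ hb g) hb h2

theorem bar_le_PT {K : Subgroup G} : bar H K ≤ PT Om H K := le_pc

theorem CorG.cor' (C : CorG Om H) : Cor (restr Om H) (qm H) where
  hyp := C.hyp.restr H
  surj := qm_surjective H
  odd := not_dvd_ker H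
  cor J hJ P hPJ hP := by
    have h1 := C.cor _ hJ (map_subtype_le _) (P.map H.subtype) (Subgroup.map_mono hPJ) (hP.map _)
    intro x hx
    rw [mem_centralizer_iff]
    intro y hy
    rw [ker_qm] at hy
    apply Subtype.ext
    exact mem_centralizer_iff.1 (h1 ⟨x, hx, rfl⟩) _ ⟨y, hy, rfl⟩

theorem DL_le {D' : Subgroup (HQ H)} : DL Om H D' ≤ H := map_subtype_le _

theorem mem_DL {D' : Subgroup (HQ H)} {x : H} : (x : G) ∈ DL Om H D' ↔ x ∈ EE (restr Om H) (qm H) D' := by
  constructor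
  · rintro ⟨y, hy, h⟩
    rwa [← Subtype.ext (h : (y : G) = x)]
  · exact fun h => ⟨x, h, rfl⟩

theorem qm_mem_of_DL {D' : Subgroup (HQ H)} {x : H} (hx : (x : G) ∈ DL Om H D') : qm H x ∈ D' :=
  EE_map_le ⟨x, mem_DL.1 hx, rfl⟩

/-- 2-subgroups of the members in the piece lie in its lift -/
theorem le_DL {D' : Subgroup (HQ H)} {K P : Subgroup G} (hK : K ∈ Om) (hKH : K ≤ H) (hP : IsPGroup 2 P)
    (hPK : P ≤ K) (hKD : bar H K ≤ D') : P ≤ DL Om H D' := by
  have h1 : P.subgroupOf H ≤ EE (restr Om H) (qm H) D' :=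
    le_EE hP.comap_subtype (subgroupOf_mem_restr hK hKH) (fun _ hx => hPK hx) hKD
  intro x hx
  exact ⟨⟨x, hKH (hPK hx)⟩, h1 hx, rfl⟩

theorem zz_mem_DL (h : Hyp Om) {D' : Subgroup (HQ H)} {K : Subgroup G} (hK : K ∈ Om) (hKH : K ≤ H)
    (hKD : bar H K ≤ D') : zz K ∈ DL Om H D' := by
  have h1 : IsPGroup 2 (zpowers (zz K)) := by
    refine IsPGroup.of_card (n := 1) ?_
    rw [Nat.card_zpowers, h.orderOf_zz hK, pow_one]
  exact le_DL hK hKH h1 (by rw [zpowers_le]; exact h.zz_mem hK) hKD (mem_zpowers _)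

theorem cj_DL (h : Hyp Om) {D' : Subgroup (HQ H)} (g : H) :
    cj (g : G) (DL Om H D') = DL Om H (cj (qm H g) D') := by
  rw [DL, DL, ← cj_EE (h.restr H).conj, cj_map]
  rfl

variable (C : CorG Om H) {D' : Subgroup (HQ H)} (hD : QP Om H D')

include C

theorem DL_comm_core {a b : G} (ha : a ∈ DL Om H D') (hb : b ∈ OO H) : a * b = b * a := by
  obtain ⟨x, hx, rfl⟩ := ha
  obtain ⟨y, hy, rfl⟩ := hb
  have h1 := EE_comm_ker C.cor' hx (a := y) (by rw [ker_qm]; exact hy)
  exact congrArg Subtype.val h1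

include hD

/-- the lift covers the piece -/
theorem DL_cover {d : HQ H} (hd : d ∈ D') : ∃ x : H, (x : G) ∈ DL Om H D' ∧ qm H x = d := by
  rw [← EE_map C.cor' hD.qs hD.ne] at hd
  obtain ⟨x, hx, rfl⟩ := hd
  exact ⟨x, ⟨x, hx, rfl⟩, rfl⟩

theorem bar_DL : bar H (DL Om H D') = D' := by
  apply le_antisymm
  · rintro _ ⟨x, hx, rfl⟩
    exact qm_mem_of_DL hx
  · intro d hd
    obtain ⟨x, hx, rfl⟩ := DL_cover C hD hd
    exact ⟨x, hx, rfl⟩

theorem DL_perfect : ⁅DL Om H D', DL Om H D'⁆ = DL Om H D' := by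
  rw [DL, ← Subgroup.map_commutator, EE_perfect C.cor' hD.qs hD.ne]

theorem DL_quasisimple : IsQuasisimple (DL Om H D') :=
  SignalizersComponents.LayerBasic.quasisimple_congr
    ((EE (restr Om H) (qm H) D').equivMapOfInjective H.subtype H.subtype_injective)
    (EE_quasisimple C.cor' hD.qs hD.ne)

theorem DL_subnormal : ((DL Om H D').subgroupOf H).IsSubnormal := by
  have h1 : (DL Om H D').subgroupOf H = EE (restr Om H) (qm H) D' := by
    ext x
    rw [mem_subgroupOf]
    exact mem_DL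
  rw [h1]
  exact EE_subnormal C.cor' hD.qs hD.ne hD.sub

/-- elements commuting with the piece modulo `O(H)` commute with the lift -/
theorem comm_of_bar {Y : Subgroup G} (hY : Y ≤ H) (h : bar H Y ≤ centralizer (D' : Set (HQ H))) :
    ∀ y ∈ Y, ∀ e ∈ DL Om H D', y * e = e * y := by
  rintro y hy _ ⟨e, he, rfl⟩
  have h1 := comm_of_commute C.cor' hD.qs hD.ne (Y := Y.subgroupOf H) (fun y hy d hd =>
    ((mem_centralizer_iff.1 (h ⟨y, hy, rfl⟩)) d hd).symm) ⟨y, hY hy⟩ hy e he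
  exact congrArg Subtype.val h1

/-- members outside the piece commute with the lift -/
theorem comm_member {J : Subgroup G} (hJ : J ∈ Om) (hJH : J ≤ H) (hJD : ¬ bar H J ≤ D') :
    ∀ y ∈ J, ∀ e ∈ DL Om H D', y * e = e * y :=
  comm_of_bar C hD hJH ((hD.cases _ (bar_mem hJ hJH)).resolve_left hJD)

/-- the lift centralises the solvable subgroups of `H` it normalises -/
theorem comm_of_normalizes {Y : Subgroup G} (hYH : Y ≤ H) (hY : Group.IsSolvable Y)
    (hn : DL Om H D' ≤ normalizer (Y : Set G)) : ∀ y ∈ Y, ∀ e ∈ DL Om H D', y * e = e * y := by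
  rintro y hy _ ⟨e, he, rfl⟩
  have hs : Group.IsSolvable (Y.subgroupOf H) :=
    Group.isSolvable_of_isSolvable_injective (f := (subgroupOfEquivOfLe hYH).toMonoidHom)
      (subgroupOfEquivOfLe hYH).injective
  have h1 := PieceLift.comm_of_normalizes C.cor' hD.qs hD.ne hD.sub hs (by
    intro x hx
    have h2 := hn (⟨x, hx, rfl⟩ : (x : G) ∈ DL Om H D')
    rw [mem_normalizer_iff] at h2 ⊢
    intro z
    exact h2 z) ⟨y, hYH hy⟩ hy e he
  exact congrArg Subtype.val h1

/-- members conjugate under the piece are conjugate under its lift -/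
theorem exists_conj_DL {J K : Subgroup G} (hJ : J ∈ Om) (hK : K ∈ Om) (hJH : J ≤ H) (hKH : K ≤ H)
    (hJD : bar H J ≤ D') {d : HQ H} (hd : d ∈ D') (h : cj d (bar H J) = bar H K) :
    ∃ e ∈ DL Om H D', cj e J = K := by
  obtain ⟨e, he, h1⟩ := exists_conj_mem C.cor' hD.qs (subgroupOf_mem_restr hJ hJH)
    (subgroupOf_mem_restr hK hKH) hJD hd h
  refine ⟨e, ⟨e, he, rfl⟩, ?_⟩
  rw [← cj_subgroupOf] at h1
  have h2 : cj (e : G) J ≤ H := by
    have := cj_mono (e : G) hJH
    rwa [mem_normalizer_iff_cj.1 (le_normalizer e.2)] at this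
  rw [← map_subgroupOf_eq_of_le h2, h1, map_subgroupOf_eq_of_le hKH]

omit hD in
/-- members with the same image are equal -/
theorem eq_of_bar_eq {J K : Subgroup G} (hJ : J ∈ Om) (hK : K ∈ Om) (hJH : J ≤ H) (hKH : K ≤ H)
    (h : bar H J = bar H K) : J = K := by
  have h1 := eq_of_map_eq C.cor' (subgroupOf_mem_restr hJ hJH) (subgroupOf_mem_restr hK hKH) h
  rw [← map_subgroupOf_eq_of_le hJH, h1, map_subgroupOf_eq_of_le hKH]

/-- an element of `H` stabilising the piece normalises its lift -/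
theorem mem_normalizer_of_conj {g : G} (hg : g ∈ H) (h : cj (qm H ⟨g, hg⟩) D' = D') :
    g ∈ normalizer (DL Om H D' : Set G) := by
  rw [mem_normalizer_iff_cj]
  have h1 := cj_DL C.hyp (Om := Om) (D' := D') (⟨g, hg⟩ : H)
  rwa [h] at h1

/-- an element of `H` centralising a subgroup of odd order, not contained in `O(H)`, of the preimage of the piece
normalises its lift -/
theorem mem_normalizer_DL {g : G} (hg : g ∈ H) {Y : Subgroup G} (hYH : Y ≤ H) (hY : ¬ 2 ∣ Nat.card Y)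
    (hY1 : ¬ Y ≤ OO H) (hYD : bar H Y ≤ D') (hc : ∀ y ∈ Y, g * y = y * g) :
    g ∈ normalizer (DL Om H D' : Set G) := by
  refine mem_normalizer_of_conj C hD hg ?_
  rcases hD.conj (qm H ⟨g, hg⟩) with h | h
  · exact h
  · exfalso
    apply hY1
    intro y hy
    have hyH : y ∈ H := hYH hy
    have h1 : qm H ⟨y, hyH⟩ ∈ bar H Y := mem_bar hy
    have h2 : qm H ⟨y, hyH⟩ ∈ cj (qm H ⟨g, hg⟩) D' := by
      rw [mem_cj]
      have h3 : (qm H ⟨g, hg⟩)⁻¹ * qm H ⟨y, hyH⟩ * qm H ⟨g, hg⟩ = qm H ⟨y, hyH⟩ := by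
        rw [← map_inv, ← map_mul, ← map_mul]
        congr 1
        apply Subtype.ext
        change g⁻¹ * y * g = y
        rw [mul_assoc, ← hc y hy]; group
      rw [h3]
      exact hYD h1
    have h4 : (⟨qm H ⟨y, hyH⟩, hYD h1⟩ : D') ∈ center D' := by
      rw [mem_center_iff]
      intro d
      apply Subtype.ext
      exact mem_centralizer_iff.1 (h h2) d d.2
    obtain ⟨k, hk⟩ := hD.two ⟨_, h4⟩
    have hk' : (qm H ⟨y, hyH⟩) ^ 2 ^ k = 1 := by
      have := congrArg (fun t : center D' => ((t : D') : HQ H)) hk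
      simpa using this
    have hodd := odd_orderOf hY hy
    have h5 : orderOf (qm H ⟨y, hyH⟩) ∣ orderOf y := by
      have := orderOf_map_dvd (qm H) (⟨y, hyH⟩ : H)
      rwa [Subgroup.orderOf_mk] at this
    have h6 : orderOf (qm H ⟨y, hyH⟩) ∣ 2 ^ k := orderOf_dvd_of_pow_eq_one hk'
    have h7 : (orderOf y).Coprime (2 ^ k) := Nat.Coprime.pow_right k hodd.coprime_two_right
    have h8 : orderOf (qm H ⟨y, hyH⟩) = 1 := Nat.dvd_one.1 (by rw [← h7]; exact Nat.dvd_gcd h5 h6)
    have h9 : qm H ⟨y, hyH⟩ = 1 := orderOf_eq_one_iff.1 h8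
    exact qm_eq_one_iff.1 h9

end

end Cfsg.Agent.Cit.PieceG
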