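import Cfsg.Agent.Cit.UniOm
import Cfsg.Agent.Cit.CoresCore
import Cfsg.Agent.Cit.PieceG
import Cfsg.Agent.Cit.ConstLemma
import Cfsg.Agent.Nodes.ChartOfCls

/-!
# The condition (C) for the involutions of `E(S)` (project CIT, (EX') (0), helper61 bb #9241)

* `comm_inf` : a member `K` of the frame commutes with `L ⊓ S` if `L ⊓ S` centralises a group of odd order containing
  `O(K)`;
* `le_centralizer_of_core` : then `K ≤ C(s)` for `s ∈ E(S)`;
* `exists_cj_frame` : members in `C(s)` are `C(s)`-conjugate to members of the frame;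
* `corG` : (C) on the frame implies `CorG Om C(s)`;
* `exists_frame_piece` : every piece of `C(s)/O(C(s))` contains a member of the frame;
* `inp` : the input of the CONSTANT LEMMA from `CorG`;
* `chart_exists_cj`, `lnk_of_chart` : the links.
-/

set_option autoImplicit false
set_option linter.dupNamespace false
set_option linter.style.haveILetI false
set_option linter.unusedSectionVars false

namespace Cfsg.Agent.Cit.CorOf

open Subgroup Cfsg Cfsg.Agent.Cit.UseT Cfsg.Agent.Cit.PieceLift Cfsg.Agent.Cit.PieceG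
  Cfsg.Agent.Cit.ConstLemma
open scoped commutatorElement

section

variable {G : Type*} [Group G] [Finite G] {Om : Set (Subgroup G)} {S K L : Subgroup G}

/-! ### (0) -/

/-- a 2-element centralising a group of odd order containing all commutators with `k` commutes with `k` -/
theorem comm_of_odd {X : Subgroup G} (hX : ¬ 2 ∣ Nat.card X) {k y : G} (hc : ⁅k, y⁆ ∈ X)
    (hy : ∀ x ∈ X, y * x = x * y) {a : ℕ} (ha : y ^ 2 ^ a = 1) : k * y = y * k := by
  have key : ∀ n : ℕ, ⁅k, y ^ n⁆ = ⁅k, y⁆ ^ n := by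
    intro n
    induction n with
    | zero => simp
    | succ n ih =>
      have h1 : Commute (y ^ n) ⁅k, y⁆ := (show Commute y ⁅k, y⁆ from hy _ hc).pow_left n
      have h2 : ⁅k, y ^ (n + 1)⁆ = ⁅k, y ^ n⁆ * (y ^ n * ⁅k, y⁆ * (y ^ n)⁻¹) := by
        rw [pow_succ]
        simp only [commutatorElement_def]
        group
      rw [h2, h1.eq, mul_inv_cancel_right, ih, pow_succ]
  have h1 : ⁅k, y⁆ ^ 2 ^ a = 1 := by rw [← key, ha, commutatorElement_one_right]
  have h2 := eq_one_of_odd hX hc h1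
  rwa [commutatorElement_eq_one_iff_mul_comm] at h2

/-- **(0)** different members of the frame commute on 2-subgroups -/
theorem comm_inf (h : Hyp Om) (hS : IsPGroup 2 S) (hK : K ∈ OmS Om S) (hL : L ∈ OmS Om S) (hne : K ≠ L)
    {X : Subgroup G} (hKX : OO K ≤ X) (hX : ¬ 2 ∣ Nat.card X) (hLX : L ⊓ S ≤ centralizer (X : Set G)) :
    ∀ k ∈ K, ∀ y ∈ L ⊓ S, k * y = y * k := by
  intro k hk y hy
  obtain ⟨a, ha⟩ := hS ⟨y, hy.2⟩
  refine comm_of_odd hX (hKX (PairComm.commutator_le h hS hK hL hne (commutator_mem_commutator hk hy)))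
    (fun x hx => ((mem_centralizer_iff.1 (hLX hy)) x hx).symm) (a := a) ?_
  simpa using congrArg Subtype.val ha

/-- (C) for the involutions of the members of the frame: the members centralise `E(S)` -/
theorem le_centralizer_of_core (h : Hyp Om) (hS : IsPGroup 2 S)
    (hC : ∀ K ∈ OmS Om S, ∀ L ∈ OmS Om S, L ⊓ S ≤ centralizer (OO (centralizer {zz K}) : Set G))
    (hK : K ∈ OmS Om S) {s : G} (hs : s ∈ ES Om S) : K ≤ centralizer {s} :=
  le_centralizer_of_comm h hS (fun K hK L hL hne => comm_inf h hS hK hL hne (CoresCore.OO_le_XX h hK.1)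
    (odd_OO _) (hC K hK L hL)) hK hs

/-! ### Members of `C(s)` and the frame -/

/-- members contained in `H` are `H`-conjugate to members of the frame, if `D(S) ≤ H` -/
theorem exists_cj_frame (h : Hyp Om) (S : Sylow 2 G) {H : Subgroup G} (hD : DD Om (S : Subgroup G) ≤ H)
    {J : Subgroup G} (hJ : J ∈ Om) (hJH : J ≤ H) :
    ∃ g ∈ H, cj g J ∈ OmS Om (S : Subgroup G) ∧
      ∀ P ≤ J, IsPGroup 2 P → ∃ g ∈ H, cj g J ∈ OmS Om (S : Subgroup G) ∧ cj g P ≤ cj g J ⊓ (S : Subgroup G) := by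
  have key : ∀ P ≤ J, IsPGroup 2 P → ∃ g ∈ H, cj g J ∈ OmS Om (S : Subgroup G) ∧
      cj g P ≤ cj g J ⊓ (S : Subgroup G) := by
    intro P hPJ hP
    obtain ⟨Q, hQ, hPQ⟩ := exists_syl_ge hP hPJ
    obtain ⟨T, hT, hDT⟩ := exists_syl_ge (S.isPGroup'.to_le DD_le) hD
    obtain ⟨T', hT', hQT⟩ := exists_syl_ge hQ.2.1 (hQ.1.trans hJH)
    obtain ⟨g, hg, hgT⟩ := hT'.exists_conj hT
    have h1 : cj g Q ≤ T := by rw [← hgT]; exact cj_mono g hQT
    have h2 : cj g J ∈ OmS Om (S : Subgroup G) := by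
      rw [← OmS_eq_of_sylow h.conj S hT.2.1 hDT]
      exact mem_OmS_of_le (h.conj J hJ g) (hQ.cj g) h1
    refine ⟨g, hg, h2, ?_⟩
    rw [← inf_eq_of_sylow S hT.2.1 hDT h2]
    exact le_inf (cj_mono g hPJ) ((cj_mono g hPQ).trans h1)
  obtain ⟨g, hg, h1, -⟩ := key ⊥ bot_le IsPGroup.of_bot
  exact ⟨g, hg, h1, key⟩

/-- **(C) for all members in `C(s)`** -/
theorem cor_of_frame (h : Hyp Om) (S : Sylow 2 G) {H : Subgroup G}
    (hle : ∀ K ∈ OmS Om (S : Subgroup G), K ≤ H)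
    (hC : ∀ K ∈ OmS Om (S : Subgroup G), K ⊓ (S : Subgroup G) ≤ centralizer (OO H : Set G)) :
    ∀ J ∈ Om, J ≤ H → ∀ P ≤ J, IsPGroup 2 P → P ≤ centralizer (OO H : Set G) := by
  intro J hJ hJH P hPJ hP
  have hD : DD Om (S : Subgroup G) ≤ H := DD_le_iff.2 fun L hL => inf_le_left.trans (hle L hL)
  obtain ⟨-, -, -, h2⟩ := exists_cj_frame h S hD hJ hJH
  obtain ⟨g, hg, h3, h4⟩ := h2 P hPJ hP
  have h5 : cj g P ≤ centralizer (OO H : Set G) := h4.trans (hC _ h3)
  intro x hx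
  rw [mem_centralizer_iff]
  intro y hy
  have hn : g * y * g⁻¹ ∈ OO H := (mem_normalizer_iff.1 (le_normalizer_OO H hg) y).1 hy
  have h6 := mem_centralizer_iff.1 (h5 (conj_mem_cj hx)) _ hn
  have h7 : g * (y * x) * g⁻¹ = g * (x * y) * g⁻¹ := by
    calc g * (y * x) * g⁻¹ = g * y * g⁻¹ * (g * x * g⁻¹) := by group
      _ = g * x * g⁻¹ * (g * y * g⁻¹) := h6
      _ = g * (x * y) * g⁻¹ := by group
  exact mul_left_cancel (mul_right_cancel h7)

theorem corG_of_frame (h : Hyp Om) (S : Sylow 2 G) {H : Subgroup G}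
    (hle : ∀ K ∈ OmS Om (S : Subgroup G), K ≤ H)
    (hC : ∀ K ∈ OmS Om (S : Subgroup G), K ⊓ (S : Subgroup G) ≤ centralizer (OO H : Set G))
    (hp : HasPieces (fb Om H)) : CorG Om H where
  hyp := h
  cor := cor_of_frame h S hle hC
  pcs := hp

/-! ### Pieces and the frame -/

/-- every piece of `H / O(H)` contains a member of the frame -/
theorem exists_frame_piece (h : Hyp Om) (S : Sylow 2 G) {H : Subgroup G} (hD : DD Om (S : Subgroup G) ≤ H)
    {J : Subgroup G} (hJ : J ∈ Om) (hJH : J ≤ H) :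
    ∃ K ∈ OmS Om (S : Subgroup G), K ≤ H ∧ PT Om H K = PT Om H J := by
  have hf := fb_hyp h H
  have hJb : bar H J ∈ fb Om H := bar_mem hJ hJH
  set D' := PT Om H J with hD'
  have hsub : D'.IsSubnormal := pc_subnormal hf.conj hJb
  -- a Sylow 2-subgroup of `H` containing `D(S)`, and its image
  obtain ⟨T, hT, hDT⟩ := exists_syl_ge (S.isPGroup'.to_le DD_le) hD
  set Tb : Subgroup (HQ H) := (T.subgroupOf H).map (qm H) with hTb
  have hT1 : Syl (T.subgroupOf H) ⊤ := by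
    refine ⟨le_top, hT.2.1.comap_subtype, ?_⟩
    rw [relIndex_top_right]
    exact hT.2.2
  have hT2 : Syl Tb ⊤ := by
    have := Syl.map (f := qm H) hT1
    rwa [Subgroup.map_top_of_surjective _ (qm_surjective H)] at this
  -- `Tb ⊓ D'` is Sylow in `D'`
  have hTD : Syl (Tb ⊓ D') D' := by
    refine ⟨inf_le_right, hT2.2.1.to_le inf_le_left, ?_⟩
    rw [inf_relIndex_right]
    intro h2
    have h3 := hT2.2.2
    rw [relIndex_top_right] at h3
    exact h3 (h2.trans (SignalizersComponents.PCompCore.relIndex_dvd_index_of_subnormal Tb hsub))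
  -- conjugate a Sylow 2-subgroup of `bar J` into it
  obtain ⟨Q, hQ⟩ := Hyp.exists_syl (bar H J)
  obtain ⟨R, hR, hQR⟩ := exists_syl_ge hQ.2.1 (hQ.1.trans (bar_le_PT : bar H J ≤ D'))
  obtain ⟨d, hd, hdR⟩ := hR.exists_conj hTD
  have h1 : cj d Q ≤ Tb := (cj_mono d hQR).trans (by rw [hdR]; exact inf_le_left)
  have h2 : cj d (bar H J) ∈ OmS (fb Om H) Tb :=
    mem_OmS_of_le (hf.conj _ hJb d) (hQ.cj d) h1
  rw [fb, hTb, OmS_img (h.restr H) (not_dvd_ker H) hT1.2.1] at h2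
  obtain ⟨K', hK', hK'2⟩ := h2
  rw [mem_OmS_restr, map_subgroupOf_eq_of_le hT.1] at hK'
  set K := K'.map H.subtype with hK
  have hKH : K ≤ H := map_subtype_le _
  have hKb : bar H K = cj d (bar H J) := by
    rw [← hK'2, bar]
    congr 1
    rw [hK, subgroupOf, comap_map_eq_self_of_injective H.subtype_injective]
  refine ⟨K, ?_, hKH, ?_⟩
  · rw [← OmS_eq_of_sylow h.conj S hT.2.1 hDT]
    exact hK'
  · rw [PT, hKb, ← cj_pc hf.conj]
    exact mem_normalizer_iff_cj.1 (le_normalizer hd)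

/-- the 2-subgroups of the members in `H` normalise a member of the frame or are contained in the lift of a piece
containing a member of the frame -/
theorem cov_of_corG (S : Sylow 2 G) {H : Subgroup G} (C : CorG Om H) (hD : DD Om (S : Subgroup G) ≤ H)
    {J : Subgroup G} (hJ : J ∈ Om) (hJH : J ≤ H) {P : Subgroup G} (hPJ : P ≤ J) (hP : IsPGroup 2 P) :
    ∃ K ∈ OmS Om (S : Subgroup G), K ≤ H ∧
      (P ≤ K ∨ (PT Om H K ∉ fb Om H ∧ P ≤ DL Om H (PT Om H K))) := by
  obtain ⟨K, hK, hKH, h1⟩ := exists_frame_piece C.hyp S hD hJ hJH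
  refine ⟨K, hK, hKH, ?_⟩
  have hf := fb_hyp C.hyp H
  by_cases h2 : PT Om H K ∈ fb Om H
  · left
    -- the piece is a member: `bar J = PT = bar K`
    have h3 : bar H K = PT Om H K := hf.eq_of_le (bar_mem hK.1 hKH) h2 bar_le_PT
    have h4 : bar H J = PT Om H K := by
      rw [h1] at h2 ⊢
      exact hf.eq_of_le (bar_mem hJ hJH) h2 bar_le_PT
    have h5 : J = K := eq_of_bar_eq C hJ hK.1 hJH hKH (h4.trans h3.symm)
    rw [← h5]
    exact hPJ
  · right
    refine ⟨h2, le_DL hJ hJH hP hPJ ?_⟩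
    rw [h1]
    exact bar_le_PT

/-! ### The input of the CONSTANT LEMMA -/

/-- **the input of the CONSTANT LEMMA from `CorG`**: `C(s)`, `s ∈ E(S)`, satisfies (C) and the lift of every
quasisimple piece containing a member of the frame centralises the value of `b` at some member of the frame -/
theorem inp {b : Subgroup G → Subgroup G} (S : Sylow 2 G)
    (hC : ∀ s ∈ ES Om (S : Subgroup G), s ≠ 1 → CorG Om (centralizer {s}))
    (hle : ∀ s ∈ ES Om (S : Subgroup G), s ≠ 1 → ∀ K ∈ OmS Om (S : Subgroup G), K ≤ centralizer {s})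
    (equi : ∀ K ∈ Om, ∀ g, b (cj g K) = cj g (b K))
    (conn : ∀ K ∈ OmS Om (S : Subgroup G), ∀ J ∈ OmS Om (S : Subgroup G), Relation.EqvGen (LnkIn Om b) K J)
    (cent : ∀ s ∈ ES Om (S : Subgroup G), s ≠ 1 → ∀ K ∈ OmS Om (S : Subgroup G),
      PT Om (centralizer {s}) K ∉ fb Om (centralizer {s}) →
      ∃ L ∈ OmS Om (S : Subgroup G),
        DL Om (centralizer {s}) (PT Om (centralizer {s}) K) ≤ centralizer (b L : Set G))
    (close : ∀ M : Subgroup G, (∀ s ∈ ES Om (S : Subgroup G), s ≠ 1 → centralizer {s} ≤ M) → M = ⊤) :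
    Inp Om b (S : Subgroup G) where
  equi := equi
  conn := conn
  le_cent := hle
  cov := by
    intro s hs hs1 J hJ hJs P hPJ hP
    have hD : DD Om (S : Subgroup G) ≤ centralizer {s} :=
      DD_le_iff.2 fun L hL => inf_le_left.trans (hle s hs hs1 L hL)
    obtain ⟨K, hK, -, h1 | ⟨h1, h2⟩⟩ := cov_of_corG S (hC s hs hs1) hD hJ hJs hPJ hP
    · exact ⟨K, hK, Or.inl (h1.trans le_normalizer)⟩
    · obtain ⟨L, hL, h3⟩ := cent s hs hs1 K hK h1
      exact ⟨L, hL, Or.inr (h2.trans h3)⟩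
  close := close

/-- the condition `cent` if the values of `b` are in `O(C(s))` -/
theorem DL_le_centralizer_of_le {b : Subgroup G → Subgroup G} {H : Subgroup G} (C : CorG Om H)
    {D' : Subgroup (HQ H)} (hb : b L ≤ OO H) :
    DL Om H D' ≤ centralizer (b L : Set G) := by
  intro x hx
  rw [mem_centralizer_iff]
  exact fun y hy => (DL_comm_core C hx (hb hy)).symm

/-- **(C) on `E(S)`**: everything except the links and `close` -/
theorem inp_of_le {b : Subgroup G → Subgroup G} (S : Sylow 2 G)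
    (hC : ∀ s ∈ ES Om (S : Subgroup G), s ≠ 1 → CorG Om (centralizer {s}))
    (hle : ∀ s ∈ ES Om (S : Subgroup G), s ≠ 1 → ∀ K ∈ OmS Om (S : Subgroup G), K ≤ centralizer {s})
    (equi : ∀ K ∈ Om, ∀ g, b (cj g K) = cj g (b K))
    (conn : ∀ K ∈ OmS Om (S : Subgroup G), ∀ J ∈ OmS Om (S : Subgroup G), Relation.EqvGen (LnkIn Om b) K J)
    (hb : ∀ s ∈ ES Om (S : Subgroup G), s ≠ 1 → ∃ L ∈ OmS Om (S : Subgroup G), b L ≤ OO (centralizer {s}))
    (close : ∀ M : Subgroup G, (∀ s ∈ ES Om (S : Subgroup G), s ≠ 1 → centralizer {s} ≤ M) → M = ⊤) :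
    Inp Om b (S : Subgroup G) :=
  inp S hC hle equi conn (fun s hs hs1 _ _ _ => by
    obtain ⟨L, hL, h1⟩ := hb s hs hs1
    exact ⟨L, hL, DL_le_centralizer_of_le (hC s hs hs1) h1⟩) close

/-! ### Links -/

/-- members with images conjugate in a piece are linked if the lift of the piece centralises the value of `b` -/
theorem lnk_of_DL {b : Subgroup G → Subgroup G} {H : Subgroup G} (C : CorG Om H) {D' : Subgroup (HQ H)}
    (hD : QP Om H D') {K J : Subgroup G} (hK : K ∈ Om) (hJ : J ∈ Om) (hKH : K ≤ H) (hJH : J ≤ H)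
    (hKD : bar H K ≤ D') (hb : DL Om H D' ≤ centralizer (b K : Set G)) {d : HQ H} (hd : d ∈ D')
    (h : cj d (bar H K) = bar H J) : LnkIn Om b K J := by
  obtain ⟨e, he, h1⟩ := exists_conj_DL C hD hK hJ hKH hJH hKD hd h
  exact ⟨hK, e, fun y hy => ((mem_centralizer_iff.1 (hb he)) y hy).symm, h1⟩

end

/-! ### The members of a chart are conjugate -/

section Chart

open Cfsg.Agent.Nodes Cfsg.Agent.Nodes.Reps Cfsg.Agent.Nodes.RGDLib Cfsg.Agent.Nodes.BNOf
  Cfsg.Agent.Nodes.Bruhat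

theorem chart_exists_cj_aux {X : Type*} [Group X] {Om : Set (Subgroup X)} {p : ℕ} {L : Subgroup X}
    (c : Nodes.Chart.Chart Om p L) {K J : Subgroup X} (hK : K ∈ Om) (hJ : J ∈ Om) (hKL : K ≤ L) (hJL : J ≤ L) :
    ∃ g ∈ L, Nodes.Reps.cj g K = J := by
  obtain ⟨r, hr, g, hg, e⟩ := c.om_conj K hK hKL
  obtain ⟨s, hs, g', hg', e'⟩ := c.om_conj J hJ hJL
  obtain ⟨w, rfl⟩ := c.trans r hr s hs
  obtain ⟨k, hk⟩ := exists_rp c.cs c.cls.rgd.nsys w
  have hkD : k ∈ L := by
    have h1 : k ∈ GG c.cs c.h c.T c.X := NN_le_GG c.cls.rgd ⟨_, hk⟩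
    have h2 : GG c.cs c.h c.T c.X ≤ L := sup_le c.T_le c.gen.le
    exact h2 h1
  have hrn := ClsNorm.neg_mem c.cls hr
  have e1 : Nodes.Reps.cj k (c.Z r ⊔ c.Z (-r)) =
      c.Z (Cfsg.Agent.ChevalleyStructure.CoxeterGeom.rep c.cs c.h w r) ⊔ c.Z (-Cfsg.Agent.ChevalleyStructure.CoxeterGeom.rep c.cs c.h w r) := by
    rw [Nodes.Reps.cj_sup, ClsNorm.conj_Z c.cls hk hr, ClsNorm.conj_Z c.cls hk hrn, map_neg]
  have e2 : K = Nodes.Reps.cj g (c.Z r ⊔ c.Z (-r)) := e
  have e3 : J = Nodes.Reps.cj g' (c.Z (Cfsg.Agent.ChevalleyStructure.CoxeterGeom.rep c.cs c.h w r) ⊔ c.Z (-Cfsg.Agent.ChevalleyStructure.CoxeterGeom.rep c.cs c.h w r)) := e'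
  refine ⟨g' * k * g⁻¹, mul_mem (mul_mem hg' hkD) (inv_mem hg), ?_⟩
  rw [e2, e3, ← e1]
  rw [← Nodes.Reps.cj_mul, ← Nodes.Reps.cj_mul]
  congr 1
  group

/-- **the members of a chart are conjugate** -/
theorem chart_exists_cj {X : Type*} [Group X] {Om : Set (Subgroup X)} {p : ℕ} {L : Subgroup X}
    (c : Nodes.Chart.Chart Om p L) {K J : Subgroup X} (hK : K ∈ Om) (hJ : J ∈ Om) (hKL : K ≤ L) (hJL : J ≤ L) :
    ∃ g ∈ L, Cit.cj g K = J := chart_exists_cj_aux c hK hJ hKL hJL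

variable {G : Type*} [Group G] [Finite G] {Om : Set (Subgroup G)}

/-- members of the frame in one chart piece of `H / O(H)` are linked -/
theorem lnk_of_chart {b : Subgroup G → Subgroup G} {H : Subgroup G} (C : CorG Om H) {p : ℕ} {K J : Subgroup G}
    (hK : K ∈ Om) (hJ : J ∈ Om) (hKH : K ≤ H) (hJH : J ≤ H)
    (c : Nodes.Chart.Chart (fb Om H) p (PT Om H K)) (hne : PT Om H K ∉ fb Om H) (hKJ : PT Om H K = PT Om H J)
    (hb : DL Om H (PT Om H K) ≤ centralizer (b K : Set G)) : LnkIn Om b K J := by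
  obtain ⟨d, hd, h1⟩ := chart_exists_cj c (bar_mem hK hKH) (bar_mem hJ hJH) bar_le_PT
    (by rw [hKJ]; exact bar_le_PT)
  exact lnk_of_DL C (qp_PT C hK hKH hne) hK hJ hKH hJH bar_le_PT hb hd h1

end Chart

/-! ### The simple core case -/

section MinS

universe u

variable {G : Type u} [Group G] [Finite G] {Om : Set (Subgroup G)}

/-- THEOREM T for the members contained in a proper subgroup -/
theorem _root_.Cfsg.Agent.Cit.MinS.hasPieces_fb (hm : MinS Om) {H : Subgroup G} (hH : H ≠ ⊤) :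
    HasPieces (fb Om H) := by
  have hcard : Nat.card H < Nat.card G := by
    refine lt_of_le_of_ne (card_le_card_group H) fun h1 => hH ?_
    exact (card_eq_iff_eq_top H).1 h1
  exact hm.ind H hcard (restr Om H) (hm.hyp.restr H) (Ty.restr hm.ty H) (hm.uni.restr H)

/-- **(C) on the frame gives `CorG`** -/
theorem _root_.Cfsg.Agent.Cit.MinS.corG (hm : MinS Om) (S : Sylow 2 G) {s : G} (hs : s ≠ 1)
    (hle : ∀ K ∈ OmS Om (S : Subgroup G), K ≤ centralizer {s})
    (hC : ∀ K ∈ OmS Om (S : Subgroup G), K ⊓ (S : Subgroup G) ≤ centralizer (OO (centralizer {s}) : Set G)) :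
    CorG Om (centralizer {s}) :=
  corG_of_frame hm.hyp S hle hC (hm.hasPieces_fb (hm.centralizer_ne_top hs))

/-- (C) for all involutions of `E(S)` -/
theorem _root_.Cfsg.Agent.Cit.MinS.corG_of_cor (hm : MinS Om) (S : Sylow 2 G)
    (hC : ∀ s ∈ ES Om (S : Subgroup G), s ≠ 1 → ∀ K ∈ OmS Om (S : Subgroup G),
      K ⊓ (S : Subgroup G) ≤ centralizer (OO (centralizer {s}) : Set G)) :
    ∀ s ∈ ES Om (S : Subgroup G), s ≠ 1 →
      (∀ K ∈ OmS Om (S : Subgroup G), K ≤ centralizer {s}) ∧ CorG Om (centralizer {s}) := by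
  intro s hs hs1
  have hle : ∀ K ∈ OmS Om (S : Subgroup G), K ≤ centralizer {s} := fun K hK =>
    le_centralizer_of_core hm.hyp S.isPGroup' (fun K hK L hL => hC _ (zz_mem_ES hK) (hm.hyp.zz_ne hK.1) L hL) hK hs
  exact ⟨hle, hm.corG S hs1 hle (hC s hs hs1)⟩

/-- **the instance for the output of COROLLARY E** -/
theorem _root_.Cfsg.Agent.Cit.CoresCore.CorE.corG (hm : MinS Om) (S : Sylow 2 G)
    (c : CoresCore.CorE Om (S : Subgroup G)) :
    ∀ s ∈ ES Om (S : Subgroup G), s ≠ 1 →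
      (∀ K ∈ OmS Om (S : Subgroup G), K ≤ centralizer {s}) ∧ CorG Om (centralizer {s}) :=
  hm.corG_of_cor S fun s hs hs1 K hK => by
    have h1 := c.comm s hs hs1 K hK
    rwa [commutator_comm, commutator_eq_bot_iff_le_centralizer] at h1

end MinS

end Cfsg.Agent.Cit.CorOf
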