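import Cfsg.Agent.Cit.TPieces
import Cfsg.Agent.Cit.Trivial
import Cfsg.Agent.Cit.WeakCl

/-!
# Members of `Om(S)` commute if the cores are trivial

* `quasisimple_of_not_isT` : a member with trivial core is quasisimple or of type `SL₂(3)`;
* `comm_of_OmS` : distinct members `K`, `J` of `Om(S)`, `S` a 2-subgroup, `O(K) = O(J) = 1`, commute elementwise.
-/

set_option autoImplicit false
set_option linter.style.haveILetI false

namespace Cfsg.Agent.Cit.CoresComm

open Subgroup Cfsg Cfsg.Agent.Cit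

variable {G : Type*} [Group G] [Finite G] {Om : Set (Subgroup G)}

omit [Finite G] in
/-- a member with trivial core is quasisimple or of type `SL₂(3)` -/
theorem quasisimple_of_not_isT {K : Subgroup G} (ty : Ty K) (hT : ¬ SolvTwo.IsT K) (hO : OO K = ⊥) :
    IsQuasisimple K := by
  have h1 : oddCore K = ⊥ := by
    rw [OO_def] at hO
    exact (Subgroup.map_eq_bot_iff_of_injective _ K.subtype_injective).1 hO
  let e : ↥K ⧸ oddCore ↥K ≃* K :=
    (QuotientGroup.quotientMulEquivOfEq h1).trans QuotientGroup.quotientBot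
  rcases Ty.IsTy.cases ty.isType with h2 | ⟨h2⟩
  · exact SignalizersComponents.LayerBasic.quasisimple_congr e h2.quasisimple
  · exact absurd h2 hT

omit [Finite G] in
/-- `C(K)` is normalised by `N(K)` -/
theorem conj_mem_centralizer {K : Subgroup G} {g y : G} (hg : g ∈ normalizer (K : Set G))
    (hy : y ∈ centralizer (K : Set G)) : g * y * g⁻¹ ∈ centralizer (K : Set G) := by
  rw [mem_centralizer_iff] at hy ⊢
  intro k hk
  have h1 : g⁻¹ * k * g ∈ K := by
    have := (mem_normalizer_iff.1 (inv_mem hg) k).1 hk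
    rwa [inv_inv] at this
  have h2 := hy _ h1
  calc k * (g * y * g⁻¹) = g * (g⁻¹ * k * g * y) * g⁻¹ := by group
    _ = g * (y * (g⁻¹ * k * g)) * g⁻¹ := by rw [h2]
    _ = g * y * g⁻¹ * k := by group

section

variable {S K J : Subgroup G}

theorem inf_le_centralizer (h : Hyp Om) (hS : IsPGroup 2 S) (hK : K ∈ OmS Om S) (hJ : J ∈ OmS Om S) (hKJ : K ≠ J)
    (hOK : OO K = ⊥) : J ⊓ S ≤ centralizer (K : Set G) := by
  have h1 := Trivial.commutator_le h hK.1 (syl_inf hS hK) (A := J ⊓ S) (hS.to_le inf_le_right)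
    (inf_le_normalizer h hS hK hJ) (fun a ha x hx => (h.comm hS hK hJ hKJ hx ha).symm)
  rw [hOK, le_bot_iff, commutator_comm, commutator_eq_bot_iff_le_centralizer] at h1
  exact h1

theorem le_normalizer (h : Hyp Om) (hS : IsPGroup 2 S) (hK : K ∈ OmS Om S) (hJ : J ∈ OmS Om S) (hKJ : K ≠ J)
    (hOK : OO K = ⊥) (hOJ : OO J = ⊥) : J ≤ normalizer (K : Set G) := by
  have h1 := inf_le_centralizer h hS hJ hK hKJ.symm hOJ
  intro j hj
  rw [mem_normalizer_iff_cj]
  have hfix : ∀ x ∈ K ⊓ S, j * x * j⁻¹ = x := fun x hx => by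
    rw [mem_centralizer_iff.1 (h1 hx) j hj, mul_inv_cancel_right]
  have hz : zz (cj j K) = zz K := by
    rw [h.zz_cj hK.1]
    exact hfix _ (h.zz_mem_inf hS hK)
  rcases h.h2 _ (h.conj K hK.1 j) K hK.1 hz with h2 | h2
  · exact h2
  · exfalso
    have h3 : ⁅cj j K, K⁆ = ⊥ := by
      rw [← le_bot_iff]
      refine h2.trans (inf_le_right.trans ?_)
      rw [hOK]
    rw [commutator_eq_bot_iff_le_centralizer] at h3
    obtain ⟨c, v, n, hq⟩ := h.exists_gq hK.1 (syl_inf hS hK)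
    have h4 : c ∈ cj j K := by
      rw [← hfix c hq.c_mem]
      exact conj_mem_cj hq.c_mem.1
    exact hq.not_comm (mem_centralizer_iff.1 (h3 h4) v hq.v_mem.1)

theorem le_centralizer_of_quasisimple (h : Hyp Om) (hS : IsPGroup 2 S) (hJ : J ∈ OmS Om S)
    (h1 : J ⊓ S ≤ centralizer (K : Set G)) (h2 : J ≤ normalizer (K : Set G)) (hq : IsQuasisimple J) :
    J ≤ centralizer (K : Set G) := by
  have hN : ((J ⊓ centralizer (K : Set G)).subgroupOf J).Normal := by
    refine (normal_subgroupOf_iff_le_normalizer inf_le_left).2 ?_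
    intro j hj
    rw [mem_normalizer_iff]
    intro x
    constructor
    · rintro ⟨hx1, hx2⟩
      exact ⟨J.mul_mem (J.mul_mem hj hx1) (J.inv_mem hj), conj_mem_centralizer (h2 hj) hx2⟩
    · rintro ⟨hx1, hx2⟩
      have e : x = j⁻¹ * (j * x * j⁻¹) * j⁻¹⁻¹ := by group
      rw [e]
      exact ⟨J.mul_mem (J.mul_mem (J.inv_mem hj) hx1) (J.inv_mem (J.inv_mem hj)),
        conj_mem_centralizer (inv_mem (h2 hj)) hx2⟩
  rcases SignalizersComponents.LayerBasic.quasisimple_normal hq _ hN with h3 | h3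
  · exact (subgroupOf_eq_top.1 h3).trans inf_le_right
  · exfalso
    obtain ⟨c, v, n, hq⟩ := h.exists_gq hJ.1 (syl_inf hS hJ)
    have h4 : (⟨c, hq.c_mem.1⟩ : J) ∈ center J := h3 ⟨hq.c_mem.1, h1 hq.c_mem⟩
    exact hq.not_comm (congrArg Subtype.val ((mem_center_iff.1 h4) ⟨v, hq.v_mem.1⟩))

/-- **distinct members of `Om(S)` commute elementwise**, if the cores are trivial -/
theorem comm_of_OmS (h : Hyp Om) (hS : IsPGroup 2 S) (hK : K ∈ OmS Om S) (hJ : J ∈ OmS Om S) (hKJ : K ≠ J)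
    (tK : Ty K) (tJ : Ty J) (hOK : OO K = ⊥) (hOJ : OO J = ⊥) : ∀ a ∈ K, ∀ b ∈ J, a * b = b * a := by
  have h1 := inf_le_centralizer h hS hK hJ hKJ hOK
  have h2 := inf_le_centralizer h hS hJ hK hKJ.symm hOJ
  have h3 := le_normalizer h hS hK hJ hKJ hOK hOJ
  have h4 := le_normalizer h hS hJ hK hKJ.symm hOJ hOK
  by_cases hTJ : SolvTwo.IsT J
  · by_cases hTK : SolvTwo.IsT K
    · have hT1 := SolvTwo.T3_of_isT h hK.1 hTK hOK
      have hT2 := SolvTwo.T3_of_isT h hJ.1 hTJ hOJ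
      refine SolvTwo.comm_of_four h hK.1 hJ.1 hKJ hT1 hT2 hOK hOJ ?_
      intro x hx y hy _ hyy
      obtain ⟨c, v, n, hq⟩ := h.exists_gq hJ.1 (syl_inf hS hJ)
      obtain ⟨g, hg, rfl⟩ := hT2.conj v hq.v_mem.1 y hy hq.v_sq hyy
      exact mem_centralizer_iff.1 (conj_mem_centralizer (h3 hg) (h1 hq.v_mem)) x hx
    · have h5 := le_centralizer_of_quasisimple h hS hK h2 h4 (quasisimple_of_not_isT tK hTK hOK)
      exact fun a ha b hb => (mem_centralizer_iff.1 (h5 ha) b hb).symm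
  · have h5 := le_centralizer_of_quasisimple h hS hJ h1 h3 (quasisimple_of_not_isT tJ hTJ hOJ)
    exact fun a ha b hb => mem_centralizer_iff.1 (h5 hb) a ha

end

end Cfsg.Agent.Cit.CoresComm
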