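import Cfsg.Agent.Cit.TypeDet.Red
import Cfsg.Agent.Cit.TypeDet.FramesOf

/-!
# The constancy theorem, type free (project CIT, (EX))

`G` simple, `Om` one class with connected commuting graph, frames as in `TypeDet/Red.lean`. Let `b : Om → subgroups` be
equivariant with `b K = b M` whenever `K`, `M` are joined by a chain in the members commuting with some `N ∈ Om`. Then
`b K` is a normal subgroup of `G` for all `K`:

* if the frame is `≈`-connected then `b` is constant;
* if it has three classes: `false_of_red`;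
* if it has two classes: the set of the two values is `G`-invariant, the stabiliser has index at most 2.
-/

set_option autoImplicit false

namespace Cfsg.Agent.Cit.ExConst

open Subgroup Cfsg Relation Cfsg.Agent.Cit.TypeDet Cfsg.Agent.Cit.TypeDet.Red

variable {G : Type*} [Group G] {Om : Set (Subgroup G)} {Fs : Set (Set (Subgroup G))}
  {b : Subgroup G → Subgroup G}

/-- `b` is equivariant and constant on the chain classes of the members commuting with a member -/
structure Links (Om : Set (Subgroup G)) (b : Subgroup G → Subgroup G) : Prop where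
  equi : ∀ K ∈ Om, ∀ g, b (cj g K) = cj g (b K)
  link : ∀ N ∈ Om, ∀ K ∈ Cen Om {N}, ∀ M ∈ Cen Om {N}, chn (Cen Om {N}) K M → b K = b M

theorem Links.eq_of_app {F : Set (Subgroup G)} (l : Links Om b) (hf : Frm Om F) {K L : Subgroup G}
    (h : app Om F K L) : b K = b L := by
  induction h with
  | rel K L h =>
    obtain ⟨h1, h2, N, hN, hKN, hLN, hc⟩ := h
    exact l.link N (hf.sub hN) K (hf.mem_Cen h1 hN hKN) L (hf.mem_Cen h2 hN hLN) hc
  | refl K => rfl
  | symm K L _ ih => exact ih.symm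
  | trans K L M _ _ h1 h2 => exact h1.trans h2

section

variable [Finite G] (fs : Frames Om Fs)

include fs

/-- if every frame has at most two classes then the other class is canonical -/
theorem key (two : ∀ F ∈ Fs, ∀ K ∈ F, ∀ L ∈ F, ∀ M ∈ F, app Om F K L ∨ app Om F K M ∨ app Om F L M)
    {F F' : Set (Subgroup G)} (hF : F ∈ Fs) (hF' : F' ∈ Fs) {K N N' : Subgroup G} (hK : K ∈ F) (hK' : K ∈ F')
    (hN : N ∈ F) (hN' : N' ∈ F') (h : ¬ app Om F N K) (h' : ¬ app Om F' N' K) :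
    chn (Cen Om {K}) N N' := by
  by_contra hn
  have hf := fs.frm F hF
  have hf' := fs.frm F' hF'
  have hne : ∀ M ∈ Red.cls Om F N, M ≠ K := fun M hM e => h (e ▸ hM.2)
  have hne' : ∀ M ∈ Red.cls Om F' N', M ≠ K := fun M hM e => h' (e ▸ hM.2)
  have hC : ∀ M ∈ Red.cls Om F N, M ∈ Cen Om {K} ∧ chn (Cen Om {K}) N M := fun M hM =>
    ⟨hf.mem_Cen hM.1 hK (hne M hM), hf.chn_of_app hM.2 hN K hK h⟩
  have hC' : ∀ M ∈ Red.cls Om F' N', M ∈ Cen Om {K} ∧ chn (Cen Om {K}) N' M := fun M hM =>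
    ⟨hf'.mem_Cen hM.1 hK' (hne' M hM), hf'.chn_of_app hM.2 hN' K hK' h'⟩
  have hcr : ∀ M ∈ Red.cls Om F N, ∀ M' ∈ Red.cls Om F' N', cm M M' := fun M hM M' hM' =>
    cm_of_not_chn (hC M hM).1 (hC' M' hM').1 (hC M hM).2 (hC' M' hM').2 hn
  obtain ⟨F'', hF'', hsub⟩ := fs.ex ({K} ∪ (Red.cls Om F N ∪ Red.cls Om F' N')) (by
    rintro P (hP | hP | hP)
    · rw [hP]; exact hf.sub hK
    · exact hf.sub hP.1
    · exact hf'.sub hP.1) (by
    rintro P (hP | hP | hP) Q (hQ | hQ | hQ) hPQ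
    · exact absurd (hP.trans hQ.symm) hPQ
    · rw [hP]; exact hf.comm K hK Q hQ.1 (hne Q hQ).symm
    · rw [hP]; exact hf'.comm K hK' Q hQ.1 (hne' Q hQ).symm
    · rw [hQ]; exact hf.comm P hP.1 K hK (hne P hP)
    · exact hf.comm P hP.1 Q hQ.1 hPQ
    · exact hcr P hP Q hQ
    · rw [hQ]; exact hf'.comm P hP.1 K hK' (hne' P hP)
    · exact cm_symm (hcr Q hQ P hP)
    · exact hf'.comm P hP.1 Q hQ.1 hPQ)
  have hf'' := fs.frm F'' hF''
  have hK'' : K ∈ F'' := hsub (Or.inl rfl)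
  have hs1 : Red.cls Om F N ⊆ F'' := fun M hM => hsub (Or.inr (Or.inl hM))
  have hs2 : Red.cls Om F' N' ⊆ F'' := fun M hM => hsub (Or.inr (Or.inr hM))
  have hN'' := hs1 (Red.self_mem_cls hN)
  have hN2'' := hs2 (Red.self_mem_cls hN')
  -- `K` is not in the class of `N`, `N'`
  have hA : ¬ app Om F'' K N := by
    intro ha
    have h1 : insert K (Red.cls Om F N) ⊆ Red.cls Om F'' K := by
      rintro M (hM | hM)
      · rw [hM]; exact Red.self_mem_cls hK''
      · exact ⟨hs1 hM, app_trans ha (hf''.app_of_chn hN'' (hs1 hM) hK'' (hne N (Red.self_mem_cls hN)) (hne M hM)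
          (hC M hM).2)⟩
    have h2 := Set.ncard_le_ncard h1 (Set.toFinite _)
    rw [Set.ncard_insert_of_notMem (fun h3 => hne K h3 rfl) (Set.toFinite _),
      (card_cls fs hF hF'' hN hK'').1] at h2
    omega
  have hA' : ¬ app Om F'' K N' := by
    intro ha
    have h1 : insert K (Red.cls Om F' N') ⊆ Red.cls Om F'' K := by
      rintro M (hM | hM)
      · rw [hM]; exact Red.self_mem_cls hK''
      · exact ⟨hs2 hM, app_trans ha (hf''.app_of_chn hN2'' (hs2 hM) hK'' (hne' N' (Red.self_mem_cls hN'))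
          (hne' M hM) (hC' M hM).2)⟩
    have h2 := Set.ncard_le_ncard h1 (Set.toFinite _)
    rw [Set.ncard_insert_of_notMem (fun h3 => hne' K h3 rfl) (Set.toFinite _),
      (card_cls fs hF' hF'' hN' hK'').1] at h2
    omega
  rcases two F'' hF'' K hK'' N hN'' N' hN2'' with h1 | h1 | h1
  · exact hA h1
  · exact hA' h1
  · exact hn (hf''.chn_of_app h1 hN'' K hK'' (fun h2 => hA (app_symm h2)))

/-- **the constancy theorem** -/
theorem normal [IsSimpleGroup G]
    (hconn : ∀ C : Set (Subgroup G), C ⊆ Om → C.Nonempty → (∀ K ∈ C, ∀ L ∈ Om, cm K L → L ∈ C) → C = Om)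
    (l : Links Om b) : ∀ K ∈ Om, (b K).Normal ∧ ∀ L ∈ Om, b L = b K := by
  -- constant functions have normal values
  have hnor : (∀ K ∈ Om, ∀ L ∈ Om, b L = b K) → ∀ K ∈ Om, (b K).Normal ∧ ∀ L ∈ Om, b L = b K := by
    intro hc K hK
    refine ⟨?_, hc K hK⟩
    rw [← normalizer_eq_top_iff, eq_top_iff]
    intro g _
    rw [mem_normalizer_iff_cj, ← l.equi K hK g]
    exact hc K hK _ (fs.conj K hK g)
  by_cases h1 : ∀ F ∈ Fs, ∀ K ∈ F, ∀ L ∈ F, app Om F K L
  · refine hnor fun K hK L hL => ?_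
    have h2 : {M | M ∈ Om ∧ b M = b K} = Om := by
      refine hconn _ (fun M hM => hM.1) ⟨K, hK, rfl⟩ ?_
      rintro M ⟨hM, hMb⟩ P hP hMP
      refine ⟨hP, ?_⟩
      obtain ⟨F, hF, hsub⟩ := fs.ex {M, P} (by
        rintro Q (hQ | hQ)
        · rw [hQ]; exact hM
        · rw [Set.mem_singleton_iff.1 hQ]; exact hP) (by
        rintro Q (hQ | hQ) R (hR | hR) hQR
        · exact absurd (hQ.trans hR.symm) hQR
        · rw [hQ, Set.mem_singleton_iff.1 hR]; exact hMP
        · rw [hR, Set.mem_singleton_iff.1 hQ]; exact cm_symm hMP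
        · exact absurd ((Set.mem_singleton_iff.1 hQ).trans (Set.mem_singleton_iff.1 hR).symm) hQR)
      have h3 := l.eq_of_app (fs.frm F hF) (h1 F hF P (hsub (Or.inr rfl)) M (hsub (Or.inl rfl)))
      rw [h3, hMb]
    rw [← h2] at hL
    exact hL.2
  push Not at h1
  obtain ⟨F₀, hF₀, K₁, hK₁, L₁, hL₁, hn₁⟩ := h1
  -- every member of a frame has a non-equivalent one
  have sep : ∀ F ∈ Fs, ∀ K ∈ F, ∃ L ∈ F, ¬ app Om F L K := by
    intro F hF K hK
    obtain ⟨g, hg, hgK⟩ := fs.trans F₀ hF₀ F hF K₁ hK₁ K hK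
    refine ⟨cj g L₁, by rw [← hg]; exact ⟨L₁, hL₁, rfl⟩, ?_⟩
    intro h2
    rw [← hg, ← hgK, app_cj_iff fs.conj] at h2
    exact hn₁ (app_symm h2)
  by_cases h2 : ∃ F ∈ Fs, ∃ K ∈ F, ∃ L ∈ F, ∃ M ∈ F, ¬ app Om F K L ∧ ¬ app Om F K M ∧ ¬ app Om F L M
  · exfalso
    obtain ⟨F, hF, K, hK, L, hL, M, hM, hKL, hKM, hLM⟩ := h2
    have hf := fs.frm F hF
    refine false_of_red fs hF hconn ?_ ⟨K, hK, L, hL, hKL⟩
    intro P hP Q hQ hPQ X hX Y hY
    -- one of the three is in neither class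
    have h3 : ∃ N ∈ F, ¬ app Om F P N ∧ ¬ app Om F Q N := by
      by_contra hcon
      push Not at hcon
      have e1 := hcon K hK
      have e2 := hcon L hL
      have e3 := hcon M hM
      by_cases a1 : app Om F P K
      · by_cases a2 : app Om F P L
        · exact hKL (app_trans (app_symm a1) a2)
        · by_cases a3 : app Om F P M
          · exact hKM (app_trans (app_symm a1) a3)
          · exact hLM (app_trans (app_symm (e2 a2)) (e3 a3))
      · by_cases a2 : app Om F P L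
        · by_cases a3 : app Om F P M
          · exact hLM (app_trans (app_symm a2) a3)
          · exact hKM (app_trans (app_symm (e1 a1)) (e3 a3))
        · exact hKL (app_trans (app_symm (e1 a1)) (e2 a2))
    obtain ⟨N, hN, h4, h5⟩ := h3
    exact hf.cm_of_three hP hQ hN hPQ h4 h5 hX hY
  -- exactly two classes
  have two : ∀ F ∈ Fs, ∀ K ∈ F, ∀ L ∈ F, ∀ M ∈ F, app Om F K L ∨ app Om F K M ∨ app Om F L M := by
    intro F hF K hK L hL M hM
    by_contra hcon
    push Not at hcon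
    exact h2 ⟨F, hF, K, hK, L, hL, M, hM, hcon⟩
  set K₀ := K₁ with hK₀
  set N₀ := L₁ with hN₀
  have hK₀Om : K₀ ∈ Om := (fs.frm F₀ hF₀).sub hK₁
  have hN₀Om : N₀ ∈ Om := (fs.frm F₀ hF₀).sub hL₁
  have hC : {K | K ∈ Om ∧ ∀ F ∈ Fs, K ∈ F → ∀ N ∈ F, ¬ app Om F N K →
      (b K = b K₀ ∧ b N = b N₀) ∨ (b K = b N₀ ∧ b N = b K₀)} = Om := by
    refine hconn _ (fun M hM => hM.1) ⟨K₀, hK₀Om, ?_⟩ ?_
    · intro F hF hK₀F N hN hnN
      left
      refine ⟨rfl, ?_⟩
      have h3 := key fs two hF hF₀ hK₀F hK₁ hN hL₁ hnN (fun h4 => hn₁ (app_symm h4))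
      have hf := fs.frm F hF
      exact l.link K₀ hK₀Om N (hf.mem_Cen hN hK₀F fun e => hnN (e ▸ app_refl _)) N₀
        ((fs.frm F₀ hF₀).mem_Cen hL₁ hK₁ fun e => hn₁ (by rw [e]; exact app_refl _)) h3
    · rintro K ⟨hK, hKC⟩ L hL hKL
      refine ⟨hL, ?_⟩
      intro F hF hLF N hN hnN
      obtain ⟨F₁, hF₁, hsub⟩ := fs.ex {K, L} (by
        rintro Q (hQ | hQ)
        · rw [hQ]; exact hK
        · rw [Set.mem_singleton_iff.1 hQ]; exact hL) (by
        rintro Q (hQ | hQ) R (hR | hR) hQR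
        · exact absurd (hQ.trans hR.symm) hQR
        · rw [hQ, Set.mem_singleton_iff.1 hR]; exact hKL
        · rw [hR, Set.mem_singleton_iff.1 hQ]; exact cm_symm hKL
        · exact absurd ((Set.mem_singleton_iff.1 hQ).trans (Set.mem_singleton_iff.1 hR).symm) hQR)
      have hKF₁ : K ∈ F₁ := hsub (Or.inl rfl)
      have hLF₁ : L ∈ F₁ := hsub (Or.inr rfl)
      have hf := fs.frm F hF
      have hf₁ := fs.frm F₁ hF₁
      obtain ⟨N₁, hN₁, hnN₁⟩ := sep F₁ hF₁ L hLF₁
      have h3 := key fs two hF hF₁ hLF hLF₁ hN hN₁ hnN hnN₁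
      have h4 : b N = b N₁ := l.link L hL N (hf.mem_Cen hN hLF fun e => hnN (e ▸ app_refl _)) N₁
        (hf₁.mem_Cen hN₁ hLF₁ fun e => hnN₁ (e ▸ app_refl _)) h3
      rw [h4]
      by_cases h5 : app Om F₁ L K
      · have h6 : ¬ app Om F₁ N₁ K := fun h7 => hnN₁ (app_trans h7 (app_symm h5))
        have h7 := hKC F₁ hF₁ hKF₁ N₁ hN₁ h6
        rw [l.eq_of_app hf₁ h5]
        exact h7
      · have h6 : app Om F₁ K N₁ := by
          rcases two F₁ hF₁ K hKF₁ L hLF₁ N₁ hN₁ with h7 | h7 | h7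
          · exact absurd (app_symm h7) h5
          · exact h7
          · exact absurd (app_symm h7) hnN₁
        rw [← l.eq_of_app hf₁ h6]
        rcases hKC F₁ hF₁ hKF₁ L hLF₁ h5 with ⟨h7, h8⟩ | ⟨h7, h8⟩
        · exact Or.inr ⟨h8, h7⟩
        · exact Or.inl ⟨h8, h7⟩
  have hval : ∀ K ∈ Om, b K = b K₀ ∨ b K = b N₀ := by
    intro K hK
    obtain ⟨F, hF, hsub⟩ := fs.ex {K} (by
      intro Q hQ
      rw [Set.mem_singleton_iff.1 hQ]; exact hK) (by
      intro Q hQ R hR hQR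
      exact absurd ((Set.mem_singleton_iff.1 hQ).trans (Set.mem_singleton_iff.1 hR).symm) hQR)
    have hKF : K ∈ F := hsub rfl
    obtain ⟨N, hN, hnN⟩ := sep F hF K hKF
    rw [← hC] at hK
    rcases hK.2 F hF hKF N hN hnN with h3 | h3
    · exact Or.inl h3.1
    · exact Or.inr h3.1
  -- the two values agree
  obtain ⟨g₀, -, hg₀⟩ := fs.trans F₀ hF₀ F₀ hF₀ K₀ hK₁ N₀ hL₁
  have hB' : b N₀ = cj g₀ (b K₀) := by rw [← hg₀, l.equi K₀ hK₀Om]
  have heq : b N₀ = b K₀ := by
    by_contra hne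
    set M := normalizer (b K₀ : Set G) with hM
    have hcj : ∀ g, cj g (b K₀) = b K₀ ∨ cj g (b K₀) = b N₀ := by
      intro g
      rw [← l.equi K₀ hK₀Om]
      exact hval _ (fs.conj K₀ hK₀Om g)
    have hcj' : ∀ g, cj g (b K₀) ≠ b K₀ → cj g (b N₀) = b K₀ := by
      intro g hg
      have h3 := (hcj g).resolve_left hg
      have h4 : cj g (b N₀) = b K₀ ∨ cj g (b N₀) = b N₀ := by
        rw [← l.equi N₀ hN₀Om]
        exact hval _ (fs.conj N₀ hN₀Om g)
      rcases h4 with h4 | h4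
      · exact h4
      · exact absurd (cj_inj.1 (h4.trans h3.symm)) hne
    have hidx : M.index = 2 := by
      rw [Subgroup.index_eq_two_iff]
      refine ⟨g₀, fun x => ?_⟩
      have hx : x * g₀ ∈ M ↔ cj x (b N₀) = b K₀ := by
        rw [hM, mem_normalizer_iff_cj, cj_mul, ← hB']
      have hx' : x ∈ M ↔ cj x (b K₀) = b K₀ := by rw [hM, mem_normalizer_iff_cj]
      rw [hx, hx']
      by_cases h3 : cj x (b K₀) = b K₀
      · refine Or.inr ⟨h3, fun h4 => ?_⟩
        exact hne (cj_inj.1 (h4.trans h3.symm))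
      · exact Or.inl ⟨hcj' x h3, h3⟩
    have hMn : M.Normal := Subgroup.normal_of_index_eq_two hidx
    have hKM : K₀ ≤ M := by
      intro x hx
      rw [hM, mem_normalizer_iff_cj, ← l.equi K₀ hK₀Om, mem_normalizer_iff_cj.1 (le_normalizer hx)]
    rcases hMn.eq_bot_or_eq_top with h3 | h3
    · apply (fs.frm F₀ hF₀).not_cm_self hK₁
      intro x hx y hy
      have h4 := hKM hx
      rw [h3, Subgroup.mem_bot] at h4
      rw [h4, one_mul, mul_one]
    · rw [h3, Subgroup.index_top] at hidx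
      omega
  refine hnor fun K hK L hL => ?_
  have h3 : ∀ K ∈ Om, b K = b K₀ := fun K hK => by
    rcases hval K hK with h4 | h4
    · exact h4
    · exact h4.trans heq
  rw [h3 K hK, h3 L hL]

end

end Cfsg.Agent.Cit.ExConst
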