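import Mathlib
import Cfsg.Agent.Cit.LemmaUQ
import Cfsg.Agent.Nodes.ExactLift

/-!
# (EX): exactness of the parabolics (helper61, bb #7471, #9241)

* `ex_one` (EX-1): if `R`, `X`, `L`, `z`, `w` are as in LEMMA UQ, `D = ⁅R, z⁆` is a `p`-group and `V = ⁅Q_w, Q_w⁆`
  centralises `z` and `Q_w` then `V` is centralised by `L` and `D`, `D' ≤ X V`, `C_D(z) ≤ X V`.
* `BB K X z = (X C_D(z)) ⊓ C(K)`, `D = QX X z`: `BB_cj` (equivariance), `BB_eq_of_cj` (independent of the Sylow
  subgroup `X` of `K`), `sup_BB` : `X C_D(z) = X BB`; `ExOne` : `D' ≤ X BB`, `C_D(z) ≤ X BB`, `BB` is centralised by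
  `L`, `D`; `exact` : `BB = 1` implies `D' ≤ X` and `C_D(z) ≤ X`;
  `le_of_sup` : `BB ≤ A` if `V ≤ X A`, `A` centralises `K`.
-/

set_option autoImplicit false
set_option linter.unusedSectionVars false

namespace Cfsg.Agent.Cit.Exact

open Subgroup Cfsg Cfsg.Agent.Cit.Parab Cfsg.Agent.Cit.Weights Cfsg.Agent.Cit.LemmaUQ
open scoped commutatorElement

variable {G : Type*} [Group G]

/-- an element of `X M`, `M` commuting with `X` -/
theorem mem_sup_of_comm {X M : Subgroup G} (hc : ∀ x ∈ X, ∀ m ∈ M, x * m = m * x) {a : G} :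
    a ∈ X ⊔ M ↔ ∃ x ∈ X, ∃ m ∈ M, a = x * m := by
  constructor
  · intro ha
    let S : Subgroup G :=
      { carrier := {a | ∃ x ∈ X, ∃ m ∈ M, a = x * m}
        one_mem' := ⟨1, X.one_mem, 1, one_mem _, by simp⟩
        mul_mem' := by
          rintro _ _ ⟨x, hx, d, hd, rfl⟩ ⟨x', hx', d', hd', rfl⟩
          refine ⟨x * x', X.mul_mem hx hx', d * d', mul_mem hd hd', ?_⟩
          calc x * d * (x' * d') = x * (d * x') * d' := by group
            _ = x * x' * (d * d') := by rw [← hc x' hx' d hd]; group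
        inv_mem' := by
          rintro _ ⟨x, hx, d, hd, rfl⟩
          refine ⟨x⁻¹, X.inv_mem hx, d⁻¹, inv_mem hd, ?_⟩
          rw [hc x hx d hd, mul_inv_rev] }
    have h1 : X ⊔ M ≤ S := sup_le (fun x hx => ⟨x, hx, 1, one_mem _, by simp⟩)
      (fun d hd => ⟨1, X.one_mem, d, hd, by simp⟩)
    exact h1 ha
  · rintro ⟨x, hx, m, hm, rfl⟩
    exact mul_mem ((le_sup_left : X ≤ X ⊔ M) hx) ((le_sup_right : M ≤ X ⊔ M) hm)

/-! ### (EX-1) -/

section One

variable {R X L : Subgroup G} {z w : G}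

/-- `⁅Q_w, z⁆ = Q_w` -/
theorem Qw_commutator [Finite G] (hI : In R X L z w) : ⁅Qw R z w, zpowers z⁆ = Qw R z w := by
  have h1 : zpowers z ≤ normalizer ((R ⊓ centralizer {w} : Subgroup G) : Set G) := by
    rw [zpowers_le]
    refine mem_normalizer_of_forall ?_ ?_
    · rintro x ⟨hx1, hx2⟩
      refine ⟨conj_mem_of_normalizer hI.zR hx1, ?_⟩
      have h3 := mem_centralizer_singleton_iff.1 hx2
      change z * x * z⁻¹ ∈ centralizer {w}
      rw [mem_centralizer_singleton_iff]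
      calc z * x * z⁻¹ * w = z * x * z⁻¹ * (w * z) * z⁻¹ := by group
        _ = z * (x * w) * z⁻¹ := by rw [← hI.z_w]; group
        _ = (z * w) * x * z⁻¹ := by rw [h3]; group
        _ = w * (z * x * z⁻¹) := by rw [hI.z_w]; group
    · rintro x ⟨hx1, hx2⟩
      refine ⟨inv_conj_mem_of_normalizer hI.zR hx1, ?_⟩
      have h3 := mem_centralizer_singleton_iff.1 hx2
      change z⁻¹ * x * z ∈ centralizer {w}
      rw [mem_centralizer_singleton_iff]
      calc z⁻¹ * x * z * w = z⁻¹ * x * (z * w) := by group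
        _ = z⁻¹ * (x * w) * z := by rw [hI.z_w]; group
        _ = z⁻¹ * (w * z) * z⁻¹ * x * z := by rw [h3]; group
        _ = w * (z⁻¹ * x * z) := by rw [← hI.z_w]; group
  have h2 : (Nat.card (zpowers z)).Coprime (Nat.card (R ⊓ centralizer {w} : Subgroup G)) :=
    Nat.Coprime.coprime_dvd_right (Subgroup.card_dvd_of_le inf_le_left) hI.coprime
  exact Lib.CoprimeCommutator.commutator_commutator_eq _ _ h1 h2

/-- the conclusions of (EX-1): `V` is centralised by `L` and `D`, `D' ≤ X V`, `C_D(z) ≤ X V` -/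
structure ExV (X L D V : Subgroup G) (z : G) : Prop where
  comm_L : ∀ v ∈ V, ∀ l ∈ L, v * l = l * v
  comm_D : ∀ v ∈ V, ∀ d ∈ D, v * d = d * v
  der : ⁅D, D⁆ ≤ X ⊔ V
  fix : ∀ c ∈ D, c * z = z * c → c ∈ X ⊔ V

/-- **(EX-1)** -/
theorem ex_one [Finite G] {p : ℕ} [Fact p.Prime] (hI : In R X L z w) (hp : IsPGroup p (DD R z))
    (hVz : ∀ v ∈ ⁅Qw R z w, Qw R z w⁆, v * z = z * v)
    (hVQ : ∀ v ∈ ⁅Qw R z w, Qw R z w⁆, ∀ q ∈ Qw R z w, v * q = q * v) :
    ExV X L (DD R z) ⁅Qw R z w, Qw R z w⁆ z := by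
  have hDR : DD R z ≤ R := hI.D_le
  set D := DD R z with hD
  set Dw := Qw R z w with hDw
  have hDwD : Dw ≤ D := In.Qw_le_D
  set V := ⁅Dw, Dw⁆ with hV
  have hVD : V ≤ D := (commutator_le_self Dw).trans hDwD
  have hVL : ∀ b ∈ V, ∀ l ∈ L, b * l = l * b := fun b hb l hl => hI.fix b (hVD hb) (hVz b hb) l hl
  have hBD : ∀ b ∈ V, ∀ d ∈ D, b * d = d * b := by
    intro b hb
    have h1 : D ≤ centralizer {b} := by
      rw [hD, hI.eq_iSup hp]
      refine iSup_le ?_
      rintro ⟨l, hl⟩ d hd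
      rw [mem_cj] at hd
      have h2 := hVQ b hb _ hd
      have h3 := hVL b hb l hl
      rw [mem_centralizer_singleton_iff]
      have e2 : b * l⁻¹ = l⁻¹ * b := by
        calc b * l⁻¹ = l⁻¹ * (l * b) * l⁻¹ := by group
          _ = l⁻¹ * b := by rw [← h3]; group
      calc d * b = l * (l⁻¹ * d * l) * (l⁻¹ * b) := by group
        _ = l * ((l⁻¹ * d * l) * b) * l⁻¹ := by rw [← e2]; group
        _ = (l * b) * (l⁻¹ * d * l) * l⁻¹ := by
            have : l⁻¹ * d * l * b = b * (l⁻¹ * d * l) := h2.symm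
            rw [this]; group
        _ = b * d := by rw [← h3]; group
    intro d hd
    exact (mem_centralizer_singleton_iff.1 (h1 hd)).symm
  -- LEMMA UQ with `R = D`, `X = X V`
  have hDDD : DD D z = D := hI.D_comm
  have hc : ∀ x ∈ X, ∀ b ∈ V, x * b = b * x := fun x hx b hb => hI.XR x hx b (hDR (hVD hb))
  have hI' : In D (X ⊔ V) L z w := {
    odd := hI.D_odd
    zz := hI.zz
    ww := hI.ww
    zR := hI.z_D
    LR := hI.L_D
    Lz := hI.Lz
    wL := hI.wL
    gen := hI.gen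
    XR := fun x hx r hr => by
      obtain ⟨x, hx', b, hb, rfl⟩ := (mem_sup_of_comm hc).1 hx
      rw [mul_assoc, hBD b hb r hr, ← mul_assoc, hI.XR x hx' r (hDR hr), mul_assoc]
    XL := fun x hx l hl => by
      obtain ⟨x, hx', b, hb, rfl⟩ := (mem_sup_of_comm hc).1 hx
      rw [mul_assoc, hVL b hb l hl, ← mul_assoc, hI.XL x hx' l hl, mul_assoc]
    fix := fun c hc => hI.fix c (by rw [hDDD] at hc; exact hc) }
  have hQw : Qw D z w = Dw := by
    apply le_antisymm
    · exact Subgroup.commutator_mono (inf_le_inf_right _ hDR) le_rfl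
    · rw [hDw, ← Qw_commutator hI]
      refine Subgroup.commutator_mono (le_inf hDwD ?_) le_rfl
      intro q hq
      rw [mem_centralizer_singleton_iff]
      exact hI.Qw_comm hq
  have hp' : IsPGroup p (DD D z) := by rw [hDDD]; exact hp
  have hle' : ⁅Qw D z w, Qw D z w⁆ ≤ X ⊔ V := by rw [hQw]; exact le_sup_right
  refine ⟨hVL, hBD, ?_, fun c hc hcz => hI'.mem_of_commute hp' hle' (by rw [hDDD]; exact hc) hcz⟩
  have := hI'.commutator_le hp' hle'
  rwa [hDDD] at this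

end One

/-! ### The obstruction `BB` -/

/-- `B(K) = (X C_D(z)) ⊓ C(K)`, `D = [O(C(X)), z]` -/
noncomputable def BB (K X : Subgroup G) (z : G) : Subgroup G :=
  (X ⊔ (QX X z ⊓ centralizer {z})) ⊓ centralizer (K : Set G)

theorem BB_comm {K X : Subgroup G} {z b k : G} (hb : b ∈ BB K X z) (hk : k ∈ K) : b * k = k * b :=
  (mem_centralizer_iff.1 hb.2 k hk).symm

theorem cj_inf (g : G) (P Q : Subgroup G) : cj g (P ⊓ Q) = cj g P ⊓ cj g Q := by
  ext x
  rw [mem_cj, mem_inf, mem_inf, mem_cj, mem_cj]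

theorem cj_centralizer_set (g : G) (K : Subgroup G) :
    centralizer ((cj g K : Subgroup G) : Set G) = cj g (centralizer (K : Set G)) := by
  ext x
  rw [mem_cj, mem_centralizer_iff, mem_centralizer_iff]
  constructor
  · intro h k hk
    have h2 := h _ (conj_mem_cj (g := g) hk)
    have h3 : k * (g⁻¹ * x * g) = g⁻¹ * (g * k * g⁻¹ * x) * g := by group
    rw [h3, h2]; group
  · intro h k hk
    replace hk : k ∈ cj g K := hk
    rw [mem_cj] at hk
    have h2 := h _ hk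
    have h3 : k * x = g * (g⁻¹ * k * g * (g⁻¹ * x * g)) * g⁻¹ := by group
    rw [h3, h2]; group

theorem cj_centralizer_singleton (g z : G) : centralizer {g * z * g⁻¹} = cj g (centralizer {z}) := by
  ext x
  rw [mem_cj, mem_centralizer_singleton_iff, mem_centralizer_singleton_iff]
  constructor
  · intro h
    have h3 : g⁻¹ * x * g * z = g⁻¹ * (x * (g * z * g⁻¹)) * g := by group
    rw [h3, h]; group
  · intro h
    have h3 : x * (g * z * g⁻¹) = g * (g⁻¹ * x * g * z) * g⁻¹ := by group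
    rw [h3, h]; group

/-- Equivariance. -/
theorem BB_cj [Finite G] (g : G) (K X : Subgroup G) (z : G) :
    BB (cj g K) (cj g X) (g * z * g⁻¹) = cj g (BB K X z) := by
  unfold BB
  rw [cj_centralizer_set, cj_centralizer_singleton, cj_inf, cj_sup, QX_cj, cj_inf]

/-- `BB` does not depend on the Sylow subgroup `X` of `K`. -/
theorem BB_eq_of_cj [Finite G] {K X : Subgroup G} {z : G} (h : Long K X z) {k : G} (hk : k ∈ K) :
    BB K (cj k X) z = BB K X z := by
  have h1 := BB_cj k K X z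
  have h2 : k * z * k⁻¹ = z := by rw [h.central hk, mul_assoc, mul_inv_cancel, mul_one]
  rw [Parab.cj_eq_of_mem hk, h2] at h1
  rw [h1]
  have h3 : ∀ b ∈ BB K X z, k * b = b * k := fun b hb => (BB_comm hb hk).symm
  ext x
  rw [mem_cj]
  constructor
  · intro hx
    have h4 := h3 _ hx
    have h5 : x = k * (k⁻¹ * x * k) * k⁻¹ := by group
    rw [h5, h4, mul_assoc, mul_inv_cancel, mul_one]
    exact hx
  · intro hx
    have h4 := h3 x hx
    have h5 : k⁻¹ * x * k = x := by rw [mul_assoc, ← h4]; group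
    rwa [h5]

section Long

variable {K X L : Subgroup G} {z w : G}

/-- `X C_D(z) = X B` -/
theorem sup_BB (h : Long K X z) : X ⊔ (QX X z ⊓ centralizer {z}) = X ⊔ BB K X z := by
  apply le_antisymm
  · refine sup_le le_sup_left ?_
    rintro c ⟨hc, hcz⟩
    have hcz' := mem_centralizer_singleton_iff.1 hcz
    have hcX : ∀ x ∈ X, c * x = x * c := fun x hx => core_commute (h.QX_le_core hc) hx
    obtain ⟨x, hx, h1⟩ := h.exists_of_commute hcz' hcX
    have h2 : x⁻¹ * c ∈ BB K X z := by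
      refine ⟨mul_mem ((le_sup_left : X ≤ X ⊔ (QX X z ⊓ centralizer {z})) (inv_mem hx))
        ((le_sup_right : QX X z ⊓ centralizer {z} ≤ _) ⟨hc, hcz⟩), ?_⟩
      exact mem_centralizer_iff.2 fun k hk => (h1 k hk).symm
    have h3 : c = x * (x⁻¹ * c) := by group
    rw [h3]
    exact mul_mem ((le_sup_left : X ≤ X ⊔ BB K X z) hx) ((le_sup_right : BB K X z ≤ _) h2)
  · exact sup_le le_sup_left inf_le_left

/-- (EX-1) for `Long K X z` -/
theorem ex_one_long [Finite G] {p : ℕ} [Fact p.Prime] (h : Long K X z) (hI : In (core X) X L z w)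
    (hp : IsPGroup p (QX X z)) (hVz : ∀ v ∈ ⁅Qw (core X) z w, Qw (core X) z w⁆, v * z = z * v)
    (hVQ : ∀ v ∈ ⁅Qw (core X) z w, Qw (core X) z w⁆, ∀ q ∈ Qw (core X) z w, v * q = q * v) :
    ExV X L (QX X z) (BB K X z) z ∧ X ⊔ BB K X z = X ⊔ ⁅Qw (core X) z w, Qw (core X) z w⁆ := by
  have h1 : ExV X L (QX X z) ⁅Qw (core X) z w, Qw (core X) z w⁆ z := ex_one hI hp hVz hVQ
  set V := ⁅Qw (core X) z w, Qw (core X) z w⁆ with hV
  have hVD : V ≤ QX X z := (commutator_le_self _).trans In.Qw_le_D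
  have h2 : X ⊔ BB K X z = X ⊔ V := by
    rw [← sup_BB h]
    apply le_antisymm
    · refine sup_le le_sup_left ?_
      rintro c ⟨hc, hcz⟩
      exact h1.fix c hc (mem_centralizer_singleton_iff.1 hcz)
    · refine sup_le le_sup_left ?_
      intro v hv
      exact (le_sup_right : QX X z ⊓ centralizer {z} ≤ _)
        ⟨hVD hv, mem_centralizer_singleton_iff.2 (hVz v hv)⟩
  have hXV : ∀ x ∈ X, ∀ v ∈ V, x * v = v * x := fun x hx v hv =>
    (core_commute (h.QX_le_core (hVD hv)) hx).symm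
  refine ⟨⟨?_, ?_, by rw [h2]; exact h1.der, by rw [h2]; exact h1.fix⟩, h2⟩
  · intro b hb l hl
    have h3 : b ∈ X ⊔ V := by rw [← h2]; exact (le_sup_right : BB K X z ≤ _) hb
    obtain ⟨x, hx, v, hv, rfl⟩ := (mem_sup_of_comm hXV).1 h3
    rw [mul_assoc, h1.comm_L v hv l hl, ← mul_assoc, hI.XL x hx l hl, mul_assoc]
  · intro b hb d hd
    have h3 : b ∈ X ⊔ V := by rw [← h2]; exact (le_sup_right : BB K X z ≤ _) hb
    obtain ⟨x, hx, v, hv, rfl⟩ := (mem_sup_of_comm hXV).1 h3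
    rw [mul_assoc, h1.comm_D v hv d hd, ← mul_assoc, ← core_commute (h.QX_le_core hd) hx, mul_assoc]

/-- `BB ≤ A` if `X V ≤ X A`, `A` centralises `K`. -/
theorem le_of_sup {V A : Subgroup G} (h : Long K X z) (hXV : X ⊔ BB K X z = X ⊔ V) (hVA : V ≤ X ⊔ A)
    (hXC : ∀ x ∈ X, (∀ k ∈ K, x * k = k * x) → x = 1) (hA : ∀ a ∈ A, ∀ k ∈ K, a * k = k * a) :
    BB K X z ≤ A := by
  intro b hb
  have hXA : ∀ x ∈ X, ∀ a ∈ A, x * a = a * x := fun x hx a ha => (hA a ha x (h.XK hx)).symm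
  have h1 : b ∈ X ⊔ A := by
    have h2 : b ∈ X ⊔ V := by rw [← hXV]; exact (le_sup_right : BB K X z ≤ _) hb
    exact (sup_le le_sup_left hVA : X ⊔ V ≤ X ⊔ A) h2
  obtain ⟨x, hx, a, ha, rfl⟩ := (mem_sup_of_comm hXA).1 h1
  have h2 : x = 1 := hXC x hx fun k hk => by
    have h3 := BB_comm hb hk
    have h4 := hA a ha k hk
    calc x * k = x * (k * a) * a⁻¹ := by group
      _ = (x * a) * k * a⁻¹ := by rw [← h4]; group
      _ = k * x := by rw [h3]; group
  rw [h2, one_mul]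
  exact ha

/-- if `BB = 1` the parabolic is exact -/
theorem ExV.exact (h : ExV X L (QX X z) (BB K X z) z) (hB : BB K X z = ⊥) :
    ⁅QX X z, QX X z⁆ ≤ X ∧ ∀ c ∈ QX X z, c * z = z * c → c ∈ X := by
  have h1 := h.der
  have h2 := h.fix
  rw [hB, sup_bot_eq] at h1 h2
  exact ⟨h1, h2⟩

end Long

end Cfsg.Agent.Cit.Exact
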