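import Mathlib
import Cfsg.Agent.Cit.PieceG
import Cfsg.Agent.Cit.FrameOfFr

/-!
# LOC for the lifts of the pieces (project CIT, (EX'), bb #9241)

* `barEquiv` : `K ≃* bar H K` if `O(K) = 1`;
* `exists_place` : the chart of a piece can be conjugated so that `Z r`, `Z (-r)`, `z r` are the images of `X`, `X'`,
  `zz K`;
* `loc` : `R ≤ H` of odd order centralising `X`, normalised by `z`: `⁅R, z⁆` is a `p`-subgroup of the lift `DL` of the
  piece and its commutator subgroup lies in `X O(H)`.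
-/

set_option autoImplicit false
set_option linter.dupNamespace false
set_option linter.style.haveILetI false
set_option linter.unusedSectionVars false

namespace Cfsg.Agent.Cit.PieceLoc

open Subgroup Cfsg Cfsg.Agent.Cit.UseT Cfsg.Agent.Cit.PieceLift Cfsg.Agent.Cit.PieceG
open Cfsg.Agent.Nodes.Chart Cfsg.Agent.Cit.FrameOf Cfsg.Agent.Cit.ParabSL2
open scoped commutatorElement

variable {G : Type*} [Group G] [Finite G] {Om : Set (Subgroup G)} {H : Subgroup G}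

theorem inf_core_eq_bot {K : Subgroup G} (hKH : K ≤ H) (hO : OO K = ⊥) : K ⊓ OO H = ⊥ := by
  rw [eq_bot_iff, ← hO]
  refine le_OO inf_le_left ?_ ?_
  · refine le_trans (le_inf le_normalizer (hKH.trans (le_normalizer_OO H))) ?_
    exact Subgroup.inf_normalizer_le_normalizer_inf
  · exact fun h => odd_OO H (h.trans (card_dvd_of_le inf_le_right))

/-- `K ≃* bar H K` -/
noncomputable def barEquiv {K : Subgroup G} (hKH : K ≤ H) (hO : OO K = ⊥) : K ≃* bar H K := by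
  let f : ↥K →* HQ H := (qm H).comp (Subgroup.inclusion hKH)
  have hf : Function.Injective f := by
    rw [injective_iff_map_eq_one]
    intro x hx
    have h1 : (x : G) ∈ OO H := qm_eq_one_iff.1 hx
    have h2 : (x : G) ∈ K ⊓ OO H := ⟨x.2, h1⟩
    rw [inf_core_eq_bot hKH hO] at h2
    exact Subtype.ext (mem_bot.1 h2)
  have hr : f.range = bar H K := by
    ext y
    constructor
    · rintro ⟨x, rfl⟩
      exact ⟨⟨x, hKH x.2⟩, x.2, rfl⟩
    · rintro ⟨x, hx, rfl⟩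
      exact ⟨⟨x, hx⟩, rfl⟩
  exact (MonoidHom.ofInjective hf).trans (MulEquiv.subgroupCongr hr)

theorem card_bar {K X : Subgroup G} (hKH : K ≤ H) (hO : OO K = ⊥) (hXK : X ≤ K) :
    Nat.card (bar H X) = Nat.card X := by
  have h1 : Function.Injective ((qm H).comp (X.subgroupOf H).subtype) := by
    rw [injective_iff_map_eq_one]
    intro x hx
    have h1 : ((x : H) : G) ∈ OO H := qm_eq_one_iff.1 hx
    have h2 : ((x : H) : G) ∈ K ⊓ OO H := ⟨hXK x.2, h1⟩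
    rw [inf_core_eq_bot hKH hO] at h2
    exact Subtype.ext (Subtype.ext (mem_bot.1 h2))
  have h2 : bar H X = ((qm H).comp (X.subgroupOf H).subtype).range := by
    rw [bar, MonoidHom.range_comp, Subgroup.range_subtype]
  rw [h2, ← Nat.card_congr (MonoidHom.ofInjective h1).toEquiv]
  exact Nat.card_congr (subgroupOfEquivOfLe (hXK.trans hKH)).toEquiv

theorem bar_injOn {K X Y : Subgroup G} (hKH : K ≤ H) (hO : OO K = ⊥) (hXK : X ≤ K) (hYK : Y ≤ K)
    (h : bar H X = bar H Y) : X = Y := by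
  have key : ∀ {X Y : Subgroup G}, X ≤ K → Y ≤ K → bar H X = bar H Y → X ≤ Y := by
    intro X Y hXK hYK h x hx
    have h1 : qm H ⟨x, hKH (hXK hx)⟩ ∈ bar H Y := by rw [← h]; exact mem_bar hx
    obtain ⟨y, hy, h2⟩ := h1
    have h3 : qm H (y⁻¹ * ⟨x, hKH (hXK hx)⟩) = 1 := by rw [map_mul, map_inv, h2, inv_mul_cancel]
    have h4 : (y : G)⁻¹ * x ∈ OO H := qm_eq_one_iff.1 h3
    have h5 : (y : G)⁻¹ * x ∈ K ⊓ OO H := ⟨K.mul_mem (K.inv_mem (hYK hy)) (hXK hx), h4⟩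
    rw [inf_core_eq_bot hKH hO, mem_bot, inv_mul_eq_one] at h5
    rw [← h5]; exact hy
  exact le_antisymm (key hXK hYK h) (key hYK hXK h.symm)

variable {F : Type*} [Field F] [Fintype F] {p : ℕ} {D' : Subgroup (HQ H)}

/-- **placing the chart** -/
theorem exists_place [CharP F p] (h : Hyp Om) (c : Chart (fb Om H) p D') (hnm : D' ∉ fb Om H) (hF : Odd (Fintype.card F))
    {K : Subgroup G} (hK : K ∈ Om) (hKH : K ≤ H) (hKD : bar H K ≤ D')
    (e : Matrix.SpecialLinearGroup (Fin 2) F ≃* K) {X Y : Subgroup G} (hXK : X ≤ K)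
    (hX : Nat.card X = Fintype.card F) (hYK : Y ≤ K) (hY : Nat.card Y = Fintype.card F) (hne : Y ≠ X) :
    ∃ (k : HQ H) (hk : k ∈ D') (r : c.I → ℤ), r ∈ c.R ∧
      (conjChart c hk (fb_hyp h H).conj).Z r = bar H X ∧
      (conjChart c hk (fb_hyp h H).conj).Z (-r) = bar H Y ∧
      (conjChart c hk (fb_hyp h H).conj).z r = qm H ⟨zz K, hKH (h.zz_mem hK)⟩ := by
  have hp := Fact.mk c.prime
  have hO : OO K = ⊥ := OO_eq_bot hF e
  obtain ⟨r, hr, g, hg, h1⟩ := c.om_conj (bar H K) (bar_mem hK hKH) hKD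
  obtain ⟨k, hk, h2, h3⟩ := Nodes.ChartLoc.exists_pair_conj c.cls c.odd hr (by rw [GG_eq]; exact hg) h1
    (e.trans (barEquiv hKH hO)) (bar_mono hXK) ((card_bar hKH hO hXK).trans hX) (bar_mono hYK)
    ((card_bar hKH hO hYK).trans hY) (fun h4 => hne (bar_injOn hKH hO hYK hXK h4))
  rw [GG_eq] at hk
  refine ⟨k, hk, r, hr, h2.symm, h3.symm, ?_⟩
  have hz1 := FrameOfFr.z_ne_one c hnm r hr
  have hf := fb_hyp h H
  have h4 : k * c.z r * k⁻¹ ∈ bar H K := by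
    have h5 : cj k (c.Z r ⊔ c.Z (-r)) ≤ bar H K := by
      rw [cj_sup]
      exact sup_le (h2.symm.le.trans (bar_mono hXK)) (h3.symm.le.trans (bar_mono hYK))
    exact h5 (conj_mem_cj (c.cls.z_mem r hr))
  have h6 : zz (bar H K) = qm H ⟨zz K, hKH (h.zz_mem hK)⟩ := by
    rw [bar, zz_map' (h.restr H) (not_dvd_ker H) (subgroupOf_mem_restr hK hKH)]
    congr 1
    apply Subtype.ext
    have h7 := zz_map h (subgroupOf_mem_restr hK hKH)
    rw [h7, map_subgroupOf_eq_of_le hKH]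
  rw [← h6]
  refine hf.eq_zz (bar_mem hK hKH) h4 ?_ ?_
  · have h5 : k * c.z r * k⁻¹ * (k * c.z r * k⁻¹) = k * (c.z r * c.z r) * k⁻¹ := by group
    change k * c.z r * k⁻¹ * (k * c.z r * k⁻¹) = 1
    rw [h5, c.cls.z_sq r hr, mul_one, mul_inv_cancel]
  · intro h5
    change k * c.z r * k⁻¹ = 1 at h5
    apply hz1
    have h7 : c.z r = k⁻¹ * (k * c.z r * k⁻¹) * k := by group
    rw [h7, h5]; group

/-- an element of odd order in the kernel: `x ↦ a x`, `z` commutes with `a` and inverts nothing -/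
theorem comm_of_central {z x a : G} (hz : z * z = 1) (ha : z * a = a * z)
    (ho : Odd (orderOf a)) (h : z * x * z⁻¹ = x * a) : z * x = x * z := by
  have hz' : z⁻¹ = z := inv_eq_of_mul_eq_one_right hz
  have h1 : x = x * a * a := by
    calc x = (z * z) * x * (z * z)⁻¹ := by rw [hz]; group
      _ = z * (z * x * z⁻¹) * z⁻¹ := by group
      _ = z * (x * a) * z⁻¹ := by rw [h]
      _ = (z * x * z⁻¹) * (z * a * z⁻¹) := by group
      _ = x * a * a := by rw [h, ha]; group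
  have h2 : a * a = 1 := by
    have : x * (a * a) = x := by rw [← mul_assoc, ← h1]
    exact mul_eq_left.1 this
  have h3 : a = 1 := by
    have h4 : orderOf a ∣ 2 := orderOf_dvd_of_pow_eq_one (by rw [pow_two, h2])
    have h5 : orderOf a = 1 := by
      rcases (Nat.dvd_prime Nat.prime_two).1 h4 with h6 | h6
      · exact h6
      · rw [h6] at ho; exact absurd ho (by decide)
    exact orderOf_eq_one_iff.1 h5
  rw [h3, mul_one] at h
  calc z * x = z * x * z⁻¹ * z := by group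
    _ = x * z := by rw [h]

/-- **LOC** -/
theorem loc [CharP F p] (C : CorG Om H) (hD : QP Om H D') (c : Chart (fb Om H) p D')
    (hnm : D' ∉ fb Om H) (hF : Odd (Fintype.card F))
    {K : Subgroup G} (hK : K ∈ Om) (hKH : K ≤ H) (hKD : bar H K ≤ D')
    (e : Matrix.SpecialLinearGroup (Fin 2) F ≃* K) {X Y : Subgroup G} (hXK : X ≤ K)
    (hX : Nat.card X = Fintype.card F) (hYK : Y ≤ K) (hY : Nat.card Y = Fintype.card F) (hne : Y ≠ X)
    {R : Subgroup G} (hR : ¬ 2 ∣ Nat.card R) (hRH : R ≤ H) (hRX : ∀ r ∈ R, ∀ x ∈ X, r * x = x * r)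
    (hzR : zz K ∈ normalizer (R : Set G)) :
    ⁅R, zpowers (zz K)⁆ ≤ DL Om H D' ∧ IsPGroup p ↥(⁅R, zpowers (zz K)⁆) ∧
      ⁅⁅R, zpowers (zz K)⁆, ⁅R, zpowers (zz K)⁆⁆ ≤ X ⊔ OO H := by
  have hp := Fact.mk c.prime
  have hO : OO K = ⊥ := OO_eq_bot hF e
  have hXH : X ≤ H := hXK.trans hKH
  set z := zz K with hzdef
  have hzz : z * z = 1 := C.hyp.zz_mul hK
  have hzD : z ∈ DL Om H D' := zz_mem_DL C.hyp hK hKH hKD
  have hRodd : Odd (Nat.card R) := by
    rcases Nat.even_or_odd (Nat.card R) with h1 | h1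
    · exact absurd h1.two_dvd hR
    · exact h1
  have hFp : 1 < Fintype.card F := Fintype.one_lt_card
  -- `R` normalises the lift
  have hRn : R ≤ normalizer (DL Om H D' : Set G) := by
    intro g hg
    refine mem_normalizer_DL C hD (hRH hg) hXH ?_ ?_ ((bar_mono hXK).trans hKD) (hRX g hg)
    · rw [hX]
      rcases hF with ⟨m, hm⟩
      omega
    · intro h1
      have h2 : X ≤ K ⊓ OO H := le_inf hXK h1
      rw [inf_core_eq_bot hKH hO, le_bot_iff] at h2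
      rw [h2, Subgroup.card_bot] at hX
      omega
  set Q := ⁅R, zpowers z⁆ with hQ
  have hzz' : zpowers z ≤ normalizer (R : Set G) := by rw [zpowers_le]; exact hzR
  have hQR : Q ≤ R := Lib.CoprimeCommutator.commutator_le_left hzz'
  have hQD : Q ≤ DL Om H D' := by
    rw [hQ, Subgroup.commutator_le]
    intro r hr y hy
    have hyD : y ∈ DL Om H D' := (zpowers_le.2 hzD) hy
    rw [commutatorElement_def]
    exact mul_mem ((mem_normalizer_iff.1 (hRn hr) y).1 hyD) (inv_mem hyD)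
  have hcop : (Nat.card (zpowers z)).Coprime (Nat.card R) := by
    have h1 : Nat.card (zpowers z) ∣ 2 := by
      rw [Nat.card_zpowers]
      exact orderOf_dvd_of_pow_eq_one (by rw [pow_two, hzz])
    exact Nat.Coprime.coprime_dvd_left h1 (Nat.coprime_two_left.2 hRodd)
  have hQz : ⁅Q, zpowers z⁆ = Q := Lib.CoprimeCommutator.commutator_commutator_eq _ _ hzz' hcop
  have hzQ : z ∈ normalizer (Q : Set G) := by
    rw [mem_normalizer_iff_cj, hQ, cj_commutator, mem_normalizer_iff_cj.1 hzR, Parab.cj_zpowers]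
    congr 2
    group
  -- the chart
  obtain ⟨k, hk, r, hr, h1, -, h3⟩ := exists_place C.hyp c hnm hF hK hKH hKD e hXK hX hYK hY hne
  set c' := conjChart c hk (fb_hyp C.hyp H).conj with hc'
  have hr' : r ∈ c'.R := hr
  let L : Subgroup G := DL Om H D'
  have hLH : L ≤ H := DL_le
  let π : ↥L →* HQ H := (qm H).comp (Subgroup.inclusion hLH)
  have hπ : ∀ l : L, π l ∈ D' := fun l => qm_mem_of_DL (Om := Om) (x := ⟨l, hLH l.2⟩) l.2
  have hπ1 : ∀ l : L, π l = 1 → (l : G) ∈ OO H := fun l hl => qm_eq_one_iff.1 hl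
  have hcen : ∀ a ∈ OO H, ∀ l ∈ L, a * l = l * a := fun a ha l hl => (DL_comm_core C hl ha).symm
  let X₀ : Subgroup G := ((bar H X).comap π).map L.subtype
  have hX₀L : X₀ ≤ L := map_subtype_le _
  have hX₀ : ∀ x (hx : x ∈ L), π ⟨x, hx⟩ ∈ bar H X → x ∈ X₀ := fun x hx h => ⟨⟨x, hx⟩, h, rfl⟩
  have hX₀' : ∀ x (hx : x ∈ X₀), π ⟨x, hX₀L hx⟩ ∈ bar H X := by
    rintro x ⟨y, hy, rfl⟩
    exact hy
  -- elements of `X₀` lie in `X O(H)`
  have hX₀X : X₀ ≤ X ⊔ OO H := by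
    intro x hx
    obtain ⟨y, hy, h4⟩ := hX₀' x hx
    have h5 : qm H (y⁻¹ * ⟨x, hLH (hX₀L hx)⟩) = 1 := by
      rw [map_mul, map_inv, h4]
      exact inv_mul_cancel _
    have h6 : (y : G)⁻¹ * x ∈ OO H := qm_eq_one_iff.1 h5
    have h7 : x = (y : G) * ((y : G)⁻¹ * x) := by group
    rw [h7]
    exact mul_mem (mem_sup_left hy) (mem_sup_right h6)
  -- `z` centralises `X₀`
  have hzX₀ : ∀ x ∈ X₀, z * x = x * z := by
    intro x hx
    obtain ⟨y, hy, h4⟩ := hX₀' x hx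
    have hyz : z * (y : G) = (y : G) * z :=
      (mem_centralizer_singleton_iff.1 (C.hyp.le_centralizer hK (hXK hy))).symm
    -- commutator in the kernel
    have hxL := hX₀L hx
    have h5 : x⁻¹ * (z * x * z⁻¹) ∈ OO H := by
      have h6 : qm H (⟨x, hLH hxL⟩⁻¹ * (⟨z, hLH hzD⟩ * ⟨x, hLH hxL⟩ * ⟨z, hLH hzD⟩⁻¹)) = 1 := by
        have h7 : qm H ⟨x, hLH hxL⟩ = qm H y := h4.symm
        rw [map_mul, map_mul, map_mul, map_inv, map_inv, h7, ← map_inv, ← map_inv, ← map_mul, ← map_mul,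
          ← map_mul, ← map_one (qm H)]
        congr 1
        apply Subtype.ext
        change (y : G)⁻¹ * (z * (y : G) * z⁻¹) = 1
        rw [hyz]; group
      exact qm_eq_one_iff.1 h6
    refine comm_of_central hzz (hcen _ h5 z hzD).symm
      (odd_orderOf (odd_OO H) h5) (by group)
  -- `Q` centralises `X₀`
  have hQX₀ : ∀ q ∈ Q, ∀ x ∈ X₀, q * x = x * q := by
    intro q hq x hx
    have hxL := hX₀L hx
    -- the commutators with `x` lie in the kernel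
    have hker : ∀ q ∈ Q, ⁅q, x⁆ ∈ OO H := by
      intro q hq
      have hqL := hQD hq
      obtain ⟨y, hy, h4⟩ := hX₀' x hx
      have h6 : qm H ⁅(⟨q, hLH hqL⟩ : H), ⟨x, hLH hxL⟩⁆ = 1 := by
        have h7 : qm H ⟨x, hLH hxL⟩ = qm H y := h4.symm
        rw [map_commutatorElement, h7, ← map_commutatorElement, ← map_one (qm H)]
        congr 1
        apply Subtype.ext
        change ⁅q, (y : G)⁆ = 1
        rw [commutatorElement_eq_one_iff_mul_comm]
        exact hRX q (hQR hq) y hy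
      exact qm_eq_one_iff.1 h6
    -- the centraliser of `x` in `Q` is everything
    have h8 : Q ≤ centralizer {x} := by
      conv_lhs => rw [← hQz]
      rw [Subgroup.commutator_le]
      intro q hq y hy
      rcases Parab.mem_zpowers_of_sq hzz hy with rfl | rfl
      · rw [commutatorElement_one_right]; exact one_mem _
      · -- `q z q⁻¹ z⁻¹`
        have hqL := hQD hq
        have ha := hker q hq
        have e1 : q * x * q⁻¹ = ⁅q, x⁆ * x := by rw [commutatorElement_def]; group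
        have hax : ⁅q, x⁆ * x = x * ⁅q, x⁆ := hcen _ ha x hxL
        have haq : ⁅q, x⁆ * q = q * ⁅q, x⁆ := hcen _ ha q hqL
        have haz : ⁅q, x⁆ * z = z * ⁅q, x⁆ := hcen _ ha z hzD
        have e2 : q⁻¹ * x * q = ⁅q, x⁆⁻¹ * x := by
          have h9 : q * (⁅q, x⁆⁻¹ * x) * q⁻¹ = x := by
            calc q * (⁅q, x⁆⁻¹ * x) * q⁻¹ = (q * ⁅q, x⁆⁻¹ * q⁻¹) * (q * x * q⁻¹) := by group
              _ = (q * ⁅q, x⁆⁻¹ * q⁻¹) * (⁅q, x⁆ * x) := by rw [e1]
              _ = ((q * ⁅q, x⁆)  * ⁅q, x⁆⁻¹ * ⁅q, x⁆⁻¹ * q⁻¹) * (⁅q, x⁆ * x) := by group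
              _ = ((⁅q, x⁆ * q)  * ⁅q, x⁆⁻¹ * ⁅q, x⁆⁻¹ * q⁻¹) * (⁅q, x⁆ * x) := by rw [haq]
              _ = (⁅q, x⁆ * (q  * ⁅q, x⁆)⁻¹⁻¹ * ⁅q, x⁆⁻¹ * ⁅q, x⁆⁻¹ * ⁅q, x⁆⁻¹ * q⁻¹) * (⁅q, x⁆ * x) := by
                group
              _ = (⁅q, x⁆ * (⁅q, x⁆ * q)⁻¹⁻¹ * ⁅q, x⁆⁻¹ * ⁅q, x⁆⁻¹ * ⁅q, x⁆⁻¹ * q⁻¹) * (⁅q, x⁆ * x) := by
                rw [haq]
              _ = x := by
                have h10 : q * ⁅q, x⁆⁻¹ = ⁅q, x⁆⁻¹ * q := by
                  rw [mul_inv_eq_iff_eq_mul, mul_assoc, ← haq]; group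
                calc (⁅q, x⁆ * (⁅q, x⁆ * q)⁻¹⁻¹ * ⁅q, x⁆⁻¹ * ⁅q, x⁆⁻¹ * ⁅q, x⁆⁻¹ * q⁻¹) * (⁅q, x⁆ * x)
                    = ⁅q, x⁆ * ⁅q, x⁆ * (q * ⁅q, x⁆⁻¹) * ⁅q, x⁆⁻¹ * ⁅q, x⁆⁻¹ * q⁻¹ * (⁅q, x⁆ * x) := by group
                  _ = ⁅q, x⁆ * ⁅q, x⁆ * (⁅q, x⁆⁻¹ * q) * ⁅q, x⁆⁻¹ * ⁅q, x⁆⁻¹ * q⁻¹ * (⁅q, x⁆ * x) := by rw [h10]
                  _ = ⁅q, x⁆ * (q * ⁅q, x⁆⁻¹) * ⁅q, x⁆⁻¹ * q⁻¹ * (⁅q, x⁆ * x) := by group
                  _ = ⁅q, x⁆ * (⁅q, x⁆⁻¹ * q) * ⁅q, x⁆⁻¹ * q⁻¹ * (⁅q, x⁆ * x) := by rw [h10]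
                  _ = (q * ⁅q, x⁆⁻¹) * q⁻¹ * (⁅q, x⁆ * x) := by group
                  _ = (⁅q, x⁆⁻¹ * q) * q⁻¹ * (⁅q, x⁆ * x) := by rw [h10]
                  _ = x := by group
          calc q⁻¹ * x * q = q⁻¹ * (q * (⁅q, x⁆⁻¹ * x) * q⁻¹) * q := by rw [h9]
            _ = ⁅q, x⁆⁻¹ * x := by group
        rw [mem_centralizer_singleton_iff]
        have hzx := hzX₀ x hx
        have e3 : q * z * q⁻¹ * z⁻¹ * x * (q * z * q⁻¹ * z⁻¹)⁻¹ = x := by
          calc q * z * q⁻¹ * z⁻¹ * x * (q * z * q⁻¹ * z⁻¹)⁻¹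
              = q * z * q⁻¹ * (z⁻¹ * (x * z)) * q * z⁻¹ * q⁻¹ := by group
            _ = q * z * q⁻¹ * (z⁻¹ * (z * x)) * q * z⁻¹ * q⁻¹ := by rw [hzx]
            _ = q * z * (q⁻¹ * x * q) * z⁻¹ * q⁻¹ := by group
            _ = q * z * (⁅q, x⁆⁻¹ * x) * z⁻¹ * q⁻¹ := by rw [e2]
            _ = q * (z * ⁅q, x⁆⁻¹) * x * z⁻¹ * q⁻¹ := by group
            _ = q * (⁅q, x⁆⁻¹ * z) * x * z⁻¹ * q⁻¹ := by
                have h10 : z * ⁅q, x⁆⁻¹ = ⁅q, x⁆⁻¹ * z := by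
                  rw [mul_inv_eq_iff_eq_mul, mul_assoc, ← haz]; group
                rw [h10]
            _ = q * ⁅q, x⁆⁻¹ * (z * x) * z⁻¹ * q⁻¹ := by group
            _ = q * ⁅q, x⁆⁻¹ * (x * z) * z⁻¹ * q⁻¹ := by rw [hzx]
            _ = q * (⁅q, x⁆⁻¹ * x) * q⁻¹ := by group
            _ = q * (q⁻¹ * x * q) * q⁻¹ := by rw [e2]
            _ = x := by group
        rw [commutatorElement_def]
        calc q * z * q⁻¹ * z⁻¹ * x
            = q * z * q⁻¹ * z⁻¹ * x * (q * z * q⁻¹ * z⁻¹)⁻¹ * (q * z * q⁻¹ * z⁻¹) := by group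
          _ = x * (q * z * q⁻¹ * z⁻¹) := by rw [e3]
    exact mem_centralizer_singleton_iff.1 (h8 hq)
  have h9 := Nodes.ChartLoc.local_main c'.cls c'.odd (L := L) π
    (fun a ha l => Subtype.ext (hcen a (hπ1 a ha) l l.2)) (fun l => by rw [GG_eq]; exact hπ l) hr'
    (X₀ := X₀) (by
      rw [h1]
      ext y
      constructor
      · rintro ⟨x, hx, rfl⟩
        have := hX₀' x hx
        exact this
      · intro hy
        obtain ⟨x, hx, h4⟩ := DL_cover C hD (hKD (bar_mono hXK hy))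
        refine ⟨⟨x, hx⟩, ?_, h4⟩
        exact hX₀ x hx (by
          have : π ⟨x, hx⟩ = y := h4
          rw [this]; exact hy))
    hzD hzz (by rw [h3]; rfl) hQD hQX₀ hzQ hQz
  refine ⟨hQD, h9.1, ?_⟩
  rw [Subgroup.commutator_le]
  intro a ha b hb
  obtain ⟨x, hx, a', ha', h10⟩ := h9.2.2 a ha b hb
  rw [h10]
  exact mul_mem (hX₀X hx) (mem_sup_right (hπ1 a' ha'))

end Cfsg.Agent.Cit.PieceLoc
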