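import Mathlib
import Cfsg.Agent.Cit.PieceLoc
import Cfsg.Agent.Cit.Exact

/-!
# `Good p X (zz K)` (project CIT, (EX'), bb #9241, step (2))

* `gen_of_quasisimple` : `L ≤ ⟨⁅l, w⁆⟩` if `L` is quasisimple, `w ∈ L` not central;
* `Lk Om K w D₁` : `w` is a noncentral involution of the lift of a piece `D₁` of `C(zz K)` different from `K`;
  `Rk Om p K w D₂` : `K` lies in the piece `D₂` of `C(w)`, which has a chart;
* `Lk.main` : LEMMA UQ and (EX-1) apply: `ExV`, and `BB K X z ≤ O(C(w))`, so the lift of `D₂` centralises `BB K X z`;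
* `good_of_bot` : `BB K X z = 1` implies `Good p X z`;
* `bb` : the function `b` for the CONSTANT LEMMA, `bb_cj`, `bb_eq`.
-/

set_option autoImplicit false
set_option linter.dupNamespace false
set_option linter.style.haveILetI false
set_option linter.unusedSectionVars false

namespace Cfsg.Agent.Cit.GoodOf

open Subgroup Cfsg Cfsg.Agent.Cit.UseT Cfsg.Agent.Cit.PieceLift Cfsg.Agent.Cit.PieceG Cfsg.Agent.Cit.PieceLoc
open Cfsg.Agent.Nodes.Chart Cfsg.Agent.Cit.FrameOf Cfsg.Agent.Cit.ParabSL2 Cfsg.Agent.Cit.Parab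
open Cfsg.Agent.Cit.LemmaUQ Cfsg.Agent.Cit.Exact Cfsg.Agent.Cit.Weights
open scoped commutatorElement

variable {G : Type*} [Group G]

/-- a quasisimple group is generated by the commutators with a noncentral element -/
theorem gen_of_quasisimple {L : Subgroup G} (hL : IsQuasisimple L) {w : G} (hw : w ∈ L)
    (hnc : ∃ l ∈ L, l * w ≠ w * l) : L ≤ closure {x : G | ∃ l ∈ L, x = ⁅l, w⁆} := by
  set N : Subgroup G := closure {x : G | ∃ l ∈ L, x = ⁅l, w⁆} with hN
  have hgen : ∀ l ∈ L, ⁅l, w⁆ ∈ N := fun l hl => subset_closure ⟨l, hl, rfl⟩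
  have hNL : N ≤ L := by
    rw [hN, closure_le]
    rintro x ⟨l, hl, rfl⟩
    rw [commutatorElement_def]
    exact L.mul_mem (L.mul_mem (L.mul_mem hl hw) (L.inv_mem hl)) (L.inv_mem hw)
  have hn : L ≤ normalizer (N : Set G) := by
    have key : ∀ l ∈ L, cj l N ≤ N := by
      intro l hl
      rw [Cit.cj_le_iff, hN, closure_le]
      rintro x ⟨m, hm, rfl⟩
      change _ ∈ cj l⁻¹ _
      rw [mem_cj, inv_inv]
      have h1 : l * ⁅m, w⁆ * l⁻¹ = ⁅l * m, w⁆ * ⁅l, w⁆⁻¹ := by
        simp only [commutatorElement_def]; group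
      rw [h1]
      exact N.mul_mem (hgen _ (L.mul_mem hl hm)) (N.inv_mem (hgen _ hl))
    intro l hl
    rw [mem_normalizer_iff_cj]
    refine le_antisymm (key l hl) ?_
    have h2 := cj_mono l (key l⁻¹ (L.inv_mem hl))
    rwa [cj_cj_inv] at h2
  have hNn : (N.subgroupOf L).Normal := (normal_subgroupOf_iff_le_normalizer hNL).2 hn
  rcases SignalizersComponents.LayerBasic.quasisimple_normal hL _ hNn with h1 | h1
  · exact subgroupOf_eq_top.1 h1
  · exfalso
    -- `l ↦ ⁅l, w⁆` is a homomorphism into the centre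
    have hc : ∀ n ∈ N, ∀ l ∈ L, n * l = l * n := by
      intro n hn l hl
      have h2 : (⟨n, hNL hn⟩ : L) ∈ center L := h1 hn
      exact (congrArg Subtype.val (mem_center_iff.1 h2 ⟨l, hl⟩)).symm
    let f : L →* L :=
      { toFun := fun l => ⟨⁅(l : G), w⁆, hNL (hgen _ l.2)⟩
        map_one' := Subtype.ext (by simp)
        map_mul' := by
          intro a b
          apply Subtype.ext
          change ⁅(a : G) * b, w⁆ = ⁅(a : G), w⁆ * ⁅(b : G), w⁆
          have h2 := hc _ (hgen _ b.2) a a.2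
          calc ⁅(a : G) * b, w⁆ = ((a : G) * ⁅(b : G), w⁆) * (a : G)⁻¹ * ⁅(a : G), w⁆ := by
                simp only [commutatorElement_def]; group
            _ = ⁅(b : G), w⁆ * ⁅(a : G), w⁆ := by rw [← h2, mul_inv_cancel_right]
            _ = ⁅(a : G), w⁆ * ⁅(b : G), w⁆ := hc _ (hgen _ b.2) _ (hNL (hgen _ a.2)) }
    have hker : f.ker = ⊤ := by
      have h3 : commutator L ≤ f.ker := by
        rw [_root_.commutator_def, Subgroup.commutator_le]
        intro a _ b _
        rw [MonoidHom.mem_ker, map_commutatorElement, commutatorElement_eq_one_iff_mul_comm]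
        exact Subtype.ext (hc _ (hgen _ a.2) _ (hNL (hgen _ b.2)))
      rw [hL.1.commutator_eq_top] at h3
      exact top_le_iff.1 h3
    obtain ⟨l, hl, hne⟩ := hnc
    apply hne
    have h4 : (⟨l, hl⟩ : L) ∈ f.ker := hker ▸ mem_top _
    have h5 : ⁅l, w⁆ = 1 := congrArg Subtype.val (MonoidHom.mem_ker.1 h4)
    exact commutatorElement_eq_one_iff_mul_comm.1 h5

variable [Finite G] {Om : Set (Subgroup G)}

/-- `w` is a noncentral involution of the lift of the piece `D₁` of `C(zz K)`, which is not the piece of `K` -/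
structure Lk (Om : Set (Subgroup G)) (K : Subgroup G) (w : G) (D₁ : Subgroup (HQ (centralizer {zz K}))) :
    Prop where
  mem : K ∈ Om
  cor : CorG Om (centralizer {zz K})
  qp : QP Om (centralizer {zz K}) D₁
  nle : ¬ bar (centralizer {zz K}) K ≤ D₁
  wL : w ∈ DL Om (centralizer {zz K}) D₁
  ww : w * w = 1
  nc : ∃ l ∈ DL Om (centralizer {zz K}) D₁, l * w ≠ w * l

/-- `K` lies in the piece `D₂` of `C(w)`, which has a chart -/
structure Rk (Om : Set (Subgroup G)) (p : ℕ) (K : Subgroup G) (w : G) (D₂ : Subgroup (HQ (centralizer {w}))) :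
    Prop where
  cor : CorG Om (centralizer {w})
  qp : QP Om (centralizer {w}) D₂
  le : bar (centralizer {w}) K ≤ D₂
  nmem : D₂ ∉ fb Om (centralizer {w})
  chart : Nonempty (Chart (fb Om (centralizer {w})) p D₂)

section

variable {K : Subgroup G} {w : G} {D₁ : Subgroup (HQ (centralizer {zz K}))} {D₂ : Subgroup (HQ (centralizer {w}))}
  {p : ℕ} {F : Type*} [Field F] [Fintype F]

/-- the lift of `D₁` commutes with `K` -/
theorem Lk.comm (l : Lk Om K w D₁) : ∀ a ∈ DL Om (centralizer {zz K}) D₁, ∀ k ∈ K, a * k = k * a := by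
  intro a ha k hk
  exact (comm_member l.cor l.qp l.mem (l.cor.hyp.le_centralizer l.mem) l.nle k hk a ha).symm

theorem Lk.le_centralizer (l : Lk Om K w D₁) : K ≤ centralizer {w} := by
  intro k hk
  rw [mem_centralizer_singleton_iff]
  exact (l.comm w l.wL k hk).symm

/-- LEMMA UQ applies -/
theorem Lk.hIn (l : Lk Om K w D₁) (solv : ∀ X : Subgroup G, ¬ 2 ∣ Nat.card X → Group.IsSolvable X)
    {X : Subgroup G} (hlong : Long K X (zz K)) :
    In (core X) X (DL Om (centralizer {zz K}) D₁) (zz K) w := by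
  refine in_of_long hlong l.comm ?_ l.ww l.wL
    (gen_of_quasisimple (DL_quasisimple l.cor l.qp) l.wL l.nc)
  have hodd : ¬ 2 ∣ Nat.card (core K) := by
    have h1 := odd_core K
    rw [← Nat.not_even_iff_odd] at h1
    exact fun h2 => h1 (even_iff_two_dvd.2 h2)
  have hz : centralizer (K : Set G) ≤ centralizer {zz K} :=
    centralizer_le (Set.singleton_subset_iff.2 (l.cor.hyp.zz_mem l.mem))
  have hL : ∀ a ∈ DL Om (centralizer {zz K}) D₁, a ∈ centralizer (K : Set G) := fun a ha => by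
    rw [mem_centralizer_iff]
    exact fun k hk => (l.comm a ha k hk).symm
  have h1 := comm_of_normalizes l.cor l.qp ((core_le K).trans hz) (solv _ hodd) (by
    intro a ha
    refine mem_normalizer_of_forall (fun x hx => core_conj_mem (hL a ha) hx) fun x hx => ?_
    have h2 := core_conj_mem (hL a⁻¹ (inv_mem ha)) hx
    rwa [inv_inv] at h2)
  exact fun a ha d hd => (h1 d hd a ha).symm

/-- an element of `X` centralising `K` is trivial -/
theorem eq_one_of_central (e : Matrix.SpecialLinearGroup (Fin 2) F ≃* K)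
    {X Y : Subgroup G} (hXK : X ≤ K) (hX : Nat.card X = Fintype.card F) (hYK : Y ≤ K)
    (hY : Nat.card Y = Fintype.card F) (hne : Y ≠ X) {x : G} (hx : x ∈ X) (hc : ∀ k ∈ K, x * k = k * x) :
    x = 1 := by
  refine eq_one_of_cj_eq e hXK hX hYK hY hne hx ?_
  rw [← mem_normalizer_iff_cj]
  refine centralizer_le_normalizer _ ?_
  rw [mem_centralizer_iff]
  exact fun y hy => (hc y (hYK hy)).symm

theorem root_ne_rootOp (e : Matrix.SpecialLinearGroup (Fin 2) F ≃* K) : root e ≠ rootOp e := by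
  intro h1
  have h2 : (e (Lib.SL2Mat.up 1) : G) = 1 := by
    refine eq_one_of_normalizes e (mem_root.2 ⟨1, rfl⟩) ?_
    rw [← h1]
    exact Parab.cj_eq_of_mem (mem_root.2 ⟨1, rfl⟩)
  have h3 : e (Lib.SL2Mat.up 1) = 1 := Subtype.ext h2
  rw [map_eq_one_iff e e.injective] at h3
  have h4 : Lib.SL2Mat.ent (Lib.SL2Mat.up (1 : F)) 0 1 = Lib.SL2Mat.ent 1 0 1 := by rw [h3]
  rw [Lib.SL2Mat.up_01] at h4
  have h5 : Lib.SL2Mat.ent (1 : Matrix.SpecialLinearGroup (Fin 2) F) 0 1 = 0 := by
    simp [Lib.SL2Mat.ent]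
  exact one_ne_zero (h4.trans h5)

/-- an opposite root group -/
theorem exists_opp (e : Matrix.SpecialLinearGroup (Fin 2) F ≃* K) {X : Subgroup G} (hXK : X ≤ K)
    (hX : Nat.card X = Fintype.card F) : ∃ Y ≤ K, Nat.card Y = Fintype.card F ∧ Y ≠ X := by
  obtain ⟨k, hk, rfl⟩ := exists_conj_root e hXK hX
  refine ⟨cj k (rootOp e), ?_, ?_, fun h => root_ne_rootOp e (cj_inj.1 h).symm⟩
  · have h1 := cj_mono k (Dat.rootOp_le e)
    rwa [Parab.cj_eq_of_mem hk] at h1
  · rw [card_cj, Dat.card_rootOp]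

theorem isPGroup_of_card [CharP F p] {X : Subgroup G} (hX : Nat.card X = Fintype.card F) : IsPGroup p X := by
  obtain ⟨m, -, hm⟩ := FiniteField.card F p
  exact IsPGroup.of_card (n := (m : ℕ)) (by rw [hX, hm])

/-- the data used for a good pair `(K, w)` -/
structure Res (Om : Set (Subgroup G)) (p : ℕ) (K : Subgroup G) (w : G) (D₁ : Subgroup (HQ (centralizer {zz K})))
    (D₂ : Subgroup (HQ (centralizer {w}))) (X : Subgroup G) : Prop where
  hIn : In (core X) X (DL Om (centralizer {zz K}) D₁) (zz K) w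
  /-- `Q_w` lies in the lift of the piece of `C(w)` -/
  Qw_le : Qw (core X) (zz K) w ≤ DL Om (centralizer {w}) D₂
  Qw_p : IsPGroup p (Qw (core X) (zz K) w)
  QX_p : IsPGroup p (QX X (zz K))
  ex : ExV X (DL Om (centralizer {zz K}) D₁) (QX X (zz K)) (BB K X (zz K)) (zz K)
  bb_le : BB K X (zz K) ≤ OO (centralizer {w})
  bb_comm : ∀ d ∈ DL Om (centralizer {w}) D₂, ∀ b ∈ BB K X (zz K), d * b = b * d

/-- **step (2)** for a good pair `(K, w)` -/
theorem Lk.res (l : Lk Om K w D₁) (r : Rk Om p K w D₂) [CharP F p] (hF : Odd (Fintype.card F))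
    (solv : ∀ X : Subgroup G, ¬ 2 ∣ Nat.card X → Group.IsSolvable X)
    (e : Matrix.SpecialLinearGroup (Fin 2) F ≃* K) {X : Subgroup G} (hXK : X ≤ K)
    (hX : Nat.card X = Fintype.card F) : Res Om p K w D₁ D₂ X := by
  obtain ⟨c⟩ := r.chart
  haveI hp : Fact p.Prime := ⟨c.prime⟩
  have h := l.cor.hyp
  have hO : OO K = ⊥ := OO_eq_bot hF e
  have hlong : Long K X (zz K) := long_of_hyp h l.mem hF e hXK hX
  have hI := l.hIn solv hlong
  obtain ⟨Y, hYK, hY, hne⟩ := exists_opp e hXK hX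
  set z := zz K with hz
  set L := DL Om (centralizer {z}) D₁ with hL
  have hKw : K ≤ centralizer {w} := l.le_centralizer
  set R : Subgroup G := core X ⊓ centralizer {w} with hR
  have hcore2 : ∀ {T : Subgroup G}, T ≤ core X → ¬ 2 ∣ Nat.card T := by
    intro T hT h1
    have h2 := odd_core X
    rw [← Nat.not_even_iff_odd] at h2
    exact h2 (even_iff_two_dvd.2 (h1.trans (card_dvd_of_le hT)))
  have hzw : z * w = w * z := hI.z_w
  have hzR : z ∈ normalizer (R : Set G) := by
    refine mem_normalizer_of_forall ?_ ?_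
    · rintro x ⟨hx1, hx2⟩
      refine ⟨conj_mem_of_normalizer hI.zR hx1, ?_⟩
      change z * x * z⁻¹ ∈ centralizer {w}
      rw [mem_centralizer_singleton_iff]
      have h3 := mem_centralizer_singleton_iff.1 hx2
      calc z * x * z⁻¹ * w = z * x * z⁻¹ * (w * z) * z⁻¹ := by group
        _ = z * (x * w) * z⁻¹ := by rw [← hzw]; group
        _ = (z * w) * x * z⁻¹ := by rw [h3]; group
        _ = w * (z * x * z⁻¹) := by rw [hzw]; group
    · rintro x ⟨hx1, hx2⟩
      refine ⟨inv_conj_mem_of_normalizer hI.zR hx1, ?_⟩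
      change z⁻¹ * x * z ∈ centralizer {w}
      rw [mem_centralizer_singleton_iff]
      have h3 := mem_centralizer_singleton_iff.1 hx2
      calc z⁻¹ * x * z * w = z⁻¹ * x * (z * w) := by group
        _ = z⁻¹ * (x * w) * z := by rw [hzw]; group
        _ = z⁻¹ * (w * z) * z⁻¹ * x * z := by rw [h3]; group
        _ = w * (z⁻¹ * x * z) := by rw [← hzw]; group
  have hloc := loc r.cor r.qp c r.nmem hF l.mem hKw r.le e hXK hX hYK hY hne (R := R) (hcore2 inf_le_left)
    inf_le_right (fun a ha x hx => core_commute ha.1 hx) hzR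
  have hQle : Qw (core X) z w ≤ DL Om (centralizer {w}) D₂ := hloc.1
  have hQp : IsPGroup p (Qw (core X) z w) := hloc.2.1
  set V := ⁅Qw (core X) z w, Qw (core X) z w⁆ with hV
  have hVle : V ≤ X ⊔ OO (centralizer {w}) := hloc.2.2
  -- `z` and `Qw` centralise `X O(C(w))`
  have hzO : ∀ a ∈ OO (centralizer {w}), z * a = a * z := by
    have h1 : IsPGroup 2 (zpowers z) := by
      refine IsPGroup.of_card (n := 1) ?_
      rw [Nat.card_zpowers, h.orderOf_zz l.mem, pow_one]
    have h2 := r.cor.cor K l.mem hKw (zpowers z) (by rw [zpowers_le]; exact h.zz_mem l.mem) h1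
    intro a ha
    exact (mem_centralizer_iff.1 (h2 (mem_zpowers z)) a ha).symm
  have hsup : ∀ {t : G}, (∀ x ∈ X, t * x = x * t) → (∀ a ∈ OO (centralizer {w}), t * a = a * t) →
      ∀ v ∈ V, v * t = t * v := by
    intro t h1 h2 v hv
    have h3 : X ⊔ OO (centralizer {w}) ≤ centralizer {t} := by
      refine sup_le ?_ ?_
      · intro x hx
        exact mem_centralizer_singleton_iff.2 (h1 x hx).symm
      · intro x hx
        exact mem_centralizer_singleton_iff.2 (h2 x hx).symm
    exact mem_centralizer_singleton_iff.1 (h3 (hVle hv))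
  have hVz : ∀ v ∈ V, v * z = z * v := hsup (fun x hx => (hlong.central (hXK hx)).symm) hzO
  have hVQ : ∀ v ∈ V, ∀ q ∈ Qw (core X) z w, v * q = q * v := by
    intro v hv q hq
    refine hsup (fun x hx => core_commute (hI.Qw_le_R hq) hx) (fun a ha => ?_) v hv
    exact DL_comm_core r.cor (hQle hq) ha
  have hQXp : IsPGroup p (QX X z) := hI.isPGroup c.prime (solv _ (hcore2 le_rfl)) hQp
  obtain ⟨hex, hsupV⟩ := ex_one_long hlong hI hQXp hVz hVQ
  -- `BB ≤ O(C(w))`
  have hbb : BB K X z ≤ OO (centralizer {w}) := by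
    intro b hb
    have h1 : b ∈ X ⊔ OO (centralizer {w}) := by
      have h2 : b ∈ X ⊔ V := by rw [← hsupV]; exact (le_sup_right : BB K X z ≤ _) hb
      exact (sup_le le_sup_left hVle : X ⊔ V ≤ _) h2
    have hN : centralizer {w} ≤ normalizer (OO (centralizer {w}) : Set G) := le_normalizer_OO _
    have hbw : b ∈ centralizer {w} := (sup_le (hXK.trans hKw) (OO_le _) : X ⊔ OO (centralizer {w}) ≤ _) h1
    have h1' : b ∈ ((X ⊔ OO (centralizer {w}) : Subgroup G) : Set G) := h1
    rw [Subgroup.coe_mul_of_left_le_normalizer_right _ _ ((hXK.trans hKw).trans hN)] at h1'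
    obtain ⟨x, hx, a, ha, rfl⟩ := h1'
    have hx1 : x = 1 := by
      refine eq_one_of_central e hXK hX hYK hY hne hx fun k hk => ?_
      have hbk : x * a * k = k * (x * a) := BB_comm hb hk
      have h2 : ⁅x, k⁆ = (x * a) * (a⁻¹ * (k * a * k⁻¹)) * (x * a)⁻¹ := by
        have h3 : (x * a)⁻¹ * k⁻¹ = k⁻¹ * (x * a)⁻¹ := by
          rw [← mul_inv_rev, ← mul_inv_rev, hbk]
        calc ⁅x, k⁆ = x * k * a * ((x * a)⁻¹ * k⁻¹) := by
              rw [commutatorElement_def]; group
          _ = x * k * a * (k⁻¹ * (x * a)⁻¹) := by rw [h3]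
          _ = (x * a) * (a⁻¹ * (k * a * k⁻¹)) * (x * a)⁻¹ := by group
      have h3 : ⁅x, k⁆ ∈ K ⊓ OO (centralizer {w}) := by
        refine ⟨?_, ?_⟩
        · rw [commutatorElement_def]
          exact K.mul_mem (K.mul_mem (K.mul_mem (hXK hx) hk) (K.inv_mem (hXK hx))) (K.inv_mem hk)
        · rw [h2]
          refine conj_mem_of_normalizer (hN hbw) (mul_mem (inv_mem ha) ?_)
          exact conj_mem_of_normalizer (hN (hKw hk)) ha
      rw [inf_core_eq_bot hKw hO, mem_bot] at h3
      exact commutatorElement_eq_one_iff_mul_comm.1 h3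
    change x * a ∈ _
    rw [hx1, one_mul]
    exact ha
  exact ⟨hI, hQle, hQp, hQXp, hex, hbb, fun d hd b hb => DL_comm_core r.cor hd (hbb hb)⟩

/-- `BB K X z = 1` implies `Good p X z` -/
theorem Res.good {X : Subgroup G} (R : Res Om p K w D₁ D₂ X) (hp : p.Prime) (hlong : Long K X (zz K))
    (hX : IsPGroup p X) (hB : BB K X (zz K) = ⊥) : Good p X (zz K) := by
  haveI := Fact.mk hp
  obtain ⟨h1, h2⟩ := R.ex.exact hB
  refine ⟨QQ_isPGroup hlong hX R.QX_p, by rw [QQ_commutator_eq_QX hlong]; exact h1, ?_⟩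
  intro a ha haz
  obtain ⟨x, hx, d, hd, rfl⟩ := (mem_QQ hlong).1 ha
  have hxz := hlong.central (hlong.XK hx)
  have hdz : d * zz K = zz K * d := by
    calc d * zz K = x⁻¹ * (x * d * zz K) := by group
      _ = x⁻¹ * (zz K * x) * d := by rw [haz]; group
      _ = zz K * d := by rw [← hxz]; group
  exact X.mul_mem hx (h2 d hd hdz)

end

/-! ### The function `b` of the CONSTANT LEMMA -/

open Classical in
/-- `BB K X (zz K)` for a subgroup `X` of `K` of order `q` -/
noncomputable def bb (q : ℕ) (K : Subgroup G) : Subgroup G :=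
  if h : ∃ X ≤ K, Nat.card X = q then BB K h.choose (zz K) else ⊥

section

variable {K : Subgroup G} {F : Type*} [Field F] [Fintype F]

theorem bb_eq (h : Hyp Om) (hK : K ∈ Om) (hF : Odd (Fintype.card F))
    (e : Matrix.SpecialLinearGroup (Fin 2) F ≃* K) {X : Subgroup G} (hXK : X ≤ K)
    (hX : Nat.card X = Fintype.card F) : bb (Fintype.card F) K = BB K X (zz K) := by
  have h1 : ∃ X ≤ K, Nat.card X = Fintype.card F := ⟨X, hXK, hX⟩
  rw [bb, dif_pos h1]
  obtain ⟨h2, h3⟩ := h1.choose_spec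
  obtain ⟨k, hk, h4⟩ := exists_conj e h2 h3 hXK (hX.trans h3.symm)
  rw [← h4]
  exact BB_eq_of_cj (long_of_hyp h hK hF e hXK hX) hk

theorem bb_cj (h : Hyp Om) (hK : K ∈ Om) (hF : Odd (Fintype.card F))
    (e : Matrix.SpecialLinearGroup (Fin 2) F ≃* K) (g : G) :
    bb (Fintype.card F) (cj g K) = cj g (bb (Fintype.card F) K) := by
  have h1 : root e ≤ K := root_le e
  have h2 : Nat.card (root e) = Fintype.card F := card_root e
  rw [bb_eq h hK hF e h1 h2, bb_eq h (h.conj K hK g) hF (e.trans (cjEquiv g K)) (cj_mono g h1)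
    ((card_cj g _).trans h2), h.zz_cj hK, BB_cj]

/-- odd order: the values of `bb` -/
theorem not_dvd_bb (h : Hyp Om) (hK : K ∈ Om) (hF : Odd (Fintype.card F))
    (e : Matrix.SpecialLinearGroup (Fin 2) F ≃* K) : ¬ 2 ∣ Nat.card (bb (Fintype.card F) K) := by
  have hlong := long_of_hyp h hK hF e (root_le e) (card_root e)
  rw [bb_eq h hK hF e (root_le e) (card_root e)]
  intro h1
  have h2 : BB K (root e) (zz K) ≤ core (root e) :=
    inf_le_left.trans (sup_le hlong.X_le_core (inf_le_left.trans hlong.QX_le_core))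
  have h3 := odd_core (root e)
  rw [← Nat.not_even_iff_odd] at h3
  exact h3 (even_iff_two_dvd.2 (h1.trans (card_dvd_of_le h2)))

end

end Cfsg.Agent.Cit.GoodOf
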