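import Cfsg.Agent.Cit.CorOf
import Cfsg.Agent.Cit.ExConst
import Cfsg.Agent.Cit.GoodOf
import Cfsg.Agent.Cit.CoresComm

/-!
# Local facts for (EX) (project CIT)

`LB Om` : `Hyp`, types, trivial cores, and (C) + THEOREM T at all involutions `zz K`, `K ∈ Om`.

* `cm_of_bar` : members in `H` whose images in `H / O(H)` commute, commute;
* `LB.PT_self` : the piece of `K` in `C(zz K)` is `K`; `LB.eq_or_cm` : `J ≤ C(zz K)` implies `J = K` or `[J, K] = 1`;
* `LB.sg_symm` : `K` is a single piece of `C(zz N)` iff `N` is a single piece of `C(zz K)`;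
* `LB.lk` : good pairs.
-/

set_option autoImplicit false
set_option linter.dupNamespace false
set_option linter.style.haveILetI false
set_option linter.unusedSectionVars false

namespace Cfsg.Agent.Cit.ExLocal

open Subgroup Cfsg Relation Cfsg.Agent.Cit.UseT Cfsg.Agent.Cit.PieceLift Cfsg.Agent.Cit.PieceG
open Cfsg.Agent.Cit.TypeDet Cfsg.Agent.Cit.GoodOf
open scoped commutatorElement

variable {G : Type*} [Group G] [Finite G] {Om : Set (Subgroup G)}

/-- `O(K) = 1` gives `OO`-free commuting: members in `H` whose images commute, commute -/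
theorem cm_of_bar {H J J' : Subgroup G} (C : CorG Om H) (hJ : J ∈ Om) (hJ' : J' ∈ Om) (tJ : Ty J) (tJ' : Ty J')
    (oJ : OO J = ⊥) (oJ' : OO J' = ⊥) (hJH : J ≤ H) (hJH' : J' ≤ H)
    (hc : bar H J ≤ centralizer (bar H J' : Set (HQ H))) : cm J J' := by
  have h := C.hyp
  have hne : J ≠ J' := by
    rintro rfl
    exact (fb_hyp h H).not_le_centralizer_self (bar_mem hJ hJH) hc
  have hcomm : ∀ x ∈ J, ∀ y ∈ J', ⁅x, y⁆ ∈ OO H := by
    intro x hx y hy
    have h1 : qm H ⁅(⟨x, hJH hx⟩ : H), ⟨y, hJH' hy⟩⁆ = 1 := by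
      rw [map_commutatorElement, commutatorElement_eq_one_iff_mul_comm]
      exact (mem_centralizer_iff.1 (hc (mem_bar (x := ⟨x, hJH hx⟩) hx)) _
        (mem_bar (x := ⟨y, hJH' hy⟩) hy)).symm
    exact qm_eq_one_iff.1 h1
  obtain ⟨Q, hQ⟩ := Hyp.exists_syl J
  obtain ⟨Q', hQ'⟩ := Hyp.exists_syl J'
  -- `J` commutes with the 2-elements of `J'`
  have key : ∀ x ∈ J, ∀ y ∈ Q', x * y = y * x := by
    intro x hx y hy
    obtain ⟨a, ha⟩ := hQ'.2.1 ⟨y, hy⟩
    refine CorOf.comm_of_odd (odd_OO H) (hcomm x hx y (hQ'.1 hy)) ?_ (a := a) (by simpa using congrArg Subtype.val ha)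
    intro t ht
    exact (mem_centralizer_iff.1 (C.cor J' hJ' hJH' Q' hQ'.1 hQ'.2.1 hy) t ht).symm
  have h2 : IsPGroup 2 (Q ⊔ Q' : Subgroup G) := by
    refine IsPGroup.to_sup_of_normal_right' hQ.2.1 hQ'.2.1 ?_
    intro x hx
    refine centralizer_le_normalizer _ ?_
    rw [mem_centralizer_iff]
    exact fun y hy => (key x (hQ.1 hx) y hy).symm
  haveI : Fact (Nat.Prime 2) := ⟨Nat.prime_two⟩
  have m1 : J ∈ OmS Om (Q ⊔ Q') := mem_OmS_of_le hJ hQ le_sup_left
  have m2 : J' ∈ OmS Om (Q ⊔ Q') := mem_OmS_of_le hJ' hQ' le_sup_right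
  exact CoresComm.comm_of_OmS h h2 m1 m2 hne tJ tJ' oJ oJ'

/-- the local input: (C) and THEOREM T at the involutions of the members, trivial cores -/
structure LB (Om : Set (Subgroup G)) : Prop where
  hyp : Hyp Om
  ty : ∀ K ∈ Om, Ty K
  core : ∀ K ∈ Om, OO K = ⊥
  cor : ∀ K ∈ Om, CorG Om (centralizer {zz K})

/-- `K` is a single piece of `C(zz N)` -/
def Sg (Om : Set (Subgroup G)) (N K : Subgroup G) : Prop :=
  PT Om (centralizer {zz N}) K = bar (centralizer {zz N}) K

namespace LB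

variable (b : LB Om)

include b

/-- images commute iff the members commute -/
theorem cm_iff {H J J' : Subgroup G} (C : CorG Om H) (hJ : J ∈ Om) (hJ' : J' ∈ Om) (hJH : J ≤ H) (hJH' : J' ≤ H) :
    cm (bar H J) (bar H J') ↔ cm J J' := by
  constructor
  · intro h
    exact cm_of_bar C hJ hJ' (b.ty J hJ) (b.ty J' hJ') (b.core J hJ) (b.core J' hJ') hJH hJH'
      (cm_iff_le_centralizer.1 h)
  · rintro h _ ⟨x, hx, rfl⟩ _ ⟨y, hy, rfl⟩
    rw [← map_mul, ← map_mul]
    congr 1
    exact Subtype.ext (h x hx y hy)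

theorem not_cm_self {K : Subgroup G} (hK : K ∈ Om) : ¬ cm K K := fun h =>
  b.hyp.not_le_centralizer_self hK (cm_iff_le_centralizer.1 h)

/-- a piece is a single member or quasisimple, not a member -/
theorem cases {H K : Subgroup G} (C : CorG Om H) (hK : K ∈ Om) (hKH : K ≤ H) :
    PT Om H K = bar H K ∨ PT Om H K ∉ fb Om H := by
  rcases C.pcs.eq_or_quasisimple (fb_hyp b.hyp H) (bar_mem hK hKH) with h | h
  · exact Or.inl h
  · exact Or.inr h.1

/-- non-commuting members are in the same piece -/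
theorem PT_eq_of_not_cm {H J J' : Subgroup G} (C : CorG Om H) (hJ : J ∈ Om) (hJ' : J' ∈ Om) (hJH : J ≤ H)
    (hJH' : J' ≤ H) (hn : ¬ cm J J') : PT Om H J = PT Om H J' := by
  by_contra hne
  have h1 := pc_comm (bar_mem (Om := Om) hJ hJH) (bar_mem hJ' hJH') hne
  apply hn
  rw [← b.cm_iff C hJ hJ' hJH hJH', cm_iff_le_centralizer]
  exact (bar_le_PT.trans h1).trans (centralizer_le bar_le_PT)

/-- **the piece of `K` in `C(zz K)` is `K`** -/
theorem PT_self {K : Subgroup G} (hK : K ∈ Om) : Sg Om K K := by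
  have h := b.hyp
  have C := b.cor K hK
  set H := centralizer {zz K} with hH
  have hKH : K ≤ H := h.le_centralizer hK
  have hf := fb_hyp h H
  rcases C.pcs.eq_or_quasisimple hf (bar_mem hK hKH) with h1 | ⟨h1, h2, -⟩
  · exact h1
  · exfalso
    have h3 : (bar H K).IsSubnormal := (h.sub K hK).map (qm_surjective H)
    have h4 : bar H K ≤ PT Om H K := bar_le_PT
    rcases Lib.ComponentSolvable.quasisimple_subnormal_cases h2 (h3.subgroupOf (K := pc (fb Om H) (bar H K)))
      with h6 | h6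
    rotate_left
    · apply hf.not_le_centralizer_self (bar_mem hK hKH)
      intro x hx y hy
      have h7 := h6 (show (⟨x, h4 hx⟩ : ↥(PT Om H K)) ∈ _ from hx)
      have h8 := mem_center_iff.mp h7 ⟨y, h4 hy⟩
      exact congrArg Subtype.val h8
    · apply h1
      have h7 : PT Om H K = bar H K := by
        apply le_antisymm _ h4
        exact subgroupOf_eq_top.1 h6
      change PT Om H K ∈ fb Om H
      rw [h7]
      exact bar_mem hK hKH

/-- `J ≤ C(zz K)` implies `J = K` or `[J, K] = 1` -/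
theorem eq_or_cm {K J : Subgroup G} (hK : K ∈ Om) (hJ : J ∈ Om) (hJK : J ≤ centralizer {zz K}) :
    J = K ∨ cm J K := by
  by_contra hcon
  push Not at hcon
  have h := b.hyp
  have C := b.cor K hK
  have hKH : K ≤ centralizer {zz K} := h.le_centralizer hK
  have h1 := b.PT_eq_of_not_cm C hJ hK hJK hKH hcon.2
  have h2 : bar (centralizer {zz K}) J ≤ bar (centralizer {zz K}) K := by
    rw [← b.PT_self hK, ← h1]
    exact bar_le_PT
  exact hcon.1 (eq_of_bar_eq C hJ hK hJK hKH
    ((fb_hyp h _).eq_of_le (bar_mem hJ hJK) (bar_mem hK hKH) h2))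

theorem le_of_cm {K J : Subgroup G} (hK : K ∈ Om) (h : cm J K) : J ≤ centralizer {zz K} := by
  intro x hx
  rw [mem_centralizer_singleton_iff]
  exact h x hx _ (b.hyp.zz_mem hK)

theorem mem_Cen_iff {N J : Subgroup G} (hN : N ∈ Om) :
    J ∈ Red.Cen Om {N} ↔ J ∈ Om ∧ J ≤ centralizer {zz N} ∧ J ≠ N := by
  rw [Red.mem_Cen_single]
  constructor
  · rintro ⟨h1, h2⟩
    exact ⟨h1, b.le_of_cm hN h2, fun e => b.not_cm_self hN (e ▸ h2)⟩
  · rintro ⟨h1, h2, h3⟩
    exact ⟨h1, (b.eq_or_cm hN h1 h2).resolve_left h3⟩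

/-- if `K` is a single piece of `C(zz N)` then all members in `C(zz N)` are `K` or commute with `K` -/
theorem Sg.spec {N K J : Subgroup G} (hN : N ∈ Om) (hK : K ∈ Om) (hKN : K ≤ centralizer {zz N}) (h : Sg Om N K)
    (hJ : J ∈ Om) (hJN : J ≤ centralizer {zz N}) : J = K ∨ cm J K := by
  by_contra hcon
  push Not at hcon
  have C := b.cor N hN
  have h1 := b.PT_eq_of_not_cm C hJ hK hJN hKN hcon.2
  have h2 : bar (centralizer {zz N}) J ≤ bar (centralizer {zz N}) K := by
    have h3 : bar (centralizer {zz N}) K = PT Om (centralizer {zz N}) K := h.symm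
    rw [h3, ← h1]
    exact bar_le_PT
  exact hcon.1 (eq_of_bar_eq C hJ hK hJN hKN
    ((fb_hyp b.hyp _).eq_of_le (bar_mem hJ hJN) (bar_mem hK hKN) h2))

theorem sg_of_forall {N K : Subgroup G} (hN : N ∈ Om) (hK : K ∈ Om) (hKN : K ≤ centralizer {zz N})
    (h : ∀ J ∈ Om, J ≤ centralizer {zz N} → J = K ∨ cm J K) : Sg Om N K := by
  refine pc_eq_self ?_
  intro J' hJ' hne
  obtain ⟨J, hJ, hJN, rfl⟩ := exists_bar hJ'
  rcases h J hJ hJN with h1 | h1
  · exact absurd (by rw [h1]) hne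
  · rw [← cm_iff_le_centralizer, b.cm_iff (b.cor N hN) hJ hK hJN hKN]
    exact h1

/-- **symmetry**: `K` is a single piece of `C(zz N)` iff `N` is a single piece of `C(zz K)` -/
theorem sg_symm (hone : ∀ K ∈ Om, ∀ L ∈ Om, ∃ g, cj g K = L) {N K : Subgroup G} (hN : N ∈ Om) (hK : K ∈ Om)
    (hKN : cm K N) (h : Sg Om N K) : Sg Om K N := by
  have hKN' : K ≤ centralizer {zz N} := b.le_of_cm hN hKN
  have hNK' : N ≤ centralizer {zz K} := b.le_of_cm hK (cm_symm hKN)
  let Nb : Subgroup G → Set (Subgroup G) := fun K => {J | J ∈ Om ∧ J ≤ centralizer {zz K}}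
  have hcard : ∀ K ∈ Om, ∀ L ∈ Om, (Nb K).ncard = (Nb L).ncard := by
    intro K hK L hL
    obtain ⟨g, rfl⟩ := hone K hK L hL
    have h1 : Nb (cj g K) = cj g '' Nb K := by
      ext J
      constructor
      · rintro ⟨h1, h2⟩
        refine ⟨cj g⁻¹ J, ⟨b.hyp.conj J h1 g⁻¹, ?_⟩, cj_cj_inv g J⟩
        rw [b.hyp.zz_cj hK, ← cj_centralizer] at h2
        have h3 := cj_mono g⁻¹ h2
        rwa [cj_inv_cj] at h3
      · rintro ⟨J, ⟨h1, h2⟩, rfl⟩
        refine ⟨b.hyp.conj J h1 g, ?_⟩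
        rw [b.hyp.zz_cj hK, ← cj_centralizer]
        exact cj_mono g h2
    rw [h1, Set.ncard_image_of_injective _ (cj_injective' g)]
  have hsub : Nb N ⊆ Nb K := by
    rintro J ⟨hJ, hJN⟩
    refine ⟨hJ, ?_⟩
    rcases Sg.spec b hN hK hKN' h hJ hJN with h1 | h1
    · rw [h1]; exact b.hyp.le_centralizer hK
    · exact b.le_of_cm hK h1
  have heq : Nb N = Nb K := Set.eq_of_subset_of_ncard_le hsub (hcard K hK N hN).le (Set.toFinite _)
  refine b.sg_of_forall hK hN hNK' fun J hJ hJK => ?_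
  have h1 : J ∈ Nb N := by rw [heq]; exact ⟨hJ, hJK⟩
  exact b.eq_or_cm hN hJ h1.2

/-- a non-trivial chain starts at a non-single piece, and stays in it -/
theorem PT_eq_of_chn {N K M : Subgroup G} (hN : N ∈ Om) (hK : K ∈ Red.Cen Om {N}) (h : chn (Red.Cen Om {N}) K M) :
    PT Om (centralizer {zz N}) K = PT Om (centralizer {zz N}) M ∧ M ∈ Red.Cen Om {N} ∧ (Sg Om N K → M = K) := by
  induction h with
  | refl => exact ⟨rfl, hK, fun _ => rfl⟩
  | @tail J J' h1 h2 ih =>
    obtain ⟨i1, i2, i3⟩ := ih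
    have m1 := (b.mem_Cen_iff hN).1 h2.1
    have m2 := (b.mem_Cen_iff hN).1 h2.2.1
    refine ⟨i1.trans (b.PT_eq_of_not_cm (b.cor N hN) m1.1 m2.1 m1.2.1 m2.2.1 h2.2.2), h2.2.1, fun hs => ?_⟩
    have h3 := i3 hs
    have mK := (b.mem_Cen_iff hN).1 hK
    rcases Sg.spec b hN mK.1 mK.2.1 hs m2.1 m2.2.1 with h4 | h4
    · exact h4
    · exfalso
      rw [h3] at h2
      exact h2.2.2 (cm_symm h4)

/-- **good pairs, left part** -/
theorem lk (hone : ∀ K ∈ Om, ∀ L ∈ Om, ∃ g, cj g K = L) {N K : Subgroup G} (hN : N ∈ Om) (hK : K ∈ Om)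
    (hKN : cm K N) (hns : ¬ Sg Om N K) : Lk Om K (zz N) (PT Om (centralizer {zz K}) N) := by
  have h := b.hyp
  have C := b.cor K hK
  have hNK' : N ≤ centralizer {zz K} := b.le_of_cm hK (cm_symm hKN)
  have hKK : K ≤ centralizer {zz K} := h.le_centralizer hK
  have hns' : ¬ Sg Om K N := fun h1 => hns (b.sg_symm hone hK hN (cm_symm hKN) h1)
  have hnf : PT Om (centralizer {zz K}) N ∉ fb Om (centralizer {zz K}) := (b.cases C hN hNK').resolve_left hns'
  have hqp := qp_PT C hN hNK' hnf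
  have hf := fb_hyp h (centralizer {zz K})
  refine ⟨hK, C, hqp, ?_, zz_mem_DL h hN hNK' bar_le_PT, h.zz_mul hN, ?_⟩
  · intro hle
    by_cases h1 : PT Om (centralizer {zz K}) K = PT Om (centralizer {zz K}) N
    · apply hnf
      rw [← h1, b.PT_self hK]
      exact bar_mem hK hKK
    · have h2 := pc_comm (bar_mem (Om := Om) hK hKK) (bar_mem hN hNK') h1
      exact hf.not_le_centralizer_self (bar_mem hK hKK) ((bar_le_PT.trans h2).trans (centralizer_le hle))
  · by_contra hcon
    push Not at hcon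
    -- the piece centralises `zz N`, in which `N` is subnormal
    set H := centralizer {zz K} with hH
    set D := PT Om H N with hD
    have hNb : bar H N ∈ fb Om H := bar_mem hN hNK'
    have hz : zz (bar H N) = qm H ⟨zz N, hNK' (h.zz_mem hN)⟩ := by
      rw [bar, zz_map' (h.restr H) (not_dvd_ker H) (subgroupOf_mem_restr hN hNK')]
      congr 1
      apply Subtype.ext
      have h7 := zz_map h (subgroupOf_mem_restr hN hNK')
      rw [h7, map_subgroupOf_eq_of_le hNK']
    have hDz : D ≤ centralizer {zz (bar H N)} := by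
      intro d hd
      obtain ⟨x, hx, rfl⟩ := DL_cover C hqp hd
      rw [mem_centralizer_singleton_iff, hz, ← map_mul, ← map_mul]
      congr 1
      exact Subtype.ext (hcon x hx)
    have h3 := hf.sub _ hNb
    have h4 : bar H N ≤ D := bar_le_PT
    have h5 : ((bar H N).subgroupOf D).IsSubnormal := by
      have h6 : (((bar H N).subgroupOf (centralizer {zz (bar H N)})).comap
          (Subgroup.inclusion hDz)).IsSubnormal := h3.comap _
      have h7 : ((bar H N).subgroupOf (centralizer {zz (bar H N)})).comap (Subgroup.inclusion hDz) =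
          (bar H N).subgroupOf D := by
        ext x
        simp [mem_subgroupOf]
      rwa [h7] at h6
    rcases Lib.ComponentSolvable.quasisimple_subnormal_cases hqp.qs h5 with h6 | h6
    rotate_left
    · apply hf.not_le_centralizer_self hNb
      intro x hx y hy
      have h7 := h6 (show (⟨x, h4 hx⟩ : ↥D) ∈ _ from hx)
      have h8 := mem_center_iff.mp h7 ⟨y, h4 hy⟩
      exact congrArg Subtype.val h8
    · apply hnf
      have h7 : D = bar H N := le_antisymm (subgroupOf_eq_top.1 h6) h4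
      rw [h7]
      exact hNb

end LB

end Cfsg.Agent.Cit.ExLocal
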