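import Cfsg.Agent.Cit.TypeDet.BlkDrv
import Cfsg.Agent.Cit.Four.CorAll
import Cfsg.Agent.Cit.EqCard
import Cfsg.Agent.Cit.Branches

/-!
# `CoreMany` (row Z6), `|Om(S)| ≥ 5`: assembly on the local data modulo cores

`coreMany_of` : `Branches.CoreMany` from

* `OddStmt`, `FixStmt`, `CTStmt` : the odd order theorem, THEOREM FIX, (CT);
* `CorFive` : the cores for `|E(S)| = 4`;
* `CloseStmt` : THEOREM CLOSE; `ConnStmt` : the commuting graph is connected;
* `DrvStmt` : the driver of the type determination modulo cores (`ManyGlue.AllDrv`); `drvStmt_of` : from `KindFact`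
  and `AppStmt` (the frames are connected);
* `DispStmt` : the identification.
-/

set_option autoImplicit false
set_option linter.style.haveILetI false

namespace Cfsg.Agent.Cit.CoreManyB

open Subgroup Cfsg Cfsg.Agent.Cit Cfsg.Agent.Cit.TypeDet Cfsg.Agent.Cit.PieceG CoresG CoresCore
open Cfsg.Agent.Cit.ExLocal Cfsg.Agent.Cit.ExOut Cfsg.Agent.Cit.ManyGlue Cfsg.Agent.Cit.Four

universe u

/-- the commuting graph is connected -/
def Conn {G : Type*} [Group G] (Om : Set (Subgroup G)) : Prop :=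
  ∀ C : Set (Subgroup G), C ⊆ Om → C.Nonempty → (∀ K ∈ C, ∀ L ∈ Om, cm K L → L ∈ C) → C = Om

/-- (C) at `z_K z_L` -/
def CorTwo {G : Type*} [Group G] [Finite G] (Om : Set (Subgroup G)) : Prop :=
  ∀ K ∈ Om, ∀ L ∈ Om, cm K L → zz K ≠ zz L → CorG Om (centralizer {zz K * zz L})

/-- THEOREM CLOSE -/
def CloseStmt : Prop := ∀ (G : Type u) [Group G] [Finite G] (Om : Set (Subgroup G)), MinS Om →
  ∀ S : Sylow 2 G, 4 ≤ Nat.card (ES Om (S : Subgroup G)) → CloseE Om

/-- (CONN) : the commuting graph is connected -/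
def ConnStmt : Prop := ∀ (G : Type u) [Group G] [Finite G] (Om : Set (Subgroup G)), MinS Om →
  ∀ n, 5 ≤ n → Branches.Card Om n → Conn Om

/-- the frames are connected (helper605) -/
def AppStmt : Prop := ∀ (G : Type u) [Group G] [Finite G] (Om : Set (Subgroup G)), MinS Om → LB Om → CorTwo Om →
  Conn Om → ∀ (S : Sylow 2 G) (ι : Type u) [Fintype ι] (K : ι → Subgroup G) (f : IFrm Om K),
    Set.range K = OmS Om (S : Subgroup G) → 5 ≤ Fintype.card ι → ∀ i j, f.data.app i j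

/-- the driver of the type determination -/
def DrvStmt : Prop := ∀ (G : Type u) [Group G] [Finite G] (Om : Set (Subgroup G)), MinS Om → LB Om → CorTwo Om →
  Conn Om → ∀ n, 5 ≤ n → Branches.Card Om n → AllDrv Om

/-- the identification -/
def DispStmt : Prop := ∀ (G : Type u) [Group G] [Finite G] (Om : Set (Subgroup G)), MinS Om → LB Om → CorTwo Om →
  Conn Om → ∀ (p : ℕ) (F : Type) [Field F] [Fintype F], EX Om p F →
  ∀ (S : Sylow 2 G) (ι : Type u) [Fintype ι] (K : ι → Subgroup G) (f : IFrm Om K),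
    Set.range K = OmS Om (S : Subgroup G) → 5 ≤ Fintype.card ι → OutE f →
    ∀ X : ι → SignType → Subgroup G, FrameOf.Dat Om F K X →
      (∀ i (s : SignType), s ≠ 0 → FrameOf.Good p (X i s) (zz (K i))) → HasPieces Om

/-- the driver from the connectedness of the frames -/
theorem drvStmt_of (hKF : KindFact.{u}) (happ : AppStmt.{u}) : DrvStmt.{u} := by
  intro G _ _ Om ms b c2 hC n h5n hc S
  have hone : ∀ K ∈ Om, ∀ L ∈ Om, ∃ g, Cit.cj g K = L := fun K hK L hL => by
    obtain ⟨g, hg⟩ := ms.cls K hK L hL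
    exact ⟨g, hg.symm⟩
  obtain ⟨ι, i1, K, f, hr⟩ := exists_ifrm ((lem_of_lb b).frames b.hyp hone b.core)
    (F := OmS Om (S : Subgroup G)) ⟨S, rfl⟩
  have h5 : 5 ≤ Fintype.card ι := by
    have h1 := hc S
    rw [← hr, ← Set.image_univ, Set.ncard_image_of_injective _ f.inj, Set.ncard_univ,
      Nat.card_eq_fintype_card] at h1
    omega
  exact ⟨ι, i1, K, f, hr, h5, BlkDrv.drv hKF b f (happ G Om ms b c2 hC S ι K f hr h5)⟩

/-- `|E(S)| ≥ 4` unless all `z_K`, `K ∈ Om(S)`, are equal -/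
theorem four_le {G : Type u} [Group G] [Finite G] {Om : Set (Subgroup G)} (h : Hyp Om) (hne : ¬ Branches.AllEq Om) :
    ∃ S : Sylow 2 G, 4 ≤ Nat.card (ES Om (S : Subgroup G)) := by
  rw [Branches.AllEq] at hne
  push Not at hne
  obtain ⟨S, K, hK, L, hL, hz⟩ := hne
  refine ⟨S, ?_⟩
  obtain ⟨k, hk⟩ := card_ES_pow h S.isPGroup'
  have h3 : 3 ≤ Nat.card (ES Om (S : Subgroup G)) := by
    let T : Set G := {1, zz K, zz L}
    have h1 : T ⊆ (ES Om (S : Subgroup G) : Set G) := by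
      rintro x (rfl | rfl | rfl)
      · exact one_mem _
      · exact zz_mem_ES hK
      · exact zz_mem_ES hL
    have h2 : T.ncard = 3 := by
      rw [Set.ncard_eq_three]
      exact ⟨1, zz K, zz L, (h.zz_ne hK.1).symm, (h.zz_ne hL.1).symm, hz, rfl⟩
    rw [← h2]
    exact Set.ncard_le_ncard h1 (Set.toFinite _)
  rw [hk] at h3 ⊢
  rcases Nat.lt_or_ge k 2 with h4 | h4
  · interval_cases k <;> omega
  · calc 4 = 2 ^ 2 := by norm_num
      _ ≤ 2 ^ k := Nat.pow_le_pow_right (by norm_num) h4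

/-- **`CoreMany`** -/
theorem coreMany_of (hodd : OddStmt.{u}) (hfix : FixStmt.{u}) (hct : CTStmt.{u}) (h5 : CorFive.{u})
    (hcl : CloseStmt.{u}) (hconn : ConnStmt.{u}) (hdrv : DrvStmt.{u}) (hdisp : DispStmt.{u}) :
    Branches.CoreMany.{u} := by
  intro G _ _ Om ms n h5n hc
  haveI := ms.simple
  have hone : ∀ K ∈ Om, ∀ L ∈ Om, ∃ g, Cit.cj g K = L := fun K hK L hL => by
    obtain ⟨g, hg⟩ := ms.cls K hK L hL
    exact ⟨g, hg.symm⟩
  obtain ⟨S₀, h4⟩ := four_le ms.hyp (EqCard.not_allEq_many ms hc h5n)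
  have hCl := hcl G Om ms S₀ h4
  have hE : ∀ S : Sylow 2 G, CorB Om (S : Subgroup G) := fun S =>
    corB_of hodd hfix hct h5 ms hCl S (Or.inr ⟨by rw [card_ES_eq ms.hyp S S₀]; exact h4, by rw [hc S]; exact h5n⟩)
  have b : LB Om := ms.lb_of_corB hodd hE
  have c2 : CorTwo Om := ms.cor2_of_corB hE
  have hC : Conn Om := hconn G Om ms n h5n hc
  obtain ⟨p, F, i1, i2, x, hx⟩ := main b hone ms.ne hC (fun X hX => hodd X hX) (hdrv G Om ms b c2 hC n h5n hc)
  obtain ⟨ι, i3, K, f, hr, h6, ho, X, hD, hg⟩ := hx S₀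
  exact hdisp G Om ms b c2 hC p F x S₀ ι K f hr h6 ho X hD hg

end Cfsg.Agent.Cit.CoreManyB
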