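import Cfsg.Agent.Cit.OneComp
import Cfsg.Agent.Cit.CoresClose
import Cfsg.Agent.Lib.NormalAbelian
import Cfsg.Agent.Lib.SylowNormalInf

/-!
# The core `O(C(a))` of the centraliser of an involution in a group with `O(G) = 1` (helper533, bb #8172)

`XX a = O(C(a))` centralises `O_2(G)` and every component moved or centralised by `a`, and normalises every
component (`H1`). For an elementary abelian 2-group `A ∋ a` normalising the component `L` with
`|A : C_A(L)| ≤ 2`, `⁅XX a, A⁆` centralises `L` (`H3`). Reductions of `(TOR)` and `(2B)` of THEOREM F to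
components.
-/

set_option autoImplicit false
set_option linter.style.haveILetI false
set_option linter.unusedSectionVars false

namespace Cfsg.Agent.Cit.CoreTools

open Subgroup Cfsg Cfsg.Agent.Cit Cfsg.Agent.Cit.Comp Cfsg.Agent.Cit.OneComp
open Cfsg.Agent.SignalizersComponents.Components
open scoped commutatorElement

variable {G : Type*} [Group G]

/-! ### General tools -/

theorem coprime_XX [Finite G] (a : G) : (Nat.card (XX a)).Coprime 2 := by
  rw [Nat.coprime_comm]
  exact (Nat.Prime.coprime_iff_not_dvd Nat.prime_two).2 (odd_XX a)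

theorem comm_of_mem_XX {a y : G} (hy : y ∈ XX a) : y * a = a * y :=
  mem_centralizer_singleton_iff.1 (XX_le a hy)

theorem conj_mem_XX {a c y : G} (hc : c * a = a * c) (hy : y ∈ XX a) : c * y * c⁻¹ ∈ XX a :=
  (mem_normalizer_iff.1 (centralizer_le_normalizer_XX a (mem_centralizer_singleton_iff.2 hc)) y).1 hy

/-- a 2-element of `XX a` is trivial -/
theorem eq_one_of_mem_XX [Finite G] {a x : G} (hx : x ∈ XX a) {n : ℕ} (h : x ^ 2 ^ n = 1) : x = 1 := by
  have h1 : orderOf x ∣ Nat.card (XX a) := by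
    rw [← Nat.card_zpowers]
    exact card_dvd_of_le (by rwa [zpowers_le])
  have h2 := Nat.dvd_gcd h1 (orderOf_dvd_of_pow_eq_one h)
  rw [Nat.Coprime.pow_right n (coprime_XX a), Nat.dvd_one, orderOf_eq_one_iff] at h2
  exact h2

/-- `y` lies in the group generated by `y * y` if `y ∈ XX a` -/
theorem mem_zpowers_sq [Finite G] {a y : G} (hy : y ∈ XX a) : y ∈ zpowers (y * y) := by
  have h1 : Odd (orderOf y) := by
    rw [← Nat.not_even_iff_odd, even_iff_two_dvd]
    intro h
    refine odd_XX a (h.trans ?_)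
    rw [← Nat.card_zpowers]
    exact card_dvd_of_le (by rwa [zpowers_le])
  obtain ⟨k, hk⟩ := h1
  refine ⟨(k : ℤ) + 1, ?_⟩
  change (y * y) ^ ((k : ℤ) + 1) = y
  have h2 : y ^ (2 * k + 1) = 1 := by rw [← hk, pow_orderOf_eq_one]
  rw [← pow_two, show ((k : ℤ) + 1) = ((k + 1 : ℕ) : ℤ) by push_cast; ring, zpow_natCast, ← pow_mul,
    show 2 * (k + 1) = (2 * k + 1) + 1 by ring, pow_succ, h2, one_mul]

/-- an element acting trivially on `L / Z(L)`, `L` perfect, centralises `L` -/
theorem mem_centralizer_of_commutator {L : Subgroup G} (hL : ⁅L, L⁆ = L) {y : G}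
    (h : ∀ e ∈ L, e⁻¹ * (y * e * y⁻¹) ∈ centralizer (L : Set G)) (h' : ∀ e ∈ L, y * e * y⁻¹ ∈ L) :
    y ∈ centralizer (L : Set G) := by
  have h1 : ⁅L, L⁆ ≤ centralizer {y} := by
    rw [commutator_le]
    intro e he f hf
    rw [mem_centralizer_singleton_iff]
    set c := e⁻¹ * (y * e * y⁻¹) with hc
    set d := f⁻¹ * (y * f * y⁻¹) with hd
    have hce := h e he
    have hdf := h f hf
    have hcL : c ∈ L := L.mul_mem (L.inv_mem he) (h' e he)
    have h2 : y * e * y⁻¹ = e * c := by rw [hc]; group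
    have h3 : y * f * y⁻¹ = f * d := by rw [hd]; group
    have k1 : ∀ l ∈ L, l * c = c * l := fun l hl => mem_centralizer_iff.1 hce l hl
    have k2 : ∀ l ∈ L, l * d = d * l := fun l hl => mem_centralizer_iff.1 hdf l hl
    have h4 : y * ⁅e, f⁆ * y⁻¹ = ⁅e, f⁆ := by
      calc y * ⁅e, f⁆ * y⁻¹ = (y * e * y⁻¹) * (y * f * y⁻¹) * (y * e * y⁻¹)⁻¹ * (y * f * y⁻¹)⁻¹ := by
            rw [commutatorElement_def]; group
        _ = (e * c) * (f * d) * (e * c)⁻¹ * (f * d)⁻¹ := by rw [h2, h3]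
        _ = e * (c * f) * d * c⁻¹ * e⁻¹ * d⁻¹ * f⁻¹ := by group
        _ = e * (f * c) * d * c⁻¹ * e⁻¹ * d⁻¹ * f⁻¹ := by rw [k1 f hf]
        _ = e * f * (c * d) * c⁻¹ * e⁻¹ * d⁻¹ * f⁻¹ := by group
        _ = e * f * (d * c) * c⁻¹ * e⁻¹ * d⁻¹ * f⁻¹ := by rw [k2 c hcL]
        _ = e * f * (d * e⁻¹) * d⁻¹ * f⁻¹ := by group
        _ = e * f * (e⁻¹ * d) * d⁻¹ * f⁻¹ := by rw [k2 e⁻¹ (L.inv_mem he)]
        _ = ⁅e, f⁆ := by rw [commutatorElement_def]; group
    calc ⁅e, f⁆ * y = (y * ⁅e, f⁆ * y⁻¹) * y := by rw [h4]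
      _ = y * ⁅e, f⁆ := by group
  rw [hL] at h1
  rw [mem_centralizer_iff]
  exact fun l hl => mem_centralizer_singleton_iff.1 (h1 hl)

theorem cj_centralizer_set (g : G) (K : Subgroup G) :
    cj g (centralizer (K : Set G)) = centralizer (cj g K : Set G) := by
  ext x
  rw [mem_cj, mem_centralizer_iff, mem_centralizer_iff]
  constructor
  · rintro h _ ⟨k, hk, rfl⟩
    have h1 := h k hk
    change g * k * g⁻¹ * x = x * (g * k * g⁻¹)
    calc g * k * g⁻¹ * x = g * (k * (g⁻¹ * x * g)) * g⁻¹ := by group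
      _ = g * ((g⁻¹ * x * g) * k) * g⁻¹ := by rw [h1]
      _ = x * (g * k * g⁻¹) := by group
  · intro h k hk
    have h1 := h (g * k * g⁻¹) (conj_mem_cj hk)
    calc k * (g⁻¹ * x * g) = g⁻¹ * (g * k * g⁻¹ * x) * g := by group
      _ = g⁻¹ * (x * (g * k * g⁻¹)) * g := by rw [h1]
      _ = g⁻¹ * x * g * k := by group

/-- fixed points of a 2-group in a section -/
theorem exists_mem_not_mem [Finite G] {S L Z : Subgroup G} (hS : IsPGroup 2 S)
    (hSL : S ≤ normalizer (L : Set G)) (hSZ : S ≤ normalizer (Z : Set G)) (hne : ¬ S ⊓ L ≤ Z) :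
    ∃ x, x ∈ S ∧ x ∈ L ∧ x ∉ Z ∧ ∀ s ∈ S, x * s * x⁻¹ * s⁻¹ ∈ Z := by
  haveI : Fact (Nat.Prime 2) := ⟨Nat.prime_two⟩
  haveI hZn : (Z.subgroupOf S).Normal := normal_subgroupOf_of_le_normalizer hSZ
  haveI hLn : (L.subgroupOf S).Normal := normal_subgroupOf_of_le_normalizer hSL
  set f := QuotientGroup.mk' (Z.subgroupOf S) with hf
  have hQ : IsPGroup 2 (↥S ⧸ Z.subgroupOf S) := hS.to_quotient _
  haveI : Group.IsNilpotent (↥S ⧸ Z.subgroupOf S) := hQ.isNilpotent
  haveI : ((L.subgroupOf S).map f).Normal := hLn.map f (QuotientGroup.mk'_surjective _)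
  have h1 : (L.subgroupOf S).map f ≠ ⊥ := by
    intro h
    rw [Subgroup.map_eq_bot_iff, hf, QuotientGroup.ker_mk'] at h
    exact hne fun x hx => h (show (⟨x, hx.1⟩ : S) ∈ L.subgroupOf S from hx.2)
  have h2 := Lib.NormalAbelian.normal_inf_center_ne_bot _ h1
  obtain ⟨w, hw, hw1⟩ := (Subgroup.bot_or_exists_ne_one _).resolve_left h2
  obtain ⟨⟨x, hxL, rfl⟩, hwc⟩ := hw
  refine ⟨x, x.2, hxL, ?_, ?_⟩
  · intro hxZ
    apply hw1
    rw [hf, QuotientGroup.mk'_apply, QuotientGroup.eq_one_iff]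
    exact hxZ
  · intro s hs
    have h3 := mem_center_iff.1 hwc (f ⟨s, hs⟩)
    have h4 : f (x * ⟨s, hs⟩ * x⁻¹ * (⟨s, hs⟩ : S)⁻¹) = 1 := by
      rw [map_mul, map_mul, map_mul, map_inv, map_inv, ← h3]
      group
    rw [hf, QuotientGroup.mk'_apply, QuotientGroup.eq_one_iff] at h4
    exact h4

/-- for a quasisimple group of even order, `|D : Z(D)|` is even -/
theorem two_dvd_index_center {D : Type*} [Group D] [Finite D] (hq : IsQuasisimple D)
    (h2 : 2 ∣ Nat.card D) (P : Sylow 2 D) : ¬ (P : Subgroup D) ≤ center D := by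
  haveI : Fact (Nat.Prime 2) := ⟨Nat.prime_two⟩
  intro hP
  have hN : normalizer ((P : Subgroup D) : Set D) ≤ centralizer ((P : Subgroup D) : Set D) := by
    intro x _
    rw [mem_centralizer_iff]
    intro p hp
    exact (mem_center_iff.1 (hP hp) x).symm
  have hc := MonoidHom.ker_transferSylow_isComplement' P hN
  rcases quasisimple_normal hq _ (MonoidHom.normal_ker (MonoidHom.transferSylow P hN)) with h | h
  · rw [h] at hc
    have h3 := hc.card_mul_card
    rw [card_top] at h3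
    have h4 : 0 < Nat.card D := Nat.card_pos
    have h5 : Nat.card (P : Subgroup D) = 1 := by
      have : Nat.card D * Nat.card (P : Subgroup D) = Nat.card D * 1 := by rw [h3, mul_one]
      exact Nat.eq_of_mul_eq_mul_left h4 this
    have h6 := P.card_eq_multiplicity
    rw [h5] at h6
    have h7 : (Nat.card D).factorization 2 = 0 := by
      by_contra h8
      have : 1 < 2 ^ (Nat.card D).factorization 2 := Nat.one_lt_pow h8 (by norm_num)
      omega
    have h8 := (Nat.prime_two.dvd_iff_one_le_factorization Nat.card_pos.ne').1 h2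
    omega
  · apply quasisimple_center_ne_top hq
    rw [eq_top_iff, ← hc.sup_eq_top]
    exact sup_le h hP

/-! ### (H1) -/

/-- `O(C(a))` centralises `O_2(G)` -/
theorem XX_le_centralizer_pCore [Finite G] {a : G} (ha : a * a = 1) :
    XX a ≤ centralizer (pCore 2 G : Set G) := by
  haveI : Fact (Nat.Prime 2) := ⟨Nat.prime_two⟩
  haveI hPn : (pCore 2 G).Normal := Lib.Cores.pCore_normal 2
  have hP : IsPGroup 2 (pCore 2 G) := Lib.Cores.pCore_isPGroup 2
  refine SolvTwo.le_cent (z := a) ha hP (coprime_XX a) (fun w hw => comm_of_mem_XX hw) ?_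
  intro x hxP hxa w hw
  have h1 : x * w * x⁻¹ * w⁻¹ = 1 := by
    refine SolvTwo.eq_one_of_coprime hP (coprime_XX a) ?_ ?_
    · have h2 := (pCore 2 G).mul_mem hxP (hPn.conj_mem _ ((pCore 2 G).inv_mem hxP) w)
      simpa [mul_assoc] using h2
    · exact (XX a).mul_mem (conj_mem_XX hxa hw) ((XX a).inv_mem hw)
  rw [mul_inv_eq_one, mul_inv_eq_iff_eq_mul] at h1
  exact h1

/-- `O(C(a))` centralises the components of `C(a)` -/
theorem XX_le_centralizer_of_comp [Finite G] (hev : EvQ G) {a : G} {D : Subgroup G}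
    (hD : D ≤ centralizer {a}) (hDc : IsComponent (D.subgroupOf (centralizer {a}))) (hDq : IsQuasisimple D) :
    XX a ≤ centralizer (D : Set G) := by
  have hn : (pPrimeCore 2 (centralizer ({a} : Set G))).Normal := Lib.Cores.pPrimeCore_normal 2
  have hXd : XX a = (pPrimeCore 2 (centralizer ({a} : Set G))).map (centralizer ({a} : Set G)).subtype := rfl
  rcases component_le_or_commutator_eq_bot hDc hn.isSubnormal with h1 | h1
  · exfalso
    have h2 := Subgroup.map_mono (f := (centralizer ({a} : Set G)).subtype) h1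
    rw [map_subgroupOf_eq_of_le hD, ← hXd] at h2
    exact odd_XX a ((hev D hDq).trans (card_dvd_of_le h2))
  · have h2 := congrArg (Subgroup.map (centralizer ({a} : Set G)).subtype) h1
    rw [map_commutator, map_subgroupOf_eq_of_le hD, Subgroup.map_bot, commutator_comm,
      commutator_eq_bot_iff_le_centralizer] at h2
    exact h2

/-- `O(C(a))` centralises the components centralised by `a` -/
theorem XX_le_centralizer_of_cent [Finite G] (hev : EvQ G) {a : G} {L : Subgroup G} (hL : IsComponent L)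
    (hLa : L ≤ centralizer {a}) : XX a ≤ centralizer (L : Set G) :=
  XX_le_centralizer_of_comp hev hLa (isComponent_subgroupOf hLa hL) hL.2

/-- `O(C(a))` centralises the components moved by `a` -/
theorem XX_le_centralizer_of_moved [Finite G] (hev : EvQ G) {a : G} (ha : a * a = 1) {E : Subgroup G}
    (hE : IsComponent E) (hne : cj a E ≠ E) : XX a ≤ centralizer (E : Set G) := by
  obtain ⟨D, hDz, hDE, hDc, hDq, hD⟩ := exists_diag hE ha hne
  have hYD := XX_le_centralizer_of_comp hev hDz hDc hDq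
  intro k hk
  have hka : k * a = a * k := comm_of_mem_XX hk
  have hcz : ∀ F : Subgroup G, cj k (cj a F) = cj a (cj k F) := by
    intro F; rw [← cj_mul, ← cj_mul, hka]
  have hzz : ∀ F : Subgroup G, cj a (cj a F) = F := by
    intro F; rw [← cj_mul, ha, cj_one]
  have h2 : ∀ d ∈ D, k * d = d * k := fun d hd => (mem_centralizer_iff.1 (hYD hk) d hd).symm
  have hzE := isComponent_cj hE a
  have key : cj k E = E ∨ cj k E = cj a E := by
    by_contra hcon
    rw [not_or] at hcon
    obtain ⟨hc1, hc2⟩ := hcon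
    have hF := isComponent_cj hE k
    have hF' : IsComponent (cj k (cj a E)) := isComponent_cj hzE k
    have hc3 : cj k (cj a E) ≠ E := by
      intro h3
      rw [hcz E] at h3
      apply hc2
      rw [← hzz (cj k E), h3]
    have hc4 : cj k (cj a E) ≠ cj a E := by
      intro h3
      rw [hcz E] at h3
      exact hc1 (cj_inj.1 h3)
    have h3 : ∀ d ∈ D, ∀ x ∈ cj k E ⊔ cj k (cj a E), d * x = x * d := by
      intro d hd x hx
      obtain ⟨a', ha', b, hb, rfl⟩ := mem_sup_comm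
        (fun x hx y hy => comm_of_ne hE hzE (Ne.symm hne) hx hy) (hDE hd)
      obtain ⟨u, hu, w, hw, rfl⟩ := mem_sup_comm
        (fun x hx y hy => comm_of_ne hF hF' (fun h4 => hne (cj_inj.1 h4.symm)) hx hy) hx
      have e1 : a' * u = u * a' := comm_of_ne hE hF (Ne.symm hc1) ha' hu
      have e2 : a' * w = w * a' := comm_of_ne hE hF' (Ne.symm hc3) ha' hw
      have e3 : b * u = u * b := comm_of_ne hzE hF (Ne.symm hc2) hb hu
      have e4 : b * w = w * b := comm_of_ne hzE hF' (Ne.symm hc4) hb hw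
      calc a' * b * (u * w) = a' * (b * u) * w := by group
        _ = (a' * u) * (b * w) := by rw [e3]; group
        _ = u * (a' * w) * b := by rw [e1, e4]; group
        _ = u * w * (a' * b) := by rw [e2]; group
    apply quasisimple_not_isMulCommutative hDq
    refine ⟨⟨fun x y => Subtype.ext ?_⟩⟩
    have h4 : (y : G) ∈ cj k E ⊔ cj k (cj a E) := by
      have h5 : (k * y * k⁻¹ : G) = y := by rw [h2 y y.2]; group
      rw [← h5, ← cj_sup]
      exact conj_mem_cj (hDE y.2)
    exact h3 x x.2 y h4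
  have hkE : cj k E = E := by
    rcases key with h3 | h3
    · exact h3
    · exfalso
      have h4 : k * k ∈ normalizer (E : Set G) := by
        rw [mem_normalizer_iff_cj, cj_mul, h3, hcz E, h3, hzz]
      have h5 : k ∈ normalizer (E : Set G) := (zpowers_le.2 h4) (mem_zpowers_sq hk)
      rw [mem_normalizer_iff_cj, h3] at h5
      exact hne h5
  have hkE' : cj k (cj a E) = cj a E := by rw [hcz, hkE]
  refine mem_centralizer_of_commutator (component_commutator_self hE) ?_ ?_
  · intro e he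
    have h3 : k * (e * (a * e * a⁻¹)) = (e * (a * e * a⁻¹)) * k := h2 _ (hD e he)
    have h4 : e⁻¹ * (k * e * k⁻¹) = (a * e * a⁻¹) * (k * (a * e * a⁻¹) * k⁻¹)⁻¹ := by
      have h5 : (k * e * k⁻¹) * (k * (a * e * a⁻¹) * k⁻¹) = e * (a * e * a⁻¹) := by
        calc (k * e * k⁻¹) * (k * (a * e * a⁻¹) * k⁻¹) = k * (e * (a * e * a⁻¹)) * k⁻¹ := by group
          _ = e * (a * e * a⁻¹) := by rw [h3]; group
      calc e⁻¹ * (k * e * k⁻¹) = e⁻¹ * ((k * e * k⁻¹) * (k * (a * e * a⁻¹) * k⁻¹)) *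
            (k * (a * e * a⁻¹) * k⁻¹)⁻¹ := by group
        _ = (a * e * a⁻¹) * (k * (a * e * a⁻¹) * k⁻¹)⁻¹ := by rw [h5]; group
    have h5 : e⁻¹ * (k * e * k⁻¹) ∈ cj a E := by
      rw [h4]
      refine (cj a E).mul_mem (conj_mem_cj he) ((cj a E).inv_mem ?_)
      have h6 := conj_mem_cj (g := k) (conj_mem_cj (g := a) he)
      rwa [hkE'] at h6
    rw [mem_centralizer_iff]
    exact fun l hl => comm_of_ne hE hzE (Ne.symm hne) hl h5
  · intro e he
    have h3 := conj_mem_cj (g := k) he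
    rwa [hkE] at h3

/-- `Z(L)`, `L` a component, centralises the elements centralising `O_2(G)` -/
theorem comm_of_mem_center [Finite G] (hO : pPrimeCore 2 G = ⊥) {L : Subgroup G} (hL : IsComponent L) {x g : G}
    (hxL : x ∈ L) (hx : x ∈ centralizer (L : Set G)) (hg : g ∈ centralizer (pCore 2 G : Set G)) :
    g * x = x * g := by
  have h1 : x ∈ centralizer (generalizedFittingSubgroup G : Set G) := by
    refine mem_centralizer_genFit hO (fun F hF => ?_) ?_
    · by_cases hne : F = L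
      · rw [hne]; exact hx
      · rw [mem_centralizer_iff]
        exact fun f hf => comm_of_ne hF hL hne hf hxL
    · rw [mem_centralizer_iff]
      intro p hp
      exact mem_centralizer_iff.1 ((component_le_layer hL).trans (layer_le_centralizer_fitting (G := G)) hxL)
        p (Lib.Cores.pCore_le_fittingSubgroup 2 hp)
  exact ((mem_centralizer_iff.1 hg) x (centralizer_genFit_le hO h1)).symm

theorem component_le_centralizer_pCore {L : Subgroup G} [Finite G] (hL : IsComponent L) :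
    L ≤ centralizer (pCore 2 G : Set G) := by
  haveI : Fact (Nat.Prime 2) := ⟨Nat.prime_two⟩
  intro x hx
  rw [mem_centralizer_iff]
  intro p hp
  exact mem_centralizer_iff.1 ((component_le_layer hL).trans (layer_le_centralizer_fitting (G := G)) hx)
    p (Lib.Cores.pCore_le_fittingSubgroup 2 hp)

/-- the elements of `L` centralising `L` lie in `O_2(G)` -/
theorem mem_pCore_of_mem_center [Finite G] (hO : pPrimeCore 2 G = ⊥) {L : Subgroup G} (hL : IsComponent L)
    {x : G} (hxL : x ∈ L) (hx : x ∈ centralizer (L : Set G)) : x ∈ pCore 2 G := by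
  refine centralizer_genFit_le hO (mem_centralizer_genFit hO (fun F hF => ?_)
    (component_le_centralizer_pCore hL hxL))
  by_cases hne : F = L
  · rw [hne]; exact hx
  · rw [mem_centralizer_iff]
    exact fun f hf => comm_of_ne hF hL hne hf hxL

/-- `O(C(a)) = O(C(a) ∩ C(O_2(G)))` -/
theorem XX_eq_OO [Finite G] {a : G} (ha : a * a = 1) :
    XX a = OO (centralizer {a} ⊓ centralizer (pCore 2 G : Set G)) := by
  haveI hPn : (pCore 2 G).Normal := Lib.Cores.pCore_normal 2
  apply le_antisymm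
  · refine le_OO (le_inf (XX_le a) (XX_le_centralizer_pCore ha)) ?_ (odd_XX a)
    exact inf_le_left.trans (centralizer_le_normalizer_XX a)
  · refine le_OO ((OO_le _).trans inf_le_left) ?_ (odd_OO _)
    intro g hg
    rw [mem_normalizer_iff_cj, ← OO_cj, cj_inf]
    have h1 : cj g (centralizer {a}) = centralizer {a} :=
      mem_normalizer_iff_cj.1 (le_normalizer hg)
    have h2 : cj g (centralizer (pCore 2 G : Set G)) = centralizer (pCore 2 G : Set G) := by
      rw [← mem_normalizer_iff_cj, normalizer_eq_top]; trivial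
    rw [h1, h2]

/-- an element `x` of the component `L` with `[x, a] ∈ O_2(G)` normalises `O(C(a))` -/
theorem conj_mem_XX_of_mem [Finite G] {a : G} (ha : a * a = 1) {L : Subgroup G}
    (hL : IsComponent L) {x y : G} (hx : x ∈ L) (hxa : x * a * x⁻¹ * a⁻¹ ∈ pCore 2 G) (hy : y ∈ XX a) :
    x * y * x⁻¹ ∈ XX a := by
  haveI hPn : (pCore 2 G).Normal := Lib.Cores.pCore_normal 2
  have hxP := component_le_centralizer_pCore hL hx
  have key : cj x (centralizer {a} ⊓ centralizer (pCore 2 G : Set G)) ≤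
      centralizer {a} ⊓ centralizer (pCore 2 G : Set G) := by
    rintro _ ⟨g, ⟨hg1, hg2⟩, rfl⟩
    have h2 : x * g * x⁻¹ ∈ centralizer (pCore 2 G : Set G) := mul_mem (mul_mem hxP hg2) (inv_mem hxP)
    refine ⟨?_, h2⟩
    change x * g * x⁻¹ ∈ centralizer {a}
    have h3 := mem_centralizer_singleton_iff.1 hg1
    set c := x * a * x⁻¹ * a⁻¹ with hc
    have hax : a * x * a⁻¹ = c⁻¹ * x := by rw [hc]; group
    have h5 := mem_centralizer_iff.1 h2 c hxa
    have h6 : a * g * a⁻¹ = g := by rw [← h3]; group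
    have h7 : a * (x * g * x⁻¹) * a⁻¹ = x * g * x⁻¹ := by
      calc a * (x * g * x⁻¹) * a⁻¹ = (a * x * a⁻¹) * (a * g * a⁻¹) * (a * x * a⁻¹)⁻¹ := by group
        _ = c⁻¹ * ((x * g * x⁻¹) * c) := by rw [hax, h6]; group
        _ = c⁻¹ * (c * (x * g * x⁻¹)) := by rw [h5]
        _ = x * g * x⁻¹ := by group
    rw [mem_centralizer_singleton_iff]
    calc x * g * x⁻¹ * a = (a * (x * g * x⁻¹) * a⁻¹) * a := by rw [h7]
      _ = a * (x * g * x⁻¹) := by group
  have h1 : cj x (centralizer {a} ⊓ centralizer (pCore 2 G : Set G)) =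
      centralizer {a} ⊓ centralizer (pCore 2 G : Set G) :=
    eq_of_le_of_card_ge key (by rw [card_cj])
  rw [XX_eq_OO ha] at hy ⊢
  have h2 := conj_mem_cj (g := x) hy
  rwa [← OO_cj, h1] at h2

theorem syl_inf_normal [Finite G] {S A B : Subgroup G} (hS : Syl S A) (hB : B ≤ A)
    (hn : A ≤ normalizer (B : Set G)) : Syl (S ⊓ B) B := by
  haveI : Fact (Nat.Prime 2) := ⟨Nat.prime_two⟩
  obtain ⟨P, hP⟩ := hS.exists_sylow
  haveI : (B.subgroupOf A).Normal := (normal_subgroupOf_iff_le_normalizer hB).2 hn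
  have h1 := Lib.SylowNormalInf.not_dvd_relIndex P (B.subgroupOf A)
  rw [hP, relIndex_subgroupOf hB] at h1
  refine ⟨inf_le_right, hS.2.1.to_le inf_le_left, ?_⟩
  rwa [inf_relIndex_right]

/-- there is a 2-element `x ∈ L`, not central in `L`, with `[x, a]` central in `L` -/
theorem exists_almost_fixed [Finite G] (hO : pPrimeCore 2 G = ⊥) (hev : EvQ G) {a : G} (ha : a * a = 1)
    {L : Subgroup G} (hL : IsComponent L) (haL : a ∈ normalizer (L : Set G)) :
    ∃ x ∈ L, x ∉ centralizer (L : Set G) ∧ (∃ n : ℕ, x ^ 2 ^ n = 1) ∧ x * a * x⁻¹ * a⁻¹ ∈ pCore 2 G := by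
  haveI : Fact (Nat.Prime 2) := ⟨Nat.prime_two⟩
  have hpa : IsPGroup 2 (zpowers a) := by
    rintro ⟨x, k, rfl⟩
    refine ⟨1, ?_⟩
    apply Subtype.ext
    change (a ^ k) ^ (2 ^ 1) = 1
    rw [pow_one, ← zpow_natCast, ← zpow_mul, mul_comm, zpow_mul, zpow_natCast, pow_two, ha, one_zpow]
  obtain ⟨S, hS, haS⟩ := exists_syl_ge hpa (zpowers_le.2 haL)
  have haS' : a ∈ S := haS (mem_zpowers a)
  have hSL : Syl (S ⊓ L) L := syl_inf_normal hS le_normalizer le_rfl
  have hLq := hL.2
  have hne : ¬ S ⊓ L ≤ centralizer (L : Set G) := by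
    intro hle
    obtain ⟨P, hP⟩ := hSL.exists_sylow
    refine two_dvd_index_center hLq (hev L hLq) P ?_
    intro x hx
    rw [hP] at hx
    rw [mem_center_iff]
    intro g
    exact Subtype.ext (mem_centralizer_iff.1 (hle hx) g g.2)
  have hSZ : S ≤ normalizer ((centralizer (L : Set G) : Subgroup G) : Set G) := by
    intro s hs
    have hsL := mem_normalizer_iff_cj.1 (hS.1 hs)
    rw [mem_normalizer_iff_cj, cj_centralizer_set, hsL]
  obtain ⟨x, hxS, hxL, hxZ, hx⟩ := exists_mem_not_mem (Z := centralizer (L : Set G)) hS.2.1 hS.1 hSZ hne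
  refine ⟨x, hxL, hxZ, ?_, ?_⟩
  · obtain ⟨n, hn⟩ := hS.2.1 ⟨x, hxS⟩
    exact ⟨n, congrArg Subtype.val hn⟩
  · have h1 := hx a haS'
    refine mem_pCore_of_mem_center hO hL ?_ h1
    have h2 : a * x⁻¹ * a⁻¹ ∈ L := (mem_normalizer_iff.1 haL x⁻¹).1 (L.inv_mem hxL)
    have h3 := L.mul_mem hxL h2
    have h4 : x * (a * x⁻¹ * a⁻¹) = x * a * x⁻¹ * a⁻¹ := by group
    rwa [h4] at h3

/-- **(H1)**: `O(C(a))` normalises every component -/
theorem XX_le_normalizer [Finite G] (hO : pPrimeCore 2 G = ⊥) (hev : EvQ G) {a : G} (ha : a * a = 1)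
    {L : Subgroup G} (hL : IsComponent L) : XX a ≤ normalizer (L : Set G) := by
  by_cases haL : cj a L = L
  · obtain ⟨x, hxL, hxZ, ⟨n, hn⟩, hxa⟩ :=
      exists_almost_fixed hO hev ha hL (mem_normalizer_iff_cj.2 haL)
    intro y hy
    rw [mem_normalizer_iff_cj]
    by_contra hne
    have h1 : x * y * x⁻¹ * y⁻¹ ∈ XX a := (XX a).mul_mem (conj_mem_XX_of_mem ha hL hxL hxa hy)
      ((XX a).inv_mem hy)
    have hyL := isComponent_cj hL y
    have h2 : y * x⁻¹ * y⁻¹ ∈ cj y L := conj_mem_cj (L.inv_mem hxL)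
    have h3 : Commute x (y * x⁻¹ * y⁻¹) := comm_of_ne hL hyL (Ne.symm hne) hxL h2
    have h4 : (x * (y * x⁻¹ * y⁻¹)) ^ 2 ^ n = 1 := by
      rw [h3.mul_pow, hn, one_mul, conj_pow, inv_pow, hn]; group
    have h5 : x * y * x⁻¹ * y⁻¹ = x * (y * x⁻¹ * y⁻¹) := by group
    rw [h5] at h1
    have h6 := eq_one_of_mem_XX h1 h4
    apply hxZ
    have h7 : x ∈ cj y L := by
      have h8 : x = (y * x⁻¹ * y⁻¹)⁻¹ := eq_inv_of_mul_eq_one_left h6
      rw [h8]; exact (cj y L).inv_mem h2
    rw [mem_centralizer_iff]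
    exact fun l hl => comm_of_ne hL hyL (Ne.symm hne) hl h7
  · exact (XX_le_centralizer_of_moved hev ha hL haL).trans (centralizer_le_normalizer (L : Set G))

/-! ### (H3) and the reductions in a group with `O(G) = 1` -/

theorem mem_centralizer_set_iff {L : Subgroup G} {x : G} :
    x ∈ centralizer (L : Set G) ↔ L ≤ centralizer {x} := by
  rw [mem_centralizer_iff]
  constructor
  · intro h l hl
    rw [mem_centralizer_singleton_iff]
    exact h l hl
  · intro h l hl
    exact mem_centralizer_singleton_iff.1 (h hl)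

theorem conj_mem_centralizer {L : Subgroup G} {g c : G} (hg : g ∈ normalizer (L : Set G))
    (hc : c ∈ centralizer (L : Set G)) : g * c * g⁻¹ ∈ centralizer (L : Set G) := by
  have h1 := conj_mem_cj (g := g) hc
  rwa [cj_centralizer_set, mem_normalizer_iff_cj.1 hg] at h1

/-- **(H3)**: if `a ∈ A` normalises the component `L` and `|A : C_A(L)| ≤ 2` then `⁅XX a, A⁆` centralises
`L`. -/
theorem commutator_mem_centralizer [Finite G] (hO : pPrimeCore 2 G = ⊥) (hev : EvQ G) {A : Subgroup G}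
    (hcomm : ∀ x ∈ A, ∀ y ∈ A, x * y = y * x) (hsq : ∀ x ∈ A, x * x = 1) {L : Subgroup G}
    (hL : IsComponent L) (hi : (centralizer (L : Set G)).relIndex A ≤ 2) {a : G} (ha : a ∈ A)
    {y b : G} (hy : y ∈ XX a) (hb : b ∈ A) : y * b * y⁻¹ * b⁻¹ ∈ centralizer (L : Set G) := by
  have hyb : y * b * y⁻¹ * b⁻¹ ∈ XX a := by
    have h1 := (XX a).mul_mem hy (conj_mem_XX (hcomm b hb a ha) ((XX a).inv_mem hy))
    have h2 : y * (b * y⁻¹ * b⁻¹) = y * b * y⁻¹ * b⁻¹ := by group
    rwa [h2] at h1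
  by_cases hmv : cj a L = L
  swap
  · exact XX_le_centralizer_of_moved hev (hsq a ha) hL hmv hyb
  by_cases hac : a ∈ centralizer (L : Set G)
  · exact XX_le_centralizer_of_cent hev hL (mem_centralizer_set_iff.1 hac) hyb
  · by_cases hbc : b ∈ centralizer (L : Set G)
    · have hyL := XX_le_normalizer hO hev (hsq a ha) hL hy
      exact mul_mem (conj_mem_centralizer hyL hbc) (inv_mem hbc)
    · -- `a⁻¹ b` centralises `L`
      have hne1 : (centralizer (L : Set G)).relIndex A ≠ 1 := by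
        rw [Ne, relIndex_eq_one]
        exact fun h => hac (h ha)
      have hne0 : (centralizer (L : Set G)).relIndex A ≠ 0 :=
        index_ne_zero_of_finite (H := (centralizer (L : Set G)).subgroupOf A)
      have h2 : (centralizer (L : Set G)).relIndex A = 2 := by omega
      have hcb : a * b ∈ centralizer (L : Set G) := by
        have h3 : ((centralizer (L : Set G)).subgroupOf A).index = 2 := h2
        have h4 := Subgroup.mul_mem_iff_of_index_two h3 (a := ⟨a, ha⟩) (b := ⟨b, hb⟩)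
        exact h4.2 ⟨fun h => absurd h hac, fun h => absurd h hbc⟩
      have hyL := XX_le_normalizer hO hev (hsq a ha) hL hy
      have haL := mem_normalizer_iff_cj.2 hmv
      have hya : y * a = a * y := comm_of_mem_XX hy
      have haa := hsq a ha
      have h5 : y * b * y⁻¹ * b⁻¹ = a * ((y * (a * b) * y⁻¹) * (a * b)⁻¹) * a⁻¹ := by
        have hai : a⁻¹ = a := inv_eq_of_mul_eq_one_right haa
        calc y * b * y⁻¹ * b⁻¹ = (a * a) * y * b * y⁻¹ * b⁻¹ := by rw [haa, one_mul]
          _ = a * (a * y) * b * y⁻¹ * b⁻¹ := by group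
          _ = a * (y * a) * b * y⁻¹ * b⁻¹ := by rw [hya]
          _ = a * ((y * (a * b) * y⁻¹) * (a * b)⁻¹) * a⁻¹ * (a * a) := by group
          _ = a * ((y * (a * b) * y⁻¹) * (a * b)⁻¹) * a⁻¹ := by rw [haa, mul_one]
      rw [h5]
      exact conj_mem_centralizer haL (mul_mem (conj_mem_centralizer hyL hcb) (inv_mem hcb))

/-- an element of `XX a` centralising all components is trivial -/
theorem eq_one_of_comp [Finite G] (hO : pPrimeCore 2 G = ⊥) {a : G} (ha : a * a = 1) {u : G} (hu : u ∈ XX a)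
    (h : ∀ L : Subgroup G, IsComponent L → u ∈ centralizer (L : Set G)) : u = 1 := by
  have h1 := centralizer_genFit_le hO (mem_centralizer_genFit hO h (XX_le_centralizer_pCore ha hu))
  exact SolvTwo.eq_one_of_coprime (Lib.Cores.pCore_isPGroup 2) (coprime_XX a) h1 hu

/-- **(TOR) in `H`, `O(H) = 1`**: only the components `L` with `|A : C_A(L)| > 2` normalised and not
centralised by `a` matter. -/
theorem comm_of_comp [Finite G] (hO : pPrimeCore 2 G = ⊥) (hev : EvQ G) {A : Subgroup G}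
    (hcomm : ∀ x ∈ A, ∀ y ∈ A, x * y = y * x) (hsq : ∀ x ∈ A, x * x = 1) {a : G} (ha : a ∈ A)
    (hcomp : ∀ L : Subgroup G, IsComponent L → cj a L = L → a ∉ centralizer (L : Set G) →
      2 < (centralizer (L : Set G)).relIndex A → ∀ y ∈ XX a, ∀ b ∈ A,
        y * b * y⁻¹ * b⁻¹ ∈ centralizer (L : Set G)) : ∀ y ∈ XX a, ∀ b ∈ A, y * b = b * y := by
  intro y hy b hb
  have hyb : y * b * y⁻¹ * b⁻¹ ∈ XX a := by
    have h1 := (XX a).mul_mem hy (conj_mem_XX (hcomm b hb a ha) ((XX a).inv_mem hy))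
    have h2 : y * (b * y⁻¹ * b⁻¹) = y * b * y⁻¹ * b⁻¹ := by group
    rwa [h2] at h1
  have h1 : y * b * y⁻¹ * b⁻¹ = 1 := by
    refine eq_one_of_comp hO (hsq a ha) hyb fun L hL => ?_
    by_cases hi : (centralizer (L : Set G)).relIndex A ≤ 2
    · exact commutator_mem_centralizer hO hev hcomm hsq hL hi ha hy hb
    · by_cases hmv : cj a L = L
      · by_cases hac : a ∈ centralizer (L : Set G)
        · exact XX_le_centralizer_of_cent hev hL (mem_centralizer_set_iff.1 hac) hyb
        · exact hcomp L hL hmv hac (by omega) y hy b hb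
      · exact XX_le_centralizer_of_moved hev (hsq a ha) hL hmv hyb
  rw [mul_inv_eq_one, mul_inv_eq_iff_eq_mul] at h1
  exact h1

/-- **(2B) in `H`, `O(H) = 1`**: only the components on which all `b ∈ B#` act nontrivially matter. -/
theorem eq_one_of_forall [Finite G] (hO : pPrimeCore 2 G = ⊥) (hev : EvQ G) {B : Set G}
    (hsq : ∀ x ∈ B, x * x = 1) {b₀ : G} (hb₀ : b₀ ∈ B) {u : G} (hu : ∀ b ∈ B, u ∈ XX b)
    (hcomp : ∀ L : Subgroup G, IsComponent L → (∀ b ∈ B, cj b L = L ∧ b ∉ centralizer (L : Set G)) →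
      u ∈ centralizer (L : Set G)) : u = 1 := by
  refine eq_one_of_comp hO (hsq b₀ hb₀) (hu b₀ hb₀) fun L hL => ?_
  by_cases hall : ∀ b ∈ B, cj b L = L ∧ b ∉ centralizer (L : Set G)
  · exact hcomp L hL hall
  · push Not at hall
    obtain ⟨b, hb, hbL⟩ := hall
    by_cases hmv : cj b L = L
    · exact XX_le_centralizer_of_cent hev hL (mem_centralizer_set_iff.1 (hbL hmv)) (hu b hb)
    · exact XX_le_centralizer_of_moved hev (hsq b hb) hL hmv (hu b hb)

/-! ### Transfer to `H = C(b) / O(C(b))` -/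

/-- elements of `O(C(a)) ∩ M` are mapped into `O(C(f a))` by an epimorphism `f` of `M` with kernel of odd
order -/
theorem map_mem_XX [Finite G] {H : Type*} [Group H] {M : Subgroup G} {f : M →* H}
    (hf : Function.Surjective f) (hker : ¬ 2 ∣ Nat.card f.ker) {a : M} (ha : a * a = 1) {x : M}
    (hx : (x : G) ∈ XX (a : G)) : f x ∈ XX (f a) := by
  haveI : Finite H := Finite.of_surjective f hf
  have hN1 : (XX (a : G)).subgroupOf M ≤ centralizer {a} := by
    intro y hy
    rw [mem_centralizer_singleton_iff]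
    exact Subtype.ext (comm_of_mem_XX (a := (a : G)) (y := (y : G)) hy)
  have hN2 : centralizer {a} ≤ normalizer (((XX (a : G)).subgroupOf M : Subgroup M) : Set M) := by
    intro c hc
    rw [mem_centralizer_singleton_iff] at hc
    have hc' : (c : G) * a = a * c := congrArg Subtype.val hc
    have hc2 := centralizer_le_normalizer_XX (a : G) (mem_centralizer_singleton_iff.2 hc')
    rw [mem_normalizer_iff]
    intro y
    exact mem_normalizer_iff.1 hc2 y
  have h1 : ((XX (a : G)).subgroupOf M).map f ≤ OO (centralizer {f a}) := by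
    rw [← Cit.centralizer_map hf hker ha]
    refine le_OO (Subgroup.map_mono hN1) ?_ ?_
    · rintro _ ⟨c, hc, rfl⟩
      have hc2 := hN2 hc
      rw [mem_normalizer_iff_cj] at hc2 ⊢
      rw [← cj_map, hc2]
    · intro h2
      apply odd_XX (a : G)
      refine h2.trans ((card_map_dvd _ _).trans ?_)
      have h3 := card_comap_dvd_of_injective (XX (a : G)) M.subtype M.subtype_injective
      exact h3
  exact h1 ⟨x, hx, rfl⟩

/-- the subgroup `oddCore (C(b))` maps onto `XX b` -/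
theorem mem_XX_iff {b : G} {x : centralizer ({b} : Set G)} :
    (x : G) ∈ XX b ↔ x ∈ oddCore (centralizer ({b} : Set G)) := by
  rw [XX, OO]
  constructor
  · rintro ⟨y, hy, hyx⟩
    rw [← Subtype.ext (a1 := y) (a2 := x) hyx]
    exact hy
  · exact fun h => ⟨x, h, rfl⟩

section Quot

variable [Finite G] {H : Type*} [Group H] [Finite H] {b : G} {f : centralizer ({b} : Set G) →* H}

theorem pPrimeCore_eq_bot_of_ker (hf : Function.Surjective f)
    (hker : f.ker = oddCore (centralizer ({b} : Set G))) : pPrimeCore 2 H = ⊥ := by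
  haveI : (oddCore (centralizer ({b} : Set G))).Normal := Lib.Cores.pPrimeCore_normal 2
  have e : (centralizer ({b} : Set G) ⧸ oddCore (centralizer ({b} : Set G))) ≃* H :=
    (QuotientGroup.quotientMulEquivOfEq hker.symm).trans (QuotientGroup.quotientKerEquivOfSurjective f hf)
  have h1 := Lib.Cores.map_equiv_pPrimeCore e 2
  rw [← h1]
  have h2 : pPrimeCore 2 (centralizer ({b} : Set G) ⧸ oddCore (centralizer ({b} : Set G))) = ⊥ :=
    Lib.Cores.pPrimeCore_quotient_pPrimeCore 2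
  rw [h2, Subgroup.map_bot]

theorem odd_ker (hker : f.ker = oddCore (centralizer ({b} : Set G))) : ¬ 2 ∣ Nat.card f.ker := by
  have h1 := odd_XX b
  rw [XX, OO, card_map_of_injective (centralizer ({b} : Set G)).subtype_injective] at h1
  rwa [hker]

/-- **(TOR) for `a, b`** from the components of `C(b)/O(C(b))`. -/
theorem tor_of_comp (hf : Function.Surjective f) (hker : f.ker = oddCore (centralizer ({b} : Set G)))
    (hev : EvQ H) {A : Subgroup G} (hcomm : ∀ x ∈ A, ∀ y ∈ A, x * y = y * x) (hsq : ∀ x ∈ A, x * x = 1)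
    (hA : A ≤ centralizer {b}) {a : G} (ha : a ∈ A)
    (hcomp : ∀ L : Subgroup H, IsComponent L → cj (f ⟨a, hA ha⟩) L = L →
      f ⟨a, hA ha⟩ ∉ centralizer (L : Set H) →
      2 < (centralizer (L : Set H)).relIndex ((A.subgroupOf (centralizer {b})).map f) →
      ∀ y ∈ XX (f ⟨a, hA ha⟩), ∀ c ∈ (A.subgroupOf (centralizer {b})).map f,
        y * c * y⁻¹ * c⁻¹ ∈ centralizer (L : Set H)) :
    ⁅XX a ⊓ centralizer {b}, A⁆ ≤ XX b := by
  have hO := pPrimeCore_eq_bot_of_ker hf hker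
  set A' := (A.subgroupOf (centralizer {b})).map f with hA'
  have hcomm' : ∀ x ∈ A', ∀ y ∈ A', x * y = y * x := by
    rintro _ ⟨x, hx, rfl⟩ _ ⟨y, hy, rfl⟩
    have h1 : x * y = y * x := Subtype.ext (hcomm x hx y hy)
    rw [← map_mul, h1, map_mul]
  have hsq' : ∀ x ∈ A', x * x = 1 := by
    rintro _ ⟨x, hx, rfl⟩
    have h1 : x * x = 1 := Subtype.ext (hsq x hx)
    rw [← map_mul, h1, map_one]
  have haA' : f ⟨a, hA ha⟩ ∈ A' := ⟨⟨a, hA ha⟩, ha, rfl⟩
  have key := comm_of_comp hO hev hcomm' hsq' haA' hcomp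
  rw [commutator_le]
  intro x hx c hc
  have h1 : f ⟨x, hx.2⟩ ∈ XX (f ⟨a, hA ha⟩) :=
    map_mem_XX hf (odd_ker hker) (a := ⟨a, hA ha⟩) (Subtype.ext (hsq a ha)) hx.1
  have h2 := key _ h1 (f ⟨c, hA hc⟩) ⟨⟨c, hA hc⟩, hc, rfl⟩
  have h3 : f (⟨x, hx.2⟩ * ⟨c, hA hc⟩ * (⟨x, hx.2⟩ : centralizer ({b} : Set G))⁻¹ *
      (⟨c, hA hc⟩ : centralizer ({b} : Set G))⁻¹) = 1 := by
    rw [map_mul, map_mul, map_mul, map_inv, map_inv, h2]; group
  rw [← MonoidHom.mem_ker, hker, ← mem_XX_iff] at h3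
  exact h3

/-- **(2B) for `B, s`** from the components of `C(s)/O(C(s))` (here `s` is called `b` and the four-group
`B`). -/
theorem two_of_comp (hf : Function.Surjective f) (hker : f.ker = oddCore (centralizer ({b} : Set G)))
    (hev : EvQ H) {A B : Subgroup G} (hsq : ∀ x ∈ A, x * x = 1) (hB : B ≤ A) (hB1 : B ≠ ⊥) (hb : b ∈ A)
    (hA : A ≤ centralizer {b})
    (hcomp : ∀ L : Subgroup H, IsComponent L →
      (∀ c (hc : c ∈ B), c ≠ 1 → cj (f ⟨c, hA (hB hc)⟩) L = L ∧ f ⟨c, hA (hB hc)⟩ ∉ centralizer (L : Set H)) →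
      ∀ u : H, (∀ c (hc : c ∈ A), u * f ⟨c, hA hc⟩ = f ⟨c, hA hc⟩ * u) →
        (∀ c (hc : c ∈ B), c ≠ 1 → u ∈ XX (f ⟨c, hA (hB hc)⟩)) → u ∈ centralizer (L : Set H)) :
    Del B ⊓ centralizer (A : Set G) ≤ XX b := by
  have hO := pPrimeCore_eq_bot_of_ker hf hker
  rintro u ⟨hu, huA⟩
  have hub : u ∈ centralizer ({b} : Set G) :=
    mem_centralizer_singleton_iff.2 (mem_centralizer_iff.1 huA b hb).symm
  have h1 : ∀ c (hc : c ∈ B), c ≠ 1 → f ⟨u, hub⟩ ∈ XX (f ⟨c, hA (hB hc)⟩) := fun c hc hc1 =>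
    map_mem_XX hf (odd_ker hker) (a := ⟨c, hA (hB hc)⟩) (Subtype.ext (hsq c (hB hc))) (Del_le hc hc1 hu)
  have h2 : ∀ c (hc : c ∈ A), f ⟨u, hub⟩ * f ⟨c, hA hc⟩ = f ⟨c, hA hc⟩ * f ⟨u, hub⟩ := by
    intro c hc
    have h3 : (⟨u, hub⟩ : centralizer ({b} : Set G)) * ⟨c, hA hc⟩ = ⟨c, hA hc⟩ * ⟨u, hub⟩ :=
      Subtype.ext (mem_centralizer_iff.1 huA c hc).symm
    rw [← map_mul, h3, map_mul]
  obtain ⟨c₀, hc₀, hc₀1⟩ := B.bot_or_exists_ne_one.resolve_left hB1
  have h3 : f ⟨u, hub⟩ = 1 := by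
    refine eq_one_of_forall hO hev (B := {x | ∃ c, ∃ hc : c ∈ B, c ≠ 1 ∧ x = f ⟨c, hA (hB hc)⟩}) ?_
      (b₀ := f ⟨c₀, hA (hB hc₀)⟩) ⟨c₀, hc₀, hc₀1, rfl⟩ ?_ ?_
    · rintro _ ⟨c, hc, -, rfl⟩
      have h4 : (⟨c, hA (hB hc)⟩ : centralizer ({b} : Set G)) * ⟨c, hA (hB hc)⟩ = 1 :=
        Subtype.ext (hsq c (hB hc))
      rw [← map_mul, h4, map_one]
    · rintro _ ⟨c, hc, hc1, rfl⟩
      exact h1 c hc hc1
    · intro L hL hall
      exact hcomp L hL (fun c hc hc1 => hall _ ⟨c, hc, hc1, rfl⟩) _ h2 h1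
  rw [← MonoidHom.mem_ker, hker, ← mem_XX_iff] at h3
  exact h3

end Quot

end Cfsg.Agent.Cit.CoreTools
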