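import Cfsg.Agent.Cit.PairComm
import Cfsg.Agent.Cit.OneBasic
import Cfsg.Agent.Cit.ThreeQuat

/-!
# LEMMA SWAP

`K ≠ K' = y K y⁻¹` in `Om(S)`, `y * y = 1`, `K` generated by elements of odd order. Then
`x * (y * x * y⁻¹) ∈ ⁅C(y), C(y)⁆` for all `x ∈ K ⊓ S`.
-/

set_option autoImplicit false
set_option linter.style.haveILetI false
set_option linter.unusedSectionVars false

namespace Cfsg.Agent.Cit

open Subgroup Cfsg OneBasic
open scoped commutatorElement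

variable {G : Type*} [Group G]

/-! ### Parity: fixed points in cosets of subgroups of odd order -/

/-- an involution normalising the coset `g N`, `|N|` odd, centralises an element of it -/
theorem exists_fixed_coset [Finite G] {N : Subgroup G} (hN : ¬ 2 ∣ Nat.card N) {y g : G} (hy : y * y = 1)
    (hyN : y ∈ normalizer (N : Set G)) (hg : g⁻¹ * (y * g * y⁻¹) ∈ N) :
    ∃ n ∈ N, y * (g * n) = (g * n) * y := by
  classical
  haveI : Fintype N := Fintype.ofFinite N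
  haveI : Fact (Nat.Prime 2) := ⟨Nat.prime_two⟩
  have hyi : y⁻¹ = y := inv_eq_of_mul_eq_one_right hy
  have hy' : ∀ n ∈ N, y * n * y⁻¹ ∈ N := fun n hn => (mem_normalizer_iff.1 hyN n).1 hn
  let f : N → N := fun n => ⟨g⁻¹ * (y * g * y⁻¹) * (y * n * y⁻¹), N.mul_mem hg (hy' _ n.2)⟩
  have hf : Function.Involutive f := by
    intro n
    apply Subtype.ext
    show g⁻¹ * (y * g * y⁻¹) * (y * (g⁻¹ * (y * g * y⁻¹) * (y * (n : G) * y⁻¹)) * y⁻¹) = n
    have h1 : y⁻¹ * y⁻¹ = 1 := by rw [hyi, hy]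
    calc g⁻¹ * (y * g * y⁻¹) * (y * (g⁻¹ * (y * g * y⁻¹) * (y * (n : G) * y⁻¹)) * y⁻¹)
        = g⁻¹ * (y * y) * g * (n : G) * (y⁻¹ * y⁻¹) := by group
      _ = n := by rw [hy, h1]; group
  obtain ⟨n, hn⟩ : ∃ n, f n = n := by
    have h1 : ¬ 2 ∣ Fintype.card N := by rwa [Nat.card_eq_fintype_card] at hN
    exact Equiv.Perm.exists_fixed_point_of_prime (p := 2) (n := 1) h1 (σ := hf.toPerm f)
      (Equiv.ext fun n => by
        show ((hf.toPerm f) ^ 2 ^ 1) n = n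
        rw [pow_one, pow_two]
        exact hf n)
  refine ⟨n, n.2, ?_⟩
  have h2 : g⁻¹ * (y * g * y⁻¹) * (y * (n : G) * y⁻¹) = n := congrArg Subtype.val hn
  calc y * (g * n) = g * (g⁻¹ * (y * g * y⁻¹) * (y * (n : G) * y⁻¹)) * y := by group
    _ = g * n * y := by rw [h2]

/-! ### 2-elements and commutator subgroups -/

/-- a 2-element congruent modulo `[C,C]` to an element of odd order lies in `[C,C]` -/
theorem mem_commutator_of_mul_odd {C : Subgroup G} {w n : G} (hw : w ∈ C) (hn : n ∈ C)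
    (h2 : ∃ k : ℕ, w ^ 2 ^ k = 1) (hodd : Odd (orderOf n)) (h : w * n ∈ ⁅C, C⁆) : w ∈ ⁅C, C⁆ := by
  have hCC : ⁅C, C⁆ = (commutator C).map C.subtype := by
    rw [commutator_def, map_commutator, ← MonoidHom.range_eq_map, range_subtype]
  rw [hCC] at h ⊢
  obtain ⟨k, hk⟩ := h2
  let φ := Abelianization.of (G := C)
  have h3 : φ ⟨w, hw⟩ * φ ⟨n, hn⟩ = 1 := by
    rw [← map_mul, ← MonoidHom.mem_ker, Abelianization.ker_of]
    obtain ⟨c, hc, hc2⟩ := h
    have h4 : (⟨w, hw⟩ * ⟨n, hn⟩ : C) = c := Subtype.ext hc2.symm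
    rw [h4]
    exact hc
  have h5 : orderOf (φ ⟨w, hw⟩) ∣ 2 ^ k := by
    apply orderOf_dvd_of_pow_eq_one
    rw [← map_pow]
    have h6 : (⟨w, hw⟩ : C) ^ 2 ^ k = 1 := Subtype.ext hk
    rw [h6, map_one]
  have h7 : orderOf (φ ⟨w, hw⟩) ∣ orderOf n := by
    apply orderOf_dvd_of_pow_eq_one
    rw [eq_inv_of_mul_eq_one_left h3, inv_pow, ← map_pow]
    have h6 : (⟨n, hn⟩ : C) ^ orderOf n = 1 := Subtype.ext (pow_orderOf_eq_one n)
    rw [h6, map_one, inv_one]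
  have h8 : orderOf (φ ⟨w, hw⟩) = 1 := by
    have h9 : Nat.Coprime (2 ^ k) (orderOf n) := Nat.Coprime.pow_left k (Nat.coprime_two_left.2 hodd)
    exact Nat.dvd_one.1 (h9 ▸ Nat.dvd_gcd h5 h7)
  rw [orderOf_eq_one_iff, ← MonoidHom.mem_ker, Abelianization.ker_of] at h8
  exact ⟨⟨w, hw⟩, h8, rfl⟩

/-- 2-elements of a group generated by elements of odd order are in its commutator subgroup -/
theorem TyTwo.mem_commutator {A : Subgroup G} (hA : TyTwo A) {x : G} (hx : x ∈ A)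
    (h2 : ∃ k : ℕ, x ^ 2 ^ k = 1) : x ∈ ⁅A, A⁆ := by
  have hAA : ⁅A, A⁆ = (commutator A).map A.subtype := by
    rw [commutator_def, map_commutator, ← MonoidHom.range_eq_map, range_subtype]
  rw [hAA]
  obtain ⟨k, hk⟩ := h2
  let φ := Abelianization.of (G := A)
  -- every element of `A` has odd order modulo the commutator subgroup
  have key : ∀ y, y ∈ closure {c | c ∈ A ∧ Odd (orderOf c)} → ∀ hy : y ∈ A, Odd (orderOf (φ ⟨y, hy⟩)) := by
    have hle : closure {c | c ∈ A ∧ Odd (orderOf c)} ≤ A := (closure_le _).2 fun c hc => hc.1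
    intro y hy
    induction hy using Subgroup.closure_induction with
    | mem c hc =>
      intro hcA
      refine Odd.of_dvd_nat hc.2 ?_
      have h3 := orderOf_map_dvd φ (⟨c, hcA⟩ : A)
      rwa [orderOf_mk] at h3
    | one =>
      intro h1
      have h3 : (⟨1, h1⟩ : A) = 1 := rfl
      rw [h3, map_one, orderOf_one]
      exact odd_one
    | mul a b ha hb iha ihb =>
      intro hab
      have haA := hle ha
      have hbA := hle hb
      have h3 : (⟨a * b, hab⟩ : A) = ⟨a, haA⟩ * ⟨b, hbA⟩ := rfl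
      rw [h3, map_mul]
      refine Odd.of_dvd_nat ((iha haA).mul (ihb hbA)) ?_
      exact (Commute.all _ _).orderOf_mul_dvd_mul_orderOf
    | inv a ha iha =>
      intro haA
      have h3 : (⟨a⁻¹, haA⟩ : A) = ⟨a, hle ha⟩⁻¹ := rfl
      rw [h3, map_inv, orderOf_inv]
      exact iha (hle ha)
  have h3 := key x (hA hx) hx
  have h5 : orderOf (φ ⟨x, hx⟩) ∣ 2 ^ k := by
    apply orderOf_dvd_of_pow_eq_one
    rw [← map_pow]
    have h6 : (⟨x, hx⟩ : A) ^ 2 ^ k = 1 := Subtype.ext hk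
    rw [h6, map_one]
  have h8 : orderOf (φ ⟨x, hx⟩) = 1 :=
    Nat.Coprime.eq_one_of_dvd (Nat.Coprime.pow_right k (Nat.coprime_two_right.2 h3)) h5
  rw [orderOf_eq_one_iff, ← MonoidHom.mem_ker, Abelianization.ker_of] at h8
  exact ⟨⟨x, hx⟩, h8, rfl⟩

/-! ### The diagonal lift -/

/-- Let `N` be a subgroup of odd order normalised by `A` and `y`, `y * y = 1`, such that `A` and `y A y⁻¹` commute
modulo `N`. Then for a 2-element `x` of `⁅A, A⁆` commuting with `y * x * y⁻¹` the product `x * (y * x * y⁻¹)` is in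
`⁅C(y), C(y)⁆`. -/
theorem swap_abs [Finite G] {A N : Subgroup G} {y : G} (hy : y * y = 1) (hN : ¬ 2 ∣ Nat.card N)
    (hAN : A ≤ normalizer (N : Set G)) (hyN : y ∈ normalizer (N : Set G))
    (hc : ∀ a ∈ A, ∀ b ∈ A, ⁅a, y * b * y⁻¹⁆ ∈ N) {x : G} (hx : x ∈ ⁅A, A⁆) (hx2 : ∃ k : ℕ, x ^ 2 ^ k = 1)
    (hxy : x * (y * x * y⁻¹) = (y * x * y⁻¹) * x) :
    x * (y * x * y⁻¹) ∈ ⁅centralizer {y}, centralizer {y}⁆ := by
  have hyi : y⁻¹ = y := inv_eq_of_mul_eq_one_right hy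
  set D := ⁅centralizer {y}, centralizer {y}⁆ with hD
  have hNn : ∀ {g n : G}, g ∈ normalizer (N : Set G) → n ∈ N → g * n * g⁻¹ ∈ N := fun hg hn =>
    (mem_normalizer_iff.1 hg _).1 hn
  have hNn' : ∀ {g n : G}, g ∈ normalizer (N : Set G) → n ∈ N → g⁻¹ * n * g ∈ N := fun {g n} hg hn => by
    have := hNn (inv_mem hg) hn
    rwa [inv_inv] at this
  have hAy : ∀ a ∈ A, y * a * y⁻¹ ∈ normalizer (N : Set G) := fun a ha =>
    mul_mem (mul_mem hyN (hAN ha)) (inv_mem hyN)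
  -- the relation `u ∈ a (y a y⁻¹) N`
  let R : G → G → Prop := fun a u => (a * (y * a * y⁻¹))⁻¹ * u ∈ N
  have hRex : ∀ a ∈ A, ∃ u ∈ centralizer {y}, R a u := by
    intro a ha
    obtain ⟨n, hn, hn2⟩ := exists_fixed_coset hN (g := a * (y * a * y⁻¹)) hy hyN (by
      have h1 : (a * (y * a * y⁻¹))⁻¹ * (y * (a * (y * a * y⁻¹)) * y⁻¹) =
          (y * a * y⁻¹)⁻¹ * a⁻¹ * (y * a * y⁻¹) * a := by
        calc (a * (y * a * y⁻¹))⁻¹ * (y * (a * (y * a * y⁻¹)) * y⁻¹)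
            = (y * a * y⁻¹)⁻¹ * a⁻¹ * (y * a * y⁻¹) * ((y * y) * a * (y⁻¹ * y⁻¹)) := by group
          _ = (y * a * y⁻¹)⁻¹ * a⁻¹ * (y * a * y⁻¹) * a := by
            rw [hy, hyi, hy]; group
      rw [h1]
      have h2 := hc a⁻¹ (inv_mem ha) a⁻¹ (inv_mem ha)
      have h3 : (y * a * y⁻¹)⁻¹ * a⁻¹ * (y * a * y⁻¹) * a = (⁅a⁻¹, y * a⁻¹ * y⁻¹⁆)⁻¹ := by
        rw [commutatorElement_def]; group
      rw [h3]
      exact inv_mem h2)
    refine ⟨a * (y * a * y⁻¹) * n, ?_, ?_⟩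
    · rw [mem_centralizer_singleton_iff]; exact hn2.symm
    · show (a * (y * a * y⁻¹))⁻¹ * (a * (y * a * y⁻¹) * n) ∈ N
      rw [inv_mul_cancel_left]; exact hn
  have hRn : ∀ {a u : G}, a ∈ A → R a u → u ∈ normalizer (N : Set G) := by
    intro a u ha hu
    have h1 : u = a * (y * a * y⁻¹) * ((a * (y * a * y⁻¹))⁻¹ * u) := by group
    rw [h1]
    exact mul_mem (mul_mem (hAN ha) (hAy a ha)) (le_normalizer hu)
  have hRmul : ∀ {a b u v : G}, a ∈ A → b ∈ A → R a u → R b v → R (a * b) (u * v) := by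
    intro a b u v ha hb hu hv
    show (a * b * (y * (a * b) * y⁻¹))⁻¹ * (u * v) ∈ N
    have hu' : (a * (y * a * y⁻¹))⁻¹ * u ∈ N := hu
    have hv' : (b * (y * b * y⁻¹))⁻¹ * v ∈ N := hv
    set n := (a * (y * a * y⁻¹))⁻¹ * u with hn
    set m := (b * (y * b * y⁻¹))⁻¹ * v with hm
    have e1 : u = a * (y * a * y⁻¹) * n := by rw [hn]; group
    have e2 : v = b * (y * b * y⁻¹) * m := by rw [hm]; group
    set a' := y * a * y⁻¹ with ha'
    set b' := y * b * y⁻¹ with hb'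
    have e3 : y * (a * b) * y⁻¹ = a' * b' := by rw [ha', hb']; group
    rw [e3, e1, e2]
    have e4 : (a * b * (a' * b'))⁻¹ * (a * a' * n * (b * b' * m)) =
        (b'⁻¹ * (a'⁻¹ * b⁻¹ * a' * b) * b') * ((b * b')⁻¹ * n * (b * b')) * m := by group
    rw [e4]
    have hb'N : b' ∈ normalizer (N : Set G) := hAy b hb
    refine N.mul_mem (N.mul_mem (hNn' hb'N ?_) (hNn' (mul_mem (hAN hb) hb'N) hu')) hv'
    have h5 := hc b⁻¹ (inv_mem hb) a⁻¹ (inv_mem ha)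
    have h6 : a'⁻¹ * b⁻¹ * a' * b = (⁅b⁻¹, y * a⁻¹ * y⁻¹⁆)⁻¹ := by
      rw [commutatorElement_def, ha']; group
    rw [h6]
    exact inv_mem h5
  have hRinv : ∀ {a u : G}, a ∈ A → R a u → R a⁻¹ u⁻¹ := by
    intro a u ha hu
    -- `R 1 (u * v)` with `v` a lift of `a⁻¹`
    obtain ⟨v, -, hv⟩ := hRex a⁻¹ (inv_mem ha)
    have h1 : R 1 (u * v) := by
      have := hRmul ha (inv_mem ha) hu hv
      rwa [mul_inv_cancel] at this
    have h2 : u * v ∈ N := by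
      have h3 : (1 * (y * 1 * y⁻¹))⁻¹ * (u * v) ∈ N := h1
      have h4 : (1 * (y * 1 * y⁻¹))⁻¹ * (u * v) = u * v := by group
      rwa [h4] at h3
    show (a⁻¹ * (y * a⁻¹ * y⁻¹))⁻¹ * u⁻¹ ∈ N
    have h5 : (a⁻¹ * (y * a⁻¹ * y⁻¹))⁻¹ * u⁻¹ =
        ((a⁻¹ * (y * a⁻¹ * y⁻¹))⁻¹ * v) * (u * v)⁻¹ := by group
    rw [h5]
    exact N.mul_mem hv (inv_mem h2)
  -- commutators
  have key : ∀ x ∈ ⁅A, A⁆, ∃ u ∈ D, R x u := by
    intro x hx
    have hle : ⁅A, A⁆ ≤ A := commutator_le_self A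
    rw [Subgroup.commutator_def] at hx
    induction hx using Subgroup.closure_induction with
    | mem x hx =>
      obtain ⟨a, ha, b, hb, rfl⟩ := hx
      obtain ⟨u, hu, hau⟩ := hRex a ha
      obtain ⟨v, hv, hbv⟩ := hRex b hb
      refine ⟨⁅u, v⁆, commutator_mem_commutator hu hv, ?_⟩
      rw [commutatorElement_def, commutatorElement_def]
      exact hRmul (mul_mem (mul_mem ha hb) (inv_mem ha)) (inv_mem hb)
        (hRmul (mul_mem ha hb) (inv_mem ha) (hRmul ha hb hau hbv) (hRinv ha hau)) (hRinv hb hbv)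
    | one =>
      refine ⟨1, one_mem _, ?_⟩
      show (1 * (y * 1 * y⁻¹))⁻¹ * 1 ∈ N
      have : (1 * (y * 1 * y⁻¹))⁻¹ * 1 = (1 : G) := by group
      rw [this]; exact N.one_mem
    | mul a b ha hb iha ihb =>
      obtain ⟨u, hu, hau⟩ := iha
      obtain ⟨v, hv, hbv⟩ := ihb
      refine ⟨u * v, mul_mem hu hv, hRmul (hle ?_) (hle ?_) hau hbv⟩
      · rw [Subgroup.commutator_def]; exact ha
      · rw [Subgroup.commutator_def]; exact hb
    | inv a ha iha =>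
      obtain ⟨u, hu, hau⟩ := iha
      refine ⟨u⁻¹, inv_mem hu, hRinv (hle ?_) hau⟩
      rw [Subgroup.commutator_def]; exact ha
  obtain ⟨u, hu, hxu⟩ := key x hx
  have hxu' : (x * (y * x * y⁻¹))⁻¹ * u ∈ N := hxu
  have hwC : x * (y * x * y⁻¹) ∈ centralizer {y} := by
    rw [mem_centralizer_singleton_iff]
    have e1 : x * (y * x * y⁻¹) * y = (x * (y * x * y⁻¹)) * y⁻¹ := by rw [hyi]
    calc x * (y * x * y⁻¹) * y = (x * (y * x * y⁻¹)) * y⁻¹ := e1
      _ = ((y * x * y⁻¹) * x) * y⁻¹ := by rw [hxy]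
      _ = y * (x * (y⁻¹ * x * y⁻¹)) := by group
      _ = y * (x * (y * x * y⁻¹)) := by rw [hyi]
  set w := x * (y * x * y⁻¹) with hw
  have huC : u ∈ centralizer {y} := by
    have h1 : D ≤ centralizer {y} := commutator_le_self _
    exact h1 hu
  have hnC : w⁻¹ * u ∈ centralizer {y} := mul_mem (inv_mem hwC) huC
  apply mem_commutator_of_mul_odd hwC hnC
  · obtain ⟨k, hk⟩ := hx2
    refine ⟨k, ?_⟩
    have h1 : Commute x (y * x * y⁻¹) := hxy
    rw [hw, h1.mul_pow, hk, one_mul]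
    have h2 : (y * x * y⁻¹) ^ 2 ^ k = y * x ^ 2 ^ k * y⁻¹ := conj_pow
    rw [h2, hk]; group
  · have h1 : orderOf (w⁻¹ * u) ∣ Nat.card N := by
      have h2 := orderOf_dvd_natCard (⟨w⁻¹ * u, hxu'⟩ : N)
      rwa [orderOf_mk] at h2
    refine Odd.of_dvd_nat ?_ h1
    rwa [← Nat.not_even_iff_odd, even_iff_two_dvd]
  · rw [mul_inv_cancel_left]
    exact hu

/-! ### LEMMA SWAP -/

/-- `TyTwo` passes to `K ⊓ H`, `K ∈ Om[H]` -/
theorem TyTwo.inf_of_cov [Finite G] {Om : Set (Subgroup G)} {K H : Subgroup G} (hT : TyTwo K)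
    (hK : K ∈ SubCent.cov Om H) : TyTwo (K ⊓ H) := by
  set L := closure {c | c ∈ K ⊓ H ∧ Odd (orderOf c)} with hL
  have hLK : L ≤ K ⊓ H := (closure_le _).2 fun c hc => hc.1
  have hoL : ∀ c ∈ K ⊓ H, Odd (orderOf c) → c ∈ L := fun c hc ho => subset_closure ⟨hc, ho⟩
  have hOO : ∀ c ∈ OO K, Odd (orderOf c) := by
    intro c hc
    have h1 := orderOf_dvd_natCard (⟨c, hc⟩ : OO K)
    rw [orderOf_mk] at h1
    refine Odd.of_dvd_nat ?_ h1
    have h2 := odd_OO K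
    rwa [← even_iff_two_dvd, Nat.not_even_iff_odd] at h2
  have hle : K ≤ L ⊔ OO K := by
    refine hT.trans ((closure_le _).2 ?_)
    rintro c ⟨hcK, hc⟩
    obtain ⟨o, ho, x, hx, rfl⟩ := SubCent.exists_mul hK hcK
    refine mul_mem (mem_sup_right ho) (mem_sup_left (hoL x hx ?_))
    -- `x = o⁻¹ c` has odd order
    have h1 : ∀ j : ℕ, (o * x) ^ j * (x ^ j)⁻¹ ∈ OO K := by
      intro j
      induction j with
      | zero => simp
      | succ j ih =>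
        have h2 : (o * x) ^ (j + 1) * (x ^ (j + 1))⁻¹ = o * (x * ((o * x) ^ j * (x ^ j)⁻¹) * x⁻¹) := by
          rw [pow_succ', pow_succ']
          group
        rw [h2]
        exact mul_mem ho (SubCent.conj_mem_OO hx.1 ih)
    have h2 := h1 (orderOf (o * x))
    rw [pow_orderOf_eq_one, one_mul] at h2
    have h3 : x ^ orderOf (o * x) ∈ OO K := by
      have := inv_mem h2
      rwa [inv_inv] at this
    have h4 : orderOf x ∣ orderOf (o * x) * orderOf (x ^ orderOf (o * x)) := by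
      apply orderOf_dvd_of_pow_eq_one
      rw [pow_mul, pow_orderOf_eq_one]
    exact Odd.of_dvd_nat (hc.mul (hOO _ h3)) h4
  intro k hk
  have hLn : L ≤ normalizer (OO K : Set G) := (hLK.trans inf_le_left).trans (le_normalizer_OO K)
  obtain ⟨l, hl, o, ho, rfl⟩ := exists_mul_of_mem_sup hLn (hle hk.1)
  have ho2 : o ∈ K ⊓ H := by
    have h1 := (K ⊓ H).mul_mem (inv_mem (hLK hl)) hk
    rwa [inv_mul_cancel_left] at h1
  exact mul_mem hl (hoL o ho2 (hOO o ho))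

/-- **LEMMA SWAP** -/
theorem Hyp.swap [Finite G] {Om : Set (Subgroup G)} (h : Hyp Om) {S K : Subgroup G} (hS : IsPGroup 2 S)
    (hK : K ∈ OmS Om S) (hT : TyTwo K) {y : G} (hy : y * y = 1) (hK' : cj y K ∈ OmS Om S) (hne : cj y K ≠ K)
    {x : G} (hx : x ∈ K ⊓ S) (hxy : y * x * y⁻¹ ∈ S) :
    x * (y * x * y⁻¹) ∈ ⁅centralizer {y}, centralizer {y}⁆ := by
  have hyi : y⁻¹ = y := inv_eq_of_mul_eq_one_right hy
  set K' := cj y K with hKd
  have hyK' : cj y K' = K := by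
    rw [hKd, ← cj_mul, hy, cj_one]
  set A := K ⊓ centralizer {zz K'} with hA
  set A' := K' ⊓ centralizer {zz K} with hA'
  have hz : y * zz K * y⁻¹ = zz K' := (h.zz_cj hK.1 y).symm
  have hz' : y * zz K' * y⁻¹ = zz K := by rw [← h.zz_cj hK'.1, hyK']
  have hAA : cj y A = A' := by
    rw [hA, hA', cj_inf, cj_centralizer, hz']
  have hAA' : cj y A' = A := by
    rw [← hAA, ← cj_mul, hy, cj_one]
  have hcom := PairComm.commutator_inf_le h hS hK hK' hne.symm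
  rw [← hA, ← hA'] at hcom
  have hAn : A ≤ normalizer (A' : Set G) := by
    intro a ha
    have h1 : a ∈ normalizer (K' : Set G) :=
      PairComm.inf_centralizer_le_normalizer h hS hK hK' hne.symm ha
    have h2 : a ∈ centralizer {zz K} := h.le_centralizer hK.1 ha.1
    rw [mem_normalizer_iff_cj] at h1 ⊢
    rw [hA', cj_inf, h1, mem_normalizer_iff_cj.1 (le_normalizer h2)]
  -- normalisers of characteristic subgroups
  have hOOn : ∀ {B : Subgroup G} {g : G}, g ∈ normalizer (B : Set G) → g ∈ normalizer (OO B : Set G) := by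
    intro B g hg
    rw [mem_normalizer_iff_cj] at hg ⊢
    rw [← OO_cj, hg]
  set N := OO A ⊓ OO A' with hN
  have hAN : A ≤ normalizer (N : Set G) := by
    intro a ha
    rw [mem_normalizer_iff_cj, hN, cj_inf, mem_normalizer_iff_cj.1 (hOOn (le_normalizer ha)),
      mem_normalizer_iff_cj.1 (hOOn (hAn ha))]
  have hyN : y ∈ normalizer (N : Set G) := by
    rw [mem_normalizer_iff_cj, hN, cj_inf, ← OO_cj, ← OO_cj, hAA, hAA', inf_comm]
  have hNo : ¬ 2 ∣ Nat.card N := fun h2 => odd_OO A (h2.trans (card_dvd_of_le inf_le_left))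
  have hcov : K ∈ SubCent.cov Om (centralizer {zz K'}) := PairComm.mem_cov h hS hK hK' hne.symm
  have hTA : TyTwo A := hT.inf_of_cov hcov
  have hxA : x ∈ A := by
    exact ⟨hx.1, mem_centralizer_singleton_iff.2 (h.comm hS hK hK' hne.symm hx (h.zz_mem_inf hS hK'))⟩
  have hx2 : ∃ k : ℕ, x ^ 2 ^ k = 1 := by
    obtain ⟨k, hk⟩ := hS ⟨x, hx.2⟩
    exact ⟨k, congrArg Subtype.val hk⟩
  refine swap_abs hy hNo hAN hyN ?_ (hTA.mem_commutator hxA hx2) hx2 ?_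
  · intro a ha b hb
    apply hcom
    apply commutator_mem_commutator ha
    rw [← hAA]
    exact conj_mem_cj hb
  · exact h.comm hS hK hK' hne.symm hx ⟨conj_mem_cj hx.1, hxy⟩

/-- (A1) for the member `J`: the involution of a quaternion pair in `⁅C, C⁆`, `C ≤ N(J)`, centralises a Sylow
2-subgroup of `J` -/
def AutOne (J : Subgroup G) : Prop :=
  ∀ C ≤ normalizer (J : Set G), ∀ x ∈ ⁅C, C⁆, ∀ y ∈ ⁅C, C⁆, x * x = y * y → x * y * x⁻¹ = y⁻¹ →
    ∃ Q, Syl Q J ∧ ∀ u ∈ Q, (x * x) * u = u * (x * x)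

/-- quaternion pairs in a Sylow 2-subgroup of a member -/
theorem Hyp.exists_pair [Finite G] {Om : Set (Subgroup G)} (h : Hyp Om) {K Q : Subgroup G} (hK : K ∈ Om)
    (hQ : Syl Q K) : ∃ x ∈ Q, ∃ v ∈ Q, x * x = zz K ∧ v * v = zz K ∧ x * v * x⁻¹ = v⁻¹ := by
  obtain ⟨c, v, n, hc⟩ := h.exists_gq hK hQ
  obtain ⟨y, hy, hy4, hyv⟩ := hc.exists_inverting hc.v_mem hc.orderOf_v
  exact ⟨y, hy, v, hc.v_mem, hc.sq_of_four hy hy4, hc.v_sq, hyv⟩

/-- the swap case: `y` is an involution with `C(y) ≤ N(J)` moving `K ∈ Om(S)`, `y ∈ S` -/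
theorem Hyp.sw [Finite G] {Om : Set (Subgroup G)} (h : Hyp Om) {S K J : Subgroup G} (hS : IsPGroup 2 S)
    (hK : K ∈ OmS Om S) (hT : TyTwo K) {y : G} (hy : y * y = 1) (hyS : y ∈ S) (hne : cj y K ≠ K)
    (hyJ : centralizer {y} ≤ normalizer (J : Set G)) (hJ : AutOne J) :
    ∃ Q, Syl Q J ∧ ∀ u ∈ Q, (zz K * zz (cj y K)) * u = u * (zz K * zz (cj y K)) := by
  have hK' : cj y K ∈ OmS Om S := cj_mem_OmS' h.conj (le_normalizer hyS) hK
  obtain ⟨x, hx, v, hv, hxx, hvv, hxv⟩ := h.exists_pair hK.1 (syl_inf hS hK)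
  have hS' : ∀ x ∈ S, y * x * y⁻¹ ∈ S := fun x hx => S.mul_mem (S.mul_mem hyS hx) (S.inv_mem hyS)
  have hcomm : ∀ a ∈ K ⊓ S, ∀ b ∈ K ⊓ S, a * (y * b * y⁻¹) = (y * b * y⁻¹) * a := fun a ha b hb =>
    h.comm hS hK hK' hne.symm ha ⟨conj_mem_cj hb.1, hS' b hb.2⟩
  have hX := h.swap hS hK hT hy hK' hne hx (hS' x hx.2)
  have hV := h.swap hS hK hT hy hK' hne hv (hS' v hv.2)
  have hz : zz (cj y K) = y * zz K * y⁻¹ := h.zz_cj hK.1 y
  have e1 : x * (y * x * y⁻¹) * (x * (y * x * y⁻¹)) = zz K * zz (cj y K) := by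
    calc x * (y * x * y⁻¹) * (x * (y * x * y⁻¹)) = x * ((y * x * y⁻¹) * x) * (y * x * y⁻¹) := by group
      _ = x * (x * (y * x * y⁻¹)) * (y * x * y⁻¹) := by rw [hcomm x hx x hx]
      _ = (x * x) * (y * (x * x) * y⁻¹) := by group
      _ = zz K * zz (cj y K) := by rw [hxx, hz]
  have e2 : v * (y * v * y⁻¹) * (v * (y * v * y⁻¹)) = zz K * zz (cj y K) := by
    calc v * (y * v * y⁻¹) * (v * (y * v * y⁻¹)) = v * ((y * v * y⁻¹) * v) * (y * v * y⁻¹) := by group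
      _ = v * (v * (y * v * y⁻¹)) * (y * v * y⁻¹) := by rw [hcomm v hv v hv]
      _ = (v * v) * (y * (v * v) * y⁻¹) := by group
      _ = zz K * zz (cj y K) := by rw [hvv, hz]
  have e3 : x * (y * x * y⁻¹) * (v * (y * v * y⁻¹)) * (x * (y * x * y⁻¹))⁻¹ = (v * (y * v * y⁻¹))⁻¹ := by
    calc x * (y * x * y⁻¹) * (v * (y * v * y⁻¹)) * (x * (y * x * y⁻¹))⁻¹
        = x * ((y * x * y⁻¹) * v) * ((y * v * y⁻¹) * (y * x⁻¹ * y⁻¹)) * x⁻¹ := by group
      _ = x * (v * (y * x * y⁻¹)) * ((y * v * y⁻¹) * (y * x⁻¹ * y⁻¹)) * x⁻¹ := by rw [hcomm v hv x hx]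
      _ = x * v * ((y * (x * v * x⁻¹) * y⁻¹) * x⁻¹) := by group
      _ = x * v * ((y * v⁻¹ * y⁻¹) * x⁻¹) := by rw [hxv]
      _ = x * v * (x⁻¹ * (y * v⁻¹ * y⁻¹)) := by rw [hcomm x⁻¹ (inv_mem hx) v⁻¹ (inv_mem hv)]
      _ = (x * v * x⁻¹) * (y * v⁻¹ * y⁻¹) := by group
      _ = v⁻¹ * (y * v⁻¹ * y⁻¹) := by rw [hxv]
      _ = (y * v⁻¹ * y⁻¹) * v⁻¹ := hcomm v⁻¹ (inv_mem hv) v⁻¹ (inv_mem hv)
      _ = (v * (y * v * y⁻¹))⁻¹ := by group
  obtain ⟨Q, hQ, hc⟩ := hJ _ hyJ _ hX _ hV (e1.trans e2.symm) e3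
  rw [e1] at hc
  exact ⟨Q, hQ, hc⟩

end Cfsg.Agent.Cit
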