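import Cfsg.Agent.Cit.ThreeConn
import Cfsg.Agent.Cit.Swap
import Cfsg.Agent.Cit.AutOneOf
import Cfsg.Agent.Cit.Trivial
import Cfsg.Agent.Cit.CoreTools

/-!
# The field `fact` of `Tri` is class free

`Pre Om` : HYP, `|Om(S)| = 3`, `zz K₁ * zz K₂ = zz K₃` on `Om(S)`. `Pre.fact`: if `J ≠ J'` are adjacent or equal
to `H` and `zz J`, `zz J'` commute then `zz J * zz J' = zz L` for some `L` adjacent or equal to `H`
(no theorem T, cores allowed). `Pre.tri`: with `IsType` (for `sw`) all of `Tri Om`.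
-/

set_option autoImplicit false
set_option linter.style.haveILetI false
set_option linter.unusedSectionVars false

namespace Cfsg.Agent.Cit.TriFact

open Subgroup Cfsg Relation OneBasic

variable {G : Type*} [Group G]

/-- HYP, `|Om(S)| = 3`, `z₁ z₂ z₃ = 1` -/
structure Pre (Om : Set (Subgroup G)) : Prop where
  hyp : Hyp Om
  three : ∀ S : Sylow 2 G, (OmS Om (S : Subgroup G)).ncard = 3
  mul : ∀ S : Sylow 2 G, ∀ K ∈ OmS Om (S : Subgroup G), ∀ L ∈ OmS Om (S : Subgroup G), K ≠ L →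
    ∃ N ∈ OmS Om (S : Subgroup G), N ≠ K ∧ N ≠ L ∧ zz K * zz L = zz N

/-- a Sylow 2-subgroup of `B` is one of every larger group in which the index is odd -/
theorem syl_trans [Finite G] {P Q A B : Subgroup G} (hP : Syl P A) (hPB : P ≤ B) (hBA : B ≤ A) (hQ : Syl Q B) :
    Syl Q A := by
  refine ⟨hQ.1.trans hBA, hQ.2.1, fun h => ?_⟩
  rw [← relIndex_mul_relIndex Q B A hQ.1 hBA] at h
  rcases (Nat.prime_two.dvd_mul).1 h with h1 | h1
  · exact hQ.2.2 h1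
  · exact hP.2.2 (h1.trans (Dvd.intro_left _ (relIndex_mul_relIndex P B A hPB hBA)))

variable [Finite G] {Om : Set (Subgroup G)}

namespace Pre

theorem inj (t : Pre Om) {K L : Subgroup G} (hK : K ∈ Om) (hL : L ∈ Om) (hz : zz K = zz L) : K = L := by
  obtain ⟨S, hS, -⟩ := t.hyp.exists_sylow hK
  have hL' := t.hyp.mem_OmS_of_zz_eq S hS hL hz.symm
  by_contra hne
  obtain ⟨N, hN, -, -, h1⟩ := t.mul S K hS L hL' hne
  rw [← hz, t.hyp.zz_mul hK] at h1
  exact t.hyp.zz_ne hN.1 h1.symm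

theorem mem_normalizer (t : Pre Om) {K : Subgroup G} (hK : K ∈ Om) {g : G} (hg : g * zz K = zz K * g) :
    g ∈ normalizer (K : Set G) := by
  rw [mem_normalizer_iff_cj]
  apply t.inj (t.hyp.conj K hK g) hK
  rw [t.hyp.zz_cj hK, hg, mul_inv_cancel_right]

theorem cj_eq (t : Pre Om) {K : Subgroup G} (hK : K ∈ Om) {g : G} (hg : g * zz K = zz K * g) : cj g K = K :=
  mem_normalizer_iff_cj.1 (t.mem_normalizer hK hg)

/-- adjacent or equal members have commuting involutions -/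
theorem comm_of_adj (t : Pre Om) {H J : Subgroup G} (h : Adj Om H J) : zz J * zz H = zz H * zz J := by
  obtain ⟨S, hH, hJ⟩ := h
  by_cases hne : H = J
  · rw [hne]
  · exact (t.hyp.comm S.isPGroup' hH hJ hne (t.hyp.zz_mem_inf S.isPGroup' hH)
      (t.hyp.zz_mem_inf S.isPGroup' hJ)).symm

/-- case 1: `zz J'` does not centralise the Sylow 2-subgroup `Q` of `J`, `Q` centralised by `zz H` -/
theorem fact_of_not_cent (t : Pre Om) {H J J' Q : Subgroup G} (hH : H ∈ Om) (hJ : J ∈ Om)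
    (hHJ' : Adj Om H J') (hQ : Syl Q J) (hQH : ∀ x ∈ Q, x * zz H = zz H * x)
    (hn : zz J' ∈ normalizer (Q : Set G)) (hc : ¬ ∀ x ∈ Q, zz J' * x = x * zz J') :
    ∃ L, Adj Om H L ∧ zz J * zz J' = zz L := by
  have hJ' : J' ∈ Om := hHJ'.right
  obtain ⟨c, v, n, hq⟩ := t.hyp.exists_gq hJ hQ
  obtain ⟨w, hw, hw4, hww⟩ := hq.exists_inverted hQ.2.1 hn (t.hyp.zz_mul hJ') hc
  have hwH : cj w⁻¹ H = H := mem_normalizer_iff_cj.1 (inv_mem (t.mem_normalizer hH (hQH w hw)))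
  refine ⟨cj w⁻¹ J', ?_, ?_⟩
  · have h1 := hHJ'.conj t.hyp.conj w⁻¹
    rwa [hwH] at h1
  · rw [t.hyp.zz_cj hJ', inv_inv]
    have h1 : zz J' * w = w⁻¹ * zz J' := by
      rw [← hww]; group
    have h3 : w * w = zz J := hq.sq_of_four hw hw4
    calc zz J * zz J' = (w * w)⁻¹ * zz J' := by rw [h3, t.hyp.zz_inv hJ]
      _ = w⁻¹ * (w⁻¹ * zz J') := by group
      _ = w⁻¹ * (zz J' * w) := by rw [h1]
      _ = w⁻¹ * zz J' * w := by group

/-- a Sylow 2-subgroup of `J` centralised by `zz H` and normalised by `zz J'` -/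
theorem exists_syl (t : Pre Om) {H J J' : Subgroup G} (hHJ : Adj Om H J) (hne : J ≠ H) (hHJ' : Adj Om H J')
    (hc : zz J * zz J' = zz J' * zz J) :
    ∃ Q, Syl Q J ∧ (∀ x ∈ Q, x * zz H = zz H * x) ∧ zz J' ∈ normalizer (Q : Set G) := by
  have hJ' : J' ∈ Om := hHJ'.right
  obtain ⟨S, hHS, hJS⟩ := hHJ
  have hS2 := S.isPGroup'
  set J0 := J ⊓ centralizer {zz H} with hJ0
  have hJ2 : IsPGroup 2 (zpowers (zz J')) := by
    apply IsPGroup.of_card (n := 1)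
    rw [Nat.card_zpowers, t.hyp.orderOf_zz hJ', pow_one]
  have hn1 : zz J' ∈ normalizer (J : Set G) := t.mem_normalizer hJS.1 hc.symm
  have hn0 : zz J' ∈ normalizer (J0 : Set G) := by
    rw [mem_normalizer_iff_cj, hJ0, cj_inf, mem_normalizer_iff_cj.1 hn1, cj_centralizer,
      t.comm_of_adj hHJ', mul_inv_cancel_right]
  obtain ⟨Q, hQ, hnQ⟩ := exists_syl_normalized hJ2 ((zpowers_le).2 hn0)
  have hP : Syl (J ⊓ (S : Subgroup G)) J := syl_inf hS2 hJS
  have hPJ : J ⊓ (S : Subgroup G) ≤ J0 := fun x hx => ⟨hx.1, mem_centralizer_singleton_iff.2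
    (t.hyp.comm hS2 hJS hHS hne hx (t.hyp.zz_mem_inf hS2 hHS))⟩
  refine ⟨Q, syl_trans hP hPJ inf_le_left hQ, fun x hx => ?_, hnQ (mem_zpowers _)⟩
  exact mem_centralizer_singleton_iff.1 (hQ.1 hx).2

/-- an element trivial on `H / O(H)` normalising a 2-subgroup of `H` centralises it -/
theorem cent_of_triv {H Q : Subgroup G} {a : G} (hQ : IsPGroup 2 Q) (hQH : Q ≤ H)
    (ha : a ∈ normalizer (Q : Set G)) (htr : ∀ k ∈ H, a * k * a⁻¹ * k⁻¹ ∈ OO H) {x : G} (hx : x ∈ Q) :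
    x * a = a * x := by
  have h1 : a * x * a⁻¹ * x⁻¹ ∈ Q := Q.mul_mem ((mem_normalizer_iff.1 ha x).1 hx) (Q.inv_mem hx)
  obtain ⟨k, hk⟩ := hQ ⟨_, h1⟩
  have h3 : (a * x * a⁻¹ * x⁻¹) ^ 2 ^ k = 1 := congrArg Subtype.val hk
  have h4 := AutAct.eq_one_of_OO (htr x (hQH hx)) h3
  exact (mul_inv_eq_iff_eq_mul.mp (mul_inv_eq_one.mp h4)).symm

/-- **the field `fact` of `Tri`**, in the strong form -/
theorem fact' (t : Pre Om) {H J J' : Subgroup G} (hHJ : Adj Om H J) (hHJ' : Adj Om H J') (hne : J ≠ J')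
    (hc : zz J * zz J' = zz J' * zz J) : ∃ L, Adj Om H L ∧ zz J * zz J' = zz L := by
  have hH : H ∈ Om := hHJ.left
  have hJ : J ∈ Om := hHJ.right
  have hJ' : J' ∈ Om := hHJ'.right
  have hcJ := t.comm_of_adj hHJ
  have hcJ' := t.comm_of_adj hHJ'
  by_cases h1 : J = H
  · subst h1
    obtain ⟨S, ha, hb⟩ := hHJ'
    obtain ⟨N, hN, -, -, h2⟩ := t.mul S J ha J' hb hne
    exact ⟨N, ⟨S, ha, hN⟩, h2⟩
  by_cases h2 : J' = H
  · subst h2
    obtain ⟨S, ha, hb⟩ := hHJ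
    obtain ⟨N, hN, -, -, h2⟩ := t.mul S J hb J' ha hne
    exact ⟨N, ⟨S, ha, hN⟩, h2⟩
  obtain ⟨Q, hQ, hQH, hQn⟩ := t.exists_syl hHJ h1 hHJ' hc
  obtain ⟨Q', hQ', hQH', hQn'⟩ := t.exists_syl hHJ' h2 hHJ hc.symm
  by_cases h3 : ∀ x ∈ Q, zz J' * x = x * zz J'
  swap
  · exact t.fact_of_not_cent hH hJ hHJ' hQ hQH hQn h3
  by_cases h4 : ∀ x ∈ Q', zz J * x = x * zz J
  swap
  · obtain ⟨L, hL, h5⟩ := t.fact_of_not_cent hH hJ' hHJ hQ' hQH' hQn' h4
    exact ⟨L, hL, by rw [hc, h5]⟩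
  -- a Sylow 2-subgroup of `H` centralised by `zz J` and `zz J'`
  have hA : IsPGroup 2 (zpowers (zz J) ⊔ zpowers (zz J') : Subgroup G) := by
    have hp : ∀ {M : Subgroup G}, M ∈ Om → IsPGroup 2 (zpowers (zz M)) := fun {M} hM =>
      IsPGroup.of_card (n := 1) (by rw [Nat.card_zpowers, t.hyp.orderOf_zz hM, pow_one])
    apply (hp hJ).to_sup_of_normal_right' (hp hJ')
    rw [zpowers_le]
    have h5 : zz J ∈ centralizer (zpowers (zz J') : Set G) := by
      rw [mem_centralizer_iff]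
      rintro _ ⟨k, rfl⟩
      exact ((show Commute (zz J) (zz J') from hc).zpow_right k).eq.symm
    exact centralizer_le_normalizer _ h5
  have hAH : zpowers (zz J) ⊔ zpowers (zz J') ≤ normalizer (H : Set G) :=
    sup_le ((zpowers_le).2 (t.mem_normalizer hH hcJ)) ((zpowers_le).2 (t.mem_normalizer hH hcJ'))
  -- `zz J` is trivial on `H / O(H)`
  have htr : ∀ {M : Subgroup G}, Adj Om H M → M ≠ H → ∀ k ∈ H, zz M * k * (zz M)⁻¹ * k⁻¹ ∈ OO H := by
    intro M hM hMH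
    obtain ⟨S, hHS, hMS⟩ := hM
    refine Trivial.comm_mem_OO t.hyp hH (syl_inf S.isPGroup' hHS) (t.mem_normalizer hH (t.comm_of_adj ⟨S, hHS, hMS⟩))
      (b := 1) (by rw [pow_one, pow_two, t.hyp.zz_mul hMS.1]) fun x hx => ?_
    exact t.hyp.comm S.isPGroup' hMS hHS hMH (t.hyp.zz_mem_inf S.isPGroup' hMS) hx
  obtain ⟨R, hR, hAR⟩ := exists_syl_normalized hA hAH
  have hRJ : ∀ x ∈ R, x * zz J = zz J * x := fun x hx =>
    cent_of_triv hR.2.1 hR.1 (hAR (mem_sup_left (mem_zpowers _))) (htr hHJ h1) hx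
  have hRJ' : ∀ x ∈ R, x * zz J' = zz J' * x := fun x hx =>
    cent_of_triv hR.2.1 hR.1 (hAR (mem_sup_right (mem_zpowers _))) (htr hHJ' h2) hx
  -- the common centraliser
  set C : Subgroup G := centralizer {zz J} ⊓ centralizer {zz J'} ⊓ centralizer {zz H} with hC
  have hmem : ∀ {x : G}, x * zz J = zz J * x → x * zz J' = zz J' * x → x * zz H = zz H * x → x ∈ C :=
    fun ha hb hc => ⟨⟨mem_centralizer_singleton_iff.2 ha, mem_centralizer_singleton_iff.2 hb⟩,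
      mem_centralizer_singleton_iff.2 hc⟩
  have hCJ : C ≤ normalizer (J : Set G) := fun x hx =>
    t.mem_normalizer hJ (mem_centralizer_singleton_iff.1 hx.1.1)
  have hCJ' : C ≤ normalizer (J' : Set G) := fun x hx =>
    t.mem_normalizer hJ' (mem_centralizer_singleton_iff.1 hx.1.2)
  have hCH : C ≤ normalizer (H : Set G) := fun x hx =>
    t.mem_normalizer hH (mem_centralizer_singleton_iff.1 hx.2)
  have hself : ∀ {M P : Subgroup G}, M ∈ Om → P ≤ M → ∀ x ∈ P, x * zz M = zz M * x := fun {M P} hM hP x hx =>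
    mem_centralizer_singleton_iff.1 (t.hyp.le_centralizer hM (hP hx))
  have hQC : Q ≤ C := fun x hx => hmem (hself hJ hQ.1 x hx) (h3 x hx).symm (hQH x hx)
  have hQC' : Q' ≤ C := fun x hx => hmem (h4 x hx).symm (hself hJ' hQ'.1 x hx) (hQH' x hx)
  have hRC : R ≤ C := fun x hx => hmem (hRJ x hx) (hRJ' x hx) (hself hH hR.1 x hx)
  obtain ⟨T, hT⟩ := Hyp.exists_syl C
  obtain ⟨S, hTS, -⟩ := hT.exists_sylow_ge
  have key : ∀ {M P : Subgroup G}, M ∈ Om → Syl P M → P ≤ C → C ≤ normalizer (M : Set G) →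
      M ∈ OmS Om (S : Subgroup G) := by
    intro M P hM hP hPC hCM
    have h5 : Syl (T ⊓ (M ⊓ C)) (M ⊓ C) := by
      apply CoreTools.syl_inf_normal hT inf_le_right
      intro x hx
      rw [mem_normalizer_iff_cj, cj_inf, mem_normalizer_iff_cj.1 (hCM hx), mem_normalizer_iff_cj.1 (le_normalizer hx)]
    exact mem_OmS_of_le hM (syl_trans hP (le_inf hP.1 hPC) inf_le_left h5) (inf_le_left.trans hTS)
  have hJS := key hJ hQ hQC hCJ
  have hJS' := key hJ' hQ' hQC' hCJ'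
  have hHS := key hH hR hRC hCH
  obtain ⟨N, hN, g1, g2, g3⟩ := t.mul S J hJS J' hJS' hne
  refine ⟨N, ⟨S, hHS, hN⟩, g3⟩

/-- the field `fact` of `Tri` -/
theorem fact (t : Pre Om) (H J J' : Subgroup G) (hHJ : Adj Om H J) (hHJ' : Adj Om H J') (hne : J ≠ J')
    (hc : zz J * zz J' = zz J' * zz J) : ∃ L, Adj Om H L ∧ zz J * zz J' * zz L ∈ XX (zz H) := by
  obtain ⟨L, hL, h1⟩ := t.fact' hHJ hHJ' hne hc
  refine ⟨L, hL, ?_⟩
  rw [h1, t.hyp.zz_mul hL.right]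
  exact one_mem _

/-- **`Tri Om` from HYP, `|Om(S)| = 3`, `z₁ z₂ z₃ = 1` and `IsType`** -/
theorem tri (t : Pre Om) (hty : ∀ K ∈ Om, IsType K) : Tri Om where
  hyp := t.hyp
  three := t.three
  mul := t.mul
  sw := fun S J hJ hJS K hK hne =>
    t.hyp.sw S.isPGroup' hK (hty K hK.1).tyTwo (t.hyp.zz_mul hJ) hJS hne
      (fun _ hx => t.mem_normalizer hJ (mem_centralizer_singleton_iff.1 hx)) (AutAct.autOne (hty J hJ))
  fact := t.fact

end Pre

end Cfsg.Agent.Cit.TriFact
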