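import Cfsg.Agent.Cit.Branches
import Cfsg.Agent.Cit.UseT
import Cfsg.Agent.Cit.TriFact
import Cfsg.Agent.Cit.CoresG
import Cfsg.Agent.Cit.CloOne

/-!
# The branch `|Om(S)| = 3` of THEOREM T: assembly

`coreThree` : `Branches.CoreThree` from the inputs

* `AllEqStmt` : `z₁ = z₂ = z₃` is impossible (`Cit/ThreeA.lean`);
* `DisFourStmt`, `DisEightStmt` : the members commuting with `K` generate one piece (mod `O(C(z_K))`);
* `TypeStmt` : this piece has type `C₂`, `A₃` or `A₄`;
* `CritStmt`, `BendStmt` (S1175 and Bender's theorem for simple groups), `ConnStmt` (THEOREM CLOSE, `|E(S)| ≥ 8`);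
* `CoresFourStmt` : the cores for `|E(S)| = 4` (`coresFour` : from `AFourStmt`, `CoresCStmt`, `CoresAStmt`);
* `OddStmt`, `FixStmt`, `CTStmt` (COROLLARY E, `|E(S)| ≥ 8`);
* `IdStmt` : the identification.

Proved here: all `z_i` equal or all different (`three_cases`); `z₁ z₂ z₃ = 1` or `|E(S)| ≥ 8` (`four_or_eight`); the
graph `Adj Om` is connected for `z₁ z₂ z₃ = 1` (helper145, helper587); the cores for `|E(S)| ≥ 8` (helper822).
-/

set_option autoImplicit false
set_option linter.style.haveILetI false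
set_option linter.unusedSectionVars false

namespace Cfsg.Agent.Cit.CoreThree

open Subgroup Cfsg Cfsg.Agent.Nodes.Chart Cfsg.Agent.Cit.UseT Cfsg.Agent.Cit.Branches Cfsg.Agent.Cit.CoresG

universe u

/-! ### Definitions -/

section Defs

variable {G : Type*} [Group G]

/-- different members have different involutions -/
def Inj (Om : Set (Subgroup G)) : Prop := ∀ K ∈ Om, ∀ L ∈ Om, zz K = zz L → K = L

/-- the piece of the trace of `L` in `C(zz K) / O(C(zz K))` -/
noncomputable def PP (Om : Set (Subgroup G)) (K L : Subgroup G) : Subgroup (HQ (centralizer {zz K})) :=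
  pc (fam Om (centralizer {zz K})) (tr (centralizer {zz K}) L)

/-- the other two members of `Om(S)` are in the same piece of `C(zz K) / O(C(zz K))` -/
def Con (Om : Set (Subgroup G)) : Prop := ∀ S : Sylow 2 G, ∀ K ∈ OmS Om (S : Subgroup G),
  ∀ L ∈ OmS Om (S : Subgroup G), ∀ M ∈ OmS Om (S : Subgroup G), K ≠ L → K ≠ M → PP Om K L = PP Om K M

/-- the other two members of `Om(S)` are in different pieces of `C(zz K) / O(C(zz K))` (for one `S`, `K`) -/
def Dis (Om : Set (Subgroup G)) : Prop := ∃ S : Sylow 2 G, ∃ K ∈ OmS Om (S : Subgroup G),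
  ∃ L ∈ OmS Om (S : Subgroup G), ∃ M ∈ OmS Om (S : Subgroup G), K ≠ L ∧ K ≠ M ∧ PP Om K L ≠ PP Om K M

/-- a piece with a chart of type `τ` (all the data of `Piece.chart`) -/
structure TyPiece (Om : Set (Subgroup G)) (D : Subgroup G) (τ : Nodes.Chart.Ty) : Prop where
  nmem : D ∉ Om
  qs : IsQuasisimple D
  two : IsPGroup 2 (center D)
  ex : ∃ (p : ℕ) (c : Chart Om p D), c.IsTy τ ∧ (Fintype.card c.I ≤ 2 → IsLieTypeChar p (↥D ⧸ center D)) ∧
    (∃ (F : Type) (_ : Field F) (_ : Fintype F), CharP F p ∧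
      ∀ r ∈ c.R, Nonempty (Matrix.SpecialLinearGroup (Fin 2) F ≃* ↥(c.Z r ⊔ c.Z (-r)))) ∧
    ((∀ r ∈ c.R, c.Z r = c.X r) ∨ ∃ n, τ = .C n)

/-- the pieces `PP Om K L` have type `τ` -/
def Typed (Om : Set (Subgroup G)) (τ : Nodes.Chart.Ty) : Prop := ∀ S : Sylow 2 G, ∀ K ∈ OmS Om (S : Subgroup G),
  ∀ L ∈ OmS Om (S : Subgroup G), K ≠ L → TyPiece (fam Om (centralizer {zz K})) (PP Om K L) τ

/-- the commuting graph is connected -/
def Conn (Om : Set (Subgroup G)) : Prop := ∀ K ∈ Om, ∀ L ∈ Om, Relation.ReflTransGen (Adj Om) K L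

/-- cores: the 2-subgroups of the members of `Om(S)` centralise `O(C(s))`, `1 ≠ s ∈ E(S)` -/
def CoreE (Om : Set (Subgroup G)) : Prop := ∀ S : Sylow 2 G, ∀ K ∈ OmS Om (S : Subgroup G),
  ∀ s ∈ ES Om (S : Subgroup G), s ≠ 1 → ⁅XX s, K ⊓ (S : Subgroup G)⁆ = ⊥

end Defs

/-! ### The cases -/

section Cases

variable {G : Type*} [Group G] [Finite G] {Om : Set (Subgroup G)}

theorem exists_three (hc : Card Om 3) (S : Sylow 2 G) {K L : Subgroup G} (hK : K ∈ OmS Om (S : Subgroup G))
    (hL : L ∈ OmS Om (S : Subgroup G)) (hne : K ≠ L) :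
    ∃ M, OmS Om (S : Subgroup G) = {K, L, M} ∧ K ≠ M ∧ L ≠ M := by
  obtain ⟨a, b, c, hab, hac, hbc, hE⟩ := Set.ncard_eq_three.1 (hc S)
  have h1 : K ∈ ({a, b, c} : Set (Subgroup G)) := hE ▸ hK
  have h2 : L ∈ ({a, b, c} : Set (Subgroup G)) := hE ▸ hL
  rw [hE]
  simp only [Set.mem_insert_iff, Set.mem_singleton_iff] at h1 h2
  rcases h1 with rfl | rfl | rfl <;> rcases h2 with rfl | rfl | rfl
  · exact (hne rfl).elim
  · exact ⟨c, rfl, hac, hbc⟩
  · exact ⟨b, by ext x; simp only [Set.mem_insert_iff, Set.mem_singleton_iff]; tauto, hab, hbc.symm⟩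
  · exact ⟨c, by ext x; simp only [Set.mem_insert_iff, Set.mem_singleton_iff]; tauto, hbc, hac⟩
  · exact (hne rfl).elim
  · exact ⟨a, by ext x; simp only [Set.mem_insert_iff, Set.mem_singleton_iff]; tauto, hab.symm, hac.symm⟩
  · exact ⟨b, by ext x; simp only [Set.mem_insert_iff, Set.mem_singleton_iff]; tauto, hbc.symm, hab⟩
  · exact ⟨a, by ext x; simp only [Set.mem_insert_iff, Set.mem_singleton_iff]; tauto, hac.symm, hab.symm⟩
  · exact (hne rfl).elim

theorem Card.exists_mem (hc : Card Om 3) (S : Sylow 2 G) : ∃ K ∈ OmS Om (S : Subgroup G),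
    ∃ L ∈ OmS Om (S : Subgroup G), K ≠ L := by
  obtain ⟨a, b, c, hab, hac, hbc, hE⟩ := Set.ncard_eq_three.1 (hc S)
  exact ⟨a, by rw [hE]; simp, b, by rw [hE]; simp, hab⟩

/-- the number of members with the same involution is the same for all members -/
theorem exists_same (h : Hyp Om) (hcls : ∀ K ∈ Om, ∀ J ∈ Om, ∃ g, J = cj g K) {K L M : Subgroup G} (hK : K ∈ Om)
    (hL : L ∈ Om) (hne : K ≠ L) (hz : zz K = zz L) (hM : M ∈ Om) : ∃ N ∈ Om, M ≠ N ∧ zz M = zz N := by
  obtain ⟨g, rfl⟩ := hcls K hK M hM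
  refine ⟨cj g L, h.conj L hL g, fun e => hne (cj_inj.1 e), ?_⟩
  rw [h.zz_cj hK, h.zz_cj hL, hz]

/-- all `z_i` are different or all are equal -/
theorem three_cases (h : Hyp Om) (hcls : ∀ K ∈ Om, ∀ J ∈ Om, ∃ g, J = cj g K) (hc : Card Om 3) :
    Inj Om ∨ AllEq Om := by
  by_contra hcon
  push Not at hcon
  obtain ⟨h1, h2⟩ := hcon
  unfold Inj at h1
  push Not at h1
  obtain ⟨K, hK, L, hL, hz, hne⟩ := h1
  apply h2
  intro S A hA B hB
  by_contra hAB
  have hne' : A ≠ B := fun e => hAB (by rw [e])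
  obtain ⟨M, hE, hAM, hBM⟩ := exists_three hc S hA hB hne'
  have hM : M ∈ OmS Om (S : Subgroup G) := by rw [hE]; simp
  -- `A` and `B` have partners with the same involution
  have key : ∀ {X Y : Subgroup G}, X ∈ OmS Om (S : Subgroup G) → Y ∈ OmS Om (S : Subgroup G) →
      OmS Om (S : Subgroup G) = {X, Y, M} → zz X ≠ zz Y → zz X = zz M := by
    intro X Y hX hY hXY hXYz
    obtain ⟨N, hN, hXN, hz'⟩ := exists_same h hcls hK hL hne hz hX.1
    have hNS := h.mem_OmS_of_zz_eq S hX hN hz'.symm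
    rw [hXY] at hNS
    rcases hNS with rfl | rfl | hNM
    · exact (hXN rfl).elim
    · exact (hXYz hz').elim
    · rw [hz', Set.mem_singleton_iff.1 hNM]
  have h3 := key hA hB hE hAB
  have h4 := key hB hA (by rw [hE, Set.insert_comm]) (Ne.symm hAB)
  exact hAB (h3.trans h4.symm)

theorem con_or_dis : Con Om ∨ Dis Om := by
  by_cases h : Con Om
  · exact Or.inl h
  · right
    unfold Con at h
    push Not at h
    obtain ⟨S, K, hK, L, hL, M, hM, h1, h2, h3⟩ := h
    exact ⟨S, K, hK, L, hL, M, hM, h1, h2, h3⟩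

/-- a four-group -/
theorem exists_four {G : Type*} [Group G] {a b : G} (sa : a * a = 1) (sb : b * b = 1) (cab : a * b = b * a) :
    ∃ V : Subgroup G, ∀ x, x ∈ V ↔ (x = 1 ∨ x = a ∨ x = b ∨ x = a * b) := by
  have f1 : a * (a * b) = b := by rw [← mul_assoc, sa, one_mul]
  have f2 : b * (a * b) = a := by rw [cab, ← mul_assoc, sb, one_mul]
  have f3 : a * b * a = b := by rw [cab, mul_assoc, sa, mul_one]
  have f4 : a * b * b = a := by rw [mul_assoc, sb, mul_one]
  have f5 : a * b * (a * b) = 1 := by rw [mul_assoc, f2, sa]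
  refine ⟨{ carrier := {x | x = 1 ∨ x = a ∨ x = b ∨ x = a * b}
            one_mem' := Or.inl rfl
            mul_mem' := ?_
            inv_mem' := ?_ }, fun x => Iff.rfl⟩
  · rintro x y (rfl | rfl | rfl | rfl) (rfl | rfl | rfl | rfl)
    · exact Or.inl (one_mul 1)
    · exact Or.inr (Or.inl (one_mul _))
    · exact Or.inr (Or.inr (Or.inl (one_mul _)))
    · exact Or.inr (Or.inr (Or.inr (one_mul _)))
    · exact Or.inr (Or.inl (mul_one _))
    · exact Or.inl sa
    · exact Or.inr (Or.inr (Or.inr rfl))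
    · exact Or.inr (Or.inr (Or.inl f1))
    · exact Or.inr (Or.inr (Or.inl (mul_one _)))
    · exact Or.inr (Or.inr (Or.inr cab.symm))
    · exact Or.inl sb
    · exact Or.inr (Or.inl f2)
    · exact Or.inr (Or.inr (Or.inr (mul_one _)))
    · exact Or.inr (Or.inr (Or.inl f3))
    · exact Or.inr (Or.inl f4)
    · exact Or.inl f5
  · rintro x (rfl | rfl | rfl | rfl)
    · exact Or.inl inv_one
    · exact Or.inr (Or.inl (inv_eq_of_mul_eq_one_right sa))
    · exact Or.inr (Or.inr (Or.inl (inv_eq_of_mul_eq_one_right sb)))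
    · exact Or.inr (Or.inr (Or.inr (inv_eq_of_mul_eq_one_right f5)))

/-- `z₁ z₂ z₃ = 1` for every `S`, or `|E(S)| ≥ 8` for every `S` -/
theorem four_or_eight (h : Hyp Om) (hi : Inj Om) (hc : Card Om 3) :
    TriFact.Pre Om ∨ ∀ S : Sylow 2 G, 8 ≤ Nat.card (ES Om (S : Subgroup G)) := by
  classical
  by_cases hmul : ∀ S : Sylow 2 G, ∀ K ∈ OmS Om (S : Subgroup G), ∀ L ∈ OmS Om (S : Subgroup G), K ≠ L →
    ∃ N ∈ OmS Om (S : Subgroup G), N ≠ K ∧ N ≠ L ∧ zz K * zz L = zz N
  · exact Or.inl ⟨h, hc, hmul⟩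
  right
  push Not at hmul
  obtain ⟨S₀, K, hK, L, hL, hKL, h1⟩ := hmul
  have key : 8 ≤ Nat.card (ES Om (S₀ : Subgroup G)) := by
    obtain ⟨M, hE, hKM, hLM⟩ := exists_three hc S₀ hK hL hKL
    have hM : M ∈ OmS Om (S₀ : Subgroup G) := by rw [hE]; simp
    have h2 : zz K * zz L ≠ zz M := h1 M hM hKM.symm hLM.symm
    have hS := S₀.isPGroup'
    have eK := zz_mem_ES hK
    have eL := zz_mem_ES hL
    have eM := zz_mem_ES hM
    have sK := h.zz_mul hK.1
    have sL := h.zz_mul hL.1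
    have sM := h.zz_mul hM.1
    have nK := h.zz_ne hK.1
    have nL := h.zz_ne hL.1
    have nM := h.zz_ne hM.1
    have cKL : zz K * zz L = zz L * zz K := ES_comm h hS eK eL
    have cKM : zz K * zz M = zz M * zz K := ES_comm h hS eK eM
    have cLM : zz L * zz M = zz M * zz L := ES_comm h hS eL eM
    have nKL : zz K ≠ zz L := fun e => hKL (hi K hK.1 L hL.1 e)
    have nKM : zz K ≠ zz M := fun e => hKM (hi K hK.1 M hM.1 e)
    have nLM : zz L ≠ zz M := fun e => hLM (hi L hL.1 M hM.1 e)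
    generalize zz K = a at *
    generalize zz L = b at *
    generalize zz M = c at *
    have ia : a⁻¹ = a := inv_eq_of_mul_eq_one_right sK
    have ib : b⁻¹ = b := inv_eq_of_mul_eq_one_right sL
    have ic : c⁻¹ = c := inv_eq_of_mul_eq_one_right sM
    have e1 : a * b ≠ 1 := fun e => nKL (by rw [← ib]; exact eq_inv_of_mul_eq_one_left e)
    obtain ⟨V, hV⟩ := exists_four sK sL cKL
    have hVE : V ≤ ES Om (S₀ : Subgroup G) := by
      intro x hx
      rcases (hV x).1 hx with rfl | rfl | rfl | rfl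
      exacts [one_mem _, eK, eL, mul_mem eK eL]
    have hcV : c ∉ V := by
      intro hx
      rcases (hV c).1 hx with e | e | e | e
      exacts [nM e, nKM e.symm, nLM e.symm, h2 e.symm]
    have hV4 : 4 ≤ Nat.card V := by
      have h5 : (({1, a, b, a * b} : Finset G) : Set G) ⊆ V := by
        intro x hx
        simp only [Finset.coe_insert, Finset.coe_singleton, Set.mem_insert_iff, Set.mem_singleton_iff] at hx
        exact (hV x).2 hx
      have h6 : ({1, a, b, a * b} : Finset G).card = 4 := by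
        rw [Finset.card_insert_of_notMem, Finset.card_insert_of_notMem, Finset.card_insert_of_notMem,
          Finset.card_singleton]
        · rw [Finset.mem_singleton]
          intro e
          exact nK (by
            calc a = a * b * b⁻¹ := by group
              _ = b * b⁻¹ := by rw [← e]
              _ = 1 := mul_inv_cancel b)
        · simp only [Finset.mem_insert, Finset.mem_singleton, not_or]
          refine ⟨nKL, fun e => nL ?_⟩
          calc b = a⁻¹ * (a * b) := by group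
            _ = a⁻¹ * a := by rw [← e]
            _ = 1 := inv_mul_cancel a
        · simp only [Finset.mem_insert, Finset.mem_singleton, not_or]
          exact ⟨nK.symm, nL.symm, e1.symm⟩
      have h7 := Set.ncard_le_ncard h5 (Set.toFinite _)
      rw [Set.ncard_coe_finset, h6] at h7
      exact h7
    have hd : Nat.card V ∣ Nat.card (ES Om (S₀ : Subgroup G)) := Subgroup.card_dvd_of_le hVE
    obtain ⟨k, hk⟩ := hd
    have hk2 : 2 ≤ k := by
      rcases Nat.lt_or_ge k 2 with h8 | h8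
      · exfalso
        have hpos : 0 < Nat.card (ES Om (S₀ : Subgroup G)) := Nat.card_pos
        interval_cases k
        · omega
        · rw [mul_one] at hk
          exact hcV ((Subgroup.eq_of_le_of_card_ge hVE hk.le).symm ▸ eM)
      · exact h8
    rw [hk]
    calc 8 = 4 * 2 := rfl
      _ ≤ _ := Nat.mul_le_mul hV4 hk2
  intro S
  rw [card_ES h S₀ S]
  exact key

/-- the commuting graph is connected if `z₁ z₂ z₃ = 1` -/
theorem conn_of_pre [IsSimpleGroup G] (t : TriFact.Pre Om) (ty : ∀ K ∈ Om, IsType K)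
    (hcls : ∀ K ∈ Om, ∀ J ∈ Om, ∃ g, J = cj g K) (hc : CloEnd.Crit1175 G)
    (hse : ∀ H : Subgroup G, ¬ Cfsg.IsStronglyEmbedded H) : Conn Om :=
  fun K hK L hL => Tri.connected_of_class (t.tri ty) hc hse
    (fun K hK L hL => by
      obtain ⟨g, hg⟩ := hcls K hK L hL
      exact ⟨g, hg.symm⟩) K hK L hL

theorem not_stronglyEmbedded (h : Hyp Om) (hc : Card Om 3) (hB : CloEnd.Bend G) (H : Subgroup G) :
    ¬ Cfsg.IsStronglyEmbedded H := by
  obtain ⟨S⟩ : Nonempty (Sylow 2 G) := inferInstance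
  obtain ⟨K, hK, L, hL, hne⟩ := Card.exists_mem hc S
  exact (CloOne.two_of_ne h S.isPGroup' hK hL hne).not_stronglyEmbedded hB H

/-- a normal subgroup of odd order is trivial -/
theorem odd_normal [IsSimpleGroup G] (h : Hyp Om) (hne : Om.Nonempty) (N : Subgroup G) (hN : N.Normal)
    (h2 : ¬ 2 ∣ Nat.card N) : N = ⊥ := by
  rcases hN.eq_bot_or_eq_top with h1 | h1
  · exact h1
  · exfalso
    obtain ⟨K, hK⟩ := hne
    apply h2
    rw [h1, card_top, ← h.orderOf_zz hK]
    exact orderOf_dvd_natCard _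

end Cases

/-! ### The inputs -/

/-- S1175 for all simple groups -/
def CritStmt : Prop := ∀ (G : Type u) [Group G] [Finite G] [IsSimpleGroup G], CloEnd.Crit1175 G

/-- Bender's theorem for all simple groups -/
def BendStmt : Prop := ∀ (G : Type u) [Group G] [Finite G] [IsSimpleGroup G], CloEnd.Bend G

/-- `z₁ = z₂ = z₃` is impossible -/
def AllEqStmt : Prop := ∀ (G : Type u) [Group G] [Finite G] (Om : Set (Subgroup G)), MinS Om → Card Om 3 →
  AllEq Om → False

/-- `z₁ z₂ z₃ = 1`, different pieces: impossible -/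
def DisFourStmt : Prop := ∀ (G : Type u) [Group G] [Finite G] (Om : Set (Subgroup G)), MinS Om → TriFact.Pre Om →
  Conn Om → Dis Om → False

/-- `|E(S)| ≥ 8`, different pieces: impossible -/
def DisEightStmt : Prop := ∀ (G : Type u) [Group G] [Finite G] (Om : Set (Subgroup G)), MinS Om → Card Om 3 →
  Inj Om → (∀ S : Sylow 2 G, 8 ≤ Nat.card (ES Om (S : Subgroup G))) → Conn Om → CoreE Om → Dis Om → False

/-- THEOREM CLOSE for `|E(S)| ≥ 8` -/
def ConnStmt : Prop := ∀ (G : Type u) [Group G] [Finite G] (Om : Set (Subgroup G)), MinS Om → Card Om 3 →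
  Inj Om → (∀ S : Sylow 2 G, 8 ≤ Nat.card (ES Om (S : Subgroup G))) → Conn Om

/-- the types -/
def TypeStmt : Prop := ∀ (G : Type u) [Group G] [Finite G] (Om : Set (Subgroup G)), MinS Om → Card Om 3 →
  Inj Om → Con Om → ∃ τ : Nodes.Chart.Ty, (τ = .C 2 ∨ τ = .A 3 ∨ τ = .A 4) ∧ Typed Om τ

/-- type `A₄` is impossible for `z₁ z₂ z₃ = 1` -/
def AFourStmt : Prop := ∀ (G : Type u) [Group G] [Finite G] (Om : Set (Subgroup G)), MinS Om → TriFact.Pre Om →
  Typed Om (.A 4) → False

/-- the cores for `z₁ z₂ z₃ = 1`, type `C₂` -/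
def CoresCStmt : Prop := ∀ (G : Type u) [Group G] [Finite G] (Om : Set (Subgroup G)), MinS Om → TriFact.Pre Om →
  Conn Om → Typed Om (.C 2) → CoreE Om

/-- the cores for `z₁ z₂ z₃ = 1`, type `A₃` -/
def CoresAStmt : Prop := ∀ (G : Type u) [Group G] [Finite G] (Om : Set (Subgroup G)), MinS Om → TriFact.Pre Om →
  Conn Om → Typed Om (.A 3) → CoreE Om

/-- the cores for `z₁ z₂ z₃ = 1` -/
def CoresFourStmt : Prop := ∀ (G : Type u) [Group G] [Finite G] (Om : Set (Subgroup G)), MinS Om → TriFact.Pre Om →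
  Conn Om → Con Om → CoreE Om

/-- `CoresFourStmt` from the statements for the different types -/
theorem coresFour (hT : TypeStmt.{u}) (hA4 : AFourStmt.{u}) (hcC : CoresCStmt.{u}) (hcA : CoresAStmt.{u}) :
    CoresFourStmt.{u} := by
  intro G _ _ Om hm h4 hco hcon
  obtain ⟨τ, hτ, ht⟩ := hT G Om hm h4.three (fun K hK L hL e => h4.inj hK hL e) hcon
  rcases hτ with rfl | rfl | rfl
  · exact hcC G Om hm h4 hco ht
  · exact hcA G Om hm h4 hco ht
  · exact (hA4 G Om hm h4 ht).elim

/-- the identification: `PSp₆(q)`, `PSU₆(q)`, `PSU₇(q)`, `PSL₆(q)`, `PSL₇(q)` -/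
def IdStmt : Prop := ∀ (G : Type u) [Group G] [Finite G] (Om : Set (Subgroup G)), MinS Om → Card Om 3 → Inj Om →
  Conn Om → Con Om → CoreE Om → ∀ τ : Nodes.Chart.Ty, (τ = .C 2 ∨ τ = .A 3 ∨ τ = .A 4) → Typed Om τ → HasPieces Om

/-- **the branch `|Om(S)| = 3`** -/
theorem coreThree (hcrit : CritStmt.{u}) (hbend : BendStmt.{u}) (hodd : OddStmt.{u}) (hfix : FixStmt.{u})
    (hct : CTStmt.{u}) (hA : AllEqStmt.{u}) (hD4 : DisFourStmt.{u}) (hD8 : DisEightStmt.{u})
    (hconn : ConnStmt.{u}) (hT : TypeStmt.{u}) (hc4 : CoresFourStmt.{u}) (hid : IdStmt.{u}) :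
    Branches.CoreThree.{u} := by
  intro G _ _ Om hm hc
  haveI := hm.simple
  have hi : Inj Om := (three_cases hm.hyp hm.cls hc).resolve_right fun h => hA G Om hm hc h
  rcases four_or_eight hm.hyp hi hc with h4 | h8
  · have hco := conn_of_pre h4 hm.isType hm.cls (hcrit G) (not_stronglyEmbedded hm.hyp hc (hbend G))
    have hcon : Con Om := con_or_dis.resolve_right fun h => hD4 G Om hm h4 hco h
    obtain ⟨τ, hτ, ht⟩ := hT G Om hm hc hi hcon
    exact hid G Om hm hc hi hco hcon (hc4 G Om hm h4 hco hcon) τ hτ ht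
  · have hco := hconn G Om hm hc hi h8
    have hcE : CoreE Om := by
      intro S K hK s hs hs1
      exact commutator_eq_bot hodd hfix hct hm.hyp hm.isType hm.ne hco (odd_normal hm.hyp hm.ne)
        (fun s hs => hm.fam_cent (fun e => by rw [e, orderOf_one] at hs; omega)) S (h8 S) hK hs hs1
    have hcon : Con Om := con_or_dis.resolve_right fun h => hD8 G Om hm hc hi h8 hco hcE h
    obtain ⟨τ, hτ, ht⟩ := hT G Om hm hc hi hcon
    exact hid G Om hm hc hi hco hcon hcE τ hτ ht


end Cfsg.Agent.Cit.CoreThree
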