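import Cfsg.Agent.Cit.CloMFour
import Cfsg.Agent.Cit.Four.CorAll
import Cfsg.Agent.Cit.CloseCor
import Cfsg.Agent.Cit.CoreThree
import Cfsg.Agent.Cit.CoreFour
import Cfsg.Agent.Cit.CoreManyB

/-!
# CONN : the commuting graph is connected (project CIT)

* `adj_conn` : from THEOREM CLOSE (`CloseE`) and the cores (`CorB`), `|Om(S)| ≥ 3`, different members with different
  involutions if `|Om(S)| = 4`;
* `cm_conn` : the form with elementwise commuting members (`CoreManyB.Conn`);
* `connThree` : `CoreThree.ConnStmt`; `connMany` : `CoreManyB.ConnStmt`; `connFour`, `connFour'` : `|Om(S)| = 4`,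
  different involutions;
* `closeStmt` : `CoreManyB.CloseStmt` from `CloseIn`.
-/

set_option autoImplicit false
set_option linter.style.haveILetI false
set_option linter.unusedSectionVars false

namespace Cfsg.Agent.Cit.ConnMain

open Subgroup Cfsg Cfsg.Agent.Cit SubCent UseT CoresG CoresCore Four CloseMain

universe u

section

variable {G : Type u} [Group G] [Finite G] {Om : Set (Subgroup G)}

/-- **the commuting graph is connected** -/
theorem adj_conn (ms : MinS Om) (hcl : CloseE Om) (S : Sylow 2 G) (c : CorB Om (S : Subgroup G))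
    (hn : 3 ≤ (OmS Om (S : Subgroup G)).ncard) (hi : (OmS Om (S : Subgroup G)).ncard = 4 → CloOne.Inj Om) :
    ∀ K ∈ Om, ∀ L ∈ Om, Relation.ReflTransGen (Adj Om) K L := by
  have hp : ∀ a ∈ ES Om (S : Subgroup G), a ≠ 1 → HasPieces (fam Om (centralizer {a})) :=
    fun _ _ ha => ms.fam_cent ha
  have hX : ∀ a ∈ ES Om (S : Subgroup G), a ≠ 1 →
      OO (centralizer {a}) ≤ centralizer (ES Om (S : Subgroup G) : Set G) :=
    fun a ha ha1 => c.XX_le ms.hyp S.isPGroup' ha ha1
  by_cases h4 : (OmS Om (S : Subgroup G)).ncard = 4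
  · exact CloMFour.connected_four ms.hyp ms.isType ms.cls ms.ne ms.simple S h4 (hi h4) hp hX (hcl S)
  · exact CloMOne.connected ms.hyp ms.isType ms.cls ms.ne S hn (fun h => absurd h h4) hp hX (hcl S)

/-- the form with elementwise commuting members -/
theorem cm_conn (ms : MinS Om) (hodd : OddStmt.{u}) (hE : ∀ S : Sylow 2 G, CorB Om (S : Subgroup G))
    (hconn : ∀ K ∈ Om, ∀ L ∈ Om, Relation.ReflTransGen (Adj Om) K L) : CoreManyB.Conn Om := by
  intro C hC hne hcl
  refine Set.Subset.antisymm hC fun L hL => ?_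
  obtain ⟨K, hK⟩ := hne
  have h1 := hconn K (hC hK) L hL
  clear hL
  induction h1 with
  | refl => exact hK
  | @tail J J' _ h2 ih =>
    obtain ⟨S, h3, h4⟩ := h2
    by_cases hne : J = J'
    · rw [← hne]; exact ih
    · exact hcl J ih J' h4.1 (TypeDet.cm_iff_le_centralizer.2 (ms.comm_of_corB hodd hE S.isPGroup' h3 h4 hne))

/-- the cores for `|E(S)| ≥ 8` -/
theorem corB_of_eight (ms : MinS Om) (hodd : OddStmt.{u}) (hfix : FixStmt.{u}) (hct : CTStmt.{u})
    (hcl : CloseE Om) (S : Sylow 2 G) (h8 : 8 ≤ Nat.card (ES Om (S : Subgroup G))) : CorB Om (S : Subgroup G) :=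
  (ms.corE_of_M hodd hfix hct S h8 (hcl S)).corB

end

/-- `|Om(S)| = 3` -/
theorem connThree (hodd : OddStmt.{u}) (hfix : FixStmt.{u}) (hct : CTStmt.{u}) (hcl : CoreManyB.CloseStmt.{u}) :
    CoreThree.ConnStmt.{u} := by
  intro G _ _ Om ms hc _ h8
  obtain ⟨S⟩ : Nonempty (Sylow 2 G) := inferInstance
  have hE : CloseE Om := hcl G Om ms S (le_trans (by norm_num) (h8 S))
  exact adj_conn ms hE S (corB_of_eight ms hodd hfix hct hE S (h8 S)) (hc S).ge fun h => by rw [hc S] at h; omega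

/-- `|Om(S)| = 4`, different involutions -/
theorem connFour (hodd : OddStmt.{u}) (hfix : FixStmt.{u}) (hct : CTStmt.{u}) (hcl : CoreManyB.CloseStmt.{u})
    {G : Type u} [Group G] [Finite G] {Om : Set (Subgroup G)} (ms : MinS Om) (hc : Branches.Card Om 4)
    (hi : CloOne.Inj Om) : ∀ K ∈ Om, ∀ L ∈ Om, Relation.ReflTransGen (Adj Om) K L := by
  obtain ⟨S⟩ : Nonempty (Sylow 2 G) := inferInstance
  have h8 := CoreFour.eight_le ms.hyp hc hi S
  have hE : CloseE Om := hcl G Om ms S (le_trans (by norm_num) h8)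
  exact adj_conn ms hE S (corB_of_eight ms hodd hfix hct hE S h8) (by rw [hc S]; norm_num) fun _ => hi

/-- `|Om(S)| = 4`, different involutions: elementwise commuting members -/
theorem connFour' (hodd : OddStmt.{u}) (hfix : FixStmt.{u}) (hct : CTStmt.{u}) (hcl : CoreManyB.CloseStmt.{u})
    {G : Type u} [Group G] [Finite G] {Om : Set (Subgroup G)} (ms : MinS Om) (hc : Branches.Card Om 4)
    (hi : CloOne.Inj Om) : CoreManyB.Conn Om := by
  obtain ⟨S⟩ : Nonempty (Sylow 2 G) := inferInstance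
  have h8 := CoreFour.eight_le ms.hyp hc hi
  have hE : CloseE Om := hcl G Om ms S (le_trans (by norm_num) (h8 S))
  exact cm_conn ms hodd (fun T => corB_of_eight ms hodd hfix hct hE T (h8 T)) (connFour hodd hfix hct hcl ms hc hi)

/-- `|Om(S)| ≥ 5` -/
theorem connMany (hodd : OddStmt.{u}) (hfix : FixStmt.{u}) (hct : CTStmt.{u}) (h5 : CorFive.{u})
    (hcl : CoreManyB.CloseStmt.{u}) : CoreManyB.ConnStmt.{u} := by
  intro G _ _ Om ms n h5n hc
  haveI := ms.simple
  obtain ⟨S₀, h4⟩ := CoreManyB.four_le ms.hyp (EqCard.not_allEq_many ms hc h5n)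
  have hCl := hcl G Om ms S₀ h4
  have hE : ∀ S : Sylow 2 G, CorB Om (S : Subgroup G) := fun S =>
    corB_of hodd hfix hct h5 ms hCl S (Or.inr ⟨by rw [card_ES_eq ms.hyp S S₀]; exact h4, by rw [hc S]; exact h5n⟩)
  exact cm_conn ms hodd hE (adj_conn ms hCl S₀ (hE S₀) (by rw [hc S₀]; omega) fun h => by rw [hc S₀] at h; omega)

/-- THEOREM CLOSE -/
theorem closeStmt (ci : CloseIn.{u}) : CoreManyB.CloseStmt.{u} := by
  intro G _ _ Om ms S₀ h4 S M hN hC
  exact ci.close ms S (by rw [card_ES_eq ms.hyp S S₀]; exact h4) hN hC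

end Cfsg.Agent.Cit.ConnMain
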