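import Cfsg.Agent.Cit.ExMain
import Cfsg.Agent.Cit.CoresCore

/-!
# Providers for `ExMain.In` (project CIT)

* `isCh_of_piece`, `isCh_of_tyPc` : a (T1) piece is `IsCh`;
* `lb_of_frame`, `lb_of_corE` : `ExLocal.LB` from (C) on the frames, resp. from `CorE` for all Sylow 2-subgroups;
* `conn_of_adj` : connectivity of the commuting graph;
* `in_of_corE` : all fields of `ExMain.In` except `ch`.
-/

set_option autoImplicit false
set_option linter.dupNamespace false
set_option linter.style.haveILetI false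
set_option linter.unusedSectionVars false

namespace Cfsg.Agent.Cit.ExIn

open Subgroup Cfsg Relation Cfsg.Agent.Cit.UseT Cfsg.Agent.Cit.PieceLift Cfsg.Agent.Cit.PieceG
open Cfsg.Agent.Cit.TypeDet Cfsg.Agent.Cit.ExLocal Cfsg.Agent.Cit.ExMain
open Cfsg.Agent.Cit.CoresCore Cfsg.Agent.Cit.CoresG
open scoped commutatorElement

universe u

/-- a piece with a chart -/
theorem isCh_of_chart {X : Type*} [Group X] {Om : Set (Subgroup X)} {D : Subgroup X} {p : ℕ}
    (c : Nodes.Chart.Chart Om p D) (sl : ∃ (F : Type) (_ : Field F) (_ : Fintype F), CharP F p ∧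
        ∀ r ∈ c.R, Nonempty (Matrix.SpecialLinearGroup (Fin 2) F ≃* ↥(c.Z r ⊔ c.Z (-r)))) : IsCh Om D := by
  obtain ⟨F, h1, h2, h3, h4⟩ := sl
  exact ⟨p, c, F, h1, h2, h3, h4⟩

variable {G : Type u} [Group G] [Finite G] {Om : Set (Subgroup G)}

/-- `LB` from (C) on the frames -/
theorem lb_of_frame (hm : MinS Om) (core : ∀ K ∈ Om, OO K = ⊥)
    (hC : ∀ K ∈ Om, ∃ S : Sylow 2 G, K ∈ OmS Om (S : Subgroup G) ∧ (∀ L ∈ OmS Om (S : Subgroup G),
      L ⊓ (S : Subgroup G) ≤ centralizer (OO (centralizer {zz K}) : Set G))) : LB Om where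
  hyp := hm.hyp
  ty := hm.ty
  core := core
  cor K hK := by
    obtain ⟨S, hKS, h1⟩ := hC K hK
    refine hm.corG S (hm.hyp.zz_ne hK) (fun L hL => ?_) h1
    by_cases e : L = K
    · rw [e]; exact hm.hyp.le_centralizer hK
    · intro x hx
      rw [mem_centralizer_singleton_iff]
      exact CoresComm.comm_of_OmS hm.hyp S.isPGroup' hL hKS e (hm.ty L hL.1) (hm.ty K hK) (core L hL.1)
        (core K hK) x hx _ (hm.hyp.zz_mem hK)

/-- `LB` from `CorE` -/
theorem lb_of_corE (hm : MinS Om) (hodd : OddStmt.{u})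
    (hE : ∀ S : Sylow 2 G, CorE Om (S : Subgroup G)) : LB Om where
  hyp := hm.hyp
  ty := hm.ty
  core := hm.OO_eq_bot_of_corE hodd hE
  cor K hK := by
    obtain ⟨S, hKS⟩ := exists_mem_OmS hK
    exact ((hE S).corG hm S (zz K) (zz_mem_ES hKS) (hm.hyp.zz_ne hK)).2

/-- connectivity -/
theorem conn_of_adj (b : LB Om) (hcon : ∀ K ∈ Om, ∀ L ∈ Om, ReflTransGen (Adj Om) K L) :
    ∀ C : Set (Subgroup G), C ⊆ Om → C.Nonempty → (∀ K ∈ C, ∀ L ∈ Om, cm K L → L ∈ C) → C = Om := by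
  intro C hC ⟨K, hK⟩ hcl
  refine Set.Subset.antisymm hC fun L hL => ?_
  have h1 := hcon K (hC hK) L hL
  clear hL
  induction h1 with
  | refl => exact hK
  | @tail M N _ h2 ih =>
    obtain ⟨S, hM, hN⟩ := h2
    by_cases e : M = N
    · rw [← e]; exact ih
    · exact hcl M ih N hN.1 (CoresComm.comm_of_OmS b.hyp S.isPGroup' hM hN e (b.ty M hM.1) (b.ty N hN.1)
        (b.core M hM.1) (b.core N hN.1))

theorem in_of_lb (hm : MinS Om) (b : LB Om) (hodd : OddStmt.{u})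
    (hcon : ∀ K ∈ Om, ∀ L ∈ Om, ReflTransGen (Adj Om) K L)
    (ch : ∀ N ∈ Om, ∀ K ∈ Om, K ≤ centralizer {zz N} → PT Om (centralizer {zz N}) K ∉ fb Om (centralizer {zz N}) →
      IsCh (fb Om (centralizer {zz N})) (PT Om (centralizer {zz N}) K)) : In Om where
  toLB := b
  ne := hm.ne
  one K hK L hL := by
    obtain ⟨g, hg⟩ := hm.cls K hK L hL
    exact ⟨g, hg.symm⟩
  conn := conn_of_adj b hcon
  ch := ch
  solv X hX := hodd X hX

/-- **(EX) from `CorE`** -/
theorem in_of_corE (hm : MinS Om) (hodd : OddStmt.{u}) (hE : ∀ S : Sylow 2 G, CorE Om (S : Subgroup G))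
    (hcon : ∀ K ∈ Om, ∀ L ∈ Om, ReflTransGen (Adj Om) K L)
    (ch : ∀ N ∈ Om, ∀ K ∈ Om, K ≤ centralizer {zz N} → PT Om (centralizer {zz N}) K ∉ fb Om (centralizer {zz N}) →
      IsCh (fb Om (centralizer {zz N})) (PT Om (centralizer {zz N}) K)) : In Om :=
  in_of_lb hm (lb_of_corE hm hodd hE) hodd hcon ch

end Cfsg.Agent.Cit.ExIn
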