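import Mathlib
import Cfsg.Agent.Cit.FrameOf
import Cfsg.Agent.Cit.Exact
import Cfsg.Agent.Nodes.ExactLift

/-!
# (EX-3) in `G`: the kernels of the pieces are `p'`-groups (helper61, bb #7471, #9241)

* `Prov` : a central extension `π : E → Y` of a chart group, `E ≤ G`, such that the classical subgroups
  `⟨Z r, Z (-r)⟩` are the images of subgroups `Kr r` (with `Long`) with `Good` parabolics;
* `Prov.lft` : the groups `QQ (Xr r) (zr r) ⊓ E` lift the groups `VV r`;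
* `Prov.not_dvd_card_ker` : if `E` is perfect, `p` does not divide the order of the kernel.
-/

set_option autoImplicit false
set_option linter.unusedSectionVars false

namespace Cfsg.Agent.Cit.ExactProv

open Subgroup Cfsg Cfsg.Agent.Cit.Parab Cfsg.Agent.Cit.LemmaUQ Cfsg.Agent.Cit.FrameOf
open CoxeterSystem Cfsg.Agent.ChevalleyStructure.CoxeterGeom Cfsg.Agent.Tits.Roots Cfsg.Agent.Tits.Core
  Cfsg.Agent.Tits.RootComb Cfsg.Agent.Nodes.Comb Cfsg.Agent.Nodes.BNOf Cfsg.Agent.Nodes.Chart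
  Cfsg.Agent.Nodes.Bruhat Cfsg.Agent.Nodes.ChartLoc Cfsg.Agent.Nodes.ExactLift
open scoped commutatorElement

variable {I W Y : Type*} [Fintype I] [DecidableEq I] [Group W] [Fintype W] [Group Y] {M : CoxeterMatrix I}
  {cs : CoxeterSystem M W} {A : I → I → ℤ} {h : IsCartan M A} {p : ℕ} {T : Subgroup Y} {n : I → Y}
  {X : (I → ℤ) → Subgroup Y} {R : Set (I → ℤ)} {Z : (I → ℤ) → Subgroup Y} {z : (I → ℤ) → Y}
  {G : Type*} [Group G]

/-- A central extension `π : E → Y` of odd order of a chart group with exact parabolics in `G`. -/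
structure Prov (cs : CoxeterSystem M W) (h : IsCartan M A) (p : ℕ) (T : Subgroup Y) (X : (I → ℤ) → Subgroup Y)
    (R : Set (I → ℤ)) (Z : (I → ℤ) → Subgroup Y) (z : (I → ℤ) → Y) {E : Subgroup G} (π : E →* Y)
    (Kr Xr : (I → ℤ) → Subgroup G) (zr : (I → ℤ) → G) : Prop where
  rng : π.range = GG cs h T X
  cen : ∀ a : E, π a = 1 → ∀ l : E, a * l = l * a
  odd : Odd (Nat.card π.ker)
  long : ∀ r ∈ R, Long (Kr r) (Xr r) (zr r)
  le : ∀ r ∈ R, Kr r ≤ E
  Xmap : ∀ r ∈ R, ((Xr r).subgroupOf E).map π = Z r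
  zmap : ∀ r ∈ R, ∀ hz : zr r ∈ E, π ⟨zr r, hz⟩ = z r
  Xinj : ∀ r ∈ R, ∀ a : E, (a : G) ∈ Xr r → π a = 1 → a = 1
  good : ∀ r ∈ R, Good p (Xr r) (zr r)
  nor : ∀ r ∈ R, ∀ g : E, π g ∈ normalizer (Z r : Set Y) → π g ∈ normalizer (Z (-r) : Set Y) →
    cj (g : G) (Xr r) = Xr r

namespace Prov

variable {E : Subgroup G} {π : E →* Y} {Kr Xr : (I → ℤ) → Subgroup G} {zr : (I → ℤ) → G}
  (P : Prov cs h p T X R Z z π Kr Xr zr) (C : Cls cs h p T n X R Z z)

include P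

theorem eq_one_of_sq {a : E} (ha : π a = 1) (h2 : a * a = 1) : a = 1 := by
  have h1 : orderOf a ∣ Nat.card π.ker := Subgroup.orderOf_dvd_natCard π.ker (MonoidHom.mem_ker.2 ha)
  have h3 : orderOf a ∣ 2 := orderOf_dvd_of_pow_eq_one (by rw [pow_two, h2])
  have h4 : orderOf a ∣ 1 := by
    rw [← Nat.Coprime.gcd_eq_one (Nat.coprime_two_left.2 P.odd)]
    exact Nat.dvd_gcd h3 h1
  exact orderOf_eq_one_iff.1 (Nat.dvd_one.1 h4)

theorem zE {r : I → ℤ} (hr : r ∈ R) : zr r ∈ E := P.le r hr (P.long r hr).zK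

theorem XE {r : I → ℤ} (hr : r ∈ R) {x : G} (hx : x ∈ Xr r) : x ∈ E := P.le r hr ((P.long r hr).XK hx)

variable (hp2 : p ≠ 2)

include C hp2

/-- Elements commuting with `Z r` and inverted by `z r` modulo `Z r` lie in the image of `QQ`. -/
theorem mem_map_of_inv [Finite G] {r : I → ℤ} (hr : r ∈ R) {v : Y} (hv : v ∈ π.range) (hodd : Odd (orderOf v))
    (hcomm : ∀ b ∈ Z r, v * b = b * v) (hinv : z r * v * z r * v ∈ Z r) :
    v ∈ ((QQ (Xr r) (zr r)).subgroupOf E).map π := by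
  obtain ⟨a, rfl⟩ := hv
  set t : E := ⟨zr r, P.zE hr⟩ with ht
  have hL := P.long r hr
  have htt : t * t = 1 := Subtype.ext hL.zsq
  have hti : t⁻¹ = t := inv_eq_of_mul_eq_one_left htt
  have hπt : π t = z r := P.zmap r hr (P.zE hr)
  rw [← P.Xmap r hr, ← hπt, ← map_mul, ← map_mul, ← map_mul] at hinv
  obtain ⟨x, hx, hxe⟩ := hinv
  have hxX : (x : G) ∈ Xr r := mem_subgroupOf.1 hx
  set k : E := x⁻¹ * (t * a * t * a) with hk
  have hπk : π k = 1 := by rw [hk, map_mul, map_inv, hxe, inv_mul_cancel]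
  have hkc := P.cen k hπk
  have hta : t * a * t⁻¹ = x * k * a⁻¹ := by rw [hti, hk]; group
  -- `a` centralises `Xr r`
  have hax : ∀ x' : E, (x' : G) ∈ Xr r → a * x' = x' * a := by
    intro x' hx'
    have htx : t * x' * t⁻¹ = x' := by
      have h1 : t * x' = x' * t := Subtype.ext (hL.central (hL.XK hx')).symm
      rw [h1, mul_inv_cancel_right]
    have hxx : x * x' = x' * x := Subtype.ext (hL.Xcomm _ hxX _ hx')
    set c : E := ⁅a, x'⁆ with hc
    have hπc : π c = 1 := by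
      have h1 : π x' ∈ Z r := by
        rw [← P.Xmap r hr]; exact ⟨x', mem_subgroupOf.2 hx', rfl⟩
      rw [hc, map_commutatorElement, commutatorElement_def, hcomm _ h1]
      group
    have hcc := P.cen c hπc
    have h1 : a * x' = c * (x' * a) := by rw [hc, commutatorElement_def]; group
    have h2 : a⁻¹ * x' = c⁻¹ * (x' * a⁻¹) := by
      have h3 : x' * a⁻¹ = a⁻¹ * (a * x') * a⁻¹ := by group
      rw [h3, h1]
      calc a⁻¹ * x' = c⁻¹ * (c * a⁻¹) * x' := by group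
        _ = c⁻¹ * (a⁻¹ * c) * x' := by rw [hcc a⁻¹]
        _ = c⁻¹ * (a⁻¹ * (c * (x' * a)) * a⁻¹) := by group
    have h3 : t * c * t⁻¹ = c := by rw [← hcc t, mul_inv_cancel_right]
    have h4 : t * c * t⁻¹ = c⁻¹ := by
      have hcc' : ∀ l : E, c⁻¹ * l = l * c⁻¹ := fun l => by
        have h8 := hcc l⁻¹
        have h9 := congrArg (fun y => y⁻¹) h8
        simp only [mul_inv_rev, inv_inv] at h9
        exact h9.symm
      calc t * c * t⁻¹ = (t * a * t⁻¹) * (t * x' * t⁻¹) * (t * a * t⁻¹)⁻¹ * (t * x' * t⁻¹)⁻¹ := by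
            rw [hc, commutatorElement_def]; group
        _ = (x * k * a⁻¹) * x' * (x * k * a⁻¹)⁻¹ * x'⁻¹ := by rw [hta, htx]
        _ = x * k * (a⁻¹ * x') * a * k⁻¹ * x⁻¹ * x'⁻¹ := by group
        _ = x * (k * (c⁻¹ * (x' * a⁻¹))) * a * k⁻¹ * x⁻¹ * x'⁻¹ := by rw [h2]; group
        _ = x * ((c⁻¹ * (x' * a⁻¹)) * k) * a * k⁻¹ * x⁻¹ * x'⁻¹ := by rw [hkc]
        _ = x * c⁻¹ * x' * a⁻¹ * (k * a) * k⁻¹ * x⁻¹ * x'⁻¹ := by group
        _ = x * c⁻¹ * x' * a⁻¹ * (a * k) * k⁻¹ * x⁻¹ * x'⁻¹ := by rw [hkc]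
        _ = (x * c⁻¹) * (x' * x⁻¹ * x'⁻¹) := by group
        _ = (c⁻¹ * x) * (x' * x⁻¹ * x'⁻¹) := by rw [hcc']
        _ = c⁻¹ * ((x * x') * x⁻¹ * x'⁻¹) := by group
        _ = c⁻¹ := by rw [hxx]; group
    have h5 : c * c = 1 := by
      have h6 : c = c⁻¹ := h3.symm.trans h4
      calc c * c = c * c⁻¹ := by rw [← h6]
        _ = 1 := mul_inv_cancel c
    have h6 := P.eq_one_of_sq hπc h5
    rw [h1, h6, one_mul]
  -- `⁅a, z⁆ ∈ QX`
  have haC : (a : G) ∈ centralizer (Xr r : Set G) := by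
    rw [mem_centralizer_iff]
    intro x' hx'
    exact (congrArg Subtype.val (hax ⟨x', P.XE hr hx'⟩ hx')).symm
  have h1 := hL.commutator_mem haC
  have h2 : a * a * k⁻¹ = ⁅a, t⁆ * x := by
    rw [commutatorElement_def]
    calc a * a * k⁻¹ = a * (a * k⁻¹ * x⁻¹) * x := by group
      _ = a * (x * k * a⁻¹)⁻¹ * x := by group
      _ = a * (t * a * t⁻¹)⁻¹ * x := by rw [hta]
      _ = a * t * a⁻¹ * t⁻¹ * x := by group
  have h3 : a * a * k⁻¹ ∈ (QQ (Xr r) (zr r)).subgroupOf E := by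
    rw [h2, mem_subgroupOf, Subgroup.coe_mul]
    exact mul_mem (QX_le_QQ _ _ h1) (X_le_QQ _ _ hxX)
  have h4 : π a * π a ∈ ((QQ (Xr r) (zr r)).subgroupOf E).map π := by
    refine ⟨_, h3, ?_⟩
    rw [map_mul, map_mul, map_inv, hπk, inv_one, mul_one]
  exact mem_of_odd_sq C hp2 hodd h4

/-- **The lifts.** -/
theorem lft [Finite G] [Fact p.Prime] : Lft cs h T X R Z π (fun r => (QQ (Xr r) (zr r)).subgroupOf E) where
  rng := P.rng
  cen := by
    intro a ha
    rw [Subgroup.mem_center_iff]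
    exact fun l => (P.cen a ha l).symm
  odd := P.odd
  inj r hr a ha h1 := by
    refine P.Xinj r hr a ((P.good r hr).fix _ (mem_subgroupOf.1 ha) ?_) h1
    exact congrArg Subtype.val (P.cen a h1 ⟨zr r, P.zE hr⟩)
  map r hr := by
    have hL := P.long r hr
    apply le_antisymm
    · rintro _ ⟨a, ha, rfl⟩
      replace ha : (a : G) ∈ QQ (Xr r) (zr r) := mem_subgroupOf.1 ha
      obtain ⟨x, hx, d, hd, he⟩ := (mem_QQ hL).1 ha
      have hxE := P.XE hr hx
      have hdE : d ∈ E := by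
        have : d = x⁻¹ * a := by rw [he]; group
        rw [this]; exact E.mul_mem (E.inv_mem hxE) a.2
      have hae : a = ⟨x, hxE⟩ * ⟨d, hdE⟩ := Subtype.ext he
      have hZ : ∀ y (hy : y ∈ Xr r), π ⟨y, P.XE hr hy⟩ ∈ Z r := by
        intro y hy
        rw [← P.Xmap r hr]
        exact ⟨⟨y, _⟩, mem_subgroupOf.2 hy, rfl⟩
      rw [hae, map_mul]
      refine mul_mem (Z_le_VV C hr (hZ x hx)) ?_
      -- the element `d`
      have hdN : π ⟨d, hdE⟩ ∈ normalizer (Z r : Set Y) := by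
        refine Nodes.ClsNorm.centralizer_le_normalizer' _ ?_
        rw [mem_centralizer_iff]
        intro b hb
        have hb' : b ∈ ((Xr r).subgroupOf E).map π := by rw [P.Xmap r hr]; exact hb
        obtain ⟨y, hy, rfl⟩ := hb'
        rw [← map_mul, ← map_mul]
        congr 1
        exact Subtype.ext (core_commute (hL.QX_le_core hd) (mem_subgroupOf.1 hy)).symm
      have hdG : π ⟨d, hdE⟩ ∈ GG cs h T X := by rw [← P.rng]; exact ⟨_, rfl⟩
      have h1 := comm_mem_VV C hr hdG hdN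
      -- `z d z⁻¹ d ∈ X`
      have h2 : ⁅QX (Xr r) (zr r), zpowers (zr r)⁆ = QX (Xr r) (zr r) := hL.QX_commutator
      have hzN : zr r ∈ normalizer (QX (Xr r) (zr r) : Set G) := by
        rw [mem_normalizer_iff_cj]
        refine hL.cj_QX (Parab.cj_eq_of_conj_mem fun y hy => ?_)
        rw [← hL.central (hL.XK hy), mul_inv_cancel_right]
        exact hy
      have hact : Cit.Weights.Act (QX (Xr r) (zr r)) ⁅QX (Xr r) (zr r), QX (Xr r) (zr r)⁆ (zr r) :=
        Cit.Weights.Act.of_normalizer hL.zsq hzN (Cit.Weights.normalizer_commutator hzN hzN)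
      have h3 := Cit.Weights.inverts_of_commutator (Cit.Weights.Sec.self _) hact h2 d hd
      have h4 : zr r * d * (zr r)⁻¹ * d ∈ Xr r := (P.good r hr).der
        (Subgroup.commutator_mono (QX_le_QQ _ _) (QX_le_QQ _ _) h3)
      have h5 := hZ _ h4
      have h6 : π ⟨zr r * d * (zr r)⁻¹ * d, P.XE hr h4⟩ = z r * π ⟨d, hdE⟩ * (z r)⁻¹ * π ⟨d, hdE⟩ := by
        have h7 : (⟨zr r * d * (zr r)⁻¹ * d, P.XE hr h4⟩ : E) =
            ⟨zr r, P.zE hr⟩ * ⟨d, hdE⟩ * ⟨zr r, P.zE hr⟩⁻¹ * ⟨d, hdE⟩ := rfl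
        rw [h7, map_mul, map_mul, map_mul, map_inv, P.zmap r hr]
      rw [h6] at h5
      have h7 : π ⟨d, hdE⟩ * π ⟨d, hdE⟩ ∈ VV cs h X r := by
        have h8 : π ⟨d, hdE⟩ * π ⟨d, hdE⟩ = (π ⟨d, hdE⟩ * z r * (π ⟨d, hdE⟩)⁻¹ * (z r)⁻¹) *
            (z r * π ⟨d, hdE⟩ * (z r)⁻¹ * π ⟨d, hdE⟩) := by group
        rw [h8]
        exact mul_mem h1 (Z_le_VV C hr h5)
      refine mem_of_odd_sq C hp2 ?_ h7
      have h9 : orderOf (π ⟨d, hdE⟩) ∣ orderOf d := by
        refine (orderOf_map_dvd π ⟨d, hdE⟩).trans ?_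
        rw [Subgroup.orderOf_mk]
      have h10 : orderOf d ∣ Nat.card (core (Xr r)) :=
        Subgroup.orderOf_dvd_natCard _ (hL.QX_le_core hd)
      exact (odd_core (Xr r)).of_dvd_nat (h9.trans h10)
    · refine RGD.Sup_le ?_
      rintro y ⟨hy, h0⟩ v hv
      refine P.mem_map_of_inv C hp2 hr ?_ (odd_of_mem_X C hp2 hy hv) (C.cent r hr y hy h0.le v hv) ?_
      · rw [P.rng]; exact X_le_GG hy hv
      · by_cases hyr : y = r
        · subst hyr; exact C.z_inv_self y hr v hv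
        · have hne : y ≠ -r := by
            rintro rfl
            rw [form_neg_left] at h0
            have := form_nonneg cs h r
            omega
          rw [C.z_inv r hr y hy hyr hne h0.ne' v hv, inv_mul_cancel]
          exact one_mem _
  nor r hr g h1 h2 a ha := by
    have h3 := P.nor r hr g h1 h2
    have h4 := cj_QQ (P.long r hr) h3
    rw [mem_subgroupOf]
    have h5 : (g : G) * a * (g : G)⁻¹ ∈ cj (g : G) (QQ (Xr r) (zr r)) := conj_mem_cj (mem_subgroupOf.1 ha)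
    rw [h4] at h5
    exact h5

/-- **(EX-3)** -/
theorem not_dvd_card_ker [Finite G] [Finite Y] [Fact p.Prime]
    (hirr : ∀ J : Set I, J.Nonempty → J ≠ Set.univ → ∃ a ∈ J, ∃ b, b ∉ J ∧ M a b ≠ 2) (hR : R.Nonempty)
    (hE : ⁅E, E⁆ = E) : ¬ p ∣ Nat.card π.ker := by
  refine (P.lft C hp2).not_dvd_card_ker C hirr hR ?_
  have h1 : (commutator E).map E.subtype = ⁅E, E⁆ := by
    rw [commutator_def, Subgroup.map_commutator, ← MonoidHom.range_eq_map, E.range_subtype]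
  rw [hE] at h1
  rw [eq_top_iff]
  intro x _
  have h2 : (x : G) ∈ (commutator E).map E.subtype := by rw [h1]; exact x.2
  obtain ⟨y, hy, he⟩ := h2
  have : y = x := Subtype.ext he
  rw [← this]; exact hy

end Prov

end Cfsg.Agent.Cit.ExactProv
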