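import Mathlib
import Cfsg.Agent.Cit.ExactProv

/-!
# (EX-3) from `Hyp Om`

`HIn` : `π : E → Y` with central kernel of odd order onto a chart group, the classical subgroups
`⟨Z r, Z (-r)⟩` are images of members of `Om` contained in `E`, which are isomorphic to `SL(2, F)` with `Good`
parabolics.

* `HIn.inj` : `π` is injective on the members; `HIn.eq_of_map` : members with the same image are equal;
* `HIn.exists_prov` : the structure `Prov`; `HIn.not_dvd_card_ker` : if `E` is perfect, `p` does not divide `|ker π|`.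
-/

set_option autoImplicit false
set_option linter.unusedSectionVars false

namespace Cfsg.Agent.Cit.ExactHyp

open Subgroup Cfsg Cfsg.Agent.Cit.Parab Cfsg.Agent.Cit.LemmaUQ Cfsg.Agent.Cit.FrameOf Cfsg.Agent.Cit.ExactProv
open CoxeterSystem Cfsg.Agent.ChevalleyStructure.CoxeterGeom Cfsg.Agent.Tits.Roots Cfsg.Agent.Tits.Core
  Cfsg.Agent.Tits.RootComb Cfsg.Agent.Nodes.Comb Cfsg.Agent.Nodes.BNOf Cfsg.Agent.Nodes.Chart
  Cfsg.Agent.Nodes.Bruhat Cfsg.Agent.Nodes.ChartLoc Cfsg.Agent.Nodes.ExactLift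
open scoped commutatorElement

variable {I W Y : Type*} [Fintype I] [DecidableEq I] [Group W] [Fintype W] [Group Y] {M : CoxeterMatrix I}
  {cs : CoxeterSystem M W} {A : I → I → ℤ} {h : IsCartan M A} {p : ℕ} {T : Subgroup Y} {n : I → Y}
  {X : (I → ℤ) → Subgroup Y} {R : Set (I → ℤ)} {Z : (I → ℤ) → Subgroup Y} {z : (I → ℤ) → Y}
  {G : Type*} [Group G]

/-- The input. -/
structure HIn (cs : CoxeterSystem M W) (h : IsCartan M A) (p : ℕ) (T : Subgroup Y) (X : (I → ℤ) → Subgroup Y)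
    (R : Set (I → ℤ)) (Z : (I → ℤ) → Subgroup Y) (z : (I → ℤ) → Y) (Om : Set (Subgroup G)) (F : Type*) [Field F]
    [Fintype F] {E : Subgroup G} (π : E →* Y) : Prop where
  hyp : Hyp Om
  Fodd : Odd (Fintype.card F)
  rng : π.range = GG cs h T X
  cen : ∀ a : E, π a = 1 → ∀ l : E, a * l = l * a
  odd : Odd (Nat.card π.ker)
  ex : ∀ r ∈ R, ∃ J ∈ Om, J ≤ E ∧ (J.subgroupOf E).map π = Z r ⊔ Z (-r)
  sl : ∀ J ∈ Om, J ≤ E → Nonempty (Matrix.SpecialLinearGroup (Fin 2) F ≃* J)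
  good : ∀ J ∈ Om, J ≤ E → ∀ P ≤ J, Nat.card P = Fintype.card F → Good p P (zz J)
  z_ne : ∀ r ∈ R, z r ≠ 1

namespace HIn

variable {Om : Set (Subgroup G)} {F : Type*} [Field F] [Fintype F] {E : Subgroup G} {π : E →* Y}
  (H : HIn cs h p T X R Z z Om F π)

include H

theorem eq_one_of_sq {a : E} (ha : π a = 1) (h2 : a * a = 1) : a = 1 := by
  have h1 : orderOf a ∣ Nat.card π.ker := Subgroup.orderOf_dvd_natCard π.ker (MonoidHom.mem_ker.2 ha)
  have h3 : orderOf a ∣ 2 := orderOf_dvd_of_pow_eq_one (by rw [pow_two, h2])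
  have h4 : orderOf a ∣ 1 := by
    rw [← Nat.Coprime.gcd_eq_one (Nat.coprime_two_left.2 H.odd)]
    exact Nat.dvd_gcd h3 h1
  exact orderOf_eq_one_iff.1 (Nat.dvd_one.1 h4)

/-- `π` is injective on the members -/
theorem inj {J : Subgroup G} (hJ : J ∈ Om) (hJE : J ≤ E) {a : E} (ha : (a : G) ∈ J) (h1 : π a = 1) : a = 1 := by
  obtain ⟨e⟩ := H.sl J hJ hJE
  have hc := H.cen a h1
  set b := e.symm ⟨a, ha⟩ with hb
  have hbc : b ∈ center (Matrix.SpecialLinearGroup (Fin 2) F) := by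
    rw [Subgroup.mem_center_iff]
    intro g
    apply e.injective
    rw [map_mul, map_mul, hb, MulEquiv.apply_symm_apply]
    refine Subtype.ext ?_
    exact (congrArg Subtype.val (hc ⟨e g, hJE (e g).2⟩)).symm
  have hbb : b * b = 1 := by
    obtain ⟨r, hr, he⟩ := Matrix.SpecialLinearGroup.mem_center_iff.1 hbc
    rw [Fintype.card_fin] at hr
    apply Matrix.SpecialLinearGroup.ext
    intro i j
    rw [Matrix.SpecialLinearGroup.coe_mul, ← he, ← map_mul, ← pow_two, hr, map_one,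
      Matrix.SpecialLinearGroup.coe_one]
  refine H.eq_one_of_sq h1 ?_
  have h2 : e (b * b) = 1 := by rw [hbb, map_one]
  rw [map_mul, hb, MulEquiv.apply_symm_apply] at h2
  exact Subtype.ext (congrArg (fun x : J => (x : G)) h2)

theorem zz_mem {J : Subgroup G} (hJ : J ∈ Om) (hJE : J ≤ E) : zz J ∈ J ∧ orderOf (zz J) = 2 := by
  obtain ⟨e⟩ := H.sl J hJ hJE
  refine zz_spec ⟨(e (-1) : G), (e (-1)).2, ?_⟩
  rw [Subgroup.orderOf_coe, MulEquiv.orderOf_eq]
  exact Cfsg.Agent.TwoFusion.QuatCoverSL.orderOf_neg_one H.Fodd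

/-- an element of a member over an involution is the involution -/
theorem eq_zz {J : Subgroup G} (hJ : J ∈ Om) (hJE : J ≤ E) {a : E} (ha : (a : G) ∈ J) (h1 : π a ≠ 1)
    (h2 : π a * π a = 1) : (a : G) = zz J := by
  have h3 : a * a = 1 := H.inj hJ hJE (a := a * a) (J.mul_mem ha ha) (by rw [map_mul, h2])
  refine H.hyp.uniq J hJ a ha (orderOf_eq_prime ?_ ?_)
  · rw [pow_two]
    exact congrArg Subtype.val h3
  · intro h4
    apply h1
    have : a = 1 := Subtype.ext h4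
    rw [this, map_one]

variable [Finite G]

/-- members with the same image are equal -/
theorem eq_of_map {J J' : Subgroup G} (hJ : J ∈ Om) (hJE : J ≤ E) (hJ' : J' ∈ Om) (hJE' : J' ≤ E)
    (he : (J.subgroupOf E).map π = (J'.subgroupOf E).map π) : J = J' := by
  obtain ⟨hz1, hz2⟩ := H.zz_mem hJ hJE
  have hzz : zz J * zz J = 1 := by rw [← pow_two, ← hz2]; exact pow_orderOf_eq_one _
  set t : E := ⟨zz J, hJE hz1⟩ with ht
  have htt : t * t = 1 := Subtype.ext hzz
  have htne : π t ≠ 1 := by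
    intro h1
    have h2 := H.inj hJ hJE (a := t) hz1 h1
    have h3 : zz J = 1 := congrArg Subtype.val h2
    rw [h3, orderOf_one] at hz2
    exact absurd hz2 (by norm_num)
  have h1 : π t ∈ (J'.subgroupOf E).map π := by
    rw [← he]; exact ⟨t, mem_subgroupOf.2 hz1, rfl⟩
  obtain ⟨b, hb, hbt⟩ := h1
  have hbJ : (b : G) ∈ J' := mem_subgroupOf.1 hb
  have h2 : (b : G) = zz J' := H.eq_zz hJ' hJE' hbJ (by rw [hbt]; exact htne) (by
    rw [hbt, ← map_mul, htt, map_one])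
  have hbb : b * b = 1 := H.inj hJ' hJE' (a := b * b) (J'.mul_mem hbJ hbJ) (by
    rw [map_mul, hbt, ← map_mul, htt, map_one])
  have h3 : π (b⁻¹ * t) = 1 := by rw [map_mul, map_inv, hbt, inv_mul_cancel]
  have h4 := H.cen _ h3
  have h5 : b⁻¹ * t = 1 := by
    refine H.eq_one_of_sq h3 ?_
    calc b⁻¹ * t * (b⁻¹ * t) = b⁻¹ * (t * (b⁻¹ * t)) := by group
      _ = b⁻¹ * ((b⁻¹ * t) * t) := by rw [h4]
      _ = (b * b)⁻¹ * (t * t) := by group
      _ = 1 := by rw [hbb, htt]; group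
  have h6 : zz J = zz J' := by
    rw [← h2]
    exact (congrArg Subtype.val (inv_mul_eq_one.1 h5)).symm
  rcases H.hyp.h2 J hJ J' hJ' h6 with h7 | h7
  · exact h7
  · exfalso
    obtain ⟨e⟩ := H.sl J hJ hJE
    rw [ParabSL2.OO_eq_bot H.Fodd e, bot_inf_eq, le_bot_iff, commutator_eq_bot_iff_le_centralizer] at h7
    have hL := ParabSL2.long_of_hyp H.hyp hJ H.Fodd e (ParabSL2.root_le e) (ParabSL2.card_root e)
    obtain ⟨k, hk, x, hx, hne⟩ := hL.not_central
    apply hne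
    have hxJ := ParabSL2.root_le e hx
    have h8 : π ⟨x, hJE hxJ⟩ ∈ (J'.subgroupOf E).map π := by
      rw [← he]; exact ⟨_, mem_subgroupOf.2 hxJ, rfl⟩
    obtain ⟨y, hy, hyx⟩ := h8
    have h9 : k * y = y * k := (mem_centralizer_iff.1 (h7 hk) y (mem_subgroupOf.1 hy)).symm
    have h10 : (⟨k, hJE hk⟩ : E) * y = y * ⟨k, hJE hk⟩ := Subtype.ext h9
    have h11 := congrArg π h10
    rw [map_mul, map_mul, hyx] at h11
    have h12 : ⁅(⟨k, hJE hk⟩ : E), (⟨x, hJE hxJ⟩ : E)⁆ = 1 := by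
      refine H.inj hJ hJE ?_ ?_
      · rw [commutatorElement_def]
        exact J.mul_mem (J.mul_mem (J.mul_mem hk hxJ) (J.inv_mem hk)) (J.inv_mem hxJ)
      · rw [map_commutatorElement, commutatorElement_def, h11]
        group
    exact congrArg Subtype.val (commutatorElement_eq_one_iff_mul_comm.1 h12)

/-- `J → image` -/
theorem exists_equiv {J : Subgroup G} (hJ : J ∈ Om) (hJE : J ≤ E) {P : Subgroup G} (hP : P ≤ J) :
    Nonempty (P ≃* ((P.subgroupOf E).map π : Subgroup Y)) := by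
  let f : P →* Y := π.comp (Subgroup.inclusion (hP.trans hJE))
  have hf : Function.Injective f := by
    rw [injective_iff_map_eq_one]
    intro a ha
    have h1 := H.inj hJ hJE (a := Subgroup.inclusion (hP.trans hJE) a) (hP a.2) ha
    exact Subtype.ext (congrArg (fun x : E => (x : G)) h1)
  have hr : f.range = (P.subgroupOf E).map π := by
    ext y
    constructor
    · rintro ⟨a, rfl⟩
      exact ⟨Subgroup.inclusion (hP.trans hJE) a, mem_subgroupOf.2 a.2, rfl⟩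
    · rintro ⟨a, ha, rfl⟩
      exact ⟨⟨a, mem_subgroupOf.1 ha⟩, rfl⟩
  exact ⟨(MonoidHom.ofInjective hf).trans (MulEquiv.subgroupCongr hr)⟩

variable [Finite Y] [Fact p.Prime] [CharP F p] (C : Cls cs h p T n X R Z z) (hp2 : p ≠ 2)

include C hp2

/-- **The structure `Prov`.** -/
theorem exists_prov : ∃ Kr Xr : (I → ℤ) → Subgroup G,
    (∀ r ∈ R, Kr r ∈ Om ∧ Kr r ≤ E ∧ ((Kr r).subgroupOf E).map π = Z r ⊔ Z (-r)) ∧
      Prov cs h p T X R Z z π Kr Xr (fun r => zz (Kr r)) := by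
  classical
  have hex : ∀ r, ∃ J : Subgroup G, r ∈ R → J ∈ Om ∧ J ≤ E ∧ (J.subgroupOf E).map π = Z r ⊔ Z (-r) := by
    intro r
    by_cases hr : r ∈ R
    · obtain ⟨J, hJ, h1, h2⟩ := H.ex r hr
      exact ⟨J, fun _ => ⟨hJ, h1, h2⟩⟩
    · exact ⟨⊥, fun h0 => absurd h0 hr⟩
  choose Kr hKr using hex
  let Xr : (I → ℤ) → Subgroup G := fun r => ((Z r).comap π).map E.subtype ⊓ Kr r
  have hXr : ∀ r (a : E), (a : G) ∈ Xr r ↔ π a ∈ Z r ∧ (a : G) ∈ Kr r := by
    intro r a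
    constructor
    · rintro ⟨⟨b, hb, he⟩, h2⟩
      have : b = a := Subtype.ext he
      subst this
      exact ⟨hb, h2⟩
    · rintro ⟨h1, h2⟩
      exact ⟨⟨a, h1, rfl⟩, h2⟩
  have hXmap : ∀ r ∈ R, ((Xr r).subgroupOf E).map π = Z r := by
    intro r hr
    obtain ⟨hK1, hK2, hK3⟩ := hKr r hr
    apply le_antisymm
    · rintro _ ⟨a, ha, rfl⟩
      exact ((hXr r a).1 (mem_subgroupOf.1 ha)).1
    · intro b hb
      have h1 : b ∈ ((Kr r).subgroupOf E).map π := by rw [hK3]; exact (le_sup_left : Z r ≤ _) hb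
      obtain ⟨a, ha, rfl⟩ := h1
      exact ⟨a, mem_subgroupOf.2 ((hXr r a).2 ⟨hb, mem_subgroupOf.1 ha⟩), rfl⟩
  have hXc : ∀ r ∈ R, Nat.card (Xr r) = Fintype.card F := by
    intro r hr
    obtain ⟨hK1, hK2, hK3⟩ := hKr r hr
    obtain ⟨e₁⟩ := H.exists_equiv hK1 hK2 (P := Xr r) inf_le_right
    obtain ⟨e₂⟩ := H.exists_equiv hK1 hK2 (P := Kr r) le_rfl
    obtain ⟨e⟩ := H.sl _ hK1 hK2
    rw [Nat.card_congr e₁.toEquiv, hXmap r hr]
    exact card_Z C hp2 hr ((e.trans e₂).trans (MulEquiv.subgroupCongr hK3))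
  refine ⟨Kr, Xr, hKr, ?_⟩
  exact {
    rng := H.rng
    cen := H.cen
    odd := H.odd
    long := fun r hr => by
      obtain ⟨hK1, hK2, hK3⟩ := hKr r hr
      obtain ⟨e⟩ := H.sl _ hK1 hK2
      exact ParabSL2.long_of_hyp H.hyp hK1 H.Fodd e inf_le_right (hXc r hr)
    le := fun r hr => (hKr r hr).2.1
    Xmap := hXmap
    zmap := fun r hr hz => by
      obtain ⟨hK1, hK2, hK3⟩ := hKr r hr
      have h1 : z r ∈ ((Kr r).subgroupOf E).map π := by rw [hK3]; exact C.z_mem r hr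
      obtain ⟨a, ha, hae⟩ := h1
      have h2 := H.eq_zz hK1 hK2 (a := a) (mem_subgroupOf.1 ha) (by rw [hae]; exact H.z_ne r hr) (by
        rw [hae, C.z_sq r hr])
      have h3 : (⟨zz (Kr r), hz⟩ : E) = a := Subtype.ext h2.symm
      rw [h3, hae]
    Xinj := fun r hr a ha h1 => H.inj (hKr r hr).1 (hKr r hr).2.1 ((hXr r a).1 ha).2 h1
    good := fun r hr => H.good _ (hKr r hr).1 (hKr r hr).2.1 _ inf_le_right (hXc r hr)
    nor := fun r hr g h1 h2 => by
      obtain ⟨hK1, hK2, hK3⟩ := hKr r hr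
      -- `g` normalises `Kr r`
      have hgK : cj (g : G) (Kr r) = Kr r := by
        refine H.eq_of_map (H.hyp.conj _ hK1 g) ?_ hK1 hK2 ?_
        · intro x hx
          rw [mem_cj] at hx
          have h3 : x = g * ((g : G)⁻¹ * x * g) * (g : G)⁻¹ := by group
          rw [h3]
          exact E.mul_mem (E.mul_mem g.2 (hK2 hx)) (E.inv_mem g.2)
        · rw [hK3]
          have key : ∀ y : Y, y ∈ Z r ⊔ Z (-r) ↔ π g * y * (π g)⁻¹ ∈ Z r ⊔ Z (-r) := by
            have h4 : π g ∈ normalizer ((Z r ⊔ Z (-r) : Subgroup Y) : Set Y) := by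
              rw [mem_normalizer_iff_cj] at h1 h2 ⊢
              rw [cj_sup, h1, h2]
            exact fun y => mem_normalizer_iff.1 h4 y
          ext y
          constructor
          · rintro ⟨a, ha, rfl⟩
            replace ha : (a : G) ∈ cj (g : G) (Kr r) := mem_subgroupOf.1 ha
            rw [mem_cj] at ha
            have h4 : π (g⁻¹ * a * g) ∈ ((Kr r).subgroupOf E).map π := ⟨_, mem_subgroupOf.2 ha, rfl⟩
            rw [hK3, key, map_mul, map_mul, map_inv] at h4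
            have h5 : π g * ((π g)⁻¹ * π a * π g) * (π g)⁻¹ = π a := by group
            rwa [h5] at h4
          · intro hy
            have h4 : y = π g * ((π g)⁻¹ * y * π g) * (π g)⁻¹ := by group
            rw [h4, ← key, ← hK3] at hy
            obtain ⟨a, ha, hae⟩ := hy
            refine ⟨g * a * g⁻¹, mem_subgroupOf.2 (conj_mem_cj (mem_subgroupOf.1 ha)), ?_⟩
            rw [map_mul, map_mul, map_inv, hae]
            group
      refine Parab.cj_eq_of_conj_mem fun x hx => ?_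
      have hxE : x ∈ E := hK2 hx.2
      have h3 := (hXr r ⟨x, hxE⟩).1 hx
      have h4 : (g : G) * x * (g : G)⁻¹ ∈ Kr r := by
        rw [← hgK]; exact conj_mem_cj hx.2
      exact (hXr r (g * ⟨x, hxE⟩ * g⁻¹)).2 ⟨by
        rw [map_mul, map_mul, map_inv]
        exact (mem_normalizer_iff.1 h1 _).1 h3.1, h4⟩ }

/-- **(EX-3)** -/
theorem not_dvd_card_ker (hirr : ∀ J : Set I, J.Nonempty → J ≠ Set.univ → ∃ a ∈ J, ∃ b, b ∉ J ∧ M a b ≠ 2)
    (hR : R.Nonempty) (hE : ⁅E, E⁆ = E) : ¬ p ∣ Nat.card π.ker := by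
  obtain ⟨Kr, Xr, -, P⟩ := H.exists_prov C hp2
  exact P.not_dvd_card_ker C hp2 hirr hR hE

end HIn

end Cfsg.Agent.Cit.ExactHyp
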