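import Cfsg.Agent.Cit.TPieces
import Cfsg.Agent.Nodes.ClsLift

/-!
# THEOREM T: charts and pieces lift through central extensions

* `Chart.restrict'`, `Piece.restrict'` : the chart (piece) `D` of `G` as a chart (piece) of the group `↥D`;
* `Chart.lift'`, `Piece.lift'` : lifting through a central extension by a 2-group.
-/

set_option autoImplicit false
set_option linter.unusedSectionVars false
set_option linter.style.haveILetI false

namespace Cfsg.Agent.Cit

open Subgroup Cfsg Cfsg.Agent.Nodes.Chart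

/-! ### Restriction -/

section Restrict

variable {G : Type*} [Group G] {Om : Set (Subgroup G)} {p : ℕ} {D : Subgroup G}

theorem chart_X_le (c : Chart Om p D) {x : c.I → ℤ} (hx : Tits.Roots.IsRoot c.cs c.h x) : c.X x ≤ D :=
  (Nodes.RGDLib.X_le_G1 hx).trans c.gen.le

theorem chart_n_mem (c : Chart Om p D) (i : c.I) : c.n i ∈ D := by
  have R := c.cls.rgd
  have h1 : c.X (-Tits.Roots.sr i) ≠ ⊥ := by
    intro h0
    apply R.notp i
    rw [h0, sup_bot_eq]
    exact R.pgrp i
  obtain ⟨u, hu, hu1⟩ := (Subgroup.bot_or_exists_ne_one (c.X (-Tits.Roots.sr i))).resolve_left h1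
  obtain ⟨a, ha, t, ht, b, hb, e⟩ := R.rk1 i u hu hu1
  have haD := chart_X_le c (Tits.Roots.isRoot_sr c.cs c.h i) ha
  have hbD := chart_X_le c (Tits.Roots.isRoot_sr c.cs c.h i) hb
  have huD := chart_X_le c (Tits.Roots.isRoot_sr c.cs c.h i).neg hu
  have h2 : c.n i = t⁻¹ * a⁻¹ * u * b⁻¹ := by rw [e]; group
  rw [h2]
  exact mul_mem (mul_mem (mul_mem (inv_mem (c.T_le ht)) (inv_mem haD)) huD) (inv_mem hbD)

open Classical in
/-- the chart `D` of `G` as a chart of the group `↥D` -/
noncomputable def Chart.restrict' (c : Chart Om p D) : Chart (restr Om D) p (⊤ : Subgroup D) where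
  prime := c.prime
  odd := c.odd
  I := c.I
  W := c.W
  M := c.M
  cs := c.cs
  A := c.A
  h := c.h
  T := c.T.subgroupOf D
  n := fun i => ⟨c.n i, chart_n_mem c i⟩
  X := fun x => (c.X x).subgroupOf D
  R := c.R
  Z := fun x => (c.Z x).subgroupOf D
  z := fun x => if h : c.z x ∈ D then ⟨c.z x, h⟩ else 1
  cls := by
    refine Nodes.ClsMap.cls_restrict c.cls D (fun x hx => chart_X_le c hx) (chart_n_mem c) _ ?_
    intro r hr
    have h1 : c.z r ∈ D := le_chart c hr (c.cls.z_mem r hr)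
    rw [dif_pos h1]
  irr := c.irr
  ne := c.ne
  T_le := le_top
  gen := by
    have h1 : (Nodes.RGDLib.G1 c.cs c.h c.X).subgroupOf D = ⊤ := by
      rw [c.gen]
      exact subgroupOf_self D
    rw [← h1]
    unfold Nodes.RGDLib.G1 Nodes.BNOf.RGD.Sup
    rw [Nodes.RGDLib.iSup_subgroupOf]
    exact fun x => chart_X_le c x.2
  trans := c.trans
  Rne := c.Rne
  om := fun r hr => by
    have h1 := le_chart c hr
    rw [← subgroupOf_sup (le_sup_left.trans h1) (le_sup_right.trans h1)]
    exact subgroupOf_mem_restr (c.om r hr) h1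
  om_conj := fun K hK _ => by
    have hKD : K.map D.subtype ≤ D := map_subtype_le K
    obtain ⟨r, hr, g, hg, e⟩ := c.om_conj _ hK hKD
    refine ⟨r, hr, ⟨g, hg⟩, mem_top _, ?_⟩
    have h1 := le_chart c hr
    rw [← subgroupOf_sup (le_sup_left.trans h1) (le_sup_right.trans h1)]
    apply Subgroup.map_injective D.subtype_injective
    rw [← Nodes.RGDLib.cj_map, map_subgroupOf_eq_of_le h1, e]
    rfl

theorem map_subtype_mem_iff {K : Subgroup D} : K.map D.subtype ∈ Om ↔ K ∈ restr Om D := Iff.rfl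

/-- the piece `D` of `G` as a piece of the group `↥D` -/
theorem Piece.restrict' [Finite G] (hOm : Hyp Om) (h : Piece Om D) : Piece (restr Om D) (⊤ : Subgroup D) := by
  let e : ↥D ≃* ↥(⊤ : Subgroup D) := topEquiv.symm
  have hmap : (⊤ : Subgroup D).map D.subtype = D := by
    rw [← MonoidHom.range_eq_map, range_subtype]
  cases h with
  | single mem =>
    refine Piece.single ?_
    change (⊤ : Subgroup D).map D.subtype ∈ Om
    rwa [hmap]
  | chart nmem qs two p c τ kind ok small sl zx =>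
    refine Piece.chart ?_ (SignalizersComponents.LayerBasic.quasisimple_congr e qs)
      (isPGroup_center_congr e two) p (Chart.restrict' c) τ kind ok
      (fun hI => OddHalf.Known.isLieTypeChar_congr (centerQuotEquiv e) (small hI)) ?_ ?_
    · intro h
      apply nmem
      have h1 : (⊤ : Subgroup D).map D.subtype ∈ Om := h
      rwa [hmap] at h1
    · obtain ⟨F, i1, i2, i3, h2⟩ := sl
      refine ⟨F, i1, i2, i3, fun r hr => ?_⟩
      obtain ⟨g⟩ := h2 r hr
      have h3 := le_chart c hr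
      exact ⟨g.trans ((subgroupOfEquivOfLe h3).symm.trans
        (MulEquiv.subgroupCongr (subgroupOf_sup (le_sup_left.trans h3) (le_sup_right.trans h3))))⟩
    · rcases zx with h2 | h2
      · exact Or.inl fun r hr => congrArg (fun S => Subgroup.subgroupOf S D) (h2 r hr)
      · exact Or.inr h2
  | exc qs two p prime odd iso ne zzc three =>
    refine Piece.exc (SignalizersComponents.LayerBasic.quasisimple_congr e qs)
      (isPGroup_center_congr e two) p prime odd (iso.congr (centerQuotEquiv e)) ?_ ?_ ?_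
    · obtain ⟨K, hK, hKD⟩ := ne
      exact ⟨K.subgroupOf D, subgroupOf_mem_restr hK hKD, le_top⟩
    · intro K hK J hJ _ _ hne hc d _
      apply Subtype.ext
      change ((zz K : D) : G) * ((zz J : D) : G) * d = d * (((zz K : D) : G) * ((zz J : D) : G))
      rw [zz_map hOm hK, zz_map hOm hJ]
      refine zzc _ hK _ hJ (map_subtype_le K) (map_subtype_le J)
        (fun h => hne (Subgroup.map_injective D.subtype_injective h)) ?_ _ d.2
      exact (map_le_centralizer_map D.subtype_injective).2 hc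
    · intro K hK J hJ M hM _ _ _ hKJ hKM hJM
      rcases three _ hK _ hJ _ hM (map_subtype_le K) (map_subtype_le J) (map_subtype_le M)
        ((map_le_centralizer_map D.subtype_injective).2 hKJ)
        ((map_le_centralizer_map D.subtype_injective).2 hKM)
        ((map_le_centralizer_map D.subtype_injective).2 hJM) with h | h | h
      · exact Or.inl (Subgroup.map_injective D.subtype_injective h)
      · exact Or.inr (Or.inl (Subgroup.map_injective D.subtype_injective h))
      · exact Or.inr (Or.inr (Subgroup.map_injective D.subtype_injective h))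
  | mathieu qs two iso ne mem =>
    refine Piece.mathieu (SignalizersComponents.LayerBasic.quasisimple_congr e qs)
      (isPGroup_center_congr e two) ?_ ?_ ?_
    · obtain ⟨g⟩ := iso
      exact ⟨(centerQuotEquiv e).symm.trans g⟩
    · obtain ⟨K, hK, hKD⟩ := ne
      exact ⟨K.subgroupOf D, subgroupOf_mem_restr hK hKD, le_top⟩
    · intro K hK _
      obtain ⟨g⟩ := mem _ hK (map_subtype_le K)
      let e' : ↥(K.map D.subtype) ≃* ↥K := (K.equivMapOfInjective _ D.subtype_injective).symm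
      have hk : ¬ 2 ∣ Nat.card e'.toMonoidHom.ker := not_two_dvd_ker_of_injective _ e'.injective
      exact ⟨(quotEquiv e'.toMonoidHom e'.surjective hk).symm.trans g⟩

end Restrict

/-! ### Lifting through central 2-extensions -/

section Lift

variable {H Y : Type*} [Group H] [Finite H] [Group Y] {f : H →* Y}

/-- a group generated by elements of odd order, contained in `N` modulo a central 2-subgroup, is contained in `N` -/
theorem le_of_map_le (hf : f.ker ≤ center H) (h2 : IsPGroup 2 f.ker) {K N : Subgroup H} (hK : TyTwo K)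
    (h : K.map f ≤ N.map f) : K ≤ N := by
  refine hK.trans ((closure_le _).2 ?_)
  rintro c ⟨hc, hodd⟩
  obtain ⟨n, hn, hnc⟩ := h (mem_map_of_mem f hc)
  have h1 : n⁻¹ * c ∈ f.ker := by
    rw [MonoidHom.mem_ker, map_mul, map_inv, hnc, inv_mul_cancel]
  obtain ⟨k, hk⟩ := h2 ⟨_, h1⟩
  have hk' : (n⁻¹ * c) ^ 2 ^ k = 1 := congrArg Subtype.val hk
  have h3 : Commute n (n⁻¹ * c) := mem_center_iff.1 (hf h1) n
  have h4 : c ^ 2 ^ k = n ^ 2 ^ k := by
    have h5 : c = n * (n⁻¹ * c) := by group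
    rw [h5, h3.mul_pow, hk', mul_one]
  -- `c ∈ ⟨c ^ 2 ^ k⟩`
  have h5 : (orderOf c).Coprime (2 ^ k) := (Nat.coprime_two_right.2 hodd).pow_right k
  obtain ⟨m, hm⟩ := exists_pow_eq_self_of_coprime (x := c) h5.symm
  rw [SetLike.mem_coe, ← hm, h4]
  exact N.pow_mem (N.pow_mem hn _) _

variable {Om : Set (Subgroup H)}

/-- members with the same image are equal -/
theorem eq_of_map_eq (hf : f.ker ≤ center H) (h2 : IsPGroup 2 f.ker) {K J : Subgroup H} (hK : TyTwo K)
    (hJ : TyTwo J) (h : K.map f = J.map f) : K = J :=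
  le_antisymm (le_of_map_le hf h2 hK h.le) (le_of_map_le hf h2 hJ h.ge)

theorem eq_one_of_inf {K : Subgroup H} (h : K ⊓ f.ker = ⊥) {x : H} (hx : x ∈ K) (h1 : f x = 1) : x = 1 := by
  have h2 : x ∈ K ⊓ f.ker := ⟨hx, h1⟩
  rwa [h, mem_bot] at h2

theorem coprime_of_two {p : ℕ} (hp : p.Prime) (hp2 : p ≠ 2) (h2 : IsPGroup 2 f.ker) :
    (Nat.card f.ker).Coprime p := by
  haveI : Fact (Nat.Prime 2) := ⟨Nat.prime_two⟩
  obtain ⟨n, hn⟩ := IsPGroup.iff_card.1 h2
  rw [hn]
  exact Nat.Coprime.pow_left n ((Nat.coprime_primes Nat.prime_two hp).2 (Ne.symm hp2))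

section Chart

variable {p : ℕ} (c : Chart (img f Om) p (⊤ : Subgroup Y)) (hs : Function.Surjective f)
  (hf : f.ker ≤ center H) (h2 : IsPGroup 2 f.ker) (hinf : ∀ K ∈ Om, K ⊓ f.ker = ⊥)

include hs hf h2 hinf

/-- the member over `K_r` is generated by the lifts of the root groups -/
theorem exists_lift_K {r : c.I → ℤ} (hr : r ∈ c.R) : ∃ J ∈ Om, J.map f = c.Z r ⊔ c.Z (-r) ∧
    Nodes.RGDLift.lft p f (c.Z r) ⊔ Nodes.RGDLift.lft p f (c.Z (-r)) = J := by
  haveI : Fact p.Prime := ⟨c.prime⟩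
  have hp := coprime_of_two c.prime c.odd h2
  obtain ⟨J, hJ, e⟩ := c.om r hr
  have hr' := Nodes.ClsMap.neg_mem c.cls hr
  have key : ∀ s ∈ c.R, c.Z s ≤ J.map f → Nodes.RGDLift.lft p f (c.Z s) ≤ J := by
    intro s hs' hle
    have hP := Nodes.ClsMap.isPGroup_Z c.cls hs'
    have h3 : (J ⊓ (c.Z s).comap f).map f = c.Z s := by
      apply le_antisymm
      · rintro _ ⟨x, hx, rfl⟩
        exact hx.2
      · intro y hy
        obtain ⟨x, hx, rfl⟩ := hle hy
        exact ⟨x, ⟨hx, hy⟩, rfl⟩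
    have h4 : IsPGroup p ↥(J ⊓ (c.Z s).comap f) := by
      intro x
      obtain ⟨k, hk⟩ := hP ⟨f x, x.2.2⟩
      refine ⟨k, Subtype.ext ?_⟩
      refine eq_one_of_inf (hinf J hJ) (J.pow_mem x.2.1 _) ?_
      change f ((x : H) ^ p ^ k) = 1
      rw [map_pow]
      exact congrArg Subtype.val hk
    rw [← Nodes.RGDLift.eq_lft hf hp hP h4 h3]
    exact inf_le_left
  have h1 : Nodes.RGDLift.lft p f (c.Z r) ⊔ Nodes.RGDLift.lft p f (c.Z (-r)) ≤ J :=
    sup_le (key r hr (le_sup_left.trans e.ge)) (key _ hr' (le_sup_right.trans e.ge))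
  refine ⟨J, hJ, e, le_antisymm h1 fun x hx => ?_⟩
  have h5 : f x ∈ (Nodes.RGDLift.lft p f (c.Z r) ⊔ Nodes.RGDLift.lft p f (c.Z (-r))).map f := by
    rw [Subgroup.map_sup, Nodes.RGDLift.map_lft hf hp hs (Nodes.ClsMap.isPGroup_Z c.cls hr),
      Nodes.RGDLift.map_lft hf hp hs (Nodes.ClsMap.isPGroup_Z c.cls hr'), ← e]
    exact mem_map_of_mem f hx
  obtain ⟨y, hy, hyx⟩ := h5
  have h6 := eq_one_of_inf (hinf J hJ) (J.mul_mem (J.inv_mem hx) (h1 hy)) (by
    rw [map_mul, map_inv, hyx, inv_mul_cancel])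
  rw [inv_mul_eq_one.1 h6]
  exact hy

theorem exists_cls_lift : ∃ (n : c.I → H) (z : (c.I → ℤ) → H),
    Cls c.cs c.h p (c.T.comap f) n (fun x => Nodes.RGDLift.lft p f (c.X x)) c.R
      (fun x => Nodes.RGDLift.lft p f (c.Z x)) z := by
  haveI : Fact p.Prime := ⟨c.prime⟩
  have hp := coprime_of_two c.prime c.odd h2
  choose n hn using fun i => hs (c.n i)
  obtain ⟨z, hz, -⟩ := Nodes.ClsLift.cls_lift hf hp hs c.cls hn (by
    intro r hr y hy h1
    obtain ⟨J, hJ, -, e⟩ := exists_lift_K c hs hf h2 hinf hr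
    rw [e] at hy
    exact eq_one_of_inf (hinf J hJ) hy h1)
  exact ⟨n, z, hz⟩

end Chart

/-- the chart lifts to a perfect central 2-extension -/
noncomputable def Chart.lift' {p : ℕ} (c : Chart (img f Om) p (⊤ : Subgroup Y)) (hs : Function.Surjective f)
    (hf : f.ker ≤ center H) (h2 : IsPGroup 2 f.ker) (hinf : ∀ K ∈ Om, K ⊓ f.ker = ⊥)
    (hT : ∀ K ∈ Om, TyTwo K) (hP : Group.IsPerfect H) (hcj : ∀ K ∈ Om, ∀ g, cj g K ∈ Om) :
    Chart Om p (⊤ : Subgroup H) where
  prime := c.prime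
  odd := c.odd
  I := c.I
  W := c.W
  M := c.M
  cs := c.cs
  A := c.A
  h := c.h
  T := c.T.comap f
  n := (exists_cls_lift c hs hf h2 hinf).choose
  X := fun x => Nodes.RGDLift.lft p f (c.X x)
  R := c.R
  Z := fun x => Nodes.RGDLift.lft p f (c.Z x)
  z := (exists_cls_lift c hs hf h2 hinf).choose_spec.choose
  cls := (exists_cls_lift c hs hf h2 hinf).choose_spec.choose_spec
  irr := c.irr
  ne := c.ne
  T_le := le_top
  gen := by
    haveI : Fact p.Prime := ⟨c.prime⟩
    have hp := coprime_of_two c.prime c.odd h2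
    set G1 := Nodes.RGDLib.G1 c.cs c.h (fun x => Nodes.RGDLift.lft p f (c.X x)) with hG1
    have h1 : G1.map f = ⊤ := by
      rw [← c.gen, hG1]
      unfold Nodes.RGDLib.G1 Nodes.BNOf.RGD.Sup
      rw [Subgroup.map_iSup]
      exact iSup_congr fun x => Nodes.RGDLift.map_lft hf hp hs (c.cls.rgd.pgrp' x.2)
    have h3 : G1 ⊔ f.ker = ⊤ := by
      rw [← Subgroup.comap_map_eq, h1, Subgroup.comap_top]
    have h4 : G1.Normal := by
      refine ⟨fun x hx g => ?_⟩
      have hg : g ∈ G1 ⊔ f.ker := by rw [h3]; exact mem_top g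
      obtain ⟨a, ha, b, hb, rfl⟩ := LB.exists_mul_of_mem_sup
        (hf.trans (center_le_normalizer _)) hg
      have h5 := mem_center_iff.1 (hf hb) x
      have h6 : a * b * x * (a * b)⁻¹ = a * x * a⁻¹ := by
        rw [mul_assoc a b x, ← h5]; group
      rw [h6]
      exact G1.mul_mem (G1.mul_mem ha hx) (G1.inv_mem ha)
    have h5 : commutator H ≤ G1 := by
      haveI : IsMulCommutative f.ker := ⟨⟨fun a b => Subtype.ext (mem_center_iff.1 (hf b.2) a)⟩⟩
      exact Subgroup.Normal.commutator_le_of_self_sup_commutative_eq_top h3 inferInstance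
    rw [hP.commutator_eq_top] at h5
    exact top_le_iff.1 h5
  trans := c.trans
  Rne := c.Rne
  om := fun r hr => by
    obtain ⟨J, hJ, -, e⟩ := exists_lift_K c hs hf h2 hinf hr
    change Nodes.RGDLift.lft p f (c.Z r) ⊔ Nodes.RGDLift.lft p f (c.Z (-r)) ∈ Om
    rw [e]; exact hJ
  om_conj := fun K hK _ => by
    obtain ⟨r, hr, g', -, e⟩ := c.om_conj _ ⟨K, hK, rfl⟩ le_top
    obtain ⟨g, rfl⟩ := hs g'
    obtain ⟨J, hJ, e1, e2⟩ := exists_lift_K c hs hf h2 hinf hr
    refine ⟨r, hr, g, mem_top _, ?_⟩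
    rw [e2]
    refine eq_of_map_eq hf h2 (hT K hK) (hT _ (hcj J hJ g)) ?_
    rw [e, ← e1, Nodes.RGDLib.cj_map]

/-- a member with `K ⊓ ker f = 1` is mapped isomorphically -/
noncomputable def mapEquivOfInf {K : Subgroup H} (hK : K ⊓ f.ker = ⊥) : ↥K ≃* ↥(K.map f) :=
  MulEquiv.ofBijective (f.subgroupMap K) ⟨by
    rw [injective_iff_map_eq_one]
    intro x hx
    exact Subtype.ext (eq_one_of_inf hK x.2 (congrArg Subtype.val hx)), f.subgroupMap_surjective K⟩

theorem zz_map_of_inf (hOm : Hyp Om) {K : Subgroup H} (hKO : K ∈ Om) (hK : K ⊓ f.ker = ⊥) :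
    zz (K.map f) = f (zz K) := by
  have h1 : ∃ t ∈ K.map f, orderOf t = 2 := by
    refine ⟨f (zz K), mem_map_of_mem f (hOm.zz_mem hKO), orderOf_eq_prime ?_ ?_⟩
    · rw [← map_pow, pow_two, hOm.zz_mul hKO, map_one]
    · intro h0
      exact hOm.zz_ne hKO (eq_one_of_inf hK (hOm.zz_mem hKO) h0)
  obtain ⟨⟨x, hx, hxz⟩, h3⟩ := zz_spec h1
  have h4 : f (x * x) = 1 := by
    rw [map_mul, hxz, ← pow_two, ← h3, pow_orderOf_eq_one]
  have h5 := eq_one_of_inf hK (K.mul_mem hx hx) h4
  rw [← hxz, hOm.eq_zz hKO hx h5]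
  rintro rfl
  rw [map_one] at hxz
  rw [← hxz, orderOf_one] at h3
  omega

theorem isT_of_map {K : Subgroup H} (hK : K ⊓ f.ker = ⊥) (h : SolvTwo.IsT (K.map f)) : SolvTwo.IsT K := by
  obtain ⟨g⟩ := h
  let e' : ↥K ≃* ↥(K.map f) := mapEquivOfInf hK
  have hk : ¬ 2 ∣ Nat.card e'.toMonoidHom.ker := not_two_dvd_ker_of_injective _ e'.injective
  exact ⟨(quotEquiv e'.toMonoidHom e'.surjective hk).trans g⟩

theorem map_le_centralizer {K J : Subgroup H} (h : K ≤ centralizer (J : Set H)) :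
    K.map f ≤ centralizer (J.map f : Set Y) := by
  rintro _ ⟨x, hx, rfl⟩ _ ⟨y, hy, rfl⟩
  have h1 := h hx y hy
  rw [← map_mul, ← map_mul, h1]

/-- **pieces lift through the central extension `H → H / Z(H)`, `Z(H)` a 2-group, `H` quasisimple** -/
theorem Piece.lift' (hs : Function.Surjective f) (hker : f.ker = center H) (h2 : IsPGroup 2 (center H))
    (hq : IsQuasisimple H) (hOm : Hyp Om) (hT : ∀ K ∈ Om, TyTwo K) (hinf : ∀ K ∈ Om, K ⊓ f.ker = ⊥)
    (hns : (⊤ : Subgroup Y) ∉ img f Om) (h : Piece (img f Om) (⊤ : Subgroup Y)) :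
    Piece Om (⊤ : Subgroup H) := by
  have h2' : IsPGroup 2 f.ker := by rw [hker]; exact h2
  let e1 : H ⧸ center H ≃* Y :=
    (QuotientGroup.quotientMulEquivOfEq hker.symm).trans (QuotientGroup.quotientKerEquivOfSurjective f hs)
  have hcY : center Y = ⊥ := by
    haveI : IsSimpleGroup (H ⧸ center H) := hq.2
    haveI : IsSimpleGroup Y := e1.symm.isSimpleGroup
    rcases (inferInstance : (center Y).Normal).eq_bot_or_eq_top with h0 | h0
    · exact h0
    · exfalso
      have h3 : commutator Y = ⊤ := by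
        haveI := hq.1
        exact (Group.IsPerfect.ofSurjective (f := f) hs).commutator_eq_top
      have h4 : commutator Y = ⊥ := by
        rw [_root_.commutator_def, eq_bot_iff, commutator_le]
        intro a _ b _
        have ha : a ∈ center Y := by rw [h0]; exact mem_top a
        rw [mem_bot, commutatorElement_eq_one_iff_mul_comm]
        exact (mem_center_iff.1 ha b).symm
      rw [h4] at h3
      exact bot_ne_top h3
  let e2 : Y ⧸ center Y ≃* Y := (QuotientGroup.quotientMulEquivOfEq hcY).trans QuotientGroup.quotientBot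
  let eT : ↥(⊤ : Subgroup H) ≃* H := topEquiv
  let e : (↥(⊤ : Subgroup Y) ⧸ center ↥(⊤ : Subgroup Y)) ≃* (↥(⊤ : Subgroup H) ⧸ center ↥(⊤ : Subgroup H)) :=
    (((centerQuotEquiv topEquiv).trans e2).trans e1.symm).trans (centerQuotEquiv eT.symm)
  have hqT : IsQuasisimple ↥(⊤ : Subgroup H) :=
    SignalizersComponents.LayerBasic.quasisimple_congr eT.symm hq
  have h2T : IsPGroup 2 (center ↥(⊤ : Subgroup H)) := isPGroup_center_congr eT.symm h2
  have hinj : ∀ K ∈ Om, ∀ J ∈ Om, K.map f = J.map f → K = J := fun K hK J hJ h =>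
    eq_of_map_eq hker.le h2' (hT K hK) (hT J hJ) h
  cases h with
  | single mem => exact absurd mem hns
  | chart nmem qs two p c τ kind ok small sl zx =>
    refine Piece.chart ?_ hqT h2T p (Chart.lift' c hs hker.le h2' hinf hT hq.1 hOm.conj) τ kind ok
      (fun hI => OddHalf.Known.isLieTypeChar_congr e (small hI)) ?_ ?_
    · intro h
      apply hns
      refine ⟨⊤, h, ?_⟩
      rw [← MonoidHom.range_eq_map, MonoidHom.range_eq_top.2 hs]
    · obtain ⟨F, i1, i2, i3, h3⟩ := sl
      refine ⟨F, i1, i2, i3, fun r hr => ?_⟩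
      obtain ⟨g⟩ := h3 r hr
      obtain ⟨J, hJ, e3, e4⟩ := exists_lift_K c hs hker.le h2' hinf hr
      exact ⟨g.trans ((MulEquiv.subgroupCongr e3).symm.trans
        ((mapEquivOfInf (hinf J hJ)).symm.trans (MulEquiv.subgroupCongr e4.symm)))⟩
    · rcases zx with h3 | h3
      · exact Or.inl fun r hr => congrArg (Nodes.RGDLift.lft p f) (h3 r hr)
      · exact Or.inr h3
  | exc qs two p prime odd iso ne zzc three =>
    refine Piece.exc hqT h2T p prime odd (iso.congr e) ?_ ?_ ?_
    · obtain ⟨_, ⟨K, hK, rfl⟩, -⟩ := ne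
      exact ⟨K, hK, le_top⟩
    · intro K hK J hJ _ _ hne hc d _
      have h3 := zzc _ ⟨K, hK, rfl⟩ _ ⟨J, hJ, rfl⟩ le_top le_top (fun h => hne (hinj K hK J hJ h))
        (map_le_centralizer hc)
      rw [zz_map_of_inf hOm hK (hinf K hK), zz_map_of_inf hOm hJ (hinf J hJ), ← map_mul] at h3
      have h4 : f (zz K * zz J) ∈ center Y := by
        rw [mem_center_iff]
        exact fun y => (h3 y (mem_top y)).symm
      rw [hcY, mem_bot] at h4
      have h5 : zz K * zz J ∈ center H := by rw [← hker]; exact h4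
      exact (mem_center_iff.1 h5 d).symm
    · intro K hK J hJ M hM _ _ _ hKJ hKM hJM
      rcases three _ ⟨K, hK, rfl⟩ _ ⟨J, hJ, rfl⟩ _ ⟨M, hM, rfl⟩ le_top le_top le_top
        (map_le_centralizer hKJ) (map_le_centralizer hKM) (map_le_centralizer hJM) with h | h | h
      · exact Or.inl (hinj K hK J hJ h)
      · exact Or.inr (Or.inl (hinj K hK M hM h))
      · exact Or.inr (Or.inr (hinj J hJ M hM h))
  | mathieu qs two iso ne mem =>
    refine Piece.mathieu hqT h2T ?_ ?_ ?_
    · obtain ⟨g⟩ := iso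
      exact ⟨e.symm.trans g⟩
    · obtain ⟨_, ⟨K, hK, rfl⟩, -⟩ := ne
      exact ⟨K, hK, le_top⟩
    · intro K hK _
      exact isT_of_map (hinf K hK) (mem _ ⟨K, hK, rfl⟩ le_top)

end Lift

end Cfsg.Agent.Cit
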