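import Mathlib
import Cfsg.Agent.Cit.PieceLoc
import Cfsg.Agent.Cit.ExactHyp
import Cfsg.Agent.Nodes.DerVV
import Cfsg.Agent.Nodes.ChartLift
import Cfsg.Agent.Nodes.ChartMap
import Cfsg.Agent.Cit.TLift

/-!
# Exactness: the charts of the pieces of `C(s)/O(C(s))` lift to charts of subgroups of `G` (project CIT, (EX'))

* `le_DL_of_bar` : members over the piece `D'` lie in its lift `DL Om H D'`.
-/

set_option autoImplicit false
set_option linter.dupNamespace false
set_option linter.style.haveILetI false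
set_option linter.unusedSectionVars false

namespace Cfsg.Agent.Cit.ExactChart

open Subgroup Cfsg Cfsg.Agent.Cit.UseT Cfsg.Agent.Cit.PieceLift Cfsg.Agent.Cit.PieceG
open Cfsg.Agent.Nodes.Chart Cfsg.Agent.Cit.FrameOf Cfsg.Agent.Cit.ParabSL2 Cfsg.Agent.Cit.Parab
open Cfsg.Agent.Lib.SL2Mat
open scoped commutatorElement

/-! ### The abstract steps -/

section VV

open CoxeterSystem Cfsg.Agent.ChevalleyStructure.CoxeterGeom Cfsg.Agent.Tits.Roots Cfsg.Agent.Tits.Core
  Cfsg.Agent.Tits.RootComb Cfsg.Agent.Nodes.Comb Cfsg.Agent.Nodes.BNOf Cfsg.Agent.Nodes.Bruhat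
  Cfsg.Agent.Nodes.ChartLoc

variable {I W Y : Type*} [Fintype I] [DecidableEq I] [Group W] [Fintype W] [Group Y] {M : CoxeterMatrix I}
  {cs : CoxeterSystem M W} {A : I → I → ℤ} {h : IsCartan M A} {p : ℕ} {T : Subgroup Y} {n : I → Y}
  {X : (I → ℤ) → Subgroup Y} {R : Set (I → ℤ)} {Z : (I → ℤ) → Subgroup Y} {z : (I → ℤ) → Y}
  (C : Cls cs h p T n X R Z z) (hp2 : p ≠ 2)

include C hp2

/-- `VV r` is generated by `Z r` and the commutators with `z r`. -/
theorem VV_le_of [Fact p.Prime] {r : I → ℤ} (hr : r ∈ R) {S : Subgroup Y} (h1 : Z r ≤ S)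
    (h2 : ∀ a ∈ VV cs h X r, ⁅a, z r⁆ ∈ S) : VV cs h X r ≤ S := by
  refine RGD.Sup_le ?_
  rintro y ⟨hy, hyr⟩ a ha
  have hav : a ∈ VV cs h X r := RGD.le_Sup (S := {y | IsRoot cs h y ∧ 0 < form cs h y r}) ⟨hy, hyr⟩ ha
  have hzz := C.z_sq r hr
  have hz' : (z r)⁻¹ = z r := inv_eq_of_mul_eq_one_right hzz
  have h3 := h2 a hav
  refine mem_of_odd_sq C hp2 (odd_of_mem_X C hp2 hy ha) ?_
  by_cases hyr' : y = r
  · subst hyr'
    have h4 := C.z_inv_self y hr a ha
    have h5 : a * a = ⁅a, z y⁆ * (z y * a * z y * a) := by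
      rw [commutatorElement_def, hz']
      have h6 : a * z y * a⁻¹ * z y * (z y * a * z y * a) = a * z y * a⁻¹ * (z y * z y) * a * z y * a := by group
      rw [h6, hzz, mul_one]
      have h7 : a * z y * a⁻¹ * a * z y * a = a * (z y * z y) * a := by group
      rw [h7, hzz, mul_one]
    rw [h5]
    exact mul_mem h3 (h1 h4)
  · have hne : y ≠ -r := by
      rintro rfl
      rw [form_neg_left] at hyr
      have := form_pos cs h (C.root r hr).ne_zero
      omega
    have h4 := C.z_inv r hr y hy hyr' hne hyr.ne' a ha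
    have h5 : a * a = ⁅a, z r⁆ := by
      rw [commutatorElement_def, hz']
      have h6 : z r * a⁻¹ * z r = a := by
        have h7 : z r * a⁻¹ * z r = ((z r)⁻¹ * a * (z r)⁻¹)⁻¹ := by group
        rw [h7, hz', h4, inv_inv]
      calc a * a = a * (z r * a⁻¹ * z r) := by rw [h6]
        _ = a * z r * a⁻¹ * z r := by group
    rw [h5]
    exact h3

/-- If the commutators with `z r` commute, `VV r` is abelian. -/
theorem VV_comm_of [Fact p.Prime] {r : I → ℤ} (hr : r ∈ R)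
    (hc : ∀ a ∈ VV cs h X r, ∀ b ∈ VV cs h X r, ⁅a, z r⁆ * ⁅b, z r⁆ = ⁅b, z r⁆ * ⁅a, z r⁆) :
    ∀ a ∈ VV cs h X r, ∀ b ∈ VV cs h X r, a * b = b * a := by
  have hmem : ∀ a ∈ VV cs h X r, ⁅a, z r⁆ ∈ VV cs h X r := by
    intro a ha
    have h1 := (mem_normalizer_iff.1 (z_mem_normalizer_VV C hr) a⁻¹).1 (inv_mem ha)
    have h2 : ⁅a, z r⁆ = a * (z r * a⁻¹ * (z r)⁻¹) := by rw [commutatorElement_def]; group
    rw [h2]
    exact mul_mem ha h1
  -- the commutators are central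
  have h1 : ∀ b ∈ VV cs h X r, ∀ a ∈ VV cs h X r, a * ⁅b, z r⁆ = ⁅b, z r⁆ * a := by
    intro b hb
    have h2 : VV cs h X r ≤ centralizer {⁅b, z r⁆} := by
      refine VV_le_of C hp2 hr ?_ ?_
      · intro c hc'
        exact mem_centralizer_singleton_iff.2 (VV_comm C hr hc' (hmem b hb))
      · intro a ha
        exact mem_centralizer_singleton_iff.2 (hc a ha b hb)
    exact fun a ha => mem_centralizer_singleton_iff.1 (h2 ha)
  intro a ha
  have h2 : VV cs h X r ≤ centralizer {a} := by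
    refine VV_le_of C hp2 hr ?_ ?_
    · intro c hc'
      exact mem_centralizer_singleton_iff.2 (VV_comm C hr hc' ha)
    · intro b hb
      exact mem_centralizer_singleton_iff.2 (h1 b hb a ha).symm
  exact fun b hb => (mem_centralizer_singleton_iff.1 (h2 hb)).symm

end VV

section SL

variable {G : Type*} [Group G] {F : Type*} [Field F]

theorem wm_sq (b : F) (hb : b ≠ 0) : wm b hb * wm b hb = -1 := by
  have hm : ∀ i j, ent (-1 : Matrix.SpecialLinearGroup (Fin 2) F) i j = - ent 1 i j := fun i j => by simp [ent]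
  refine ext_ent ?_ ?_ ?_ ?_ <;> rw [ent_mul, hm] <;> simp [hb]

variable [Fintype F]

theorem exists_sq_ne (hq : 3 < Fintype.card F) : ∃ t : F, t ≠ 0 ∧ t ^ 2 - 1 ≠ 0 := by
  classical
  by_contra hcon
  push Not at hcon
  have h1 : (Finset.univ : Finset F) ⊆ {0, 1, -1} := by
    intro t _
    simp only [Finset.mem_insert, Finset.mem_singleton]
    by_cases ht : t = 0
    · exact Or.inl ht
    · right
      have h2 := hcon t ht
      have h3 : (t - 1) * (t + 1) = 0 := by linear_combination h2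
      rcases mul_eq_zero.1 h3 with h4 | h4
      · exact Or.inl (sub_eq_zero.1 h4)
      · exact Or.inr (eq_neg_of_add_eq_zero_left h4)
  have h2 := Finset.card_le_card h1
  have h3 := Finset.card_le_three (a := (0 : F)) (b := 1) (c := -1)
  rw [Finset.card_univ] at h2
  omega

/-- the Weyl elements are 2-elements -/
theorem isPGroup_wm {J : Subgroup G} (e : Matrix.SpecialLinearGroup (Fin 2) F ≃* J) (b : F) (hb : b ≠ 0) :
    IsPGroup 2 (zpowers (e (wm b hb) : G)) := by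
  have h1 : (e (wm b hb) : G) ^ 4 = 1 := by
    have h2 : wm b hb ^ 4 = 1 := by
      have h3 : wm b hb ^ 4 = (wm b hb * wm b hb) * (wm b hb * wm b hb) := by
        rw [← pow_two, ← pow_two, ← pow_mul]
      rw [h3, wm_sq, neg_one_eq]
    rw [← Subgroup.coe_pow, ← map_pow, h2, map_one, Subgroup.coe_one]
  have h2 : Nat.card (zpowers (e (wm b hb) : G)) ∣ 2 ^ 2 := by
    rw [Nat.card_zpowers]
    exact orderOf_dvd_of_pow_eq_one h1
  obtain ⟨k, -, hk⟩ := (Nat.dvd_prime_pow Nat.prime_two).1 h2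
  exact IsPGroup.of_card hk

/-- `q > 3`: a subgroup normalised by `J` which contains the Weyl elements contains `J` -/
theorem le_of_wm (hq : 3 < Fintype.card F) {J L : Subgroup G} (e : Matrix.SpecialLinearGroup (Fin 2) F ≃* J) {z : G}
    (hl : Long J (root e) z) (hn : ∀ k ∈ J, ∀ l ∈ L, k * l * k⁻¹ ∈ L)
    (hw : ∀ b (hb : b ≠ 0), (e (wm b hb) : G) ∈ L) : J ≤ L := by
  refine hl.gen L ?_ hn
  intro x hx
  obtain ⟨b, rfl⟩ := mem_root.1 hx
  obtain ⟨t, ht, ht2⟩ := exists_sq_ne (F := F) hq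
  have hd : (e (dg t ht) : G) ∈ L := by
    have h1 := wm_eq_dg_mul t 1 ht one_ne_zero
    have h2 : dg t ht = wm t ht * (wm 1 one_ne_zero)⁻¹ := by
      rw [h1, mul_assoc, mul_inv_cancel, mul_one]
      congr 1
      rw [div_one]
    rw [h2, map_mul, map_inv]
    exact mul_mem (hw t ht) (inv_mem (hw 1 one_ne_zero))
  set c := b / (t ^ 2 - 1) with hc
  have hbc : b = t ^ 2 * c + -c := by
    rw [hc]; field_simp; ring
  have h1 : up b = dg t ht * (up c * (dg t ht)⁻¹ * (up c)⁻¹) := by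
    have h2 := dg_up t c ht
    have h3 : dg t ht * up c * (dg t ht)⁻¹ = up (t ^ 2 * c) := by rw [h2, mul_assoc, mul_inv_cancel, mul_one]
    calc up b = up (t ^ 2 * c) * (up c)⁻¹ := by rw [up_inv, up_mul, ← hbc]
      _ = dg t ht * up c * (dg t ht)⁻¹ * (up c)⁻¹ := by rw [h3]
      _ = dg t ht * (up c * (dg t ht)⁻¹ * (up c)⁻¹) := by group
  rw [h1, map_mul, map_mul, map_mul, map_inv, map_inv]
  exact mul_mem hd (hn _ (e (up c)).2 _ (inv_mem hd))

end SL

/-- two elements `x`, `x^z` acting in the same way -/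
theorem comm_of_fix {G : Type*} [Group G] {v x z a : G} (h1 : v * x * v⁻¹ = a * x) (hzx : z * x = x * z)
    (haz : a * z = z * a) (hav : a * v = v * a) :
    (v * z * v⁻¹ * z⁻¹) * x = x * (v * z * v⁻¹ * z⁻¹) := by
  have hav' : v⁻¹ * a * v = a := by rw [mul_assoc, hav]; group
  have h2 : v⁻¹ * x * v = a⁻¹ * x := by
    have h3 : x = a * (v⁻¹ * x * v) := by
      calc x = v⁻¹ * (v * x * v⁻¹) * v := by group
        _ = v⁻¹ * (a * x) * v := by rw [h1]
        _ = (v⁻¹ * a * v) * (v⁻¹ * x * v) := by group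
        _ = a * (v⁻¹ * x * v) := by rw [hav']
    calc v⁻¹ * x * v = a⁻¹ * (a * (v⁻¹ * x * v)) := by group
      _ = a⁻¹ * x := by rw [← h3]
  have hzx' : z⁻¹ * x * z = x := by rw [mul_assoc, ← hzx]; group
  have hza : z * a⁻¹ * z⁻¹ = a⁻¹ := by
    have : z * a⁻¹ * z⁻¹ = (z * a * z⁻¹)⁻¹ := by group
    rw [this, ← haz]; group
  have hzx2 : z * x * z⁻¹ = x := by rw [hzx]; group
  have hva : v * a⁻¹ * v⁻¹ = a⁻¹ := by
    have : v * a⁻¹ * v⁻¹ = (v * a * v⁻¹)⁻¹ := by group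
    rw [this, ← hav]; group
  have h4 : (v * z * v⁻¹ * z⁻¹) * x * (v * z * v⁻¹ * z⁻¹)⁻¹ = x := by
    calc (v * z * v⁻¹ * z⁻¹) * x * (v * z * v⁻¹ * z⁻¹)⁻¹
        = v * z * v⁻¹ * (z⁻¹ * x * z) * v * z⁻¹ * v⁻¹ := by group
      _ = v * z * (v⁻¹ * x * v) * z⁻¹ * v⁻¹ := by rw [hzx']; group
      _ = v * ((z * a⁻¹ * z⁻¹) * (z * x * z⁻¹)) * v⁻¹ := by rw [h2]; group
      _ = (v * a⁻¹ * v⁻¹) * (v * x * v⁻¹) := by rw [hza, hzx2]; group
      _ = x := by rw [hva, h1]; group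
  calc (v * z * v⁻¹ * z⁻¹) * x = (v * z * v⁻¹ * z⁻¹) * x * (v * z * v⁻¹ * z⁻¹)⁻¹ * (v * z * v⁻¹ * z⁻¹) := by group
    _ = x * (v * z * v⁻¹ * z⁻¹) := by rw [h4]

theorem root_ne_rootOp {G : Type*} [Group G] {F : Type*} [Field F] {K : Subgroup G}
    (e : Matrix.SpecialLinearGroup (Fin 2) F ≃* K) : rootOp e ≠ root e := by
  intro h1
  have h2 : (e (up 1) : G) ∈ rootOp e := by rw [h1]; exact mem_root.2 ⟨1, rfl⟩
  obtain ⟨b, hb⟩ := mem_rootOp.1 h2
  have h3 := e.injective (Subtype.ext hb)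
  have h4 := congrArg (fun x => ent x 0 1) h3
  simp at h4

/-! ### Charts with nonabelian radicals -/

section NonAb

variable {G : Type*} [Group G] {Om : Set (Subgroup G)} {p : ℕ} {L : Subgroup G}

/-- the radicals `VV r` of the chart are not abelian -/
def NonAb (c : Chart Om p L) : Prop :=
  ∀ r ∈ c.R, ∃ a ∈ Nodes.ChartLoc.VV c.cs c.h c.X r, ∃ b ∈ Nodes.ChartLoc.VV c.cs c.h c.X r, a * b ≠ b * a

theorem nonAb_of_nontrivial (c : Chart Om p L) (hnt : Nontrivial c.I) : NonAb c := by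
  intro r hr
  haveI := Fact.mk c.prime
  obtain ⟨y, hy, hy1, hy2, hy3⟩ := FrameOfFr.exists_not_orth c hnt (c.cls.root r hr)
  exact Nodes.DerVV.not_comm c.cls c.odd hr hy hy1 hy2 hy3

theorem NonAb.conj {c : Chart Om p L} (h : NonAb c) {y : G} (hy : y ∈ L) (hOm : ∀ K ∈ Om, ∀ g, cj g K ∈ Om) :
    NonAb (conjChart c hy hOm) := by
  intro r hr
  obtain ⟨a, ha, b, hb, hab⟩ := h r hr
  have h1 : Nodes.ChartLoc.VV c.cs c.h (fun x => cj y (c.X x)) r =
      cj y (Nodes.ChartLoc.VV c.cs c.h c.X r) := by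
    unfold Nodes.ChartLoc.VV
    exact (Nodes.BNOf.RGD.cj_Sup y _).symm
  change ∃ a ∈ Nodes.ChartLoc.VV c.cs c.h (fun x => cj y (c.X x)) r,
    ∃ b ∈ Nodes.ChartLoc.VV c.cs c.h (fun x => cj y (c.X x)) r, a * b ≠ b * a
  rw [h1]
  refine ⟨y * a * y⁻¹, conj_mem_cj ha, y * b * y⁻¹, conj_mem_cj hb, fun h2 => hab ?_⟩
  calc a * b = y⁻¹ * (y * a * y⁻¹ * (y * b * y⁻¹)) * y := by group
    _ = y⁻¹ * (y * b * y⁻¹ * (y * a * y⁻¹)) * y := by rw [h2]
    _ = b * a := by group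

end NonAb

/-! ### Members over the piece lie in its lift -/

section Main

variable {G : Type*} [Group G] [Finite G] {Om : Set (Subgroup G)} {H : Subgroup G}
  {F : Type*} [Field F] [Fintype F] {p : ℕ} {D' : Subgroup (HQ H)}

theorem conj_mem_DL (C : CorG Om H) (hD : QP Om H D') {J : Subgroup G} (hJH : J ≤ H) (hJD : bar H J ≤ D') :
    ∀ k ∈ J, ∀ l ∈ DL Om H D', k * l * k⁻¹ ∈ DL Om H D' := by
  intro k hk l hl
  have h1 : cj (qm H ⟨k, hJH hk⟩) D' = D' := Parab.cj_eq_of_mem (hJD (mem_bar hk))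
  exact (mem_normalizer_iff.1 (mem_normalizer_of_conj C hD (hJH hk) h1) l).1 hl

theorem root_inf_ne_bot [CharP F p] (C : CorG Om H) (hD : QP Om H D') (c : Chart (fb Om H) p D')
    (hnm : D' ∉ fb Om H) (hF : Odd (Fintype.card F)) (hna : NonAb c) {J : Subgroup G} (hJ : J ∈ Om)
    (hJH : J ≤ H) (hJD : bar H J ≤ D') (e : Matrix.SpecialLinearGroup (Fin 2) F ≃* J)
    (hg : Good p (root e) (zz J)) : root e ⊓ DL Om H D' ≠ ⊥ := by
  intro hbot
  have hp := Fact.mk c.prime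
  have hlong : Long J (root e) (zz J) := long_of_hyp C.hyp hJ hF e (root_le e) (card_root e)
  obtain ⟨k, hk, r, hr, h1, -, h3⟩ := PieceLoc.exists_place C.hyp c hnm hF hJ hJH hJD e (root_le e) (card_root e)
    (FrameOf.Dat.rootOp_le e) (FrameOf.Dat.card_rootOp e) (root_ne_rootOp e)
  set c' := conjChart c hk (fb_hyp C.hyp H).conj with hc'
  have hr' : r ∈ c'.R := hr
  set z := zz J with hzdef
  have hzz : z * z = 1 := C.hyp.zz_mul hJ
  have hz' : z⁻¹ = z := inv_eq_of_mul_eq_one_right hzz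
  have hzD : z ∈ DL Om H D' := zz_mem_DL C.hyp hJ hJH hJD
  have hcen : ∀ a ∈ OO H, ∀ l ∈ DL Om H D', a * l = l * a := fun a ha l hl => (DL_comm_core C hl ha).symm
  have hXn : ∀ x ∈ root e, ∀ l ∈ DL Om H D', x * l * x⁻¹ ∈ DL Om H D' := fun x hx =>
    conj_mem_DL C hD hJH hJD x (root_le e hx)
  -- the elements `[v, z]`
  have key : ∀ v (hv : v ∈ DL Om H D'), qm H ⟨v, DL_le hv⟩ ∈ Nodes.ChartLoc.VV c'.cs c'.h c'.X r →
      ⁅v, z⁆ ∈ QX (root e) z ∧ ⁅v, z⁆ ∈ DL Om H D' := by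
    intro v hv hvV
    have huD : ⁅v, z⁆ ∈ DL Om H D' := by
      rw [commutatorElement_def]
      exact mul_mem (mul_mem (mul_mem hv hzD) (inv_mem hv)) (inv_mem hzD)
    refine ⟨?_, huD⟩
    set u := ⁅v, z⁆ with hu
    -- `u` centralises `X`
    have huX : ∀ x ∈ root e, u * x = x * u := by
      intro x hx
      have hxH : x ∈ H := hJH (root_le e hx)
      have ha : ⁅v, x⁆ ∈ OO H := by
        have h4 : qm H ⟨x, hxH⟩ ∈ c'.Z r := by rw [h1]; exact mem_bar hx
        have h5 : qm H ⁅(⟨v, DL_le hv⟩ : H), ⟨x, hxH⟩⁆ = 1 := by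
          rw [map_commutatorElement, commutatorElement_eq_one_iff_mul_comm]
          exact (Nodes.ChartLoc.VV_comm c'.cls hr' h4 hvV).symm
        exact qm_eq_one_iff.1 h5
      rw [hu, commutatorElement_def]
      refine comm_of_fix (a := ⁅v, x⁆) ?_ (hlong.central (root_le e hx)).symm (hcen _ ha _ hzD) (hcen _ ha _ hv)
      rw [commutatorElement_def]; group
    -- `z` inverts `u`
    have hzu : z * u⁻¹ * z⁻¹ = u := by
      rw [hu, commutatorElement_def, hz']
      calc z * (v * z * v⁻¹ * z)⁻¹ * z = z * z⁻¹ * (v * z⁻¹ * v⁻¹) * z := by group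
        _ = v * z * v⁻¹ * z := by rw [mul_inv_cancel, one_mul, hz']
    have h4 : u * u ∈ QX (root e) z := by
      have h5 := hlong.commutator_mem (c := u) (mem_centralizer_iff.2 fun x hx => (huX x hx).symm)
      have h6 : ⁅u, z⁆ = u * u := by
        rw [commutatorElement_def]
        calc u * z * u⁻¹ * z⁻¹ = u * (z * u⁻¹ * z⁻¹) := by group
          _ = u * u := by rw [hzu]
      rwa [h6] at h5
    -- `u` has odd order
    have h5 : qm H ⟨u, DL_le huD⟩ ∈ Nodes.ChartLoc.VV c'.cs c'.h c'.X r := by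
      have h6 : qm H ⟨u, DL_le huD⟩ = ⁅qm H ⟨v, DL_le hv⟩, c'.z r⁆ := by
        rw [h3, ← map_commutatorElement]
        rfl
      rw [h6]
      have h7 := (mem_normalizer_iff.1 (Nodes.ChartLoc.z_mem_normalizer_VV c'.cls hr') _).1 (inv_mem hvV)
      have h8 : ⁅qm H ⟨v, DL_le hv⟩, c'.z r⁆ =
          qm H ⟨v, DL_le hv⟩ * (c'.z r * (qm H ⟨v, DL_le hv⟩)⁻¹ * (c'.z r)⁻¹) := by
        rw [commutatorElement_def]; group
      rw [h8]
      exact mul_mem hvV h7
    obtain ⟨m, hm⟩ := Nodes.ChartLoc.isPGroup_VV c'.cls r ⟨_, h5⟩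
    have hm' : (qm H ⟨u, DL_le huD⟩) ^ p ^ m = 1 := by
      have := congrArg Subtype.val hm
      simpa using this
    have h6 : u ^ p ^ m ∈ OO H := by
      rw [← map_pow] at hm'
      exact qm_eq_one_iff.1 hm'
    have h7 : Odd (orderOf u) := by
      have h8 := odd_orderOf (odd_OO H) h6
      have h9 : u ^ (p ^ m * orderOf (u ^ p ^ m)) = 1 := by rw [pow_mul, pow_orderOf_eq_one]
      exact (((c.prime.odd_of_ne_two c.odd).pow (n := m)).mul h8).of_dvd_nat (orderOf_dvd_of_pow_eq_one h9)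
    obtain ⟨i, hi⟩ := h7
    have h8 : (u * u) ^ (i + 1) = u := by
      have : (u * u) ^ (i + 1) = u ^ orderOf u * u := by
        rw [hi, ← pow_two, ← pow_mul, ← pow_succ]
        congr 1
      rw [this, pow_orderOf_eq_one, one_mul]
    rw [← h8]
    exact pow_mem h4 _
  -- they commute
  have key2 : ∀ a ∈ Nodes.ChartLoc.VV c'.cs c'.h c'.X r, ∀ b ∈ Nodes.ChartLoc.VV c'.cs c'.h c'.X r,
      ⁅a, c'.z r⁆ * ⁅b, c'.z r⁆ = ⁅b, c'.z r⁆ * ⁅a, c'.z r⁆ := by
    have hVD : ∀ a ∈ Nodes.ChartLoc.VV c'.cs c'.h c'.X r, ∃ v, ∃ hv : v ∈ DL Om H D', qm H ⟨v, DL_le hv⟩ = a := by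
      intro a ha
      have h4 : a ∈ D' := by
        have h5 := Nodes.ChartLoc.VV_le_GG c'.cls r ha
        rwa [GG_eq] at h5
      obtain ⟨x, hx, hxa⟩ := DL_cover C hD h4
      exact ⟨x, hx, hxa⟩
    intro a ha b hb
    obtain ⟨v, hv, rfl⟩ := hVD a ha
    obtain ⟨w, hw, rfl⟩ := hVD b hb
    obtain ⟨h4, h5⟩ := key v hv ha
    obtain ⟨h6, h7⟩ := key w hw hb
    have h8 : ⁅⁅v, z⁆, ⁅w, z⁆⁆ = 1 := by
      have h9 : ⁅⁅v, z⁆, ⁅w, z⁆⁆ ∈ root e ⊓ DL Om H D' := by
        refine mem_inf.2 ⟨hg.der (Subgroup.commutator_mem_commutator (LemmaUQ.QX_le_QQ _ _ h4)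
          (LemmaUQ.QX_le_QQ _ _ h6)), ?_⟩
        rw [commutatorElement_def]
        exact mul_mem (mul_mem (mul_mem h5 h7) (inv_mem h5)) (inv_mem h7)
      rw [hbot] at h9
      exact mem_bot.1 h9
    rw [commutatorElement_eq_one_iff_mul_comm] at h8
    have h9 : ∀ v (hv : v ∈ DL Om H D') (hu : ⁅v, z⁆ ∈ H),
        ⁅qm H ⟨v, DL_le hv⟩, c'.z r⁆ = qm H ⟨⁅v, z⁆, hu⟩ := by
      intro v hv hu
      rw [h3, ← map_commutatorElement]
      rfl
    rw [h9 v hv (DL_le h5), h9 w hw (DL_le h7), ← map_mul, ← map_mul]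
    congr 1
    exact Subtype.ext h8
  -- `VV r` is not abelian
  have hab := VV_comm_of c'.cls c'.odd hr' key2
  obtain ⟨a, ha, b, hb, h4⟩ := hna.conj hk (fb_hyp C.hyp H).conj r hr'
  exact h4 (hab a ha b hb)

/-- **members over the piece lie in its lift** -/
theorem le_DL_of_bar [CharP F p] (C : CorG Om H) (hD : QP Om H D') (c : Chart (fb Om H) p D')
    (hnm : D' ∉ fb Om H) (hF : Odd (Fintype.card F)) (hq : 3 < Fintype.card F ∨ NonAb c)
    {J : Subgroup G} (hJ : J ∈ Om) (hJH : J ≤ H) (hJD : bar H J ≤ D')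
    (hsl : Nonempty (Matrix.SpecialLinearGroup (Fin 2) F ≃* J))
    (hg : ∀ P ≤ J, Nat.card P = Fintype.card F → Good p P (zz J)) : J ≤ DL Om H D' := by
  obtain ⟨e⟩ := hsl
  have hlong : Long J (root e) (zz J) := long_of_hyp C.hyp hJ hF e (root_le e) (card_root e)
  by_cases hq3 : 3 < Fintype.card F
  · refine le_of_wm hq3 e hlong (conj_mem_DL C hD hJH hJD) fun b hb => ?_
    exact le_DL hJ hJH (isPGroup_wm e b hb) (by rw [zpowers_le]; exact (e _).2) hJD (mem_zpowers _)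
  · have hnt := hq.resolve_left hq3
    have h1 : Fintype.card F = 3 := by
      have h2 : 1 < Fintype.card F := Fintype.one_lt_card
      rcases hF with ⟨m, hm⟩
      omega
    have h2 := root_inf_ne_bot C hD c hnm hF hnt hJ hJH hJD e (hg _ (root_le e) (card_root e))
    refine hlong.gen _ ?_ (conj_mem_DL C hD hJH hJD)
    have h3 : Nat.card (root e) = 3 := by rw [card_root, h1]
    have h4 : Nat.card ↥(root e ⊓ DL Om H D') ∣ 3 := by rw [← h3]; exact card_dvd_of_le inf_le_left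
    rcases (Nat.dvd_prime Nat.prime_three).1 h4 with h5 | h5
    · exact absurd (Subgroup.card_eq_one.1 h5) h2
    · rw [← inf_eq_left]
      exact Subgroup.eq_of_le_of_card_ge inf_le_left (by rw [h5, h3])

end Main

/-! ### The kernel -/

section Ker

variable {G : Type*} [Group G] [Finite G] {Om : Set (Subgroup G)} {H : Subgroup G}

/-- The input: the chart `c` of the quasisimple piece `D'` of `H / O(H)`, the members over `D'` are isomorphic to
`SL(2, F)` and `Good`. -/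
structure Inp (Om : Set (Subgroup G)) (H : Subgroup G) (F : Type*) [Field F] [Fintype F] {p : ℕ}
    {D' : Subgroup (HQ H)} (c : Chart (fb Om H) p D') : Prop where
  cor : CorG Om H
  qp : QP Om H D'
  nmem : D' ∉ fb Om H
  Fodd : Odd (Fintype.card F)
  char : CharP F p
  big : 3 < Fintype.card F ∨ NonAb c
  sl : ∀ J ∈ Om, J ≤ H → bar H J ≤ D' → Nonempty (Matrix.SpecialLinearGroup (Fin 2) F ≃* J)
  good : ∀ J ∈ Om, J ≤ H → bar H J ≤ D' → ∀ P ≤ J, Nat.card P = Fintype.card F → Good p P (zz J)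

/-- the map `DL → H / O(H)` -/
def dl (Om : Set (Subgroup G)) (H : Subgroup G) (D' : Subgroup (HQ H)) : ↥(DL Om H D') →* HQ H :=
  (qm H).comp (Subgroup.inclusion DL_le)

theorem dl_mem {D' : Subgroup (HQ H)} (l : ↥(DL Om H D')) : dl Om H D' l ∈ D' :=
  qm_mem_of_DL (Om := Om) (x := ⟨l, DL_le l.2⟩) l.2

/-- the map `DL → D'` -/
def dlD (Om : Set (Subgroup G)) (H : Subgroup G) (D' : Subgroup (HQ H)) : ↥(DL Om H D') →* ↥D' :=
  (dl Om H D').codRestrict D' dl_mem

theorem dlD_ker {D' : Subgroup (HQ H)} : (dlD Om H D').ker = (dl Om H D').ker := by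
  ext x
  rw [MonoidHom.mem_ker, MonoidHom.mem_ker, ← Subtype.coe_inj]
  rfl

theorem map_dl {D' : Subgroup (HQ H)} {J : Subgroup G} (hJ : J ≤ DL Om H D') :
    (J.subgroupOf (DL Om H D')).map (dl Om H D') = bar H J := by
  ext y
  constructor
  · rintro ⟨x, hx, rfl⟩
    exact ⟨⟨x, DL_le x.2⟩, hx, rfl⟩
  · rintro ⟨x, hx, rfl⟩
    exact ⟨⟨x, hJ hx⟩, hx, rfl⟩

theorem odd_card_ker {D' : Subgroup (HQ H)} : Odd (Nat.card (dl Om H D').ker) := by
  have h1 : (dl Om H D').ker.map (DL Om H D').subtype ≤ OO H := by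
    rintro _ ⟨x, hx, rfl⟩
    exact qm_eq_one_iff.1 hx
  have h2 : Nat.card ((dl Om H D').ker.map (DL Om H D').subtype) = Nat.card (dl Om H D').ker :=
    (Nat.card_congr ((dl Om H D').ker.equivMapOfInjective _ (DL Om H D').subtype_injective).toEquiv).symm
  rcases Nat.even_or_odd (Nat.card (dl Om H D').ker) with h3 | h3
  · exfalso
    apply odd_OO H
    rw [← h2] at h3
    exact h3.two_dvd.trans (card_dvd_of_le h1)
  · exact h3

variable {F : Type*} [Field F] [Fintype F] {p : ℕ} {D' : Subgroup (HQ H)} {c : Chart (fb Om H) p D'}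

namespace Inp

variable (I : Inp Om H F c)

include I

/-- **members over the piece lie in its lift** -/
theorem le_DL {J : Subgroup G} (hJ : J ∈ Om) (hJH : J ≤ H) (hJD : bar H J ≤ D') : J ≤ DL Om H D' :=
  haveI := I.char
  le_DL_of_bar I.cor I.qp c I.nmem I.Fodd I.big hJ hJH hJD (I.sl J hJ hJH hJD) (I.good J hJ hJH hJD)

theorem bar_le {J : Subgroup G} (hJ : J ≤ DL Om H D') : bar H J ≤ D' := by
  rw [← bar_DL I.cor I.qp]
  exact bar_mono hJ

theorem cen {a : ↥(DL Om H D')} (ha : dl Om H D' a = 1) (l : ↥(DL Om H D')) : a * l = l * a :=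
  Subtype.ext (DL_comm_core I.cor l.2 (qm_eq_one_iff.1 ha)).symm

/-- the members of the image are images of members -/
theorem exists_member {K' : Subgroup (HQ H)} (hK : K' ∈ fb Om H) (hle : K' ≤ D') :
    ∃ J ∈ Om, J ≤ DL Om H D' ∧ bar H J = K' := by
  obtain ⟨J, hJ, hJH, rfl⟩ := exists_bar hK
  exact ⟨J, hJ, I.le_DL hJ hJH hle, rfl⟩

theorem hIn : ExactHyp.HIn c.cs c.h p c.T c.X c.R c.Z c.z Om F (dl Om H D') where
  hyp := I.cor.hyp
  Fodd := I.Fodd
  rng := by
    rw [GG_eq]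
    ext y
    constructor
    · rintro ⟨x, rfl⟩
      exact dl_mem x
    · intro hy
      obtain ⟨x, hx, h1⟩ := DL_cover I.cor I.qp hy
      exact ⟨⟨x, hx⟩, h1⟩
  cen _ ha l := I.cen ha l
  odd := odd_card_ker
  ex := by
    intro r hr
    obtain ⟨J, hJ, hJE, h1⟩ := I.exists_member (c.om r hr) (by
      refine sup_le ?_ ?_
      · exact (c.cls.le r hr).trans (FrameOf.X_le c (c.cls.root r hr))
      · exact (c.cls.le _ (Nodes.ClsMap.neg_mem c.cls hr)).trans
          (FrameOf.X_le c (c.cls.root _ (Nodes.ClsMap.neg_mem c.cls hr))))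
    exact ⟨J, hJ, hJE, by rw [map_dl hJE, h1]⟩
  sl J hJ hJE := I.sl J hJ (hJE.trans DL_le) (I.bar_le hJE)
  good J hJ hJE := I.good J hJ (hJE.trans DL_le) (I.bar_le hJE)
  z_ne := FrameOfFr.z_ne_one c I.nmem

theorem perfect : ⁅DL Om H D', DL Om H D'⁆ = DL Om H D' := DL_perfect I.cor I.qp

/-- **(EX-3)** the order of the kernel is prime to `p` -/
theorem not_dvd : ¬ p ∣ Nat.card (dl Om H D').ker := by
  haveI := I.char
  haveI := Fact.mk c.prime
  exact I.hIn.not_dvd_card_ker c.cls c.odd c.irr c.Rne I.perfect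

theorem surj : Function.Surjective (dlD Om H D') := by
  rintro ⟨y, hy⟩
  obtain ⟨x, hx, h1⟩ := DL_cover I.cor I.qp hy
  exact ⟨⟨x, hx⟩, Subtype.ext h1⟩

theorem ker_le : (dlD Om H D').ker ≤ center ↥(DL Om H D') := by
  intro a ha
  rw [dlD_ker] at ha
  rw [mem_center_iff]
  exact fun g => (I.cen ha g).symm

theorem coprime : (Nat.card (dlD Om H D').ker).Coprime p := by
  rw [dlD_ker]
  exact ((Nat.Prime.coprime_iff_not_dvd c.prime).2 I.not_dvd).symm

theorem map_restr {K : Subgroup ↥(DL Om H D')} :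
    (K.map (dlD Om H D')).map D'.subtype = bar H (K.map (DL Om H D').subtype) := by
  rw [Subgroup.map_map, ← map_dl (map_subtype_le K)]
  congr 1
  ext x
  simp [mem_subgroupOf]

theorem map_mem {K : Subgroup ↥(DL Om H D')} (hK : K ∈ restr Om (DL Om H D')) :
    K.map (dlD Om H D') ∈ restr (fb Om H) D' := by
  rw [mem_restr, I.map_restr]
  exact bar_mem hK ((map_subtype_le K).trans DL_le)

theorem exists_map {K' : Subgroup ↥D'} (hK : K' ∈ restr (fb Om H) D') :
    ∃ K ∈ restr Om (DL Om H D'), K.map (dlD Om H D') = K' := by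
  obtain ⟨J, hJ, hJD, h1⟩ := I.exists_member hK (map_subtype_le K')
  refine ⟨J.subgroupOf (DL Om H D'), subgroupOf_mem_restr hJ hJD, ?_⟩
  apply Subgroup.map_injective D'.subtype_injective
  rw [I.map_restr, map_subgroupOf_eq_of_le hJD, h1]

theorem inf_ker {K : Subgroup ↥(DL Om H D')} (hK : K ∈ restr Om (DL Om H D')) : K ⊓ (dlD Om H D').ker = ⊥ := by
  refine Nodes.ChartLift.inf_ker_of_odd I.ker_le ?_ ?_
  · rw [dlD_ker]
    exact fun h => by
      have h1 := odd_card_ker (Om := Om) (H := H) (D' := D')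
      obtain ⟨m, hm⟩ := h1
      omega
  · obtain ⟨e⟩ := I.sl _ hK ((map_subtype_le K).trans DL_le) (I.bar_le (map_subtype_le K))
    exact OO_eq_bot I.Fodd (e.trans (K.equivMapOfInjective _ (DL Om H D').subtype_injective).symm)

theorem lft_top : Nodes.RGDLift.lft p (dlD Om H D') ⊤ = ⊤ := by
  have h1 : ⁅(⊤ : Subgroup ↥(DL Om H D')), ⊤⁆ = ⊤ := (DL_quasisimple I.cor I.qp).1.commutator_eq_top
  exact (Nodes.ChartLift.eq_lft_of_perfect I.ker_le I.coprime h1 (Subgroup.map_top_of_surjective _ I.surj)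
    (Nodes.ChartLift.Chart.map_lft (Cit.Chart.restrict' c) I.ker_le I.coprime I.surj)).symm

end Inp

/-- A chart of an equal subgroup. -/
def copy {G : Type*} [Group G] {Om : Set (Subgroup G)} {p : ℕ} {L L' : Subgroup G} (c : Chart Om p L)
    (h : L = L') : Chart Om p L' :=
  { c with
    T_le := by rw [← h]; exact c.T_le
    gen := by rw [← h]; exact c.gen
    om_conj := by rw [← h]; exact c.om_conj }

/-- the chart of the group `↥DL` -/
noncomputable def Inp.chart₀ (I : Inp Om H F c) : Chart (restr Om (DL Om H D')) p (⊤ : Subgroup ↥(DL Om H D')) :=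
  copy (Nodes.ChartLift.Chart.lift (Cit.Chart.restrict' c) I.ker_le I.coprime I.surj (I.cor.hyp.restr _)
    ((fb_hyp I.cor.hyp H).restr D') (fun _ hK => I.map_mem hK) (fun _ hK => I.exists_map hK)
    (fun _ hK => I.inf_ker hK)) I.lft_top

/-- **the chart of the lift `DL` of the piece `D'`** -/
noncomputable def Inp.chart (I : Inp Om H F c) : Chart Om p (DL Om H D') :=
  copy (Nodes.ChartMap.mapInj I.chart₀ (DL Om H D').subtype (DL Om H D').subtype_injective Om
    (fun _ hK _ => hK) (fun K hK hKL => ⟨K.subgroupOf (DL Om H D'), by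
      have h1 : K ≤ DL Om H D' := hKL.trans (map_subtype_le _)
      exact ⟨subgroupOf_mem_restr hK h1, le_top, (map_subgroupOf_eq_of_le h1).symm⟩⟩))
    (by rw [← MonoidHom.range_eq_map, Subgroup.range_subtype])

namespace Inp

variable (I : Inp Om H F c)

theorem chart_Z (r : c.I → ℤ) : I.chart.Z r =
    (Nodes.RGDLift.lft p (dlD Om H D') ((c.Z r).subgroupOf D')).map (DL Om H D').subtype := rfl

theorem chart_X (r : c.I → ℤ) : I.chart.X r =
    (Nodes.RGDLift.lft p (dlD Om H D') ((c.X r).subgroupOf D')).map (DL Om H D').subtype := rfl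

/-- the type is kept -/
theorem isTy {τ : Nodes.Chart.Ty} (h : c.IsTy τ) : I.chart.IsTy τ := h

theorem chart_Z_eq_X {r : c.I → ℤ} (h : c.Z r = c.X r) : I.chart.Z r = I.chart.X r := by
  refine (I.chart_Z r).trans (Eq.trans ?_ (I.chart_X r).symm)
  rw [h]

theorem Z_eq_X (h : ∀ r ∈ c.R, c.Z r = c.X r) : ∀ r ∈ I.chart.R, I.chart.Z r = I.chart.X r :=
  fun r hr => I.chart_Z_eq_X (h r hr)

theorem sup_mem {r : c.I → ℤ} (hr : r ∈ c.R) : I.chart.Z r ⊔ I.chart.Z (-r) ∈ Om := I.chart.om r hr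

theorem sup_le_DL {r : c.I → ℤ} : I.chart.Z r ⊔ I.chart.Z (-r) ≤ DL Om H D' := by
  rw [I.chart_Z, I.chart_Z, ← Subgroup.map_sup]
  exact map_subtype_le _

theorem chart_sl {r : c.I → ℤ} (hr : r ∈ c.R) :
    Nonempty (Matrix.SpecialLinearGroup (Fin 2) F ≃* ↥(I.chart.Z r ⊔ I.chart.Z (-r))) :=
  I.sl _ (I.sup_mem hr) (I.sup_le_DL.trans DL_le) (I.bar_le I.sup_le_DL)

include I in
theorem bar_lft {P : Subgroup (HQ H)} (hP : P ≤ D') (hp : IsPGroup p P) :
    bar H ((Nodes.RGDLift.lft p (dlD Om H D') (P.subgroupOf D')).map (DL Om H D').subtype) = P := by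
  haveI := Fact.mk c.prime
  rw [← I.map_restr, Nodes.RGDLift.map_lft I.ker_le I.coprime I.surj, map_subgroupOf_eq_of_le hP]
  exact hp.of_equiv (subgroupOfEquivOfLe hP).symm

theorem bar_X {x : c.I → ℤ} (hx : Tits.Roots.IsRoot c.cs c.h x) : bar H (I.chart.X x) = c.X x :=
  haveI := Fact.mk c.prime
  I.bar_lft (FrameOf.X_le c hx) (c.cls.rgd.pgrp' hx)

theorem bar_Z {r : c.I → ℤ} (hr : r ∈ c.R) : bar H (I.chart.Z r) = c.Z r :=
  haveI := Fact.mk c.prime
  I.bar_lft ((c.cls.le r hr).trans (FrameOf.X_le c (c.cls.root r hr)))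
    ((c.cls.rgd.pgrp' (c.cls.root r hr)).to_le (c.cls.le r hr))

end Inp

end Ker

end Cfsg.Agent.Cit.ExactChart
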