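import Cfsg.Agent.Cit.TBasic

/-!
# Exact typed pieces (project CIT, (EX'))

`TyPcE Om τ D` : `D` is a (T1)-piece of type `τ` of `G` (the centre of `D` may have odd order `> 1`, for example
`D = SL(3, q)`, `3 ∣ q - 1`).

* `TyPcE.cj` : conjugates; `TyPcE.nontrivial` : the rank is at least two if `τ ≠ C 1`.
-/

set_option autoImplicit false
set_option linter.dupNamespace false

namespace Cfsg.Agent.Cit.ExactChart

open Subgroup Cfsg Cfsg.Agent.Nodes.Chart

universe u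

variable {G : Type u} [Group G] {Om : Set (Subgroup G)}

/-- an exact (T1)-piece of type `τ` -/
def TyPcE (Om : Set (Subgroup G)) (τ : Nodes.Chart.Ty) (D : Subgroup G) : Prop :=
  D ∉ Om ∧ IsQuasisimple D ∧ KindOk τ ∧ ∃ (p : ℕ) (c : Chart Om p D),
    c.IsTy τ ∧ (Fintype.card c.I ≤ 2 → IsLieTypeChar p (↥D ⧸ center D)) ∧
    (∃ (F : Type) (_ : Field F) (_ : Fintype F), CharP F p ∧
      ∀ r ∈ c.R, Nonempty (Matrix.SpecialLinearGroup (Fin 2) F ≃* ↥(c.Z r ⊔ c.Z (-r)))) ∧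
    ((∀ r ∈ c.R, c.Z r = c.X r) ∨ ∃ n, τ = .C n)

theorem TyPcE.nmem {τ : Nodes.Chart.Ty} {D : Subgroup G} (h : TyPcE Om τ D) : D ∉ Om := h.1

theorem TyPcE.quasisimple {τ : Nodes.Chart.Ty} {D : Subgroup G} (h : TyPcE Om τ D) : IsQuasisimple D := h.2.1

theorem TyPcE.kindOk {τ : Nodes.Chart.Ty} {D : Subgroup G} (h : TyPcE Om τ D) : KindOk τ := h.2.2.1

theorem TyPcE.cj [Finite G] (hyp : Hyp Om) {τ : Nodes.Chart.Ty} {D : Subgroup G} (h : TyPcE Om τ D) (g : G) :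
    TyPcE Om τ (Cit.cj g D) := by
  obtain ⟨nmem, qs, ok, p, c, kind, small, sl, zx⟩ := h
  have hf := (MulAut.conj g).injective
  have h1 : ∀ K ≤ D, K ∈ Om ↔ K.map (MulAut.conj g).toMonoidHom ∈ Om := by
    intro K _
    refine ⟨fun hK => hyp.conj K hK g, fun hK => ?_⟩
    have := hyp.conj _ hK g⁻¹
    rwa [← cj_def, cj_inv_cj] at this
  let e : ↥D ≃* ↥(Cit.cj g D) := D.equivMapOfInjective (MulAut.conj g).toMonoidHom hf
  refine ⟨fun h => nmem ((h1 D le_rfl).2 h), SignalizersComponents.LayerBasic.quasisimple_congr e qs,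
    ok, p, Chart.map' c _ hf h1, kind,
    fun hI => OddHalf.Known.isLieTypeChar_congr (centerQuotEquiv e) (small hI), ?_, ?_⟩
  · obtain ⟨F, i1, i2, i3, h2⟩ := sl
    refine ⟨F, i1, i2, i3, fun r hr => ?_⟩
    obtain ⟨g'⟩ := h2 r hr
    exact ⟨g'.trans (((c.Z r ⊔ c.Z (-r)).equivMapOfInjective (MulAut.conj g).toMonoidHom hf).trans
      (MulEquiv.subgroupCongr (Subgroup.map_sup _ _ _)))⟩
  · rcases zx with h2 | h2
    · exact Or.inl fun r hr => congrArg (Subgroup.map (MulAut.conj g).toMonoidHom) (h2 r hr)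
    · exact Or.inr h2

theorem two_le_rk {τ : Nodes.Chart.Ty} (hok : KindOk τ) (h1 : τ ≠ .C 1) : 2 ≤ τ.rk := by
  cases τ with
  | A n => exact hok
  | B n => exact (show 3 ≤ n from hok).trans' (by norm_num)
  | C n =>
    have h2 : 1 ≤ n := hok
    have h3 : n ≠ 1 := fun h => h1 (by rw [h])
    change 2 ≤ n
    omega
  | D n =>
    change 2 ≤ (n - 2) + 2
    omega
  | E6 => exact (by norm_num : 2 ≤ 6)
  | E7 => exact (by norm_num : 2 ≤ 7)
  | E8 => exact (by norm_num : 2 ≤ 8)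
  | F4 => exact (by norm_num : 2 ≤ 4)
  | G2 => exact (by norm_num : 2 ≤ 2)

theorem nontrivial_of_isTy {p : ℕ} {D : Subgroup G} {c : Chart Om p D} {τ : Nodes.Chart.Ty} (h : c.IsTy τ)
    (hok : KindOk τ) (h1 : τ ≠ .C 1) : Nontrivial c.I := by
  obtain ⟨e, -⟩ := h
  have h2 := two_le_rk hok h1
  have : Nontrivial (Fin τ.rk) := Fin.nontrivial_iff_two_le.2 h2
  exact e.nontrivial

end Cfsg.Agent.Cit.ExactChart
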