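import Mathlib
import Cfsg.Agent.Cit.ExactChart
import Cfsg.Agent.Cit.TyPcE
import Cfsg.Agent.Cit.TypeDet.Irr
import Cfsg.Agent.ClassicalGeometry.PSL2Basic

/-!
# The exact pieces of `C(s)` (project CIT, (EX'))

* `piece_DL` : the lift `DL` of a piece of `C(s)/O(C(s))` is a `FrameOf.Piece Om s`;
* `DL_eq_piece` : it is generated by a chain class of members of `Om` in `C(s)`;
* `centerQuot` : `DL / Z(DL) ≃ D' / Z(D')`;
* `tyPcE_DL` : a typed piece of `C(s)/O(C(s))` lifts to a typed piece of `G`.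
-/

set_option autoImplicit false
set_option linter.dupNamespace false
set_option linter.style.haveILetI false
set_option linter.unusedSectionVars false

namespace Cfsg.Agent.Cit.ExactChart

open Subgroup Cfsg Cfsg.Agent.Cit.UseT Cfsg.Agent.Cit.PieceLift Cfsg.Agent.Cit.PieceG
open Cfsg.Agent.Nodes.Chart Cfsg.Agent.Cit.FrameOf Cfsg.Agent.Cit.ParabSL2 Cfsg.Agent.Cit.Parab
open scoped commutatorElement

/-! ### The characteristic -/

section Char

theorem card_inj {a b : ℕ} (ha : 2 ≤ a) (hb : 2 ≤ b) (h : a * (a ^ 2 - 1) = b * (b ^ 2 - 1)) : a = b := by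
  have key : ∀ a b : ℕ, 2 ≤ a → a < b → a * (a ^ 2 - 1) < b * (b ^ 2 - 1) := by
    intro a b h2 hab
    have h1 : a ^ 2 - 1 < b ^ 2 - 1 := by
      have : a ^ 2 < b ^ 2 := Nat.pow_lt_pow_left hab (by norm_num)
      have : 1 ≤ a ^ 2 := Nat.one_le_pow _ _ (by omega)
      omega
    exact Nat.mul_lt_mul_of_lt_of_lt hab h1
  rcases lt_trichotomy a b with h1 | h1 | h1
  · exact absurd h (key a b ha h1).ne
  · exact h1
  · exact absurd h.symm (key b a hb h1).ne

theorem card_eq {F F' : Type*} [Field F] [Fintype F] [Field F'] [Fintype F']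
    (e : Matrix.SpecialLinearGroup (Fin 2) F ≃* Matrix.SpecialLinearGroup (Fin 2) F') :
    Fintype.card F = Fintype.card F' := by
  have h1 := Nat.card_congr e.toEquiv
  rw [ClassicalGeometry.PSL2Basic.card_SL2, ClassicalGeometry.PSL2Basic.card_SL2] at h1
  exact card_inj (Fintype.one_lt_card (α := F)) (Fintype.one_lt_card (α := F')) h1

theorem char_eq {F F' : Type*} [Field F] [Fintype F] [Field F'] [Fintype F'] {p p' : ℕ} [CharP F p]
    [CharP F' p'] (e : Matrix.SpecialLinearGroup (Fin 2) F ≃* Matrix.SpecialLinearGroup (Fin 2) F') : p = p' := by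
  have h2 := card_eq e
  obtain ⟨n, hp, hn⟩ := FiniteField.card F p
  obtain ⟨n', hp', hn'⟩ := FiniteField.card F' p'
  rw [hn, hn'] at h2
  have h3 : p ∣ p' ^ (n' : ℕ) := by
    rw [← h2]
    exact dvd_pow_self p n.2.ne'
  exact (Nat.prime_dvd_prime_iff_eq hp hp').1 (hp.dvd_of_dvd_pow h3)

end Char

/-! ### `FrameOf.Piece` -/

section Pc

variable {G : Type*} [Group G] [Finite G] {Om : Set (Subgroup G)}

/-- **The lifts of the pieces of `C(s)/O(C(s))` are pieces of `⟨Om ∩ C(s)⟩`.** -/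
theorem piece_DL {s : G} {D' : Subgroup (HQ (centralizer {s}))} (C : CorG Om (centralizer {s}))
    (hD : QP Om (centralizer {s}) D')
    (hle : ∀ J ∈ Om, J ≤ centralizer {s} → bar (centralizer {s}) J ≤ D' → J ≤ DL Om (centralizer {s}) D') :
    FrameOf.Piece Om s (DL Om (centralizer {s}) D') where
  le a ha := mem_centralizer_singleton_iff.1 (DL_le ha)
  norm g hg := by
    have hgH : g ∈ centralizer {s} := mem_centralizer_singleton_iff.2 hg
    have h1 : cj g (DL Om (centralizer {s}) D') = DL Om (centralizer {s}) (cj (qm _ ⟨g, hgH⟩) D') :=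
      cj_DL C.hyp (⟨g, hgH⟩ : ↥(centralizer {s}))
    rcases hD.conj (qm _ ⟨g, hgH⟩) with h2 | h2
    · left
      rw [h1, h2]
    · right
      have h3 : cj g (DL Om (centralizer {s}) D') ≤ centralizer {s} := by rw [h1]; exact DL_le
      have h4 : bar (centralizer {s}) (cj g (DL Om (centralizer {s}) D')) ≤
          centralizer (D' : Set (HQ (centralizer {s}))) := by
        have h5 := cj_bar (H := centralizer {s}) (K := DL Om (centralizer {s}) D') (⟨g, hgH⟩ : ↥(centralizer {s}))
        rw [bar_DL C hD] at h5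
        exact h5.le.trans h2
      exact fun a ha b hb => (comm_of_bar C hD h3 h4 b hb a ha).symm
  mem J hJ hJc := by
    have hJH : J ≤ centralizer {s} := fun a ha => mem_centralizer_singleton_iff.2 (hJc a ha)
    by_cases h1 : bar (centralizer {s}) J ≤ D'
    · exact Or.inl (hle J hJ hJH h1)
    · exact Or.inr fun a ha b hb => (comm_member C hD hJ hJH h1 b hb a ha).symm

variable {H : Subgroup G} {D' : Subgroup (HQ H)}

/-- a member of `Om` in `H` lies in the lift or commutes with it -/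
theorem le_or_comm (C : CorG Om H) (hD : QP Om H D')
    (hle : ∀ J ∈ Om, J ≤ H → bar H J ≤ D' → J ≤ DL Om H D') {J : Subgroup G} (hJ : J ∈ Om) (hJH : J ≤ H) :
    J ≤ DL Om H D' ∨ TypeDet.cm (DL Om H D') J := by
  by_cases h1 : bar H J ≤ D'
  · exact Or.inl (hle J hJ hJH h1)
  · exact Or.inr fun a ha b hb => (comm_member C hD hJ hJH h1 b hb a ha).symm

/-- **The lift is generated by a chain class of members of `Om` in `H`.** -/
theorem DL_eq_piece (C : CorG Om H) (hD : QP Om H D')
    (hle : ∀ J ∈ Om, J ≤ H → bar H J ≤ D' → J ≤ DL Om H D') {p : ℕ} (c : Chart Om p (DL Om H D'))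
    {X : Subgroup G} (hX : X ∈ Om) (hXH : X ≤ H) (hXD : bar H X ≤ D') :
    DL Om H D' = TypeDet.piece (TypeDet.OmIn Om H) X := by
  have hXL := hle X hX hXH hXD
  apply le_antisymm
  · rw [← Nodes.ChartIrr.sSup_omIn c C.hyp.conj]
    refine sSup_le fun M hM => ?_
    have h0 : X ∈ TypeDet.OmIn Om (DL Om H D') := ⟨hX, hXL⟩
    have h1 := Nodes.ChartIrr.chn_omIn c C.hyp.conj h0 hM
    have h2 : M ∈ TypeDet.OmIn Om H := ⟨hM.1, hM.2.trans DL_le⟩
    have h3 : TypeDet.OmIn Om (DL Om H D') ⊆ TypeDet.OmIn Om H := fun L hL => ⟨hL.1, hL.2.trans DL_le⟩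
    exact TypeDet.le_piece h2 (TypeDet.chn_mono h3 h1)
  · refine sSup_le ?_
    rintro M ⟨hM, hc⟩
    have key : ∀ M, TypeDet.chn (TypeDet.OmIn Om H) X M → M ≤ DL Om H D' := by
      intro M hc
      induction hc with
      | refl => exact hXL
      | tail _ h2 ih =>
        rcases le_or_comm C hD hle h2.2.1.1 h2.2.1.2 with h3 | h3
        · exact h3
        · exact absurd (TypeDet.cm_mono ih le_rfl h3) h2.2.2
    exact key M hc

end Pc

/-! ### The central quotient -/

section Cen

/-- `A / Z(A) ≃ B / Z(B)` for a surjection with central kernel, `A` quasisimple, `B` not abelian -/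
theorem centerQuot_of_surj {A B : Type*} [Group A] [Group B] (f : A →* B) (hs : Function.Surjective f)
    (hA : IsQuasisimple A) (hB : center B ≠ ⊤) : Nonempty ((A ⧸ center A) ≃* (B ⧸ center B)) := by
  let g : A →* B ⧸ center B := (QuotientGroup.mk' (center B)).comp f
  have hg : Function.Surjective g := (QuotientGroup.mk'_surjective _).comp hs
  have hker : g.ker = (center B).comap f := by
    ext x
    rw [MonoidHom.mem_ker, mem_comap]
    exact QuotientGroup.eq_one_iff (N := center B) (f x)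
  have h1 : g.ker = center A := by
    rcases Lib.ComponentSolvable.quasisimple_normal_cases hA (inferInstance : g.ker.Normal) with h2 | h2
    · exfalso
      apply hB
      rw [eq_top_iff]
      intro b _
      obtain ⟨a, rfl⟩ := hs b
      have h3 : a ∈ g.ker := by rw [h2]; exact mem_top a
      rwa [hker] at h3
    · refine le_antisymm h2 ?_
      rw [hker]
      intro a ha
      rw [mem_comap, mem_center_iff]
      intro b
      obtain ⟨c, rfl⟩ := hs b
      rw [← map_mul, ← map_mul, mem_center_iff.1 ha c]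
  exact ⟨(QuotientGroup.quotientMulEquivOfEq h1.symm).trans (QuotientGroup.quotientKerEquivOfSurjective g hg)⟩

variable {G : Type*} [Group G] [Finite G] {Om : Set (Subgroup G)} {H : Subgroup G} {D' : Subgroup (HQ H)}

/-- **`DL / Z(DL) ≃ D' / Z(D')`** -/
theorem centerQuot (C : CorG Om H) (hD : QP Om H D') :
    Nonempty ((↥(DL Om H D') ⧸ center ↥(DL Om H D')) ≃* (↥D' ⧸ center ↥D')) := by
  refine centerQuot_of_surj (dlD Om H D') ?_ (DL_quasisimple C hD) ?_
  · rintro ⟨y, hy⟩
    obtain ⟨x, hx, h1⟩ := DL_cover C hD hy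
    exact ⟨⟨x, hx⟩, Subtype.ext h1⟩
  · intro h1
    have h2 : IsSimpleGroup (↥D' ⧸ center ↥D') := hD.qs.2
    have h3 : Subsingleton (↥D' ⧸ center ↥D') := by
      rw [h1]
      exact QuotientGroup.subsingleton_quotient_top
    exact not_nontrivial_iff_subsingleton.2 h3 h2.toNontrivial

end Cen

/-! ### Typed pieces -/

section Typed

universe u

variable {G : Type u} [Group G] [Finite G] {Om : Set (Subgroup G)} {H : Subgroup G} {D' : Subgroup (HQ H)}

theorem DL_nmem (C : CorG Om H) (hD : QP Om H D') (hn : D' ∉ fb Om H) : DL Om H D' ∉ Om := by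
  intro h1
  apply hn
  rw [← bar_DL C hD]
  exact bar_mem h1 DL_le

/-- the fields of a chart group over the members -/
theorem exists_over {p : ℕ} {F : Type*} [Field F] [Fintype F] (hF : Odd (Fintype.card F))
    (c : Chart (fb Om H) p D')
    (sl : ∀ J ∈ Om, J ≤ H → bar H J ≤ D' → Nonempty (Matrix.SpecialLinearGroup (Fin 2) F ≃* J)) {r : c.I → ℤ}
    (hr : r ∈ c.R) : Nonempty (Matrix.SpecialLinearGroup (Fin 2) F ≃* ↥(c.Z r ⊔ c.Z (-r))) := by
  obtain ⟨J, hJ, hJH, h1⟩ := exists_bar (c.om r hr)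
  have h2 : bar H J ≤ D' := by
    rw [h1]
    exact sup_le ((c.cls.le r hr).trans (FrameOf.X_le c (c.cls.root r hr)))
      ((c.cls.le _ (Nodes.ClsMap.neg_mem c.cls hr)).trans
        (FrameOf.X_le c (c.cls.root _ (Nodes.ClsMap.neg_mem c.cls hr))))
  obtain ⟨e⟩ := sl J hJ hJH h2
  exact ⟨(e.trans (PieceLoc.barEquiv hJH (OO_eq_bot hF e))).trans (MulEquiv.subgroupCongr h1)⟩

/-- **A typed piece of `H / O(H)` lifts to a typed piece of `G`.** -/
theorem tyPcE_DL (C : CorG Om H) (hD : QP Om H D') {τ : Nodes.Chart.Ty} (h : TyPcE (fb Om H) τ D')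
    {F : Type*} [Field F] [Fintype F] {p : ℕ} [CharP F p] (hF : Odd (Fintype.card F))
    (big : 3 < Fintype.card F ∨ τ ≠ .C 1)
    (sl : ∀ J ∈ Om, J ≤ H → bar H J ≤ D' → Nonempty (Matrix.SpecialLinearGroup (Fin 2) F ≃* J))
    (good : ∀ J ∈ Om, J ≤ H → bar H J ≤ D' → ∀ P ≤ J, Nat.card P = Fintype.card F → Good p P (zz J)) :
    TyPcE Om τ (DL Om H D') ∧ (∀ J ∈ Om, J ≤ H → bar H J ≤ D' → J ≤ DL Om H D') ∧
      ∃ c : Chart Om p (DL Om H D'), c.IsTy τ ∧ ((∀ r ∈ c.R, c.Z r = c.X r) ∨ ∃ n, τ = .C n) := by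
  obtain ⟨nmem, qs, ok, p', c, kind, small, ⟨F', _, _, _, sl'⟩, zx⟩ := h
  obtain ⟨r, hr⟩ := c.Rne
  obtain ⟨e1⟩ := exists_over hF c sl hr
  obtain ⟨e2⟩ := sl' r hr
  have hpp : p = p' := char_eq (e1.trans e2.symm)
  subst hpp
  have I : Inp Om H F' c :=
    { cor := C
      qp := hD
      nmem := nmem
      Fodd := by rw [card_eq (e2.trans e1.symm)]; exact hF
      char := inferInstance
      big := by
        rw [card_eq (e2.trans e1.symm)]
        refine big.imp_right fun h1 => nonAb_of_nontrivial c ?_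
        obtain ⟨e, -⟩ := kind
        have h2 := two_le_rk ok h1
        haveI : Nontrivial (Fin τ.rk) := Fin.nontrivial_iff_two_le.2 h2
        exact e.nontrivial
      sl := fun J hJ hJH hJD => by
        obtain ⟨e⟩ := sl J hJ hJH hJD
        exact ⟨(e2.trans e1.symm).trans e⟩
      good := fun J hJ hJH hJD P hP hc => good J hJ hJH hJD P hP (by
        rw [hc, card_eq (e2.trans e1.symm)]) }
  have zx' : (∀ r ∈ I.chart.R, I.chart.Z r = I.chart.X r) ∨ ∃ n, τ = .C n := by
    rcases zx with h1 | h1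
    · exact Or.inl (I.Z_eq_X h1)
    · exact Or.inr h1
  refine ⟨⟨DL_nmem C hD nmem, DL_quasisimple C hD, ok, p, I.chart, I.isTy kind, fun hI => ?_, ?_, zx'⟩,
    fun J hJ hJH hJD => I.le_DL hJ hJH hJD, I.chart, I.isTy kind, zx'⟩
  · obtain ⟨e⟩ := centerQuot C hD
    exact OddHalf.Known.isLieTypeChar_congr e.symm (small hI)
  · exact ⟨F', inferInstance, inferInstance, inferInstance, fun r hr => I.chart_sl hr⟩

end Typed

end Cfsg.Agent.Cit.ExactChart
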