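import Cfsg.Agent.Cit.ExMain
import Cfsg.Agent.Cit.ExactPiece

/-!
# (EX): output for the type owners (project CIT)

* `EX Om p F` : all members are `SL(2, F)`, `F` of odd characteristic `p`, with good parabolics; `In.ex`;
* `EX.exists_dat` : the input `Dat` of `FrameOf` for a family of commuting members;
* `EX.tyPcE` : a typed piece of `H / O(H)` gives the typed piece `piece (OmIn Om H) X` of `G`.
-/

set_option autoImplicit false
set_option linter.dupNamespace false
set_option linter.style.haveILetI false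
set_option linter.unusedSectionVars false

namespace Cfsg.Agent.Cit.ExOut

open Subgroup Cfsg Cfsg.Agent.Cit.UseT Cfsg.Agent.Cit.PieceLift Cfsg.Agent.Cit.PieceG
open Cfsg.Agent.Cit.FrameOf Cfsg.Agent.Cit.ParabSL2 Cfsg.Agent.Cit.ExMain Cfsg.Agent.Cit.ExactChart
open Cfsg.Agent.Nodes.Chart

universe u

section

variable {G : Type*} [Group G]

/-- **(EX)** -/
structure EX (Om : Set (Subgroup G)) (p : ℕ) (F : Type*) [Field F] [Fintype F] : Prop where
  prime : p.Prime
  char : CharP F p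
  odd : Odd (Fintype.card F)
  sl : ∀ K ∈ Om, Nonempty (Matrix.SpecialLinearGroup (Fin 2) F ≃* K)
  good : ∀ K ∈ Om, ∀ X ≤ K, Nat.card X = Fintype.card F → Good p X (zz K)

theorem exists_ex [Finite G] {Om : Set (Subgroup G)} [IsSimpleGroup G] (i : In Om) :
    ∃ (p : ℕ) (F : Type) (_ : Field F) (_ : Fintype F), EX Om p F := by
  obtain ⟨p, F, h1, h2, h3, h4, h5, h6, h7⟩ := i.good
  exact ⟨p, F, h1, h2, h3, h4, h5, h6, h7⟩

variable {Om : Set (Subgroup G)} {p : ℕ} {F : Type*} [Field F] [Fintype F] (x : EX Om p F)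

include x

/-- root groups of a family of commuting members -/
theorem EX.exists_dat (hyp : Hyp Om) {ι : Type*} {K : ι → Subgroup G} (mem : ∀ i, K i ∈ Om)
    (comm : ∀ i j, i ≠ j → ∀ a ∈ K i, ∀ b ∈ K j, a * b = b * a) :
    ∃ X : ι → SignType → Subgroup G, Dat Om F K X ∧ ∀ i (s : SignType), s ≠ 0 → Good p (X i s) (zz (K i)) := by
  classical
  let e : ∀ i, Matrix.SpecialLinearGroup (Fin 2) F ≃* K i := fun i => (x.sl (K i) (mem i)).some
  refine ⟨fun i s => if s = 1 then root (e i) else rootOp (e i),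
    ⟨hyp, mem, comm, fun i => ⟨e i, if_pos rfl, if_neg (by decide)⟩⟩, fun i s _ => ?_⟩
  refine x.good (K i) (mem i) _ ?_ ?_
  · dsimp only
    split_ifs
    · exact root_le (e i)
    · exact Dat.rootOp_le (e i)
  · dsimp only
    split_ifs
    · exact card_root (e i)
    · exact Dat.card_rootOp (e i)

end

variable {G : Type u} [Group G] [Finite G] {Om : Set (Subgroup G)} {p : ℕ} {F : Type*} [Field F] [Fintype F]

/-- **the piece of `X` in `H` is exact and typed** -/
theorem EX.tyPcE (x : EX Om p F) {H X : Subgroup G} (C : CorG Om H) (hX : X ∈ Om) (hXH : X ≤ H)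
    {τ : Nodes.Chart.Ty} (h : TyPcE (fb Om H) τ (PT Om H X)) (big : 3 < Fintype.card F ∨ τ ≠ .C 1) :
    TyPcE Om τ (TypeDet.piece (TypeDet.OmIn Om H) X) ∧
      DL Om H (PT Om H X) = TypeDet.piece (TypeDet.OmIn Om H) X ∧
      (∀ J ∈ Om, J ≤ H → bar H J ≤ PT Om H X → J ≤ TypeDet.piece (TypeDet.OmIn Om H) X) ∧
      ∃ c : Chart Om p (TypeDet.piece (TypeDet.OmIn Om H) X), c.IsTy τ ∧
        ((∀ r ∈ c.R, c.Z r = c.X r) ∨ ∃ n, τ = .C n) := by
  haveI := x.char
  have hD := qp_PT C hX hXH h.nmem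
  obtain ⟨h1, h2, h3⟩ := tyPcE_DL C hD h x.odd big (fun J hJ _ _ => x.sl J hJ)
    (fun J hJ _ _ => x.good J hJ)
  have h5 : DL Om H (PT Om H X) = TypeDet.piece (TypeDet.OmIn Om H) X := by
    obtain ⟨c, -⟩ := h3
    exact DL_eq_piece C hD h2 c hX hXH bar_le_PT
  rw [h5] at h1 h2 h3
  exact ⟨h1, h5, h2, h3⟩

/-- the pieces of `C(s)` are pieces in the sense of `FrameOf` -/
theorem EX.piece (x : EX Om p F) {s : G} {X : Subgroup G} (C : CorG Om (centralizer {s})) (hX : X ∈ Om)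
    (hXH : X ≤ centralizer {s}) {τ : Nodes.Chart.Ty}
    (h : TyPcE (fb Om (centralizer {s})) τ (PT Om (centralizer {s}) X)) (big : 3 < Fintype.card F ∨ τ ≠ .C 1) :
    FrameOf.Piece Om s (TypeDet.piece (TypeDet.OmIn Om (centralizer {s})) X) := by
  haveI := x.char
  have hD := qp_PT C hX hXH h.nmem
  obtain ⟨-, h5, -, -⟩ := x.tyPcE C hX hXH h big
  obtain ⟨-, h2, -⟩ := tyPcE_DL C hD h x.odd big (fun J hJ _ _ => x.sl J hJ) (fun J hJ _ _ => x.good J hJ)
  rw [← h5]
  exact piece_DL C hD h2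

end Cfsg.Agent.Cit.ExOut
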