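import Mathlib
import Cfsg.Agent.Cit.FrameOf
import Cfsg.Agent.Cit.FrameClose

/-!
# Frames and pieces: general supplements (project CIT)

* `Piece.conj` : conjugates of pieces;
* `mem_OmS_of_comm` : a member of `Om` commuting with all members of `Om(S)` lies in `Om(S)`;
* `delta_le` : `Δ_l ≤ L` if `L` is a piece of `⟨Om ∩ C(z_l)⟩` containing all `K i`, `i ≠ l`;
* `mem_of_mem_Q` : an element of `Q i s` normalising `L ≥ K i` lies in `L`;
* `XX_le'` : the sign group of `e` lies in `L`, one element in the support;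
* `XX_le_zero` : the same for `e l = 0`, `L` the piece of `C(z_l)`;
* `X_le_XX` : `X k s` is contained in the sign group of `s` at `k`.
-/

set_option autoImplicit false
set_option linter.unusedSectionVars false

namespace Cfsg.Agent.Cit.FrameProv

open Subgroup Cfsg Cfsg.Agent.Cit
open Cfsg.Agent.Cit.FrameSign Cfsg.Agent.Cit.FrameOf Cfsg.Agent.Cit.FrameClose

variable {G : Type*} [Group G] {Om : Set (Subgroup G)} {ι : Type*}

/-- Conjugates of pieces are pieces. -/
theorem Piece.conj (hO : ∀ K ∈ Om, ∀ g, cj g K ∈ Om) {u : G} {L : Subgroup G} (P : Piece Om u L) (g : G) :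
    Piece Om (g * u * g⁻¹) (cj g L) where
  le := by
    rintro _ ⟨a, ha, rfl⟩
    have h1 := P.le a ha
    simp only [MulEquiv.coe_toMonoidHom, MulAut.conj_apply]
    calc g * a * g⁻¹ * (g * u * g⁻¹) = g * (a * u) * g⁻¹ := by group
      _ = g * (u * a) * g⁻¹ := by rw [h1]
      _ = g * u * g⁻¹ * (g * a * g⁻¹) := by group
  norm := by
    intro x hx
    have hy : (g⁻¹ * x * g) * u = u * (g⁻¹ * x * g) := by
      calc (g⁻¹ * x * g) * u = g⁻¹ * (x * (g * u * g⁻¹)) * g := by group
        _ = g⁻¹ * (g * u * g⁻¹ * x) * g := by rw [hx]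
        _ = u * (g⁻¹ * x * g) := by group
    have e1 : cj x (cj g L) = cj g (cj (g⁻¹ * x * g) L) := by
      rw [← cj_mul, ← cj_mul]; congr 1; group
    rcases P.norm _ hy with h1 | h1
    · left; rw [e1, h1]
    · right
      rw [e1]
      rintro _ ⟨a, ha, rfl⟩ _ ⟨b, hb, rfl⟩
      simp only [MulEquiv.coe_toMonoidHom, MulAut.conj_apply]
      calc g * a * g⁻¹ * (g * b * g⁻¹) = g * (a * b) * g⁻¹ := by group
        _ = g * (b * a) * g⁻¹ := by rw [h1 a ha b hb]
        _ = g * b * g⁻¹ * (g * a * g⁻¹) := by group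
  mem := by
    intro J hJ hu
    have hy : ∀ a ∈ cj g⁻¹ J, a * u = u * a := by
      rintro _ ⟨a, ha, rfl⟩
      simp only [MulEquiv.coe_toMonoidHom, MulAut.conj_apply, inv_inv]
      calc g⁻¹ * a * g * u = g⁻¹ * (a * (g * u * g⁻¹)) * g := by group
        _ = g⁻¹ * (g * u * g⁻¹ * a) * g := by rw [hu a ha]
        _ = u * (g⁻¹ * a * g) := by group
    rcases P.mem _ (hO J hJ g⁻¹) hy with h1 | h1
    · left
      rw [← cj_cj_inv g J]
      exact cj_mono g h1
    · right
      rintro _ ⟨a, ha, rfl⟩ b hb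
      have h2 := h1 a ha (g⁻¹ * b * g⁻¹⁻¹) (conj_mem_cj hb)
      simp only [MulEquiv.coe_toMonoidHom, MulAut.conj_apply]
      rw [inv_inv] at h2
      calc g * a * g⁻¹ * b = g * (a * (g⁻¹ * b * g)) * g⁻¹ := by group
        _ = g * (g⁻¹ * b * g * a) * g⁻¹ := by rw [h2]
        _ = b * (g * a * g⁻¹) := by group

/-- A member of `Om` commuting with all members of `Om(S)` lies in `Om(S)`. -/
theorem mem_OmS_of_comm [Finite G] (h : Hyp Om) (S : Sylow 2 G) {J : Subgroup G} (hJ : J ∈ Om)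
    (hc : ∀ K ∈ OmS Om (S : Subgroup G), ∀ a ∈ J, ∀ b ∈ K, a * b = b * a) : J ∈ OmS Om (S : Subgroup G) := by
  obtain ⟨P, hP⟩ := Hyp.exists_syl J
  have hD : DD Om (S : Subgroup G) ≤ centralizer (J : Set G) := by
    rw [DD_le_iff]
    intro K hK b hb
    rw [mem_centralizer_iff]
    exact fun a ha => hc K hK a ha b hb.1
  have hDc : ∀ a ∈ P, ∀ b ∈ DD Om (S : Subgroup G), a * b = b * a := fun a ha b hb =>
    mem_centralizer_iff.1 (hD hb) a (hP.1 ha)
  have hT : IsPGroup 2 (P ⊔ DD Om (S : Subgroup G) : Subgroup G) :=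
    isPGroup_sup hP.2.1 (S.isPGroup'.to_le DD_le) hDc
  rw [← OmS_eq_of_sylow h.conj S hT le_sup_right]
  exact mem_OmS_of_le hJ hP le_sup_left

/-- `Δ_l ≤ L`. -/
theorem delta_le [Finite G] (h : Hyp Om) (S : Sylow 2 G) {K : ι → Subgroup G}
    (hF : Set.range K = OmS Om (S : Subgroup G)) {l : ι} {L : Subgroup G} (P : Piece Om (zz (K l)) L)
    (hL : ∀ i, i ≠ l → K i ≤ L) : delta Om (K l) ≤ L := by
  have hl : K l ∈ OmS Om (S : Subgroup G) := by rw [← hF]; exact ⟨l, rfl⟩
  refine iSup₂_le fun J hJ => ?_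
  obtain ⟨hJ, hne, hc⟩ := hJ
  rcases P.mem J hJ (fun a ha => hc a ha _ (h.zz_mem hl.1)) with h1 | h1
  · exact h1
  · have h2 : J ∈ OmS Om (S : Subgroup G) := mem_OmS_of_comm h S hJ (by
      rintro M hM
      rw [← hF] at hM
      obtain ⟨i, rfl⟩ := hM
      by_cases hi : i = l
      · subst hi; exact hc
      · exact fun a ha b hb => (h1 b (hL i hi hb) a ha).symm)
    rw [← hF] at h2
    obtain ⟨i, rfl⟩ := h2
    exact hL i (fun e => hne (by rw [e]))

section Mem

variable [Finite G] {F : Type*} [Field F] [Fintype F] {p : ℕ}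
  {K : ι → Subgroup G} {X : ι → SignType → Subgroup G}

/-- The members of a frame are different. -/
theorem Dat.injective (D : Dat Om F K X) : Function.Injective K := by
  intro i j hij
  by_contra hne
  have h1 : X i 1 = ⊥ := by
    rw [eq_bot_iff]
    intro a ha
    refine mem_bot.2 (D.X_center i one_ne_zero ha fun b hb => ?_)
    exact D.comm i j hne a (D.X_le i one_ne_zero ha) b (by rw [← hij]; exact hb)
  have h2 := D.card_X i one_ne_zero
  rw [h1, Subgroup.card_bot] at h2
  exact (Fintype.one_lt_card (α := F)).ne h2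

/-- An element of `Q i s` normalising `L ≥ K i` lies in `L`. -/
theorem mem_of_mem_Q {z : ι → G} {Q : ι → SignType → Subgroup G} (Fr : Frame K z X Q) {L : Subgroup G} {i : ι}
    {s : SignType} (hs : s ≠ 0) (hK : K i ≤ L) {a : G} (ha : a ∈ Q i s)
    (hn : a ∈ Subgroup.normalizer (L : Set G)) : a ∈ L := by
  have hz : z i ∈ L := hK (Fr.z_mem i)
  have hz2 := Fr.z_sq i
  have hzQ : ∀ x ∈ Q i s, z i * x * z i ∈ Q i s := by
    intro x hx
    have h1 := (Subgroup.mem_normalizer_iff.1 (Fr.z_mem_normalizer_Q i i s) x).1 hx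
    rwa [Fr.z_inv] at h1
  set c := a⁻¹ * (z i * a * z i) with hc
  have hcQ : c ∈ Q i s := mul_mem (inv_mem ha) (hzQ a ha)
  have hcL : c ∈ L := by
    have h1 : a⁻¹ * z i * a⁻¹⁻¹ ∈ L := (Subgroup.mem_normalizer_iff.1 (inv_mem hn) _).1 hz
    rw [inv_inv] at h1
    have h2 : c = (a⁻¹ * z i * a) * z i := by rw [hc]; group
    rw [h2]
    exact mul_mem h1 hz
  have hac : a * c = z i * a * z i := by rw [hc]; group
  have hcz : z i * c * z i = c⁻¹ := by
    rw [hc]
    calc z i * (a⁻¹ * (z i * a * z i)) * z i = z i * a⁻¹ * z i * a * (z i * z i) := by group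
      _ = z i * a⁻¹ * z i * a := by rw [hz2, mul_one]
      _ = (z i)⁻¹ * a⁻¹ * (z i)⁻¹ * a := by rw [Fr.z_inv]
      _ = (a⁻¹ * (z i * a * z i))⁻¹ := by group
  obtain ⟨k, hk⟩ := Fr.odd_order hs hcQ
  have hpow : ∀ m : ℕ, z i * c ^ m * z i = (c ^ m)⁻¹ := by
    intro m
    induction m with
    | zero => rw [pow_zero, mul_one, hz2, inv_one]
    | succ m ih =>
      calc z i * c ^ (m + 1) * z i = z i * c ^ m * (z i * z i) * c * z i := by rw [hz2, pow_succ]; group
        _ = (z i * c ^ m * z i) * (z i * c * z i) := by group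
        _ = (c ^ m)⁻¹ * c⁻¹ := by rw [ih, hcz]
        _ = (c ^ (m + 1))⁻¹ := by rw [pow_succ']; group
  set b := c ^ (k + 1) with hb
  have hbb : b * b = c := by
    have h1 : c ^ (2 * k + 1) = 1 := by rw [← hk]; exact pow_orderOf_eq_one c
    calc b * b = c ^ (2 * k + 1) * c := by rw [hb, ← pow_add, ← pow_succ]; congr 1; ring
      _ = c := by rw [h1, one_mul]
  have hbQ : b ∈ Q i s := pow_mem hcQ _
  have hbL : b ∈ L := pow_mem hcL _
  have hab : z i * (a * b) * z i = a * b := by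
    calc z i * (a * b) * z i = (z i * a) * 1 * b * z i := by group
      _ = (z i * a) * (z i * z i) * b * z i := by rw [hz2]
      _ = (z i * a * z i) * (z i * b * z i) := by group
      _ = a * c * b⁻¹ := by rw [← hac, hb, hpow]
      _ = a * b := by rw [← hbb]; group
  have h1 : z i * (a * b) = a * b * z i := by
    calc z i * (a * b) = z i * (a * b) * (z i * z i) := by rw [hz2, mul_one]
      _ = (z i * (a * b) * z i) * z i := by group
      _ = a * b * z i := by rw [hab]
  have h2 : a * b ∈ L := hK (Fr.X_le_K i hs (Fr.Q_fix i s hs _ (mul_mem ha hbQ) h1))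
  have h3 : a = (a * b) * b⁻¹ := by group
  rw [h3]
  exact mul_mem h2 (inv_mem hbL)

/-- **Sign groups lie in pieces**, one element of the support in the piece. -/
theorem XX_le' (D : Dat Om F K X) (Fr : Frame K (fun i => zz (K i)) X (QF K X)) {u : G} {L : Subgroup G}
    (P : Piece Om u L) {e : ι → SignType} {i : ι} (hi : e i ≠ 0) (hK : K i ≤ L)
    (hu : ∀ a ∈ XX (QF K X) e, a * u = u * a) : XX (QF K X) e ≤ L := by
  intro a ha
  have hQ := mem_XX.1 ha i
  refine mem_of_mem_Q Fr hi hK hQ ?_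
  rw [mem_normalizer_iff_cj]
  exact mem_normalizer_piece D Fr P hK hi (hu a ha) fun x hx => Fr.Q_cent i _ hi a hQ x hx

/-- **Sign groups lie in pieces**, `e l = 0`. -/
theorem XX_le_zero (D : Dat Om F K X) (Fr : Frame K (fun i => zz (K i)) X (QF K X)) {l : ι} {L : Subgroup G}
    (P : Piece Om (zz (K l)) L) {e : ι → SignType} (hl : e l = 0) {i : ι} (hi : e i ≠ 0) (hK : K i ≤ L) :
    XX (QF K X) e ≤ L := XX_le' D Fr P hi hK (XX_comm_z Fr hl)

/-- `X k s` lies in the sign group of `s` at `k`. -/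
theorem X_le_XX {z : ι → G} {Q : ι → SignType → Subgroup G} (Fr : Frame K z X Q) {k : ι} {s : SignType}
    (hs : s ≠ 0) {e : ι → SignType} (hk : e k = s) (h0 : ∀ i, i ≠ k → e i = 0) : X k s ≤ XX Q e := by
  intro a ha
  rw [mem_XX]
  intro i
  by_cases hi : i = k
  · subst hi
    rw [hk]
    exact Fr.X_le_Q i s hs ha
  · rw [h0 i hi]
    exact Fr.mem_Q_zero.2 (Fr.comm k i (Ne.symm hi) a (Fr.X_le_K k hs ha))

end Mem

end Cfsg.Agent.Cit.FrameProv
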