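import Mathlib
import Cfsg.Agent.Cit.ExIn
import Cfsg.Agent.Cit.ExOut
import Cfsg.Agent.Cit.FrameProv
import Cfsg.Agent.Cit.TypeDet.FourMain
import Cfsg.Agent.Cit.TypeDet.KindsAll
import Cfsg.Agent.Cit.TypeDet.Setup

/-!
# `CoreFour`, different involutions: the pieces of `C(z_k)` (project CIT, R18, rows F)

Frames `K : ι → Subgroup G` with `F - k` of kind `KL` for all `k` (output of `four_KL`).

* `PT_eq`, `eq_or_PT` : all members of `Om` in `C(z_k)` except `K_k` lie in one piece modulo `O(C(z_k))`;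
* `exists_typed` : this piece is of type `C n`, `A (2n-1)`, `A (2n)`, `n = |F| - 1`;
* `isCh` : input `ch` of `ExMain.In`; `ch_of_frames`.
-/

set_option autoImplicit false
set_option linter.unusedSectionVars false
set_option linter.unusedVariables false
set_option linter.dupNamespace false
set_option linter.style.haveILetI false

namespace Cfsg.Agent.Cit.FourIn

open Subgroup Finset Classical Relation Cfsg Cfsg.Agent.Cit.TypeDet Cfsg.Agent.Cit.UseT
open Cfsg.Agent.Cit.PieceLift Cfsg.Agent.Cit.PieceG Cfsg.Agent.Cit.ExLocal Cfsg.Agent.Cit.ExMain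
open Cfsg.Agent.Cit.ExactChart Cfsg.Agent.Cit.ExOut Cfsg.Agent.Cit.FrameClose

universe u

variable {G : Type u} [Group G] [Finite G] {ι : Type*} [Fintype ι] {Om : Set (Subgroup G)} {K : ι → Subgroup G}

/-- a maximal frame with all `F - k` of kind `KL` -/
structure KLF (Om : Set (Subgroup G)) (K : ι → Subgroup G) : Prop where
  lb : LB Om
  mem : ∀ i, K i ∈ Om
  comm : ∀ i j, i ≠ j → cm (K i) (K j)
  max : ∀ L ∈ Om, ∃ i, ¬ cm L (K i)
  kl : ∀ k, (data Om K mem comm).KL (univ.erase k)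

/-- maximality of the frame `Om(S)` -/
theorem max_of_range (b : LB Om) (S : Sylow 2 G) (hr : Set.range K = OmS Om (S : Subgroup G)) :
    ∀ L ∈ Om, ∃ i, ¬ cm L (K i) := by
  intro L hL
  by_contra hcon
  push Not at hcon
  have h1 : L ∈ OmS Om (S : Subgroup G) := FrameProv.mem_OmS_of_comm b.hyp S hL (by
    intro M hM
    rw [← hr] at hM
    obtain ⟨i, rfl⟩ := hM
    exact hcon i)
  rw [← hr] at h1
  obtain ⟨i, rfl⟩ := h1
  exact b.not_cm_self hL (hcon i)

namespace KLF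

variable (f : KLF Om K)

include f

theorem cor (k : ι) : CorG Om (centralizer {zz (K k)}) := f.lb.cor _ (f.mem k)

theorem le_cen {i k : ι} (h : i ≠ k) : K i ≤ centralizer {zz (K k)} := f.lb.le_of_cm (f.mem k) (f.comm i k h)

theorem le_cen' (i k : ι) : K i ≤ centralizer {zz (K k)} := by
  by_cases h : i = k
  · subst h; exact f.lb.hyp.le_centralizer (f.mem i)
  · exact f.le_cen h

theorem inj : Function.Injective K := by
  intro i j h
  by_contra hij
  have := f.comm i j hij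
  rw [h] at this
  exact f.lb.not_cm_self (f.mem j) this

theorem three (k : ι) : 3 ≤ (univ.erase k).card := (f.kl k).1

/-- `K i`, `K j` are joined in `C(K k)` -/
theorem chn_of {i j k : ι} (hi : i ≠ k) (hj : j ≠ k) : chn (Red.Cen Om {K k}) (K i) (K j) := by
  by_cases hij : i = j
  · rw [hij]; exact ReflTransGen.refl
  have hik : i ∈ univ.erase k := mem_erase.2 ⟨hi, mem_univ _⟩
  have hjk : j ∈ univ.erase k := mem_erase.2 ⟨hj, mem_univ _⟩
  have h1 := (f.kl k).2.2 i hik j hjk hij i (by simp) j (by simp)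
  obtain ⟨-, -, h2⟩ : frel Om K {i, j} i j := h1
  refine chn_mono ?_ h2
  rintro L ⟨h3, h4⟩
  rw [Red.mem_Cen_single]
  refine ⟨h3, h4 k ?_⟩
  rw [mem_insert, Finset.mem_singleton, not_or]
  exact ⟨hi.symm, hj.symm⟩

theorem mem_Cen {i k : ι} (hi : i ≠ k) : K i ∈ Red.Cen Om {K k} :=
  Red.mem_Cen_single.2 ⟨f.mem i, f.comm i k hi⟩

/-- all `K i`, `i ≠ k`, lie in one piece modulo `O(C(z_k))` -/
theorem PT_eq {i j k : ι} (hi : i ≠ k) (hj : j ≠ k) :
    PT Om (centralizer {zz (K k)}) (K i) = PT Om (centralizer {zz (K k)}) (K j) :=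
  (f.lb.PT_eq_of_chn (f.mem k) (f.mem_Cen hi) (f.chn_of hi hj)).1

/-- all members of `Om` in `C(z_k)` except `K_k` lie in this piece -/
theorem eq_or_PT {J : Subgroup G} {i k : ι} (hi : i ≠ k) (hJ : J ∈ Om) (hJk : J ≤ centralizer {zz (K k)}) :
    J = K k ∨ PT Om (centralizer {zz (K k)}) J = PT Om (centralizer {zz (K k)}) (K i) := by
  rcases f.lb.eq_or_cm (f.mem k) hJ hJk with h1 | h1
  · exact Or.inl h1
  · right
    obtain ⟨j, hj⟩ := f.max J hJ
    have hjk : j ≠ k := fun e => hj (by rw [e]; exact h1)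
    rw [f.lb.PT_eq_of_not_cm (f.cor k) hJ (f.mem j) hJk (f.le_cen hjk) hj]
    exact f.PT_eq hjk hi

/-- `K_k` is not in this piece -/
theorem not_le (k i : ι) (hi : i ≠ k) :
    ¬ bar (centralizer {zz (K k)}) (K k) ≤ PT Om (centralizer {zz (K k)}) (K i) := by
  intro hle
  have hf := fb_hyp f.lb.hyp (centralizer {zz (K k)})
  have hkk := f.le_cen' k k
  have hbk := bar_mem (Om := Om) (f.mem k) hkk
  by_cases h1 : PT Om (centralizer {zz (K k)}) (K k) = PT Om (centralizer {zz (K k)}) (K i)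
  · have h2 : bar (centralizer {zz (K k)}) (K i) ≤ bar (centralizer {zz (K k)}) (K k) := by
      rw [← f.lb.PT_self (f.mem k), h1]
      exact bar_le_PT
    exact hi (f.inj (eq_of_bar_eq (f.cor k) (f.mem i) (f.mem k) (f.le_cen hi) hkk
      (hf.eq_of_le (bar_mem (f.mem i) (f.le_cen hi)) hbk h2)))
  · have h2 := pc_comm hbk (bar_mem (Om := Om) (f.mem i) (f.le_cen hi)) h1
    exact hf.not_le_centralizer_self hbk ((bar_le_PT.trans h2).trans (centralizer_le hle))

/-- three members -/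
theorem exists_three (k : ι) : ∃ a b c : ι, a ≠ k ∧ b ≠ k ∧ c ≠ k ∧ a ≠ b ∧ a ≠ c ∧ b ≠ c := by
  obtain ⟨a, b, c, ha, hb, hc, h1, h2, h3⟩ := Finset.two_lt_card_iff.1 (f.three k)
  exact ⟨a, b, c, (mem_erase.1 ha).1, (mem_erase.1 hb).1, (mem_erase.1 hc).1, h1, h2, h3⟩

/-- the piece is typed -/
theorem exists_tyPc (k i : ι) (hi : i ≠ k) :
    ∃ τ, TyPc (fb Om (centralizer {zz (K k)})) τ (PT Om (centralizer {zz (K k)}) (K i)) := by
  obtain ⟨a, b, c, ha, hb, hc, hab, hac, hbc⟩ := f.exists_three k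
  set H := centralizer {zz (K k)} with hH
  have C := f.cor k
  have hf := fb_hyp f.lb.hyp H
  have hle : ∀ j, j ≠ k → bar H (K j) ≤ PT Om H (K i) := fun j hj => by
    rw [← f.PT_eq hj hi]; exact bar_le_PT
  have hm : ∀ j, j ≠ k → bar H (K j) ∈ fb Om H := fun j hj => bar_mem (f.mem j) (f.le_cen hj)
  have hcm : ∀ j l, j ≠ k → l ≠ k → j ≠ l → cm (bar H (K j)) (bar H (K l)) := fun j l hj hl hjl =>
    (f.lb.cm_iff C (f.mem j) (f.mem l) (f.le_cen hj) (f.le_cen hl)).2 (f.comm j l hjl)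
  exact typed_of_three hf (C.pcs.piece hf (hm i hi)) (hm a ha) (hm b hb) (hm c hc) (hle a ha) (hle b hb)
    (hle c hc) (hcm a b ha hb hab) (hcm a c ha hc hac) (hcm b c hb hc hbc)

/-- the typed kind of the piece -/
theorem kt {τ : Nodes.Chart.Ty} {k i : ι} (hi : i ≠ k)
    (h : TyPcE (fb Om (centralizer {zz (K k)})) τ (PT Om (centralizer {zz (K k)}) (K i))) :
    ∃ (hK : ∀ j : {j // j ≠ k}, bar (centralizer {zz (K k)}) (K j) ∈
        TypeDet.OmIn (fb Om (centralizer {zz (K k)})) (PT Om (centralizer {zz (K k)}) (K i)))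
      (hc : ∀ a b : {j // j ≠ k}, a ≠ b → cm (bar (centralizer {zz (K k)}) (K a)) (bar (centralizer {zz (K k)}) (K b))),
      (data (TypeDet.OmIn (fb Om (centralizer {zz (K k)})) (PT Om (centralizer {zz (K k)}) (K i)))
        (fun j : {j // j ≠ k} => bar (centralizer {zz (K k)}) (K j)) hK hc).KT τ univ := by
  set H := centralizer {zz (K k)} with hH
  have C := f.cor k
  have hf := fb_hyp f.lb.hyp H
  have hle : ∀ j, j ≠ k → bar H (K j) ≤ PT Om H (K i) := fun j hj => by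
    rw [← f.PT_eq hj hi]; exact bar_le_PT
  have hm : ∀ j, j ≠ k → bar H (K j) ∈ fb Om H := fun j hj => bar_mem (f.mem j) (f.le_cen hj)
  refine ⟨fun j => ⟨hm j j.2, hle j j.2⟩, fun a b hab =>
    (f.lb.cm_iff C (f.mem a) (f.mem b) (f.le_cen a.2) (f.le_cen b.2)).2
      (f.comm a b fun e => hab (Subtype.ext e)), ?_⟩
  obtain ⟨-, -, -, p, c, kind, -⟩ := h
  refine KindsAll.kt hf c kind _ _ ?_
  rintro L' ⟨h1, h2⟩
  obtain ⟨J, hJ, hJH, rfl⟩ := exists_bar h1
  obtain ⟨j, hj⟩ := f.max J hJ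
  by_cases hjk : j = k
  · exfalso
    subst hjk
    rcases f.lb.eq_or_cm (f.mem j) hJ hJH with h3 | h3
    · rw [h3] at h2
      exact f.not_le j i hi h2
    · exact hj h3
  · exact ⟨⟨j, hjk⟩, fun h3 => hj ((f.lb.cm_iff C hJ (f.mem j) hJH (f.le_cen hjk)).1 h3)⟩

theorem card_ne (k : ι) : Fintype.card {j // j ≠ k} = Fintype.card ι - 1 := by
  rw [Fintype.card_subtype_compl, Fintype.card_subtype_eq]

/-- **the type of the piece**, `|F| = 4` -/
theorem exists_typed (h4 : Fintype.card ι = 4) (k i : ι) (hi : i ≠ k) :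
    ∃ τ, (τ = .C 3 ∨ τ = .A 5 ∨ τ = .A 6) ∧
      TyPcE (fb Om (centralizer {zz (K k)})) τ (PT Om (centralizer {zz (K k)}) (K i)) := by
  obtain ⟨τ, h1⟩ := f.exists_tyPc k i hi
  have h2 : TyPcE (fb Om (centralizer {zz (K k)})) τ (PT Om (centralizer {zz (K k)}) (K i)) :=
    ⟨h1.1, h1.2.1, h1.2.2.2⟩
  obtain ⟨hK, hc, h3⟩ := f.kt hi h2
  have hcard : (univ : Finset {j // j ≠ k}).card = 3 := by
    rw [Finset.card_univ, f.card_ne k, h4]
  have hok := h2.kindOk
  refine ⟨τ, ?_, h2⟩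
  cases τ with
  | A n =>
    have h5 := h3.1
    rw [hcard] at h5
    have h6 : n = 5 ∨ n = 6 := by omega
    rcases h6 with rfl | rfl
    · exact Or.inr (Or.inl rfl)
    · exact Or.inr (Or.inr rfl)
  | B n =>
    exfalso
    have h5 := h3.1
    rw [hcard] at h5
    omega
  | C n =>
    have h5 := h3.1
    rw [hcard] at h5
    subst h5
    exact Or.inl rfl
  | D n =>
    exfalso
    have h5 := h3.1
    rw [hcard] at h5
    omega
  | E6 =>
    exfalso
    have h5 : (univ : Finset {j // j ≠ k}).card = 4 := h3.1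
    omega
  | E7 =>
    exfalso
    have h5 : (univ : Finset {j // j ≠ k}).card = 7 := h3.1
    omega
  | E8 =>
    exfalso
    have h5 : (univ : Finset {j // j ≠ k}).card = 8 := h3.1
    omega
  | F4 =>
    exfalso
    have h5 : (univ : Finset {j // j ≠ k}).card = 4 := h3.1
    omega
  | G2 => exact hok.elim

/-- **input `ch` of `ExMain.In`** -/
theorem isCh (h4 : Fintype.card ι = 4) (k : ι) {J : Subgroup G} (hJ : J ∈ Om) (hJk : J ≤ centralizer {zz (K k)})
    (hn : PT Om (centralizer {zz (K k)}) J ∉ fb Om (centralizer {zz (K k)})) :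
    IsCh (fb Om (centralizer {zz (K k)})) (PT Om (centralizer {zz (K k)}) J) := by
  obtain ⟨i, -, -, hi, -⟩ := f.exists_three k
  rcases f.eq_or_PT hi hJ hJk with h1 | h1
  · exfalso
    apply hn
    rw [h1, f.lb.PT_self (f.mem k)]
    exact bar_mem (f.mem k) (f.le_cen' k k)
  · rw [h1]
    obtain ⟨τ, -, -, -, -, p, c, -, -, sl, -⟩ := f.exists_typed h4 k i hi
    exact ExIn.isCh_of_chart c sl

end KLF

/-- `ch` from frames through all members -/
theorem ch_of_frames (h : ∀ N ∈ Om, ∃ (K : Fin 4 → Subgroup G) (k : Fin 4), KLF Om K ∧ K k = N) :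
    ∀ N ∈ Om, ∀ J ∈ Om, J ≤ centralizer {zz N} → PT Om (centralizer {zz N}) J ∉ fb Om (centralizer {zz N}) →
      IsCh (fb Om (centralizer {zz N})) (PT Om (centralizer {zz N}) J) := by
  intro N hN J hJ hJN hn
  obtain ⟨K, k, f, rfl⟩ := h N hN
  exact f.isCh (Fintype.card_fin 4) k hJ hJN hn

end Cfsg.Agent.Cit.FourIn
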