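import Mathlib
import Cfsg.Agent.Nodes.TypeCForm
import Cfsg.Agent.Nodes.CommonNorm
import Cfsg.Agent.Nodes.Chart

/-!
# The `C_n`-diagram of the classical involution theorem (project CIT, (3b)): PSp_2n(q), PSU_m(q)

`Frm p ZL Q zz`: a frame of `n` pairwise commuting classical subgroups `⟨ZL (i, true), ZL (i, false)⟩` with their
parabolic radicals `Q (i, s)` and a chart (of type `C_m`) around every pair of indices. The root groups are

* `XS a b = Q a ⊓ Q b` for `a.1 ≠ b.1`, `XS a a` = the elements of `Q a` centralising all `ZL c`, `c.1 ≠ a.1`.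

`Frm.cls`: they form a chart (`Cls`) of type `C_n`.
-/

set_option autoImplicit false
set_option linter.unusedSectionVars false
set_option linter.dupNamespace false

namespace Cfsg.Agent.Cit.TypeC

open Cfsg.Agent.ChevalleyStructure.CoxeterGeom Cfsg.Agent.Tits.Roots Cfsg.Agent.Nodes.TypeC
  Cfsg.Agent.Nodes.TypeCForm Cfsg.Agent.Nodes.Comb Cfsg.Agent.Nodes.Reps Cfsg.Agent.Nodes.BNOf
  Cfsg.Agent.Nodes.Chart Cfsg.Agent.Nodes.FreeTorus Cfsg.Agent.Nodes.Bruhat Cfsg.Agent.Nodes.CommonNorm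
open scoped commutatorElement

variable {n : ℕ} {Y : Type*} [Group Y]

/-! ### Definitions -/

/-- The root groups. -/
def XS (ZL Q : Fin n × Bool → Subgroup Y) (a b : Fin n × Bool) : Subgroup Y :=
  if a.1 = b.1 then Q a ⊓ ⨅ c : {c : Fin n × Bool // c.1 ≠ a.1}, Subgroup.centralizer (ZL c.1 : Set Y)
  else Q a ⊓ Q b

/-- The root group of the vector `x`. -/
def rgS (XS : Fin n × Bool → Fin n × Bool → Subgroup Y) (x : Fin n → ℤ) : Subgroup Y :=
  ⨆ q : {q : (Fin n × Bool) × (Fin n × Bool) // Ok q.1 q.2 ∧ ee x = wt q.1 + wt q.2}, XS q.1.1 q.1.2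

/-- The classical root group of the vector `x`. -/
def ZS (ZL : Fin n × Bool → Subgroup Y) (x : Fin n → ℤ) : Subgroup Y :=
  ⨆ a : {a : Fin n × Bool // ee x = wt a + wt a}, ZL a.1

open Classical in
/-- The classical involution of the vector `x`. -/
noncomputable def zS (zz : Fin n → Y) (x : Fin n → ℤ) : Y :=
  if h : ∃ a : Fin n × Bool, ee x = wt a + wt a then zz h.choose.1 else 1

/-- The long roots. -/
def RS (n : ℕ) : Set (Fin n → ℤ) := {x | ∃ a : Fin n × Bool, ee x = wt a + wt a}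

/-- The map on signed indices. -/
def sg' {m : ℕ} (σ : Fin m → Fin n) (a : Fin m × Bool) : Fin n × Bool := (σ a.1, a.2)

/-- A chart of type `C_m` matching the root groups `XS` on the indices `range σ`. -/
structure Mat (p : ℕ) (ZL Q : Fin n × Bool → Subgroup Y) (zz : Fin n → Y) {m : ℕ} (σ : Fin m → Fin n) {W : Type}
    [Group W] [Fintype W] (cs : CoxeterSystem (CoxeterMatrix.B m) W) (T : Subgroup Y) (nn : Fin m → Y)
    (X : (Fin m → ℤ) → Subgroup Y) (Z : (Fin m → ℤ) → Subgroup Y) (z : (Fin m → ℤ) → Y) : Prop where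
  mono : StrictMono σ
  cls : Cls cs (isCartan m) p T nn X (RS m) Z z
  X_eq : ∀ x a b, Ok a b → ee x = wt a + wt b → X x = XS ZL Q (sg' σ a) (sg' σ b)
  Z_eq : ∀ x a, ee x = wt a + wt a → Z x = ZL (sg' σ a)
  z_eq : ∀ x a, ee x = wt a + wt a → z x = zz (σ a.1)

/-- A frame of `n` commuting classical subgroups with matching charts of type `C_m`, `m < n`. -/
structure Frm (p : ℕ) (ZL Q : Fin n × Bool → Subgroup Y) (zz : Fin n → Y) : Prop where
  odd : ∀ a, Odd (Nat.card (Q a))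
  comm : ∀ a, ⁅Q a, Q a⁆ ≤ ZL a
  fix : ∀ a, ∀ x ∈ Q a, x * zz a.1 = zz a.1 * x → x ∈ ZL a
  eqv : ∀ g a b, cj g (ZL a) = ZL b → cj g (Q a) = Q b
  inf : ∀ a b, a.1 ≠ b.1 → ZL a ⊓ Q b = ⊥
  par : ∀ a b c, a.1 ≠ b.1 → a.1 ≠ c.1 → b.1 ≠ c.1 → Q b ⊓ Q c ≤ Subgroup.centralizer (ZL a : Set Y)
  zconj : ∀ g a b, cj g (ZL a) = ZL b → cj g (ZL (ng a)) = ZL (ng b) → g * zz a.1 * g⁻¹ = zz b.1
  chart : ∀ i j : Fin n, i < j → ∃ (m : ℕ) (σ : Fin m → Fin n) (i' j' : Fin m) (W : Type) (_ : Group W)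
    (_ : Fintype W) (cs : CoxeterSystem (CoxeterMatrix.B m) W) (T : Subgroup Y) (nn : Fin m → Y)
    (X : (Fin m → ℤ) → Subgroup Y) (Z : (Fin m → ℤ) → Subgroup Y) (z : (Fin m → ℤ) → Y),
    σ i' = i ∧ σ j' = j ∧ Mat p ZL Q zz σ cs T nn X Z z

/-! ### Elementary facts -/

variable {p : ℕ} {ZL Q : Fin n × Bool → Subgroup Y} {zz : Fin n → Y}

theorem XS_ne {a b : Fin n × Bool} (h : a.1 ≠ b.1) : XS ZL Q a b = Q a ⊓ Q b := if_neg h

theorem XS_self (a : Fin n × Bool) : XS ZL Q a a =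
    Q a ⊓ ⨅ c : {c : Fin n × Bool // c.1 ≠ a.1}, Subgroup.centralizer (ZL c.1 : Set Y) := if_pos rfl

theorem XS_swap {a b : Fin n × Bool} (h : Ok a b) : XS ZL Q a b = XS ZL Q b a := by
  rcases h with h | rfl
  · rw [XS_ne h, XS_ne h.symm, inf_comm]
  · rfl

theorem XS_le_left (a b : Fin n × Bool) : XS ZL Q a b ≤ Q a := by
  unfold XS
  split_ifs <;> exact inf_le_left

theorem XS_le_right {a b : Fin n × Bool} (h : Ok a b) : XS ZL Q a b ≤ Q b := by
  rw [XS_swap h]; exact XS_le_left b a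

theorem rgS_eq {x : Fin n → ℤ} {a b : Fin n × Bool} (hab : Ok a b) (e : ee x = wt a + wt b) :
    rgS (XS ZL Q) x = XS ZL Q a b := by
  apply le_antisymm
  · refine iSup_le ?_
    rintro ⟨⟨c, d⟩, hcd, e'⟩
    rcases wt_add_eq hab hcd (e.symm.trans e') with ⟨rfl, rfl⟩ | ⟨rfl, rfl⟩
    · exact le_rfl
    · exact (XS_swap hcd).le
  · exact le_iSup (fun q : {q : (Fin n × Bool) × (Fin n × Bool) // Ok q.1 q.2 ∧ ee x = wt q.1 + wt q.2} =>
      XS ZL Q q.1.1 q.1.2) ⟨(a, b), hab, e⟩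

theorem wt_two_eq {a b : Fin n × Bool} (e : wt a + wt a = wt b + wt b) : a = b := by
  rcases wt_add_eq (Or.inr rfl) (Or.inr rfl) e with h | h
  · exact h.1
  · exact h.1

theorem ZS_eq {x : Fin n → ℤ} {a : Fin n × Bool} (e : ee x = wt a + wt a) : ZS ZL x = ZL a := by
  apply le_antisymm
  · refine iSup_le ?_
    rintro ⟨c, e'⟩
    rw [wt_two_eq (e.symm.trans e')]
  · exact le_iSup (fun a : {a : Fin n × Bool // ee x = wt a + wt a} => ZL a.1) ⟨a, e⟩

theorem zS_eq {x : Fin n → ℤ} {a : Fin n × Bool} (e : ee x = wt a + wt a) : zS zz x = zz a.1 := by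
  have h : ∃ a : Fin n × Bool, ee x = wt a + wt a := ⟨a, e⟩
  unfold zS
  rw [dif_pos h]
  rw [wt_two_eq (h.choose_spec.symm.trans e)]

theorem eq_or_eq_ng {a b : Fin n × Bool} (h : a.1 = b.1) : a = b ∨ a = ng b := by
  obtain ⟨a, s⟩ := a
  obtain ⟨b, t⟩ := b
  simp only at h
  subst h
  cases s <;> cases t <;> simp [ng]

/-- squares -/
theorem eq_one_of_inv_eq [Finite Y] {A : Subgroup Y} (hA : Odd (Nat.card A)) {x : Y} (hx : x ∈ A)
    (h : x = x⁻¹) : x = 1 := by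
  have h2 : x * x = 1 := by
    nth_rewrite 2 [h]
    exact mul_inv_cancel x
  have h3 : orderOf x ∣ 2 := orderOf_dvd_of_pow_eq_one (by rw [pow_two, h2])
  have h4 : orderOf x ∣ Nat.card A := by
    have h5 := orderOf_dvd_natCard (⟨x, hx⟩ : A)
    rwa [Subgroup.orderOf_mk] at h5
  have h5 := Nat.dvd_gcd h3 h4
  rw [(Nat.coprime_two_left.2 hA).gcd_eq_one] at h5
  exact orderOf_eq_one_iff.1 (Nat.dvd_one.1 h5)

theorem cj_eq_of_commute {g : Y} {A : Subgroup Y} (h : ∀ x ∈ A, g * x = x * g) : cj g A = A := by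
  have key : ∀ {g : Y}, (∀ x ∈ A, g * x = x * g) → A ≤ cj g A := by
    intro g h x hx
    rw [mem_cj]
    have h1 : g⁻¹ * x * g = x := by
      rw [mul_assoc, ← h x hx]; group
    rw [h1]; exact hx
  apply le_antisymm
  · have h1 : ∀ x ∈ A, g⁻¹ * x = x * g⁻¹ := by
      intro x hx
      have := h x hx
      calc g⁻¹ * x = g⁻¹ * (x * g) * g⁻¹ := by group
        _ = x * g⁻¹ := by rw [← this]; group
    have h2 := cj_mono g (key h1)
    rwa [cj_cj_inv] at h2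
  · exact key h

/-- an element of one group normalised by the other: the commutator -/
theorem comm_mem_left {A : Subgroup Y} {x y : Y} (hx : x ∈ A) (hy : cj y A = A) : ⁅x, y⁆ ∈ A := by
  rw [commutatorElement_def]
  have h1 : x * y * x⁻¹ * y⁻¹ = x * (y * x⁻¹ * y⁻¹) := by group
  rw [h1]
  refine mul_mem hx ?_
  rw [← hy]
  exact conj_mem_cj.2 (inv_mem hx)

theorem comm_mem_right {A : Subgroup Y} {x y : Y} (hy : y ∈ A) (hx : cj x A = A) : ⁅x, y⁆ ∈ A := by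
  rw [commutatorElement_def]
  refine mul_mem ?_ (inv_mem hy)
  rw [← hx]
  exact conj_mem_cj.2 hy

/-! ### Consequences of the axioms of a frame -/

namespace Frm

variable (F : Frm p ZL Q zz)

include F

/-- a chart around `a`, `b` -/
theorem exists_chart {i j : Fin n} (hij : i ≠ j) : ∃ (m : ℕ) (σ : Fin m → Fin n) (i' j' : Fin m) (W : Type)
    (_ : Group W) (_ : Fintype W) (cs : CoxeterSystem (CoxeterMatrix.B m) W) (T : Subgroup Y) (nn : Fin m → Y)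
    (X : (Fin m → ℤ) → Subgroup Y) (Z : (Fin m → ℤ) → Subgroup Y) (z : (Fin m → ℤ) → Y),
    σ i' = i ∧ σ j' = j ∧ Mat p ZL Q zz σ cs T nn X Z z := by
  rcases lt_or_gt_of_ne hij with h | h
  · exact F.chart i j h
  · obtain ⟨m, σ, i', j', W, hG, hF, cs, T, nn, X, Z, z, h1, h2, h3⟩ := F.chart j i h
    exact ⟨m, σ, j', i', W, hG, hF, cs, T, nn, X, Z, z, h2, h1, h3⟩

end Frm

section Mat

variable {m : ℕ} {σ : Fin m → Fin n} {W : Type} [Group W] [Fintype W]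
  {cs : CoxeterSystem (CoxeterMatrix.B m) W} {T : Subgroup Y} {nn : Fin m → Y}
  {X : (Fin m → ℤ) → Subgroup Y} {Z : (Fin m → ℤ) → Subgroup Y} {z : (Fin m → ℤ) → Y}

theorem sg'_fst_eq (hσ : Function.Injective σ) {a b : Fin m × Bool} : (sg' σ a).1 = (sg' σ b).1 ↔ a.1 = b.1 :=
  hσ.eq_iff

theorem sg'_injective (hσ : Function.Injective σ) : Function.Injective (sg' σ) := by
  rintro ⟨a, s⟩ ⟨b, t⟩ h
  have h1 := congrArg Prod.fst h
  have h2 := congrArg Prod.snd h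
  exact Prod.ext (hσ h1) h2

theorem sg'_ng (a : Fin m × Bool) : sg' σ (ng a) = ng (sg' σ a) := rfl

theorem ok_sg' (hσ : Function.Injective σ) {a b : Fin m × Bool} (h : Ok a b) : Ok (sg' σ a) (sg' σ b) := by
  rcases h with h | rfl
  · exact Or.inl fun h' => h (hσ h')
  · exact Or.inr rfl

theorem exists_rt (cs : CoxeterSystem (CoxeterMatrix.B m) W) {a b : Fin m × Bool} (h : Ok a b) :
    ∃ x, IsRoot cs (isCartan m) x ∧ ee x = wt a + wt b := rt_of_ok h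

namespace Mat

variable (C : Mat p ZL Q zz σ cs T nn X Z z)

include C

theorem ZL_le (a : Fin m × Bool) : ZL (sg' σ a) ≤ XS ZL Q (sg' σ a) (sg' σ a) := by
  obtain ⟨x, hx, e⟩ := exists_rt cs (a := a) (b := a) (Or.inr rfl)
  rw [← C.Z_eq x a e, ← C.X_eq x a a (Or.inr rfl) e]
  exact C.cls.le x ⟨a, e⟩

theorem z_mem (a : Fin m × Bool) : zz (σ a.1) ∈ ZL (sg' σ a) ⊔ ZL (ng (sg' σ a)) := by
  obtain ⟨x, hx, e⟩ := exists_rt cs (a := a) (b := a) (Or.inr rfl)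
  have e' : ee (-x) = wt (ng a) + wt (ng a) := by rw [ee_neg, e, wt_ng]; abel
  rw [← C.Z_eq x a e, ← sg'_ng, ← C.Z_eq (-x) (ng a) e', ← C.z_eq x a e]
  exact C.cls.z_mem x ⟨a, e⟩

theorem z_sq (a : Fin m × Bool) : zz (σ a.1) * zz (σ a.1) = 1 := by
  obtain ⟨x, hx, e⟩ := exists_rt cs (a := a) (b := a) (Or.inr rfl)
  rw [← C.z_eq x a e]
  exact C.cls.z_sq x ⟨a, e⟩

/-- the involution inverts the short root groups -/
theorem z_inv {a b : Fin m × Bool} (hab : a.1 ≠ b.1) : ∀ x ∈ XS ZL Q (sg' σ a) (sg' σ b),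
    zz (σ a.1) * x * zz (σ a.1) = x⁻¹ := by
  obtain ⟨r, hr, e⟩ := exists_rt cs (a := a) (b := a) (Or.inr rfl)
  obtain ⟨y, hy, e'⟩ := exists_rt cs (a := a) (b := b) (Or.inl hab)
  rw [← C.X_eq y a b (Or.inl hab) e', ← C.z_eq r a e]
  refine C.cls.z_inv r ⟨a, e⟩ y hy ?_ ?_ ?_
  · rintro rfl
    rcases wt_add_eq (Or.inl hab) (Or.inr rfl) (e'.symm.trans e) with h | h
    · exact hab (by rw [h.2])
    · exact hab (by rw [h.2])
  · rintro rfl
    rw [ee_neg, e] at e'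
    have e3 : wt (ng a) + wt (ng a) = wt a + wt b := by rw [← e', wt_ng]; abel
    rcases wt_add_eq (Or.inr rfl) (Or.inl hab) e3 with h | h
    · exact hab (by rw [← h.2]; rfl)
    · exact hab (by rw [← h.1]; rfl)
  · rw [Ne, form_eq_zero_iff cs hr, e, e', ip_add_left, ip_add_right, ip_add_right, ip_wt_self,
      ip_wt_ne (Ne.symm hab)]
    norm_num

end Mat

end Mat

namespace Frm

variable (F : Frm p ZL Q zz)

include F

theorem ZL_le_XS {a : Fin n × Bool} {j : Fin n} (hj : a.1 ≠ j) : ZL a ≤ XS ZL Q a a := by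
  obtain ⟨m, σ, i', j', W, hG, hF, cs, T, nn, X, Z, z, h1, h2, C⟩ := F.exists_chart hj
  have := C.ZL_le (i', a.2)
  have e : sg' σ (i', a.2) = a := Prod.ext h1 rfl
  rwa [e] at this

theorem ZL_le_Q {a : Fin n × Bool} {j : Fin n} (hj : a.1 ≠ j) : ZL a ≤ Q a :=
  le_trans (F.ZL_le_XS hj) (XS_le_left a a)

theorem z_mem {a : Fin n × Bool} {j : Fin n} (hj : a.1 ≠ j) : zz a.1 ∈ ZL a ⊔ ZL (ng a) := by
  obtain ⟨m, σ, i', j', W, hG, hF, cs, T, nn, X, Z, z, h1, h2, C⟩ := F.exists_chart hj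
  have := C.z_mem (i', a.2)
  have e : sg' σ (i', a.2) = a := Prod.ext h1 rfl
  have e' : σ (i', a.2).1 = a.1 := h1
  rwa [e, e'] at this

theorem z_sq {a : Fin n × Bool} {j : Fin n} (hj : a.1 ≠ j) : zz a.1 * zz a.1 = 1 := by
  obtain ⟨m, σ, i', j', W, hG, hF, cs, T, nn, X, Z, z, h1, h2, C⟩ := F.exists_chart hj
  have := C.z_sq (i', a.2)
  have e' : σ (i', a.2).1 = a.1 := h1
  rwa [e'] at this

/-- `zz a` inverts `XS a b` -/
theorem z_inv {a b : Fin n × Bool} (hab : a.1 ≠ b.1) {x : Y} (hx : x ∈ XS ZL Q a b) :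
    zz a.1 * x * zz a.1 = x⁻¹ := by
  obtain ⟨m, σ, i', j', W, hG, hF, cs, T, nn, X, Z, z, h1, h2, C⟩ := F.exists_chart hab
  have hij : i' ≠ j' := by
    rintro rfl
    exact hab (h1.symm.trans h2)
  have := C.z_inv (a := (i', a.2)) (b := (j', b.2)) hij
  have e : sg' σ (i', a.2) = a := Prod.ext h1 rfl
  have e2 : sg' σ (j', b.2) = b := Prod.ext h2 rfl
  have e' : σ (i', a.2).1 = a.1 := h1
  rw [e, e2, e'] at this
  exact this x hx

/-- `XS a b` commutes with `ZL c`, `c` not in the support -/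
theorem XS_comm_ZL {a b c : Fin n × Bool} (hab : Ok a b) (h1 : c.1 ≠ a.1) (h2 : c.1 ≠ b.1) {x y : Y}
    (hx : x ∈ XS ZL Q a b) (hy : y ∈ ZL c) : x * y = y * x := by
  rcases hab with hab | rfl
  · rw [XS_ne hab] at hx
    exact ((Subgroup.mem_centralizer_iff.1 (F.par c a b h1 h2 hab hx)) y hy).symm
  · rw [XS_self] at hx
    have h3 := (Subgroup.mem_iInf.1 hx.2) ⟨c, h1⟩
    exact ((Subgroup.mem_centralizer_iff.1 h3) y hy).symm

theorem XS_comm_z {a b c : Fin n × Bool} (hab : Ok a b) (h1 : c.1 ≠ a.1) (h2 : c.1 ≠ b.1) {x : Y}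
    (hx : x ∈ XS ZL Q a b) : x * zz c.1 = zz c.1 * x := by
  have h3 := F.z_mem h1
  have h4 : ZL c ⊔ ZL (ng c) ≤ Subgroup.centralizer {x} := by
    refine sup_le ?_ ?_
    · intro y hy
      rw [Subgroup.mem_centralizer_singleton_iff]
      exact (F.XS_comm_ZL hab h1 h2 hx hy).symm
    · intro y hy
      rw [Subgroup.mem_centralizer_singleton_iff]
      exact (F.XS_comm_ZL (c := ng c) hab h1 h2 hx hy).symm
  have h5 := h4 h3
  rw [Subgroup.mem_centralizer_singleton_iff] at h5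
  exact h5.symm

theorem cj_Q_of_comm {g : Y} {b : Fin n × Bool} (h : ∀ y ∈ ZL b, g * y = y * g) : cj g (Q b) = Q b :=
  F.eqv g b b (cj_eq_of_commute h)

theorem cj_Q {a b c : Fin n × Bool} (hab : Ok a b) (h1 : c.1 ≠ a.1) (h2 : c.1 ≠ b.1) {x : Y}
    (hx : x ∈ XS ZL Q a b) : cj x (Q c) = Q c :=
  F.cj_Q_of_comm fun _ hy => F.XS_comm_ZL hab h1 h2 hx hy

variable [Finite Y]

/-- long against short, disjoint supports -/
theorem comm_LS {a b c : Fin n × Bool} (hab : a.1 ≠ b.1) (hac : a.1 ≠ c.1) (hbc : b.1 ≠ c.1) {x y : Y}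
    (hx : x ∈ XS ZL Q a a) (hy : y ∈ XS ZL Q b c) : ⁅x, y⁆ = 1 := by
  have hyc := hy
  rw [XS_ne hbc] at hyc
  have h1 : ⁅x, y⁆ ∈ Q a := comm_mem_left (XS_le_left a a hx) (F.cj_Q (Or.inl hbc) hab hac hy)
  have h2 : ⁅x, y⁆ ∈ Q b := comm_mem_right hyc.1 (F.cj_Q (Or.inr rfl) hab.symm hab.symm hx)
  have h3 : ⁅x, y⁆ ∈ Q c := comm_mem_right hyc.2 (F.cj_Q (Or.inr rfl) hac.symm hac.symm hx)
  have h4 : ⁅x, y⁆ ∈ XS ZL Q b c := by rw [XS_ne hbc]; exact ⟨h2, h3⟩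
  have h5 := F.XS_comm_z (c := a) (Or.inl hbc) hab hac h4
  have h6 := F.fix a _ h1 h5
  have h7 : ⁅x, y⁆ ∈ ZL a ⊓ Q b := ⟨h6, h2⟩
  rwa [F.inf a b hab, Subgroup.mem_bot] at h7

/-- two short groups, one common index, same sign -/
theorem comm_SS_same {a b c : Fin n × Bool} (hab : a.1 ≠ b.1) (hac : a.1 ≠ c.1) (hbc : b.1 ≠ c.1) {x y : Y}
    (hx : x ∈ XS ZL Q a b) (hy : y ∈ XS ZL Q a c) : ⁅x, y⁆ = 1 := by
  have hxc := hx
  rw [XS_ne hab] at hxc
  have h1 : ⁅x, y⁆ ∈ ZL a := F.comm a (Subgroup.commutator_mem_commutator (XS_le_left a b hx) (XS_le_left a c hy))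
  have h2 : ⁅x, y⁆ ∈ Q b := comm_mem_left hxc.2 (F.cj_Q (Or.inl hac) hab.symm hbc hy)
  have h7 : ⁅x, y⁆ ∈ ZL a ⊓ Q b := ⟨h1, h2⟩
  rwa [F.inf a b hab, Subgroup.mem_bot] at h7

/-- two short groups, one common index, opposite signs -/
theorem comm_SS_opp {a b c : Fin n × Bool} (hab : a.1 ≠ b.1) (hac : a.1 ≠ c.1) (hbc : b.1 ≠ c.1) {x y : Y}
    (hx : x ∈ XS ZL Q a b) (hy : y ∈ XS ZL Q (ng a) c) : ⁅x, y⁆ ∈ XS ZL Q b c := by
  have hxc := hx
  have hyc := hy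
  rw [XS_ne hab] at hxc
  rw [XS_ne (a := ng a) hac] at hyc
  rw [XS_ne hbc]
  refine ⟨comm_mem_left hxc.2 (F.cj_Q (a := ng a) (Or.inl hac) hab.symm hbc hy), ?_⟩
  exact comm_mem_right hyc.2 (F.cj_Q (Or.inl hab) hac.symm hbc.symm hx)

/-- two short groups with disjoint supports -/
theorem comm_SS_disj {a b c d : Fin n × Bool} (hab : a.1 ≠ b.1) (hac : a.1 ≠ c.1) (had : a.1 ≠ d.1)
    (hbc : b.1 ≠ c.1) (hbd : b.1 ≠ d.1) (hcd : c.1 ≠ d.1) {x y : Y}
    (hx : x ∈ XS ZL Q a b) (hy : y ∈ XS ZL Q c d) : ⁅x, y⁆ = 1 := by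
  have hxc := hx
  have hyc := hy
  rw [XS_ne hab] at hxc
  rw [XS_ne hcd] at hyc
  have h1 : ⁅x, y⁆ ∈ XS ZL Q a b := by
    rw [XS_ne hab]
    exact ⟨comm_mem_left hxc.1 (F.cj_Q (Or.inl hcd) hac had hy),
      comm_mem_left hxc.2 (F.cj_Q (Or.inl hcd) hbc hbd hy)⟩
  have h2 : ⁅x, y⁆ ∈ XS ZL Q c d := by
    rw [XS_ne hcd]
    exact ⟨comm_mem_right hyc.1 (F.cj_Q (Or.inl hab) hac.symm hbc.symm hx),
      comm_mem_right hyc.2 (F.cj_Q (Or.inl hab) had.symm hbd.symm hx)⟩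
  have h3 := F.z_inv hab h1
  have h4 := F.XS_comm_z (c := a) (Or.inl hcd) hac had h2
  have h5 := F.z_sq hab
  refine eq_one_of_inv_eq (F.odd a) (XS_le_left a b h1) ?_
  rw [← h3, ← h4, mul_assoc, h5, mul_one]

end Frm

/-! ### All commutators -/

section Comm

/-- The linear map attached to a map of indices. -/
def su {m : ℕ} (σ : Fin m → Fin n) (u : Fin m → ℤ) : Fin n → ℤ := ∑ k, u k • Pi.single (σ k) (1 : ℤ)

theorem su_add {m : ℕ} (σ : Fin m → Fin n) (u v : Fin m → ℤ) : su σ (u + v) = su σ u + su σ v := by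
  simp only [su, Pi.add_apply, add_smul, Finset.sum_add_distrib]

theorem su_smul {m : ℕ} (σ : Fin m → Fin n) (c : ℤ) (u : Fin m → ℤ) : su σ (c • u) = c • su σ u := by
  simp only [su, Pi.smul_apply, smul_eq_mul, mul_smul, Finset.smul_sum]

theorem su_wt {m : ℕ} (σ : Fin m → Fin n) (a : Fin m × Bool) : su σ (wt a) = wt (sg' σ a) := by
  unfold su
  rw [Finset.sum_eq_single a.1]
  · unfold wt sg'
    rw [Pi.single_eq_same]
    split_ifs <;> simp [← Pi.single_neg]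
  · intro k _ hk
    rw [wt_apply, if_neg hk, zero_smul]
  · intro h; exact absurd (Finset.mem_univ _) h

variable {Wn : Type*} [Group Wn] (csn : CoxeterSystem (CoxeterMatrix.B n) Wn)

theorem XS_le_btw {x y : Fin n → ℤ} {u v : Fin n × Bool} (huv : Ok u v) {m c d : ℤ} (hm : 0 < m) (hc : 0 < c)
    (hd : 0 < d) (e : m • (wt u + wt v) = c • ee x + d • ee y) :
    XS ZL Q u v ≤ btw csn (isCartan n) (rgS (XS ZL Q)) x y := by
  obtain ⟨z, hz, ez⟩ := rt_of_ok (cs := csn) huv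
  rw [← rgS_eq huv ez]
  refine le_btw_of ⟨hz, m, c, d, hm, hc, hd, ee_injective ?_⟩
  rw [ee_smul, ee_add, ee_smul, ee_smul, ez, e]

variable {m : ℕ} {σ : Fin m → Fin n} {W : Type} [Group W] [Fintype W]
  {cs : CoxeterSystem (CoxeterMatrix.B m) W} {T : Subgroup Y} {nn : Fin m → Y}
  {X : (Fin m → ℤ) → Subgroup Y} {Z : (Fin m → ℤ) → Subgroup Y} {z : (Fin m → ℤ) → Y}

namespace Mat

variable (C : Mat p ZL Q zz σ cs T nn X Z z)

include C

theorem btw_le {x y : Fin n → ℤ} {x' y' : Fin m → ℤ} (ex : ee x = su σ (ee x')) (ey : ee y = su σ (ee y')) :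
    btw cs (isCartan m) X x' y' ≤ btw csn (isCartan n) (rgS (XS ZL Q)) x y := by
  unfold Nodes.Reps.btw
  refine iSup_le ?_
  rintro ⟨z', hz', k, c, d, hk, hc, hd, e⟩
  obtain ⟨a, b, hab, e'⟩ := exists_of_isRoot cs hz'
  rw [C.X_eq z' a b hab e']
  refine XS_le_btw csn (ok_sg' C.mono.injective hab) hk hc hd ?_
  have h1 := congrArg (fun v => su σ (ee v)) e
  simp only [ee_smul, ee_add, su_smul, su_add, e', su_wt] at h1
  rw [h1, ex, ey]

theorem comm {a b c d : Fin m × Bool} (hab : Ok a b) (hcd : Ok c d) {x y : Fin n → ℤ}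
    (ex : ee x = wt (sg' σ a) + wt (sg' σ b)) (ey : ee y = wt (sg' σ c) + wt (sg' σ d)) (hxy : x ≠ y)
    (hxy' : x ≠ -y) {g k : Y} (hg : g ∈ XS ZL Q (sg' σ a) (sg' σ b)) (hk : k ∈ XS ZL Q (sg' σ c) (sg' σ d)) :
    ⁅g, k⁆ ∈ btw csn (isCartan n) (rgS (XS ZL Q)) x y := by
  obtain ⟨x', hx', e1⟩ := exists_rt cs hab
  obtain ⟨y', hy', e2⟩ := exists_rt cs hcd
  have ex' : ee x = su σ (ee x') := by rw [e1, su_add, su_wt, su_wt, ex]
  have ey' : ee y = su σ (ee y') := by rw [e2, su_add, su_wt, su_wt, ey]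
  have h1 : x' ≠ y' := by
    rintro rfl
    exact hxy (ee_injective (ex'.trans ey'.symm))
  have h2 : x' ≠ -y' := by
    rintro rfl
    apply hxy'
    apply ee_injective
    have h3 : ee (-y') = (-1 : ℤ) • ee y' := by rw [ee_neg, neg_one_smul]
    rw [ex', h3, su_smul, ← ey', ee_neg, neg_one_smul]
  rw [← C.X_eq x' a b hab e1] at hg
  rw [← C.X_eq y' c d hcd e2] at hk
  exact C.btw_le csn ex' ey' (C.cls.rgd.comm x' y' hx' hy' h1 h2 g hg k hk)

end Mat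

namespace Frm

variable (F : Frm p ZL Q zz)

include F

theorem comm_pair {i j : Fin n} (hij : i ≠ j) {a b c d : Fin n × Bool} (ha : a.1 = i ∨ a.1 = j)
    (hb : b.1 = i ∨ b.1 = j) (hc : c.1 = i ∨ c.1 = j) (hd : d.1 = i ∨ d.1 = j) (hab : Ok a b) (hcd : Ok c d)
    {x y : Fin n → ℤ} (ex : ee x = wt a + wt b) (ey : ee y = wt c + wt d) (hxy : x ≠ y)
    (hxy' : x ≠ -y) {g k : Y} (hg : g ∈ XS ZL Q a b) (hk : k ∈ XS ZL Q c d) :
    ⁅g, k⁆ ∈ btw csn (isCartan n) (rgS (XS ZL Q)) x y := by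
  obtain ⟨m, σ, i', j', W, hG, hF, cs, T, nn, X, Z, z, h1, h2, C⟩ := F.exists_chart hij
  have key : ∀ u : Fin n × Bool, (u.1 = i ∨ u.1 = j) → ∃ u' : Fin m × Bool, sg' σ u' = u := by
    rintro u (hu | hu)
    · exact ⟨(i', u.2), Prod.ext (h1.trans hu.symm) rfl⟩
    · exact ⟨(j', u.2), Prod.ext (h2.trans hu.symm) rfl⟩
  obtain ⟨a', rfl⟩ := key a ha
  obtain ⟨b', rfl⟩ := key b hb
  obtain ⟨c', rfl⟩ := key c hc
  obtain ⟨d', rfl⟩ := key d hd
  have hok : ∀ {u v : Fin m × Bool}, Ok (sg' σ u) (sg' σ v) → Ok u v := by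
    rintro u v (h | h)
    · exact Or.inl fun h' => h (by rw [sg'_fst_eq C.mono.injective]; exact h')
    · exact Or.inr (sg'_injective C.mono.injective h)
  exact C.comm csn (hok hab) (hok hcd) ex ey hxy hxy' hg hk

variable [Finite Y]

/-- short–short with a common index `a.1 = c.1` -/
theorem comm_SS_one {a b c d : Fin n × Bool} (hab : a.1 ≠ b.1) (hcd : c.1 ≠ d.1) (hac : a.1 = c.1)
    (hbd : b.1 ≠ d.1) {x y : Fin n → ℤ} (ex : ee x = wt a + wt b) (ey : ee y = wt c + wt d)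
    {g k : Y} (hg : g ∈ XS ZL Q a b) (hk : k ∈ XS ZL Q c d) :
    ⁅g, k⁆ ∈ btw csn (isCartan n) (rgS (XS ZL Q)) x y := by
  have had : a.1 ≠ d.1 := hac ▸ hcd
  rcases eq_or_eq_ng hac.symm with rfl | rfl
  · rw [F.comm_SS_same hab had hbd hg hk]
    exact one_mem _
  · refine XS_le_btw csn (u := b) (v := d) (Or.inl hbd) one_pos one_pos one_pos ?_ (F.comm_SS_opp hab had hbd hg hk)
    rw [ex, ey, one_smul, one_smul, one_smul, wt_ng]; abel

theorem comm_SS {a b c d : Fin n × Bool} (hab : a.1 ≠ b.1) (hcd : c.1 ≠ d.1)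
    {x y : Fin n → ℤ} (ex : ee x = wt a + wt b) (ey : ee y = wt c + wt d) (hxy : x ≠ y)
    (hxy' : x ≠ -y) {g k : Y} (hg : g ∈ XS ZL Q a b) (hk : k ∈ XS ZL Q c d) :
    ⁅g, k⁆ ∈ btw csn (isCartan n) (rgS (XS ZL Q)) x y := by
  have swap1 : g ∈ XS ZL Q b a := by rwa [← XS_swap (Or.inl hab)]
  have swap2 : k ∈ XS ZL Q d c := by rwa [← XS_swap (Or.inl hcd)]
  have ex' : ee x = wt b + wt a := by rw [ex, add_comm]
  have ey' : ee y = wt d + wt c := by rw [ey, add_comm]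
  by_cases h1 : a.1 = c.1
  · by_cases h2 : b.1 = d.1
    · exact F.comm_pair csn hab (Or.inl rfl) (Or.inr rfl) (Or.inl h1.symm) (Or.inr h2.symm) (Or.inl hab)
        (Or.inl hcd) ex ey hxy hxy' hg hk
    · exact F.comm_SS_one csn hab hcd h1 h2 ex ey hg hk
  · by_cases h2 : a.1 = d.1
    · by_cases h3 : b.1 = c.1
      · exact F.comm_pair csn hab (Or.inl rfl) (Or.inr rfl) (Or.inr h3.symm) (Or.inl h2.symm) (Or.inl hab)
          (Or.inl hcd) ex ey hxy hxy' hg hk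
      · exact F.comm_SS_one csn hab hcd.symm h2 h3 ex ey' hg swap2
    · by_cases h3 : b.1 = c.1
      · exact F.comm_SS_one csn hab.symm hcd h3 h2 ex' ey swap1 hk
      · by_cases h4 : b.1 = d.1
        · exact F.comm_SS_one csn hab.symm hcd.symm h4 h1 ex' ey' swap1 swap2
        · rw [F.comm_SS_disj hab h1 h2 h3 h4 hcd hg hk]
          exact one_mem _

theorem comm_LS' {a c d : Fin n × Bool} (hcd : c.1 ≠ d.1)
    {x y : Fin n → ℤ} (ex : ee x = wt a + wt a) (ey : ee y = wt c + wt d) (hxy : x ≠ y)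
    (hxy' : x ≠ -y) {g k : Y} (hg : g ∈ XS ZL Q a a) (hk : k ∈ XS ZL Q c d) :
    ⁅g, k⁆ ∈ btw csn (isCartan n) (rgS (XS ZL Q)) x y := by
  by_cases h1 : a.1 = c.1
  · exact F.comm_pair csn hcd (Or.inl h1) (Or.inl h1) (Or.inl rfl) (Or.inr rfl) (Or.inr rfl)
      (Or.inl hcd) ex ey hxy hxy' hg hk
  · by_cases h2 : a.1 = d.1
    · exact F.comm_pair csn hcd (Or.inr h2) (Or.inr h2) (Or.inl rfl) (Or.inr rfl) (Or.inr rfl)
        (Or.inl hcd) ex ey hxy hxy' hg hk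
    · rw [F.comm_LS h1 h2 hcd hg hk]
      exact one_mem _

omit F [Finite Y] in
theorem btw_swap {x y : Fin n → ℤ} {g k : Y} (h : ⁅k, g⁆ ∈ btw csn (isCartan n) (rgS (XS ZL Q)) y x) :
    ⁅g, k⁆ ∈ btw csn (isCartan n) (rgS (XS ZL Q)) x y := by
  rw [← commutatorElement_inv k g]
  refine inv_mem ?_
  unfold Nodes.Reps.btw at h ⊢
  exact (iSup_le (fun z => le_btw_of z.2.symm)) h

/-- **All commutators.** -/
theorem comm_rgS {x y : Fin n → ℤ} (hx : IsRoot csn (isCartan n) x) (hy : IsRoot csn (isCartan n) y)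
    (hxy : x ≠ y) (hxy' : x ≠ -y) {g k : Y} (hg : g ∈ rgS (XS ZL Q) x) (hk : k ∈ rgS (XS ZL Q) y) :
    ⁅g, k⁆ ∈ btw csn (isCartan n) (rgS (XS ZL Q)) x y := by
  obtain ⟨a, b, hab, ex⟩ := exists_of_isRoot csn hx
  obtain ⟨c, d, hcd, ey⟩ := exists_of_isRoot csn hy
  rw [rgS_eq hab ex] at hg
  rw [rgS_eq hcd ey] at hk
  rcases hab with hab | rfl
  · rcases hcd with hcd | rfl
    · exact F.comm_SS csn hab hcd ex ey hxy hxy' hg hk
    · refine btw_swap csn (F.comm_LS' csn hab ey ex (Ne.symm hxy) ?_ hk hg)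
      intro h
      exact hxy' (by rw [h, neg_neg])
  · rcases hcd with hcd | rfl
    · exact F.comm_LS' csn hcd ex ey hxy hxy' hg hk
    · have hac : a.1 ≠ c.1 := by
        intro h
        rcases eq_or_eq_ng h with rfl | rfl
        · exact hxy (ee_injective (ex.trans ey.symm))
        · apply hxy'
          apply ee_injective
          rw [ex, ee_neg, ey, wt_ng]; abel
      exact F.comm_pair csn hac (Or.inl rfl) (Or.inl rfl) (Or.inr rfl) (Or.inr rfl) (Or.inr rfl) (Or.inr rfl)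
        ex ey hxy hxy' hg hk

end Frm

end Comm

/-! ### Elements permuting the classical root groups -/

theorem mem_XS_self {a : Fin n × Bool} {x : Y} : x ∈ XS ZL Q a a ↔
    x ∈ Q a ∧ ∀ c : Fin n × Bool, c.1 ≠ a.1 → ∀ y ∈ ZL c, x * y = y * x := by
  rw [XS_self, Subgroup.mem_inf, Subgroup.mem_iInf]
  constructor
  · rintro ⟨h1, h2⟩
    exact ⟨h1, fun c hc y hy => ((Subgroup.mem_centralizer_iff.1 (h2 ⟨c, hc⟩)) y hy).symm⟩
  · rintro ⟨h1, h2⟩
    exact ⟨h1, fun c => Subgroup.mem_centralizer_iff.2 fun y hy => (h2 c.1 c.2 y hy).symm⟩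

theorem Frm.cj_XS (F : Frm p ZL Q zz) {g : Y} {π : Fin n × Bool → Fin n × Bool}
    (h1 : ∀ a b, (π a).1 = (π b).1 ↔ a.1 = b.1) (h2 : Function.Surjective π)
    (hg : ∀ a, cj g (ZL a) = ZL (π a)) {a b : Fin n × Bool} (hab : Ok a b) :
    cj g (XS ZL Q a b) = XS ZL Q (π a) (π b) := by
  have hQ : ∀ a, cj g (Q a) = Q (π a) := fun a => F.eqv g a (π a) (hg a)
  rcases hab with hab | rfl
  · rw [XS_ne hab, XS_ne (fun h => hab ((h1 a b).1 h)), cj_inf, hQ, hQ]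
  · ext x
    rw [mem_cj, mem_XS_self, mem_XS_self, ← hQ, mem_cj]
    refine and_congr_right fun _ => ?_
    constructor
    · intro h c hc y hy
      obtain ⟨c', rfl⟩ := h2 c
      rw [← hg, mem_cj] at hy
      have h3 := h c' (fun h' => hc ((h1 c' a).2 h')) _ hy
      have e1 : x * y = g * (g⁻¹ * x * g * (g⁻¹ * y * g)) * g⁻¹ := by group
      rw [e1, h3]; group
    · intro h c hc y hy
      have h3 := h (π c) (fun h' => hc ((h1 c a).1 h')) (g * y * g⁻¹) (by rw [← hg]; exact conj_mem_cj.2 hy)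
      have e1 : g⁻¹ * x * g * y = g⁻¹ * (x * (g * y * g⁻¹)) * g := by group
      rw [e1, h3]; group

theorem Frm.acts (F : Frm p ZL Q zz) {W : Type*} [Group W] (cs : CoxeterSystem (CoxeterMatrix.B n) W) {g : Y}
    {k : Fin n} (hg : ∀ a, cj g (ZL a) = ZL (sg k a)) :
    Acts cs (isCartan n) (rgS (XS ZL Q)) (cs.simple k) g := by
  intro x hx
  obtain ⟨a, b, hab, e⟩ := exists_of_isRoot cs hx
  rw [rgS_eq hab e, F.cj_XS (fun a b => sg_fst_eq k) (fun a => ⟨sg k a, sg_sg k a⟩) hg hab, rep_simple,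
    rgS_eq (hab.sg k) (ee_refl_of e)]

theorem Frm.mem_HH (F : Frm p ZL Q zz) {W : Type*} [Group W] (cs : CoxeterSystem (CoxeterMatrix.B n) W) {g : Y}
    (hg : ∀ a, cj g (ZL a) = ZL a) : g ∈ HH cs (isCartan n) (rgS (XS ZL Q)) := by
  rw [Nodes.FreeTorus.mem_HH]
  intro x hx
  obtain ⟨a, b, hab, e⟩ := exists_of_isRoot cs hx
  rw [map_one, Module.End.one_apply, rgS_eq hab e]
  exact F.cj_XS (π := id) (fun a b => Iff.rfl) Function.surjective_id hg hab

/-! ### The simple roots -/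

section Simple

variable {m : ℕ} {σ : Fin m → Fin n}

theorem sg_comm_of_lt (hσ : Function.Injective σ) {k : Fin m} (hk : (k : ℕ) + 1 < m) (hk' : (σ k : ℕ) + 1 < n)
    (h : σ ⟨k + 1, hk⟩ = ⟨σ k + 1, hk'⟩) (a : Fin m × Bool) : sg' σ (sg k a) = sg (σ k) (sg' σ a) := by
  obtain ⟨i, s⟩ := a
  unfold sg sg'
  rw [dif_pos hk, dif_pos hk']
  simp only
  by_cases h1 : i = k
  · subst h1
    simp [h]
  · have h1' : σ i ≠ σ k := fun h' => h1 (hσ h')
    by_cases h2 : i = ⟨k + 1, hk⟩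
    · subst h2
      rw [if_neg h1, if_pos rfl, if_neg h1', if_pos h]
    · have h2' : σ i ≠ ⟨σ k + 1, hk'⟩ := by rw [← h]; exact fun h' => h2 (hσ h')
      rw [if_neg h1, if_neg h2, if_neg h1', if_neg h2']

theorem sg_comm_of_last (hσ : Function.Injective σ) {k : Fin m} (hk : ¬ (k : ℕ) + 1 < m)
    (hk' : ¬ (σ k : ℕ) + 1 < n) (a : Fin m × Bool) : sg' σ (sg k a) = sg (σ k) (sg' σ a) := by
  obtain ⟨i, s⟩ := a
  unfold sg sg'
  rw [dif_neg hk, dif_neg hk']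
  simp only
  by_cases h1 : i = k
  · subst h1
    simp
  · have h1' : σ i ≠ σ k := fun h' => h1 (hσ h')
    rw [if_neg h1, if_neg h1']

theorem nx_comm_of_lt {k : Fin m} (hk : (k : ℕ) + 1 < m) (hk' : (σ k : ℕ) + 1 < n)
    (h : σ ⟨k + 1, hk⟩ = ⟨σ k + 1, hk'⟩) : sg' σ (nx k) = nx (σ k) := by
  unfold nx sg'
  rw [dif_pos hk, dif_pos hk', h]

theorem nx_comm_of_last {k : Fin m} (hk : ¬ (k : ℕ) + 1 < m)
    (hk' : ¬ (σ k : ℕ) + 1 < n) : sg' σ (nx k) = nx (σ k) := by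
  unfold nx sg'
  rw [dif_neg hk, dif_neg hk']

/-- The compatibility of a chart with a simple root. -/
structure Sim (σ : Fin m → Fin n) (k : Fin m) : Prop where
  sg_comm : ∀ a, sg' σ (sg k a) = sg (σ k) (sg' σ a)
  nx_comm : sg' σ (nx k) = nx (σ k)
  out : ∀ c : Fin n × Bool, (∀ i, σ i ≠ c.1) → sg (σ k) c = c

theorem sim_of_mono (hσ : StrictMono σ) {k : Fin m}
    (h : (σ k : ℕ) + 1 < n → ∃ l, (σ l : ℕ) = σ k + 1) : Sim σ k := by
  by_cases hk' : (σ k : ℕ) + 1 < n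
  · obtain ⟨l, hl⟩ := h hk'
    have h1 : k < l := by
      rw [← hσ.lt_iff_lt, Fin.lt_def]; omega
    have hk : (k : ℕ) + 1 < m := by
      have := l.2
      rw [Fin.lt_def] at h1
      omega
    have h2 : (⟨k + 1, hk⟩ : Fin m) = l := by
      by_contra hne
      have h3 : (⟨k + 1, hk⟩ : Fin m) < l := by
        rw [Fin.lt_def] at h1 ⊢
        have : (k : ℕ) + 1 ≠ l := fun h' => hne (Fin.ext h')
        simp only
        omega
      have h4 := hσ h3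
      have h5 : σ k < σ ⟨k + 1, hk⟩ := hσ (by rw [Fin.lt_def]; simp)
      rw [Fin.lt_def] at h4 h5
      omega
    have h3 : σ ⟨k + 1, hk⟩ = ⟨σ k + 1, hk'⟩ := by
      rw [h2]
      exact Fin.ext hl
    refine ⟨sg_comm_of_lt hσ.injective hk hk' h3, nx_comm_of_lt hk hk' h3, fun c hc => ?_⟩
    refine sg_of_ne (fun h' => hc k h'.symm) (fun h' => hc l (Fin.ext ?_))
    rw [hl, ← h']
  · have hk : ¬ (k : ℕ) + 1 < m := by
      intro hk
      have h5 : σ k < σ ⟨k + 1, hk⟩ := hσ (by rw [Fin.lt_def]; simp)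
      rw [Fin.lt_def] at h5
      have := (σ ⟨k + 1, hk⟩).2
      omega
    refine ⟨sg_comm_of_last hσ.injective hk hk', nx_comm_of_last hk hk', fun c hc => ?_⟩
    unfold sg
    rw [dif_neg hk', if_neg (fun h' => hc k h'.symm)]

end Simple

theorem ee_sr' (k : Fin n) : ee (sr k) = wt (k, true) + wt (nx k) := ee_sr k

theorem ee_neg_sr (k : Fin n) : ee (-sr k) = wt (ng (k, true)) + wt (ng (nx k)) := by
  rw [ee_neg, ee_sr, bt, wt_ng, wt_ng]; abel

theorem rgS_sr (k : Fin n) : rgS (XS ZL Q) (sr k) = XS ZL Q (k, true) (nx k) := rgS_eq (ok_nx k) (ee_sr' k)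

theorem rgS_neg_sr (k : Fin n) : rgS (XS ZL Q) (-sr k) = XS ZL Q (ng (k, true)) (ng (nx k)) :=
  rgS_eq (ok_nx k).ng (ee_neg_sr k)

section MatSimple

variable {m : ℕ} {σ : Fin m → Fin n} {W : Type} [Group W] [Fintype W]
  {cs : CoxeterSystem (CoxeterMatrix.B m) W} {T : Subgroup Y} {nn : Fin m → Y}
  {X : (Fin m → ℤ) → Subgroup Y} {Z : (Fin m → ℤ) → Subgroup Y} {z : (Fin m → ℤ) → Y}

namespace Mat

variable (C : Mat p ZL Q zz σ cs T nn X Z z)

include C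

theorem X_sr {k : Fin m} (hk : Sim σ k) : X (sr k) = rgS (XS ZL Q) (sr (σ k)) := by
  rw [C.X_eq _ _ _ (ok_nx k) (ee_sr' k), rgS_sr, hk.nx_comm]
  rfl

theorem X_neg_sr {k : Fin m} (hk : Sim σ k) : X (-sr k) = rgS (XS ZL Q) (-sr (σ k)) := by
  rw [C.X_eq _ _ _ (ok_nx k).ng (ee_neg_sr k), rgS_neg_sr, sg'_ng, sg'_ng, hk.nx_comm]
  rfl

theorem LL_sr {k : Fin m} (hk : Sim σ k) : LL X (sr k) = LL (rgS (XS ZL Q)) (sr (σ k)) := by
  unfold LL
  rw [C.X_sr hk, C.X_neg_sr hk]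

/-- elements of the torus normalise all classical root groups of the chart -/
theorem cj_T {t : Y} (ht : t ∈ T) (c : Fin m × Bool) : cj t (ZL (sg' σ c)) = ZL (sg' σ c) := by
  obtain ⟨x, hx, e⟩ := exists_rt cs (a := c) (b := c) (Or.inr rfl)
  rw [← C.Z_eq x c e]
  exact C.cls.tor x ⟨c, e⟩ t ht

theorem cj_nn (k : Fin m) (c : Fin m × Bool) : cj (nn k) (ZL (sg' σ c)) = ZL (sg' σ (sg k c)) := by
  obtain ⟨x, hx, e⟩ := exists_rt cs (a := c) (b := c) (Or.inr rfl)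
  rw [← C.Z_eq x c e, C.cls.conj k x ⟨c, e⟩, rep_simple, C.Z_eq _ (sg k c) (ee_refl_of e)]

theorem exists_m (F : Frm p ZL Q zz) {k : Fin m} (hk : Sim σ k) {u : Y} (hu : u ∈ rgS (XS ZL Q) (-sr (σ k)))
    (hu1 : u ≠ 1) : ∃ a ∈ rgS (XS ZL Q) (sr (σ k)), ∃ m₀ ∈ LL (rgS (XS ZL Q)) (sr (σ k)),
      ∃ b ∈ rgS (XS ZL Q) (sr (σ k)), u = a * m₀ * b ∧ ∀ c, cj m₀ (ZL c) = ZL (sg (σ k) c) := by
  rw [← C.X_neg_sr hk] at hu
  obtain ⟨a, ha, t, ht, b, hb, e⟩ := C.cls.rgd.rk1 k u hu hu1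
  rw [← C.X_sr hk, ← C.LL_sr hk]
  have hm : t * nn k ∈ LL X (sr k) := by
    have h1 : t * nn k = a⁻¹ * u * b⁻¹ := by rw [e]; group
    rw [h1]
    have l1 : X (sr k) ≤ LL X (sr k) := le_sup_left
    have l2 : X (-sr k) ≤ LL X (sr k) := le_sup_right
    exact mul_mem (mul_mem (inv_mem (l1 ha)) (l2 hu)) (inv_mem (l1 hb))
  refine ⟨a, ha, t * nn k, hm, b, hb, by rw [e]; group, fun c => ?_⟩
  by_cases hc : ∃ i, σ i = c.1
  · obtain ⟨i, hi⟩ := hc
    have e1 : c = sg' σ (i, c.2) := Prod.ext hi.symm rfl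
    rw [e1, cj_mul, C.cj_nn, C.cj_T ht, hk.sg_comm]
  · push Not at hc
    rw [hk.out c hc]
    refine cj_eq_of_commute fun y hy => ?_
    rw [C.LL_sr hk] at hm
    have h2 : LL (rgS (XS ZL Q)) (sr (σ k)) ≤ Subgroup.centralizer {y} := by
      have h3 : c.1 ≠ ((σ k, true) : Fin n × Bool).1 := fun h' => hc k h'.symm
      have h4 : c.1 ≠ (nx (σ k)).1 := by
        rw [← hk.nx_comm]
        exact fun h' => hc _ h'.symm
      refine sup_le ?_ ?_
      · intro x hx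
        rw [rgS_sr] at hx
        rw [Subgroup.mem_centralizer_singleton_iff]
        exact F.XS_comm_ZL (ok_nx _) h3 h4 hx hy
      · intro x hx
        rw [rgS_neg_sr] at hx
        rw [Subgroup.mem_centralizer_singleton_iff]
        exact F.XS_comm_ZL (ok_nx _).ng h3 h4 hx hy
    have h5 := h2 hm
    rwa [Subgroup.mem_centralizer_singleton_iff] at h5

end Mat

end MatSimple

namespace Frm

variable (F : Frm p ZL Q zz)

include F

theorem exists_sim (hn : 2 ≤ n) (k : Fin n) : ∃ (m : ℕ) (σ : Fin m → Fin n) (k' : Fin m) (W : Type)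
    (_ : Group W) (_ : Fintype W) (cs : CoxeterSystem (CoxeterMatrix.B m) W) (T : Subgroup Y) (nn : Fin m → Y)
    (X : (Fin m → ℤ) → Subgroup Y) (Z : (Fin m → ℤ) → Subgroup Y) (z : (Fin m → ℤ) → Y),
    σ k' = k ∧ Sim σ k' ∧ Mat p ZL Q zz σ cs T nn X Z z := by
  by_cases hk : (k : ℕ) + 1 < n
  · have hne : k ≠ ⟨k + 1, hk⟩ := by
      intro h
      have := congrArg Fin.val h
      simp at this
    obtain ⟨m, σ, i', j', W, hG, hF, cs, T, nn, X, Z, z, h1, h2, C⟩ := F.exists_chart hne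
    refine ⟨m, σ, i', W, hG, hF, cs, T, nn, X, Z, z, h1, sim_of_mono C.mono (fun _ => ⟨j', ?_⟩), C⟩
    rw [h2, h1]
  · have hk' : (k : ℕ) - 1 < n := by omega
    have hne : k ≠ ⟨(k : ℕ) - 1, hk'⟩ := by
      intro h
      have h1 := congrArg Fin.val h
      simp only at h1
      have := k.2
      omega
    obtain ⟨m, σ, i', j', W, hG, hF, cs, T, nn, X, Z, z, h1, h2, C⟩ := F.exists_chart hne
    refine ⟨m, σ, i', W, hG, hF, cs, T, nn, X, Z, z, h1, sim_of_mono C.mono (fun h => ?_), C⟩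
    rw [h1] at h
    exact absurd h hk

/-- **rank one** -/
theorem rank_one (hn : 2 ≤ n) (k : Fin n) {u : Y} (hu : u ∈ rgS (XS ZL Q) (-sr k)) (hu1 : u ≠ 1) :
    ∃ a ∈ rgS (XS ZL Q) (sr k), ∃ m₀ ∈ LL (rgS (XS ZL Q)) (sr k), ∃ b ∈ rgS (XS ZL Q) (sr k),
      u = a * m₀ * b ∧ ∀ c, cj m₀ (ZL c) = ZL (sg k c) := by
  obtain ⟨m, σ, k', W, hG, hF, cs, T, nn, X, Z, z, h1, h2, C⟩ := F.exists_sim hn k
  subst h1
  exact C.exists_m F h2 hu hu1

theorem exists_n (hn : 2 ≤ n) (k : Fin n) : ∃ m₀ ∈ LL (rgS (XS ZL Q)) (sr k), ∀ c, cj m₀ (ZL c) = ZL (sg k c) := by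
  obtain ⟨m, σ, k', W, hG, hF, cs, T, nn, X, Z, z, h1, h2, C⟩ := F.exists_sim hn k
  have h3 : X (-sr k') ≠ ⊥ := X_ne_bot C.cls.rgd (isRoot_sr cs _ k').neg
  rw [C.X_neg_sr h2, h1] at h3
  obtain ⟨⟨u, hu⟩, hu1⟩ := Subgroup.ne_bot_iff_exists_ne_one.1 h3
  obtain ⟨a, ha, m₀, hm, b, hb, e, hc⟩ := F.rank_one hn k hu (fun h => hu1 (Subtype.ext h))
  exact ⟨m₀, hm, hc⟩

theorem isPGroup_sr (hn : 2 ≤ n) (k : Fin n) : IsPGroup p ↥(rgS (XS ZL Q) (sr k)) := by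
  obtain ⟨m, σ, k', W, hG, hF, cs, T, nn, X, Z, z, h1, h2, C⟩ := F.exists_sim hn k
  rw [← h1, ← C.X_sr h2]
  exact C.cls.rgd.pgrp k'

theorem notp_sr (hn : 2 ≤ n) (k : Fin n) : ¬ IsPGroup p ↥(LL (rgS (XS ZL Q)) (sr k)) := by
  obtain ⟨m, σ, k', W, hG, hF, cs, T, nn, X, Z, z, h1, h2, C⟩ := F.exists_sim hn k
  rw [← h1, ← C.LL_sr h2]
  exact C.cls.rgd.notp k'

variable {W : Type*} [Group W] (cs : CoxeterSystem (CoxeterMatrix.B n) W)

theorem tcop (hn : 2 ≤ n) (k : Fin n) [Finite Y] :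
    (Nat.card (TT cs (isCartan n) (rgS (XS ZL Q)) (sr k))).Coprime p := by
  obtain ⟨m, σ, k', W, hG, hF, cs', T, nn, X, Z, z, h1, h2, C⟩ := F.exists_sim hn k
  refine Nat.Coprime.coprime_dvd_left (Subgroup.card_dvd_of_le (?_ : _ ≤ T)) C.cls.rgd.tcop
  rw [← HH_inf_GG C.cls.rgd]
  refine le_inf ?_ ?_
  · refine le_trans inf_le_right ?_
    intro g hg
    rw [Nodes.FreeTorus.mem_HH]
    intro x hx
    obtain ⟨a, b, hab, e⟩ := exists_of_isRoot cs' hx
    obtain ⟨y, hy, ey⟩ := rt_of_ok (cs := cs) (ok_sg' C.mono.injective hab)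
    have h3 := Nodes.FreeTorus.mem_HH.1 hg y hy
    rw [map_one, Module.End.one_apply, rgS_eq (ok_sg' C.mono.injective hab) ey] at h3
    rw [map_one, Module.End.one_apply, C.X_eq x a b hab e]
    exact h3
  · refine le_trans inf_le_left ?_
    rw [← h1, ← C.LL_sr h2]
    exact LL_le_GG C.cls.rgd (isRoot_sr cs' _ k')

/-- the elements `n_k` -/
noncomputable def nk (hn : 2 ≤ n) (k : Fin n) : Y := (F.exists_n hn k).choose

theorem nk_mem (hn : 2 ≤ n) (k : Fin n) : F.nk hn k ∈ LL (rgS (XS ZL Q)) (sr k) :=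
  (F.exists_n hn k).choose_spec.1

theorem cj_nk (hn : 2 ≤ n) (k : Fin n) (c : Fin n × Bool) : cj (F.nk hn k) (ZL c) = ZL (sg k c) :=
  (F.exists_n hn k).choose_spec.2 c

/-- **The root group datum of type `C_n`.** -/
theorem rgd (hn : 2 ≤ n) [Finite Y] :
    RGD cs (isCartan n) p (TA cs (isCartan n) (rgS (XS ZL Q))) (F.nk hn) (rgS (XS ZL Q)) := by
  have := finite_W cs
  refine rgd_of_family (F.nk_mem hn) (fun k => F.acts cs (F.cj_nk hn k)) ?_ ?_ (F.isPGroup_sr hn) (F.notp_sr hn)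
    (fun k => F.tcop cs hn k)
  · intro x y hx hy hxy hxy' a ha b hb
    exact F.comm_rgS cs hx hy hxy hxy' ha hb
  · intro i u hu hu1
    obtain ⟨a, ha, m, hm, b, hb, e, hc⟩ := F.rank_one hn i hu hu1
    exact ⟨a, ha, m, hm, b, hb, e, F.acts cs hc⟩

end Frm

/-! ### The classical root groups -/

section MatCls

variable {m : ℕ} {σ : Fin m → Fin n} {W : Type} [Group W] [Fintype W]
  {cs : CoxeterSystem (CoxeterMatrix.B m) W} {T : Subgroup Y} {nn : Fin m → Y}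
  {X : (Fin m → ℤ) → Subgroup Y} {Z : (Fin m → ℤ) → Subgroup Y} {z : (Fin m → ℤ) → Y}

namespace Mat

variable (C : Mat p ZL Q zz σ cs T nn X Z z)

include C

theorem comm_ZL {a b : Fin m × Bool} (hab : Ok a b) : ∀ x ∈ XS ZL Q (sg' σ a) (sg' σ b), ∀ y ∈ ZL (sg' σ a),
    x * y = y * x := by
  obtain ⟨r, hr, e⟩ := exists_rt cs (a := a) (b := a) (Or.inr rfl)
  obtain ⟨v, hv, e'⟩ := exists_rt cs hab
  rw [← C.X_eq v a b hab e', ← C.Z_eq r a e]
  refine C.cls.cent r ⟨a, e⟩ v hv ?_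
  rw [form_nonneg_iff cs hr, e, e', ip_add_left, ip_add_right, ip_add_right, ip_wt_self]
  rcases hab with hab | rfl
  · rw [ip_wt_ne (Ne.symm hab)]; norm_num
  · rw [ip_wt_self]; norm_num

theorem ZL_ne_bot (a : Fin m × Bool) : ZL (sg' σ a) ≠ ⊥ := by
  obtain ⟨r, hr, e⟩ := exists_rt cs (a := a) (b := a) (Or.inr rfl)
  rw [← C.Z_eq r a e]
  exact C.cls.ne_bot r ⟨a, e⟩

theorem ZL_notp (a : Fin m × Bool) : ¬ IsPGroup p ↥(ZL (sg' σ a) ⊔ ZL (ng (sg' σ a))) := by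
  obtain ⟨r, hr, e⟩ := exists_rt cs (a := a) (b := a) (Or.inr rfl)
  have e' : ee (-r) = wt (ng a) + wt (ng a) := by rw [ee_neg, e, wt_ng]; abel
  rw [← sg'_ng, ← C.Z_eq r a e, ← C.Z_eq (-r) (ng a) e']
  exact C.cls.notp r ⟨a, e⟩

theorem z_cent (a : Fin m × Bool) : ∀ b ∈ ZL (sg' σ a), zz (σ a.1) * b = b * zz (σ a.1) := by
  obtain ⟨r, hr, e⟩ := exists_rt cs (a := a) (b := a) (Or.inr rfl)
  rw [← C.Z_eq r a e, ← C.z_eq r a e]
  exact C.cls.z_cent r ⟨a, e⟩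

theorem z_inv_self (a : Fin m × Bool) : ∀ x ∈ XS ZL Q (sg' σ a) (sg' σ a),
    zz (σ a.1) * x * zz (σ a.1) * x ∈ ZL (sg' σ a) := by
  obtain ⟨r, hr, e⟩ := exists_rt cs (a := a) (b := a) (Or.inr rfl)
  rw [← C.X_eq r a a (Or.inr rfl) e, ← C.Z_eq r a e, ← C.z_eq r a e]
  exact C.cls.z_inv_self r ⟨a, e⟩

theorem z_T (a : Fin m × Bool) : zz (σ a.1) ∈ T := by
  obtain ⟨r, hr, e⟩ := exists_rt cs (a := a) (b := a) (Or.inr rfl)
  rw [← C.z_eq r a e]
  exact C.cls.z_torus r ⟨a, e⟩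

end Mat

end MatCls

namespace Frm

variable (F : Frm p ZL Q zz)

include F

/-- a chart containing the index `i` -/
theorem exists_chart_one (hn : 2 ≤ n) (i : Fin n) : ∃ (m : ℕ) (σ : Fin m → Fin n) (i' : Fin m) (W : Type)
    (_ : Group W) (_ : Fintype W) (cs : CoxeterSystem (CoxeterMatrix.B m) W) (T : Subgroup Y) (nn : Fin m → Y)
    (X : (Fin m → ℤ) → Subgroup Y) (Z : (Fin m → ℤ) → Subgroup Y) (z : (Fin m → ℤ) → Y),
    σ i' = i ∧ Mat p ZL Q zz σ cs T nn X Z z := by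
  obtain ⟨m, σ, k', W, hG, hF, cs, T, nn, X, Z, z, h1, h2, C⟩ := F.exists_sim hn i
  exact ⟨m, σ, k', W, hG, hF, cs, T, nn, X, Z, z, h1, C⟩

theorem ZL_le (hn : 2 ≤ n) (a : Fin n × Bool) : ZL a ≤ XS ZL Q a a := by
  obtain ⟨m, σ, i', W, hG, hF, cs, T, nn, X, Z, z, h1, C⟩ := F.exists_chart_one hn a.1
  have e : sg' σ (i', a.2) = a := Prod.ext h1 rfl
  rw [← e]
  exact C.ZL_le _

theorem ZL_ne_bot (hn : 2 ≤ n) (a : Fin n × Bool) : ZL a ≠ ⊥ := by
  obtain ⟨m, σ, i', W, hG, hF, cs, T, nn, X, Z, z, h1, C⟩ := F.exists_chart_one hn a.1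
  have e : sg' σ (i', a.2) = a := Prod.ext h1 rfl
  rw [← e]
  exact C.ZL_ne_bot _

theorem ZL_notp (hn : 2 ≤ n) (a : Fin n × Bool) : ¬ IsPGroup p ↥(ZL a ⊔ ZL (ng a)) := by
  obtain ⟨m, σ, i', W, hG, hF, cs, T, nn, X, Z, z, h1, C⟩ := F.exists_chart_one hn a.1
  have e : sg' σ (i', a.2) = a := Prod.ext h1 rfl
  rw [← e]
  exact C.ZL_notp _

theorem zz_mem (hn : 2 ≤ n) (a : Fin n × Bool) : zz a.1 ∈ ZL a ⊔ ZL (ng a) := by
  obtain ⟨m, σ, i', W, hG, hF, cs, T, nn, X, Z, z, h1, C⟩ := F.exists_chart_one hn a.1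
  have e : sg' σ (i', a.2) = a := Prod.ext h1 rfl
  rw [← e]
  exact C.z_mem _

theorem zz_sq (hn : 2 ≤ n) (a : Fin n × Bool) : zz a.1 * zz a.1 = 1 := by
  obtain ⟨m, σ, i', W, hG, hF, cs, T, nn, X, Z, z, h1, C⟩ := F.exists_chart_one hn a.1
  have e : sg' σ (i', a.2) = a := Prod.ext h1 rfl
  rw [← e]
  exact C.z_sq _

theorem zz_cent (hn : 2 ≤ n) (a : Fin n × Bool) : ∀ b ∈ ZL a, zz a.1 * b = b * zz a.1 := by
  obtain ⟨m, σ, i', W, hG, hF, cs, T, nn, X, Z, z, h1, C⟩ := F.exists_chart_one hn a.1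
  have e : sg' σ (i', a.2) = a := Prod.ext h1 rfl
  rw [← e]
  exact C.z_cent _

theorem zz_inv_self (hn : 2 ≤ n) (a : Fin n × Bool) : ∀ x ∈ XS ZL Q a a, zz a.1 * x * zz a.1 * x ∈ ZL a := by
  obtain ⟨m, σ, i', W, hG, hF, cs, T, nn, X, Z, z, h1, C⟩ := F.exists_chart_one hn a.1
  have e : sg' σ (i', a.2) = a := Prod.ext h1 rfl
  rw [← e]
  exact C.z_inv_self _

/-- `zz` normalises all classical root groups -/
theorem cj_zz (hn : 2 ≤ n) (a c : Fin n × Bool) : cj (zz a.1) (ZL c) = ZL c := by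
  by_cases hac : a.1 = c.1
  · obtain ⟨m, σ, i', W, hG, hF, cs, T, nn, X, Z, z, h1, C⟩ := F.exists_chart_one hn c.1
    have e : sg' σ (i', c.2) = c := Prod.ext h1 rfl
    rw [hac, ← e]
    exact C.cj_T (C.z_T _) _
  · refine cj_eq_of_commute fun y hy => ?_
    have h3 := F.zz_mem hn a
    have h4 : ZL a ⊔ ZL (ng a) ≤ Subgroup.centralizer {y} := by
      refine sup_le ?_ ?_
      · intro x hx
        rw [Subgroup.mem_centralizer_singleton_iff]
        exact F.XS_comm_ZL (Or.inr rfl) (Ne.symm hac) (Ne.symm hac) (F.ZL_le hn a hx) hy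
      · intro x hx
        rw [Subgroup.mem_centralizer_singleton_iff]
        exact F.XS_comm_ZL (a := ng a) (Or.inr rfl) (Ne.symm hac) (Ne.symm hac) (F.ZL_le hn _ hx) hy
    have h5 := h4 h3
    rwa [Subgroup.mem_centralizer_singleton_iff] at h5

theorem comm_ZL_self (hn : 2 ≤ n) {a b : Fin n × Bool} (hab : Ok a b) : ∀ x ∈ XS ZL Q a b, ∀ y ∈ ZL a,
    x * y = y * x := by
  rcases hab with hab | rfl
  · obtain ⟨m, σ, i', j', W, hG, hF, cs, T, nn, X, Z, z, h1, h2, C⟩ := F.exists_chart hab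
    have e : sg' σ (i', a.2) = a := Prod.ext h1 rfl
    have e2 : sg' σ (j', b.2) = b := Prod.ext h2 rfl
    rw [← e, ← e2]
    refine C.comm_ZL (Or.inl ?_)
    rintro rfl
    exact hab (h1.symm.trans h2)
  · obtain ⟨m, σ, i', W, hG, hF, cs, T, nn, X, Z, z, h1, C⟩ := F.exists_chart_one hn a.1
    have e : sg' σ (i', a.2) = a := Prod.ext h1 rfl
    rw [← e]
    exact C.comm_ZL (Or.inr rfl)

variable {W : Type*} [Group W] (cs : CoxeterSystem (CoxeterMatrix.B n) W)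

/-- products of the `nk` permute the classical root groups -/
theorem exists_perm (hn : 2 ≤ n) (w : W) : ∃ g, Acts cs (isCartan n) (rgS (XS ZL Q)) w g ∧
    ∃ π : Fin n × Bool → Fin n × Bool, Function.Surjective π ∧ ∀ c, cj g (ZL c) = ZL (π c) := by
  induction w using cs.simple_induction_left with
  | one => exact ⟨1, Acts.one, id, Function.surjective_id, fun c => by rw [cj_one]; rfl⟩
  | mul_simple_left w i ih =>
    obtain ⟨g, hg, π, hπ, hc⟩ := ih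
    refine ⟨F.nk hn i * g, (F.acts cs (F.cj_nk hn i)).mul hg, sg i ∘ π, ?_, fun c => ?_⟩
    · exact Function.Surjective.comp (fun a => ⟨sg i a, sg_sg i a⟩) hπ
    · rw [cj_mul, hc, F.cj_nk]; rfl

theorem cj_TT_sr (hn : 2 ≤ n) (k : Fin n) {t : Y} (ht : t ∈ TT cs (isCartan n) (rgS (XS ZL Q)) (sr k))
    (c : Fin n × Bool) : cj t (ZL c) = ZL c := by
  obtain ⟨m, σ, k', W, hG, hF, cs', T, nn, X, Z, z, h1, h2, C⟩ := F.exists_sim hn k
  have hT : t ∈ T := by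
    rw [← HH_inf_GG C.cls.rgd]
    refine Subgroup.mem_inf.2 ⟨?_, ?_⟩
    · rw [Nodes.FreeTorus.mem_HH]
      intro x hx
      obtain ⟨a, b, hab, e⟩ := exists_of_isRoot cs' hx
      obtain ⟨y, hy, ey⟩ := rt_of_ok (cs := cs) (ok_sg' C.mono.injective hab)
      have h3 := Nodes.FreeTorus.mem_HH.1 ht.2 y hy
      rw [map_one, Module.End.one_apply, rgS_eq (ok_sg' C.mono.injective hab) ey] at h3
      rw [map_one, Module.End.one_apply, C.X_eq x a b hab e]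
      exact h3
    · have h3 := ht.1
      rw [← h1, ← C.LL_sr h2] at h3
      exact LL_le_GG C.cls.rgd (isRoot_sr cs' _ k') h3
  by_cases hc : ∃ i, σ i = c.1
  · obtain ⟨i, hi⟩ := hc
    have e1 : c = sg' σ (i, c.2) := Prod.ext hi.symm rfl
    rw [e1]
    exact C.cj_T hT _
  · push Not at hc
    refine cj_eq_of_commute fun y hy => ?_
    have h2' : LL (rgS (XS ZL Q)) (sr k) ≤ Subgroup.centralizer {y} := by
      have h3 : c.1 ≠ ((k, true) : Fin n × Bool).1 := fun h' => hc k' (h1.trans h'.symm)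
      have h4 : c.1 ≠ (nx k).1 := by
        rw [← h1, ← h2.nx_comm]
        exact fun h' => hc _ h'.symm
      refine sup_le ?_ ?_
      · intro x hx
        rw [rgS_sr] at hx
        rw [Subgroup.mem_centralizer_singleton_iff]
        exact F.XS_comm_ZL (ok_nx _) h3 h4 hx hy
      · intro x hx
        rw [rgS_neg_sr] at hx
        rw [Subgroup.mem_centralizer_singleton_iff]
        exact F.XS_comm_ZL (ok_nx _).ng h3 h4 hx hy
    have h5 := h2' ht.1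
    rwa [Subgroup.mem_centralizer_singleton_iff] at h5

/-- the torus normalises all classical root groups -/
theorem cj_TA (hn : 2 ≤ n) {t : Y} (ht : t ∈ TA cs (isCartan n) (rgS (XS ZL Q))) (c : Fin n × Bool) :
    cj t (ZL c) = ZL c := by
  rw [← mem_normalizer_iff_cj]
  refine (iSup_le (?_ : ∀ x : {x : Fin n → ℤ // IsRoot cs (isCartan n) x}, _) :
    TA cs (isCartan n) (rgS (XS ZL Q)) ≤ Subgroup.normalizer (ZL c : Set Y)) ht
  rintro ⟨x, w, i, rfl⟩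
  obtain ⟨g, hg, π, hπ, hc⟩ := F.exists_perm cs hn w
  obtain ⟨c', rfl⟩ := hπ c
  rw [← hg.cj_TT (isRoot_sr cs _ i)]
  intro s hs
  rw [mem_cj] at hs
  have h1 := F.cj_TT_sr cs hn i hs c'
  rw [mem_normalizer_iff_cj, ← hc]
  have h2 : s = g * (g⁻¹ * s * g) * g⁻¹ := by group
  rw [h2, cj_mul, cj_mul, cj_inv_cj, h1]

variable [Finite Y] [Fintype W]

/-- **The chart of type `C_n` of a frame.** -/
theorem cls (hn : 2 ≤ n) : Cls cs (isCartan n) p (TA cs (isCartan n) (rgS (XS ZL Q))) (F.nk hn)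
    (rgS (XS ZL Q)) (RS n) (ZS ZL) (zS zz) where
  rgd := F.rgd cs hn
  root := by
    rintro r ⟨a, e⟩
    exact isRoot_iff.2 ⟨a, a, Or.inr rfl, e⟩
  act := by
    rintro r ⟨a, e⟩ w
    induction w using cs.simple_induction_left with
    | one => rw [map_one, Module.End.one_apply]; exact ⟨a, e⟩
    | mul_simple_left w i ih =>
      obtain ⟨b, e'⟩ := ih
      rw [rep_mul_apply, rep_simple]
      exact ⟨sg i b, ee_refl_of e'⟩
  le := by
    rintro r ⟨a, e⟩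
    rw [ZS_eq e, rgS_eq (Or.inr rfl) e]
    exact F.ZL_le hn a
  ne_bot := by
    rintro r ⟨a, e⟩
    rw [ZS_eq e]
    exact F.ZL_ne_bot hn a
  conj := by
    rintro i r ⟨a, e⟩
    rw [ZS_eq e, rep_simple, ZS_eq (ee_refl_of e), F.cj_nk]
  tor := by
    rintro r ⟨a, e⟩ t ht
    rw [ZS_eq e]
    exact F.cj_TA cs hn ht a
  cent := by
    rintro r ⟨a, e⟩ y hy hform x hx b hb
    have hr : IsRoot cs (isCartan n) r := isRoot_iff.2 ⟨a, a, Or.inr rfl, e⟩
    obtain ⟨c, d, hcd, ey⟩ := exists_of_isRoot cs hy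
    rw [ZS_eq e] at hb
    rw [rgS_eq hcd ey] at hx
    rw [form_nonneg_iff cs hr, e, ey, ip_add_left, ip_add_right, ip_add_right] at hform
    by_cases h1 : c.1 = a.1
    · rcases eq_or_eq_ng h1 with rfl | rfl
      · exact F.comm_ZL_self hn hcd x hx b hb
      · exfalso
        rw [ip_wt_ng] at hform
        rcases hcd with hcd | rfl
        · rw [ip_wt_ne (a := d) (b := a) (fun h => hcd h.symm)] at hform
          norm_num at hform
        · rw [ip_wt_ng] at hform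
          norm_num at hform
    · by_cases h2 : d.1 = a.1
      · rcases eq_or_eq_ng h2 with rfl | rfl
        · rw [XS_swap hcd] at hx
          exact F.comm_ZL_self hn hcd.symm x hx b hb
        · exfalso
          rw [ip_wt_ng, ip_wt_ne h1] at hform
          norm_num at hform
      · exact F.XS_comm_ZL hcd (Ne.symm h1) (Ne.symm h2) hx hb
  notp := by
    rintro r ⟨a, e⟩
    have e' : ee (-r) = wt (ng a) + wt (ng a) := by rw [ee_neg, e, wt_ng]; abel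
    rw [ZS_eq e, ZS_eq e']
    exact F.ZL_notp hn a
  z_mem := by
    rintro r ⟨a, e⟩
    have e' : ee (-r) = wt (ng a) + wt (ng a) := by rw [ee_neg, e, wt_ng]; abel
    rw [ZS_eq e, ZS_eq e', zS_eq e]
    exact F.zz_mem hn a
  z_torus := by
    rintro r ⟨a, e⟩
    have hr : IsRoot cs (isCartan n) r := isRoot_iff.2 ⟨a, a, Or.inr rfl, e⟩
    have e' : ee (-r) = wt (ng a) + wt (ng a) := by rw [ee_neg, e, wt_ng]; abel
    rw [zS_eq e]
    refine TT_le_TA hr (Subgroup.mem_inf.2 ⟨?_, F.mem_HH cs (F.cj_zz hn a)⟩)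
    have h1 := F.zz_mem hn a
    unfold LL
    rw [rgS_eq (Or.inr rfl) e, rgS_eq (Or.inr rfl) e']
    exact (sup_le_sup (F.ZL_le hn a) (F.ZL_le hn (ng a))) h1
  z_T := by
    rintro r ⟨a, e⟩ t ht
    rw [zS_eq e]
    have h1 := F.zconj t a a (F.cj_TA cs hn ht a) (F.cj_TA cs hn ht (ng a))
    rw [mul_inv_eq_iff_eq_mul] at h1
    exact h1.symm
  z_sq := by
    rintro r ⟨a, e⟩
    rw [zS_eq e]
    exact F.zz_sq hn a
  z_conj := by
    rintro i r ⟨a, e⟩
    rw [zS_eq e, rep_simple, zS_eq (ee_refl_of e)]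
    refine F.zconj _ a (sg i a) (F.cj_nk hn i a) ?_
    rw [F.cj_nk, sg_ng]
  z_neg := by
    rintro r ⟨a, e⟩
    have e' : ee (-r) = wt (ng a) + wt (ng a) := by rw [ee_neg, e, wt_ng]; abel
    rw [zS_eq e, zS_eq e', ng_fst]
  z_cent := by
    rintro r ⟨a, e⟩ b hb
    rw [ZS_eq e] at hb
    rw [zS_eq e]
    exact F.zz_cent hn a b hb
  z_inv := by
    rintro r ⟨a, e⟩ y hy hyr hyr' hform x hx
    have hr : IsRoot cs (isCartan n) r := isRoot_iff.2 ⟨a, a, Or.inr rfl, e⟩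
    obtain ⟨c, d, hcd, ey⟩ := exists_of_isRoot cs hy
    rw [rgS_eq hcd ey] at hx
    rw [Ne, form_eq_zero_iff cs hr, e, ey, ip_add_left, ip_add_right, ip_add_right] at hform
    rw [zS_eq e]
    rcases hcd with hcd | rfl
    · by_cases h1 : c.1 = a.1
      · rw [← h1]
        exact F.z_inv hcd hx
      · by_cases h2 : d.1 = a.1
        · rw [XS_swap (Or.inl hcd)] at hx
          rw [← h2]
          exact F.z_inv (Ne.symm hcd) hx
        · exfalso
          rw [ip_wt_ne h1, ip_wt_ne h2] at hform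
          exact hform (by norm_num)
    · exfalso
      by_cases h1 : c.1 = a.1
      · rcases eq_or_eq_ng h1 with rfl | rfl
        · exact hyr (ee_injective (ey.trans e.symm))
        · apply hyr'
          apply ee_injective
          rw [ey, ee_neg, e, wt_ng]; abel
      · rw [ip_wt_ne h1] at hform
        exact hform (by norm_num)
  z_inv_self := by
    rintro r ⟨a, e⟩ x hx
    rw [rgS_eq (Or.inr rfl) e] at hx
    rw [zS_eq e, ZS_eq e]
    exact F.zz_inv_self hn a x hx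

end Frm

end Cfsg.Agent.Cit.TypeC
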