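import Mathlib
import Cfsg.Agent.Cit.TypeC
import Cfsg.Agent.Cit.FrameSign
import Cfsg.Agent.Cit.Weights

/-!
# From frames to the diagram `C_n` (project CIT)

`FrameSign.Frame K z X Q` on `Fin (m + 1)` with charts `DC` of type `C_m` of the groups `Δ_k`, `k : Fin (m + 1)`,
and the parity condition `Par` give `TypeC.Frm` (`frm`), hence the chart of type `C_{m+1}` (`cls`).

* `SB X a` : the group of the signed index `a : Fin n × Bool`;
* `sv a b` : the sign vector of `wt a + wt b`;
* `Par X Q` : `Q b ⊓ Q c` centralises `K a` (three different indices);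
* `mem_of_sign` : a sign group centralising `K k` lies in `Δ_k`;
* `XX_sv` : under `Par` the sign group of `sv a b` is the root group `TypeC.XS`;
* `DC.mat` : the chart of `Δ_k` matches the root groups `TypeC.XS`.
-/

set_option autoImplicit false
set_option linter.unusedSectionVars false
set_option linter.dupNamespace false

namespace Cfsg.Agent.Cit.TypeCFrm

open CoxeterSystem Cfsg.Agent.ChevalleyStructure.CoxeterGeom Cfsg.Agent.Tits.Roots Cfsg.Agent.Nodes.TypeC
  Cfsg.Agent.Nodes.TypeCForm Cfsg.Agent.Nodes.Comb Cfsg.Agent.Nodes.Reps Cfsg.Agent.Nodes.BNOf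
  Cfsg.Agent.Nodes.Chart Cfsg.Agent.Nodes.FreeTorus Cfsg.Agent.Cit.TypeC Cfsg.Agent.Cit.FrameSign
open scoped commutatorElement

variable {G : Type*} [Group G] {n : ℕ}

/-! ### Signs -/

/-- the sign of a Boolean -/
def sgn (b : Bool) : SignType := if b then 1 else -1

theorem sgn_ne (b : Bool) : sgn b ≠ 0 := by cases b <;> decide

theorem sgn_inj {b c : Bool} (h : sgn b = sgn c) : b = c := by
  cases b <;> cases c <;> first | rfl | exact absurd h (by decide)

theorem exists_sgn {s : SignType} (hs : s ≠ 0) : ∃ b, sgn b = s := by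
  rcases s with _ | _ | _
  · exact absurd rfl hs
  · exact ⟨false, rfl⟩
  · exact ⟨true, rfl⟩

/-- the groups of the signed indices -/
def SB (X : Fin n → SignType → Subgroup G) (a : Fin n × Bool) : Subgroup G := X a.1 (sgn a.2)

/-- the sign vector of `wt a + wt b` -/
def sv (a b : Fin n × Bool) (i : Fin n) : SignType :=
  if i = a.1 then sgn a.2 else if i = b.1 then sgn b.2 else 0

theorem sv_left (a b : Fin n × Bool) : sv a b a.1 = sgn a.2 := if_pos rfl

theorem sv_right {a b : Fin n × Bool} (h : Ok a b) : sv a b b.1 = sgn b.2 := by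
  rcases h with h | rfl
  · rw [sv, if_neg h.symm, if_pos rfl]
  · exact sv_left _ _

theorem sv_of_ne {a b : Fin n × Bool} {i : Fin n} (h1 : i ≠ a.1) (h2 : i ≠ b.1) : sv a b i = 0 := by
  rw [sv, if_neg h1, if_neg h2]

theorem sign_wt (a : Fin n × Bool) (s : Bool) :
    SignType.sign ((if s then 1 else -1 : ℤ)) = sgn s := by
  cases s <;> simp [sgn]

theorem sign_wt_add {a b : Fin n × Bool} (h : Ok a b) (i : Fin n) :
    SignType.sign ((wt a + wt b) i) = sv a b i := by
  rw [Pi.add_apply, wt_apply, wt_apply, sv]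
  rcases h with h | rfl
  · by_cases h1 : i = a.1
    · have h2 : i ≠ b.1 := fun h' => h (h1.symm.trans h')
      rw [if_pos h1, if_neg h2, if_pos h1, add_zero]
      exact sign_wt a _
    · rw [if_neg h1, if_neg h1, zero_add]
      by_cases h2 : i = b.1
      · rw [if_pos h2, if_pos h2]
        exact sign_wt b _
      · rw [if_neg h2, if_neg h2, sign_zero]
  · by_cases h1 : i = a.1
    · rw [if_pos h1, if_pos h1]
      obtain ⟨j, s⟩ := a
      cases s <;> simp [sgn]
    · simp only [if_neg h1, add_zero, sign_zero]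

/-- the pair is determined by the signs -/
theorem eq_of_sv {a b c d : Fin n × Bool} (hab : Ok a b) (hcd : Ok c d) (h : ∀ i, sv c d i = sv a b i) :
    wt c + wt d = wt a + wt b := by
  have key : ∀ {a b c d : Fin n × Bool}, Ok a b → Ok c d → (∀ i, sv c d i = sv a b i) → c = a ∨ c = b := by
    intro a b c d hab hcd h
    have h1 := h c.1
    rw [sv_left] at h1
    by_cases h2 : c.1 = a.1
    · left
      rw [h2, sv_left] at h1
      exact Prod.ext h2 (sgn_inj h1)
    · by_cases h3 : c.1 = b.1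
      · right
        rw [h3, sv_right hab] at h1
        exact Prod.ext h3 (sgn_inj h1)
      · rw [sv_of_ne h2 h3] at h1
        exact absurd h1 (sgn_ne _)
  have hsw : ∀ {a b : Fin n × Bool}, Ok a b → ∀ i, sv a b i = sv b a i := by
    intro a b hab i
    rw [← sign_wt_add hab, ← sign_wt_add hab.symm, add_comm]
  have h1 := key hab hcd h
  have h2 := key hab hcd.symm (fun i => (hsw hcd.symm i).trans (h i))
  have h3 := key hcd hab (fun i => (h i).symm)
  have h4 := key hcd hab.symm (fun i => (hsw hab.symm i).trans (h i).symm)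
  rcases h1 with rfl | rfl
  · rcases h4 with rfl | rfl
    · rcases h2 with rfl | rfl <;> rfl
    · rfl
  · rcases h3 with rfl | rfl
    · rcases h2 with rfl | rfl <;> rfl
    · exact add_comm _ _

/-! ### Sign groups inside `Δ_k` -/

section Frame

variable {ι : Type*} {K : ι → Subgroup G} {z : ι → G} {X Q : ι → SignType → Subgroup G} (F : Frame K z X Q)

include F

/-- `z i` inverts `Q i s / X i s` -/
theorem z_inv_mod [Finite G] {i : ι} {s : SignType} (hs : s ≠ 0) {u : G} (hu : u ∈ Q i s) :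
    z i * u * (z i)⁻¹ * u ∈ X i s := by
  have hz : z i * z i = 1 := F.z_sq i
  have hsec : Weights.Sec (Q i s) (X i s) := ⟨F.X_le_Q i s hs, fun x hx y hy => by
    have := F.Q_der i s hs x hx y hy
    rwa [commutatorElement_def] at this⟩
  have hact : Weights.Act (Q i s) (X i s) (z i) := by
    refine Weights.Act.of_normalizer hz (F.z_mem_normalizer_Q i i s) ?_
    refine Subgroup.centralizer_le_normalizer (X i s : Set G) ?_
    rw [Subgroup.mem_centralizer_iff]
    exact fun b hb => (F.z_cent i b (F.X_le_K i hs hb)).symm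
  refine Weights.inverts_of_fix hsec ?_ hact (fun x hx hc => F.Q_fix i s hs x hx hc.eq.symm) u hu
  exact Weights.card_odd_of_le (F.Q_odd i s hs) (F.X_le_Q i s hs)

/-- an element of `Q i s` normalising `L ≥ K i` lies in `L` -/
theorem mem_of_normalizes [Finite G] {L : Subgroup G} {i : ι} {s : SignType} (hs : s ≠ 0) (hK : K i ≤ L) {u : G}
    (hu : u ∈ Q i s) (hn : u ∈ Subgroup.normalizer (L : Set G)) : u ∈ L := by
  have hz : z i ∈ L := hK (F.z_mem i)
  have h1 : z i * u * (z i)⁻¹ * u ∈ L := hK (F.X_le_K i hs (z_inv_mod F hs hu))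
  have h2 : u * z i * u⁻¹ ∈ L := (Subgroup.mem_normalizer_iff.1 hn _).1 hz
  have h3 : u * u ∈ L := by
    have h4 := mul_mem (mul_mem h2 (inv_mem hz)) h1
    have h5 : u * z i * u⁻¹ * (z i)⁻¹ * (z i * u * (z i)⁻¹ * u) = u * z i * (z i)⁻¹ * u := by group
    rw [h5, mul_inv_cancel_right] at h4
    exact h4
  exact Weights.mem_of_sq_mem (F.Q_odd i s hs) hu h3

/-- A sign group normalising `L` lies in `L`. -/
theorem XX_le [Finite G] {L : Subgroup G} {e : ι → SignType} {i : ι} (hi : e i ≠ 0) (hK : K i ≤ L)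
    (hn : XX Q e ≤ Subgroup.normalizer (L : Set G)) : XX Q e ≤ L := fun _ hu =>
  mem_of_normalizes F hi hK (mem_XX.1 hu i) (hn hu)

end Frame

/-! ### The parity condition -/

/-- **Parity**: `Q b ⊓ Q c` centralises `K a`, three different indices. -/
def Par (X Q : Fin n → SignType → Subgroup G) : Prop :=
  ∀ a b c : Fin n × Bool, a.1 ≠ b.1 → a.1 ≠ c.1 → b.1 ≠ c.1 →
    SB Q b ⊓ SB Q c ≤ Subgroup.centralizer (SB X a : Set G)

section Sign

variable {K : Fin n → Subgroup G} {z : Fin n → G} {X Q : Fin n → SignType → Subgroup G} (F : Frame K z X Q)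

include F

theorem mem_centralizer_K {i : Fin n} {u : G} (h : ∀ s : Bool, u ∈ Subgroup.centralizer (SB X (i, s) : Set G)) :
    u ∈ Q i 0 := by
  refine F.mem_Q_zero.2 (F.comm_K (fun b hb => ?_) fun b hb => ?_)
  · exact ((Subgroup.mem_centralizer_iff.1 (h true)) b hb).symm
  · exact ((Subgroup.mem_centralizer_iff.1 (h false)) b hb).symm

theorem centralizer_K {i : Fin n} {u : G} (h : u ∈ Q i 0) (s : Bool) :
    u ∈ Subgroup.centralizer (SB X (i, s) : Set G) := by
  rw [Subgroup.mem_centralizer_iff]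
  exact fun b hb => (F.mem_Q_zero.1 h b (F.X_le_K i (sgn_ne s) hb)).symm

/-- Under `Par` the sign groups are the root groups of `TypeC`. -/
theorem XX_sv (P : Par X Q) {a b : Fin n × Bool} (hab : Ok a b) : XX Q (sv a b) = XS (SB X) (SB Q) a b := by
  apply le_antisymm
  · intro u hu
    rw [mem_XX] at hu
    have ha : u ∈ SB Q a := by have := hu a.1; rwa [sv_left] at this
    by_cases h1 : a.1 = b.1
    · rw [XS, if_pos h1]
      refine ⟨ha, Subgroup.mem_iInf.2 ?_⟩
      rintro ⟨⟨j, s⟩, hc⟩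
      have h2 := hu j
      rw [sv_of_ne hc (fun h => hc (h.trans h1.symm))] at h2
      exact centralizer_K F h2 s
    · rw [XS, if_neg h1]
      have hb := hu b.1
      rw [sv_right hab] at hb
      exact ⟨ha, hb⟩
  · intro u hu
    rw [mem_XX]
    intro i
    by_cases h1 : a.1 = b.1
    · rw [XS, if_pos h1] at hu
      have hab' : a = b := hab.resolve_left (fun h => h h1)
      subst hab'
      obtain ⟨hu1, hu2⟩ := hu
      by_cases h2 : i = a.1
      · rw [h2, sv_left]; exact hu1
      · rw [sv_of_ne h2 h2]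
        refine mem_centralizer_K F fun s => ?_
        exact Subgroup.mem_iInf.1 hu2 ⟨(i, s), h2⟩
    · rw [XS, if_neg h1] at hu
      by_cases h2 : i = a.1
      · rw [h2, sv_left]; exact hu.1
      · by_cases h3 : i = b.1
        · rw [h3, sv_right hab]; exact hu.2
        · rw [sv_of_ne h2 h3]
          refine mem_centralizer_K F fun s => ?_
          exact P (i, s) a b h2 h3 h1 hu

/-- Under `Par` a sign group with at least three signs is trivial. -/
theorem XX_eq_bot_of_three (P : Par X Q) {e : Fin n → SignType} {i j k : Fin n} (hij : i ≠ j) (hik : i ≠ k)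
    (hjk : j ≠ k) (hi : e i ≠ 0) (hj : e j ≠ 0) (hk : e k ≠ 0) : XX Q e = ⊥ := by
  rw [eq_bot_iff]
  intro u hu
  rw [mem_XX] at hu
  obtain ⟨t, ht⟩ := exists_sgn hj
  obtain ⟨v, hv⟩ := exists_sgn hk
  have h0 : u ∈ Q i 0 := by
    refine mem_centralizer_K F fun s => ?_
    refine P (i, s) (j, t) (k, v) hij hik hjk ⟨?_, ?_⟩
    · change u ∈ Q j (sgn t)
      rw [ht]; exact hu j
    · change u ∈ Q k (sgn v)
      rw [hv]; exact hu k
  exact F.eq_one_of_mem_Q_zero hi (hu i) (F.mem_Q_zero.1 h0)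

end Sign

/-! ### The charts of the groups `Δ_k` -/

/-- The chart of type `C_m` of `L = Δ_k` on the frame without `k`. -/
structure DC {m : ℕ} (K : Fin (m + 1) → Subgroup G) (z : Fin (m + 1) → G)
    (X Q : Fin (m + 1) → SignType → Subgroup G) (p : ℕ) (k : Fin (m + 1)) {W : Type} [Group W] [Fintype W]
    (cs : CoxeterSystem (CoxeterMatrix.B m) W) (T : Subgroup G) (nn : Fin m → G) (Xc Z : (Fin m → ℤ) → Subgroup G)
    (zc : (Fin m → ℤ) → G) (L : Subgroup G) (ell : Fin (m + 1) → (Fin m → ℤ) →+ ℤ) : Prop where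
  cls : Cls cs (isCartan m) p T nn Xc (RS m) Z zc
  on : ChartOn K Q {j | j ≠ k} L cs (isCartan m) p T nn Xc ell
  /-- the signs of `ell` are the signs of the `ε`-coordinates -/
  sign : ∀ i x, IsRoot cs (isCartan m) x → SignType.sign (ell (k.succAbove i) x) = SignType.sign (ee x i)
  Z_eq : ∀ x a, ee x = wt a + wt a → Z x = SB X (sg' k.succAbove a)
  z_eq : ∀ x a, ee x = wt a + wt a → zc x = z (k.succAbove a.1)
  nor : Subgroup.centralizer (K k : Set G) ≤ Subgroup.normalizer (L : Set G)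

section DCs

variable {m : ℕ} {K : Fin (m + 1) → Subgroup G} {z : Fin (m + 1) → G}
  {X Q : Fin (m + 1) → SignType → Subgroup G} {p : ℕ} {k : Fin (m + 1)} {W : Type} [Group W] [Fintype W]
  {cs : CoxeterSystem (CoxeterMatrix.B m) W} {T : Subgroup G} {nn : Fin m → G} {Xc Z : (Fin m → ℤ) → Subgroup G}
  {zc : (Fin m → ℤ) → G} {L : Subgroup G} {ell : Fin (m + 1) → (Fin m → ℤ) →+ ℤ}

theorem sv_succAbove (a b : Fin m × Bool) (i : Fin m) :
    sv (sg' k.succAbove a) (sg' k.succAbove b) (k.succAbove i) = sv a b i := by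
  unfold sv sg'
  simp only [Fin.succAbove_right_injective.eq_iff]

theorem ok_sg'_iff {a b : Fin m × Bool} : Ok (sg' k.succAbove a) (sg' k.succAbove b) ↔ Ok a b := by
  constructor
  · rintro (h | h)
    · exact Or.inl fun h' => h (by unfold sg'; simp only; rw [h'])
    · right
      have h1 := congrArg Prod.fst h
      have h2 := congrArg Prod.snd h
      exact Prod.ext (Fin.succAbove_right_injective h1) h2
  · exact ok_sg' Fin.succAbove_right_injective

variable (F : Frame K z X Q) (C : DC K z X Q p k cs T nn Xc Z zc L ell)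

include F C

theorem DC.K_le {j : Fin (m + 1)} (hj : j ≠ k) : K j ≤ L := by
  obtain ⟨i, rfl⟩ := Fin.exists_succAbove_eq hj
  rw [F.K_eq]
  refine sup_le ?_ ?_
  · obtain ⟨x, hx, e⟩ := rt_of_ok (cs := cs) (Or.inr rfl : Ok (i, true) (i, true))
    have h1 := C.Z_eq x _ e
    have h2 := C.cls.le x ⟨_, e⟩
    rw [h1] at h2
    exact h2.trans (C.on.X_le x hx)
  · obtain ⟨x, hx, e⟩ := rt_of_ok (cs := cs) (Or.inr rfl : Ok (i, false) (i, false))
    have h1 := C.Z_eq x _ e
    have h2 := C.cls.le x ⟨_, e⟩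
    rw [h1] at h2
    exact h2.trans (C.on.X_le x hx)

/-- A sign group centralising `K k` lies in `Δ_k`. -/
theorem DC.XX_le [Finite G] {e : Fin (m + 1) → SignType} (hk : e k = 0) {i : Fin (m + 1)} (hi : e i ≠ 0) :
    XX Q e ≤ L := by
  refine TypeCFrm.XX_le F hi (C.K_le F (fun h => hi (h ▸ hk))) fun u hu => C.nor ?_
  have h1 := mem_XX.1 hu k
  rw [hk, F.Q_zero] at h1
  exact h1

/-- The root groups of the chart are sign groups. -/
theorem DC.X_eq_XX [Finite G] {x : Fin m → ℤ} {a b : Fin m × Bool} (hab : Ok a b) (e : ee x = wt a + wt b) :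
    Xc x = XX Q (sv (sg' k.succAbove a) (sg' k.succAbove b)) := by
  have hx : IsRoot cs (isCartan m) x := isRoot_iff.2 ⟨a, b, hab, e⟩
  have hne : k.succAbove a.1 ≠ k := Fin.succAbove_ne k a.1
  have hne' : k.succAbove b.1 ≠ k := Fin.succAbove_ne k b.1
  have h1 : sv (sg' k.succAbove a) (sg' k.succAbove b) (k.succAbove a.1) ≠ 0 := by
    have := sv_left (sg' k.succAbove a) (sg' k.succAbove b)
    change sv (sg' k.succAbove a) (sg' k.succAbove b) (k.succAbove a.1) = _ at this
    rw [this]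
    exact sgn_ne _
  have h2 : sv (sg' k.succAbove a) (sg' k.succAbove b) k = 0 := sv_of_ne hne.symm hne'.symm
  refine (C.on.XX_eq_X F (fun i hi => ?_) (C.XX_le F h2 h1) (i₀ := k.succAbove a.1) hne h1 hx
    (fun i hi => ?_) fun y hy hys => ?_).symm
  · have : i = k := by
      by_contra h3
      exact hi h3
    rw [this, h2]
  · obtain ⟨i', rfl⟩ := Fin.exists_succAbove_eq (hi : i ≠ k)
    rw [C.sign i' x hx, e, sign_wt_add hab, sv_succAbove]
  · obtain ⟨c, d, hcd, e'⟩ := exists_of_isRoot cs hy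
    refine ee_injective ?_
    rw [e, e']
    refine eq_of_sv hab hcd fun i => ?_
    rw [← sign_wt_add hcd, ← e', ← C.sign i y hy, hys _ (Fin.succAbove_ne k i), sv_succAbove]

/-- **The chart matches the root groups.** -/
theorem DC.mat [Finite G] (P : Par X Q) : Mat p (SB X) (SB Q) z k.succAbove cs T nn Xc Z zc where
  mono := Fin.strictMono_succAbove k
  cls := C.cls
  X_eq := by
    intro x a b hab e
    rw [C.X_eq_XX F hab e, XX_sv F P (ok_sg'_iff.2 hab)]
  Z_eq := C.Z_eq
  z_eq := C.z_eq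

end DCs

/-! ### The frame -/

section Main

variable {m : ℕ} {K : Fin (m + 1) → Subgroup G} {z : Fin (m + 1) → G}
  {X Q : Fin (m + 1) → SignType → Subgroup G} {p : ℕ}

/-- `TypeC.Frm` from a frame with charts of type `C_m` of the groups `Δ_k`. -/
theorem frm [Finite G] (hm : 2 ≤ m) (F : Frame K z X Q) (P : Par X Q)
    (eqv : ∀ i j s t g, s ≠ 0 → t ≠ 0 → cj g (X i s) = X j t → cj g (Q i s) = Q j t)
    (zne : ∀ i, z i ≠ 1) (uniq : ∀ i, ∀ y ∈ K i, y * y = 1 → y ≠ 1 → y = z i)
    (charts : ∀ k : Fin (m + 1), ∃ (W : Type) (_ : Group W) (_ : Fintype W)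
      (cs : CoxeterSystem (CoxeterMatrix.B m) W) (T : Subgroup G) (nn : Fin m → G)
      (Xc Z : (Fin m → ℤ) → Subgroup G) (zc : (Fin m → ℤ) → G) (L : Subgroup G)
      (ell : Fin (m + 1) → (Fin m → ℤ) →+ ℤ), DC K z X Q p k cs T nn Xc Z zc L ell) :
    Frm p (SB X) (SB Q) z where
  odd a := F.Q_odd a.1 _ (sgn_ne a.2)
  comm a := by
    rw [Subgroup.commutator_le]
    exact F.Q_der a.1 _ (sgn_ne a.2)
  fix a x hx hc := F.Q_fix a.1 _ (sgn_ne a.2) x hx hc.symm
  eqv g a b h := eqv a.1 b.1 _ _ g (sgn_ne a.2) (sgn_ne b.2) h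
  inf a b hab := by
    rw [eq_bot_iff]
    rintro u ⟨h1, h2⟩
    exact F.eq_one_of_mem_X_Q hab (sgn_ne a.2) (sgn_ne b.2) h1 h2
  par a b c h1 h2 h3 := P a b c h1 h2 h3
  zconj g a b h1 h2 := by
    have hK : ∀ a : Fin (m + 1) × Bool, K a.1 = SB X a ⊔ SB X (ng a) := by
      rintro ⟨i, s⟩
      rw [F.K_eq]
      cases s
      · exact sup_comm _ _
      · rfl
    have h3 : cj g (K a.1) = K b.1 := by
      rw [hK a, hK b, cj_sup, h1, h2]
    refine uniq b.1 _ ?_ ?_ ?_
    · rw [← h3]
      exact conj_mem_cj.2 (F.z_mem a.1)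
    · have h4 : g * z a.1 * g⁻¹ * (g * z a.1 * g⁻¹) = g * (z a.1 * z a.1) * g⁻¹ := by group
      rw [h4, F.z_sq, mul_one, mul_inv_cancel]
    · intro h4
      apply zne a.1
      have h5 : z a.1 = g⁻¹ * (g * z a.1 * g⁻¹) * g := by group
      rw [h5, h4]; group
  chart i j hij := by
    obtain ⟨k, hk1, hk2⟩ : ∃ k : Fin (m + 1), i ≠ k ∧ j ≠ k := by
      have h1 : ({i, j} : Finset (Fin (m + 1))).card < (Finset.univ : Finset (Fin (m + 1))).card := by
        rw [Finset.card_univ, Fintype.card_fin]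
        exact lt_of_le_of_lt Finset.card_le_two (by omega)
      obtain ⟨k, -, hk⟩ := Finset.exists_mem_notMem_of_card_lt_card h1
      simp only [Finset.mem_insert, Finset.mem_singleton, not_or] at hk
      exact ⟨k, Ne.symm hk.1, Ne.symm hk.2⟩
    obtain ⟨i', rfl⟩ := Fin.exists_succAbove_eq hk1
    obtain ⟨j', rfl⟩ := Fin.exists_succAbove_eq hk2
    obtain ⟨W, iG, iF, cs, T, nn, Xc, Z, zc, L, ell, C⟩ := charts k
    exact ⟨m, k.succAbove, i', j', W, iG, iF, cs, T, nn, Xc, Z, zc, rfl, rfl, C.mat F P⟩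

end Main

end Cfsg.Agent.Cit.TypeCFrm
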