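import Mathlib
import Cfsg.Agent.Cit.TypeCFrm
import Cfsg.Agent.Cit.FrameClose

/-!
# The output of the branch `C_n` (project CIT)

* `irr`, `trans` : type `C_n` is irreducible, the long roots are conjugate;
* `G1_eq` : the group generated by the root groups is generated by the sign groups;
* `chart` : the chart of type `C_{m+1}` of `⨆ e ≠ 0, XX Q e`;
* `L_le` : it contains the groups `Δ_k`;
* `eqv_of_hyp`, `homc_of_hyp`, `frm_of_hyp`, `close_of_hyp` : the hypotheses from `Hyp Om`, `S` Sylow and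
  `Q i s = X i s ⊔ QX (X i s) (z i)`.
-/

set_option autoImplicit false
set_option linter.unusedSectionVars false
set_option linter.dupNamespace false

namespace Cfsg.Agent.Cit.TypeCOut

open CoxeterSystem Cfsg.Agent.ChevalleyStructure.CoxeterGeom Cfsg.Agent.Tits.Roots Cfsg.Agent.Nodes.TypeC
  Cfsg.Agent.Nodes.TypeCForm Cfsg.Agent.Nodes.Comb Cfsg.Agent.Nodes.Reps Cfsg.Agent.Nodes.BNOf
  Cfsg.Agent.Nodes.Chart Cfsg.Agent.Nodes.FreeTorus Cfsg.Agent.Nodes.RGDLib Cfsg.Agent.Cit.TypeC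
  Cfsg.Agent.Cit.FrameSign Cfsg.Agent.Cit.TypeCFrm

variable {G : Type*} [Group G] {n : ℕ}

/-! ### Combinatorics -/

theorem B_apply_succ {i j : Fin n} (h : (i : ℕ) + 1 = j ∨ (j : ℕ) + 1 = i) : CoxeterMatrix.B n i j ≠ 2 := by
  have hij : i ≠ j := by rintro rfl; omega
  have hM : CoxeterMatrix.B n i j = if (i : ℕ) = n - 1 ∧ (j : ℕ) = n - 2 ∨ (j : ℕ) = n - 1 ∧ (i : ℕ) = n - 2
      then 4 else (if (j : ℕ) + 1 = i ∨ (i : ℕ) + 1 = j then 3 else 2) := by
    show (if i = j then 1 else _) = _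
    rw [if_neg hij]
  rw [hM]
  split_ifs with h1 h2
  · norm_num
  · norm_num
  · exact absurd h.symm h2

/-- Type `C_n` is irreducible. -/
theorem irr (J : Set (Fin n)) (hJ : J.Nonempty) (hJ' : J ≠ Set.univ) :
    ∃ a ∈ J, ∃ b, b ∉ J ∧ CoxeterMatrix.B n a b ≠ 2 := by
  by_contra hcon
  push Not at hcon
  have hadj : ∀ i j : Fin n, (i.val + 1 = j.val ∨ j.val + 1 = i.val) → i ∈ J → j ∈ J := by
    intro i j hij hi
    by_contra hj
    exact B_apply_succ hij (hcon i hi j hj)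
  obtain ⟨i, hi⟩ := hJ
  apply hJ'
  rw [Set.eq_univ_iff_forall]
  have hup : ∀ (k : ℕ) (j : Fin n), i.val + k = j.val → j ∈ J := by
    intro k
    induction k with
    | zero =>
      intro j hj
      have : j = i := Fin.ext (by omega)
      rw [this]; exact hi
    | succ k ih =>
      intro j hj
      have hj2 := j.2
      exact hadj ⟨j.val - 1, by omega⟩ j (by simp only; omega) (ih _ (by simp only; omega))
  have hdn : ∀ (k : ℕ) (j : Fin n), j.val + k = i.val → j ∈ J := by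
    intro k
    induction k with
    | zero =>
      intro j hj
      have : j = i := Fin.ext (by omega)
      rw [this]; exact hi
    | succ k ih =>
      intro j hj
      have hi2 := i.2
      have hb : j.val + 1 < n := by omega
      exact hadj ⟨j.val + 1, hb⟩ j (Or.inr rfl) (ih ⟨j.val + 1, hb⟩ (by simp only; omega))
  intro j
  rcases Nat.le_total i.val j.val with hle | hle
  · exact hup (j.val - i.val) j (by omega)
  · exact hdn (i.val - j.val) j (by omega)

section Trans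

variable {W : Type*} [Group W] (cs : CoxeterSystem (CoxeterMatrix.B n) W)

theorem isRoot_of_RS {r : Fin n → ℤ} (hr : r ∈ RS n) : IsRoot cs (isCartan n) r := by
  obtain ⟨a, e⟩ := hr
  exact isRoot_iff.2 ⟨a, a, Or.inr rfl, e⟩

theorem act_RS {r : Fin n → ℤ} (hr : r ∈ RS n) (w : W) : rep cs (isCartan n) w r ∈ RS n := by
  obtain ⟨a, e⟩ := hr
  induction w using cs.simple_induction_left with
  | one => rw [map_one, Module.End.one_apply]; exact ⟨a, e⟩
  | mul_simple_left w i ih =>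
    obtain ⟨b, e'⟩ := ih
    rw [rep_mul_apply, rep_simple]
    exact ⟨sg i b, ee_refl_of e'⟩

theorem not_lt_of_sr_mem {i : Fin n} (h : sr i ∈ RS n) : ¬ (i : ℕ) + 1 < n := by
  obtain ⟨a, e⟩ := h
  rw [ee_sr, bt] at e
  intro hi
  have h1 := wt_add_eq (ok_nx i) (Or.inr rfl) e
  have h2 : (i, true) = nx i := by
    rcases h1 with h1 | h1 <;> rw [h1.1, h1.2]
  unfold nx at h2
  rw [dif_pos hi] at h2
  exact absurd (congrArg Prod.snd h2) (by simp)

/-- The long roots are conjugate. -/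
theorem trans {r s : Fin n → ℤ} (hr : r ∈ RS n) (hs : s ∈ RS n) : ∃ w, s = rep cs (isCartan n) w r := by
  obtain ⟨w, i, e⟩ := isRoot_of_RS cs hr
  obtain ⟨v, j, e'⟩ := isRoot_of_RS cs hs
  have h1 : sr i ∈ RS n := by
    have := act_RS cs hr w⁻¹
    rwa [e, rep_inv_apply] at this
  have h2 : sr j ∈ RS n := by
    have := act_RS cs hs v⁻¹
    rwa [e', rep_inv_apply] at this
  have h3 := not_lt_of_sr_mem h1
  have h4 := not_lt_of_sr_mem h2
  have hij : i = j := Fin.ext (by have := i.2; have := j.2; omega)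
  subst hij
  exact ⟨v * w⁻¹, by rw [rep_mul_apply, e, rep_inv_apply, e']⟩

theorem RS_nonempty [NeZero n] : (RS n).Nonempty := by
  obtain ⟨x, hx⟩ := exists_long (CoxeterMatrix.B n).toCoxeterSystem ((0 : Fin n), true)
  exact ⟨x, _, hx⟩

end Trans

noncomputable instance fintypeW (n : ℕ) : Fintype (CoxeterMatrix.B n).Group :=
  haveI : Finite (CoxeterMatrix.B n).Group := finite_W (CoxeterMatrix.B n).toCoxeterSystem
  Fintype.ofFinite _

/-! ### The group generated by the root groups -/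

section Gen

variable {W : Type*} [Group W] (cs : CoxeterSystem (CoxeterMatrix.B n) W)
  {K : Fin n → Subgroup G} {z : Fin n → G} {X Q : Fin n → SignType → Subgroup G}

/-- the group generated by the sign groups -/
def SG (Q : Fin n → SignType → Subgroup G) : Subgroup G :=
  ⨆ e : {e : Fin n → SignType // e ≠ 0}, XX Q e.1

theorem le_SG {e : Fin n → SignType} {i : Fin n} (hi : e i ≠ 0) : XX Q e ≤ SG Q :=
  le_iSup_of_le (⟨e, fun h => hi (by rw [h]; rfl)⟩ : {e : Fin n → SignType // e ≠ 0}) le_rfl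

theorem G1_eq (F : Frame K z X Q) (P : Par X Q) :
    G1 cs (isCartan n) (rgS (XS (SB X) (SB Q))) = SG Q := by
  apply le_antisymm
  · refine RGD.Sup_le fun x hx => ?_
    obtain ⟨a, b, hab, e⟩ := exists_of_isRoot cs hx
    rw [rgS_eq hab e, ← XX_sv F P hab]
    exact le_SG (i := a.1) (by rw [sv_left]; exact sgn_ne _)
  · refine iSup_le ?_
    rintro ⟨e, he⟩
    change XX Q e ≤ _
    have key : ∀ a b : Fin n × Bool, Ok a b → XX Q (sv a b) ≤ G1 cs (isCartan n) (rgS (XS (SB X) (SB Q))) := by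
      intro a b hab
      obtain ⟨x, hx, e'⟩ := rt_of_ok (cs := cs) hab
      rw [XX_sv F P hab, ← rgS_eq hab e']
      exact X_le_G1 hx
    obtain ⟨i, hi⟩ : ∃ i, e i ≠ 0 := by
      by_contra h
      push Not at h
      exact he (funext h)
    obtain ⟨s, hs⟩ := exists_sgn hi
    by_cases h1 : ∃ j, i ≠ j ∧ e j ≠ 0
    · obtain ⟨j, hij, hj⟩ := h1
      obtain ⟨t, ht⟩ := exists_sgn hj
      by_cases h2 : ∃ k, i ≠ k ∧ j ≠ k ∧ e k ≠ 0
      · obtain ⟨k, hik, hjk, hk⟩ := h2
        rw [XX_eq_bot_of_three F P hij hik hjk hi hj hk]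
        exact bot_le
      · push Not at h2
        have h3 : e = sv (i, s) (j, t) := by
          funext k
          by_cases hki : k = i
          · subst hki
            exact hs.symm.trans (sv_left (k, s) (j, t)).symm
          · by_cases hkj : k = j
            · subst hkj
              exact ht.symm.trans (sv_right (a := (i, s)) (b := (k, t)) (Or.inl hij)).symm
            · rw [h2 k (Ne.symm hki) (Ne.symm hkj), sv_of_ne hki hkj]
        rw [h3]
        exact key _ _ (Or.inl hij)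
    · push Not at h1
      have h3 : e = sv (i, s) (i, s) := by
        funext k
        by_cases hki : k = i
        · subst hki
          exact hs.symm.trans (sv_left (k, s) (k, s)).symm
        · rw [h1 k (Ne.symm hki), sv_of_ne hki hki]
      rw [h3]
      exact key _ _ (Or.inr rfl)

theorem K_eq_sup (F : Frame K z X Q) (a : Fin n × Bool) : SB X a ⊔ SB X (ng a) = K a.1 := by
  obtain ⟨i, s⟩ := a
  rw [F.K_eq]
  cases s
  · exact sup_comm _ _
  · rfl

/-- the classical subgroups of the chart are the members of the frame -/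
theorem ZS_sup (F : Frame K z X Q) {r : Fin n → ℤ} {a : Fin n × Bool} (e : ee r = wt a + wt a) :
    ZS (SB X) r ⊔ ZS (SB X) (-r) = K a.1 := by
  have e' : ee (-r) = wt (ng a) + wt (ng a) := by rw [ee_neg, e, wt_ng]; abel
  rw [ZS_eq e, ZS_eq e', K_eq_sup F]

end Gen

/-! ### The chart -/

section Chart

variable {m : ℕ} {K : Fin (m + 1) → Subgroup G} {z : Fin (m + 1) → G}
  {X Q : Fin (m + 1) → SignType → Subgroup G} {p : ℕ}

/-- the members of the frame lie in `SG Q` -/
theorem K_le (F : Frame K z X Q) (i : Fin (m + 1)) : K i ≤ SG Q := by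
  have key : ∀ s : Bool, SB X (i, s) ≤ SG Q := by
    intro s
    refine le_trans (fun u hu => ?_) (le_SG (Q := Q) (e := sv (i, s) (i, s)) (i := i) (by
      rw [show sv (i, s) (i, s) i = sgn s from sv_left (i, s) (i, s)]; exact sgn_ne s))
    rw [mem_XX]
    intro j
    by_cases hj : j = i
    · subst hj
      rw [show sv (j, s) (j, s) j = sgn s from sv_left (j, s) (j, s)]
      exact F.X_le_Q j _ (sgn_ne s) hu
    · rw [sv_of_ne hj hj, F.mem_Q_zero]
      exact fun b hb => F.comm i j (Ne.symm hj) u (F.X_le_K i (sgn_ne s) hu) b hb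
  rw [F.K_eq]
  exact sup_le (key true) (key false)

/-- **The chart of type `C_{m+1}`.** -/
noncomputable def chart [Finite G] (hm : 2 ≤ m) (hp : p.Prime) (hp2 : p ≠ 2) (F : Frame K z X Q) (Fr : Frm p (SB X) (SB Q) z)
    (P : Par X Q) {Om : Set (Subgroup G)} (hOm : ∀ i, K i ∈ Om)
    (homc : ∀ L ∈ Om, L ≤ SG Q → ∃ i, ∃ g ∈ SG Q, L = cj g (K i)) : Chart Om p (SG Q) where
  prime := hp
  odd := hp2
  I := Fin (m + 1)
  W := (CoxeterMatrix.B (m + 1)).Group
  M := CoxeterMatrix.B (m + 1)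
  cs := (CoxeterMatrix.B (m + 1)).toCoxeterSystem
  A := A (m + 1)
  h := isCartan (m + 1)
  T := TA (CoxeterMatrix.B (m + 1)).toCoxeterSystem (isCartan (m + 1)) (rgS (XS (SB X) (SB Q)))
  n := Fr.nk (by omega)
  X := rgS (XS (SB X) (SB Q))
  R := RS (m + 1)
  Z := ZS (SB X)
  z := zS z
  cls := Fr.cls _ (by omega)
  irr := irr
  ne := ⟨0⟩
  T_le := by
    rw [← G1_eq (CoxeterMatrix.B (m + 1)).toCoxeterSystem F P]
    refine iSup_le ?_
    rintro ⟨x, hx⟩
    exact inf_le_left.trans (sup_le (X_le_G1 hx) (X_le_G1 hx.neg))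
  gen := G1_eq _ F P
  trans r hr s hs := trans _ hr hs
  Rne := RS_nonempty
  om := by
    rintro r ⟨a, e⟩
    rw [ZS_sup F e]
    exact hOm a.1
  om_conj := by
    intro L hL hLG
    obtain ⟨i, g, hg, rfl⟩ := homc L hL hLG
    obtain ⟨r, hr⟩ := exists_long (CoxeterMatrix.B (m + 1)).toCoxeterSystem (i, true)
    refine ⟨r, ⟨_, hr⟩, g, hg, ?_⟩
    rw [ZS_sup F hr]
    rfl

/-- `Δ_k` lies in `SG Q`, if it is generated by the root groups of its chart. -/
theorem L_le [Finite G] (F : Frame K z X Q) {k : Fin (m + 1)} {W : Type} [Group W] [Fintype W]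
    {cs : CoxeterSystem (CoxeterMatrix.B m) W} {T : Subgroup G} {nn : Fin m → G} {Xc Z : (Fin m → ℤ) → Subgroup G}
    {zc : (Fin m → ℤ) → G} {L : Subgroup G} {ell : Fin (m + 1) → (Fin m → ℤ) →+ ℤ}
    (C : DC K z X Q p k cs T nn Xc Z zc L ell) (hL : G1 cs (isCartan m) Xc = L) : L ≤ SG Q := by
  rw [← hL]
  refine RGD.Sup_le fun x hx => ?_
  obtain ⟨a, b, hab, e⟩ := exists_of_isRoot cs hx
  rw [C.X_eq_XX F hab e]
  refine le_SG (i := k.succAbove a.1) ?_
  rw [show sv (sg' k.succAbove a) (sg' k.succAbove b) (k.succAbove a.1) = sgn a.2 from sv_left _ _]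
  exact sgn_ne _

end Chart

/-! ### The hypotheses from `Hyp Om` -/

section Hyp

variable [Finite G] {ι : Type*} {Om : Set (Subgroup G)} (hyp : Hyp Om) {K : ι → Subgroup G} {z : ι → G}
  {X Q : ι → SignType → Subgroup G} (F : Frame K z X Q) (hz : ∀ i, z i = zz (K i)) (hmem : ∀ i, K i ∈ Om)
  {q : ℕ} (hq : Odd q)
  (hsl : ∀ i, ∃ (F : Type) (_ : Field F) (_ : Fintype F), Fintype.card F = q ∧
    Nonempty (Matrix.SpecialLinearGroup (Fin 2) F ≃* K i))
  (hcard : ∀ i s, s ≠ 0 → Nat.card (X i s) = q)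
  (hQ : ∀ i s, s ≠ 0 → Q i s = X i s ⊔ Parab.QX (X i s) (z i))

include hyp F hz hmem hq hsl hcard in
theorem long_of_hyp (i : ι) {s : SignType} (hs : s ≠ 0) : Parab.Long (K i) (X i s) (z i) := by
  obtain ⟨F₀, _, _, hF, ⟨e⟩⟩ := hsl i
  rw [hz i]
  exact ParabSL2.long_of_hyp hyp (hmem i) (by rw [hF]; exact hq) e (F.X_le_K i hs) (by rw [hcard i s hs, hF])

include hyp F hz hmem hq hsl hcard hQ in
/-- equivariance of the groups `Q i s` -/
theorem eqv_of_hyp (hconj : ∀ i j, ∃ g, cj g (K i) = K j) (i j : ι) (s t : SignType) (g : G) (hs : s ≠ 0)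
    (ht : t ≠ 0) (h : cj g (X i s) = X j t) : cj g (Q i s) = Q j t := by
  obtain ⟨k, hk⟩ := hconj j i
  have hL := long_of_hyp hyp F hz hmem hq hsl hcard j ht
  obtain ⟨F₀, _, _, hF, ⟨e⟩⟩ := hsl j
  have h1 : X j t ≤ Cit.cj (g * k) (K j) := by
    have h2 : cj g (X i s) ≤ cj g (K i) := cj_mono g (F.X_le_K i hs)
    rw [h, ← hk, ← cj_mul] at h2
    exact h2
  have h2 := hL.QX_conj (fun Y hY hYc => ParabSL2.exists_conj e (F.X_le_K j ht) (by rw [hcard j t ht, hF]) hY hYc) h1
  have h3 : g * z i * g⁻¹ = g * k * z j * (g * k)⁻¹ := by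
    have h4 : k * z j * k⁻¹ = z i := by
      rw [hz i, hz j]
      have h5 : zz (Cit.cj k (K j)) = k * zz (K j) * k⁻¹ := hyp.zz_cj (hmem j) k
      rw [← h5]
      congr 1
    rw [← h4]; group
  have h4 : cj g (Q i s) = cj g (X i s) ⊔ cj g (Parab.QX (X i s) (z i)) := by
    rw [hQ i s hs, cj_sup]
  have h5 : cj g (Parab.QX (X i s) (z i)) = Parab.QX (X j t) (g * z i * g⁻¹) := by
    have h6 := Parab.QX_cj g (X i s) (z i)
    have h7 : Cit.cj g (X i s) = X j t := h
    rw [h7] at h6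
    exact h6.symm
  rw [h4, h, h5, h3, h2, ← hQ j t ht]

end Hyp

section Final

variable [Finite G] {Om : Set (Subgroup G)} (hyp : Hyp Om) (S : Sylow 2 G) {m : ℕ} {K : Fin (m + 1) → Subgroup G}
  {z : Fin (m + 1) → G} {X Q : Fin (m + 1) → SignType → Subgroup G} {p : ℕ} (F : Frame K z X Q)
  (hF : Set.range K = OmS Om (S : Subgroup G))

include hyp F hF in
theorem homc_of_hyp : ∀ L ∈ Om, L ≤ SG Q → ∃ i, ∃ g ∈ SG Q, L = cj g (K i) := by
  intro L hL hLG
  obtain ⟨g, hg, h1⟩ := FrameClose.exists_cj_mem hyp S (H := SG Q) (by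
    intro M hM
    rw [← hF] at hM
    obtain ⟨i, rfl⟩ := hM
    exact K_le F i) hL hLG
  rw [← hF] at h1
  obtain ⟨i, hi⟩ := h1
  refine ⟨i, g⁻¹, inv_mem hg, ?_⟩
  rw [hi]
  exact (Cit.cj_inv_cj g L).symm

variable (hz : ∀ i, z i = zz (K i)) {q : ℕ} (hq : Odd q)
  (hsl : ∀ i, ∃ (F : Type) (_ : Field F) (_ : Fintype F), Fintype.card F = q ∧
    Nonempty (Matrix.SpecialLinearGroup (Fin 2) F ≃* K i))
  (hcard : ∀ i s, s ≠ 0 → Nat.card (X i s) = q)
  (hQ : ∀ i s, s ≠ 0 → Q i s = X i s ⊔ Parab.QX (X i s) (z i))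

include hyp F hF hz hq hsl hcard hQ in
/-- the frame structure of `TypeC` from `Hyp Om` and the charts -/
theorem frm_of_hyp (hm : 2 ≤ m) (P : TypeCFrm.Par X Q) (hconj : ∀ i j, ∃ g, cj g (K i) = K j)
    (charts : ∀ k : Fin (m + 1), ∃ (W : Type) (_ : Group W) (_ : Fintype W)
      (cs : CoxeterSystem (CoxeterMatrix.B m) W) (T : Subgroup G) (nn : Fin m → G)
      (Xc Z : (Fin m → ℤ) → Subgroup G) (zc : (Fin m → ℤ) → G) (L : Subgroup G)
      (ell : Fin (m + 1) → (Fin m → ℤ) →+ ℤ), DC K z X Q p k cs T nn Xc Z zc L ell) :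
    Frm p (SB X) (SB Q) z := by
  have hmem : ∀ i, K i ∈ Om := fun i => by
    have h1 : K i ∈ OmS Om (S : Subgroup G) := by rw [← hF]; exact ⟨i, rfl⟩
    exact h1.1
  refine frm hm F P (eqv_of_hyp hyp F hz hmem hq hsl hcard hQ hconj) (fun i => ?_) (fun i y hy h1 h2 => ?_) charts
  · exact (long_of_hyp hyp F hz hmem hq hsl hcard i (s := 1) (by decide)).zne
  · exact (long_of_hyp hyp F hz hmem hq hsl hcard i (s := 1) (by decide)).uniq y hy h1 h2

include hyp F hF hz hsl hcard hQ in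
/-- `N_G(L) ≤ N_G(G₀)` -/
theorem close_of_hyp (hinj : Function.Injective K) (hΔ : ∀ i, FrameClose.delta Om (K i) ≤ SG Q) :
    ∀ L ∈ Om, L ≤ SG Q → Subgroup.normalizer (L : Set G) ≤ Subgroup.normalizer (SG Q : Set G) :=
  FrameClose.frame_close hyp S F hF hinj hz hsl hcard hQ rfl (K_le F) hΔ

end Final

end Cfsg.Agent.Cit.TypeCOut
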