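import Mathlib
import Cfsg.Agent.Cit.TypeCFrm

/-!
# The parity condition of type `C_n` (project CIT)

For a frame and `D = Q i s ⊓ Q j t`, `i ≠ j`, and a third index `a`: `D` centralises `K a`.

* `Frame.restrict`, `inv_pair`, `commute_pair` : the involutions `z i`, `z j` invert `D`, `D` is abelian;
* `Del K z a L`, `mem_Del`, `mem_Q_zero_of_commute` : `C_{Q i s}(z a) ≤ Δ_a` centralises `K a`;
* `par_of_four` : with a fourth index `d` and `L ≤ C(K i K j K d)`, `z a ∈ L`, `z a ∈ [L, z a]`;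
* `par_of_central` : `z j * z a` central in `L ≤ C(K i)`, `z j ∈ L`, `z j ∈ [L, z j]` (three members, type `C`);
* `par_of_commute` : `L ≤ C(K i K j)`, `z a ∈ L`, `z a ∈ [L, z a]`, `L` normalises `C_D(z a)` (three members, `BC`);
* `Charts`, `par_four`, `par_three`, `par_three_bc` : the condition `Par` from the charts of the groups `Δ_k`.
-/

set_option autoImplicit false
set_option linter.unusedSectionVars false

namespace Cfsg.Agent.Cit.TypeCPar

open CoxeterSystem Cfsg.Agent.ChevalleyStructure.CoxeterGeom Cfsg.Agent.Tits.Roots Cfsg.Agent.Nodes.TypeC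
  Cfsg.Agent.Nodes.Comb Cfsg.Agent.Nodes.Reps Cfsg.Agent.Nodes.BNOf Cfsg.Agent.Nodes.RGDLib
  Cfsg.Agent.Cit.TypeC Cfsg.Agent.Cit.FrameSign Cfsg.Agent.Cit.TypeCFrm
open scoped commutatorElement

variable {G : Type*} [Group G] {ι : Type*} {K : ι → Subgroup G} {z : ι → G} {X Q : ι → SignType → Subgroup G}

/-! ### Groups acting on a section which is inverted by an involution -/

/-- If `w ∈ L` inverts `Q / N` and `w ∈ ⟨[L, w]⟩` then `Q = N`. -/
theorem le_of_mem_commutator {Q N : Subgroup G} (h : Weights.Sec Q N) (hodd : Odd (Nat.card Q)) {L : Subgroup G}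
    (hLQ : L ≤ Subgroup.normalizer (Q : Set G)) (hLN : L ≤ Subgroup.normalizer (N : Set G)) {w : G} (hwL : w ∈ L)
    (hL : w ∈ Subgroup.closure {x | ∃ l ∈ L, x = ⁅l, w⁆}) (hw : ∀ x ∈ Q, w * x * w⁻¹ * x ∈ N) : Q ≤ N := by
  have hLQ' : ∀ l ∈ L, ∀ x ∈ Q, l * x * l⁻¹ ∈ Q := fun l hl x hx => (Subgroup.mem_normalizer_iff.mp (hLQ hl) x).mp hx
  have hLN' : ∀ l ∈ L, ∀ x ∈ N, l * x * l⁻¹ ∈ N := fun l hl x hx => (Subgroup.mem_normalizer_iff.mp (hLN hl) x).mp hx
  let C : Subgroup G :=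
    { carrier := {g | g ∈ L ∧ ∀ x ∈ Q, g * x * g⁻¹ * x⁻¹ ∈ N}
      one_mem' := ⟨L.one_mem, fun x _ => by simp [N.one_mem]⟩
      mul_mem' := by
        rintro a b ⟨ha, ha'⟩ ⟨hb, hb'⟩
        refine ⟨L.mul_mem ha hb, fun x hx => ?_⟩
        have h1 := N.mul_mem (ha' _ (hLQ' b hb x hx)) (hb' x hx)
        have h2 : a * (b * x * b⁻¹) * a⁻¹ * (b * x * b⁻¹)⁻¹ * (b * x * b⁻¹ * x⁻¹) =
            a * b * x * (a * b)⁻¹ * x⁻¹ := by group
        rwa [h2] at h1
      inv_mem' := by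
        rintro a ⟨ha, ha'⟩
        refine ⟨L.inv_mem ha, fun x hx => ?_⟩
        have h0 : a⁻¹ * x * a ∈ Q := by simpa using hLQ' a⁻¹ (L.inv_mem ha) x hx
        have h1 := N.inv_mem (ha' _ h0)
        have h2 : (a * (a⁻¹ * x * a) * a⁻¹ * (a⁻¹ * x * a)⁻¹)⁻¹ = a⁻¹ * x * a⁻¹⁻¹ * x⁻¹ := by group
        rwa [h2] at h1 }
  have hinv : ∀ x ∈ Q, w⁻¹ * x * w⁻¹⁻¹ * x ∈ N := by
    intro x hx
    have h0 : w⁻¹ * x * w ∈ Q := by simpa using hLQ' w⁻¹ (L.inv_mem hwL) x hx
    have h1 := hw _ h0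
    have h2 : w * (w⁻¹ * x * w) * w⁻¹ * (w⁻¹ * x * w) = x * (w⁻¹ * x * w⁻¹⁻¹) := by group
    rw [h2] at h1
    exact h.swap_two hx (by simpa using h0) h1
  have hcl : Subgroup.closure {x | ∃ l ∈ L, x = ⁅l, w⁆} ≤ C := by
    rw [Subgroup.closure_le]
    rintro _ ⟨l, hl, rfl⟩
    refine ⟨?_, fun x hx => ?_⟩
    · rw [commutatorElement_def]
      exact L.mul_mem (L.mul_mem (L.mul_mem hl hwL) (L.inv_mem hl)) (L.inv_mem hwL)
    · have h0 : w⁻¹ * x * w⁻¹⁻¹ ∈ Q := hLQ' w⁻¹ (L.inv_mem hwL) x hx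
      have h1 := Weights.inverts_conj (hLQ hl) (hLN hl) hw _ h0
      have h2 := N.mul_mem h1 (N.inv_mem (h.swap_two h0 hx (hinv x hx)))
      rw [commutatorElement_def]
      have h3 : (l * w * l⁻¹) * (w⁻¹ * x * w⁻¹⁻¹) * (l * w * l⁻¹)⁻¹ * (w⁻¹ * x * w⁻¹⁻¹) *
          (x * (w⁻¹ * x * w⁻¹⁻¹))⁻¹ = l * w * l⁻¹ * w⁻¹ * x * (l * w * l⁻¹ * w⁻¹)⁻¹ * x⁻¹ := by group
      rwa [h3] at h2
  intro x hx
  have h1 := (hcl hL).2 x hx
  refine Weights.mem_of_sq_mem hodd hx ?_
  have h2 := N.mul_mem (N.inv_mem h1) (hw x hx)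
  have h3 : (w * x * w⁻¹ * x⁻¹)⁻¹ * (w * x * w⁻¹ * x) = x * x := by group
  rwa [h3] at h2

/-- A frame restricted along an injective map. -/
theorem restrict (F : Frame K z X Q) {κ : Type*} (f : κ → ι) (hf : Function.Injective f) :
    Frame (fun k => K (f k)) (fun k => z (f k)) (fun k => X (f k)) (fun k => Q (f k)) where
  z_mem _ := F.z_mem _
  z_sq _ := F.z_sq _
  z_cent _ := F.z_cent _
  comm _ _ hkl := F.comm _ _ fun h => hkl (hf h)
  K_eq _ := F.K_eq _
  Q_zero _ := F.Q_zero _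
  X_le_Q _ := F.X_le_Q _
  Q_cent _ := F.Q_cent _
  Q_der _ := F.Q_der _
  Q_fix _ := F.Q_fix _
  Q_norm _ := F.Q_norm _
  Q_odd _ := F.Q_odd _
  X_center _ := F.X_center _
  X_disj _ _ hkl := F.X_disj _ _ fun h => hkl (hf h)

section Pair

variable (F : Frame K z X Q) {i j : ι} {s t : SignType}

theorem injective_pair (hij : i ≠ j) : Function.Injective fun b : Bool => if b then i else j := by
  intro b c h
  cases b <;> cases c <;> first | rfl | exact absurd h hij | exact absurd h.symm hij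

theorem mem_XX_pair {u : G} (h1 : u ∈ Q i s) (h2 : u ∈ Q j t) :
    u ∈ XX (fun b : Bool => Q (if b then i else j)) (fun b => if b then s else t) := by
  rw [mem_XX]
  intro b
  cases b
  · exact h2
  · exact h1

include F

/-- `z i` inverts `Q i s ⊓ Q j t`. -/
theorem inv_pair [Finite G] (hij : i ≠ j) (hs : s ≠ 0) (ht : t ≠ 0) {u : G} (h1 : u ∈ Q i s) (h2 : u ∈ Q j t) :
    z i * u * z i = u⁻¹ :=
  (restrict F _ (injective_pair hij)).inv (e := fun b => if b then s else t) (i := true) (j := false)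
    (by decide) hs ht (mem_XX_pair h1 h2)

/-- `Q i s ⊓ Q j t` is abelian. -/
theorem commute_pair [Finite G] (hij : i ≠ j) (hs : s ≠ 0) (ht : t ≠ 0) {u v : G} (h1 : u ∈ Q i s)
    (h2 : u ∈ Q j t) (h3 : v ∈ Q i s) (h4 : v ∈ Q j t) : u * v = v * u :=
  (restrict F _ (injective_pair hij)).commute_self (e := fun b => if b then s else t) (i := true) (j := false)
    (by decide) hs ht (mem_XX_pair h1 h2) (mem_XX_pair h3 h4)

/-- an element commuting with `K i` normalises `Q i s` -/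
theorem conj_mem_Q (hs : s ≠ 0) {l : G} (hl : ∀ x ∈ K i, l * x = x * l) {u : G} (hu : u ∈ Q i s) :
    l * u * l⁻¹ ∈ Q i s := by
  refine (Subgroup.mem_normalizer_iff.1 (F.Q_norm i s hs ?_) u).1 hu
  refine Subgroup.centralizer_le_normalizer (X i s : Set G) ?_
  rw [Subgroup.mem_centralizer_iff]
  exact fun x hx => (hl x (F.X_le_K i hs hx)).symm

theorem z_conj_mem_Q (a : ι) {u : G} (hu : u ∈ Q i s) : z a * u * z a ∈ Q i s := by
  have h1 := (Subgroup.mem_normalizer_iff.1 (F.z_mem_normalizer_Q a i s) u).1 hu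
  rwa [F.z_inv] at h1

theorem commute_z {a d : ι} (had : a ≠ d) : z a * z d = z d * z a :=
  F.comm a d had _ (F.z_mem a) _ (F.z_mem d)

theorem zz_conj (a : ι) (u : G) : z a * (z a * u * z a) * z a = u := by
  calc z a * (z a * u * z a) * z a = (z a * z a) * u * (z a * z a) := by group
    _ = u := by rw [F.z_sq, one_mul, mul_one]

theorem commute_of_conj {a : ι} {u : G} (h : z a * u * z a = u) : u * z a = z a * u := by
  calc u * z a = z a * u * z a * z a := by rw [h]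
    _ = z a * u * (z a * z a) := by group
    _ = z a * u := by rw [F.z_sq, mul_one]

theorem conj_of_commute {a : ι} {u : G} (h : u * z a = z a * u) : z a * u * z a = u := by
  rw [← h, mul_assoc, F.z_sq, mul_one]

theorem conj_mul (a : ι) (u v : G) : z a * (u * v) * z a = z a * u * z a * (z a * v * z a) := by
  calc z a * (u * v) * z a = z a * u * 1 * v * z a := by group
    _ = z a * u * (z a * z a) * v * z a := by rw [F.z_sq]
    _ = z a * u * z a * (z a * v * z a) := by group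

theorem conj_inv (a : ι) (u : G) : z a * u⁻¹ * z a = (z a * u * z a)⁻¹ := by
  rw [mul_inv_rev, mul_inv_rev, F.z_inv]; group

end Pair

/-! ### The groups `Δ_a` -/

/-- `L = Δ_a` contains the other members of the frame, centralises `K a` and is normalised by `C(z a)`. -/
structure Del (K : ι → Subgroup G) (z : ι → G) (a : ι) (L : Subgroup G) : Prop where
  le : ∀ j, j ≠ a → K j ≤ L
  cent : L ≤ Subgroup.centralizer (K a : Set G)
  norm : ∀ g : G, g * z a = z a * g → g ∈ Subgroup.normalizer (L : Set G)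

section Del

variable (F : Frame K z X Q) {i a : ι} {s : SignType} {L : Subgroup G} (Δ : Del K z a L)

include F Δ

theorem mem_Del [Finite G] (hia : i ≠ a) (hs : s ≠ 0) {u : G} (hu : u ∈ Q i s) (hc : u * z a = z a * u) :
    u ∈ L := mem_of_normalizes F hs (Δ.le i hia) hu (Δ.norm u hc)

/-- `C_{Q i s}(z a)` centralises `K a` -/
theorem mem_Q_zero_of_commute [Finite G] (hia : i ≠ a) (hs : s ≠ 0) {u : G} (hu : u ∈ Q i s)
    (hc : u * z a = z a * u) : u ∈ Q a 0 := by
  rw [F.Q_zero]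
  exact Δ.cent (mem_Del F Δ hia hs hu hc)

end Del

/-! ### The three arguments -/

section Par

variable (F : Frame K z X Q) {i j a : ι} {s t : SignType}

include F

/-- If `D` has no element inverted by `z a`, it commutes with `z a`. -/
theorem commute_of_no_inv
    (h : ∀ u ∈ Q i s, u ∈ Q j t → z a * u * z a = u⁻¹ → u = 1) {u : G} (h1 : u ∈ Q i s) (h2 : u ∈ Q j t) :
    u * z a = z a * u := by
  have h3 := z_conj_mem_Q F a h1
  have h4 := z_conj_mem_Q F a h2
  have h5 := h (u * (z a * u * z a)⁻¹) (mul_mem h1 (inv_mem h3)) (mul_mem h2 (inv_mem h4)) (by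
    rw [conj_mul F, conj_inv F, zz_conj F, mul_inv_rev, inv_inv])
  exact commute_of_conj F (mul_inv_eq_one.1 h5).symm

/-- **Four indices.** -/
theorem par_of_four [Finite G] {d : ι} (hij : i ≠ j) (had : a ≠ d) (hs : s ≠ 0) (ht : t ≠ 0)
    (h1 : ∀ u ∈ Q i s, u ∈ Q j t → u * z a = z a * u → u ∈ Q d 0)
    (h2 : ∀ u ∈ Q i s, u ∈ Q j t → u * z d = z d * u → u ∈ Q a 0)
    {L : Subgroup G} (hLi : ∀ l ∈ L, ∀ x ∈ K i, l * x = x * l) (hLj : ∀ l ∈ L, ∀ x ∈ K j, l * x = x * l)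
    (hLd : ∀ l ∈ L, ∀ x ∈ K d, l * x = x * l) (haL : z a ∈ L)
    (hL : z a ∈ Subgroup.closure {x | ∃ l ∈ L, x = ⁅l, z a⁆}) {u : G} (hu1 : u ∈ Q i s) (hu2 : u ∈ Q j t) :
    u ∈ Q a 0 ∧ u ∈ Q d 0 := by
  -- the elements of `D` inverted by `z d`
  let U : Subgroup G :=
    { carrier := {u | u ∈ Q i s ∧ u ∈ Q j t ∧ z d * u * z d = u⁻¹}
      one_mem' := ⟨one_mem _, one_mem _, by rw [mul_one, F.z_sq, inv_one]⟩
      mul_mem' := by
        rintro u v ⟨hu1, hu2, hu3⟩ ⟨hv1, hv2, hv3⟩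
        refine ⟨mul_mem hu1 hv1, mul_mem hu2 hv2, ?_⟩
        rw [conj_mul F, hu3, hv3, ← mul_inv_rev, commute_pair F hij hs ht hu1 hu2 hv1 hv2]
      inv_mem' := by
        rintro u ⟨hu1, hu2, hu3⟩
        exact ⟨inv_mem hu1, inv_mem hu2, by rw [conj_inv F, hu3]⟩ }
  have hzU : ∀ u ∈ U, z a * u * z a ∈ U := by
    rintro u ⟨hu1, hu2, hu3⟩
    refine ⟨z_conj_mem_Q F a hu1, z_conj_mem_Q F a hu2, ?_⟩
    have h3 : z d * (z a * u * z a) * z d = z a * (z d * u * z d) * z a := by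
      calc z d * (z a * u * z a) * z d = (z d * z a) * u * (z a * z d) := by group
        _ = (z a * z d) * u * (z d * z a) := by rw [commute_z F had]
        _ = z a * (z d * u * z d) * z a := by group
    rw [h3, hu3, conj_inv F]
  -- `z a` inverts `U`
  have hinv : ∀ u ∈ U, z a * u * (z a)⁻¹ * u ∈ (⊥ : Subgroup G) := by
    intro u hu
    have hu1 := hu.1
    have hu2 := hu.2.1
    have h3 := hzU u hu
    have h4 : u * (z a * u * z a) ∈ U := mul_mem hu h3
    have h5 : z a * (u * (z a * u * z a)) * z a = u * (z a * u * z a) := by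
      rw [conj_mul F, zz_conj F]
      exact (commute_pair F hij hs ht hu1 hu2 h3.1 h3.2.1).symm
    have h6 := h1 _ h4.1 h4.2.1 (commute_of_conj F h5)
    have h7 : z d * (u * (z a * u * z a)) * z d = u * (z a * u * z a) :=
      conj_of_commute F (F.mem_Q_zero.1 h6 _ (F.z_mem d))
    have h8 : u * (z a * u * z a) = 1 := by
      refine F.eq_one_of_sq hs h4.1 ?_
      have h9 := h4.2.2
      rw [h7] at h9
      exact mul_eq_one_iff_eq_inv.2 h9
    rw [F.z_inv, Subgroup.mem_bot, commute_pair F hij hs ht h3.1 h3.2.1 hu1 hu2]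
    exact h8
  have hab : ∀ u ∈ U, ∀ v ∈ U, u * v * u⁻¹ * v⁻¹ ∈ (⊥ : Subgroup G) := by
    intro u hu v hv
    rw [Subgroup.mem_bot, commute_pair F hij hs ht hu.1 hu.2.1 hv.1 hv.2.1]
    group
  have hUodd : Odd (Nat.card U) :=
    Weights.card_odd_of_le (F.Q_odd i s hs) (fun u hu => hu.1)
  have hconj : ∀ l ∈ L, ∀ u ∈ U, l * u * l⁻¹ ∈ U := by
    rintro l hl u ⟨hu1, hu2, hu3⟩
    refine ⟨conj_mem_Q F hs (hLi l hl) hu1, conj_mem_Q F ht (hLj l hl) hu2, ?_⟩
    have h3 := hLd l hl _ (F.z_mem d)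
    have h3' : l⁻¹ * z d = z d * l⁻¹ := hLd l⁻¹ (inv_mem hl) _ (F.z_mem d)
    calc z d * (l * u * l⁻¹) * z d = (z d * l) * u * (l⁻¹ * z d) := by group
      _ = (l * z d) * u * (z d * l⁻¹) := by rw [← h3, ← h3']
      _ = l * (z d * u * z d) * l⁻¹ := by group
      _ = (l * u * l⁻¹)⁻¹ := by rw [hu3]; group
  have hLU : L ≤ Subgroup.normalizer (U : Set G) := by
    intro l hl
    rw [Subgroup.mem_normalizer_iff]
    intro u
    refine ⟨hconj l hl u, fun h => ?_⟩
    have h3 := hconj l⁻¹ (inv_mem hl) _ h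
    have h4 : l⁻¹ * (l * u * l⁻¹) * l⁻¹⁻¹ = u := by group
    rwa [h4] at h3
  have hU : U ≤ ⊥ := le_of_mem_commutator (Q := U) (N := ⊥) ⟨bot_le, hab⟩ hUodd hLU
    (fun l _ => by
      rw [Subgroup.mem_normalizer_iff]
      intro x
      change x = 1 ↔ l * x * l⁻¹ = 1
      rw [mul_inv_eq_one]
      constructor
      · rintro rfl; rw [mul_one]
      · intro h; exact mul_eq_left.1 h) haL hL hinv
  have hd : u * z d = z d * u := by
    refine commute_of_no_inv F (fun v hv1 hv2 hv3 => ?_) hu1 hu2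
    exact Subgroup.mem_bot.1 (hU ⟨hv1, hv2, hv3⟩)
  have h3 := h2 u hu1 hu2 hd
  exact ⟨h3, h1 u hu1 hu2 (F.mem_Q_zero.1 h3 _ (F.z_mem a))⟩

/-- **Three indices**, `z j * z a` central in `L ≤ C(K i)`. -/
theorem par_of_central [Finite G] (hij : i ≠ j) (hja : j ≠ a) (hs : s ≠ 0) (ht : t ≠ 0)
    (hfix : ∀ u ∈ Q i s, u * z j = z j * u → u * z a = z a * u → u ∈ X i s)
    {L : Subgroup G} (hLi : ∀ l ∈ L, ∀ x ∈ K i, l * x = x * l) (hjL : z j ∈ L)
    (hL : z j ∈ Subgroup.closure {x | ∃ l ∈ L, x = ⁅l, z j⁆})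
    (hw : ∀ l ∈ L, l * (z j * z a) = z j * z a * l) {u : G} (hu1 : u ∈ Q i s) (hu2 : u ∈ Q j t) :
    u * z a = z a * u := by
  have hzjX : ∀ x ∈ X i s, x * z j = z j * x := fun x hx =>
    F.comm i j hij x (F.X_le_K i hs hx) _ (F.z_mem j)
  have hzi : (z j)⁻¹ = z j := F.z_inv j
  set P : Subgroup G := Q i s ⊓ Subgroup.centralizer {z j * z a} with hP
  have hmem : ∀ u, u ∈ P ↔ u ∈ Q i s ∧ u * (z j * z a) = z j * z a * u := fun u => by
    rw [hP, Subgroup.mem_inf, Subgroup.mem_centralizer_singleton_iff]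
  have hXP : X i s ≤ P := by
    intro x hx
    rw [hmem]
    refine ⟨F.X_le_Q i s hs hx, ?_⟩
    by_cases hia : i = a
    · subst hia
      have h1 := F.z_cent i x (F.X_le_K i hs hx)
      rw [← mul_assoc, hzjX x hx, mul_assoc, ← h1, ← mul_assoc]
    · have h1 := F.comm i a hia x (F.X_le_K i hs hx) _ (F.z_mem a)
      rw [← mul_assoc, hzjX x hx, mul_assoc, h1, ← mul_assoc]
  have hsec : Weights.Sec P (X i s) := ⟨hXP, fun x hx y hy => by
    have := F.Q_der i s hs x ((hmem x).1 hx).1 y ((hmem y).1 hy).1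
    rwa [commutatorElement_def] at this⟩
  have hPodd : Odd (Nat.card P) := Weights.card_odd_of_le (F.Q_odd i s hs) inf_le_left
  have hcw : z j * (z j * z a) = z j * z a * z j := by
    rw [mul_assoc, ← commute_z F hja]
  have hconj : ∀ l ∈ L, ∀ u ∈ P, l * u * l⁻¹ ∈ P := by
    intro l hl u hu
    rw [hmem] at hu ⊢
    refine ⟨conj_mem_Q F hs (hLi l hl) hu.1, ?_⟩
    have h1 := hw l hl
    have h2 := hw l⁻¹ (inv_mem hl)
    calc l * u * l⁻¹ * (z j * z a) = l * u * (l⁻¹ * (z j * z a)) := by group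
      _ = l * (u * (z j * z a)) * l⁻¹ := by rw [h2]; group
      _ = l * (z j * z a) * u * l⁻¹ := by rw [hu.2]; group
      _ = z j * z a * (l * u * l⁻¹) := by rw [h1]; group
  have hLP : L ≤ Subgroup.normalizer (P : Set G) := by
    intro l hl
    rw [Subgroup.mem_normalizer_iff]
    intro u
    refine ⟨hconj l hl u, fun h => ?_⟩
    have h3 := hconj l⁻¹ (inv_mem hl) _ h
    have h4 : l⁻¹ * (l * u * l⁻¹) * l⁻¹⁻¹ = u := by group
    rwa [h4] at h3
  have hLX : L ≤ Subgroup.normalizer (X i s : Set G) := fun l hl => by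
    refine Subgroup.centralizer_le_normalizer (X i s : Set G) ?_
    rw [Subgroup.mem_centralizer_iff]
    exact fun x hx => (hLi l hl x (F.X_le_K i hs hx)).symm
  have hact : Weights.Act P (X i s) (z j) := Weights.Act.of_normalizer (F.z_sq j) (hLP hjL) (hLX hjL)
  have hPX : P ≤ X i s := by
    refine le_of_mem_commutator hsec hPodd hLP hLX hjL hL ?_
    refine Weights.inverts_of_fix hsec (Weights.card_odd_of_le hPodd hXP) hact fun x hx hc => ?_
    obtain ⟨hx1, hx2⟩ := (hmem x).1 hx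
    refine hfix x hx1 hc.eq ?_
    have h1 : x * z j = z j * x := hc.eq
    have h2 : z j * (x * z a) = z j * (z a * x) := by
      rw [← mul_assoc, ← h1, mul_assoc, hx2, mul_assoc]
    exact mul_left_cancel h2
  refine commute_of_no_inv F (fun v hv1 hv2 hv3 => ?_) hu1 hu2
  have h1 : z j * v * z j = v⁻¹ := inv_pair F hij.symm ht hs hv2 hv1
  have h2 : v ∈ P := by
    rw [hmem]
    refine ⟨hv1, ?_⟩
    have h3 : v * z j = z j * v⁻¹ := by
      calc v * z j = (z j * z j) * v * z j := by rw [F.z_sq, one_mul]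
        _ = z j * (z j * v * z j) := by group
        _ = z j * v⁻¹ := by rw [h1]
    have h4 : v⁻¹ * z a = z a * v := by
      calc v⁻¹ * z a = z a * v * z a * z a := by rw [hv3]
        _ = z a * v * (z a * z a) := by group
        _ = z a * v := by rw [F.z_sq, mul_one]
    rw [← mul_assoc, h3, mul_assoc, h4, mul_assoc]
  exact F.eq_one_of_mem_X_Q hij hs ht (hPX h2) hv2

/-- **Three indices**, `L ≤ C(K i K j)` normalises `C_D(z a)`. -/
theorem par_of_commute [Finite G] (hij : i ≠ j) (hs : s ≠ 0) (ht : t ≠ 0)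
    {L : Subgroup G} (hLi : ∀ l ∈ L, ∀ x ∈ K i, l * x = x * l) (hLj : ∀ l ∈ L, ∀ x ∈ K j, l * x = x * l)
    (haL : z a ∈ L) (hL : z a ∈ Subgroup.closure {x | ∃ l ∈ L, x = ⁅l, z a⁆})
    (hM : ∀ l ∈ L, ∀ u ∈ Q i s, u ∈ Q j t → u * z a = z a * u → l * u * l⁻¹ * z a = z a * (l * u * l⁻¹))
    {u : G} (hu1 : u ∈ Q i s) (hu2 : u ∈ Q j t) : u * z a = z a * u := by
  set D : Subgroup G := Q i s ⊓ Q j t with hD
  set M : Subgroup G := D ⊓ Subgroup.centralizer {z a} with hMdef
  have hmem : ∀ u, u ∈ M ↔ u ∈ D ∧ u * z a = z a * u := fun u => by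
    rw [hMdef, Subgroup.mem_inf, Subgroup.mem_centralizer_singleton_iff]
  have hMD : M ≤ D := inf_le_left
  have hsec : Weights.Sec D M := ⟨hMD, fun x hx y hy => by
    have h1 : x * y * x⁻¹ * y⁻¹ = 1 := by
      rw [commute_pair F hij hs ht hx.1 hx.2 hy.1 hy.2]; group
    rw [h1]; exact one_mem _⟩
  have hDodd : Odd (Nat.card D) := Weights.card_odd_of_le (F.Q_odd i s hs) inf_le_left
  have hconj : ∀ l ∈ L, ∀ u ∈ D, l * u * l⁻¹ ∈ D := fun l hl u hu =>
    ⟨conj_mem_Q F hs (hLi l hl) hu.1, conj_mem_Q F ht (hLj l hl) hu.2⟩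
  have hconjM : ∀ l ∈ L, ∀ u ∈ M, l * u * l⁻¹ ∈ M := fun l hl u hu => by
    rw [hmem] at hu ⊢
    exact ⟨hconj l hl u hu.1, hM l hl u hu.1.1 hu.1.2 hu.2⟩
  have key : ∀ A : Subgroup G, (∀ l ∈ L, ∀ u ∈ A, l * u * l⁻¹ ∈ A) → L ≤ Subgroup.normalizer (A : Set G) := by
    intro A hA l hl
    rw [Subgroup.mem_normalizer_iff]
    intro u
    refine ⟨hA l hl u, fun h => ?_⟩
    have h3 := hA l⁻¹ (inv_mem hl) _ h
    have h4 : l⁻¹ * (l * u * l⁻¹) * l⁻¹⁻¹ = u := by group
    rwa [h4] at h3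
  have hact : Weights.Act D M (z a) :=
    Weights.Act.of_normalizer (F.z_sq a) (key D hconj haL) (key M hconjM haL)
  have h1 : D ≤ M := le_of_mem_commutator hsec hDodd (key D hconj) (key M hconjM) haL hL
    (Weights.inverts_of_fix hsec (Weights.card_odd_of_le hDodd hMD) hact fun x hx hc => (hmem x).2 ⟨hx, hc.eq⟩)
  exact ((hmem u).1 (h1 ⟨hu1, hu2⟩)).2

end Par

/-! ### Charts -/

/-- The groups `Δ_k` with charts of type `C_m`. -/
def Charts {m : ℕ} (K : Fin (m + 1) → Subgroup G) (z : Fin (m + 1) → G)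
    (X Q : Fin (m + 1) → SignType → Subgroup G) (p : ℕ) (L : Fin (m + 1) → Subgroup G) : Prop :=
  ∀ k : Fin (m + 1), Del K z k (L k) ∧ ∃ (W : Type) (_ : Group W) (_ : Fintype W)
      (cs : CoxeterSystem (CoxeterMatrix.B m) W) (T : Subgroup G) (nn : Fin m → G)
      (Xc Z : (Fin m → ℤ) → Subgroup G) (zc : (Fin m → ℤ) → G)
      (ell : Fin (m + 1) → (Fin m → ℤ) →+ ℤ), DC K z X Q p k cs T nn Xc Z zc (L k) ell ∧
        G1 cs (isCartan m) Xc = L k

section Charts

variable {m : ℕ} {K : Fin (m + 1) → Subgroup G} {z : Fin (m + 1) → G}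
  {X Q : Fin (m + 1) → SignType → Subgroup G} {p : ℕ} {L : Fin (m + 1) → Subgroup G} (F : Frame K z X Q)
  (C : Charts K z X Q p L)

include F C

/-- An element of `Q i s` with signs `t` at `j` and commuting with `z a` is a product of root groups of the chart
of `Δ_a`. -/
theorem mem_Sup [Finite G] {W : Type} [Group W] [Fintype W] {i j a : Fin (m + 1)} {s t : SignType}
    {cs : CoxeterSystem (CoxeterMatrix.B m) W} {T : Subgroup G} {nn : Fin m → G} {Xc Z : (Fin m → ℤ) → Subgroup G}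
    {zc : (Fin m → ℤ) → G} {ell : Fin (m + 1) → (Fin m → ℤ) →+ ℤ} (D : DC K z X Q p a cs T nn Xc Z zc (L a) ell)
    (hia : i ≠ a) (hja : j ≠ a) (hs : s ≠ 0) {u : G} (h1 : u ∈ Q i s) (h2 : u ∈ Q j t)
    (hc : u * z a = z a * u) :
    u ∈ RGD.Sup Xc {x | IsRoot cs (isCartan m) x ∧ SignType.sign (ell i x) = s ∧ SignType.sign (ell j x) = t} := by
  have huL : u ∈ L a := mem_Del F (C a).1 hia hs h1 hc
  have h3 : u ∈ Q i s ⊓ L a := ⟨h1, huL⟩
  rw [D.on.inter i hia s hs] at h3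
  obtain ⟨lam, hlam⟩ : ∃ lam : (Fin m → ℤ) →+ ℤ, ∀ x, SignType.sign (ell i x) = s → 0 < lam x := by
    rcases s with _ | _ | _
    · exact absurd rfl hs
    · exact ⟨-(ell i), fun x hx => by simpa using sign_eq_neg_one_iff.1 hx⟩
    · exact ⟨ell i, fun x hx => sign_eq_one_iff.1 hx⟩
  have h4 : u ∈ RGD.Sup Xc (FrameSign.RS cs (isCartan m) ell {i} (fun _ => s)) := by
    refine RGD.Sup_mono ?_ h3
    rintro x ⟨hx, hx1⟩
    exact ⟨hx, fun k hk => by rw [Set.mem_singleton_iff.1 hk]; exact hx1⟩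
  have h5 := D.on.mem_step F (closed_RS ell {i} (fun _ => s)) lam
    (fun x hx => hlam x (hx.2 i (Set.mem_singleton i))) (show j ∈ {j | j ≠ a} from hja) h4 h2 huL
  refine RGD.Sup_mono ?_ h5
  rintro x ⟨⟨hx, hx1⟩, hx2⟩
  exact ⟨hx, hx1 i (Set.mem_singleton i), hx2⟩

/-- the fourth index -/
theorem mem_Q_zero_four [Finite G] {i j a d : Fin (m + 1)} {s t : SignType} (hij : i ≠ j) (hia : i ≠ a)
    (hja : j ≠ a) (hid : i ≠ d) (hjd : j ≠ d) (had : a ≠ d) (hs : s ≠ 0) (ht : t ≠ 0) {u : G} (h1 : u ∈ Q i s)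
    (h2 : u ∈ Q j t) (hc : u * z a = z a * u) : u ∈ Q d 0 := by
  obtain ⟨-, W, _, _, cs, T, nn, Xc, Z, zc, ell, D, -⟩ := C a
  have h3 := mem_Sup F C D hia hja hs h1 h2 hc
  rw [F.Q_zero]
  refine (RGD.Sup_le ?_ : RGD.Sup Xc _ ≤ Subgroup.centralizer (K d : Set G)) h3
  rintro x ⟨hx, hx1, hx2⟩
  refine D.on.orth d (Ne.symm had) x hx ?_
  obtain ⟨i', rfl⟩ := Fin.exists_succAbove_eq hia
  obtain ⟨j', rfl⟩ := Fin.exists_succAbove_eq hja
  obtain ⟨d', rfl⟩ := Fin.exists_succAbove_eq (Ne.symm had)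
  rw [← sign_eq_zero_iff, D.sign d' x hx]
  rw [D.sign i' x hx] at hx1
  rw [D.sign j' x hx] at hx2
  obtain ⟨b, c, hbc, e⟩ := exists_of_isRoot cs hx
  rw [e, sign_wt_add hbc] at hx1 hx2 ⊢
  have hij' : i' ≠ j' := fun h => hij (by rw [h])
  have hid' : i' ≠ d' := fun h => hid (by rw [h])
  have hjd' : j' ≠ d' := fun h => hjd (by rw [h])
  have key : ∀ k, sv b c k ≠ 0 → k = b.1 ∨ k = c.1 := by
    intro k hk
    by_contra hcon
    push Not at hcon
    exact hk (sv_of_ne hcon.1 hcon.2)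
  have k1 := key i' (by rw [hx1]; exact hs)
  have k2 := key j' (by rw [hx2]; exact ht)
  refine sv_of_ne ?_ ?_
  · intro h
    rcases k1 with k1 | k1
    · exact hid' (k1.trans h.symm)
    · rcases k2 with k2 | k2
      · exact hjd' (k2.trans h.symm)
      · exact hij' (k1.trans k2.symm)
  · intro h
    rcases k1 with k1 | k1
    · rcases k2 with k2 | k2
      · exact hij' (k1.trans k2.symm)
      · exact hjd' (k2.trans h.symm)
    · exact hid' (k1.trans h.symm)

/-- **`Par`, at least four members.** -/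
theorem par_four [Finite G]
    (hL : ∀ i j a : Fin (m + 1), i ≠ j → i ≠ a → j ≠ a → ∃ d, i ≠ d ∧ j ≠ d ∧ a ≠ d ∧
      ∃ M : Subgroup G, (∀ l ∈ M, ∀ x ∈ K i, l * x = x * l) ∧ (∀ l ∈ M, ∀ x ∈ K j, l * x = x * l) ∧
        (((∀ l ∈ M, ∀ x ∈ K d, l * x = x * l) ∧ z a ∈ M ∧ z a ∈ Subgroup.closure {x | ∃ l ∈ M, x = ⁅l, z a⁆}) ∨
        ((∀ l ∈ M, ∀ x ∈ K a, l * x = x * l) ∧ z d ∈ M ∧ z d ∈ Subgroup.closure {x | ∃ l ∈ M, x = ⁅l, z d⁆}))) :
    Par X Q := by
  intro a b c hab hac hbc u hu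
  obtain ⟨d, h1, h2, h3, M, h4, h5, h6⟩ := hL b.1 c.1 a.1 hbc (Ne.symm hab) (Ne.symm hac)
  have key : u ∈ Q a.1 0 := by
    rcases h6 with ⟨h6, h7, h8⟩ | ⟨h6, h7, h8⟩
    · exact (par_of_four F hbc h3 (sgn_ne b.2) (sgn_ne c.2)
        (fun v hv1 hv2 hv => mem_Q_zero_four F C hbc (Ne.symm hab) (Ne.symm hac) h1 h2 h3 (sgn_ne _) (sgn_ne _)
          hv1 hv2 hv)
        (fun v hv1 hv2 hv => mem_Q_zero_four F C hbc h1 h2 (Ne.symm hab) (Ne.symm hac) (Ne.symm h3) (sgn_ne _)
          (sgn_ne _) hv1 hv2 hv) h4 h5 h6 h7 h8 hu.1 hu.2).1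
    · exact (par_of_four F hbc (Ne.symm h3) (sgn_ne b.2) (sgn_ne c.2)
        (fun v hv1 hv2 hv => mem_Q_zero_four F C hbc h1 h2 (Ne.symm hab) (Ne.symm hac) (Ne.symm h3) (sgn_ne _)
          (sgn_ne _) hv1 hv2 hv)
        (fun v hv1 hv2 hv => mem_Q_zero_four F C hbc (Ne.symm hab) (Ne.symm hac) h1 h2 h3 (sgn_ne _) (sgn_ne _)
          hv1 hv2 hv) h4 h5 h6 h7 h8 hu.1 hu.2).2
  exact centralizer_K F key a.2

/-- **`Par`, three members, type `BC`**: `M ≤ C(K i K j)`, `z a ∈ M`, `z a ∈ [M, z a]`, `M` centralises `C_D(z a)`. -/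
theorem par_three_bc [Finite G]
    (hL : ∀ i j a : Fin (m + 1), i ≠ j → i ≠ a → j ≠ a → ∀ s t : SignType, s ≠ 0 → t ≠ 0 →
      ∃ M : Subgroup G, (∀ l ∈ M, ∀ x ∈ K i, l * x = x * l) ∧ (∀ l ∈ M, ∀ x ∈ K j, l * x = x * l) ∧
        z a ∈ M ∧ z a ∈ Subgroup.closure {x | ∃ l ∈ M, x = ⁅l, z a⁆} ∧
        ∀ l ∈ M, ∀ u ∈ Q i s, u ∈ Q j t → u * z a = z a * u → l * u = u * l) :
    Par X Q := by
  intro a b c hab hac hbc u hu
  obtain ⟨M, h1, h2, h3, h4, h5⟩ := hL b.1 c.1 a.1 hbc (Ne.symm hab) (Ne.symm hac) _ _ (sgn_ne b.2) (sgn_ne c.2)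
  have key : u * z a.1 = z a.1 * u := by
    refine par_of_commute F hbc (sgn_ne b.2) (sgn_ne c.2) h1 h2 h3 h4 (fun l hl v hv1 hv2 hv => ?_) hu.1 hu.2
    have h6 : l * v * l⁻¹ = v := by rw [h5 l hl v hv1 hv2 hv]; group
    rw [h6, hv]
  exact centralizer_K F (mem_Q_zero_of_commute F (C a.1).1 (Ne.symm hab) (sgn_ne b.2) hu.1 key) a.2

end Charts

/-! ### Three members, type `C` -/

section Three

variable {K : Fin (2 + 1) → Subgroup G} {z : Fin (2 + 1) → G}
  {X Q : Fin (2 + 1) → SignType → Subgroup G} {p : ℕ} {L : Fin (2 + 1) → Subgroup G} (F : Frame K z X Q)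
  (C : Charts K z X Q p L)

include F C

/-- **`Par`, three members, type `C`** (`X r = Z r` for the long roots). -/
theorem par_three [Finite G]
    (hX : ∀ (i a : Fin (2 + 1)) (s : SignType), i ≠ a → s ≠ 0 → ∀ u ∈ Q i s, (∀ j, j ≠ i → u ∈ Q j 0) → u ∈ X i s)
    (hL : ∀ i j : Fin (2 + 1), i ≠ j → z j ∈ Subgroup.closure {x | ∃ l ∈ L i, x = ⁅l, z j⁆}) :
    Par X Q := by
  intro a b c hab hac hbc u hu
  have hthree : ∀ k, k = a.1 ∨ k = b.1 ∨ k = c.1 := by
    intro k
    by_contra hcon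
    push Not at hcon
    obtain ⟨h1, h2, h3⟩ := hcon
    have h4 : ({k, a.1, b.1, c.1} : Finset (Fin (2 + 1))).card ≤ 3 := by
      have := Finset.card_le_univ ({k, a.1, b.1, c.1} : Finset (Fin (2 + 1)))
      rwa [Fintype.card_fin] at this
    rw [Finset.card_insert_of_notMem (by simp [h1, h2, h3]), Finset.card_insert_of_notMem (by simp [hab, hac]),
      Finset.card_insert_of_notMem (by simp [hbc]), Finset.card_singleton] at h4
    omega
  have key : u * z a.1 = z a.1 * u := by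
    refine par_of_central F hbc (Ne.symm hac) (sgn_ne b.2) (sgn_ne c.2) (fun v hv h1 h2 => ?_)
      (L := L b.1) (fun l hl x hx => ?_) ((C b.1).1.le _ (Ne.symm hbc) (F.z_mem _)) (hL _ _ hbc)
      (fun l hl => ?_) hu.1 hu.2
    · refine hX b.1 a.1 _ (Ne.symm hab) (sgn_ne b.2) v hv fun j hj => ?_
      rcases hthree j with rfl | rfl | rfl
      · exact mem_Q_zero_of_commute F (C _).1 (Ne.symm hab) (sgn_ne b.2) hv h2
      · exact absurd rfl hj
      · exact mem_Q_zero_of_commute F (C _).1 hbc (sgn_ne b.2) hv h1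
    · exact ((Subgroup.mem_centralizer_iff.1 ((C b.1).1.cent hl)) x hx).symm
    · -- `z c * z a` centralises the root groups of the chart of `Δ_b`
      obtain ⟨-, W, _, _, cs, T, nn, Xc, Z, zc, ell, D, hG⟩ := C b.1
      have h1 : L b.1 ≤ Subgroup.centralizer {z c.1 * z a.1} := by
        rw [← hG]
        refine RGD.Sup_le fun x hx v hv => ?_
        rw [Subgroup.mem_centralizer_singleton_iff]
        obtain ⟨d, e, hde, ex⟩ := exists_of_isRoot cs hx
        rw [D.X_eq_XX F hde ex] at hv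
        have hv' := mem_XX.1 hv
        have hnb : ∀ j, j ≠ b.1 → j = a.1 ∨ j = c.1 := by
          intro j hj
          rcases hthree j with h | h | h
          · exact Or.inl h
          · exact absurd h hj
          · exact Or.inr h
        have hd := hnb _ (Fin.succAbove_ne b.1 d.1)
        have he := hnb _ (Fin.succAbove_ne b.1 e.1)
        have hzz := commute_z F hac
        -- commuting with one and with the other
        have hboth : (v * z a.1 = z a.1 * v) → (v * z c.1 = z c.1 * v) →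
            v * (z c.1 * z a.1) = z c.1 * z a.1 * v := by
          intro k1 k2
          rw [← mul_assoc, k2, mul_assoc, k1, ← mul_assoc]
        have hsd : sv (sg' b.1.succAbove d) (sg' b.1.succAbove e) (b.1.succAbove d.1) = sgn d.2 := sv_left _ _
        rcases hde with hde | rfl
        · -- both signs non zero: inverted by both
          have hne : b.1.succAbove d.1 ≠ b.1.succAbove e.1 := fun h => hde (Fin.succAbove_right_injective h)
          have hse : sv (sg' b.1.succAbove d) (sg' b.1.succAbove e) (b.1.succAbove e.1) = sgn e.2 :=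
            sv_right (a := sg' b.1.succAbove d) (b := sg' b.1.succAbove e) (Or.inl hne)
          have i1 : z (b.1.succAbove d.1) * v * z (b.1.succAbove d.1) = v⁻¹ :=
            F.inv hne (by rw [hsd]; exact sgn_ne _) (by rw [hse]; exact sgn_ne _) hv
          have i2 : z (b.1.succAbove e.1) * v * z (b.1.succAbove e.1) = v⁻¹ :=
            F.inv hne.symm (by rw [hse]; exact sgn_ne _) (by rw [hsd]; exact sgn_ne _) hv
          have hinv : ∀ j, z j * v * z j = v⁻¹ → v * z j = z j * v⁻¹ := fun j hj => by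
            rw [← hj]
            calc v * z j = (z j * z j) * v * z j := by rw [F.z_sq, one_mul]
              _ = z j * (z j * v * z j) := by group
          have hinv' : ∀ j, z j * v * z j = v⁻¹ → v⁻¹ * z j = z j * v := fun j hj => by
            rw [← hj]
            calc z j * v * z j * z j = z j * v * (z j * z j) := by group
              _ = z j * v := by rw [F.z_sq, mul_one]
          have j1 : z a.1 * v * z a.1 = v⁻¹ := by
            rcases hd with hd | hd
            · rwa [hd] at i1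
            · rcases he with he | he
              · rwa [he] at i2
              · exact absurd (hd.trans he.symm) hne
          have j2 : z c.1 * v * z c.1 = v⁻¹ := by
            rcases hd with hd | hd
            · rcases he with he | he
              · exact absurd (hd.trans he.symm) hne
              · rwa [he] at i2
            · rwa [hd] at i1
          rw [← mul_assoc, hinv _ j2, mul_assoc, hinv' _ j1, mul_assoc]
        · -- only one sign
          have hother : ∀ j, j ≠ b.1.succAbove d.1 → v * z j = z j * v := by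
            intro j hj
            have h2 := hv' j
            rw [sv_of_ne hj hj] at h2
            exact F.mem_Q_zero.1 h2 _ (F.z_mem j)
          have hmem : v ∈ X (b.1.succAbove d.1) (sgn d.2) := by
            refine hX _ b.1 _ (Fin.succAbove_ne _ _) (sgn_ne _) v (by
              have := hv' (b.1.succAbove d.1)
              rwa [hsd] at this) fun j hj => ?_
            have h2 := hv' j
            rwa [sv_of_ne hj hj] at h2
          have hself : v * z (b.1.succAbove d.1) = z (b.1.succAbove d.1) * v :=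
            (F.z_cent _ v (F.X_le_K _ (sgn_ne _) hmem)).symm
          have hall : ∀ j, v * z j = z j * v := by
            intro j
            by_cases hj : j = b.1.succAbove d.1
            · rw [hj]; exact hself
            · exact hother j hj
          exact hboth (hall _) (hall _)
      exact (Subgroup.mem_centralizer_singleton_iff.1 (h1 hl))
  exact centralizer_K F (mem_Q_zero_of_commute F (C a.1).1 (Ne.symm hab) (sgn_ne b.2) hu.1 key) a.2

end Three

end Cfsg.Agent.Cit.TypeCPar
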