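import Mathlib
import Cfsg.Agent.Cit.TypeCPar
import Cfsg.Agent.Cit.FrameOfFr
import Cfsg.Agent.Nodes.TyStd
import Cfsg.Agent.Nodes.KindC

/-!
# Providers for type `C_n`: the adapted chart of `Δ_k` (project CIT)

* `exists_w` : every permutation of the frame `2ε_i` comes from the Weyl group;
* `exists_DC` : a chart of type `C_m` of `L = Δ_k` gives the data `TypeCFrm.DC` on the frame without `k`;
* `charts_of` : `TypeCPar.Charts`.
-/

set_option autoImplicit false
set_option linter.unusedSectionVars false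
set_option linter.dupNamespace false

namespace Cfsg.Agent.Cit.TypeCProv

open CoxeterSystem Cfsg.Agent.ChevalleyStructure.CoxeterGeom Cfsg.Agent.Tits.Roots Cfsg.Agent.Nodes.TypeC
  Cfsg.Agent.Nodes.TypeCForm Cfsg.Agent.Nodes.Comb Cfsg.Agent.Nodes.Reps Cfsg.Agent.Nodes.BNOf
  Cfsg.Agent.Nodes.Chart Cfsg.Agent.Nodes.RGDLib Cfsg.Agent.Nodes.Coroot Cfsg.Agent.Nodes.KindBC
  Cfsg.Agent.Nodes.KindBase Cfsg.Agent.Nodes.KindC Cfsg.Agent.Nodes.Bruhat
  Cfsg.Agent.Cit.TypeC Cfsg.Agent.Cit.FrameSign Cfsg.Agent.Cit.TypeCFrm Cfsg.Agent.Cit.TypeCPar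
  Cfsg.Agent.Cit.FrameOf Cfsg.Agent.Cit.FrameOfFr

/-! ### Permutations of the frame -/

section Perm

variable {m : ℕ} {W : Type*} [Group W] [Finite W] (cs : CoxeterSystem (CoxeterMatrix.B m) W)

/-- the transposition `(i j)` of the frame -/
theorem exists_w_swap {i j : Fin m} (hij : i ≠ j) :
    ∃ w, ∀ k, rep cs (isCartan m) w (fr m k) = fr m (Equiv.swap i j k) := by
  have hne : ((i, true) : Fin m × Bool).1 ≠ ((j, false) : Fin m × Bool).1 := hij
  obtain ⟨s, hs⟩ := exists_refl cs (isCartan m) (isRoot_rt cs (Or.inl hne : Ok (i, true) (j, false)))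
  refine ⟨s, fun k => ?_⟩
  rw [hs, cpr_rt cs _ hne]
  apply ee_injective
  have e1 : ee (fr m k - (ee (fr m k) (i, true).1 * sn ((i, true) : Fin m × Bool) +
      ee (fr m k) (j, false).1 * sn ((j, false) : Fin m × Bool)) • rt (i, true) (j, false)) =
      ee (fr m k) - (ee (fr m k) i - ee (fr m k) j) • (wt (i, true) + wt (j, false)) := by
    rw [sub_eq_add_neg, ee_add, ee_neg, ee_smul, ee_rt]
    simp only [sn, if_true, Bool.false_eq_true, if_false]
    ring_nf
  rw [e1]
  funext l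
  simp only [Pi.sub_apply, Pi.smul_apply, Pi.add_apply, smul_eq_mul, ee_fr_apply, wt_apply, if_true,
    Bool.false_eq_true, if_false]
  by_cases h1 : k = i
  · subst h1
    rw [Equiv.swap_apply_left]
    simp only [if_true, if_neg (Ne.symm hij)]
    by_cases h2 : l = k
    · subst h2
      simp [hij]
    · by_cases h3 : l = j
      · subst h3; simp [h2]
      · simp [h2, h3]
  · by_cases h2 : k = j
    · subst h2
      rw [Equiv.swap_apply_right]
      simp only [if_true, if_neg hij]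
      by_cases h3 : l = k
      · subst h3
        simp [h1]
      · by_cases h4 : l = i
        · subst h4; simp [h3]
        · simp [h3, h4]
    · rw [Equiv.swap_apply_of_ne_of_ne h1 h2]
      simp [Ne.symm h1, Ne.symm h2]

/-- Every permutation of the frame comes from the Weyl group. -/
theorem exists_w (σ : Equiv.Perm (Fin m)) :
    ∃ w, ∀ k, rep cs (isCartan m) w (fr m k) = fr m (σ k) := by
  induction σ using Equiv.Perm.swap_induction_on with
  | one => exact ⟨1, fun k => by rw [map_one, Module.End.one_apply]; rfl⟩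
  | swap_mul σ i j hij ih =>
    obtain ⟨w, hw⟩ := ih
    obtain ⟨v, hv⟩ := exists_w_swap cs hij
    exact ⟨v * w, fun k => by rw [rep_mul_apply, hw, hv]; rfl⟩

/-- `m` pairwise orthogonal long roots are conjugate to the standard frame. -/
theorem exists_frame {x : Fin m → Fin m → ℤ} (hx : ∀ i, x i ∈ RC m)
    (ho : ∀ i j, i ≠ j → cpr cs (isCartan m) (x i) (x j) = 0) :
    ∃ v : W, ∀ i, rep cs (isCartan m) v (fr m i) = x i := by
  obtain ⟨w, f, hf⟩ := (frameSys cs).exists_move x hx ho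
  have hinj : Function.Injective f := by
    intro a b hab
    by_contra hne
    have h1 : x a = x b := rep_injective_apply cs (isCartan m) w (by rw [hf, hf, hab])
    have h2 := ho a b hne
    rw [h1, cpr_self cs _ (root_RC cs (hx b))] at h2
    norm_num at h2
  let σ : Equiv.Perm (Fin m) := Equiv.ofBijective f (Finite.injective_iff_bijective.1 hinj)
  obtain ⟨v, hv⟩ := exists_w cs σ
  refine ⟨w⁻¹ * v, fun i => ?_⟩
  have h1 : fr m (σ i) = rep cs (isCartan m) w (x i) := (hf i).symm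
  rw [rep_mul_apply, hv, h1, rep_inv_apply]

end Perm

/-! ### The adapted chart -/

section Prov

variable {G : Type*} [Group G] [Finite G] {m : ℕ} {Om : Set (Subgroup G)} {F : Type*} [Field F] [Fintype F]
  {p : ℕ} [CharP F p] {K : Fin (m + 1) → Subgroup G} {X : Fin (m + 1) → SignType → Subgroup G}

open Classical in
/-- the frame roots -/
noncomputable def gf (m : ℕ) (k : Fin (m + 1)) (j : Fin (m + 1)) : Fin m → ℤ :=
  if h : ∃ i, k.succAbove i = j then fr m h.choose else 0

theorem gf_succAbove (k : Fin (m + 1)) (i : Fin m) : gf m k (k.succAbove i) = fr m i := by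
  have h : ∃ i', k.succAbove i' = k.succAbove i := ⟨i, rfl⟩
  unfold gf
  rw [dif_pos h]
  congr 1
  exact Fin.succAbove_right_injective h.choose_spec

/-- **The chart of `Δ_k`**. -/
theorem exists_DC (D : Dat Om F K X) (hF : Odd (Fintype.card F)) (hg : ∀ i, Good p (X i 1) (zz (K i)))
    {k : Fin (m + 1)} {L : Subgroup G} (c : Chart Om p L) (hc : c.IsTy (Ty.C m)) (hL : L ∉ Om)
    (hK : ∀ j, j ≠ k → K j ≤ L) (hcent : L ≤ Subgroup.centralizer (K k : Set G))
    (hnor : Subgroup.centralizer (K k : Set G) ≤ Subgroup.normalizer (L : Set G)) :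
    ∃ (W : Type) (_ : Group W) (_ : Fintype W)
      (cs : CoxeterSystem (CoxeterMatrix.B m) W) (T : Subgroup G) (nn : Fin m → G)
      (Xc Z : (Fin m → ℤ) → Subgroup G) (zc : (Fin m → ℤ) → G)
      (ell : Fin (m + 1) → (Fin m → ℤ) →+ ℤ), DC K (fun i => zz (K i)) X (QF K X) p k cs T nn Xc Z zc L ell ∧
        G1 cs (isCartan m) Xc = L ∧ ((∀ r ∈ c.R, c.Z r = c.X r) → ∀ r ∈ RC m, Z r = Xc r) := by
  have hmem : ∀ j, K j ≤ L ↔ j ≠ k := by
    intro j
    refine ⟨?_, hK j⟩
    rintro h rfl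
    have h1 : ∀ x ∈ X j 1, x = 1 := fun x hx => D.X_center j one_ne_zero hx fun b hb =>
      Subgroup.mem_centralizer_iff.1 (hcent (h hb)) x (D.X_le j one_ne_zero hx) |>.symm ▸ rfl
    have h2 := D.card_X j one_ne_zero
    have h3 : X j 1 = ⊥ := by
      rw [eq_bot_iff]
      exact fun x hx => Subgroup.mem_bot.2 (h1 x hx)
    rw [h3, Subgroup.card_bot] at h2
    exact (Fintype.one_lt_card (α := F)).ne h2
  have hfin : Finite (CoxeterMatrix.B m).Group := finite_W (CoxeterMatrix.B m).toCoxeterSystem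
  let _ : Fintype (CoxeterMatrix.B m).Group := Fintype.ofFinite _
  let cs := (CoxeterMatrix.B m).toCoxeterSystem
  have hlong : ∀ i : Fin m, sr i ∈ RC m ↔ (i : ℕ) + 1 = m := by
    intro i
    have hi := i.2
    constructor
    · rintro ⟨a, e⟩
      rw [ee_sr, bt] at e
      by_contra hne
      have h1 := wt_add_eq (ok_nx i) (Or.inr rfl) e
      have h2 : (i, true) = nx i := by
        rcases h1 with h1 | h1 <;> rw [h1.1, h1.2]
      unfold nx at h2
      rw [dif_pos (by omega)] at h2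
      exact absurd (congrArg Prod.snd h2) (by simp)
    · intro h
      refine ⟨(i, true), ?_⟩
      rw [ee_sr, bt]
      unfold nx
      rw [dif_neg (by omega)]
  obtain ⟨e, hM, hA, hR, -⟩ := Nodes.TyStd.exists_chart_of_isTy c hc (W' := (CoxeterMatrix.B m).Group) cs
    (R' := RC m) (fun r hr => root_RC cs hr) (fun r hr w => act_RC cs hr w) hlong (trans_RC cs)
  let c₁ : Chart Om p L := Nodes.TyStd.reindex c e hM hA cs (Ty.isCartan (Ty.C m)) (fun r hr => root_RC cs hr)
    (fun r hr w => act_RC cs hr w) hR (trans_RC cs)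
  obtain ⟨y, hy, g, hAd⟩ := exists_adapted' c₁ hL D
  -- the frame roots
  have hgR : ∀ i : Fin m, g (k.succAbove i) ∈ RC m := fun i =>
    hAd.mem _ ((hmem _).2 (Fin.succAbove_ne k i))
  obtain ⟨v, hv⟩ := exists_frame cs (x := fun i : Fin m => g (k.succAbove i)) hgR (fun i j hij =>
    (cpr_zero_iff _ _ _ (root_RC cs (hgR j))).2
      (hAd.orth _ ((hmem _).2 (Fin.succAbove_ne k i)) _ ((hmem _).2 (Fin.succAbove_ne k j))
      fun h => hij (Fin.succAbove_right_injective h)))
  obtain ⟨n₀, hn₀⟩ := exists_rp cs c₁.cls.rgd.nsys v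
  have hn₀L : n₀ ∈ L := by
    rw [← GG_eq c₁]
    exact NN_le_GG c₁.cls.rgd ⟨v, hn₀⟩
  have hy' : y * n₀ ∈ L := mul_mem hy hn₀L
  let c₂ : Chart Om p L := conjChart c₁ hy' D.hyp.conj
  have hZ : ∀ r ∈ RC m, c₂.Z r = cj y (c₁.Z (rep cs (isCartan m) v r)) := by
    intro r hr
    change cj (y * n₀) (c₁.Z r) = _
    rw [cj_mul]
    congr 1
    exact Nodes.ClsNorm.conj_Z c₁.cls hn₀ hr
  have hz : ∀ r ∈ RC m, c₂.z r = y * c₁.z (rep cs (isCartan m) v r) * y⁻¹ := by
    intro r hr
    change y * n₀ * c₁.z r * (y * n₀)⁻¹ = _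
    have h1 : n₀ * c₁.z r * n₀⁻¹ = c₁.z (rep cs (isCartan m) v r) := Nodes.ClsNorm.conj_z c₁.cls hn₀ hr
    rw [← h1]; group
  have hpos : ∀ i : Fin m, c₂.Z (fr m i) = X (k.succAbove i) 1 := by
    intro i
    rw [hZ _ (fr_mem i), hv i]
    exact hAd.pos _ ((hmem _).2 (Fin.succAbove_ne k i))
  have hneg : ∀ i : Fin m, c₂.Z (-fr m i) = X (k.succAbove i) (-1) := by
    intro i
    have h1 : -fr m i ∈ RC m := (frameSys cs).neg_mem (fr_mem i)
    rw [hZ _ h1, map_neg, hv i]
    exact hAd.neg _ ((hmem _).2 (Fin.succAbove_ne k i))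
  have hzz : ∀ i : Fin m, c₂.z (fr m i) = zz (K (k.succAbove i)) := by
    intro i
    rw [hz _ (fr_mem i), hv i]
    exact hAd.zz _ ((hmem _).2 (Fin.succAbove_ne k i))
  have hAd₂ : Adapted K X c₂ (gf m k) := by
    constructor
    · intro i hi
      obtain ⟨i', rfl⟩ := Fin.exists_succAbove_eq ((hmem i).1 hi)
      rw [gf_succAbove]
      exact fr_mem i'
    · intro i hi
      obtain ⟨i', rfl⟩ := Fin.exists_succAbove_eq ((hmem i).1 hi)
      rw [gf_succAbove]
      exact hpos i'
    · intro i hi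
      obtain ⟨i', rfl⟩ := Fin.exists_succAbove_eq ((hmem i).1 hi)
      rw [gf_succAbove]
      exact hneg i'
    · intro i hi
      obtain ⟨i', rfl⟩ := Fin.exists_succAbove_eq ((hmem i).1 hi)
      rw [gf_succAbove]
      exact hzz i'
    · intro i hi j hj hij
      obtain ⟨i', rfl⟩ := Fin.exists_succAbove_eq ((hmem i).1 hi)
      obtain ⟨j', rfl⟩ := Fin.exists_succAbove_eq ((hmem j).1 hj)
      rw [gf_succAbove, gf_succAbove]
      have h1 := (frameSys cs).orth i' j' fun h => hij (by rw [h])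
      rwa [cpr_zero_iff _ _ _ (isRoot_fr cs j')] at h1
  have hout : ∀ i, ¬ K i ≤ L → ∀ a ∈ L, ∀ b ∈ K i, a * b = b * a := by
    intro i hi a ha b hb
    have : i = k := by
      by_contra h
      exact hi (hK i h)
    subst this
    exact (Subgroup.mem_centralizer_iff.1 (hcent ha) b hb).symm
  have hon := chartOn_of_adapted c₂ D hF hg hAd₂ hout
  have hset : {i | K i ≤ L} = {j | j ≠ k} := Set.ext fun j => hmem j
  rw [hset] at hon
  refine ⟨(CoxeterMatrix.B m).Group, inferInstance, inferInstance, cs, c₂.T, c₂.n, c₂.X, c₂.Z, c₂.z,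
    fun i => ellOf c₂.cs c₂.h (gf m k i), ⟨c₂.cls, hon, ?_, ?_, ?_, hnor⟩, c₂.gen, ?_⟩
  · intro i x _
    change SignType.sign (ellOf cs (isCartan m) (gf m k (k.succAbove i)) x) = _
    rw [gf_succAbove, ellOf_apply cs (isCartan m) (isRoot_fr cs i), cpr_fr]
  · rintro x ⟨i, s⟩ ex
    cases s
    · have h1 : x = -fr m i := ee_injective (by
        rw [ex, ee_neg, ee_fr]
        have := wt_ng ((i, true) : Fin m × Bool)
        change wt (i, false) = _ at this
        rw [this]; abel)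
      rw [h1]
      exact hneg i
    · have h1 : x = fr m i := ee_injective (by rw [ex, ee_fr])
      rw [h1]
      exact hpos i
  · rintro x ⟨i, s⟩ ex
    cases s
    · have h1 : x = -fr m i := ee_injective (by
        rw [ex, ee_neg, ee_fr]
        have := wt_ng ((i, true) : Fin m × Bool)
        change wt (i, false) = _ at this
        rw [this]; abel)
      rw [h1]
      exact (c₂.cls.z_neg _ (fr_mem i)).trans (hzz i)
    · have h1 : x = fr m i := ee_injective (by rw [ex, ee_fr])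
      rw [h1]
      exact hzz i
  · intro hZX r hr
    change cj (y * n₀) (c₁.Z r) = cj (y * n₀) (c₁.X r)
    congr 1
    refine hZX _ ?_
    exact (Nodes.TyStd.mem_R_iff (cs := c.cs) (h := c.h) e hM hA cs (Ty.isCartan (Ty.C m)) c.cls.act
      (fun r hr w => act_RC cs hr w) hR (root_RC cs hr)).2 hr

/-- **The condition `Charts`** from typed charts of the groups `Δ_k`. -/
theorem charts_of (D : Dat Om F K X) (hF : Odd (Fintype.card F)) (hg : ∀ i, Good p (X i 1) (zz (K i)))
    {L : Fin (m + 1) → Subgroup G} (hc : ∀ k, ∃ c : Chart Om p (L k), c.IsTy (Ty.C m)) (hL : ∀ k, L k ∉ Om)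
    (hK : ∀ k j, j ≠ k → K j ≤ L k) (hcent : ∀ k, L k ≤ Subgroup.centralizer (K k : Set G))
    (hnor : ∀ k, ∀ g : G, g * zz (K k) = zz (K k) * g → g ∈ Subgroup.normalizer (L k : Set G)) :
    Charts K (fun i => zz (K i)) X (QF K X) p L := by
  intro k
  obtain ⟨c, hc⟩ := hc k
  obtain ⟨W, i1, i2, cs, T, nn, Xc, Z, zc, ell, h1, h2, -⟩ :=
    exists_DC D hF hg c hc (hL k) (hK k) (hcent k) fun g hg' =>
      hnor k g (Subgroup.mem_centralizer_iff.1 hg' _ (D.hyp.zz_mem (D.mem k))).symm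
  exact ⟨⟨hK k, hcent k, hnor k⟩, W, i1, i2, cs, T, nn, Xc, Z, zc, ell, h1, h2⟩

end Prov

end Cfsg.Agent.Cit.TypeCProv
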