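import Mathlib
import Cfsg.Agent.Cit.TypeCPar
import Cfsg.Agent.Cit.FrameOf
import Cfsg.Agent.Nodes.Perp
import Cfsg.Agent.Nodes.KindC

/-!
# The parity condition of type `C_n`: proofs from the charts (project CIT)

* `Cm M z` : `[M, z]`;
* `DC.swap` : `z i ∈ [M, z i]` for the group `M ≤ Δ_k` of the roots `± 2ε_i`, `± (ε_i - ε_j)`; `DC.swap_bc` : the same for
  `± 2ε_i` if `Z < X`;
* `IsC` : type `C` (`X = Z` for the long roots); `isC_or`;
* `par_of_five` (`n ≥ 5`), `par_of_four_bc` (`n = 4`, not type `C`), `par_of_three_c` (`n = 3`, type `C`);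
* `par_of_pieces` : `K i`, `K a` lie in different pieces of `C(z i z j)`.
-/

set_option autoImplicit false
set_option linter.unusedSectionVars false
set_option linter.dupNamespace false

namespace Cfsg.Agent.Cit.TypeCSwap

open CoxeterSystem Cfsg.Agent.ChevalleyStructure.CoxeterGeom Cfsg.Agent.Tits.Roots Cfsg.Agent.Nodes.TypeC
  Cfsg.Agent.Nodes.Comb Cfsg.Agent.Nodes.Reps Cfsg.Agent.Nodes.BNOf Cfsg.Agent.Nodes.RGDLib
  Cfsg.Agent.Nodes.TypeCForm Cfsg.Agent.Nodes.Coroot Cfsg.Agent.Nodes.KindBC Cfsg.Agent.Nodes.KindC Cfsg.Agent.Nodes.Bruhat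
  Cfsg.Agent.Cit.TypeC Cfsg.Agent.Cit.FrameSign Cfsg.Agent.Cit.TypeCFrm Cfsg.Agent.Cit.TypeCPar
open scoped commutatorElement

variable {G : Type*} [Group G]

/-! ### The group `[M, z]` -/

/-- `[M, z]` -/
def Cm (M : Subgroup G) (z : G) : Subgroup G := Subgroup.closure {x | ∃ l ∈ M, x = ⁅l, z⁆}

theorem mem_Cm {M : Subgroup G} {z l : G} (hl : l ∈ M) : ⁅l, z⁆ ∈ Cm M z := Subgroup.subset_closure ⟨l, hl, rfl⟩

theorem Cm_mono {M N : Subgroup G} (h : M ≤ N) (z : G) : Cm M z ≤ Cm N z :=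
  Subgroup.closure_mono fun _ ⟨l, hl, e⟩ => ⟨l, h hl, e⟩

theorem conj_mem_Cm {M : Subgroup G} {z m : G} (hm : m ∈ M) {g : G} (hg : g ∈ Cm M z) : m * g * m⁻¹ ∈ Cm M z := by
  have h1 : Cm M z ≤ (Cm M z).comap (MulAut.conj m).toMonoidHom := by
    unfold Cm
    rw [Subgroup.closure_le]
    rintro _ ⟨l, hl, rfl⟩
    change m * ⁅l, z⁆ * m⁻¹ ∈ Cm M z
    have h2 : m * ⁅l, z⁆ * m⁻¹ = ⁅m * l, z⁆ * ⁅m, z⁆⁻¹ := by
      simp only [commutatorElement_def]; group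
    rw [h2]
    exact mul_mem (mem_Cm (mul_mem hm hl)) (inv_mem (mem_Cm hm))
  exact h1 hg

/-- a group of odd order inverted by `z` lies in `[M, z]` -/
theorem le_Cm_of_inv {M Q : Subgroup G} {z : G} (hz : z * z = 1) (hodd : Odd (Nat.card Q)) (hQ : Q ≤ M)
    (hinv : ∀ u ∈ Q, z * u * z = u⁻¹) : Q ≤ Cm M z := by
  intro u hu
  refine Weights.mem_of_sq_mem hodd hu ?_
  have hz' : z⁻¹ = z := inv_eq_of_mul_eq_one_left hz
  have h1 : z * u⁻¹ * z = u := by rw [hinv u⁻¹ (inv_mem hu), inv_inv]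
  have h2 : ⁅u, z⁆ = u * u := by
    rw [commutatorElement_def, hz']
    calc u * z * u⁻¹ * z = u * (z * u⁻¹ * z) := by group
      _ = u * u := by rw [h1]
  rw [← h2]
  exact mem_Cm (hQ hu)

/-- An involution of `B ⊔ H`, `B` of odd order normalising `H`, lies in `H`. -/
theorem mem_of_sup {B H : Subgroup G} (hB : Odd (Nat.card B)) (hn : ∀ b ∈ B, ∀ h ∈ H, b * h * b⁻¹ ∈ H) {z : G}
    (hz : z * z = 1) (hm : z ∈ B ⊔ H) : z ∈ H := by
  have hn' : ∀ b ∈ B, ∀ h ∈ H, b⁻¹ * h * b ∈ H := fun b hb h hh => by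
    have := hn b⁻¹ (inv_mem hb) h hh
    rwa [inv_inv] at this
  let S : Subgroup G :=
    { carrier := {g | ∃ b ∈ B, ∃ h ∈ H, g = b * h}
      one_mem' := ⟨1, one_mem _, 1, one_mem _, by rw [mul_one]⟩
      mul_mem' := by
        rintro _ _ ⟨b, hb, h, hh, rfl⟩ ⟨b', hb', h', hh', rfl⟩
        exact ⟨b * b', mul_mem hb hb', b'⁻¹ * h * b' * h', mul_mem (hn' b' hb' h hh) hh', by group⟩
      inv_mem' := by
        rintro _ ⟨b, hb, h, hh, rfl⟩
        exact ⟨b⁻¹, inv_mem hb, b * h⁻¹ * b⁻¹, hn b hb _ (inv_mem hh), by group⟩ }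
  have hS : B ⊔ H ≤ S := sup_le (fun b hb => ⟨b, hb, 1, one_mem _, by rw [mul_one]⟩)
    fun h hh => ⟨1, one_mem _, h, hh, by rw [one_mul]⟩
  obtain ⟨b, hb, h, hh, e⟩ := hS hm
  have key : ∀ k : ℕ, ∃ x ∈ H, z ^ k = b ^ k * x := by
    intro k
    induction k with
    | zero => exact ⟨1, one_mem _, by simp⟩
    | succ k ih =>
      obtain ⟨x, hx, e1⟩ := ih
      refine ⟨b⁻¹ * x * b * h, mul_mem (hn' b hb x hx) hh, ?_⟩
      rw [pow_succ, pow_succ, e1]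
      nth_rw 1 [e]
      group
  obtain ⟨j, hj⟩ := hB
  obtain ⟨x, hx, e1⟩ := key (Nat.card B)
  have h1 : b ^ Nat.card B = 1 := by
    have h2 : (⟨b, hb⟩ : B) ^ Nat.card B = 1 := pow_card_eq_one'
    exact congrArg Subtype.val h2
  have h3 : z ^ Nat.card B = z := by
    rw [hj, pow_succ, pow_mul, sq, hz, one_pow, one_mul]
  rw [h1, one_mul, h3] at e1
  rw [e1]; exact hx

/-! ### Root groups -/

section Roots

variable {m : ℕ} {K : Fin (m + 1) → Subgroup G} {z : Fin (m + 1) → G}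
  {X Q : Fin (m + 1) → SignType → Subgroup G} {p : ℕ} {k : Fin (m + 1)} {W : Type} [Group W] [Fintype W]
  {cs : CoxeterSystem (CoxeterMatrix.B m) W} {T : Subgroup G} {nn : Fin m → G} {Xc Z : (Fin m → ℤ) → Subgroup G}
  {zc : (Fin m → ℤ) → G} {L : Subgroup G} {ell : Fin (m + 1) → (Fin m → ℤ) →+ ℤ}

/-- root groups have odd order -/
theorem odd_X [Finite G] (hp : p.Prime) (hp2 : p ≠ 2) (R : RGD cs (isCartan m) p T nn Xc) {x : Fin m → ℤ}
    (hx : IsRoot cs (isCartan m) x) : Odd (Nat.card (Xc x)) := by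
  have : Fact p.Prime := ⟨hp⟩
  obtain ⟨j, hj⟩ := IsPGroup.iff_card.1 (R.pgrp' hx)
  rw [hj]
  exact (hp.odd_of_ne_two hp2).pow

variable (hp : p.Prime) (hp2 : p ≠ 2) (C : DC K z X Q p k cs T nn Xc Z zc L ell)

include hp hp2 C

theorem orth_ell {d : Fin (m + 1)} (hd : d ≠ k) {x : Fin m → ℤ} (hx : IsRoot cs (isCartan m) x)
    (h0 : ∀ i, d = k.succAbove i → ee x i = 0) : ∀ l ∈ Xc x, ∀ y ∈ K d, l * y = y * l := by
  obtain ⟨i, rfl⟩ := Fin.exists_succAbove_eq hd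
  intro l hl y hy
  have h1 : ell (k.succAbove i) x = 0 := by
    have h2 := C.sign i x hx
    rw [h0 i rfl, sign_zero] at h2
    exact sign_eq_zero_iff.1 h2
  exact ((Subgroup.mem_centralizer_iff.1 (C.on.orth _ hd x hx h1 hl)) y hy).symm

/-- `z i ∈ [M, z i]` for the group `M` of the roots `± 2ε_i`, `± (ε_i - ε_j)` -/
theorem swap [Finite G] {i j : Fin m} (hij : i ≠ j) : ∃ M ≤ L,
    (∀ d, d ≠ k → d ≠ k.succAbove i → d ≠ k.succAbove j → ∀ l ∈ M, ∀ y ∈ K d, l * y = y * l) ∧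
      z (k.succAbove i) ∈ M ∧ z (k.succAbove i) ∈ Cm M (z (k.succAbove i)) := by
  have hne : ((i, true) : Fin m × Bool).1 ≠ ((j, false) : Fin m × Bool).1 := hij
  set x : Fin m → ℤ := fr m i with hx
  set y : Fin m → ℤ := fr m j with hy
  set r : Fin m → ℤ := rt (i, true) (j, false) with hr
  have hxr : IsRoot cs (isCartan m) x := isRoot_fr cs i
  have hyr : IsRoot cs (isCartan m) y := isRoot_fr cs j
  have hrr : IsRoot cs (isCartan m) r := isRoot_rt cs (Or.inl hne)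
  have hxR : x ∈ RS m := fr_mem i
  have hyR : y ∈ RS m := fr_mem j
  have hxn : -x ∈ RS m := (frameSys cs).neg_mem hxR
  have hz : zc x = z (k.succAbove i) := C.z_eq x (i, true) (ee_fr i)
  have hz2 : zc x * zc x = 1 := C.cls.z_sq x hxR
  have hcrx : cpr cs (isCartan m) r x = 1 := by
    rw [hx, cpr_fr, hr, ee_rt, Pi.add_apply, wt_apply, wt_apply]
    simp [hij]
  have hcxr : cpr cs (isCartan m) x r = 2 := by
    rw [hr, cpr_rt cs _ hne, hx, ee_fr_apply, ee_fr_apply]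
    simp [sn, Ne.symm hij]
  have hfx : form cs (isCartan m) r x ≠ 0 := by
    rw [Ne, ← cpr_zero_iff cs (isCartan m) _ hxr, hcrx]; norm_num
  have hrx : r ≠ x := by
    intro h
    have h1 := cpr_self cs (isCartan m) hxr
    rw [← h] at h1
    nth_rw 2 [h] at h1
    rw [hcrx] at h1
    norm_num at h1
  have hrx' : r ≠ -x := by
    intro h
    have h1 := cpr_self cs (isCartan m) hxr
    have h2 : cpr cs (isCartan m) (-x) x = -2 := by
      rw [hx, cpr_fr, ee_neg, Pi.neg_apply, ee_fr_apply, if_pos rfl]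
    rw [h, h2] at hcrx
    norm_num at hcrx
  have hfx' : form cs (isCartan m) (-r) x ≠ 0 := by
    rw [form_neg_left]; exact neg_ne_zero.2 hfx
  set M : Subgroup G := (Xc x ⊔ Xc (-x)) ⊔ (Xc r ⊔ Xc (-r)) with hM
  have hle : ∀ s, s ∈ RS m → Z s ≤ Xc s := fun s hs => C.cls.le s hs
  have hzM : zc x ∈ M := (le_sup_left : Xc x ⊔ Xc (-x) ≤ M) (sup_le_sup (hle x hxR) (hle _ hxn) (C.cls.z_mem x hxR))
  -- `n r ∈ [M, z]`
  have hr1 : Xc r ≤ Cm M (zc x) := le_Cm_of_inv hz2 (odd_X hp hp2 C.cls.rgd hrr)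
    (le_trans le_sup_left le_sup_right) (fun u hu => C.cls.z_inv x hxR r hrr hrx hrx' hfx u hu)
  have hr2 : Xc (-r) ≤ Cm M (zc x) := le_Cm_of_inv hz2 (odd_X hp hp2 C.cls.rgd hrr.neg)
    (le_trans le_sup_right le_sup_right) (fun u hu => C.cls.z_inv x hxR (-r) hrr.neg
      (fun h => hrx' (by rw [← h, neg_neg])) (fun h => hrx (neg_injective h)) hfx' u hu)
  obtain ⟨b, hb, hb1⟩ : ∃ b ∈ Xc (-r), b ≠ 1 := by
    by_contra h0
    push Not at h0
    exact X_ne_bot C.cls.rgd hrr.neg ((Subgroup.eq_bot_iff_forall _).2 h0)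
  obtain ⟨a, ha, c, hc, w, hw, hw'⟩ := Nodes.Perp.exists_refl_LL C.cls.rgd hrr hb hb1
  set n : G := a * b * c with hn
  have hnC : n ∈ Cm M (zc x) := mul_mem (mul_mem (hr1 ha) (hr2 hb)) (hr1 hc)
  have hwx : rep cs (isCartan m) w x = y := by
    rw [hw', hcxr]
    apply ee_injective
    rw [sub_eq_add_neg, ee_add, ee_neg, ee_smul, hr, ee_rt, hx, hy, ee_fr, ee_fr]
    funext l
    simp only [Pi.add_apply, Pi.neg_apply, Pi.smul_apply, smul_eq_mul, wt_apply, if_true, Bool.false_eq_true, if_false]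
    split_ifs <;> simp_all
  have hnZ : ∀ v ∈ Z x, n * v * n⁻¹ ∈ Z y := by
    intro v hv
    have h1 : cj n (Z x) = Z (rep cs (isCartan m) w x) := Nodes.ClsNorm.conj_Z C.cls hw hxR
    rw [hwx] at h1
    rw [← h1]
    exact conj_mem_cj hv
  have hxy : form cs (isCartan m) x y = 0 := by
    rw [← cpr_zero_iff cs (isCartan m) _ hyr, hy, cpr_fr, hx, ee_fr_apply, if_neg (Ne.symm hij)]
  have hcomm : ∀ g ∈ Xc x ⊔ Xc (-x), ∀ u ∈ Z y, g * u = u * g := by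
    have h1 : Xc x ⊔ Xc (-x) ≤ Subgroup.centralizer (Z y : Set G) := by
      refine sup_le ?_ ?_
      · intro g hg
        rw [Subgroup.mem_centralizer_iff]
        exact fun u hu => (C.cls.cent y hyR x hxr hxy.ge g hg u hu).symm
      · intro g hg
        rw [Subgroup.mem_centralizer_iff]
        exact fun u hu => (C.cls.cent y hyR (-x) hxr.neg (by rw [form_neg_left, hxy, neg_zero]) g hg u hu).symm
    exact fun g hg u hu => ((Subgroup.mem_centralizer_iff.1 (h1 hg)) u hu).symm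
  have hkey : ∀ v ∈ Z x, ∀ g ∈ Xc x ⊔ Xc (-x), v * g * v⁻¹ * g⁻¹ ∈ Cm M (zc x) := by
    intro v hv g hg
    have hvM : v ∈ M := (le_trans le_sup_left le_sup_left : Xc x ≤ M) (hle x hxR hv)
    have hgM : g ∈ M := (le_sup_left : Xc x ⊔ Xc (-x) ≤ M) hg
    have h1 : n * (v * n⁻¹ * v⁻¹) ∈ Cm M (zc x) := mul_mem hnC (conj_mem_Cm hvM (inv_mem hnC))
    have h2 := conj_mem_Cm hgM h1
    have h3 := mul_mem (inv_mem h1) h2
    have h4 : g * (n * v * n⁻¹) = n * v * n⁻¹ * g := hcomm g hg _ (hnZ v hv)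
    have h5 : (n * (v * n⁻¹ * v⁻¹))⁻¹ * (g * (n * (v * n⁻¹ * v⁻¹)) * g⁻¹) =
        v * (n * v * n⁻¹)⁻¹ * (g * (n * v * n⁻¹)) * v⁻¹ * g⁻¹ := by group
    rw [h5, h4] at h3
    have h6 : v * (n * v * n⁻¹)⁻¹ * (n * v * n⁻¹ * g) * v⁻¹ * g⁻¹ = v * g * v⁻¹ * g⁻¹ := by group
    rwa [h6] at h3
  -- `Z (-x) ≤ Z x [M, z]`
  obtain ⟨b', hb', hb1'⟩ : ∃ b ∈ Xc (-x), b ≠ 1 := by
    by_contra h0
    push Not at h0
    exact X_ne_bot C.cls.rgd hxr.neg ((Subgroup.eq_bot_iff_forall _).2 h0)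
  obtain ⟨a', ha', c', hc', w', hw1, hw1'⟩ := Nodes.Perp.exists_refl_LL C.cls.rgd hxr hb' hb1'
  have hn' : a' * b' * c' ∈ Xc x ⊔ Xc (-x) :=
    mul_mem (mul_mem (le_sup_left (b := Xc (-x)) ha') (le_sup_right (a := Xc x) hb')) (le_sup_left (b := Xc (-x)) hc')
  set n' : G := a' * b' * c' with hnn
  have hwx' : rep cs (isCartan m) w' x = -x := by
    rw [hw1', cpr_self cs (isCartan m) hxr]
    rw [two_smul]; abel
  have hZneg : Z (-x) ≤ Z x ⊔ Cm M (zc x) := by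
    intro u hu
    have h1 : cj n' (Z x) = Z (-x) := by
      rw [← hwx']; exact Nodes.ClsNorm.conj_Z C.cls hw1 hxR
    rw [← h1, mem_cj] at hu
    have h2 := hkey _ hu n' hn'
    have h3 : u = (n'⁻¹ * u * n' * n' * (n'⁻¹ * u * n')⁻¹ * n'⁻¹)⁻¹ * (n'⁻¹ * u * n') := by group
    rw [h3]
    exact mul_mem (le_sup_right (a := Z x) (inv_mem h2)) (le_sup_left (b := Cm M (zc x)) hu)
  have hzC : zc x ∈ Cm M (zc x) := by
    refine mem_of_sup (B := Z x) (Weights.card_odd_of_le (odd_X hp hp2 C.cls.rgd hxr) (hle x hxR)) ?_ hz2 ?_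
    · intro b hb g hg
      exact conj_mem_Cm ((le_trans le_sup_left le_sup_left : Xc x ≤ M) (hle x hxR hb)) hg
    · exact (sup_le le_sup_left hZneg : Z x ⊔ Z (-x) ≤ _) (C.cls.z_mem x hxR)
  rw [hz] at hzC hzM
  refine ⟨M, ?_, ?_, hzM, hzC⟩
  · exact sup_le (sup_le (C.on.X_le _ hxr) (C.on.X_le _ hxr.neg)) (sup_le (C.on.X_le _ hrr) (C.on.X_le _ hrr.neg))
  · intro d hd hdi hdj
    have key : ∀ s, IsRoot cs (isCartan m) s → (∀ l, l ≠ i → l ≠ j → ee s l = 0) →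
        Xc s ≤ Subgroup.centralizer (K d : Set G) := by
      intro s hs h0 g hg
      rw [Subgroup.mem_centralizer_iff]
      intro q hq
      refine (orth_ell hp hp2 C hd hs (fun l hl => ?_) g hg q hq).symm
      refine h0 l ?_ ?_
      · rintro rfl; exact hdi hl
      · rintro rfl; exact hdj hl
    have hx0 : ∀ l, l ≠ i → l ≠ j → ee x l = 0 := fun l h1 _ => by rw [hx, ee_fr_apply, if_neg h1]
    have hr0 : ∀ l, l ≠ i → l ≠ j → ee r l = 0 := fun l h1 h2 => by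
      rw [hr, ee_rt, Pi.add_apply, wt_apply_ne h1, wt_apply_ne h2, add_zero]
    have h1 : M ≤ Subgroup.centralizer (K d : Set G) :=
      sup_le (sup_le (key x hxr hx0) (key _ hxr.neg fun l h1 h2 => by rw [ee_neg, Pi.neg_apply, hx0 l h1 h2, neg_zero]))
        (sup_le (key r hrr hr0) (key _ hrr.neg fun l h1 h2 => by rw [ee_neg, Pi.neg_apply, hr0 l h1 h2, neg_zero]))
    exact fun l hl q hq => ((Subgroup.mem_centralizer_iff.1 (h1 hl)) q hq).symm

/-- `z i ∈ [M, z i]` for the group `M` of the roots `± 2ε_i`, if `Z < X` -/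
theorem swap_bc [Finite G] {i : Fin m} (hlt : ¬ Xc (fr m i) ≤ Z (fr m i)) : ∃ M ≤ L,
    (∀ d, d ≠ k → d ≠ k.succAbove i → ∀ l ∈ M, ∀ y ∈ K d, l * y = y * l) ∧
      z (k.succAbove i) ∈ M ∧ z (k.succAbove i) ∈ Cm M (z (k.succAbove i)) := by
  set x : Fin m → ℤ := fr m i with hx
  have hxr : IsRoot cs (isCartan m) x := isRoot_fr cs i
  have hxR : x ∈ RS m := fr_mem i
  have hxn : -x ∈ RS m := (frameSys cs).neg_mem hxR
  have hz : zc x = z (k.succAbove i) := C.z_eq x (i, true) (ee_fr i)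
  have hz2 : zc x * zc x = 1 := C.cls.z_sq x hxR
  have hzi : (zc x)⁻¹ = zc x := inv_eq_of_mul_eq_one_left hz2
  have hle : ∀ s, s ∈ RS m → Z s ≤ Xc s := fun s hs => C.cls.le s hs
  set M : Subgroup G := Xc x ⊔ Xc (-x) with hM
  have hzM : zc x ∈ M := sup_le_sup (hle x hxR) (hle _ hxn) (C.cls.z_mem x hxR)
  obtain ⟨u, hu, hu1⟩ := Set.not_subset.1 hlt
  have hzu : zc x * u⁻¹ * zc x ∈ Xc x := by
    have h1 : cj (zc x) (Xc x) = Xc x := C.cls.rgd.tor x hxr _ (C.cls.z_torus x hxR)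
    have h2 : zc x * u⁻¹ * (zc x)⁻¹ ∈ cj (zc x) (Xc x) := conj_mem_cj (inv_mem hu)
    rw [h1, hzi] at h2
    exact h2
  have hb : ⁅u, zc x⁆ ∈ Xc (- -x) := by
    rw [neg_neg, commutatorElement_def, hzi]
    have h1 : u * zc x * u⁻¹ * zc x = u * (zc x * u⁻¹ * zc x) := by group
    rw [h1]
    exact mul_mem hu hzu
  have hb1 : ⁅u, zc x⁆ ≠ 1 := by
    intro h
    rw [commutatorElement_eq_one_iff_mul_comm] at h
    refine hu1 (Nodes.Perp.mem_Z_of_comm C.cls hp hp2 hxR hu ?_)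
    rw [← h, mul_assoc, hz2, mul_one]
  obtain ⟨a, ha, c, hc, w, hw, hw'⟩ := Nodes.Perp.exists_refl_LL C.cls.rgd hxr.neg hb hb1
  have hwx : rep cs (isCartan m) w (-x) = x := by
    rw [hw', cpr_self cs (isCartan m) hxr.neg, two_smul]; abel
  have hXle : Xc x ≤ Xc (-x) ⊔ Cm M (zc x) := by
    intro v hv
    have h1 : cj (a * ⁅u, zc x⁆ * c) (Xc (-x)) = Xc x :=
      (C.cls.rgd.conj_rp hw hxr.neg).trans (by rw [hwx])
    rw [← h1, mem_cj] at hv
    have h2 : a * ⁅u, zc x⁆ * c ∈ Xc (-x) ⊔ Cm M (zc x) :=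
      mul_mem (mul_mem (le_sup_left (b := Cm M (zc x)) ha)
        (le_sup_right (a := Xc (-x)) (mem_Cm (le_sup_left (b := Xc (-x)) hu)))) (le_sup_left (b := Cm M (zc x)) hc)
    have h3 : v = (a * ⁅u, zc x⁆ * c) * ((a * ⁅u, zc x⁆ * c)⁻¹ * v * (a * ⁅u, zc x⁆ * c)) *
        (a * ⁅u, zc x⁆ * c)⁻¹ := by group
    rw [h3]
    exact mul_mem (mul_mem h2 (le_sup_left (b := Cm M (zc x)) hv)) (inv_mem h2)
  have hzC : zc x ∈ Cm M (zc x) := by
    refine mem_of_sup (B := Xc (-x)) (odd_X hp hp2 C.cls.rgd hxr.neg) ?_ hz2 ?_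
    · intro b hb g hg
      exact conj_mem_Cm (le_sup_right (a := Xc x) hb) hg
    · exact (sup_le hXle le_sup_left : Xc x ⊔ Xc (-x) ≤ _) hzM
  rw [hz] at hzC hzM
  refine ⟨M, sup_le (C.on.X_le _ hxr) (C.on.X_le _ hxr.neg), ?_, hzM, hzC⟩
  intro d hd hdi
  have key : ∀ s, IsRoot cs (isCartan m) s → (∀ l, l ≠ i → ee s l = 0) →
      Xc s ≤ Subgroup.centralizer (K d : Set G) := by
    intro s hs h0 g hg
    rw [Subgroup.mem_centralizer_iff]
    intro q hq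
    refine (orth_ell hp hp2 C hd hs (fun l hl => ?_) g hg q hq).symm
    refine h0 l ?_
    rintro rfl; exact hdi hl
  have hx0 : ∀ l, l ≠ i → ee x l = 0 := fun l h1 => by rw [hx, ee_fr_apply, if_neg h1]
  have h1 : M ≤ Subgroup.centralizer (K d : Set G) :=
    sup_le (key x hxr hx0) (key _ hxr.neg fun l h1 => by rw [ee_neg, Pi.neg_apply, hx0 l h1, neg_zero])
  exact fun l hl q hq => ((Subgroup.mem_centralizer_iff.1 (h1 hl)) q hq).symm

end Roots

/-! ### The condition `Par` -/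

section Charts

variable {m : ℕ} {K : Fin (m + 1) → Subgroup G} {z : Fin (m + 1) → G}
  {X Q : Fin (m + 1) → SignType → Subgroup G} {p : ℕ} {L : Fin (m + 1) → Subgroup G} (hp : p.Prime) (hp2 : p ≠ 2)
  (F : Frame K z X Q) (C : Charts K z X Q p L)

include hp hp2 F C

theorem exists_swap [Finite G] {k a e : Fin (m + 1)} (hak : a ≠ k) (hek : e ≠ k) (hae : a ≠ e) : ∃ M ≤ L k,
    (∀ d, d ≠ a → d ≠ e → ∀ l ∈ M, ∀ y ∈ K d, l * y = y * l) ∧ z a ∈ M ∧ z a ∈ Cm M (z a) := by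
  obtain ⟨hΔ, W, _, _, cs, T, nn, Xc, Z, zc, ell, D, -⟩ := C k
  obtain ⟨i, rfl⟩ := Fin.exists_succAbove_eq hak
  obtain ⟨j, rfl⟩ := Fin.exists_succAbove_eq hek
  obtain ⟨M, h1, h2, h3, h4⟩ := swap hp hp2 D (i := i) (j := j) (fun h => hae (by rw [h]))
  refine ⟨M, h1, fun d hd1 hd2 => ?_, h3, h4⟩
  by_cases hd : d = k
  · subst hd
    exact fun l hl y hy => ((Subgroup.mem_centralizer_iff.1 (hΔ.cent (h1 hl))) y hy).symm
  · exact h2 d hd hd1 hd2

omit hp hp2 F C in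
/-- a fourth (and fifth) index -/
theorem exists_index {n c : ℕ} {S : Finset (Fin n)} (hS : S.card ≤ c) (hn : c < n) : ∃ d, d ∉ S := by
  by_contra h
  push Not at h
  have h1 : (Finset.univ : Finset (Fin n)) ⊆ S := fun d _ => h d
  have h2 := Finset.card_le_card h1
  rw [Finset.card_univ, Fintype.card_fin] at h2
  omega

/-- **`Par` for `n ≥ 5`.** -/
theorem par_of_five [Finite G] (hm : 4 ≤ m) : Par X Q := by
  classical
  refine par_four F C fun i j a hij hia hja => ?_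
  obtain ⟨d, hd⟩ := exists_index (S := {i, j, a}) (c := 3) Finset.card_le_three (show 3 < m + 1 by omega)
  obtain ⟨e, he⟩ := exists_index (S := {i, j, a, d}) (c := 4) Finset.card_le_four (show 4 < m + 1 by omega)
  simp only [Finset.mem_insert, Finset.mem_singleton, not_or] at hd he
  obtain ⟨hdi, hdj, hda⟩ := hd
  obtain ⟨hei, hej, hea, hed⟩ := he
  obtain ⟨M, -, h2, h3, h4⟩ := exists_swap hp hp2 F C (k := i) (a := a) (e := e) (Ne.symm hia) hei (Ne.symm hea)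
  exact ⟨d, Ne.symm hdi, Ne.symm hdj, Ne.symm hda, M, h2 i hia (Ne.symm hei), h2 j hja (Ne.symm hej),
    Or.inl ⟨h2 d hda (Ne.symm hed), h3, h4⟩⟩

/-- type `C`: `X = Z` for the long roots -/
def IsC {n : ℕ} (X Q : Fin n → SignType → Subgroup G) : Prop :=
  ∀ i s, s ≠ 0 → ∀ u ∈ Q i s, (∀ j, j ≠ i → u ∈ Q j 0) → u ∈ X i s

theorem Xc_fr [Finite G] {k : Fin (m + 1)} {W : Type} [Group W] [Fintype W]
    {cs : CoxeterSystem (CoxeterMatrix.B m) W} {T : Subgroup G} {nn : Fin m → G} {Xc Z : (Fin m → ℤ) → Subgroup G}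
    {zc : (Fin m → ℤ) → G} {ell : Fin (m + 1) → (Fin m → ℤ) →+ ℤ}
    (D : DC K z X Q p k cs T nn Xc Z zc (L k) ell) {x : Fin m → ℤ} {a : Fin m × Bool} (e : ee x = wt a + wt a)
    {u : G} : u ∈ Xc x ↔ u ∈ Q (k.succAbove a.1) (sgn a.2) ∧ ∀ j, j ≠ k.succAbove a.1 → u ∈ Q j 0 := by
  rw [D.X_eq_XX F (Or.inr rfl) e, mem_XX]
  constructor
  · intro h
    refine ⟨?_, fun j hj => ?_⟩
    · have h1 := h (k.succAbove a.1)
      have h2 : sv (sg' k.succAbove a) (sg' k.succAbove a) (k.succAbove a.1) = sgn a.2 := sv_left _ _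
      rwa [h2] at h1
    · have h1 := h j
      rwa [sv_of_ne hj hj] at h1
  · rintro ⟨h1, h2⟩ j
    by_cases hj : j = k.succAbove a.1
    · subst hj
      have h3 : sv (sg' k.succAbove a) (sg' k.succAbove a) (k.succAbove a.1) = sgn a.2 := sv_left _ _
      rw [h3]; exact h1
    · rw [sv_of_ne hj hj]; exact h2 j hj

/-- If type `C` fails then `Z < X` for all long roots. -/
theorem not_isC [Finite G] (hm : 2 ≤ m) (hn : ¬ IsC X Q) (i : Fin (m + 1)) :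
    ∃ u ∈ Q i 1, (∀ j, j ≠ i → u ∈ Q j 0) ∧ u ∉ X i 1 := by
  classical
  unfold IsC at hn
  push Not at hn
  obtain ⟨i₀, s₀, hs₀, u₀, hu₀, hu₁, hu₂⟩ := hn
  obtain ⟨k, hk⟩ := exists_index (S := {i, i₀}) (c := 2) Finset.card_le_two (show 2 < m + 1 by omega)
  simp only [Finset.mem_insert, Finset.mem_singleton, not_or] at hk
  obtain ⟨hΔ, W, _, _, cs, T, nn, Xc, Z, zc, ell, D, -⟩ := C k
  obtain ⟨a, rfl⟩ := Fin.exists_succAbove_eq (Ne.symm hk.1)
  obtain ⟨b, rfl⟩ := Fin.exists_succAbove_eq (Ne.symm hk.2)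
  obtain ⟨t₀, rfl⟩ := exists_sgn hs₀
  have h1 : u₀ ∈ Xc (rt (b, t₀) (b, t₀)) := (Xc_fr hp hp2 F C D (a := (b, t₀)) (ee_rt _ _)).2 ⟨hu₀, hu₁⟩
  have h2 : u₀ ∉ Z (rt (b, t₀) (b, t₀)) := by
    rw [D.Z_eq _ (b, t₀) (ee_rt _ _)]
    exact hu₂
  obtain ⟨w, hw⟩ := trans_RC cs _ (rt_mem_RC (b, t₀)) _ (fr_mem a)
  obtain ⟨n, hn⟩ := exists_rp cs D.cls.rgd.nsys w
  refine ⟨n * u₀ * n⁻¹, ?_⟩
  have h3 : n * u₀ * n⁻¹ ∈ Xc (fr m a) := by
    rw [hw]
    exact D.cls.rgd.conj_mem hn (root_RC cs (rt_mem_RC _)) h1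
  have h4 : n * u₀ * n⁻¹ ∉ Z (fr m a) := by
    have h5 : cj n (Z (rt (b, t₀) (b, t₀))) = Z (fr m a) := by
      rw [hw]
      exact Nodes.ClsNorm.conj_Z D.cls hn (rt_mem_RC _)
    rw [← h5, mem_cj]
    have h6 : n⁻¹ * (n * u₀ * n⁻¹) * n = u₀ := by group
    rwa [h6]
  have h5 := (Xc_fr hp hp2 F C D (a := (a, true)) (ee_fr a)).1 h3
  refine ⟨h5.1, h5.2, ?_⟩
  rw [D.Z_eq _ (a, true) (ee_fr a)] at h4
  exact h4

/-- **`Par` for `n = 4`** (in fact `n ≥ 4`), not type `C`. -/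
theorem par_of_four_bc [Finite G] (hm : 3 ≤ m) (hn : ¬ IsC X Q) : Par X Q := by
  classical
  refine par_four F C fun i j a hij hia hja => ?_
  obtain ⟨d, hd⟩ := exists_index (S := {i, j, a}) (c := 3) Finset.card_le_three (show 3 < m + 1 by omega)
  simp only [Finset.mem_insert, Finset.mem_singleton, not_or] at hd
  obtain ⟨hdi, hdj, hda⟩ := hd
  obtain ⟨u, hu1, hu2, hu3⟩ := not_isC hp hp2 F C (by omega) hn a
  obtain ⟨hΔ, W, _, _, cs, T, nn, Xc, Z, zc, ell, D, -⟩ := C i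
  obtain ⟨b, rfl⟩ := Fin.exists_succAbove_eq (Ne.symm hia)
  obtain ⟨M, h1, h2, h3, h4⟩ := swap_bc hp hp2 D (i := b) (fun h => hu3 (by
    have h5 := h ((Xc_fr hp hp2 F C D (a := (b, true)) (ee_fr b)).2 ⟨hu1, hu2⟩)
    rw [D.Z_eq _ (b, true) (ee_fr b)] at h5
    exact h5))
  have h5 : ∀ l ∈ M, ∀ y ∈ K i, l * y = y * l := fun l hl y hy =>
    ((Subgroup.mem_centralizer_iff.1 (hΔ.cent (h1 hl))) y hy).symm
  exact ⟨d, Ne.symm hdi, Ne.symm hdj, Ne.symm hda, M, h5, h2 j (Ne.symm hij) hja,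
    Or.inl ⟨h2 d hdi hda, h3, h4⟩⟩

end Charts

/-- **`Par` for `n = 3`**, type `C`. -/
theorem par_of_three_c [Finite G] {K : Fin (2 + 1) → Subgroup G} {z : Fin (2 + 1) → G}
    {X Q : Fin (2 + 1) → SignType → Subgroup G} {p : ℕ} {L : Fin (2 + 1) → Subgroup G} (hp : p.Prime) (hp2 : p ≠ 2)
    (F : Frame K z X Q) (C : Charts K z X Q p L) (hX : IsC X Q) : Par X Q := by
  classical
  refine par_three F C (fun i _ s _ hs u hu h => hX i s hs u hu h) fun i j hij => ?_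
  obtain ⟨e, he⟩ := exists_index (S := {i, j}) (c := 2) Finset.card_le_two (show 2 < 2 + 1 by omega)
  simp only [Finset.mem_insert, Finset.mem_singleton, not_or] at he
  obtain ⟨M, h1, -, -, h4⟩ := exists_swap hp hp2 F C (k := i) (a := j) (e := e) (Ne.symm hij) he.1 (Ne.symm he.2)
  exact Cm_mono h1 _ h4

/-- **`Par` from pieces**: `K i`, `K a` lie in different pieces of `C(z i z j)`. -/
theorem par_of_pieces [Finite G] {n : ℕ} {Om : Set (Subgroup G)} {F : Type*} [Field F] [Fintype F]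
    {K : Fin n → Subgroup G} {X : Fin n → SignType → Subgroup G} (D : FrameOf.Dat Om F K X)
    (Fr : Frame K (fun i => zz (K i)) X (FrameOf.QF K X))
    (hP : ∀ i j a, i ≠ j → i ≠ a → j ≠ a → ∃ A B, FrameOf.Piece Om (zz (K i) * zz (K j)) A ∧ K i ≤ A ∧ K a ≤ B ∧
      ∀ x ∈ A, ∀ y ∈ B, x * y = y * x) : Par X (FrameOf.QF K X) := by
  intro a b c hab hac hbc u hu
  obtain ⟨A, B, h1, h2, h3, h4⟩ := hP b.1 c.1 a.1 hbc (Ne.symm hab) (Ne.symm hac)
  have hinv1 := inv_pair Fr hbc (sgn_ne b.2) (sgn_ne c.2) hu.1 hu.2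
  have hinv2 := inv_pair Fr (Ne.symm hbc) (sgn_ne c.2) (sgn_ne b.2) hu.2 hu.1
  have hz1 : zz (K b.1) * zz (K b.1) = 1 := Fr.z_sq b.1
  have hz2 : zz (K c.1) * zz (K c.1) = 1 := Fr.z_sq c.1
  have hcomm : u * (zz (K b.1) * zz (K c.1)) = zz (K b.1) * zz (K c.1) * u := by
    have h5 : u * zz (K b.1) = zz (K b.1) * u⁻¹ := by
      rw [← hinv1]
      calc u * zz (K b.1) = (zz (K b.1) * zz (K b.1)) * u * zz (K b.1) := by rw [hz1, one_mul]
        _ = zz (K b.1) * (zz (K b.1) * u * zz (K b.1)) := by group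
    have h6 : u⁻¹ * zz (K c.1) = zz (K c.1) * u := by
      rw [← hinv2]
      calc zz (K c.1) * u * zz (K c.1) * zz (K c.1) = zz (K c.1) * u * (zz (K c.1) * zz (K c.1)) := by group
        _ = zz (K c.1) * u := by rw [hz2, mul_one]
    rw [← mul_assoc, h5, mul_assoc, h6, mul_assoc]
  have hnorm := FrameOf.mem_normalizer_piece D Fr h1 h2 (sgn_ne b.2) hcomm
    (fun x hx => Fr.Q_cent b.1 _ (sgn_ne b.2) u hu.1 x hx)
  have huA : u ∈ A := by
    refine Weights.mem_of_sq_mem (Fr.Q_odd b.1 _ (sgn_ne b.2)) hu.1 ?_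
    have h5 : u * zz (K b.1) * u⁻¹ ∈ A := by
      have h6 := conj_mem_cj (g := u) (h2 (Fr.z_mem b.1))
      rwa [hnorm] at h6
    have h6 : u * zz (K b.1) * u⁻¹ * zz (K b.1) = u * u := by
      have h7 : zz (K b.1) * u⁻¹ * zz (K b.1) = u := by
        have h8 := congrArg (fun x => x⁻¹) hinv1
        simp only [mul_inv_rev, inv_inv] at h8
        have h9 : (zz (K b.1))⁻¹ = zz (K b.1) := inv_eq_of_mul_eq_one_left hz1
        rw [h9, ← mul_assoc] at h8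
        exact h8
      calc u * zz (K b.1) * u⁻¹ * zz (K b.1) = u * (zz (K b.1) * u⁻¹ * zz (K b.1)) := by group
        _ = u * u := by rw [h7]
    rw [← h6]
    exact mul_mem h5 (h2 (Fr.z_mem b.1))
  rw [Subgroup.mem_centralizer_iff]
  exact fun y hy => (h4 u huA y (h3 (Fr.X_le_K a.1 (sgn_ne a.2) hy))).symm

end Cfsg.Agent.Cit.TypeCSwap
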