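import Mathlib
import Cfsg.Agent.Cit.TypeCSwap
import Cfsg.Agent.Cit.TypeCProv
import Cfsg.Agent.Cit.TypeCOut
import Cfsg.Agent.Cit.CorTwo

/-!
# Type `C_n`, `BC_n`, `n ≥ 3`: the output sentence (project CIT)

`K : Fin (m + 1) → Subgroup G`, `m ≥ 2`, the members of `Om(S)`, with different involutions, `Δ_k = delta Om (K k)` with
charts of type `C m`; then the group `SG (QF K X)` has a chart of type `C (m + 1)`, contains the `Δ_k`, and
`N_G(L) ≤ N_G(SG)` for all `L ∈ Om` in it.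

* `par_of` : the condition `Par` (`m ≥ 4`; `m = 3`, type `BC`; `m = 2`, type `C`; or pieces of the `C(z i z j)`);
* `output` : the output sentence.
-/

set_option autoImplicit false
set_option linter.unusedSectionVars false
set_option linter.dupNamespace false

namespace Cfsg.Agent.Cit.TypeCFin

open CoxeterSystem Cfsg.Agent.ChevalleyStructure.CoxeterGeom Cfsg.Agent.Tits.Roots Cfsg.Agent.Nodes.TypeC
  Cfsg.Agent.Nodes.Comb Cfsg.Agent.Nodes.Chart Cfsg.Agent.Nodes.KindBC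
  Cfsg.Agent.Cit.TypeC Cfsg.Agent.Cit.FrameSign Cfsg.Agent.Cit.TypeCFrm Cfsg.Agent.Cit.TypeCPar
  Cfsg.Agent.Cit.TypeCSwap Cfsg.Agent.Cit.TypeCProv Cfsg.Agent.Cit.TypeCOut Cfsg.Agent.Cit.FrameOf
  Cfsg.Agent.Cit.FrameClose

variable {G : Type*} [Group G] {m : ℕ}

/-! ### The type of the chart -/

theorem sr_mem_RS {n : ℕ} {i : Fin n} : sr i ∈ RS n ↔ (i : ℕ) + 1 = n := by
  have hi := i.2
  constructor
  · intro h
    have h1 := not_lt_of_sr_mem h
    omega
  · intro h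
    refine ⟨(i, true), ?_⟩
    rw [ee_sr, bt]
    unfold nx
    rw [dif_neg (by omega)]

theorem chart_isTy [Finite G] {K : Fin (m + 1) → Subgroup G} {z : Fin (m + 1) → G}
    {X Q : Fin (m + 1) → SignType → Subgroup G} {p : ℕ} (hm : 2 ≤ m) (hp : p.Prime) (hp2 : p ≠ 2)
    (F : Frame K z X Q) (Fr : Frm p (SB X) (SB Q) z) (P : Par X Q) {Om : Set (Subgroup G)} (hOm : ∀ i, K i ∈ Om)
    (homc : ∀ L ∈ Om, L ≤ SG Q → ∃ i, ∃ g ∈ SG Q, L = cj g (K i)) :
    (chart hm hp hp2 F Fr P hOm homc).IsTy (Ty.C (m + 1)) :=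
  ⟨Equiv.refl _, fun _ _ => rfl, fun _ => sr_mem_RS⟩

/-! ### The groups `Δ_k` -/

section Delta

variable [Finite G] {Om : Set (Subgroup G)} (hyp : Hyp Om) (S : Sylow 2 G) {K : Fin (m + 1) → Subgroup G}
  (hS : Set.range K = OmS Om (S : Subgroup G)) (hz : Function.Injective fun i => zz (K i))

include hyp hS hz

/-- members with the same involution as a member of the frame -/
theorem eq_of_zz {k : Fin (m + 1)} {J : Subgroup G} (hJ : J ∈ Om) (h : zz J = zz (K k)) : J = K k := by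
  have h1 : K k ∈ OmS Om (S : Subgroup G) := by rw [← hS]; exact ⟨k, rfl⟩
  have h2 := hyp.mem_OmS_of_zz_eq S h1 hJ h
  rw [← hS] at h2
  obtain ⟨j, rfl⟩ := h2
  rw [hz h]

theorem cj_K {k : Fin (m + 1)} {g : G} (hg : g * zz (K k) = zz (K k) * g) : cj g (K k) = K k := by
  have h1 : K k ∈ Om := by
    have h0 : K k ∈ OmS Om (S : Subgroup G) := by rw [← hS]; exact ⟨k, rfl⟩
    exact h0.1
  refine eq_of_zz hyp S hS hz (hyp.conj _ h1 g) ?_
  rw [hyp.zz_cj h1, hg, mul_assoc, mul_inv_cancel, mul_one]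

theorem mem_normalizer_delta {k : Fin (m + 1)} {g : G} (hg : g * zz (K k) = zz (K k) * g) :
    g ∈ Subgroup.normalizer (delta Om (K k) : Set G) := by
  rw [mem_normalizer_iff_cj, cj_delta hyp.conj, cj_K hyp S hS hz hg]

end Delta

/-! ### The output -/

section Output

variable [Finite G] {Om : Set (Subgroup G)} {F : Type} [Field F] [Fintype F] {p : ℕ} [CharP F p]
  (S : Sylow 2 G) {K : Fin (m + 1) → Subgroup G} {X : Fin (m + 1) → SignType → Subgroup G}
  (D : Dat Om F K X) (hF : Odd (Fintype.card F)) (hg : ∀ i, Good p (X i 1) (zz (K i)))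
  (hS : Set.range K = OmS Om (S : Subgroup G)) (hz : Function.Injective fun i => zz (K i))

include hz in
theorem K_injective : Function.Injective K := fun _ _ h => hz (by simp only [h])

include D hF hg hS hz

/-- the condition `Charts` -/
theorem charts (hm : 2 ≤ m) (hc : ∀ k, ∃ c : Chart Om p (delta Om (K k)), c.IsTy (Ty.C m)) :
    Charts K (fun i => zz (K i)) X (QF K X) p fun k => delta Om (K k) := by
  have hle : ∀ k j, j ≠ k → K j ≤ delta Om (K k) := fun k j hjk =>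
    le_delta (D.mem j) (fun h => hjk (K_injective hz h)) (fun a ha b hb => D.comm j k hjk a ha b hb)
  refine charts_of D hF hg hc (fun k hk => ?_) hle (fun k => ?_) fun k g hgk =>
    mem_normalizer_delta D.hyp S hS hz hgk
  · -- `Δ_k` contains two different members
    obtain ⟨a, ha⟩ : ∃ a, a ≠ k := by
      by_contra h0
      push Not at h0
      have h1 := h0 0
      have h2 := h0 ⟨1, by omega⟩
      rw [← h1] at h2
      exact absurd (congrArg Fin.val h2) (by simp)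
    obtain ⟨b, hb, hba⟩ : ∃ b, b ≠ k ∧ b ≠ a := by
      classical
      obtain ⟨b, hb⟩ := exists_index (S := {k, a}) (c := 2) Finset.card_le_two (show 2 < m + 1 by omega)
      simp only [Finset.mem_insert, Finset.mem_singleton, not_or] at hb
      exact ⟨b, hb⟩
    have h1 := D.hyp.uniq _ hk _ (hle k a ha (D.hyp.zz_mem (D.mem a))) (D.hyp.orderOf_zz (D.mem a))
    have h2 := D.hyp.uniq _ hk _ (hle k b hb (D.hyp.zz_mem (D.mem b))) (D.hyp.orderOf_zz (D.mem b))
    exact hba (hz (h2.trans h1.symm))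
  · intro x hx
    rw [Subgroup.mem_centralizer_iff]
    exact fun b hb => (delta_comm x hx b hb).symm

/-- **The condition `Par`.** -/
theorem par_of (hp : p.Prime) (hp2 : p ≠ 2) (hm : 2 ≤ m)
    (hc : ∀ k, ∃ c : Chart Om p (delta Om (K k)), c.IsTy (Ty.C m))
    (h : 4 ≤ m ∨ (m = 3 ∧ ¬ IsC X (QF K X)) ∨ (m = 2 ∧ IsC X (QF K X)) ∨
      ∀ i j a, i ≠ j → i ≠ a → j ≠ a → ∃ A B, FrameOf.Piece Om (zz (K i) * zz (K j)) A ∧ K i ≤ A ∧ K a ≤ B ∧
        ∀ x ∈ A, ∀ y ∈ B, x * y = y * x) : Par X (QF K X) := by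
  have Fr := frame_of D hF hg
  have C := charts S D hF hg hS hz hm hc
  rcases h with h | ⟨rfl, h⟩ | ⟨rfl, h⟩ | h
  · exact par_of_five hp hp2 Fr C h
  · exact par_of_four_bc hp hp2 Fr C le_rfl h
  · exact par_of_three_c hp hp2 Fr C h
  · exact par_of_pieces D Fr h

/-- **The output sentence** for type `C_n`, `n = m + 1 ≥ 3`. -/
theorem output (hp : p.Prime) (hp2 : p ≠ 2) (hm : 2 ≤ m) (hconj : ∀ i j, ∃ g, cj g (K i) = K j)
    (hc : ∀ k, ∃ c : Chart Om p (delta Om (K k)), c.IsTy (Ty.C m)) (P : Par X (QF K X)) :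
    ∃ c : Chart Om p (SG (QF K X)), c.IsTy (Ty.C (m + 1)) ∧ (∀ i, K i ≤ SG (QF K X)) ∧
      (∀ i, delta Om (K i) ≤ SG (QF K X)) ∧
      ∀ L ∈ Om, L ≤ SG (QF K X) →
        Subgroup.normalizer (L : Set G) ≤ Subgroup.normalizer (SG (QF K X) : Set G) := by
  have Fr := frame_of D hF hg
  have C := charts S D hF hg hS hz hm hc
  have hinj := K_injective hz
  have hsl' : ∀ i, ∃ (F₀ : Type) (_ : Field F₀) (_ : Fintype F₀), Fintype.card F₀ = Fintype.card F ∧
      Nonempty (Matrix.SpecialLinearGroup (Fin 2) F₀ ≃* K i) := fun i => by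
    obtain ⟨e, -, -⟩ := D.sl i
    exact ⟨F, inferInstance, inferInstance, rfl, ⟨e⟩⟩
  have hcard : ∀ i s, s ≠ 0 → Nat.card (X i s) = Fintype.card F := fun i s hs => D.card_X i hs
  have hQ : ∀ i s, s ≠ 0 → QF K X i s = X i s ⊔ Parab.QX (X i s) (zz (K i)) := fun i s hs => QF_of_ne K X i hs
  have hD : ∀ k : Fin (m + 1), ∃ (W : Type) (_ : Group W) (_ : Fintype W)
      (cs : CoxeterSystem (CoxeterMatrix.B m) W) (T : Subgroup G) (nn : Fin m → G)
      (Xc Z : (Fin m → ℤ) → Subgroup G) (zc : (Fin m → ℤ) → G) (L : Subgroup G)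
      (ell : Fin (m + 1) → (Fin m → ℤ) →+ ℤ), DC K (fun i => zz (K i)) X (QF K X) p k cs T nn Xc Z zc L ell := by
    intro k
    obtain ⟨-, W, i1, i2, cs, T, nn, Xc, Z, zc, ell, h1, -⟩ := C k
    exact ⟨W, i1, i2, cs, T, nn, Xc, Z, zc, _, ell, h1⟩
  have hfrm := frm_of_hyp D.hyp S Fr hS (fun _ => rfl) hF hsl' hcard hQ hm P hconj hD
  have hΔ : ∀ i, delta Om (K i) ≤ SG (QF K X) := by
    intro k
    obtain ⟨-, W, i1, i2, cs, T, nn, Xc, Z, zc, ell, h1, h2⟩ := C k
    exact L_le Fr h1 h2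
  have homc := homc_of_hyp D.hyp S Fr hS
  exact ⟨chart hm hp hp2 Fr hfrm P D.mem homc, chart_isTy hm hp hp2 Fr hfrm P D.mem homc, K_le Fr, hΔ,
    close_of_hyp D.hyp S Fr hS (fun _ => rfl) hsl' hcard hQ hinj hΔ⟩

end Output

end Cfsg.Agent.Cit.TypeCFin
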