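import Mathlib
import Cfsg.Agent.Cit.TypeESix
import Cfsg.Agent.Nodes.KindA

/-!
Type `E₆` (project CIT, (3b)), generation: `K 0 ≤ G₀`, `L₁ ≤ G₀`, the frame members are conjugate in `G₀`.

* `refl_le`, `exists_refl_conj`, `exists_adj_conj` : reflections inside a subgroup containing `X (± u)`;
* `gen_of_base` : all root groups from the root groups of a base.
-/

set_option autoImplicit false
set_option linter.unusedSectionVars false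

namespace Cfsg.Agent.Cit.TypeESixGen

open CoxeterSystem Cfsg.Agent.ChevalleyStructure.CoxeterGeom Cfsg.Agent.Tits.Roots Cfsg.Agent.Tits.Core
  Cfsg.Agent.Nodes.Reps Cfsg.Agent.Nodes.BNOf Cfsg.Agent.Nodes.Coroot Cfsg.Agent.Nodes.PairOf
  Cfsg.Agent.Nodes.Bruhat Cfsg.Agent.Nodes.RGDLib
  Cfsg.Agent.Nodes.SimplyLaced Cfsg.Agent.Cit.FrameSign Cfsg.Agent.Cit.NodeGlue Cfsg.Agent.RootAmalgam
  Cfsg.Agent.Cit.TypeESix

universe u

variable {G : Type u} [Group G]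

section General

variable {I W : Type*} [Fintype I] [DecidableEq I] [Group W] {M : CoxeterMatrix I}
  {cs : CoxeterSystem M W} {A : I → I → ℤ} {h : IsCartan M A} {p : ℕ} {T : Subgroup G} {n : I → G}
  {X : (I → ℤ) → Subgroup G}

/-- a subgroup containing `X u`, `X (-u)` realises the reflection of `u` -/
theorem exists_refl_conj [Finite W] (R : RGD cs h p T n X) {u : I → ℤ} (hu : IsRoot cs h u) {P : Subgroup G}
    (h1 : X u ≤ P) (h2 : X (-u) ≤ P) :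
    ∃ k ∈ P, ∀ v, IsRoot cs h v → cj k (X v) = X (v - cpr cs h v u • u) := by
  obtain ⟨a, ha1⟩ := Subgroup.ne_bot_iff_exists_ne_one.1 (X_ne_bot R hu.neg)
  have ha2 : (a : G) ≠ 1 := fun e => ha1 (Subtype.ext e)
  obtain ⟨b, hb, c, hc, hmap⟩ := exists_mu R hu a.2 ha2
  exact ⟨b * a * c, mul_mem (mul_mem (h1 hb) (h2 a.2)) (h1 hc), hmap⟩

theorem cj_le_of_mem {P Q : Subgroup G} {k : G} (hk : k ∈ P) (hQ : Q ≤ P) : cj k Q ≤ P := by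
  rintro _ ⟨x, hx, rfl⟩
  exact mul_mem (mul_mem hk (hQ hx)) (inv_mem hk)

theorem refl_le [Finite W] (R : RGD cs h p T n X) {u v : I → ℤ} (hu : IsRoot cs h u) (hv : IsRoot cs h v)
    {P : Subgroup G} (h1 : X u ≤ P) (h2 : X (-u) ≤ P) (h3 : X v ≤ P) : X (v - cpr cs h v u • u) ≤ P := by
  obtain ⟨k, hk, hmap⟩ := exists_refl_conj R hu h1 h2
  rw [← hmap v hv]
  exact cj_le_of_mem hk h3

/-- adding an adjacent root: `⟨v, u^∨⟩ = -1` -/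
theorem exists_add_conj [Finite W] (R : RGD cs h p T n X) {u v : I → ℤ} (hu : IsRoot cs h u) (hv : IsRoot cs h v)
    (hc : cpr cs h v u = -1) {P : Subgroup G} (h1 : X u ≤ P) (h2 : X (-u) ≤ P) :
    ∃ k ∈ P, cj k (X v) = X (v + u) ∧ cj k (X (-v)) = X (-(v + u)) := by
  obtain ⟨k, hk, hmap⟩ := exists_refl_conj R hu h1 h2
  refine ⟨k, hk, ?_, ?_⟩
  · rw [hmap v hv, hc]; congr 1; module
  · rw [hmap _ hv.neg, cpr_neg cs h v hu, hc]; congr 1; module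

/-- adjacent roots are conjugate -/
theorem exists_adj_conj [Finite W] (R : RGD cs h p T n X) {u v : I → ℤ} (hu : IsRoot cs h u) (hv : IsRoot cs h v)
    (hc : cpr cs h v u = -1) (hc' : cpr cs h u v = -1) {P : Subgroup G} (h1 : X u ≤ P) (h2 : X (-u) ≤ P)
    (h3 : X v ≤ P) (h4 : X (-v) ≤ P) : ∃ k ∈ P, cj k (X v) = X u ∧ cj k (X (-v)) = X (-u) := by
  obtain ⟨k, hk, e1, e2⟩ := exists_add_conj R hu hv hc h1 h2
  obtain ⟨l, hl, hmap⟩ := exists_refl_conj R hv h3 h4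
  have hr : IsRoot cs h (v + u) := by
    have := isRoot_refl cs h hv hu
    rw [hc] at this
    convert this using 1
    module
  have e : cpr cs h (v + u) v = 1 := by
    rw [cpr_add cs h _ _ hv, cpr_self cs h hv, hc']; norm_num
  refine ⟨l * k, mul_mem hl hk, ?_, ?_⟩
  · rw [cj_mul, e1, hmap _ hr, e]; congr 1; module
  · rw [cj_mul, e2, hmap _ hr.neg, cpr_neg cs h _ hv, e]; congr 1; module

/-- all root groups from those of a base -/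
theorem gen_of_base [Finite W] (R : RGD cs h p T n X) (w : W) {P : Subgroup G}
    (hP : ∀ j, X (rep cs h w (sr j)) ≤ P ∧ X (-rep cs h w (sr j)) ≤ P) : ∀ x, IsRoot cs h x → X x ≤ P := by
  have key : ∀ (ω : List I) (i : I), X (rep cs h w (rep cs h (cs.wordProd ω) (sr i))) ≤ P := by
    intro ω
    induction ω with
    | nil =>
      intro i
      rw [wordProd_nil, map_one, Module.End.one_apply]
      exact (hP i).1
    | cons j ω ih =>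
      intro i
      have hj : IsRoot cs h (rep cs h w (sr j)) := ⟨w, j, rfl⟩
      have hv : IsRoot cs h (rep cs h w (rep cs h (cs.wordProd ω) (sr i))) :=
        ⟨w * cs.wordProd ω, i, by rw [rep_mul_apply]⟩
      have h1 := refl_le R hj hv (hP j).1 (hP j).2 (ih i)
      have e : rep cs h w (rep cs h (cs.wordProd (j :: ω)) (sr i)) =
          rep cs h w (rep cs h (cs.wordProd ω) (sr i)) -
            cpr cs h (rep cs h w (rep cs h (cs.wordProd ω) (sr i))) (rep cs h w (sr j)) • rep cs h w (sr j) := by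
        rw [wordProd_cons, rep_mul_apply, cpr_rep cs h w _ (isRoot_sr cs h j), cpr_sr, rep_simple_eq, map_sub, map_smul]
      rw [e]
      exact h1
  rintro x ⟨v, i, rfl⟩
  obtain ⟨ω, hω⟩ := cs.wordProd_surjective (w⁻¹ * v)
  have h1 := key ω i
  rw [hω, rep_mul_apply, rep_apply_inv] at h1
  exact h1

end General

section Main

variable {K : Fin 4 → Subgroup G} {z : Fin 4 → G} {X Q : Fin 4 → SignType → Subgroup G} {p : ℕ}
  {I₁ W₁ : Type*} [Fintype I₁] [DecidableEq I₁] [Group W₁] {M₁ : CoxeterMatrix I₁} {cs₁ : CoxeterSystem M₁ W₁}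
  {A₁ : I₁ → I₁ → ℤ} {h₁ : IsCartan M₁ A₁} {L₁ T₁ : Subgroup G} {n₁ : I₁ → G} {X₁ : (I₁ → ℤ) → Subgroup G}
  {ell₁ : Fin 4 → (I₁ → ℤ) →+ ℤ} {g₁ : Fin 4 → I₁ → ℤ}
  {I₂ W₂ : Type*} [Fintype I₂] [DecidableEq I₂] [Group W₂] {M₂ : CoxeterMatrix I₂} {cs₂ : CoxeterSystem M₂ W₂}
  {A₂ : I₂ → I₂ → ℤ} {h₂ : IsCartan M₂ A₂} {L₂ T₂ : Subgroup G} {n₂ : I₂ → G} {X₂ : (I₂ → ℤ) → Subgroup G}
  {ell₂ : Fin 4 → (I₂ → ℤ) →+ ℤ} {g₂ : Fin 4 → I₂ → ℤ} {x₁ x₆ : I₁ → ℤ} {y : I₂ → ℤ}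

/-- the group generated by the nodes -/
def G0 (X : Fin 4 → SignType → Subgroup G) (X₁ : (I₁ → ℤ) → Subgroup G) (X₂ : (I₂ → ℤ) → Subgroup G)
    (x₁ x₆ : I₁ → ℤ) (y : I₂ → ℤ) : Subgroup G :=
  ⨆ i, (Xs X X₁ X₂ x₁ x₆ y i ⊔ Xn X X₁ X₂ x₁ x₆ y i)

theorem Xs_le (i : Fin 6) : Xs X X₁ X₂ x₁ x₆ y i ≤ G0 X X₁ X₂ x₁ x₆ y :=
  le_sup_left.trans (le_iSup (fun i => Xs X X₁ X₂ x₁ x₆ y i ⊔ Xn X X₁ X₂ x₁ x₆ y i) i)

theorem Xn_le (i : Fin 6) : Xn X X₁ X₂ x₁ x₆ y i ≤ G0 X X₁ X₂ x₁ x₆ y :=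
  le_sup_right.trans (le_iSup (fun i => Xs X X₁ X₂ x₁ x₆ y i ⊔ Xn X X₁ X₂ x₁ x₆ y i) i)

namespace Inp

variable (S : Inp K z X Q p cs₁ h₁ L₁ T₁ n₁ X₁ ell₁ g₁ cs₂ h₂ L₂ T₂ n₂ X₂ ell₂ g₂ x₁ x₆ y)

include S

/-- the frame members `K 1, K 2, K 3` lie in `G₀` -/
theorem X_le {k : Fin 4} (hk : k ≠ 0) : X k 1 ≤ G0 X X₁ X₂ x₁ x₆ y ∧ X k (-1) ≤ G0 X X₁ X₂ x₁ x₆ y := by
  match k, hk with
  | 1, _ => exact ⟨Xs_le 1, Xn_le 1⟩
  | 2, _ => exact ⟨Xs_le 2, Xn_le 2⟩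
  | 3, _ => exact ⟨Xs_le 4, Xn_le 4⟩

theorem y_cpr {k : Fin 4} (hk : k ≠ 0) : cpr cs₂ h₂ y (g₂ k) = -1 := by
  match k, hk with
  | 1, _ => exact S.y1
  | 2, _ => exact S.y2
  | 3, _ => exact S.y3

theorem y_cpr' [Finite W₂] {k : Fin 4} (hk : k ≠ 0) : cpr cs₂ h₂ (g₂ k) y = -1 := by
  rw [cpr_symm cs₂ h₂ S.h24 S.h26 (S.C₂.root k (Set.mem_univ k)) S.ry]
  exact y_cpr S hk

theorem two_y [Finite W₂] : (2 : ℤ) • y = g₂ 0 - g₂ 1 - g₂ 2 - g₂ 3 := by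
  have h1 := two_smul_eq_sum cs₂ h₂ S.h24 S.h26 S.ry (g := g₂) (fun i => S.C₂.root i (Set.mem_univ i))
    (fun i j hij => S.C₂.gorth i (Set.mem_univ i) j (Set.mem_univ j) hij) (c := ![1, -1, -1, -1]) (fun i => by
      match i with
      | 0 => exact S.y0
      | 1 => exact S.y1
      | 2 => exact S.y2
      | 3 => exact S.y3) (by decide)
  rw [h1, Fin.sum_univ_four]
  simp only [Matrix.cons_val_zero, Matrix.cons_val_one, Matrix.cons_val]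
  module

/-- the frame member `K k`, `k ≠ 0`, is conjugate to the node `y` -/
theorem exists_conj_y [Finite W₂] {k : Fin 4} (hk : k ≠ 0) : ∃ c ∈ G0 X X₁ X₂ x₁ x₆ y,
    cj c (X k 1) = X₂ y ∧ cj c (X k (-1)) = X₂ (-y) := by
  have hm := Set.mem_univ k
  have h1 := S.C₂.pos k hm
  have h2 := S.C₂.neg k hm
  obtain ⟨h3, h4⟩ := X_le S hk
  rw [← h1] at h3
  rw [← h2] at h4
  have h5 := exists_adj_conj S.C₂.rgd S.ry (S.C₂.root k hm) (y_cpr' S hk) (y_cpr S hk) (Xs_le 3) (Xn_le 3) h3 h4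
  rwa [h1, h2] at h5

/-- `K 0` is conjugate to the node `y` in `G₀`, and lies in `G₀` -/
theorem exists_conj_zero [Finite W₂] : ∃ c ∈ G0 X X₁ X₂ x₁ x₆ y,
    cj c (X₂ y) = X 0 1 ∧ cj c (X₂ (-y)) = X 0 (-1) := by
  have R := S.C₂.rgd
  have hr : ∀ i, IsRoot cs₂ h₂ (g₂ i) := fun i => S.C₂.root i (Set.mem_univ i)
  have ho : ∀ i j, i ≠ j → cpr cs₂ h₂ (g₂ i) (g₂ j) = 0 := fun i j hij =>
    S.C₂.gorth i (Set.mem_univ i) j (Set.mem_univ j) hij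
  have hle : ∀ k : Fin 4, k ≠ 0 → X₂ (g₂ k) ≤ G0 X X₁ X₂ x₁ x₆ y ∧ X₂ (-g₂ k) ≤ G0 X X₁ X₂ x₁ x₆ y := by
    intro k hk
    obtain ⟨h3, h4⟩ := X_le S hk
    rw [← S.C₂.pos k (Set.mem_univ k)] at h3
    rw [← S.C₂.neg k (Set.mem_univ k)] at h4
    exact ⟨h3, h4⟩
  -- y -> y + g1 -> y + g1 + g2 -> y + g1 + g2 + g3
  obtain ⟨c1, hc1, e1, e1'⟩ := exists_add_conj R (hr 1) S.ry S.y1 (hle 1 (by decide)).1 (hle 1 (by decide)).2
  have r1 : IsRoot cs₂ h₂ (y + g₂ 1) := by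
    have := isRoot_refl cs₂ h₂ S.ry (hr 1)
    rw [S.y1] at this
    convert this using 1
    module
  have a2 : cpr cs₂ h₂ (y + g₂ 1) (g₂ 2) = -1 := by
    rw [cpr_add cs₂ h₂ _ _ (hr 2), S.y2, ho 1 2 (by decide)]; norm_num
  obtain ⟨c2, hc2, e2, e2'⟩ := exists_add_conj R (hr 2) r1 a2 (hle 2 (by decide)).1 (hle 2 (by decide)).2
  have r2 : IsRoot cs₂ h₂ (y + g₂ 1 + g₂ 2) := by
    have := isRoot_refl cs₂ h₂ r1 (hr 2)
    rw [a2] at this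
    convert this using 1
    module
  have a3 : cpr cs₂ h₂ (y + g₂ 1 + g₂ 2) (g₂ 3) = -1 := by
    rw [cpr_add cs₂ h₂ _ _ (hr 3), cpr_add cs₂ h₂ _ _ (hr 3), S.y3, ho 1 3 (by decide), ho 2 3 (by decide)]
    norm_num
  obtain ⟨c3, hc3, e3, e3'⟩ := exists_add_conj R (hr 3) r2 a3 (hle 3 (by decide)).1 (hle 3 (by decide)).2
  have r3 : IsRoot cs₂ h₂ (y + g₂ 1 + g₂ 2 + g₂ 3) := by
    have := isRoot_refl cs₂ h₂ r2 (hr 3)
    rw [a3] at this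
    convert this using 1
    module
  -- the reflection of y
  have a4 : cpr cs₂ h₂ (y + g₂ 1 + g₂ 2 + g₂ 3) y = -1 := by
    rw [cpr_add cs₂ h₂ _ _ S.ry, cpr_add cs₂ h₂ _ _ S.ry, cpr_add cs₂ h₂ _ _ S.ry, cpr_self cs₂ h₂ S.ry,
      y_cpr' S (k := 1) (by decide), y_cpr' S (k := 2) (by decide), y_cpr' S (k := 3) (by decide)]
    norm_num
  obtain ⟨c4, hc4, e4, e4'⟩ := exists_add_conj R S.ry r3 a4 (P := G0 X X₁ X₂ x₁ x₆ y)
    (Xs_le (X₁ := X₁) (x₁ := x₁) (x₆ := x₆) 3) (Xn_le (X₁ := X₁) (x₁ := x₁) (x₆ := x₆) 3)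
  have e5 : y + g₂ 1 + g₂ 2 + g₂ 3 + y = g₂ 0 := by
    have h1 := two_y S
    rw [two_smul] at h1
    have h2 : y + g₂ 1 + g₂ 2 + g₂ 3 + y = (y + y) + (g₂ 1 + g₂ 2 + g₂ 3) := by abel
    rw [h2, h1]
    abel
  refine ⟨c4 * (c3 * (c2 * c1)), mul_mem hc4 (mul_mem hc3 (mul_mem hc2 hc1)), ?_, ?_⟩
  · rw [cj_mul, cj_mul, cj_mul, e1, e2, e3, e4, e5, S.C₂.pos 0 (Set.mem_univ 0)]
  · rw [cj_mul, cj_mul, cj_mul, e1', e2', e3', e4', e5, S.C₂.neg 0 (Set.mem_univ 0)]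

/-- every frame member is conjugate to the node `y` in `G₀` -/
theorem exists_conj_K [Finite W₂] (k : Fin 4) : ∃ c ∈ G0 X X₁ X₂ x₁ x₆ y, cj c (K k) = X₂ y ⊔ X₂ (-y) := by
  rw [S.F.K_eq k]
  by_cases hk : k = 0
  · subst hk
    obtain ⟨c, hc, e1, e2⟩ := exists_conj_zero S
    refine ⟨c⁻¹, inv_mem hc, ?_⟩
    rw [← e1, ← e2, ← cj_sup, ← cj_mul, inv_mul_cancel, cj_one]
  · obtain ⟨c, hc, e1, e2⟩ := exists_conj_y S hk
    exact ⟨c, hc, by rw [cj_sup, e1, e2]⟩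

/-- the frame members are conjugate in `G₀` -/
theorem exists_conj_frame [Finite W₂] (k l : Fin 4) : ∃ c ∈ G0 X X₁ X₂ x₁ x₆ y, cj c (K k) = K l := by
  obtain ⟨c, hc, e⟩ := exists_conj_K S k
  obtain ⟨d, hd, e'⟩ := exists_conj_K S l
  refine ⟨d⁻¹ * c, mul_mem (inv_mem hd) hc, ?_⟩
  rw [cj_mul, e, ← e', ← cj_mul, inv_mul_cancel, cj_one]

/-- the frame members lie in `G₀` -/
theorem K_le [Finite W₂] (k : Fin 4) : K k ≤ G0 X X₁ X₂ x₁ x₆ y := by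
  obtain ⟨c, hc, e⟩ := exists_conj_K S k
  have h1 : K k = cj c⁻¹ (X₂ y ⊔ X₂ (-y)) := by rw [← e, ← cj_mul, inv_mul_cancel, cj_one]
  rw [h1]
  exact cj_le_of_mem (inv_mem hc) (sup_le (Xs_le 3) (Xn_le 3))

/-- `L₁ ≤ G₀` if the roots `g 3, x₆, g 0, x₁, g 2` contain a base of the root system of `L₁` -/
theorem L1_le [Finite W₁] [Finite W₂] (w : W₁)
    (hb : ∀ j, rep cs₁ h₁ w (sr j) ∈ ({g₁ 3, x₆, g₁ 0, x₁, g₁ 2} : Set (I₁ → ℤ)))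
    (hL : L₁ ≤ G1 cs₁ h₁ X₁) : L₁ ≤ G0 X X₁ X₂ x₁ x₆ y := by
  refine hL.trans (RGD.Sup_le fun x hx => ?_)
  refine gen_of_base S.C₁.rgd w ?_ x hx
  intro j
  have hK : ∀ k : Fin 4, k ≠ 1 → X₁ (g₁ k) ≤ G0 X X₁ X₂ x₁ x₆ y ∧ X₁ (-g₁ k) ≤ G0 X X₁ X₂ x₁ x₆ y := by
    intro k hk
    rw [S.C₁.pos k hk, S.C₁.neg k hk]
    exact ⟨(S.F.X_le_K k (by decide)).trans (K_le S k), (S.F.X_le_K k (by decide)).trans (K_le S k)⟩
  rcases hb j with e | e | e | e | e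
  · rw [e]; exact hK 3 (by decide)
  · rw [e]; exact ⟨Xs_le 5, Xn_le 5⟩
  · rw [e]; exact hK 0 (by decide)
  · rw [e]; exact ⟨Xs_le 0, Xn_le 0⟩
  · rw [e]; exact hK 2 (by decide)

end Inp

end Main

end Cfsg.Agent.Cit.TypeESixGen
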