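import Mathlib
import Cfsg.Agent.Cit.TypeESixGen
import Cfsg.Agent.Nodes.KindA
import Cfsg.Agent.Nodes.TypeD
import Cfsg.Agent.Nodes.Reindex

/-!
Type `E₆` (project CIT, (3b)), the input from typed charts: `Δ_1` of type `A₅`, `Γ_01` of type `D₅`.

* `exists_w_A5` : three orthogonal roots of `A₅` are `w α_0, w α_2, w α_4`;
* `exists_full_D5` : a root of `D₅` with prescribed signs for four orthogonal roots;
* `exists_inp` : `FrChart`s of type `A₅` and `D₅` ⇒ `Inp`;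
* `exists_rgd_of_charts` : the root group datum of type `E₆` on `G₀`, `K k ≤ G₀`, `L₁ ≤ G₀`.
-/

set_option autoImplicit false
set_option linter.unusedSectionVars false

namespace Cfsg.Agent.Cit.TypeESixInp

open CoxeterSystem Cfsg.Agent.ChevalleyStructure.CoxeterGeom Cfsg.Agent.Tits.Roots Cfsg.Agent.Tits.Core
  Cfsg.Agent.Nodes.Comb Cfsg.Agent.Nodes.SubComb Cfsg.Agent.Nodes.PosPair
  Cfsg.Agent.Nodes.Reps Cfsg.Agent.Nodes.BNOf Cfsg.Agent.Nodes.Coroot Cfsg.Agent.Nodes.PairOf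
  Cfsg.Agent.Nodes.Bruhat Cfsg.Agent.Nodes.RGDLib
  Cfsg.Agent.Nodes.SimplyLaced Cfsg.Agent.Cit.FrameSign Cfsg.Agent.Cit.NodeGlue Cfsg.Agent.RootAmalgam
  Cfsg.Agent.Cit.TypeESix Cfsg.Agent.Cit.TypeESixGen
open Cfsg.Agent.LieRecognition.BNCox (cA cA_apply)
open Cfsg.Agent.Nodes

/-! ### Type `A₅` -/

section A5

variable {W : Type*} [Group W] (cs : CoxeterSystem (cA 5) W) {A : Fin 5 → Fin 5 → ℤ} (h : IsCartan (cA 5) A)

open Cfsg.Agent.Nodes.RootsA in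
theorem exists_w_A5 [Finite W] {r₀ r₁ r₂ : Fin 5 → ℤ} (hr₀ : IsRoot cs h r₀) (hr₁ : IsRoot cs h r₁)
    (hr₂ : IsRoot cs h r₂) (h01 : cpr cs h r₀ r₁ = 0) (h02 : cpr cs h r₀ r₂ = 0) (h12 : cpr cs h r₁ r₂ = 0) :
    ∃ w : W, rep cs h w (sr 0) = r₀ ∧ rep cs h w (sr 2) = r₁ ∧ rep cs h w (sr 4) = r₂ := by
  obtain ⟨a, b, hab, rfl⟩ := exists_of_isRoot cs h hr₀
  obtain ⟨c, d, hcd, rfl⟩ := exists_of_isRoot cs h hr₁
  obtain ⟨e, f, hef, rfl⟩ := exists_of_isRoot cs h hr₂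
  rw [Cfsg.Agent.Nodes.KindA.cpr_eq_zero_iff cs h hab hcd] at h01
  rw [Cfsg.Agent.Nodes.KindA.cpr_eq_zero_iff cs h hab hef] at h02
  rw [Cfsg.Agent.Nodes.KindA.cpr_eq_zero_iff cs h hcd hef] at h12
  obtain ⟨n1, n2, n3, n4⟩ := h01
  obtain ⟨n5, n6, n7, n8⟩ := h02
  obtain ⟨n9, n10, n11, n12⟩ := h12
  let τ : Fin 6 → Fin 6 := ![a, b, c, d, e, f]
  have hinj : Function.Injective τ := by
    intro i j hij
    by_contra hne
    fin_cases i <;> fin_cases j <;>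
      simp only [τ, Matrix.cons_val, Matrix.cons_val_zero, Matrix.cons_val_one, Fin.isValue, Fin.zero_eta,
        Fin.mk_one, Fin.reduceFinMk, not_true_eq_false] at hij hne <;>
      first
      | exact hab hij
      | exact hab hij.symm
      | exact hcd hij
      | exact hcd hij.symm
      | exact hef hij
      | exact hef hij.symm
      | exact n1 hij
      | exact n1 hij.symm
      | exact n2 hij
      | exact n2 hij.symm
      | exact n3 hij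
      | exact n3 hij.symm
      | exact n4 hij
      | exact n4 hij.symm
      | exact n5 hij
      | exact n5 hij.symm
      | exact n6 hij
      | exact n6 hij.symm
      | exact n7 hij
      | exact n7 hij.symm
      | exact n8 hij
      | exact n8 hij.symm
      | exact n9 hij
      | exact n9 hij.symm
      | exact n10 hij
      | exact n10 hij.symm
      | exact n11 hij
      | exact n11 hij.symm
      | exact n12 hij
      | exact n12 hij.symm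
  obtain ⟨w, hw⟩ := Cfsg.Agent.Nodes.KindA.exists_w cs h
    (Equiv.ofBijective τ (Finite.injective_iff_bijective.1 hinj))
  refine ⟨w, ?_, ?_, ?_⟩
  · rw [← rtA_sr, hw]; rfl
  · rw [← rtA_sr, hw]; rfl
  · rw [← rtA_sr, hw]; rfl

end A5

/-! ### Type `D₅` -/

section D5

/-- the Coxeter matrix of type `D₅` -/
abbrev M5 : CoxeterMatrix (Fin 5) := TypeD.M 3

/-- the Cartan matrix of type `D₅` -/
abbrev C5 : Fin 5 → Fin 5 → ℤ := TypeD.A 3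

theorem h4D (i j : Fin 5) : M5 i j ≠ 4 := by
  rw [TypeD.M_apply]; split_ifs <;> decide

theorem h6D (i j : Fin 5) : M5 i j ≠ 6 := by
  rw [TypeD.M_apply]; split_ifs <;> decide

theorem isC : IsCartan M5 C5 := TypeD.isCartan 3

theorem A_eq {A : Fin 5 → Fin 5 → ℤ} (h : IsCartan M5 A) : A = C5 := by
  funext i j
  rw [cart_eq h4D h6D h, cart_eq h4D h6D isC]

variable {W : Type*} [Group W] (cs : CoxeterSystem M5 W)

/-- the highest root -/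
def th : Fin 5 → ℤ := ![1, 2, 2, 1, 1]

theorem step {x : Fin 5 → ℤ} (hx : IsRoot cs isC x) (i : Fin 5) {y : Fin 5 → ℤ}
    (hy : y = x - pairing C5 i x • sr i) : IsRoot cs isC y := by
  rw [hy, ← rep_simple_eq cs isC]
  exact hx.act _

theorem isRoot_th : IsRoot cs isC th := by
  have r0 := isRoot_sr cs isC (0 : Fin 5)
  have r1 := step cs r0 1 (y := ![1, 1, 0, 0, 0]) (by decide)
  have r2 := step cs r1 2 (y := ![1, 1, 1, 0, 0]) (by decide)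
  have r3 := step cs r2 3 (y := ![1, 1, 1, 1, 0]) (by decide)
  have r4 := step cs r3 4 (y := ![1, 1, 1, 1, 1]) (by decide)
  have r5 := step cs r4 2 (y := ![1, 1, 2, 1, 1]) (by decide)
  exact step cs r5 1 (y := th) (by decide)

/-- the frame of `D₅` -/
def gD : Fin 4 → Fin 5 → ℤ := ![sr 0, th, sr 3, sr 4]

theorem isRoot_gD (k : Fin 4) : IsRoot cs isC (gD k) := by
  match k with
  | 0 => exact isRoot_sr _ _ _
  | 1 => exact isRoot_th cs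
  | 2 => exact isRoot_sr _ _ _
  | 3 => exact isRoot_sr _ _ _

theorem orth_gD : ∀ k l : Fin 4, k ≠ l → ∑ i, gD k i * pairing C5 i (gD l) = 0 := by decide

theorem frameSys_D5 [Finite W] : KindBase.FrameSys cs isC {x | IsRoot cs isC x} gD where
  root r hr := hr
  act r hr w := hr.act w
  le_one x hx y hy h1 h2 := abs_cpr_le_one cs _ h4D h6D hx hy h1 h2
  mem k := isRoot_gD cs k
  orth k l hkl := by
    rw [cpr_eq_sum cs _ h4D h6D _ (isRoot_gD cs l)]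
    exact orth_gD k l hkl
  max x hx h0 := by
    have h1 : ∀ k, ∑ i, x i * pairing C5 i (gD k) = 0 := by
      intro k
      rw [← cpr_eq_sum cs _ h4D h6D _ (isRoot_gD cs k)]
      exact h0 k
    have c0 : ∀ i, pairing C5 i (gD 0) = (![2, -1, 0, 0, 0] : Fin 5 → ℤ) i := by decide
    have c1 : ∀ i, pairing C5 i (gD 1) = (![0, 1, 0, 0, 0] : Fin 5 → ℤ) i := by decide
    have c2 : ∀ i, pairing C5 i (gD 2) = (![0, 0, -1, 2, 0] : Fin 5 → ℤ) i := by decide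
    have c3 : ∀ i, pairing C5 i (gD 3) = (![0, 0, -1, 0, 2] : Fin 5 → ℤ) i := by decide
    have c4 : ∀ i, pairing C5 i (sr 2) = (![0, -1, 2, -1, -1] : Fin 5 → ℤ) i := by decide
    have e0 := h1 0
    have e1 := h1 1
    have e2 := h1 2
    have e3 := h1 3
    simp only [c0] at e0
    simp only [c1] at e1
    simp only [c2] at e2
    simp only [c3] at e3
    rw [Fin.sum_univ_five] at e0 e1 e2 e3
    simp at e0 e1 e2 e3
    have hx2 : x ≠ sr 2 := by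
      rintro rfl
      simp [sr] at e2
    have hx3 : x ≠ -sr 2 := by
      rintro rfl
      simp [sr] at e2
    have e4 := abs_cpr_le_one cs _ h4D h6D hx (isRoot_sr cs isC 2) hx2 hx3
    rw [cpr_eq_sum cs _ h4D h6D _ (isRoot_sr cs isC 2)] at e4
    simp only [c4] at e4
    rw [Fin.sum_univ_five] at e4
    simp at e4
    rw [abs_le] at e4
    apply hx.ne_zero
    funext i
    rw [Pi.zero_apply]
    match i with
    | 0 => omega
    | 1 => omega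
    | 2 => omega
    | 3 => omega
    | 4 => omega

theorem full_gD : ∀ k : Fin 4, ∑ i, (![0, 1, 1, 0, 0] : Fin 5 → ℤ) i * pairing C5 i (gD k) ≠ 0 := by decide

/-- a root not orthogonal to four given orthogonal roots -/
theorem exists_full_D5 [Finite W] {g : Fin 4 → Fin 5 → ℤ} (hg : ∀ i, IsRoot cs isC (g i))
    (hgo : ∀ i j, i ≠ j → cpr cs isC (g i) (g j) = 0) :
    ∃ y, IsRoot cs isC y ∧ ∀ i, cpr cs isC y (g i) ≠ 0 := by
  obtain ⟨w, f, hw⟩ := (frameSys_D5 cs).exists_move g hg hgo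
  have hy : IsRoot cs isC ![0, 1, 1, 0, 0] := by
    have r1 := isRoot_sr cs isC (1 : Fin 5)
    exact step cs r1 2 (by decide)
  refine ⟨_, hy.act w⁻¹, fun i => ?_⟩
  rw [← cpr_rep cs _ w _ (hg i), rep_apply_inv, hw i, cpr_eq_sum cs _ h4D h6D _ (isRoot_gD cs (f i))]
  exact full_gD (f i)

end D5

/-! ### Signs -/

section Signs

variable {I W : Type*} [Fintype I] [DecidableEq I] [Group W] {M : CoxeterMatrix I} (cs : CoxeterSystem M W)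
  {A : I → I → ℤ} (h : IsCartan M A)

theorem exists_flip [Finite W] {ι : Type*} {y : I → ℤ} (hy : IsRoot cs h y) {g : ι → I → ℤ}
    (hg : ∀ i, IsRoot cs h (g i)) (hgo : ∀ i j, i ≠ j → cpr cs h (g i) (g j) = 0)
    (hc : ∀ i, cpr cs h y (g i) = 1 ∨ cpr cs h y (g i) = -1) {e : ι → ℤ} (he : ∀ i, e i = 1 ∨ e i = -1) (i : ι) :
    ∃ v, IsRoot cs h v ∧ cpr cs h v (g i) = e i ∧ ∀ j, j ≠ i → cpr cs h v (g j) = cpr cs h y (g j) := by
  by_cases h0 : cpr cs h y (g i) = e i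
  · exact ⟨y, hy, h0, fun _ _ => rfl⟩
  · refine ⟨y - cpr cs h y (g i) • g i, isRoot_refl cs h hy (hg i), ?_, ?_⟩
    · rw [KindBase.cpr_sub cs h _ _ (hg i), cpr_smul cs h _ _ (hg i), cpr_self cs h (hg i)]
      rcases hc i with h1 | h1 <;> rcases he i with h2 | h2 <;> omega
    · intro j hj
      rw [KindBase.cpr_sub cs h _ _ (hg j), cpr_smul cs h _ _ (hg j), hgo i j hj.symm, mul_zero, sub_zero]

theorem exists_signs [Finite W] (h4 : ∀ i j, M i j ≠ 4) (h6 : ∀ i j, M i j ≠ 6) {y : I → ℤ}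
    (hy : IsRoot cs h y) {g : Fin 4 → I → ℤ}
    (hg : ∀ i, IsRoot cs h (g i)) (hgo : ∀ i j, i ≠ j → cpr cs h (g i) (g j) = 0)
    (h0 : ∀ i, cpr cs h y (g i) ≠ 0) {e : Fin 4 → ℤ} (he : ∀ i, e i = 1 ∨ e i = -1) :
    ∃ v, IsRoot cs h v ∧ ∀ i, cpr cs h v (g i) = e i := by
  have hc : ∀ i, cpr cs h y (g i) = 1 ∨ cpr cs h y (g i) = -1 := by
    intro i
    have hne : y ≠ g i := by
      rintro rfl
      obtain ⟨j, hj⟩ := exists_ne i
      exact h0 j (hgo i j hj.symm)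
    have hne' : y ≠ -g i := by
      rintro rfl
      obtain ⟨j, hj⟩ := exists_ne i
      refine h0 j ?_
      rw [cpr_neg cs h _ (hg j), hgo i j hj.symm, neg_zero]
    have e1 := abs_cpr_le_one cs h h4 h6 hy (hg i) hne hne'
    rw [abs_le] at e1
    have := h0 i
    omega
  obtain ⟨v0, r0, a0, b0⟩ := exists_flip cs h hy hg hgo hc he 0
  have hc0 : ∀ i, cpr cs h v0 (g i) = 1 ∨ cpr cs h v0 (g i) = -1 := by
    intro i
    by_cases hi : i = 0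
    · rw [hi, a0]; exact he 0
    · rw [b0 i hi]; exact hc i
  obtain ⟨v1, r1, a1, b1⟩ := exists_flip cs h r0 hg hgo hc0 he 1
  have hc1 : ∀ i, cpr cs h v1 (g i) = 1 ∨ cpr cs h v1 (g i) = -1 := by
    intro i
    by_cases hi : i = 1
    · rw [hi, a1]; exact he 1
    · rw [b1 i hi]; exact hc0 i
  obtain ⟨v2, r2, a2, b2⟩ := exists_flip cs h r1 hg hgo hc1 he 2
  have hc2 : ∀ i, cpr cs h v2 (g i) = 1 ∨ cpr cs h v2 (g i) = -1 := by
    intro i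
    by_cases hi : i = 2
    · rw [hi, a2]; exact he 2
    · rw [b2 i hi]; exact hc1 i
  obtain ⟨v3, r3, a3, b3⟩ := exists_flip cs h r2 hg hgo hc2 he 3
  refine ⟨v3, r3, fun i => ?_⟩
  match i with
  | 0 => rw [b3 0 (by decide), b2 0 (by decide), b1 0 (by decide), a0]
  | 1 => rw [b3 1 (by decide), b2 1 (by decide), a1]
  | 2 => rw [b3 2 (by decide), a2]
  | 3 => exact a3

end Signs

/-! ### The input -/

section Main

universe u

variable {G : Type u} [Group G] {K : Fin 4 → Subgroup G} {z : Fin 4 → G} {X Q : Fin 4 → SignType → Subgroup G}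
  {p : ℕ}
  {I₁ W₁ : Type*} [Fintype I₁] [DecidableEq I₁] [Group W₁] {M₁ : CoxeterMatrix I₁} {cs₁ : CoxeterSystem M₁ W₁}
  {A₁ : I₁ → I₁ → ℤ} {h₁ : IsCartan M₁ A₁} {L₁ T₁ : Subgroup G} {n₁ : I₁ → G} {X₁ : (I₁ → ℤ) → Subgroup G}
  {ell₁ : Fin 4 → (I₁ → ℤ) →+ ℤ} {g₁ : Fin 4 → I₁ → ℤ}
  {I₂ W₂ : Type*} [Fintype I₂] [DecidableEq I₂] [Group W₂] {M₂ : CoxeterMatrix I₂} {cs₂ : CoxeterSystem M₂ W₂}
  {A₂ : I₂ → I₂ → ℤ} {h₂ : IsCartan M₂ A₂} {L₂ T₂ : Subgroup G} {n₂ : I₂ → G} {X₂ : (I₂ → ℤ) → Subgroup G}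
  {ell₂ : Fin 4 → (I₂ → ℤ) →+ ℤ} {g₂ : Fin 4 → I₂ → ℤ}

theorem h4A (i j : Fin 5) : cA 5 i j ≠ 4 := by
  rw [cA_apply]; unfold Cfsg.Agent.LieRecognition.CoxClass.mA; split_ifs <;> decide

theorem h6A (i j : Fin 5) : cA 5 i j ≠ 6 := by
  rw [cA_apply]; unfold Cfsg.Agent.LieRecognition.CoxClass.mA; split_ifs <;> decide

open Cfsg.Agent.Nodes.Reindex

/-- three orthogonal roots of a system of type `A₅`, any labels -/
theorem exists_w_A5' [Finite W₁] (e₁ : I₁ ≃ Fin 5) (hA₁ : ∀ i j, A₁ i j = RootsA.AA 5 (e₁ i) (e₁ j))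
    {r₀ r₁ r₂ : I₁ → ℤ} (hr₀ : IsRoot cs₁ h₁ r₀) (hr₁ : IsRoot cs₁ h₁ r₁) (hr₂ : IsRoot cs₁ h₁ r₂)
    (h01 : cpr cs₁ h₁ r₀ r₁ = 0) (h02 : cpr cs₁ h₁ r₀ r₂ = 0) (h12 : cpr cs₁ h₁ r₁ r₂ = 0) :
    ∃ w : W₁, rep cs₁ h₁ w (sr (e₁.symm 0)) = r₀ ∧ rep cs₁ h₁ w (sr (e₁.symm 2)) = r₁ ∧
      rep cs₁ h₁ w (sr (e₁.symm 4)) = r₂ := by
  obtain ⟨cs', hs⟩ := exists_reindex cs₁ e₁ (matrix_eq h₁ (RootsA.isCartan 5) hA₁)
  obtain ⟨w, w0, w2, w4⟩ := exists_w_A5 cs' (RootsA.isCartan 5) ((isRoot_reindex hA₁ hs).2 hr₀)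
    ((isRoot_reindex hA₁ hs).2 hr₁) ((isRoot_reindex hA₁ hs).2 hr₂)
    (by rw [cpr_reindex hA₁ hs _ hr₁]; exact h01) (by rw [cpr_reindex hA₁ hs _ hr₂]; exact h02)
    (by rw [cpr_reindex hA₁ hs _ hr₂]; exact h12)
  have key : ∀ (k : Fin 5) (r : I₁ → ℤ), rep cs' (RootsA.isCartan 5) w (sr k) = r ∘ e₁.symm →
      rep cs₁ h₁ w (sr (e₁.symm k)) = r := by
    intro k r hk
    apply comp_inj (e := e₁)
    rw [← rep_reindex (cs' := cs') (h' := RootsA.isCartan 5) hA₁ hs, ← sr_reindex, e₁.apply_symm_apply, hk]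
  exact ⟨w, key 0 _ w0, key 2 _ w2, key 4 _ w4⟩

/-- four orthogonal roots of a system of type `D₅`, any labels -/
theorem exists_move_D5' [Finite W₂] (e₂ : I₂ ≃ Fin 5) (hA₂ : ∀ i j, A₂ i j = C5 (e₂ i) (e₂ j))
    {g : Fin 4 → I₂ → ℤ} (hg : ∀ i, IsRoot cs₂ h₂ (g i))
    (hgo : ∀ i j, i ≠ j → cpr cs₂ h₂ (g i) (g j) = 0) :
    ∃ (w : W₂) (f : Fin 4 → Fin 4), ∀ i, rep cs₂ h₂ w (gD (f i) ∘ e₂) = g i := by
  obtain ⟨cs', hs⟩ := exists_reindex cs₂ e₂ (matrix_eq h₂ isC hA₂)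
  obtain ⟨w, f, hw⟩ := (frameSys_D5 cs').exists_move (fun i => g i ∘ e₂.symm)
    (fun i => (isRoot_reindex hA₂ hs).2 (hg i)) (fun i j hij => by
      rw [cpr_reindex hA₂ hs _ (hg j)]; exact hgo i j hij)
  refine ⟨w⁻¹, f, fun i => ?_⟩
  apply comp_inj (e := e₂)
  rw [← rep_reindex (cs' := cs') (h' := isC) hA₂ hs, comp_symm, ← hw i, rep_inv_apply]

theorem isRoot_gD' (e₂ : I₂ ≃ Fin 5) (hA₂ : ∀ i j, A₂ i j = C5 (e₂ i) (e₂ j)) (k : Fin 4) :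
    IsRoot cs₂ h₂ (gD k ∘ e₂) := by
  obtain ⟨cs', hs⟩ := exists_reindex cs₂ e₂ (matrix_eq h₂ isC hA₂)
  rw [← isRoot_reindex (cs' := cs') (h' := isC) hA₂ hs, comp_symm]
  exact isRoot_gD cs' k

/-- the Cartan numbers with the standard frame -/
theorem cpr_gD' [Finite W₂] (e₂ : I₂ ≃ Fin 5) (hA₂ : ∀ i j, A₂ i j = C5 (e₂ i) (e₂ j)) (k : Fin 4) (x : Fin 5 → ℤ) :
    cpr cs₂ h₂ (x ∘ e₂) (gD k ∘ e₂) = ∑ i, x i * pairing C5 i (gD k) := by
  obtain ⟨cs', hs⟩ := exists_reindex cs₂ e₂ (matrix_eq h₂ isC hA₂)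
  rw [← cpr_reindex (cs' := cs') (h' := isC) hA₂ hs _ (isRoot_gD' e₂ hA₂ k), comp_symm, comp_symm,
    cpr_eq_sum cs' _ h4D h6D _ (isRoot_gD cs' k)]

theorem sr_comp (e₂ : I₂ ≃ Fin 5) (i : I₂) : (sr (e₂ i) : Fin 5 → ℤ) ∘ e₂ = sr i := by
  rw [sr_reindex, comp_symm']

theorem isRoot_full' (e₂ : I₂ ≃ Fin 5) (hA₂ : ∀ i j, A₂ i j = C5 (e₂ i) (e₂ j)) :
    IsRoot cs₂ h₂ ((![0, 1, 1, 0, 0] : Fin 5 → ℤ) ∘ e₂) := by
  obtain ⟨cs', hs⟩ := exists_reindex cs₂ e₂ (matrix_eq h₂ isC hA₂)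
  rw [← isRoot_reindex (cs' := cs') (h' := isC) hA₂ hs, comp_symm]
  exact step cs' (isRoot_sr cs' isC (1 : Fin 5)) 2 (by decide)

/-- **The input from typed charts.** -/
theorem exists_inp [Finite W₁] [Finite W₂] (F : Frame K z X Q)
    (C₁ : FrChart K X Q {i | i ≠ 1} L₁ cs₁ h₁ p T₁ n₁ X₁ ell₁ g₁)
    (e₁ : I₁ ≃ Fin 5) (hA₁ : ∀ i j, A₁ i j = RootsA.AA 5 (e₁ i) (e₁ j))
    (C₂ : FrChart K X Q Set.univ L₂ cs₂ h₂ p T₂ n₂ X₂ ell₂ g₂)
    (e₂ : I₂ ≃ Fin 5) (hA₂ : ∀ i j, A₂ i j = C5 (e₂ i) (e₂ j)) :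
    ∃ (x₁ x₆ : I₁ → ℤ) (y : I₂ → ℤ) (w : W₁),
      Inp K z X Q p cs₁ h₁ L₁ T₁ n₁ X₁ ell₁ g₁ cs₂ h₂ L₂ T₂ n₂ X₂ ell₂ g₂ x₁ x₆ y ∧
      ∀ j, rep cs₁ h₁ w (sr j) ∈ ({g₁ 3, x₆, g₁ 0, x₁, g₁ 2} : Set (I₁ → ℤ)) := by
  have m1 := matrix_eq h₁ (RootsA.isCartan 5) hA₁
  have m2 := matrix_eq h₂ isC hA₂
  have h14 : ∀ i j, M₁ i j ≠ 4 := fun i j => by rw [m1]; exact h4A _ _
  have h16 : ∀ i j, M₁ i j ≠ 6 := fun i j => by rw [m1]; exact h6A _ _
  have h24 : ∀ i j, M₂ i j ≠ 4 := fun i j => by rw [m2]; exact h4D _ _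
  have h26 : ∀ i j, M₂ i j ≠ 6 := fun i j => by rw [m2]; exact h6D _ _
  obtain ⟨w, w0, w2, w4⟩ := exists_w_A5' e₁ hA₁ (C₁.root 3 (by decide)) (C₁.root 0 (by decide))
    (C₁.root 2 (by decide)) (C₁.gorth 3 (by decide) 0 (by decide) (by decide))
    (C₁.gorth 3 (by decide) 2 (by decide) (by decide)) (C₁.gorth 0 (by decide) 2 (by decide) (by decide))
  have hg : ∀ i, IsRoot cs₂ h₂ (g₂ i) := fun i => C₂.root i (Set.mem_univ i)
  have hgo : ∀ i j, i ≠ j → cpr cs₂ h₂ (g₂ i) (g₂ j) = 0 := fun i j hij =>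
    C₂.gorth i (Set.mem_univ i) j (Set.mem_univ j) hij
  obtain ⟨v, f, hv⟩ := exists_move_D5' e₂ hA₂ hg hgo
  have hy' : IsRoot cs₂ h₂ (rep cs₂ h₂ v ((![0, 1, 1, 0, 0] : Fin 5 → ℤ) ∘ e₂)) := (isRoot_full' e₂ hA₂).act v
  have hy0 : ∀ i, cpr cs₂ h₂ (rep cs₂ h₂ v ((![0, 1, 1, 0, 0] : Fin 5 → ℤ) ∘ e₂)) (g₂ i) ≠ 0 := by
    intro i
    rw [← hv i, cpr_rep cs₂ h₂ v _ (isRoot_gD' e₂ hA₂ (f i)), cpr_gD' e₂ hA₂]
    exact full_gD (f i)
  obtain ⟨y, hy, hye⟩ := exists_signs cs₂ h₂ h24 h26 hy' hg hgo hy0 (e := ![1, -1, -1, -1]) (by decide)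
  have key : ∀ i j : Fin 5, cpr cs₁ h₁ (rep cs₁ h₁ w (sr (e₁.symm i))) (rep cs₁ h₁ w (sr (e₁.symm j))) =
      if j = i then 2 else if cA 5 j i = 3 then -1 else 0 := by
    intro i j
    rw [cpr_rep cs₁ h₁ w _ (isRoot_sr cs₁ h₁ _), cpr_sr, ZFam.pairing_sr', hA₁, e₁.apply_symm_apply,
      e₁.apply_symm_apply, cart_eq h4A h6A (RootsA.isCartan 5)]
  refine ⟨rep cs₁ h₁ w (sr (e₁.symm 3)), rep cs₁ h₁ w (sr (e₁.symm 1)), y, w, ?_, ?_⟩
  · exact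
      { F := F
        C₁ := C₁
        h14 := h14
        h16 := h16
        C₂ := C₂
        h24 := h24
        h26 := h26
        r1 := ⟨w, _, rfl⟩
        r6 := ⟨w, _, rfl⟩
        ry := hy
        p10 := by rw [← w2, key]; rfl
        p12 := by rw [← w4, key]; rfl
        p13 := by rw [← w0, key]; rfl
        p60 := by rw [← w2, key]; rfl
        p62 := by rw [← w4, key]; rfl
        p63 := by rw [← w0, key]; rfl
        p16 := by rw [key]; rfl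
        y0 := hye 0
        y1 := hye 1
        y2 := hye 2
        y3 := hye 3 }
  · intro j
    obtain ⟨k, rfl⟩ := e₁.symm.surjective j
    match k with
    | 0 => exact Or.inl w0
    | 1 => exact Or.inr (Or.inl rfl)
    | 2 => exact Or.inr (Or.inr (Or.inl w2))
    | 3 => exact Or.inr (Or.inr (Or.inr (Or.inl rfl)))
    | 4 => exact Or.inr (Or.inr (Or.inr (Or.inr w4)))

end Main

end Cfsg.Agent.Cit.TypeESixInp
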