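import Mathlib
import Cfsg.Agent.Cit.TypeESixInp

/-!
Type `E₆` (project CIT, (3b)): `Γ_01 ≤ G₀`.
-/

set_option autoImplicit false
set_option linter.unusedSectionVars false

namespace Cfsg.Agent.Cit.TypeESixGamma

open CoxeterSystem Cfsg.Agent.ChevalleyStructure.CoxeterGeom Cfsg.Agent.Tits.Roots Cfsg.Agent.Tits.Core
  Cfsg.Agent.Nodes.Comb Cfsg.Agent.Nodes.SubComb Cfsg.Agent.Nodes.PosPair
  Cfsg.Agent.Nodes.Reps Cfsg.Agent.Nodes.BNOf Cfsg.Agent.Nodes.Coroot Cfsg.Agent.Nodes.PairOf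
  Cfsg.Agent.Nodes.Bruhat Cfsg.Agent.Nodes.RGDLib Cfsg.Agent.Nodes.Reindex
  Cfsg.Agent.Nodes.SimplyLaced Cfsg.Agent.Cit.FrameSign Cfsg.Agent.Cit.NodeGlue Cfsg.Agent.RootAmalgam
  Cfsg.Agent.Cit.TypeESix Cfsg.Agent.Cit.TypeESixGen Cfsg.Agent.Cit.TypeESixInp
open Cfsg.Agent.Nodes

universe u

variable {G : Type u} [Group G] {K : Fin 4 → Subgroup G} {z : Fin 4 → G} {X Q : Fin 4 → SignType → Subgroup G}
  {p : ℕ}
  {I₁ W₁ : Type*} [Fintype I₁] [DecidableEq I₁] [Group W₁] {M₁ : CoxeterMatrix I₁} {cs₁ : CoxeterSystem M₁ W₁}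
  {A₁ : I₁ → I₁ → ℤ} {h₁ : IsCartan M₁ A₁} {L₁ T₁ : Subgroup G} {n₁ : I₁ → G} {X₁ : (I₁ → ℤ) → Subgroup G}
  {ell₁ : Fin 4 → (I₁ → ℤ) →+ ℤ} {g₁ : Fin 4 → I₁ → ℤ}
  {I₂ W₂ : Type*} [Fintype I₂] [DecidableEq I₂] [Group W₂] {M₂ : CoxeterMatrix I₂} {cs₂ : CoxeterSystem M₂ W₂}
  {A₂ : I₂ → I₂ → ℤ} {h₂ : IsCartan M₂ A₂} {L₂ T₂ : Subgroup G} {n₂ : I₂ → G} {X₂ : (I₂ → ℤ) → Subgroup G}
  {ell₂ : Fin 4 → (I₂ → ℤ) →+ ℤ} {g₂ : Fin 4 → I₂ → ℤ} {x₁ x₆ : I₁ → ℤ} {y : I₂ → ℤ}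

namespace Inp

variable (S : Inp K z X Q p cs₁ h₁ L₁ T₁ n₁ X₁ ell₁ g₁ cs₂ h₂ L₂ T₂ n₂ X₂ ell₂ g₂ x₁ x₆ y)

include S

theorem g2_le [Finite W₂] (k : Fin 4) :
    X₂ (g₂ k) ≤ G0 X X₁ X₂ x₁ x₆ y ∧ X₂ (-g₂ k) ≤ G0 X X₁ X₂ x₁ x₆ y := by
  rw [S.C₂.pos k (Set.mem_univ k), S.C₂.neg k (Set.mem_univ k)]
  exact ⟨(S.F.X_le_K k (by decide)).trans (TypeESixGen.Inp.K_le S k),
    (S.F.X_le_K k (by decide)).trans (TypeESixGen.Inp.K_le S k)⟩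

/-- reflections in the frame roots do not leave the set of root groups in `G₀` -/
theorem refl_iff [Finite W₂] {v : I₂ → ℤ} (hv : IsRoot cs₂ h₂ v) (k : Fin 4)
    (h0 : X₂ (v - cpr cs₂ h₂ v (g₂ k) • g₂ k) ≤ G0 X X₁ X₂ x₁ x₆ y) : X₂ v ≤ G0 X X₁ X₂ x₁ x₆ y := by
  have hk := S.C₂.root k (Set.mem_univ k)
  have h1 := refl_le S.C₂.rgd hk (isRoot_refl cs₂ h₂ hv hk) (g2_le S k).1 (g2_le S k).2 h0
  have e : v - cpr cs₂ h₂ v (g₂ k) • g₂ k - cpr cs₂ h₂ (v - cpr cs₂ h₂ v (g₂ k) • g₂ k) (g₂ k) • g₂ k = v := by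
    rw [KindBase.cpr_sub cs₂ h₂ _ _ hk, cpr_smul cs₂ h₂ _ _ hk, cpr_self cs₂ h₂ hk]
    module
  rwa [e] at h1

/-- the root groups of the roots not orthogonal to all four frame roots lie in `G₀` -/
theorem full_le [Finite W₂] {v : I₂ → ℤ} (hv : IsRoot cs₂ h₂ v) (h0 : ∀ k, cpr cs₂ h₂ v (g₂ k) ≠ 0) :
    X₂ v ≤ G0 X X₁ X₂ x₁ x₆ y := by
  have hg : ∀ i, IsRoot cs₂ h₂ (g₂ i) := fun i => S.C₂.root i (Set.mem_univ i)
  have hgo : ∀ i j, i ≠ j → cpr cs₂ h₂ (g₂ i) (g₂ j) = 0 := fun i j hij =>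
    S.C₂.gorth i (Set.mem_univ i) j (Set.mem_univ j) hij
  have hy0 : ∀ i, cpr cs₂ h₂ y (g₂ i) = 1 ∨ cpr cs₂ h₂ y (g₂ i) = -1 := by
    intro i
    match i with
    | 0 => exact Or.inl S.y0
    | 1 => exact Or.inr S.y1
    | 2 => exact Or.inr S.y2
    | 3 => exact Or.inr S.y3
  have hc : ∀ {v : I₂ → ℤ}, IsRoot cs₂ h₂ v → (∀ k, cpr cs₂ h₂ v (g₂ k) ≠ 0) →
      ∀ i, cpr cs₂ h₂ v (g₂ i) = 1 ∨ cpr cs₂ h₂ v (g₂ i) = -1 := by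
    intro v hv h0 i
    have hne : v ≠ g₂ i := by
      rintro rfl
      obtain ⟨j, hj⟩ := exists_ne i
      exact h0 j (hgo i j hj.symm)
    have hne' : v ≠ -g₂ i := by
      rintro rfl
      obtain ⟨j, hj⟩ := exists_ne i
      refine h0 j ?_
      rw [cpr_neg cs₂ h₂ _ (hg j), hgo i j hj.symm, neg_zero]
    have e1 := abs_cpr_le_one cs₂ h₂ S.h24 S.h26 hv (hg i) hne hne'
    rw [abs_le] at e1
    have := h0 i
    omega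
  -- induction on the number of wrong signs
  have key : ∀ (m : ℕ) (v : I₂ → ℤ), IsRoot cs₂ h₂ v → (∀ k, cpr cs₂ h₂ v (g₂ k) ≠ 0) →
      (Finset.univ.filter fun k => cpr cs₂ h₂ v (g₂ k) ≠ cpr cs₂ h₂ y (g₂ k)).card = m →
      X₂ v ≤ G0 X X₁ X₂ x₁ x₆ y := by
    intro m
    induction m with
    | zero =>
      intro v hv h0 hm
      have h1 : ∀ k, cpr cs₂ h₂ v (g₂ k) = cpr cs₂ h₂ y (g₂ k) := by
        intro k
        by_contra hne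
        have h2 : k ∈ Finset.univ.filter fun k => cpr cs₂ h₂ v (g₂ k) ≠ cpr cs₂ h₂ y (g₂ k) :=
          Finset.mem_filter.2 ⟨Finset.mem_univ k, hne⟩
        rw [Finset.card_eq_zero.1 hm] at h2
        exact absurd h2 (Finset.notMem_empty k)
      have h2 : v = y := eq_of_cpr cs₂ h₂ S.h24 S.h26 hv S.ry hg hgo h1 (fun i => by
        rcases hy0 i with e | e <;> rw [e] <;> norm_num)
      rw [h2]
      exact Xs_le (X₁ := X₁) (x₁ := x₁) (x₆ := x₆) 3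
    | succ m ih =>
      intro v hv h0 hm
      obtain ⟨k, hk⟩ : ∃ k, k ∈ Finset.univ.filter fun k => cpr cs₂ h₂ v (g₂ k) ≠ cpr cs₂ h₂ y (g₂ k) := by
        apply Finset.Nonempty.exists_mem
        rw [← Finset.card_pos, hm]
        exact Nat.succ_pos m
      have hk' := (Finset.mem_filter.1 hk).2
      refine refl_iff S hv k (ih _ (isRoot_refl cs₂ h₂ hv (hg k)) ?_ ?_)
      · intro j
        rw [KindBase.cpr_sub cs₂ h₂ _ _ (hg j), cpr_smul cs₂ h₂ _ _ (hg j)]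
        by_cases hj : j = k
        · subst hj
          rw [cpr_self cs₂ h₂ (hg j)]
          have := h0 j
          omega
        · rw [hgo k j (Ne.symm hj), mul_zero, sub_zero]
          exact h0 j
      · have h3 : (Finset.univ.filter fun j => cpr cs₂ h₂ (v - cpr cs₂ h₂ v (g₂ k) • g₂ k) (g₂ j) ≠
            cpr cs₂ h₂ y (g₂ j)) = (Finset.univ.filter fun k => cpr cs₂ h₂ v (g₂ k) ≠ cpr cs₂ h₂ y (g₂ k)).erase k := by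
          ext j
          rw [Finset.mem_erase, Finset.mem_filter, Finset.mem_filter]
          rw [KindBase.cpr_sub cs₂ h₂ _ _ (hg j), cpr_smul cs₂ h₂ _ _ (hg j)]
          by_cases hj : j = k
          · subst hj
            rw [cpr_self cs₂ h₂ (hg j)]
            have e1 := hc hv h0 j
            have e2 := hy0 j
            constructor
            · rintro ⟨-, h4⟩
              exfalso
              rcases e1 with e1 | e1 <;> rcases e2 with e2 | e2 <;> omega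
            · rintro ⟨h4, -⟩
              exact absurd rfl h4
          · rw [hgo k j (Ne.symm hj), mul_zero, sub_zero]
            constructor
            · rintro ⟨h4, h5⟩; exact ⟨hj, h4, h5⟩
            · rintro ⟨-, h4, h5⟩; exact ⟨h4, h5⟩
        rw [h3, Finset.card_erase_of_mem hk, hm]
        rfl
  exact key _ v hv h0 rfl

/-- `Γ_01 ≤ G₀` -/
theorem L2_le [Finite W₁] [Finite W₂] (e₂ : I₂ ≃ Fin 5) (hA₂ : ∀ i j, A₂ i j = C5 (e₂ i) (e₂ j))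
    (hL₁ : L₁ ≤ G0 X X₁ X₂ x₁ x₆ y)
    (hXX : ∀ e : Fin 4 → SignType, e 1 = 0 → (∃ i j, i ≠ j ∧ e i ≠ 0 ∧ e j ≠ 0) → XX Q e ≤ L₁)
    (hL : L₂ ≤ G1 cs₂ h₂ X₂) : L₂ ≤ G0 X X₁ X₂ x₁ x₆ y := by
  have hg : ∀ i, IsRoot cs₂ h₂ (g₂ i) := fun i => S.C₂.root i (Set.mem_univ i)
  have hgo : ∀ i j, i ≠ j → cpr cs₂ h₂ (g₂ i) (g₂ j) = 0 := fun i j hij =>
    S.C₂.gorth i (Set.mem_univ i) j (Set.mem_univ j) hij
  obtain ⟨v, f, hv⟩ := exists_move_D5' e₂ hA₂ hg hgo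
  have hfi : Function.Injective f := by
    intro i j hij
    by_contra hne
    have h1 := hgo i j hne
    rw [← hv i, ← hv j, hij, cpr_self cs₂ h₂ ((isRoot_gD' e₂ hA₂ (f j)).act v)] at h1
    norm_num at h1
  have hfs : Function.Surjective f := Finite.surjective_of_injective hfi
  -- the Cartan numbers
  have hcp : ∀ (x : Fin 5 → ℤ) (i : Fin 4), cpr cs₂ h₂ (rep cs₂ h₂ v (x ∘ e₂)) (g₂ i) =
      ∑ k, x k * pairing C5 k (gD (f i)) := by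
    intro x i
    rw [← hv i, cpr_rep cs₂ h₂ v _ (isRoot_gD' e₂ hA₂ (f i)), cpr_gD' e₂ hA₂]
  -- the root groups of a root with support of size two not containing `1`
  have hsup : ∀ {u : I₂ → ℤ}, IsRoot cs₂ h₂ u → cpr cs₂ h₂ u (g₂ 1) = 0 →
      (∃ i j, i ≠ j ∧ cpr cs₂ h₂ u (g₂ i) ≠ 0 ∧ cpr cs₂ h₂ u (g₂ j) ≠ 0) → X₂ u ≤ G0 X X₁ X₂ x₁ x₆ y := by
    intro u hu h1 h2
    refine (S.C₂.le_XX S.F (e := fun i => SignType.sign (cpr cs₂ h₂ u (g₂ i)))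
      (fun i hi => absurd (Set.mem_univ i) hi) hu (fun i _ => rfl)).trans ((hXX _ ?_ ?_).trans hL₁)
    · rw [h1, sign_zero]
    · obtain ⟨i, j, hij, hi, hj⟩ := h2
      exact ⟨i, j, hij, fun h => hi (sign_eq_zero_iff.1 h), fun h => hj (sign_eq_zero_iff.1 h)⟩
  set u1 := rep cs₂ h₂ v ((sr 1 : Fin 5 → ℤ) ∘ e₂) with hu1
  set u2 := rep cs₂ h₂ v ((sr 2 : Fin 5 → ℤ) ∘ e₂) with hu2
  have hr : ∀ k : Fin 5, IsRoot cs₂ h₂ (rep cs₂ h₂ v ((sr k : Fin 5 → ℤ) ∘ e₂)) := by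
    intro k
    obtain ⟨i, rfl⟩ := e₂.surjective k
    rw [sr_comp]
    exact (isRoot_sr cs₂ h₂ i).act v
  have t1 : ∀ k : Fin 4, ∑ i, (sr 1 : Fin 5 → ℤ) i * pairing C5 i (gD k) = ![-1, 1, 0, 0] k := by decide
  have t2 : ∀ k : Fin 4, ∑ i, (sr 2 : Fin 5 → ℤ) i * pairing C5 i (gD k) = ![0, 0, -1, -1] k := by decide
  -- the sum of the two
  have hsum : X₂ (u1 + u2) ≤ G0 X X₁ X₂ x₁ x₆ y ∧ X₂ (-(u1 + u2)) ≤ G0 X X₁ X₂ x₁ x₆ y ∧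
      IsRoot cs₂ h₂ (u1 + u2) := by
    have e : u1 + u2 = rep cs₂ h₂ v ((![0, 1, 1, 0, 0] : Fin 5 → ℤ) ∘ e₂) := by
      rw [hu1, hu2, ← map_add]
      congr 1
      funext k
      have : ∀ k : Fin 5, (sr 1 : Fin 5 → ℤ) k + (sr 2 : Fin 5 → ℤ) k = (![0, 1, 1, 0, 0] : Fin 5 → ℤ) k := by decide
      exact this (e₂ k)
    have h1 : IsRoot cs₂ h₂ (u1 + u2) := by rw [e]; exact (isRoot_full' e₂ hA₂).act v
    have h2 : ∀ k, cpr cs₂ h₂ (u1 + u2) (g₂ k) ≠ 0 := by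
      intro k
      rw [e, hcp]
      exact full_gD (f k)
    refine ⟨full_le S h1 h2, full_le S h1.neg fun k => ?_, h1⟩
    rw [cpr_neg cs₂ h₂ _ (hg k)]
    exact neg_ne_zero.2 (h2 k)
  have hc12 : cpr cs₂ h₂ u1 u2 = -1 ∧ cpr cs₂ h₂ u2 u1 = -1 := by
    obtain ⟨i, hi⟩ := e₂.surjective 1
    obtain ⟨j, hj⟩ := e₂.surjective 2
    have a1 : u1 = rep cs₂ h₂ v (sr i) := by rw [hu1, ← hi, sr_comp]
    have a2 : u2 = rep cs₂ h₂ v (sr j) := by rw [hu2, ← hj, sr_comp]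
    rw [a1, a2, cpr_rep cs₂ h₂ v _ (isRoot_sr cs₂ h₂ j), cpr_rep cs₂ h₂ v _ (isRoot_sr cs₂ h₂ i), cpr_sr, cpr_sr,
      ZFam.pairing_sr', ZFam.pairing_sr', hA₂, hA₂, hi, hj]
    exact ⟨by decide, by decide⟩
  -- one of the two is in `L₁`, so both are in `G₀`
  have hstep : ∀ {a b : I₂ → ℤ}, IsRoot cs₂ h₂ a → IsRoot cs₂ h₂ b → IsRoot cs₂ h₂ (a + b) →
      cpr cs₂ h₂ b a = -1 → X₂ a ≤ G0 X X₁ X₂ x₁ x₆ y → X₂ (-a) ≤ G0 X X₁ X₂ x₁ x₆ y →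
      X₂ (a + b) ≤ G0 X X₁ X₂ x₁ x₆ y → X₂ (-(a + b)) ≤ G0 X X₁ X₂ x₁ x₆ y →
      X₂ b ≤ G0 X X₁ X₂ x₁ x₆ y ∧ X₂ (-b) ≤ G0 X X₁ X₂ x₁ x₆ y := by
    intro a b ha hb hab hc ha1 ha2 hab1 hab2
    have c1 : cpr cs₂ h₂ (a + b) a = 1 := by
      rw [cpr_add cs₂ h₂ _ _ ha, cpr_self cs₂ h₂ ha, hc]; norm_num
    constructor
    · have h1 := refl_le S.C₂.rgd ha hab ha1 ha2 hab1
      rw [c1] at h1
      convert h1 using 2
      module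
    · have h1 := refl_le S.C₂.rgd ha hab.neg ha1 ha2 hab2
      rw [cpr_neg cs₂ h₂ _ ha, c1] at h1
      convert h1 using 2
      module
  have hboth : (X₂ u1 ≤ G0 X X₁ X₂ x₁ x₆ y ∧ X₂ (-u1) ≤ G0 X X₁ X₂ x₁ x₆ y) ∧
      (X₂ u2 ≤ G0 X X₁ X₂ x₁ x₆ y ∧ X₂ (-u2) ≤ G0 X X₁ X₂ x₁ x₆ y) := by
    obtain ⟨s1, s2, s3⟩ := hsum
    by_cases h1 : f 1 = 0 ∨ f 1 = 1
    · -- `u2` has support of size two not containing `1`
      obtain ⟨i, hi⟩ := hfs 2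
      obtain ⟨j, hj⟩ := hfs 3
      have hij : i ≠ j := by rintro rfl; rw [hi] at hj; exact absurd hj (by decide)
      have c0 : cpr cs₂ h₂ u2 (g₂ 1) = 0 := by
        rw [hu2, hcp, t2]
        rcases h1 with h1 | h1 <;> rw [h1] <;> rfl
      have ci : cpr cs₂ h₂ u2 (g₂ i) ≠ 0 := by rw [hu2, hcp, t2, hi]; decide
      have cj : cpr cs₂ h₂ u2 (g₂ j) ≠ 0 := by rw [hu2, hcp, t2, hj]; decide
      have d1 := hsup (hr 2) c0 ⟨i, j, hij, ci, cj⟩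
      have d2 := hsup (hr 2).neg (by rw [cpr_neg cs₂ h₂ _ (hg 1)]; rw [c0, neg_zero])
        ⟨i, j, hij, by rw [cpr_neg cs₂ h₂ _ (hg i)]; exact neg_ne_zero.2 ci,
          by rw [cpr_neg cs₂ h₂ _ (hg j)]; exact neg_ne_zero.2 cj⟩
      rw [add_comm] at s1 s2 s3
      exact ⟨hstep (hr 2) (hr 1) s3 hc12.1 d1 d2 s1 s2, d1, d2⟩
    · obtain ⟨i, hi⟩ := hfs 0
      obtain ⟨j, hj⟩ := hfs 1
      have hij : i ≠ j := by rintro rfl; rw [hi] at hj; exact absurd hj (by decide)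
      have c0 : cpr cs₂ h₂ u1 (g₂ 1) = 0 := by
        rw [hu1, hcp, t1]
        generalize f 1 = k at h1
        match k with
        | 0 => exact absurd (Or.inl rfl) h1
        | 1 => exact absurd (Or.inr rfl) h1
        | 2 => rfl
        | 3 => rfl
      have ci : cpr cs₂ h₂ u1 (g₂ i) ≠ 0 := by rw [hu1, hcp, t1, hi]; decide
      have cj : cpr cs₂ h₂ u1 (g₂ j) ≠ 0 := by rw [hu1, hcp, t1, hj]; decide
      have d1 := hsup (hr 1) c0 ⟨i, j, hij, ci, cj⟩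
      have d2 := hsup (hr 1).neg (by rw [cpr_neg cs₂ h₂ _ (hg 1)]; rw [c0, neg_zero])
        ⟨i, j, hij, by rw [cpr_neg cs₂ h₂ _ (hg i)]; exact neg_ne_zero.2 ci,
          by rw [cpr_neg cs₂ h₂ _ (hg j)]; exact neg_ne_zero.2 cj⟩
      exact ⟨⟨d1, d2⟩, hstep (hr 1) (hr 2) s3 hc12.2 d1 d2 s1 s2⟩
  refine hL.trans (RGD.Sup_le fun x hx => gen_of_base S.C₂.rgd v (fun j => ?_) x hx)
  obtain ⟨k, rfl⟩ := e₂.symm.surjective j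
  have ek : (sr (e₂.symm k) : I₂ → ℤ) = (sr k : Fin 5 → ℤ) ∘ e₂ := by
    conv_rhs => rw [← e₂.apply_symm_apply k]
    rw [sr_comp]
  rw [ek]
  have hfr : ∀ l : Fin 4, X₂ (rep cs₂ h₂ v (gD l ∘ e₂)) ≤ G0 X X₁ X₂ x₁ x₆ y ∧
      X₂ (-rep cs₂ h₂ v (gD l ∘ e₂)) ≤ G0 X X₁ X₂ x₁ x₆ y := by
    intro l
    obtain ⟨i, rfl⟩ := hfs l
    rw [hv i]
    exact g2_le S i
  match k with
  | 0 => exact hfr 0
  | 1 => exact hboth.1
  | 2 => exact hboth.2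
  | 3 => exact hfr 2
  | 4 => exact hfr 3

end Inp

end Cfsg.Agent.Cit.TypeESixGamma
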