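import Mathlib
import Cfsg.Agent.Cit.TypeESixGamma
import Cfsg.Agent.Cit.FrameProv
import Cfsg.Agent.Cit.FrameOfFr
import Cfsg.Agent.Nodes.TyChart
import Cfsg.Agent.Nodes.ZRel

/-!
Type `E₆` (project CIT, (3b)), end: the chart of type `E₆` from the typed pieces.

Input: a frame `K 0, …, K 3` = `Om(S)`, `SL(2, F)`; the piece `L₁ = Δ_1` of `C(z_1)` with an adapted chart of type `A₅`
containing `K 0`, `K 2`, `K 3`; the piece `L₂ = Γ_01` of `C(z_0 z_1)` with an adapted chart of type `D₅` containing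
all `K i`.

* `exists_chart` : a chart of type `E₆` of a subgroup `G₀` containing `L₁`, `L₂`, all `K i`, all `Δ_i`, and `G₀` is
  generated by the sign groups (the input of `FrameClose.frame_close`).
-/

set_option autoImplicit false
set_option linter.unusedSectionVars false

namespace Cfsg.Agent.Cit.TypeESixEnd

open CoxeterSystem Cfsg.Agent.ChevalleyStructure.CoxeterGeom Cfsg.Agent.Tits.Roots Cfsg.Agent.Tits.Core
  Cfsg.Agent.Nodes.Reps Cfsg.Agent.Nodes.BNOf Cfsg.Agent.Nodes.Coroot Cfsg.Agent.Nodes.PairOf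
  Cfsg.Agent.Nodes.Bruhat Cfsg.Agent.Nodes.RGDLib Cfsg.Agent.Nodes.Chart Cfsg.Agent.Nodes.ChartOfCls
  Cfsg.Agent.Nodes.SimplyLaced Cfsg.Agent.Cit.FrameSign Cfsg.Agent.Cit.NodeGlue Cfsg.Agent.RootAmalgam
  Cfsg.Agent.Cit.TypeESix Cfsg.Agent.Cit.TypeESixGen Cfsg.Agent.Cit.TypeESixInp
  Cfsg.Agent.Cit.FrameOf Cfsg.Agent.Cit.FrameOfFr Cfsg.Agent.Cit.FrameProv Cfsg.Agent.Cit.FrameClose

universe u

variable {G : Type u} [Group G]

/-! ### The commuting pairs of nodes -/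

section Comm

variable {K : Fin 4 → Subgroup G} {z : Fin 4 → G} {X Q : Fin 4 → SignType → Subgroup G} {p : ℕ}
  {I₁ W₁ : Type*} [Fintype I₁] [DecidableEq I₁] [Group W₁] {M₁ : CoxeterMatrix I₁} {cs₁ : CoxeterSystem M₁ W₁}
  {A₁ : I₁ → I₁ → ℤ} {h₁ : IsCartan M₁ A₁} {L₁ T₁ : Subgroup G} {n₁ : I₁ → G} {X₁ : (I₁ → ℤ) → Subgroup G}
  {ell₁ : Fin 4 → (I₁ → ℤ) →+ ℤ} {g₁ : Fin 4 → I₁ → ℤ}
  {I₂ W₂ : Type*} [Fintype I₂] [DecidableEq I₂] [Group W₂] {M₂ : CoxeterMatrix I₂} {cs₂ : CoxeterSystem M₂ W₂}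
  {A₂ : I₂ → I₂ → ℤ} {h₂ : IsCartan M₂ A₂} {L₂ T₂ : Subgroup G} {n₂ : I₂ → G} {X₂ : (I₂ → ℤ) → Subgroup G}
  {ell₂ : Fin 4 → (I₂ → ℤ) →+ ℤ} {g₂ : Fin 4 → I₂ → ℤ} {x₁ x₆ : I₁ → ℤ} {y : I₂ → ℤ}

/-- orthogonal nodes commute -/
theorem cm (S : Inp K z X Q p cs₁ h₁ L₁ T₁ n₁ X₁ ell₁ g₁ cs₂ h₂ L₂ T₂ n₂ X₂ ell₂ g₂ x₁ x₆ y) [Finite G]
    [Finite W₁] [Finite W₂] (i j : Fin 6) (hij : i ≠ j) (hm : CoxeterMatrix.E₆ i j = 2) :
    CM (Xs X X₁ X₂ x₁ x₆ y) (Xn X X₁ X₂ x₁ x₆ y) i j := by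
  have c1y := S.comm_y S.r1 (k := 2) (by decide) (by decide) S.p10 S.p12 (fun i h0 h1 h2 => by
    have : i = 3 := by omega
    rw [this]; exact S.p13)
  have c6y := S.comm_y S.r6 (k := 3) (by decide) (by decide) S.p60 S.p63 (fun i h0 h1 h2 => by
    have : i = 2 := by omega
    rw [this]; exact S.p62)
  have c01 : CM (Xs X X₁ X₂ x₁ x₆ y) (Xn X X₁ X₂ x₁ x₆ y) 0 1 := S.comm_K1 S.r1
  have c03 : CM (Xs X X₁ X₂ x₁ x₆ y) (Xn X X₁ X₂ x₁ x₆ y) 0 3 := c1y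
  have c04 : CM (Xs X X₁ X₂ x₁ x₆ y) (Xn X X₁ X₂ x₁ x₆ y) 0 4 := S.comm_Kk S.r1 (k := 3) (by decide) S.p13
  have c05 : CM (Xs X X₁ X₂ x₁ x₆ y) (Xn X X₁ X₂ x₁ x₆ y) 0 5 := S.comm_16
  have c12 : CM (Xs X X₁ X₂ x₁ x₆ y) (Xn X X₁ X₂ x₁ x₆ y) 1 2 := S.comm_frame (i := 1) (j := 2) (by decide)
  have c14 : CM (Xs X X₁ X₂ x₁ x₆ y) (Xn X X₁ X₂ x₁ x₆ y) 1 4 := S.comm_frame (i := 1) (j := 3) (by decide)
  have c15 : CM (Xs X X₁ X₂ x₁ x₆ y) (Xn X X₁ X₂ x₁ x₆ y) 1 5 := Inp.symm_comm (S.comm_K1 S.r6)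
  have c24 : CM (Xs X X₁ X₂ x₁ x₆ y) (Xn X X₁ X₂ x₁ x₆ y) 2 4 := S.comm_frame (i := 2) (j := 3) (by decide)
  have c25 : CM (Xs X X₁ X₂ x₁ x₆ y) (Xn X X₁ X₂ x₁ x₆ y) 2 5 :=
    Inp.symm_comm (S.comm_Kk S.r6 (k := 2) (by decide) S.p62)
  have c35 : CM (Xs X X₁ X₂ x₁ x₆ y) (Xn X X₁ X₂ x₁ x₆ y) 3 5 := Inp.symm_comm c6y
  have key : ∀ i j : Fin 6, i < j → CoxeterMatrix.E₆ i j = 2 →
      CM (Xs X X₁ X₂ x₁ x₆ y) (Xn X X₁ X₂ x₁ x₆ y) i j := by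
    intro i j hij hm
    match i, j, hij, hm with
    | 0, 1, _, _ => exact c01
    | 0, 2, _, hm => exact absurd hm (by decide)
    | 0, 3, _, _ => exact c03
    | 0, 4, _, _ => exact c04
    | 0, 5, _, _ => exact c05
    | 1, 2, _, _ => exact c12
    | 1, 3, _, hm => exact absurd hm (by decide)
    | 1, 4, _, _ => exact c14
    | 1, 5, _, _ => exact c15
    | 2, 3, _, hm => exact absurd hm (by decide)
    | 2, 4, _, _ => exact c24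
    | 2, 5, _, _ => exact c25
    | 3, 4, _, hm => exact absurd hm (by decide)
    | 3, 5, _, _ => exact c35
    | 4, 5, _, hm => exact absurd hm (by decide)
    | 5, j, h5, _ => exact absurd h5 (by omega)
  rcases lt_or_gt_of_ne hij with h | h
  · exact key i j h hm
  · exact Inp.symm_comm (key j i h (by rw [CoxeterMatrix.symmetric]; exact hm))

end Comm

/-! ### Simply laced typed charts -/

section Typed

variable [Finite G] {Om : Set (Subgroup G)} {p : ℕ} {L : Subgroup G}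

/-- simply laced types -/
def SLTy (τ : Ty) : Prop := (∀ i, τ.long i) ∧ ∀ i j, τ.M i j ≠ 4 ∧ τ.M i j ≠ 6

theorem cA_ne (n : ℕ) (i j : Fin n) :
    LieRecognition.BNCox.cA n i j ≠ 4 ∧ LieRecognition.BNCox.cA n i j ≠ 6 := by
  rw [LieRecognition.BNCox.cA_apply]
  unfold LieRecognition.CoxClass.mA
  split_ifs <;> decide

theorem mD_ne (n : ℕ) (i j : Fin (n + 2)) : Nodes.TypeD.M n i j ≠ 4 ∧ Nodes.TypeD.M n i j ≠ 6 := by
  rw [Nodes.TypeD.M_apply]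
  split_ifs <;> decide

theorem slTy_A (n : ℕ) : SLTy (Ty.A n) := ⟨fun _ => trivial, cA_ne n⟩

theorem slTy_D (n : ℕ) : SLTy (Ty.D n) := ⟨fun _ => trivial, mD_ne (n - 2)⟩

variable (c : Chart Om p L) {τ : Ty} (ht : c.IsTy τ) (hτ : SLTy τ)

include ht hτ

/-- all roots of a simply laced typed chart are classical -/
theorem mem_R_of_isTy {x : c.I → ℤ} (hx : IsRoot c.cs c.h x) : x ∈ c.R := by
  obtain ⟨e, -, he⟩ := ht
  obtain ⟨w, i, rfl⟩ := hx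
  exact c.cls.act _ ((he i).2 (hτ.1 _)) w

theorem M_ne (i j : c.I) : c.M i j ≠ 4 ∧ c.M i j ≠ 6 := by
  obtain ⟨e, he, -⟩ := ht
  rw [c.M_apply he]
  exact hτ.2 _ _

theorem z_ne_one (h2 : 2 ≤ τ.rk) : ∀ r ∈ c.R, c.z r ≠ 1 := by
  intro r hr
  have hnt : Nontrivial c.I := Fintype.one_lt_card_iff_nontrivial.1 (by rw [ht.card]; exact h2)
  obtain ⟨y, hy, h1, h2, h3⟩ := exists_not_orth c hnt (c.cls.root r hr)
  exact Nodes.StdConn.z_ne_one c.cls c.prime c.odd hr hy h1 h2 h3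

/-- `Z r = X r` in simply laced typed charts of rank at least two -/
theorem Z_eq_X (hyp : Hyp Om) (h2 : 2 ≤ τ.rk) : ∀ r ∈ c.R, c.Z r = c.X r := by
  intro r hr
  have hnt : Nontrivial c.I := Fintype.one_lt_card_iff_nontrivial.1 (by rw [ht.card]; exact h2)
  have hz := z_ne_one c ht hτ h2
  have hrr := c.cls.root r hr
  obtain ⟨y, hy, h3, h4, h5⟩ := exists_not_orth c hnt hrr
  have hu : Nodes.ZRel.Uniq c.R c.Z c.z := by
    intro r hr x hx h6 h7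
    rw [hyp.eq_zz (c.om r hr) hx h6 h7, Nodes.StdConn.zz_eq hyp c hr (hz r hr)]
  have hM4 : ∀ i j, c.M i j ≠ 4 := fun i j => (M_ne c ht hτ i j).1
  have hM6 : ∀ i j, c.M i j ≠ 6 := fun i j => (M_ne c ht hτ i j).2
  have h6 := abs_cpr_le_one c.cs c.h hM4 hM6 hy hrr h3 h4
  have h7 := cpr_symm c.cs c.h hM4 hM6 hrr hy
  have h8 : cpr c.cs c.h y r ≠ 0 := fun h0 => h5 ((cpr_zero_iff c.cs c.h y hrr).1 h0)
  refine (Nodes.ZRel.X_eq_Z c.cls c.prime c.odd hu hr (mem_R_of_isTy c ht hτ hy) h3 h4 ?_).symm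
  rw [h7]
  rw [abs_le] at h6
  have h9 : cpr c.cs c.h y r = 1 ∨ cpr c.cs c.h y r = -1 := by omega
  rcases h9 with h9 | h9 <;> rw [h9] <;> norm_num

/-- a group with a chart containing a member `K` of `Om` does not centralise `zz K` -/
theorem not_le_of_comm (hyp : Hyp Om) (h2 : 2 ≤ τ.rk) {K : Subgroup G} (hK : K ∈ Om)
    (hc : ∀ a ∈ L, a * zz K = zz K * a) : ¬ K ≤ L := by
  intro hKL
  have hnt : Nontrivial c.I := Fintype.one_lt_card_iff_nontrivial.1 (by rw [ht.card]; exact h2)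
  obtain ⟨r, hr, g, hg, h1⟩ := c.om_conj K hK hKL
  have hz := z_ne_one c ht hτ h2 r hr
  have hrr := c.cls.root r hr
  obtain ⟨y, hy, h3, h4, h5⟩ := exists_not_orth c hnt hrr
  -- `z r` is conjugate to `zz K`, so it centralises `L`
  have h6 : zz K = g * c.z r * g⁻¹ := by
    symm
    refine hyp.eq_zz hK ?_ ?_ ?_
    · rw [h1]; exact conj_mem_cj (c.cls.z_mem r hr)
    · have := c.cls.z_sq r hr
      calc g * c.z r * g⁻¹ * (g * c.z r * g⁻¹) = g * (c.z r * c.z r) * g⁻¹ := by group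
        _ = 1 := by rw [this]; group
    · intro h0
      exact hz (conj_eq_one_iff.1 h0)
  have h7 : ∀ a ∈ L, a * c.z r = c.z r * a := by
    intro a ha
    have h8 := hc (g * a * g⁻¹) (mul_mem (mul_mem hg ha) (inv_mem hg))
    rw [h6] at h8
    calc a * c.z r = g⁻¹ * (g * a * g⁻¹ * (g * c.z r * g⁻¹)) * g := by group
      _ = g⁻¹ * (g * c.z r * g⁻¹ * (g * a * g⁻¹)) * g := by rw [h8]
      _ = c.z r * a := by group
  apply Nodes.StdConn.X_ne_bot c.cls hy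
  rw [Subgroup.eq_bot_iff_forall]
  intro a ha
  apply Nodes.ZRel.eq_one_of_inv c.cls c.prime c.odd hy ha
  have h8 := c.cls.z_inv r hr y hy h3 h4 h5 a ha
  rw [← h7 a (FrameOf.X_le c hy ha), mul_assoc, c.cls.z_sq r hr, mul_one] at h8
  exact h8

end Typed

/-! ### The chart -/

variable [Finite G] {Om : Set (Subgroup G)} {F : Type*} [Field F] [Fintype F] {p : ℕ} [CharP F p]
  {K : Fin 4 → Subgroup G} {X : Fin 4 → SignType → Subgroup G}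

/-- **The chart of type `E₆`.** -/
theorem exists_chart_aux {W : Type} [Group W] [Fintype W] (cs : CoxeterSystem CoxeterMatrix.E₆ W)
    (D : Dat Om F K X) (hF : Odd (Fintype.card F)) (hg : ∀ i, Good p (X i 1) (zz (K i)))
    (S : Sylow 2 G) (hS : Set.range K = OmS Om (S : Subgroup G)) {L₁ L₂ : Subgroup G}
    (P₁ : Piece Om (zz (K 1)) L₁) (c₁ : Chart Om p L₁) {g₁ : Fin 4 → c₁.I → ℤ} (hA₁ : Adapted K X c₁ g₁)
    (ht₁ : c₁.IsTy (Ty.A 5)) (hK₁ : ∀ i, i ≠ 1 → K i ≤ L₁)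
    (P₂ : Piece Om (zz (K 0) * zz (K 1)) L₂) (c₂ : Chart Om p L₂) {g₂ : Fin 4 → c₂.I → ℤ}
    (hA₂ : Adapted K X c₂ g₂) (ht₂ : c₂.IsTy (Ty.D 5)) (hK₂ : ∀ i, K i ≤ L₂) :
    ∃ (G₀ : Subgroup G) (c : Chart Om p G₀), c.IsTy Ty.E6 ∧ (∀ r ∈ c.R, c.Z r = c.X r) ∧ L₁ ≤ G₀ ∧ L₂ ≤ G₀ ∧
      (∀ i, K i ≤ G₀) ∧ (∀ i, delta Om (K i) ≤ G₀) ∧
      G₀ = ⨆ e : {e : Fin 4 → SignType // e ≠ 0}, XX (QF K X) e.1 := by
  have Fr := frame_of D hF hg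
  have hp : Fact p.Prime := ⟨c₁.prime⟩
  have hK11 : ¬ K 1 ≤ L₁ := not_le_of_comm c₁ ht₁ (slTy_A 5) D.hyp (by decide) (D.mem 1) P₁.le
  have hout₁ : ∀ i, ¬ K i ≤ L₁ → ∀ a ∈ L₁, ∀ b ∈ K i, a * b = b * a := by
    intro i hi
    have : i = 1 := by by_contra hne; exact hi (hK₁ i hne)
    subst this
    rcases P₁.mem (K 1) (D.mem 1) (fun a ha => (Fr.z_cent 1 a ha).symm) with h1 | h1
    · exact absurd h1 hK11
    · exact h1
  have hZ₁ := Z_eq_X c₁ ht₁ (slTy_A 5) D.hyp (by decide)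
  have hZ₂ := Z_eq_X c₂ ht₂ (slTy_D 5) D.hyp (by decide)
  have C₁ := frChart_of_adapted c₁ D hF hg hA₁ hZ₁ hout₁
  have hD₁ : {i | K i ≤ L₁} = {i : Fin 4 | i ≠ 1} := by
    ext i
    exact ⟨fun h => by rintro rfl; exact hK11 h, fun h => hK₁ i h⟩
  rw [hD₁] at C₁
  have C₂ := frChart_of_adapted c₂ D hF hg hA₂ hZ₂ (fun i hi => absurd (hK₂ i) hi)
  have hD₂ : {i | K i ≤ L₂} = (Set.univ : Set (Fin 4)) := by
    ext i
    exact ⟨fun _ => Set.mem_univ i, fun _ => hK₂ i⟩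
  rw [hD₂] at C₂
  obtain ⟨e₁, he₁, -⟩ := id ht₁
  obtain ⟨e₂, he₂, -⟩ := id ht₂
  obtain ⟨x₁, x₆, y, w, I, hb⟩ := exists_inp Fr C₁ e₁ he₁ C₂ e₂ he₂
  set G₀ := G0 X c₁.X c₂.X x₁ x₆ y with hG₀
  have hKG : ∀ i, K i ≤ G₀ := TypeESixGen.Inp.K_le I
  have hL₁ : L₁ ≤ G₀ := TypeESixGen.Inp.L1_le I w hb c₁.gen.ge
  have hXX : ∀ e : Fin 4 → SignType, e 1 = 0 → (∃ i j, i ≠ j ∧ e i ≠ 0 ∧ e j ≠ 0) → XX (QF K X) e ≤ L₁ := by
    rintro e h1 ⟨i, -, -, hi, -⟩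
    exact XX_le_zero D Fr P₁ h1 hi (hK₁ i (by rintro rfl; exact hi h1))
  have hL₂ : L₂ ≤ G₀ := TypeESixGamma.Inp.L2_le I e₂ he₂ hL₁ hXX c₂.gen.ge
  have hd1 : delta Om (K 1) ≤ L₁ := delta_le D.hyp S hS P₁ hK₁
  have hΔ : ∀ l, delta Om (K l) ≤ G₀ := by
    intro l
    obtain ⟨c, hc, e⟩ := TypeESixGen.Inp.exists_conj_frame I 1 l
    have e' : Cit.cj c (K 1) = K l := e
    rw [← e', ← cj_delta D.hyp.conj]
    exact cj_le_of_mem hc (hd1.trans hL₁)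
  -- the chart
  have at1 : ∀ {l : Prop} {x : c₁.I → ℤ}, IsRoot c₁.cs c₁.h x → At c₁ (c₁.X x) (c₁.X (-x)) l x := by
    intro l x hx
    have hR := mem_R_of_isTy c₁ ht₁ (slTy_A 5) hx
    exact ⟨hx, rfl, rfl, fun _ => ⟨hR, hZ₁ x hR⟩⟩
  have at2 : ∀ {l : Prop} {x : c₂.I → ℤ}, IsRoot c₂.cs c₂.h x → At c₂ (c₂.X x) (c₂.X (-x)) l x := by
    intro l x hx
    have hR := mem_R_of_isTy c₂ ht₂ (slTy_D 5) hx
    exact ⟨hx, rfl, rfl, fun _ => ⟨hR, hZ₂ x hR⟩⟩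
  have atk1 : ∀ {l : Prop} (k : Fin 4), k ≠ 1 → At c₁ (X k 1) (X k (-1)) l (g₁ k) := by
    intro l k hk
    rw [← C₁.pos k hk, ← C₁.neg k hk]
    exact at1 (C₁.root k hk)
  have atk2 : ∀ {l : Prop} (k : Fin 4), At c₂ (X k 1) (X k (-1)) l (g₂ k) := by
    intro l k
    rw [← C₂.pos k (Set.mem_univ k), ← C₂.neg k (Set.mem_univ k)]
    exact at2 (C₂.root k (Set.mem_univ k))
  have hM1 : ∀ i j, c₁.M i j ≠ 4 ∧ c₁.M i j ≠ 6 := M_ne c₁ ht₁ (slTy_A 5)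
  have hM2 : ∀ i j, c₂.M i j ≠ 4 ∧ c₂.M i j ≠ 6 := M_ne c₂ ht₂ (slTy_D 5)
  have s1 : ∀ {x v : c₁.I → ℤ}, IsRoot c₁.cs c₁.h x → IsRoot c₁.cs c₁.h v → cpr c₁.cs c₁.h x v = -1 →
      cpr c₁.cs c₁.h v x = -1 := fun hx hv h0 => by
    rw [cpr_symm c₁.cs c₁.h (fun i j => (hM1 i j).1) (fun i j => (hM1 i j).2) hv hx, h0]
  have s2 : ∀ {x v : c₂.I → ℤ}, IsRoot c₂.cs c₂.h x → IsRoot c₂.cs c₂.h v → cpr c₂.cs c₂.h x v = -1 →
      cpr c₂.cs c₂.h v x = -1 := fun hx hv h0 => by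
    rw [cpr_symm c₂.cs c₂.h (fun i j => (hM2 i j).1) (fun i j => (hM2 i j).2) hv hx, h0]
  have r2 : ∀ k, IsRoot c₂.cs c₂.h (g₂ k) := fun k => C₂.root k (Set.mem_univ k)
  have r1 : ∀ k, k ≠ 1 → IsRoot c₁.cs c₁.h (g₁ k) := fun k hk => C₁.root k hk
  have key : ∀ i j : Fin 6, i < j → CoxeterMatrix.E₆ i j ≠ 2 →
      Plane CoxeterMatrix.E₆ Ty.E6.cartan Om p (Xs X c₁.X c₂.X x₁ x₆ y) (Xn X c₁.X c₂.X x₁ x₆ y) Ty.E6.long i j := by
    intro i j hij hm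
    match i, j, hij, hm with
    | 0, 1, _, hm => exact absurd (by decide) hm
    | 0, 2, _, _ => exact ⟨L₁, c₁, x₁, g₁ 2, at1 I.r1, atk1 2 (by decide), s1 I.r1 (r1 2 (by decide)) I.p12, I.p12,
        fun _ a b => (hM1 a b).2⟩
    | 0, 3, _, hm => exact absurd (by decide) hm
    | 0, 4, _, hm => exact absurd (by decide) hm
    | 0, 5, _, hm => exact absurd (by decide) hm
    | 1, 2, _, hm => exact absurd (by decide) hm
    | 1, 3, _, _ => exact ⟨L₂, c₂, g₂ 1, y, atk2 1, at2 I.ry, I.y1, s2 I.ry (r2 1) I.y1, fun _ a b => (hM2 a b).2⟩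
    | 1, 4, _, hm => exact absurd (by decide) hm
    | 1, 5, _, hm => exact absurd (by decide) hm
    | 2, 3, _, _ => exact ⟨L₂, c₂, g₂ 2, y, atk2 2, at2 I.ry, I.y2, s2 I.ry (r2 2) I.y2, fun _ a b => (hM2 a b).2⟩
    | 2, 4, _, hm => exact absurd (by decide) hm
    | 2, 5, _, hm => exact absurd (by decide) hm
    | 3, 4, _, _ => exact ⟨L₂, c₂, y, g₂ 3, at2 I.ry, atk2 3, s2 I.ry (r2 3) I.y3, I.y3, fun _ a b => (hM2 a b).2⟩
    | 3, 5, _, hm => exact absurd (by decide) hm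
    | 4, 5, _, _ => exact ⟨L₁, c₁, g₁ 3, x₆, atk1 3 (by decide), at1 I.r6, I.p63,
        s1 I.r6 (r1 3 (by decide)) I.p63, fun _ a b => (hM1 a b).2⟩
    | 5, j, h5, _ => exact absurd h5 (by omega)
  have key2 : ∀ i j : Fin 6, i ≠ j → CoxeterMatrix.E₆ i j ≠ 2 →
      Plane CoxeterMatrix.E₆ Ty.E6.cartan Om p (Xs X c₁.X c₂.X x₁ x₆ y) (Xn X c₁.X c₂.X x₁ x₆ y) Ty.E6.long i j ∨
      Plane CoxeterMatrix.E₆ Ty.E6.cartan Om p (Xs X c₁.X c₂.X x₁ x₆ y) (Xn X c₁.X c₂.X x₁ x₆ y) Ty.E6.long j i := by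
    intro i j hij hm
    rcases lt_or_gt_of_ne hij with h | h
    · exact Or.inl (key i j h hm)
    · exact Or.inr (key j i h (by rw [CoxeterMatrix.symmetric]; exact hm))
  obtain ⟨c, -, -, -, hc, -, -, hZc⟩ := exists_isTy (τ := Ty.E6) trivial (by decide) cs c₁.prime c₁.odd D.hyp S
    (Xs X c₁.X c₂.X x₁ x₆ y) (Xn X c₁.X c₂.X x₁ x₆ y) (cm I) key2
    (fun J hJ => by
      rw [← hS] at hJ
      obtain ⟨k, rfl⟩ := hJ
      exact ⟨L₂, c₂, (3 : Fin 6), y, trivial, at2 I.ry, hL₂, hK₂ k⟩)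
  refine ⟨G₀, c, hc, hZc, hL₁, hL₂, hKG, hΔ, ?_⟩
  -- the sign groups
  apply le_antisymm
  · have hle : ∀ e : Fin 4 → SignType, e ≠ 0 →
        XX (QF K X) e ≤ ⨆ e : {e : Fin 4 → SignType // e ≠ 0}, XX (QF K X) e.1 := fun e he =>
      le_iSup (fun e : {e : Fin 4 → SignType // e ≠ 0} => XX (QF K X) e.1) ⟨e, he⟩
    have n1 : ∀ x, IsRoot c₁.cs c₁.h x → cpr c₁.cs c₁.h x (g₁ 0) ≠ 0 →
        c₁.X x ≤ ⨆ e : {e : Fin 4 → SignType // e ≠ 0}, XX (QF K X) e.1 := by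
      intro x hx h0
      let e : Fin 4 → SignType := fun i => if i = 1 then 0 else SignType.sign (cpr c₁.cs c₁.h x (g₁ i))
      have he0 : e ≠ 0 := fun h => by
        have h1 := congrFun h 0
        have h2 : e 0 = SignType.sign (cpr c₁.cs c₁.h x (g₁ 0)) := if_neg (by decide)
        rw [h2] at h1
        exact h0 (sign_eq_zero_iff.1 h1)
      refine (C₁.le_XX Fr (e := e) (fun i hi => ?_) hx (fun i hi => ?_)).trans (hle e he0)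
      · have : i = 1 := by by_contra hne; exact hi hne
        exact if_pos this
      · exact (if_neg hi).symm
    have n2 : ∀ x, IsRoot c₂.cs c₂.h x → cpr c₂.cs c₂.h x (g₂ 0) ≠ 0 →
        c₂.X x ≤ ⨆ e : {e : Fin 4 → SignType // e ≠ 0}, XX (QF K X) e.1 := by
      intro x hx h0
      refine (C₂.le_XX Fr (e := fun i => SignType.sign (cpr c₂.cs c₂.h x (g₂ i)))
        (fun i hi => absurd (Set.mem_univ i) hi) hx (fun i _ => rfl)).trans (hle _ fun h => ?_)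
      exact h0 (sign_eq_zero_iff.1 (congrFun h 0))
    have nk : ∀ (k : Fin 4) (s : SignType), s ≠ 0 →
        X k s ≤ ⨆ e : {e : Fin 4 → SignType // e ≠ 0}, XX (QF K X) e.1 := by
      intro k s hs
      refine (X_le_XX Fr (k := k) hs (e := fun i => if i = k then s else 0) (if_pos rfl)
        (fun i hi => if_neg hi)).trans (hle _ fun h => hs ?_)
      have := congrFun h k
      rwa [if_pos rfl] at this
    have hm1 : (-1 : SignType) ≠ 0 := by decide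
    have h1p : (1 : SignType) ≠ 0 := by decide
    have e1 : cpr c₁.cs c₁.h (-x₁) (g₁ 0) ≠ 0 := by
      rw [cpr_neg c₁.cs c₁.h _ (r1 0 (by decide)), I.p10]; norm_num
    have e6 : cpr c₁.cs c₁.h (-x₆) (g₁ 0) ≠ 0 := by
      rw [cpr_neg c₁.cs c₁.h _ (r1 0 (by decide)), I.p60]; norm_num
    have ey : cpr c₂.cs c₂.h (-y) (g₂ 0) ≠ 0 := by
      rw [cpr_neg c₂.cs c₂.h _ (r2 0), I.y0]; norm_num
    refine iSup_le fun i => sup_le ?_ ?_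
    · match i with
      | 0 => exact n1 _ I.r1 (by rw [I.p10]; norm_num)
      | 1 => exact nk 1 1 h1p
      | 2 => exact nk 2 1 h1p
      | 3 => exact n2 _ I.ry (by rw [I.y0]; norm_num)
      | 4 => exact nk 3 1 h1p
      | 5 => exact n1 _ I.r6 (by rw [I.p60]; norm_num)
    · match i with
      | 0 => exact n1 _ I.r1.neg e1
      | 1 => exact nk 1 (-1) hm1
      | 2 => exact nk 2 (-1) hm1
      | 3 => exact n2 _ I.ry.neg ey
      | 4 => exact nk 3 (-1) hm1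
      | 5 => exact n1 _ I.r6.neg e6
  · refine iSup_le ?_
    rintro ⟨e, he⟩
    by_cases hex : ∃ l, e l = 0
    · obtain ⟨l, hl⟩ := hex
      obtain ⟨i, hi⟩ : ∃ i, e i ≠ 0 := by
        by_contra hcon
        push Not at hcon
        exact he (funext hcon)
      obtain ⟨d, hd, e''⟩ := TypeESixGen.Inp.exists_conj_frame I 1 l
      have e' : Cit.cj d (K 1) = K l := e''
      have P := FrameProv.Piece.conj D.hyp.conj P₁ d
      rw [FrameClose.zz_cj D.hyp (D.mem 1), e'] at P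
      have hil : i ≠ l := by rintro rfl; exact hi hl
      have hKi : K i ≤ cj d L₁ := by
        refine (le_delta (K := K l) (D.mem i) (fun h => hil (Dat.injective D h)) (D.comm i l hil)).trans ?_
        rw [← e', ← cj_delta D.hyp.conj]
        exact cj_mono d hd1
      exact (XX_le_zero D Fr P hl hi hKi).trans (cj_le_of_mem hd hL₁)
    · push Not at hex
      exact (XX_le' D Fr P₂ (hex 0) (hK₂ 0) (XX_comm_zz Fr (by decide) (hex 0) (hex 1))).trans hL₂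

/-- a group `G₀` containing all `K i` and all `Δ_i` is closed under commuting -/
theorem closed_of_delta {ι : Type*} {K : ι → Subgroup G} (hyp : Hyp Om) (S : Sylow 2 G)
    (hS : Set.range K = OmS Om (S : Subgroup G)) {G₀ : Subgroup G} (hKG : ∀ i, K i ≤ G₀)
    (hΔ : ∀ i, delta Om (K i) ≤ G₀) : ∀ J ∈ Om, J ≤ G₀ → ∀ J' ∈ Om, (∀ a ∈ J, ∀ b ∈ J', a * b = b * a) →
      J' ≤ G₀ := by
  intro J hJ hJG J' hJ' hc
  obtain ⟨g, hg, h1⟩ := exists_cj_mem hyp S (H := G₀) (by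
    intro M hM
    rw [← hS] at hM
    obtain ⟨j, rfl⟩ := hM
    exact hKG j) hJ hJG
  rw [← hS] at h1
  obtain ⟨i, hi⟩ := h1
  have h2 : cj g J' ≤ G₀ := by
    by_cases hne : cj g J' = K i
    · rw [hne]; exact hKG i
    · refine (le_delta (K := K i) (hyp.conj J' hJ' g) hne ?_).trans (hΔ i)
      rw [hi]
      rintro _ ⟨b, hb, rfl⟩ _ ⟨a, ha, rfl⟩
      have h3 := hc a ha b hb
      simp only [MulEquiv.coe_toMonoidHom, MulAut.conj_apply]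
      calc g * b * g⁻¹ * (g * a * g⁻¹) = g * (b * a) * g⁻¹ := by group
        _ = g * (a * b) * g⁻¹ := by rw [h3]
        _ = g * a * g⁻¹ * (g * b * g⁻¹) := by group
  have h3 : J' = cj g⁻¹ (cj g J') := (cj_inv_cj g J').symm
  rw [h3]
  exact cj_le_of_mem (inv_mem hg) h2

/-- **Type `E₆`, final form.**  `L₁ = Δ_1` of type `A₅`, `L₂ = Γ_01` of type `D₅`. -/
theorem exists_chart {F : Type} [Field F] [Fintype F] [CharP F p] {W : Type} [Group W] [Fintype W]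
    (cs : CoxeterSystem CoxeterMatrix.E₆ W) (D : Dat Om F K X) (hF : Odd (Fintype.card F))
    (hg : ∀ i, Good p (X i 1) (zz (K i))) (S : Sylow 2 G) (hS : Set.range K = OmS Om (S : Subgroup G))
    {L₁ L₂ : Subgroup G} (P₁ : Piece Om (zz (K 1)) L₁) (c₁ : Chart Om p L₁) (ht₁ : c₁.IsTy (Ty.A 5))
    (hK₁ : ∀ i, i ≠ 1 → K i ≤ L₁) (P₂ : Piece Om (zz (K 0) * zz (K 1)) L₂) (c₂ : Chart Om p L₂)
    (ht₂ : c₂.IsTy (Ty.D 5)) (hK₂ : ∀ i, K i ≤ L₂) :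
    ∃ (G₀ : Subgroup G) (c : Chart Om p G₀), c.IsTy Ty.E6 ∧ (∀ r ∈ c.R, c.Z r = c.X r) ∧ L₁ ≤ G₀ ∧ L₂ ≤ G₀ ∧
      (∀ i, K i ≤ G₀) ∧ (∀ i, delta Om (K i) ≤ G₀) ∧
      (∀ J ∈ Om, J ≤ G₀ → ∀ J' ∈ Om, (∀ a ∈ J, ∀ b ∈ J', a * b = b * a) → J' ≤ G₀) ∧
      ∀ J ∈ Om, J ≤ G₀ → Subgroup.normalizer (J : Set G) ≤ Subgroup.normalizer (G₀ : Set G) := by
  obtain ⟨y₁, hy₁, g₁, hA₁⟩ := exists_adapted c₁ (z_ne_one c₁ ht₁ (slTy_A 5) (by decide)) D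
  obtain ⟨y₂, hy₂, g₂, hA₂⟩ := exists_adapted c₂ (z_ne_one c₂ ht₂ (slTy_D 5) (by decide)) D
  obtain ⟨G₀, c, hc, hZ, h1, h2, h3, h4, h5⟩ := exists_chart_aux cs D hF hg S hS P₁ _ hA₁ ht₁ hK₁ P₂ _ hA₂ ht₂ hK₂
  refine ⟨G₀, c, hc, hZ, h1, h2, h3, h4, closed_of_delta D.hyp S hS h3 h4, ?_⟩
  exact frame_close D.hyp S (frame_of D hF hg) hS (Dat.injective D) (fun _ => rfl) (q := Fintype.card F)
    (fun i => ⟨F, inferInstance, inferInstance, rfl, let ⟨e, _⟩ := D.sl i; ⟨e⟩⟩)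
    (fun i s hs => D.card_X i hs) (fun i s hs => QF_of_ne K X i hs) h5 h3 h4

end Cfsg.Agent.Cit.TypeESixEnd
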