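import Mathlib
import Cfsg.Agent.Cit.TypeESixEnd
import Cfsg.Agent.Cit.TypeCFin
import Cfsg.Agent.Cit.TypeDet.StdFrame
import Cfsg.Agent.Cit.TypeDet.Local
import Cfsg.Agent.Cit.TBasic
import Cfsg.Agent.Nodes.KindA
import Cfsg.Agent.Nodes.TyStd

/-!
# Four members with different involutions: from the typed pieces to the types (project CIT, S1310)

`K : Fin 4 → Subgroup G` the members of `Om(S)`, with different involutions, `Δ_k = delta Om (K k)` pieces of `C(z_k)` of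
type `C 3`, `A 5` or `A 6`.

* `exists_ne_of_A6` : in a group with a chart of type `A 6` no frame member is determined by the other ones;
* `In4` : the input;
* `out_C4` : (I) and `C 3` : type `C 4`;
* `full_bot` : (I) : the sign groups of full support are trivial (`A 5`, `A 6` : types `A 7`, `A 8`);
* `two_inputs` : (II) : the inputs for `F4`, `E6`.
-/

set_option autoImplicit false
set_option linter.unusedSectionVars false
set_option linter.dupNamespace false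

namespace Cfsg.Agent.Cit.DispFour

open CoxeterSystem Cfsg.Agent.ChevalleyStructure.CoxeterGeom Cfsg.Agent.Tits.Roots Cfsg.Agent.Tits.Core
  Cfsg.Agent.Nodes.Chart Cfsg.Agent.Nodes.TyStd Cfsg.Agent.Nodes Cfsg.Agent.Nodes.Coroot
  Cfsg.Agent.Cit.TypeDet Cfsg.Agent.Cit.FrameOf Cfsg.Agent.Cit.FrameClose Cfsg.Agent.Cit.FrameSign
open Subgroup

/-! ### Type `A 6` -/

section ASix

variable {G : Type*} [Group G] [Finite G] {Om : Set (Subgroup G)} {p : ℕ} {L : Subgroup G}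

theorem kz_ne (hyp : Hyp Om) (c : Chart Om p L) (hz : ∀ r ∈ c.R, c.z r ≠ 1) {r s : c.I → ℤ} (hr : r ∈ c.R)
    (hs : s ∈ c.R) (h1 : r ≠ s) (h2 : r ≠ -s) (h3 : form c.cs c.h r s ≠ 0) : kz c.Z r ≠ kz c.Z s := by
  intro e
  have e1 : c.z r = c.z s := by
    rw [← StdConn.zz_eq hyp c hr (hz r hr), ← StdConn.zz_eq hyp c hs (hz s hs)]
    exact congrArg zz e
  obtain ⟨b, hb, hb1⟩ := Perp.Z_ne_bot' c.cls hr
  refine hb1 (ZRel.eq_one_of_inv c.cls c.prime c.odd (c.cls.root r hr) (c.cls.le r hr hb) ?_)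
  have h4 := c.cls.z_inv s hs r (c.cls.root r hr) h1 h2 h3 b (c.cls.le r hr hb)
  rw [← e1, c.cls.z_cent r hr b hb, mul_assoc, c.cls.z_sq r hr, mul_one] at h4
  exact h4

theorem fi_ne' {k l : Fin ((6 + 1) / 2)} (hkl : k ≠ l) (e e' : Fin 2) : KindA.fi 6 k e ≠ KindA.fi 6 l e' :=
  fun h => hkl (KindA.fi_inj h).1

theorem last_ne (k : Fin ((6 + 1) / 2)) (e : Fin 2) : (Fin.last 6) ≠ KindA.fi 6 k e := by
  intro h
  have h1 := congrArg Fin.val h
  rw [KindA.fi_val, Fin.val_last] at h1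
  have := k.2
  have := e.2
  omega

/-- in a group with a chart of type `A 6` no frame member is determined by the other ones -/
theorem exists_ne_of_A6 (hyp : Hyp Om) (c : Chart Om p L) (h : c.IsTy (.A 6)) {κ : Type*} [Fintype κ]
    {K : κ → Subgroup G} (hK : ∀ i, K i ∈ TypeDet.OmIn Om L)
    (hc : ∀ i j, i ≠ j → cm (K i) (K j)) (hmax : ∀ L' ∈ TypeDet.OmIn Om L, ∃ k, ¬ cm L' (K k)) (k : κ) :
    ∃ J ∈ TypeDet.OmIn Om L, (∀ i, i ≠ k → cm J (K i)) ∧ J ≠ K k := by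
  let cs' : CoxeterSystem (Chart.Ty.A 6).M (Chart.Ty.A 6).M.Group := (Chart.Ty.A 6).M.toCoxeterSystem
  have hf : Finite (Chart.Ty.A 6).M.Group := finite_of_isTy c h cs'
  let _ : Fintype (Chart.Ty.A 6).M.Group := Fintype.ofFinite _
  have F : KindBase.FrameSys cs' (Chart.Ty.A 6).isCartan {x | IsRoot cs' (Chart.Ty.A 6).isCartan x} (KindA.g 6) :=
    KindA.frameSys cs' (Chart.Ty.A 6).isCartan
  have T : ∀ r ∈ {x | IsRoot cs' (Chart.Ty.A 6).isCartan x}, ∀ s ∈ {x | IsRoot cs' (Chart.Ty.A 6).isCartan x},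
      ∃ w, s = rep cs' (Chart.Ty.A 6).isCartan w r := by
    intro r hr s hs
    obtain ⟨w, hw⟩ := KindA.trans cs' (Chart.Ty.A 6).isCartan hr hs
    exact ⟨w, hw.symm⟩
  obtain ⟨e, hM, hA, hR, h1⟩ := exists_chart_of_isTy c h (W' := (Chart.Ty.A 6).M.Group) cs'
    (R' := {x | IsRoot cs' (Chart.Ty.A 6).isCartan x}) F.root F.act
    (fun i => ⟨fun _ => trivial, fun _ => isRoot_sr _ _ i⟩) T
  let c' := reindex c e hM hA cs' (Chart.Ty.A 6).isCartan F.root F.act hR T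
  have FS : KindBase.FrameSys c'.cs c'.h c'.R (KindA.g 6) := F
  have hz : ∀ r ∈ c'.R, c'.z r ≠ 1 := TypeESixEnd.z_ne_one c' h1 (TypeESixEnd.slTy_A 6) (by decide)
  obtain ⟨d, hd, σ, hσ⟩ := exists_std c' FS (fun L hL d _ => hyp.conj L hL d) K hK hc hmax
  -- the root
  have hne : KindA.fi 6 (σ k) 1 ≠ Fin.last 6 := (last_ne _ _).symm
  set r : Fin 6 → ℤ := RootsA.rtA (KindA.fi 6 (σ k) 1) (Fin.last 6) with hrdef
  have hr : r ∈ c'.R := RootsA.isRoot_rtA cs' (Chart.Ty.A 6).isCartan hne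
  have h0 : ∀ l, l ≠ σ k → form c'.cs c'.h r (KindA.g 6 l) = 0 := by
    intro l hl
    refine (cpr_zero_iff c'.cs c'.h _ (c'.cls.root _ (FS.mem l))).1 ?_
    exact (KindA.cpr_g_zero_iff cs' (Chart.Ty.A 6).isCartan hne l).2
      ⟨fun e => fi_ne' hl.symm _ _, fun e => last_ne _ _⟩
  have h2 : form c'.cs c'.h r (KindA.g 6 (σ k)) ≠ 0 := by
    intro h3
    have h4 := (KindA.cpr_g_zero_iff cs' (Chart.Ty.A 6).isCartan hne (σ k)).1
      ((cpr_zero_iff c'.cs c'.h _ (c'.cls.root _ (FS.mem (σ k)))).2 h3)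
    exact h4.1 1 rfl
  have h3 : r ≠ KindA.g 6 (σ k) := by
    intro h4
    have h5 := (RootsA.rtA_inj hne h4).2
    exact last_ne _ _ h5
  have h4 : r ≠ -KindA.g 6 (σ k) := by
    intro h4
    unfold KindA.g at h4
    rw [RootsA.rtA_neg] at h4
    have h5 := (RootsA.rtA_inj hne h4).2
    exact last_ne _ _ h5
  refine ⟨cj d⁻¹ (kz c'.Z r), ⟨hyp.conj _ (kz_mem c' hr).1 _, ?_⟩, fun i hi => ?_, fun h5 => ?_⟩
  · have h5 := cj_mono d⁻¹ (kz_mem c' hr).2
    rwa [Parab.cj_eq_of_mem (inv_mem hd)] at h5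
  · rw [← cm_cj (g := d), cj_cj_inv, hσ]
    exact cm_kz c'.cls hr (FS.mem _) (h0 _ (fun h6 => hi (σ.injective h6)))
  · apply kz_ne hyp c' hz hr (FS.mem (σ k)) h3 h4 h2
    rw [← hσ k, ← h5, cj_cj_inv]

end ASix

/-! ### Frames -/

section Frm

variable {G : Type*} [Group G] [Finite G] {Om : Set (Subgroup G)} {F : Type} [Field F] [Fintype F] {p : ℕ}
  {ι : Type*} {K : ι → Subgroup G} {X : ι → SignType → Subgroup G}

theorem dat_comp (D : Dat Om F K X) {κ : Type*} (e : κ ≃ ι) : Dat Om F (fun i => K (e i)) fun i => X (e i) where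
  hyp := D.hyp
  mem _ := D.mem _
  comm _ _ hij := D.comm _ _ fun h => hij (e.injective h)
  sl _ := D.sl _

theorem range_comp {κ : Type*} (e : κ ≃ ι) : Set.range (fun i => K (e i)) = Set.range K :=
  e.surjective.range_comp K

/-- no member of `Om` commutes with all members of the frame -/
theorem exists_not_cm (D : Dat Om F K X) (S : Sylow 2 G) (hS : Set.range K = OmS Om (S : Subgroup G))
    {J : Subgroup G} (hJ : J ∈ Om) : ∃ i, ¬ cm J (K i) := by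
  by_contra hcon
  push Not at hcon
  have h1 : J ∈ OmS Om (S : Subgroup G) := FrameProv.mem_OmS_of_comm D.hyp S hJ (by
    intro M hM
    rw [← hS] at hM
    obtain ⟨i, rfl⟩ := hM
    exact hcon i)
  rw [← hS] at h1
  obtain ⟨j, rfl⟩ := h1
  exact D.hyp.not_le_centralizer_self (D.mem j) (cm_iff_le_centralizer.1 (hcon j))

/-- charts of one type for all `Δ_k` -/
theorem charts_of_one (hyp : Hyp Om) (hcls : ∀ i j, ∃ g, Cit.cj g (K i) = K j) {τ : Nodes.Chart.Ty} {k : ι}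
    (h : ∃ c : Chart Om p (delta Om (K k)), c.IsTy τ) (j : ι) : ∃ c : Chart Om p (delta Om (K j)), c.IsTy τ := by
  obtain ⟨c, hc⟩ := h
  obtain ⟨g, hg⟩ := hcls k j
  have hf := (MulAut.conj g).injective
  have h1 : ∀ M ≤ delta Om (K k), M ∈ Om ↔ M.map (MulAut.conj g).toMonoidHom ∈ Om := by
    intro M _
    refine ⟨fun hM => hyp.conj M hM g, fun hM => ?_⟩
    have := hyp.conj _ hM g⁻¹
    rwa [← cj_def, cj_inv_cj] at this
  have h2 : cj g (delta Om (K k)) = delta Om (K j) := by rw [cj_delta hyp.conj, hg]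
  have h3 : ∃ c : Chart Om p (cj g (delta Om (K k))), c.IsTy τ := ⟨Chart.map' c _ hf h1, hc⟩
  rwa [h2] at h3

end Frm

/-! ### The input -/

section Inp

variable {G : Type*} [Group G]

/-- (I) -/
def Sep (Om : Set (Subgroup G)) (K : Fin 4 → Subgroup G) : Prop :=
  ∀ a b c, a ≠ b → a ≠ c → b ≠ c → ∃ A B, FrameOf.Piece Om (zz (K a) * zz (K b)) A ∧
    FrameOf.Piece Om (zz (K a) * zz (K b)) B ∧ K a ≤ A ∧ K c ≤ B ∧ ∀ x ∈ A, ∀ y ∈ B, x * y = y * x

/-- (II) -/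
def Big (Om : Set (Subgroup G)) (p : ℕ) (K : Fin 4 → Subgroup G) : Prop :=
  ∃ (a b : Fin 4) (L : Subgroup G) (τ : Nodes.Chart.Ty), a ≠ b ∧ (τ = .B 4 ∨ τ = .B 5 ∨ τ = .D 5) ∧
    (∃ c : Chart Om p L, c.IsTy τ) ∧ FrameOf.Piece Om (zz (K a) * zz (K b)) L ∧ (∀ i, K i ≤ L) ∧
    ∀ c, c ≠ a → c ≠ b → ∀ J ∈ Om, (∀ i, i ≠ c → cm J (K i)) → J = K c

/-- The input. -/
structure In4 (Om : Set (Subgroup G)) (F : Type) [Field F] [Fintype F] (p : ℕ) (S : Subgroup G)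
    (K : Fin 4 → Subgroup G) (X : Fin 4 → SignType → Subgroup G) : Prop where
  dat : Dat Om F K X
  odd : Odd (Fintype.card F)
  good : ∀ i, Good p (X i 1) (zz (K i))
  range : Set.range K = OmS Om S
  zinj : Function.Injective fun i => zz (K i)
  cls : ∀ i j, ∃ g, Cit.cj g (K i) = K j
  one : ∀ k, FrameOf.Piece Om (zz (K k)) (delta Om (K k)) ∧ ∃ τ : Nodes.Chart.Ty, (τ = .C 3 ∨ τ = .A 5 ∨ τ = .A 6) ∧
    ∃ c : Chart Om p (delta Om (K k)), c.IsTy τ
  two : Sep Om K ∨ Big Om p K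

/-- **The output sentence** with the type `τ`. -/
def Out (Om : Set (Subgroup G)) (p : ℕ) (K : Fin 4 → Subgroup G) (τ : Nodes.Chart.Ty) : Prop :=
  ∃ (G₀ : Subgroup G) (c : Chart Om p G₀), c.IsTy τ ∧ KindOk τ ∧ 3 ≤ τ.rk ∧
    ((∀ r ∈ c.R, c.Z r = c.X r) ∨ ∃ n, τ = .C n) ∧ (∀ i, K i ≤ G₀) ∧ (∀ i, delta Om (K i) ≤ G₀) ∧
    ∀ J ∈ Om, J ≤ G₀ → Subgroup.normalizer (J : Set G) ≤ Subgroup.normalizer (G₀ : Set G)

theorem Out.of_comp {Om : Set (Subgroup G)} {p : ℕ} {K : Fin 4 → Subgroup G} {τ : Nodes.Chart.Ty} {e : Fin 4 ≃ Fin 4}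
    (h : Out Om p (fun i => K (e i)) τ) : Out Om p K τ := by
  obtain ⟨G₀, c, h1, h2, h3, h4, h5, h6, h7⟩ := h
  refine ⟨G₀, c, h1, h2, h3, h4, fun i => ?_, fun i => ?_, h7⟩
  · have h8 := h5 (e.symm i)
    dsimp only at h8
    rwa [e.apply_symm_apply] at h8
  · have h8 := h6 (e.symm i)
    dsimp only at h8
    rwa [e.apply_symm_apply] at h8

theorem exists_perm : ∀ a b : Fin 4, a ≠ b → ∃ e : Equiv.Perm (Fin 4), e 0 = a ∧ e 1 = b := by decide

end Inp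

namespace In4

variable {G : Type*} [Group G] [Finite G] {Om : Set (Subgroup G)} {F : Type} [Field F] [Fintype F] {p : ℕ}
  [CharP F p] {S : Sylow 2 G} {K : Fin 4 → Subgroup G} {X : Fin 4 → SignType → Subgroup G}
  (I : In4 Om F p (S : Subgroup G) K X)

include I

/-- all `Δ_k` have the same type -/
theorem uniform : ∃ τ : Nodes.Chart.Ty, (τ = .C 3 ∨ τ = .A 5 ∨ τ = .A 6) ∧
    ∀ k, ∃ c : Chart Om p (delta Om (K k)), c.IsTy τ := by
  obtain ⟨-, τ, h1, h2⟩ := I.one 0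
  exact ⟨τ, h1, charts_of_one I.dat.hyp I.cls h2⟩

theorem prime : p.Prime ∧ p ≠ 2 := by
  obtain ⟨-, τ, h1, c, -⟩ := I.one 0
  exact ⟨c.prime, c.odd⟩

theorem le_delta' {i k : Fin 4} (h : i ≠ k) : K i ≤ delta Om (K k) :=
  le_delta (I.dat.mem i) (fun e => h (FrameProv.Dat.injective I.dat e))
    (fun a ha b hb => I.dat.comm i k h a ha b hb)

/-- **(I) and `C 3`** : type `C 4`. -/
theorem out_C4 (hI : Sep Om K) (hc : ∀ k, ∃ c : Chart Om p (delta Om (K k)), c.IsTy (.C 3)) :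
    Out Om p K (.C 4) := by
  obtain ⟨hp, hp2⟩ := I.prime
  have P := TypeCFin.par_of (m := 3) S I.dat I.odd I.good I.range I.zinj hp hp2 (by norm_num) hc
    (Or.inr (Or.inr (Or.inr fun i j a hij hia hja => by
      obtain ⟨A, B, h1, -, h3, h4, h5⟩ := hI i j a hij hia hja
      exact ⟨A, B, h1, h3, h4, h5⟩)))
  obtain ⟨c, h1, h2, h3, h4⟩ := TypeCFin.output (m := 3) S I.dat I.odd I.good I.range I.zinj hp hp2 (by norm_num)
    I.cls hc P
  exact ⟨_, c, h1, show 1 ≤ 4 by norm_num, show 3 ≤ 4 by norm_num, Or.inr ⟨4, rfl⟩, h2, h3, h4⟩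

/-- **(I)** : the sign groups of full support are trivial. -/
theorem full_bot (hI : Sep Om K) {e : Fin 4 → SignType} (he : ∀ i, e i ≠ 0) : XX (QF K X) e = ⊥ := by
  have Fr := frame_of I.dat I.odd I.good
  obtain ⟨A, B, h1, h2, h3, h4, h5⟩ := hI 0 1 2 (by decide) (by decide) (by decide)
  exact XX_eq_bot I.dat Fr h2 (i := 0) (j := 2) (by decide) (he 0) (he 2) h3 h4 h5
    (XX_comm_zz Fr (by decide) (he 0) (he 1))

/-- **(II)** : the type `A 6` is impossible. -/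
theorem not_A6 (hII : Big Om p K) (hc : ∀ k, ∃ c : Chart Om p (delta Om (K k)), c.IsTy (.A 6)) : False := by
  obtain ⟨a, b, L, τ, hab, -, -, -, -, h⟩ := hII
  obtain ⟨k, hka, hkb⟩ := (show ∀ a b : Fin 4, ∃ k, k ≠ a ∧ k ≠ b by decide) a b
  obtain ⟨c, hc⟩ := hc a
  obtain ⟨J, hJ, h1, h2⟩ := exists_ne_of_A6 I.dat.hyp c hc (κ := {i : Fin 4 // i ≠ a}) (K := fun i => K i.1)
    (fun i => ⟨I.dat.mem i, I.le_delta' i.2⟩) (fun i j hij => I.dat.comm i j fun h => hij (Subtype.ext h))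
    (fun M hM => by
      obtain ⟨i, hi⟩ := exists_not_cm I.dat S I.range hM.1
      refine ⟨⟨i, ?_⟩, hi⟩
      rintro rfl
      exact hi fun x hx y hy => delta_comm x (hM.2 hx) y hy) ⟨k, hka⟩
  refine h2 (h k hka hkb J hJ.1 fun i hi => ?_)
  by_cases hia : i = a
  · subst hia
    exact fun x hx y hy => delta_comm x (hJ.2 hx) y hy
  · exact h1 ⟨i, hia⟩ fun e => hi (congrArg Subtype.val e)

/-- **(II), `A 5` and `D 5`** : type `E6`. -/
theorem out_E6 {W : Type} [Group W] [Fintype W] (cs : CoxeterSystem CoxeterMatrix.E₆ W) {a b : Fin 4} (hab : a ≠ b)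
    {L : Subgroup G} (c₂ : Chart Om p L) (ht₂ : c₂.IsTy (.D 5)) (P₂ : FrameOf.Piece Om (zz (K a) * zz (K b)) L)
    (hK₂ : ∀ i, K i ≤ L) (hc : ∀ k, ∃ c : Chart Om p (delta Om (K k)), c.IsTy (.A 5)) : Out Om p K .E6 := by
  obtain ⟨e, rfl, rfl⟩ := exists_perm a b hab
  obtain ⟨c₁, ht₁⟩ := hc (e 1)
  obtain ⟨G₀, c, h1, h2, -, -, h3, h4, -, h5⟩ := TypeESixEnd.exists_chart cs (dat_comp I.dat e) I.odd
    (fun i => I.good (e i)) S ((range_comp e).trans I.range) (I.one (e 1)).1 c₁ ht₁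
    (fun i hi => I.le_delta' fun h => hi (e.injective h)) P₂ c₂ ht₂ fun i => hK₂ (e i)
  exact Out.of_comp (e := e) ⟨G₀, c, h1, trivial, show 3 ≤ 6 by norm_num, Or.inl h2, h3, h4, h5⟩

end In4

end Cfsg.Agent.Cit.DispFour
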