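import Cfsg.Agent.Cit.TypeDet.LocalBar
import Cfsg.Agent.Cit.TypeDet.KindsAll
import Cfsg.Agent.Cit.TypeDet.Mathieu
import Cfsg.Agent.Cit.TypeDet.FourDich
import Cfsg.Agent.Cit.ExOut
import Cfsg.Agent.Cit.DispFour

/-!
# `|Om(S)| = 4`, all involutions different: the fields `one` and `two` of `DispFour.In4` (project CIT)

* `kinds_or` : a piece of `H / O(H)` over the block `B` of a frame: `|B| ≤ 2`, or typed, with the typed kind;
* `framePiece` : `piece (OmIn Om C(s)) X` is a `FrameOf.Piece Om s`;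
* `kt_KO`, `kt_KL` : frame size four and kind `KO` : `B 4`, `B 5`, `D 5`; frame size three : `C 3`, `A 5`, `A 6`;
* `two` : (I) or (II); `one`.
-/

set_option autoImplicit false
set_option linter.unusedSectionVars false
set_option linter.dupNamespace false

namespace Cfsg.Agent.Cit.FourPieces

open Subgroup Finset Classical Relation Cfsg Cfsg.Agent.Cit.UseT Cfsg.Agent.Cit.PieceLift Cfsg.Agent.Cit.PieceG
open Cfsg.Agent.Cit.TypeDet Cfsg.Agent.Cit.TypeDet.LocalBar Cfsg.Agent.Cit.ExactChart Cfsg.Agent.Cit.ExOut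
  Cfsg.Agent.Cit.DispFour Cfsg.Agent.Nodes.Chart

universe u

/-! ### Pieces and kinds -/

section Kinds

variable {G : Type u} [Group G] [Finite G] {Om : Set (Subgroup G)} {H : Subgroup G} {ι : Type*} [Fintype ι]
  {Oa : Set (Subgroup G)} {K : ι → Subgroup G} {D' : Subgroup (HQ H)} {B : Finset ι}

/-- a piece of `H / O(H)` over a block: at most two members or typed -/
theorem kinds_or (b : Blk Om H Oa K D' B) (hP : Cit.Piece (fb Om H) D') :
    B.card ≤ 2 ∨ ∃ τ, TyPcE (fb Om H) τ D' ∧ (data Oa K b.mem b.comm).KT τ B := by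
  have hf := fb_hyp b.cor.hyp H
  have hmem : ∀ i, i ∈ B → bar H (K i) ∈ fb Om H := fun i _ => bar_mem (b.sub (b.mem i)) (b.le i)
  have hne : ∀ i ∈ B, ∀ j ∈ B, i ≠ j → bar H (K i) ≠ bar H (K j) := by
    intro i hi j hj hij e
    have h1 := b.bar_comm ⟨i, hi⟩ ⟨j, hj⟩ fun h => hij (congrArg Subtype.val h)
    dsimp only at h1
    rw [e] at h1
    exact hf.not_le_centralizer_self (hmem j hj) (cm_iff_le_centralizer.1 h1)
  by_cases h2 : B.card ≤ 2
  · exact Or.inl h2
  right
  obtain ⟨i, hi, j, hj, k, hk, hij, hik, hjk⟩ := two_lt_card.1 (not_le.1 h2)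
  have li := (b.iff i).1 hi
  have lj := (b.iff j).1 hj
  have lk := (b.iff k).1 hk
  have cij := b.bar_comm ⟨i, hi⟩ ⟨j, hj⟩ fun h => hij (congrArg Subtype.val h)
  have cik := b.bar_comm ⟨i, hi⟩ ⟨k, hk⟩ fun h => hik (congrArg Subtype.val h)
  have cjk := b.bar_comm ⟨j, hj⟩ ⟨k, hk⟩ fun h => hjk (congrArg Subtype.val h)
  cases hP with
  | single mem =>
    exfalso
    exact hne i hi j hj hij ((hf.eq_of_le (hmem i hi) mem li).trans (hf.eq_of_le (hmem j hj) mem lj).symm)
  | chart nmem qs two p c τ kind ok small sl zx =>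
    exact ⟨τ, ⟨nmem, qs, ok, p, c, kind, small, sl, zx⟩,
      b.kt (KindsAll.kt hf c kind b.bar_mem_OmIn b.bar_comm b.bar_max)⟩
  | exc qs two p prime odd iso ne zzc three =>
    exfalso
    rcases three _ (hmem i hi) _ (hmem j hj) _ (hmem k hk) li lj lk (cm_iff_le_centralizer.1 cij)
      (cm_iff_le_centralizer.1 cik) (cm_iff_le_centralizer.1 cjk) with h | h | h
    · exact hne i hi j hj hij h
    · exact hne i hi k hk hik h
    · exact hne j hj k hk hjk h
  | mathieu qs two iso ne mem =>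
    exact (false_of_mathieu hf iso (hmem i hi) (hmem j hj) (hmem k hk) li lj lk cij cik cjk).elim

theorem kinds_of_piece (b : Blk Om H Oa K D' B) (hP : Cit.Piece (fb Om H) D') (hB : B.Nonempty) :
    (data Oa K b.mem b.comm).Kinds B := by
  rcases kinds_or b hP with h | ⟨τ, -, h⟩
  · have := hB.card_pos
    rcases (show B.card = 1 ∨ B.card = 2 by omega) with h1 | h1
    · exact Or.inl h1
    · exact Or.inr (Or.inl h1)
  · exact h.kinds hB

end Kinds

/-! ### Pieces in the sense of `FrameOf` -/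

section Frm

variable {G : Type*} [Group G] {Om : Set (Subgroup G)}

/-- **the chain classes of `Om` in `C(s)` generate pieces** -/
theorem framePiece (hO : ∀ K ∈ Om, ∀ g, cj g K ∈ Om) {s : G} (X : Subgroup G) :
    FrameOf.Piece Om s (piece (TypeDet.OmIn Om (centralizer {s})) X) where
  le a ha := by
    have h1 : piece (TypeDet.OmIn Om (centralizer {s})) X ≤ centralizer {s} := sSup_le fun M hM => hM.1.2
    exact mem_centralizer_singleton_iff.1 (h1 ha)
  norm g hg := by
    have hgH : g ∈ centralizer {s} := mem_centralizer_singleton_iff.2 hg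
    have hT : ∀ g ∈ centralizer {s}, ∀ L ∈ TypeDet.OmIn Om (centralizer {s}),
        cj g L ∈ TypeDet.OmIn Om (centralizer {s}) := by
      intro g hg L hL
      refine ⟨hO L hL.1 g, ?_⟩
      have h2 := cj_mono g hL.2
      rwa [Parab.cj_eq_of_mem hg] at h2
    have e : cj g (piece (TypeDet.OmIn Om (centralizer {s})) X) =
        piece (TypeDet.OmIn Om (centralizer {s})) (cj g X) := by
      apply le_antisymm
      · rw [Cit.cj_le_iff]
        refine sSup_le fun M hM => ?_
        rw [← Cit.cj_le_iff]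
        exact le_sSup ⟨hT g hgH M hM.1, TypeDet.chn_cj (hT g hgH) hM.2⟩
      · refine sSup_le fun M hM => ?_
        have h3 := hT g⁻¹ (inv_mem hgH) M hM.1
        have h4 : chn (TypeDet.OmIn Om (centralizer {s})) X (cj g⁻¹ M) := by
          have := TypeDet.chn_cj (hT g⁻¹ (inv_mem hgH)) hM.2
          rwa [cj_inv_cj] at this
        have h5 := cj_mono g (le_piece h3 h4)
        rwa [cj_cj_inv] at h5
    by_cases h : chn (TypeDet.OmIn Om (centralizer {s})) X (cj g X)
    · left
      rw [e]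
      apply le_antisymm
      · exact sSup_le fun M hM => le_piece hM.1 (h.trans hM.2)
      · exact sSup_le fun M hM => le_piece hM.1 ((chn_symm h).trans hM.2)
    · right
      rw [e]
      exact cm_piece h
  mem J hJ hJc := by
    have hJH : J ∈ TypeDet.OmIn Om (centralizer {s}) := ⟨hJ, fun a ha => mem_centralizer_singleton_iff.2 (hJc a ha)⟩
    by_cases h : chn (TypeDet.OmIn Om (centralizer {s})) X J
    · exact Or.inl (le_piece hJH h)
    · right
      have h1 := cm_piece h
      exact fun a ha b hb => h1 a ha b (le_piece hJH ReflTransGen.refl hb)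

end Frm

/-! ### Typed kinds -/

section Typ

variable {F : Type*} [Fintype F] {G : Type*} [Group G] {S : Data F G}

theorem exists_two_ne (h4 : Fintype.card F = 4) (a b : F) : ∃ i j, i ≠ a ∧ i ≠ b ∧ j ≠ a ∧ j ≠ b ∧ i ≠ j := by
  obtain ⟨i, hi1, hi2, -⟩ := Data.exists_ne_of_three h4 a b b
  obtain ⟨j, hj1, hj2, hj3⟩ := Data.exists_ne_of_three h4 a b i
  exact ⟨i, j, hi1, hi2, hj1, hj2, hj3.symm⟩

/-- frame size four, kind `KO` -/
theorem kt_KO (h4 : Fintype.card F = 4) (a : F) {p : F → F} (hKO : S.KO univ p) {τ : Nodes.Chart.Ty}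
    (h : S.KT τ univ) : τ = .B 4 ∨ τ = .B 5 ∨ τ = .D 5 := by
  obtain ⟨-, h2, h3, -, -⟩ := hKO
  have hpa : p a ≠ a := (h2 a (mem_univ a)).2.1
  obtain ⟨i, j, hia, hip, hja, hjp, hij⟩ := exists_two_ne h4 a (p a)
  have hcon : ¬ S.Conn (univ.erase a) := by
    intro hc
    have h5 := hc (p a) (Data.mem_er hpa) i (Data.mem_er hia)
    rw [h3 a (mem_univ _) (p a) (mem_univ _) i (mem_univ _) hpa hia] at h5
    exact hip (h5.1 rfl)
  have hu : (univ : Finset F).card = 4 := h4
  cases τ with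
  | A n => exact absurd ((h.2 (by omega)).2.1 a (mem_univ _)) hcon
  | B n =>
    have h5 : (univ : Finset F).card = 2 * (n / 2) := h.1
    have h6 : n = 4 ∨ n = 5 := by omega
    rcases h6 with rfl | rfl
    · exact Or.inl rfl
    · exact Or.inr (Or.inl rfl)
  | C n => exact absurd ((h.2 (by omega)).2.1 a (mem_univ _)) hcon
  | D n =>
    have h5 : (univ : Finset F).card = 2 * (n / 2) := h.1
    have h6 : n = 4 ∨ n = 5 := by omega
    rcases h6 with rfl | rfl
    · exfalso
      refine (h.2.1 rfl).2.1 a (mem_univ _) i (Data.mem_er hia) j (Data.mem_er hja) hij ?_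
      rw [h3 a (mem_univ _) i (mem_univ _) j (mem_univ _) hia hja]
      exact ⟨fun e => absurd e hip, fun e => absurd e hjp⟩
    · exact Or.inr (Or.inr rfl)
  | E6 => exact absurd (h.2.1 a (mem_univ _)) hcon
  | E7 =>
    have h5 : (univ : Finset F).card = 7 := h.1
    omega
  | E8 =>
    have h5 : (univ : Finset F).card = 8 := h.1
    omega
  | F4 => exact absurd (h.2.1 a (mem_univ _)) hcon
  | G2 =>
    have h5 : (univ : Finset F).card = 1 := h
    omega

/-- frame size three -/
theorem kt_three {B : Finset F} (hB : B.card = 3) {τ : Nodes.Chart.Ty} (h : S.KT τ B) :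
    τ = .C 3 ∨ τ = .A 5 ∨ τ = .A 6 := by
  cases τ with
  | A n =>
    have h5 : B.card = (n + 1) / 2 := h.1
    have h6 : n = 5 ∨ n = 6 := by omega
    rcases h6 with rfl | rfl
    · exact Or.inr (Or.inl rfl)
    · exact Or.inr (Or.inr rfl)
  | B n =>
    have h5 : B.card = 2 * (n / 2) := h.1
    omega
  | C n =>
    have h5 : B.card = n := h.1
    left
    rw [← h5, hB]
  | D n =>
    have h5 : B.card = 2 * (n / 2) := h.1
    omega
  | E6 =>
    have h5 : B.card = 4 := h.1
    omega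
  | E7 =>
    have h5 : B.card = 7 := h.1
    omega
  | E8 =>
    have h5 : B.card = 8 := h.1
    omega
  | F4 =>
    have h5 : B.card = 4 := h.1
    omega
  | G2 =>
    have h5 : B.card = 1 := h
    omega

end Typ

/-! ### The input of `DispFour` -/

section Main

variable {G : Type u} [Group G] [Finite G] {Om : Set (Subgroup G)} {ι : Type*} [Fintype ι] {K : ι → Subgroup G}

/-- the frame with four members, local information modulo cores -/
structure Base (Om : Set (Subgroup G)) (K : ι → Subgroup G) : Prop where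
  four : Fintype.card ι = 4
  hyp : Hyp Om
  core : ∀ J ∈ Om, OO J = ⊥
  cor : ∀ J ∈ Om, CorG Om (centralizer {zz J})
  cor2 : ∀ a b, a ≠ b → CorG Om (centralizer {zz (K a) * zz (K b)})
  mem : ∀ i, K i ∈ Om
  comm : ∀ i j, i ≠ j → cm (K i) (K j)
  max : ∀ L ∈ Om, ∃ i, ¬ cm L (K i)
  kl : ∀ k, (data Om K mem comm).KL (univ.erase k)

namespace Base

variable (b : Base Om K)

include b

theorem locB : LocB Om := ⟨b.core, b.cor⟩

theorem dichHyp : DichHyp Om K where
  mem := b.mem
  comm := b.comm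
  max := b.max
  z_sq i := b.hyp.zz_mul (b.mem i)
  z_cen i x hx := mem_centralizer_singleton_iff.1 (b.hyp.le_centralizer (b.mem i) hx)
  f4 i L hL h := b.locB.lem hL (b.mem i) h

theorem memH (a c i : ι) : K i ∈ TypeDet.OmIn Om (centralizer {zz (K a) * zz (K c)}) :=
  ⟨b.mem i, fun x hx => mem_centralizer_singleton_iff.2 ((b.dichHyp.memC a c i).2 x hx)⟩

omit b [Finite G] in
theorem OmC_eq (t : G) : OmC Om t = TypeDet.OmIn Om (centralizer {t}) := by
  ext L
  exact ⟨fun h => ⟨h.1, fun x hx => mem_centralizer_singleton_iff.2 (h.2 x hx)⟩,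
    fun h => ⟨h.1, fun x hx => mem_centralizer_singleton_iff.1 (h.2 hx)⟩⟩

theorem blk {a c : ι} (hac : a ≠ c) (i : ι) :
    Blk Om (centralizer {zz (K a) * zz (K c)}) (TypeDet.OmIn Om (centralizer {zz (K a) * zz (K c)})) K
      (PT Om (centralizer {zz (K a) * zz (K c)}) (K i))
      ((data (TypeDet.OmIn Om (centralizer {zz (K a) * zz (K c)})) K (b.memH a c) b.comm).blk univ i) :=
  blk_in (b.cor2 a c hac) b.core (b.memH a c) b.comm (fun L hL => b.max L hL.1) i

theorem piece {a c : ι} (hac : a ≠ c) (i : ι) : Cit.Piece (fb Om (centralizer {zz (K a) * zz (K c)}))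
    (PT Om (centralizer {zz (K a) * zz (K c)}) (K i)) :=
  (b.cor2 a c hac).pcs.piece (fb_hyp b.hyp _) (bar_mem (b.mem i) (b.memH a c i).2)

theorem hkt (a c : ι) (hac : a ≠ c) :
    (b.dichHyp.dt a c).Kinds ((b.dichHyp.dt a c).blk univ a) := by
  have key : ∀ (T : Set (Subgroup G)) (hT : T = TypeDet.OmIn Om (centralizer {zz (K a) * zz (K c)}))
      (hK : ∀ i, K i ∈ T), (data T K hK b.comm).Kinds ((data T K hK b.comm).blk univ a) := by
    rintro _ rfl hK
    refine kinds_of_piece (b.blk hac a) (b.piece hac a) ⟨a, ?_⟩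
    exact (Sys.mem_blk _).2 ⟨mem_univ _, mem_univ _, ReflTransGen.refl⟩
  exact key _ (OmC_eq _) _

/-- the type of the piece in the second case -/
theorem exists_KO_type {a c : ι} (hac : a ≠ c) (hch : ∀ i j, chn (OmC Om (zz (K a) * zz (K c))) (K i) (K j))
    {q : ι → ι} (hKO : (b.dichHyp.dt a c).KO univ q) :
    ∃ τ : Nodes.Chart.Ty, (τ = .B 4 ∨ τ = .B 5 ∨ τ = .D 5) ∧ TyPcE (fb Om (centralizer {zz (K a) * zz (K c)})) τ
      (PT Om (centralizer {zz (K a) * zz (K c)}) (K a)) := by
  have key : ∀ (T : Set (Subgroup G)) (_ : T = TypeDet.OmIn Om (centralizer {zz (K a) * zz (K c)}))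
      (hK : ∀ i, K i ∈ T), (∀ i j, chn T (K i) (K j)) → (data T K hK b.comm).KO univ q →
      ∃ τ : Nodes.Chart.Ty, (τ = .B 4 ∨ τ = .B 5 ∨ τ = .D 5) ∧
        TyPcE (fb Om (centralizer {zz (K a) * zz (K c)})) τ (PT Om (centralizer {zz (K a) * zz (K c)}) (K a)) := by
    rintro _ rfl hK hch hKO
    have hB : ((data (TypeDet.OmIn Om (centralizer {zz (K a) * zz (K c)})) K (b.memH a c) b.comm).blk univ a) =
        univ := by
      ext i
      rw [Sys.mem_blk]
      refine ⟨fun _ => mem_univ _, fun _ => ⟨mem_univ _, mem_univ _, ?_⟩⟩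
      refine chn_mono ?_ (hch a i)
      exact fun L hL => ⟨hL, fun k hk => absurd (mem_univ k) hk⟩
    have hb := b.blk hac a
    rw [hB] at hb
    rcases kinds_or hb (b.piece hac a) with h1 | ⟨τ, h1, h2⟩
    · exfalso
      rw [card_univ, b.four] at h1
      omega
    · exact ⟨τ, kt_KO b.four a hKO h2, h1⟩
  exact key _ (OmC_eq _) (fun i => b.dichHyp.memC a c i) hch hKO

/-- `{i, j}` lies in one block of `F - k` -/
theorem rel_erase {k i j : ι} (hi : i ≠ k) (hj : j ≠ k) :
    (data Om K b.mem b.comm).rel (univ.erase k) i j := by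
  by_cases hij : i = j
  · subst hij
    exact ⟨Data.mem_er hi, Data.mem_er hi, ReflTransGen.refl⟩
  · have h1 := (b.kl k).2.2 i (Data.mem_er hi) j (Data.mem_er hj) hij i (by simp) j (by simp)
    refine (data Om K b.mem b.comm).mono ?_ ?_ h1
    · intro x hx
      simp only [mem_insert, mem_singleton] at hx
      rcases hx with rfl | rfl
      · exact Data.mem_er hi
      · exact Data.mem_er hj
    · intro e
      exact notMem_erase k univ (by rw [e]; exact mem_univ _)

theorem blk_erase {k i : ι} (hi : i ≠ k) : (data Om K b.mem b.comm).blk (univ.erase k) i = univ.erase k := by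
  ext j
  rw [Sys.mem_blk]
  constructor
  · exact fun h => h.2.1
  · intro h
    exact b.rel_erase hi (mem_erase.1 h).1

theorem memHz {k i : ι} : K i ∈ TypeDet.OmIn Om (centralizer {zz (K k)}) := by
  refine ⟨b.mem i, ?_⟩
  by_cases hik : i = k
  · rw [hik]; exact b.hyp.le_centralizer (b.mem k)
  · exact fun x hx => mem_centralizer_singleton_iff.2 (b.comm i k hik x hx _ (b.hyp.zz_mem (b.mem k)))

theorem chn_z {k i j : ι} (hi : i ≠ k) (hj : j ≠ k) :
    chn (TypeDet.OmIn Om (centralizer {zz (K k)})) (K i) (K j) := by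
  obtain ⟨-, -, h1⟩ := b.rel_erase hi hj
  refine chn_mono ?_ h1
  intro L hL
  exact ⟨hL.1, fun x hx => mem_centralizer_singleton_iff.2 (hL.2 k (notMem_erase _ _) x hx _
    (b.hyp.zz_mem (b.mem k)))⟩

/-- `Δ_k` is a piece of `C(z_k)` -/
theorem delta_eq {k i : ι} (hi : i ≠ k) :
    FrameClose.delta Om (K k) = TypeDet.piece (TypeDet.OmIn Om (centralizer {zz (K k)})) (K i) := by
  apply le_antisymm
  · refine iSup₂_le fun L hL => ?_
    obtain ⟨h1, h2, h3⟩ := hL
    have hLH : L ∈ TypeDet.OmIn Om (centralizer {zz (K k)}) :=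
      ⟨h1, fun x hx => mem_centralizer_singleton_iff.2 (h3 x hx _ (b.hyp.zz_mem (b.mem k)))⟩
    obtain ⟨j, hj⟩ := b.max L h1
    have hjk : j ≠ k := by
      rintro rfl
      exact hj h3
    exact le_piece hLH ((b.chn_z hi hjk).tail ⟨b.memHz, hLH, fun h => hj (cm_symm h)⟩)
  · refine sSup_le ?_
    rintro M ⟨hM, hc⟩
    have hMk : M ≠ K k := by
      rintro rfl
      have h4 := b.locB.single (b.mem k) (chn_symm hc)
      exact hi (b.dichHyp.inj h4)
    rcases b.locB.lem hM.1 (b.mem k) (fun x hx => mem_centralizer_singleton_iff.1 (hM.2 hx)) with h4 | h4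
    · exact absurd h4 hMk
    · exact FrameClose.le_delta hM.1 hMk h4

/-- **the pieces `Δ_k`** -/
theorem one {p : ℕ} {F : Type*} [Field F] [Fintype F] (x : EX Om p F) (k : ι) :
    FrameOf.Piece Om (zz (K k)) (FrameClose.delta Om (K k)) ∧ ∃ τ : Nodes.Chart.Ty,
      (τ = .C 3 ∨ τ = .A 5 ∨ τ = .A 6) ∧ TyPcE Om τ (FrameClose.delta Om (K k)) ∧
      ∃ c : Chart Om p (FrameClose.delta Om (K k)), c.IsTy τ ∧ ((∀ r ∈ c.R, c.Z r = c.X r) ∨ ∃ n, τ = .C n) := by
  obtain ⟨i, -, hi, -, -, -, -⟩ := exists_two_ne b.four k k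
  have hb := b.locB.blk b.mem b.comm b.max hi
  rw [b.blk_erase hi] at hb
  have hcard : (univ.erase k : Finset ι).card = 3 := by
    rw [card_erase_of_mem (mem_univ k), card_univ, b.four]
  have hP : Cit.Piece (fb Om (centralizer {zz (K k)})) (PT Om (centralizer {zz (K k)}) (K i)) :=
    (b.cor _ (b.mem k)).pcs.piece (fb_hyp b.hyp _) (bar_mem (b.mem i) b.memHz.2)
  rcases kinds_or hb hP with h1 | ⟨τ, h1, h2⟩
  · omega
  · have h3 := kt_three hcard h2
    obtain ⟨h4, -, -, h5⟩ := x.tyPcE (b.cor _ (b.mem k)) (b.mem i) b.memHz.2 h1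
      (Or.inr (by rcases h3 with rfl | rfl | rfl <;> intro e <;> cases e))
    rw [b.delta_eq hi]
    exact ⟨framePiece b.hyp.conj (K i), τ, h3, h4, h5⟩

omit b

/-- **(I) or (II)** -/
theorem two {K : Fin 4 → Subgroup G} (b : Base Om K) {p : ℕ} {F : Type*} [Field F] [Fintype F] (x : EX Om p F) :
    Sep Om K ∨ Big Om p K := by
  rcases b.dichHyp.dich b.four b.kl b.hkt with h | ⟨a, c, hac, hch, q, hKO, -⟩
  · left
    intro a c d hac had hcd
    have h1 := h a c d hac had.symm hcd.symm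
    rw [OmC_eq] at h1
    exact ⟨_, _, framePiece b.hyp.conj (K a), framePiece b.hyp.conj (K d),
      le_piece (b.memH a c a) ReflTransGen.refl, le_piece (b.memH a c d) ReflTransGen.refl, cm_piece h1⟩
  · right
    obtain ⟨τ, hτ, h1⟩ := b.exists_KO_type hac hch hKO
    obtain ⟨-, -, -, ch, hty, -⟩ := x.tyPcE (b.cor2 a c hac) (b.mem a) (b.memH a c a).2 h1
      (Or.inr (by rcases hτ with rfl | rfl | rfl <;> intro e <;> cases e))
    refine ⟨a, c, _, τ, hac, hτ, ⟨ch, hty⟩, framePiece b.hyp.conj (K a), fun i => ?_, fun d hda hdc J hJ hJc => ?_⟩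
    · refine le_piece (b.memH a c i) ?_
      rw [← OmC_eq]
      exact hch a i
    · refine b.dichHyp.sgl_of_KO hac hch hKO hda hdc J ⟨hJ, fun i hi => hJc i ?_⟩
      simpa using hi

/-- **the input of `DispFour`** -/
theorem exists_in4 {K : Fin 4 → Subgroup G} (b : Base Om K) {p : ℕ} {F : Type} [Field F] [Fintype F] (x : EX Om p F) (S : Sylow 2 G)
    (range : Set.range K = OmS Om (S : Subgroup G)) (zinj : Function.Injective fun i => zz (K i))
    (cls : ∀ K ∈ Om, ∀ J ∈ Om, ∃ g, J = cj g K) :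
    ∃ X : Fin 4 → SignType → Subgroup G, In4 Om F p (S : Subgroup G) K X := by
  obtain ⟨X, h1, h2⟩ := x.exists_dat b.hyp b.mem b.comm
  refine ⟨X, h1, x.odd, fun i => h2 i 1 one_ne_zero, range, zinj, fun i j => ?_, fun k => ?_, b.two x⟩
  · obtain ⟨g, hg⟩ := cls _ (b.mem i) _ (b.mem j)
    exact ⟨g, hg.symm⟩
  · obtain ⟨h3, τ, h4, -, c, h5, -⟩ := b.one x k
    exact ⟨h3, τ, h4, c, h5⟩

end Base

end Main

end Cfsg.Agent.Cit.FourPieces
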