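import Mathlib
import Cfsg.Agent.Cit.FourIn
import Cfsg.Agent.Cit.FourPieces
import Cfsg.Agent.Cit.ConnMain
import Cfsg.Agent.Cit.CoreFour
import Cfsg.Agent.Cit.CloseOut

/-!
# `|Om(S)| = 4`, four different involutions (project CIT, S1310, R18): the driver

* `AltStmt` : the blocks of two members (`halt` of `four_KL`);
* `OutStmt` : the identification (`DispFour.In4` implies the output sentence);
* `exists_frame` : frames;
* `kl` : all `F - k` are of kind `KL`; `klf`, `base`;
* `fourInj` : `CoreFour.FourInj`.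
-/

set_option autoImplicit false
set_option linter.unusedSectionVars false
set_option linter.dupNamespace false
set_option linter.style.haveILetI false

namespace Cfsg.Agent.Cit.CoreFourInj

open Subgroup Finset Classical Cfsg Cfsg.Agent.Cit Cfsg.Agent.Cit.TypeDet Cfsg.Agent.Cit.UseT
open Cfsg.Agent.Cit.PieceG Cfsg.Agent.Cit.ExLocal Cfsg.Agent.Cit.ExOut Cfsg.Agent.Cit.CoreManyB
open Cfsg.Agent.Cit.Four Cfsg.Agent.Cit.CoresG Cfsg.Agent.Cit.CoresCore

universe u

/-- `halt` of `four_KL` -/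
def AltStmt : Prop := ∀ (G : Type u) [Group G] [Finite G] (Om : Set (Subgroup G)), MinS Om → LB Om → CorTwo Om →
  Conn Om → Branches.Card Om 4 → CloOne.Inj Om → ∀ (S : Sylow 2 G) (ι : Type) [Fintype ι] (K : ι → Subgroup G)
    (hK : ∀ i, K i ∈ Om) (hc : ∀ i j, i ≠ j → cm (K i) (K j)), Fintype.card ι = 4 → Function.Injective K →
      Set.range K = OmS Om (S : Subgroup G) → ∀ k i j : ι, i ≠ j →
      (data Om K hK hc).blk (univ.erase k) i = {i, j} → TwoAlt Om K i j

/-- the identification -/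
def OutStmt : Prop := ∀ (G : Type u) [Group G] [Finite G] (Om : Set (Subgroup G)), MinS Om → LB Om → CorTwo Om →
  Conn Om → ∀ (p : ℕ) (F : Type) [Field F] [Fintype F] [CharP F p] (S : Sylow 2 G) (K : Fin 4 → Subgroup G)
    (X : Fin 4 → SignType → Subgroup G), DispFour.In4 Om F p (S : Subgroup G) K X → ∃ τ, DispFour.Out Om p K τ

section

variable {G : Type u} [Group G] [Finite G] {Om : Set (Subgroup G)}

/-- frames -/
theorem exists_frame (hc : Branches.Card Om 4) (S : Sylow 2 G) :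
    ∃ K : Fin 4 → Subgroup G, Function.Injective K ∧ Set.range K = OmS Om (S : Subgroup G) := by
  have h1 : Nat.card (OmS Om (S : Subgroup G)) = 4 := by
    rw [Nat.card_coe_set_eq]; exact hc S
  haveI : Finite (OmS Om (S : Subgroup G)) := Set.toFinite _
  let e := Finite.equivFinOfCardEq h1
  refine ⟨fun i => (e.symm i : Subgroup G), fun i j h => e.symm.injective (Subtype.ext h), ?_⟩
  ext L
  constructor
  · rintro ⟨i, rfl⟩
    exact (e.symm i).2
  · intro h
    exact ⟨e ⟨L, h⟩, by simp⟩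

variable (ms : MinS Om) (b : LB Om) (hi : CloOne.Inj Om) {ι : Type} [Fintype ι] {K : ι → Subgroup G} (S : Sylow 2 G)
  (hr : Set.range K = OmS Om (S : Subgroup G))

include hr

theorem mem (i : ι) : K i ∈ Om := by
  have h : K i ∈ OmS Om (S : Subgroup G) := by rw [← hr]; exact ⟨i, rfl⟩
  exact h.1

include b

theorem comm (hinj : Function.Injective K) (i j : ι) (hij : i ≠ j) : cm (K i) (K j) := by
  have h1 : K i ∈ OmS Om (S : Subgroup G) := by rw [← hr]; exact ⟨i, rfl⟩
  have h2 : K j ∈ OmS Om (S : Subgroup G) := by rw [← hr]; exact ⟨j, rfl⟩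
  exact cm_iff_le_centralizer.2 (UseT.comm_of_core b.hyp b.core S.isPGroup' h1 h2 fun e => hij (hinj e))

include ms hi in
/-- **all `F - k` are of kind `KL`** -/
theorem kl (h4 : Fintype.card ι = 4) (hC : Conn Om) (hinj : Function.Injective K)
    (halt : ∀ k i j : ι, i ≠ j →
      (data Om K (mem S hr) (comm b S hr hinj)).blk (univ.erase k) i = {i, j} → TwoAlt Om K i j) (k : ι) :
    (data Om K (mem S hr) (comm b S hr hinj)).KL (univ.erase k) := by
  haveI := ms.simple
  have hmax := FourIn.max_of_range b S hr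
  refine four_KL b.hyp (fun K hK L hL => ?_) (fun T K hK L hL hKL => ?_) (fun K hK => b.not_cm_self hK) S hC
    (mem S hr) (comm b S hr hinj) hinj hr h4
    (fun i j h => hinj (hi _ (mem S hr i) _ (mem S hr j) h)) (fun k i hik => ?_) halt k
  · obtain ⟨g, hg⟩ := ms.cls K hK L hL
    exact ⟨g, hg.symm⟩
  · exact cm_iff_le_centralizer.2 (UseT.comm_of_core b.hyp b.core T.isPGroup' hK hL hKL)
  · have hB := LocalBar.LocB.blk ⟨b.core, b.cor⟩ (mem S hr) (comm b S hr hinj) hmax hik
    refine FourPieces.kinds_of_piece hB ((b.cor _ (mem S hr k)).pcs.piece (fb_hyp b.hyp _)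
      (bar_mem (mem S hr i) ?_)) ⟨i, ?_⟩
    · exact b.le_of_cm (mem S hr k) (comm b S hr hinj i k hik)
    · exact (Sys.mem_blk _).2 ⟨Data.mem_er hik, Data.mem_er hik, Relation.ReflTransGen.refl⟩

end

/-- **`FourInj`** -/
theorem fourInj (hodd : OddStmt.{u}) (hfix : FixStmt.{u}) (hct : CTStmt.{u}) (hcl : CoreManyB.CloseStmt.{u})
    (hA : AltStmt.{u}) (hD : OutStmt.{u}) : CoreFour.FourInj.{u} := by
  intro G _ _ Om ms hc hi
  haveI := ms.simple
  obtain ⟨S₀⟩ : Nonempty (Sylow 2 G) := inferInstance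
  have h8 := CoreFour.eight_le ms.hyp hc hi
  have hE : CloseE Om := hcl G Om ms S₀ (le_trans (by norm_num) (h8 S₀))
  have hB : ∀ T : Sylow 2 G, CorB Om (T : Subgroup G) := fun T =>
    ConnMain.corB_of_eight ms hodd hfix hct hE T (h8 T)
  have b : LB Om := ms.lb_of_corB hodd hB
  have c2 : CorTwo Om := ms.cor2_of_corB hB
  have hcon := ConnMain.connFour hodd hfix hct hcl ms hc hi
  have hC : Conn Om := ConnMain.cm_conn ms hodd hB hcon
  have hfr : ∀ S : Sylow 2 G, ∃ K : Fin 4 → Subgroup G, Set.range K = OmS Om (S : Subgroup G) ∧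
      FourIn.KLF Om K := by
    intro S
    obtain ⟨K, hinj, hr⟩ := exists_frame hc S
    exact ⟨K, hr, b, mem S hr, comm b S hr hinj, FourIn.max_of_range b S hr,
      kl ms b hi S hr (Fintype.card_fin 4) hC hinj (hA G Om ms b c2 hC hc hi S (Fin 4) K (mem S hr)
        (comm b S hr hinj) (Fintype.card_fin 4) hinj hr)⟩
  have i : ExMain.In Om := ExIn.in_of_lb ms b hodd hcon (FourIn.ch_of_frames fun N hN => by
    obtain ⟨S, hNS⟩ := exists_mem_OmS hN
    obtain ⟨K, hr, f⟩ := hfr S
    rw [← hr] at hNS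
    obtain ⟨k, hk⟩ := hNS
    exact ⟨K, k, f, hk⟩)
  obtain ⟨p, F, i1, i2, x⟩ := exists_ex i
  haveI := x.char
  obtain ⟨K, hr, f⟩ := hfr S₀
  have zinj : Function.Injective fun i => zz (K i) := fun i j h => f.inj (hi _ (f.mem i) _ (f.mem j) h)
  have base : FourPieces.Base Om K :=
    { four := Fintype.card_fin 4
      hyp := b.hyp
      core := b.core
      cor := b.cor
      cor2 := fun i j hij => c2 _ (f.mem i) _ (f.mem j) (f.comm i j hij) fun h => hij (zinj h)
      mem := f.mem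
      comm := f.comm
      max := f.max
      kl := f.kl }
  obtain ⟨X, h4⟩ := base.exists_in4 x S₀ hr zinj ms.cls
  obtain ⟨τ, G₀, c, h1, h2, h3, h5, h6, h7, -⟩ := hD G Om ms b c2 hC p F S₀ K X h4
  exact CloseOut.hasPieces_of_conn ms b.core c τ h1 h2 h3 ⟨F, i1, i2, x.char, x.sl⟩ h5 (f.mem 0) (h6 0) (h7 0) hC

end Cfsg.Agent.Cit.CoreFourInj
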