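import Cfsg.Agent.Cit.TypeD4

/-!
# The case `D₄`: the input from centralisers of involutions (project CIT, (D1))

`Inv`: for `i ≠ j` there is an involution `t` centralising `K i`, conjugate to `t z` under `C(K i) ∩ C(K j)`, with
`|C_{Q i s}(t)| = q⁵` and `X j (±1)` quadratic on `C_{Q i s}(t) / X i s`.  RESULT `Inv.toIn : In e z X Q`.
-/

set_option autoImplicit false
set_option linter.unusedSectionVars false

namespace Cfsg.Agent.Cit.TypeD4

open Subgroup Cfsg Matrix Cfsg.Agent.Lib.SL2Mat Cfsg.Agent.Cit.LemmaATwo Cfsg.Agent.Cit.ParabSL2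
  Cfsg.Agent.Cit.SLSysOf Cfsg.Agent.Cit.FrameSign Cfsg.Agent.Cit.SplitQuad
open scoped commutatorElement

variable {G : Type*} [Group G]

section Frame

variable {ι : Type*} {K : ι → Subgroup G} {z : ι → G} {X Q : ι → SignType → Subgroup G}

theorem exists_sqrt [Finite G] (F : Frame K z X Q) {i : ι} {s : SignType} (hs : s ≠ 0) {v : G}
    (hv : v ∈ Q i s) : ∃ k : ℕ, (v * v) ^ k = v := by
  obtain ⟨m, hm⟩ := F.odd_order hs hv
  refine ⟨m + 1, ?_⟩
  have h1 : v ^ (2 * m + 1) = 1 := by rw [← hm]; exact pow_orderOf_eq_one v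
  rw [← pow_two, ← pow_mul]
  calc v ^ (2 * (m + 1)) = v ^ (2 * m + 1) * v := by rw [← pow_succ]; congr 1
    _ = v := by rw [h1, one_mul]

theorem mem_of_sq [Finite G] (F : Frame K z X Q) {i : ι} {s : SignType} (hs : s ≠ 0) {v : G} (hv : v ∈ Q i s)
    {N : Subgroup G} (h : v * v ∈ N) : v ∈ N := by
  obtain ⟨k, hk⟩ := exists_sqrt F hs hv
  rw [← hk]
  exact pow_mem h k

/-- An element of `Q i s` which is fixed modulo `X i s` by an involution centralising `X i s` is fixed. -/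
theorem comm_of_fix [Finite G] (F : Frame K z X Q) {i : ι} {s : SignType} (hs : s ≠ 0) {t v : G} (ht : t * t = 1)
    (htX : ∀ x ∈ X i s, t * x = x * t) (_ : v ∈ Q i s) (_ : t * v * t ∈ Q i s)
    (h : v⁻¹ * (t * v * t) ∈ X i s) : t * v = v * t := by
  set x := v⁻¹ * (t * v * t) with hx
  have h1 : t * v * t = v * x := by rw [hx]; group
  have h2 : t * (t * v * t) * t = v := by
    calc t * (t * v * t) * t = (t * t) * v * (t * t) := by group
      _ = v := by rw [ht, one_mul, mul_one]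
  have h3 : t * (v * x) * t = (v * x) * x := by
    calc t * (v * x) * t = t * v * (x * t) := by group
      _ = t * v * t * x := by rw [← htX x h]; group
      _ = _ := by rw [h1]
  rw [h1, h3] at h2
  have h4 : x * x = 1 := by
    have : v * (x * x) = v * 1 := by rw [mul_one, ← mul_assoc]; exact h2
    exact mul_left_cancel this
  have h5 := F.eq_one_of_sq hs (F.X_le_Q i s hs h) h4
  rw [h5, mul_one] at h1
  calc t * v = t * v * (t * t) := by rw [ht, mul_one]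
    _ = (t * v * t) * t := by group
    _ = v * t := by rw [h1]

/-- The set-up for one pair. -/
structure Pr (K : ι → Subgroup G) (z : ι → G) (X Q : ι → SignType → Subgroup G) (i : ι) (t : G) : Prop where
  sq : t * t = 1
  comm : ∀ k ∈ K i, t * k = k * t

namespace Pr

variable {i : ι} {t : G}

theorem tz_sq (F : Frame K z X Q) (P : Pr K z X Q i t) : (t * z i) * (t * z i) = 1 := by
  calc (t * z i) * (t * z i) = t * (z i * t) * z i := by group
    _ = t * (t * z i) * z i := by rw [P.comm _ (F.z_mem i)]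
    _ = (t * t) * (z i * z i) := by group
    _ = 1 := by rw [P.sq, F.z_sq, one_mul]

theorem tz (F : Frame K z X Q) (P : Pr K z X Q i t) : Pr K z X Q i (t * z i) where
  sq := P.tz_sq F
  comm k hk := by rw [mul_assoc, F.z_cent i k hk, ← mul_assoc, P.comm k hk, mul_assoc]

theorem conj_mem (F : Frame K z X Q) (P : Pr K z X Q i t) {s : SignType} (hs : s ≠ 0) {v : G} (hv : v ∈ Q i s) :
    t * v * t ∈ Q i s := by
  have h1 : t ∈ Subgroup.normalizer (Q i s : Set G) := by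
    refine F.Q_norm i s hs ?_
    refine (Subgroup.centralizer_le_normalizer (X i s : Set G) : _) ?_
    rw [Subgroup.mem_centralizer_iff]
    intro b hb
    exact (P.comm b (F.X_le_K i hs hb)).symm
  have h2 := (Subgroup.mem_normalizer_iff.1 h1 v).1 hv
  rwa [inv_eq_of_mul_eq_one_left P.sq] at h2

/-- `Q i s = C(t) C(t z)`. -/
theorem exists_mul [Finite G] (F : Frame K z X Q) (P : Pr K z X Q i t) {s : SignType} (hs : s ≠ 0) {v : G}
    (hv : v ∈ Q i s) : ∃ a ∈ Q i s ⊓ centralizer {t}, ∃ b ∈ Q i s ⊓ centralizer {t * z i}, v = a * b := by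
  have htX : ∀ x ∈ X i s, t * x = x * t := fun x hx => P.comm x (F.X_le_K i hs hx)
  have htzX : ∀ x ∈ X i s, (t * z i) * x = x * (t * z i) := fun x hx => (P.tz F).comm x (F.X_le_K i hs hx)
  have hXt : X i s ≤ Q i s ⊓ centralizer {t} := fun x hx =>
    ⟨F.X_le_Q i s hs hx, mem_centralizer_singleton_iff.2 (htX x hx).symm⟩
  -- the product is a subgroup
  let N : Subgroup G :=
    { carrier := {v | ∃ a ∈ Q i s ⊓ centralizer {t}, ∃ b ∈ Q i s ⊓ centralizer {t * z i}, v = a * b}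
      one_mem' := ⟨1, one_mem _, 1, one_mem _, by group⟩
      mul_mem' := by
        rintro _ _ ⟨a, ha, b, hb, rfl⟩ ⟨a', ha', b', hb', rfl⟩
        have hk := F.Q_der i s hs b hb.1 a' ha'.1
        refine ⟨a * ⁅b, a'⁆ * a', mul_mem (mul_mem ha (hXt hk)) ha', b * b', mul_mem hb hb', ?_⟩
        rw [commutatorElement_def]; group
      inv_mem' := by
        rintro _ ⟨a, ha, b, hb, rfl⟩
        have hk := F.Q_der i s hs b⁻¹ (inv_mem hb.1) a⁻¹ (inv_mem ha.1)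
        refine ⟨⁅b⁻¹, a⁻¹⁆ * a⁻¹, mul_mem (hXt hk) (inv_mem ha), b⁻¹, inv_mem hb, ?_⟩
        rw [commutatorElement_def]; group }
  suffices h : v ∈ N from h
  apply mem_of_sq F hs hv
  set v' := t * v * t with hv'
  have hv'Q : v' ∈ Q i s := P.conj_mem F hs hv
  have htv' : t * v' * t = v := zz_zz P.sq v
  -- `c = v v'`
  have hc : v * v' ∈ Q i s ⊓ centralizer {t} := by
    refine ⟨mul_mem hv hv'Q, mem_centralizer_singleton_iff.2 ?_⟩
    have e1 : t * (v * v') * t = v' * v := by rw [zz_mul P.sq, htv']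
    refine (comm_of_fix F hs P.sq htX (mul_mem hv hv'Q) (P.conj_mem F hs (mul_mem hv hv'Q)) ?_).symm
    rw [e1]
    have h1 := F.Q_der i s hs v'⁻¹ (inv_mem hv'Q) v⁻¹ (inv_mem hv)
    have e2 : (v * v')⁻¹ * (v' * v) = ⁅v'⁻¹, v⁻¹⁆ := by rw [commutatorElement_def]; group
    rw [e2]; exact h1
  have hd : v * v'⁻¹ ∈ Q i s ⊓ centralizer {t * z i} := by
    have hdQ : v * v'⁻¹ ∈ Q i s := mul_mem hv (inv_mem hv'Q)
    refine ⟨hdQ, mem_centralizer_singleton_iff.2 ?_⟩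
    refine (comm_of_fix F hs (P.tz_sq F) htzX hdQ ((P.tz F).conj_mem F hs hdQ) ?_).symm
    have e1 : t * (v * v'⁻¹) * t = (v * v'⁻¹)⁻¹ := by
      rw [zz_mul P.sq]
      have : t * v'⁻¹ * t = v⁻¹ := by
        have ht' : t⁻¹ = t := inv_eq_of_mul_eq_one_left P.sq
        have h1 : t * v'⁻¹ * t = (t * v' * t)⁻¹ := by
          calc t * v'⁻¹ * t = t⁻¹ * v'⁻¹ * t⁻¹ := by rw [ht']
            _ = (t * v' * t)⁻¹ := by group
        rw [h1, htv']
      rw [this, _root_.mul_inv_rev, inv_inv]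
    have e2 : t * z i * (v * v'⁻¹) * (t * z i) = z i * (t * (v * v'⁻¹) * t) * z i := by
      have : t * z i = z i * t := P.comm _ (F.z_mem i)
      calc t * z i * (v * v'⁻¹) * (t * z i) = (t * z i) * (v * v'⁻¹) * t * z i := by group
        _ = _ := by rw [this]; group
    rw [e2, e1]
    -- `z` inverts modulo `X`
    have h1 := mul_zz_mem F hs (inv_mem hdQ)
    have hcen : ∀ a ∈ Q i s, ∀ b ∈ X i s, a * b = b * a := F.Q_cent i s hs
    exact h1
  have hcd := N.mul_mem (show v * v' ∈ N from ⟨_, hc, 1, one_mem _, by group⟩)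
    (show v * v'⁻¹ ∈ N from ⟨1, one_mem _, _, hd, by group⟩)
  have hk := F.Q_der i s hs v⁻¹ (inv_mem hv) v' hv'Q
  have hkN : ⁅v⁻¹, v'⁆ ∈ N := ⟨_, hXt hk, 1, one_mem _, by group⟩
  -- `v v' v v'⁻¹ = v (v' v v'⁻¹)`
  have e3 : v * v = (v * v' * (v * v'⁻¹)) * ⁅v⁻¹, v'⁆⁻¹ := by
    have h1 : v' * v * v'⁻¹ = ⁅v', v⁆ * v := by rw [commutatorElement_def]; group
    have h2 : ⁅v', v⁆ ∈ X i s := F.Q_der i s hs v' hv'Q v hv
    have h3 : ⁅v⁻¹, v'⁆ = v⁻¹ * ⁅v', v⁆ * v := by simp only [commutatorElement_def]; group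
    have h4 : v⁻¹ * ⁅v', v⁆ * v = ⁅v', v⁆ := by
      rw [F.Q_cent i s hs v⁻¹ (inv_mem hv) _ h2]; group
    rw [h3, h4]
    calc v * v = v * (⁅v', v⁆ * v * ⁅v', v⁆⁻¹) := by
          rw [← F.Q_cent i s hs v hv _ h2]; group
      _ = v * (v' * v * v'⁻¹) * ⁅v', v⁆⁻¹ := by rw [h1]; group
      _ = _ := by group
  rw [e3]
  exact mul_mem hcd (inv_mem hkN)

theorem card_eq [Finite G] (F : Frame K z X Q) (P : Pr K z X Q i t) {s : SignType} (hs : s ≠ 0) :
    Nat.card (Q i s) * Nat.card (X i s) = Nat.card (Q i s ⊓ centralizer {t} : Subgroup G) *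
      Nat.card (Q i s ⊓ centralizer {t * z i} : Subgroup G) := by
  set A := Q i s ⊓ centralizer {t} with hA
  set B := Q i s ⊓ centralizer {t * z i} with hB
  have htX : ∀ x ∈ X i s, t * x = x * t := fun x hx => P.comm x (F.X_le_K i hs hx)
  have htzX : ∀ x ∈ X i s, (t * z i) * x = x * (t * z i) := fun x hx => (P.tz F).comm x (F.X_le_K i hs hx)
  have hXA : X i s ≤ A := fun x hx => ⟨F.X_le_Q i s hs hx, mem_centralizer_singleton_iff.2 (htX x hx).symm⟩
  have hXB : X i s ≤ B := fun x hx => ⟨F.X_le_Q i s hs hx, mem_centralizer_singleton_iff.2 (htzX x hx).symm⟩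
  have hAB : ∀ v, v ∈ A → v ∈ B → v ∈ X i s := by
    intro v h1 h2
    refine F.Q_fix i s hs v h1.1 ?_
    have e1 := mem_centralizer_singleton_iff.1 h1.2
    have e2 := mem_centralizer_singleton_iff.1 h2.2
    -- `v t = t v`, `v t z = t z v`
    have e3 : t * (v * z i) = t * (z i * v) := by
      calc t * (v * z i) = (t * v) * z i := by group
        _ = v * (t * z i) := by rw [← e1]; group
        _ = t * (z i * v) := by rw [e2]; group
    exact (mul_left_cancel e3).symm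
  -- the map `A × B → Q i s` has fibres of size `|X|`
  let g : A × B → Q i s := fun x => ⟨x.1 * x.2, mul_mem x.1.2.1 x.2.2.1⟩
  have hg : Function.Surjective g := by
    rintro ⟨v, hv⟩
    obtain ⟨a, ha, b, hb, e⟩ := P.exists_mul F hs hv
    exact ⟨⟨⟨a, ha⟩, ⟨b, hb⟩⟩, Subtype.ext e.symm⟩
  choose σ hσ using hg
  let Φ : (Q i s) × (X i s) → A × B := fun y =>
    ⟨⟨(σ y.1).1 * y.2, mul_mem (σ y.1).1.2 (hXA y.2.2)⟩, ⟨(y.2 : G)⁻¹ * (σ y.1).2,
      mul_mem (inv_mem (hXB y.2.2)) (σ y.1).2.2⟩⟩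
  have hΦ : Function.Bijective Φ := by
    constructor
    · rintro ⟨v, x⟩ ⟨v', x'⟩ h
      have h1 : ((σ v).1 : G) * x = (σ v').1 * x' := congrArg (fun y => (y.1 : G)) h
      have h2 : (x : G)⁻¹ * (σ v).2 = (x' : G)⁻¹ * (σ v').2 := congrArg (fun y => (y.2 : G)) h
      have h3 : (v : G) = v' := by
        have e1 : ((σ v).1 : G) * (σ v).2 = v := congrArg Subtype.val (hσ v)
        have e2 : ((σ v').1 : G) * (σ v').2 = v' := congrArg Subtype.val (hσ v')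
        rw [← e1, ← e2]
        calc ((σ v).1 : G) * (σ v).2 = ((σ v).1 * x) * ((x : G)⁻¹ * (σ v).2) := by group
          _ = ((σ v').1 * x') * ((x' : G)⁻¹ * (σ v').2) := by rw [h1, h2]
          _ = _ := by group
      have h4 : v = v' := Subtype.ext h3
      subst h4
      have h5 : (x : G) = x' := mul_left_cancel h1
      rw [Subtype.ext h5]
    · rintro ⟨⟨a, ha⟩, ⟨b, hb⟩⟩
      set v : Q i s := ⟨a * b, mul_mem ha.1 hb.1⟩ with hv
      have e1 : ((σ v).1 : G) * (σ v).2 = a * b := congrArg Subtype.val (hσ v)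
      have hx : ((σ v).1 : G)⁻¹ * a ∈ X i s := by
        apply hAB
        · exact mul_mem (inv_mem (σ v).1.2) ha
        · have : ((σ v).1 : G)⁻¹ * a = (σ v).2 * b⁻¹ := by
            have : a = (σ v).1 * (σ v).2 * b⁻¹ := by rw [e1]; group
            rw [this]; group
          rw [this]
          exact mul_mem (σ v).2.2 (inv_mem hb)
      refine ⟨⟨v, ⟨_, hx⟩⟩, ?_⟩
      refine Prod.ext (Subtype.ext ?_) (Subtype.ext ?_)
      · show ((σ v).1 : G) * (((σ v).1 : G)⁻¹ * a) = a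
        group
      · show (((σ v).1 : G)⁻¹ * a)⁻¹ * (σ v).2 = b
        have : ((σ v).2 : G) = ((σ v).1 : G)⁻¹ * (a * b) := by rw [← e1]; group
        rw [this]; group
  rw [← Nat.card_prod, ← Nat.card_prod, Nat.card_congr (Equiv.ofBijective Φ hΦ)]

end Pr

end Frame

variable {Fl : Type*} [Field Fl] [Fintype Fl]

/-- The input for the case `D₄`, with centralisers of involutions `t`. -/
structure Inv {K : Fin 4 → Subgroup G} (e : ∀ i, Matrix.SpecialLinearGroup (Fin 2) Fl ≃* K i) (z : Fin 4 → G)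
    (X Q : Fin 4 → SignType → Subgroup G) : Prop where
  fr : Frame K z X Q
  root : ∀ i, X i 1 = root (e i)
  rootOp : ∀ i, X i (-1) = rootOp (e i)
  zeq : ∀ i j, z i = z j
  h2 : (2 : Fl) ≠ 0
  ord : ∀ i, orderOf (z i) = 2
  max : ∀ i s, s ≠ 0 → ∀ a, (∀ b ∈ X i s, a * b = b * a) → z i * a * z i = a⁻¹ → Odd (orderOf a) → a ∈ Q i s
  inv : ∀ i j, i ≠ j → ∃ t g : G, t * t = 1 ∧ (∀ k ∈ K i, t * k = k * t) ∧ (∀ k ∈ K i, g * k = k * g) ∧
    (∀ k ∈ K j, g * k = k * g) ∧ g * t * g⁻¹ = t * z i ∧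
    ∀ s : SignType, s ≠ 0 → Nat.card (Q i s ⊓ centralizer {t} : Subgroup G) = Nat.card Fl ^ 5 ∧
      (∃ a ∈ Q i s ⊓ centralizer {t}, ∃ b ∈ Q i s ⊓ centralizer {t}, a * b ≠ b * a) ∧
      ∀ u : SignType, u ≠ 0 → ∀ v ∈ Q i s ⊓ centralizer {t}, ∀ x ∈ X j u, ∀ y ∈ X j u, ⁅⁅v, x⁆, y⁆ ∈ X i s

/-- (D1) -/
theorem Inv.toIn [Finite G] {K : Fin 4 → Subgroup G} {e : ∀ i, Matrix.SpecialLinearGroup (Fin 2) Fl ≃* K i}
    {z : Fin 4 → G} {X Q : Fin 4 → SignType → Subgroup G} (H : Inv e z X Q) : In e z X Q := by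
  have F := H.fr
  have hcX : ∀ i s, s ≠ 0 → Nat.card (X i s) = Nat.card Fl := by
    intro i s hs
    rcases s with _ | _ | _
    · exact absurd rfl hs
    · have := (ofEquiv (e i)).card_A'
      rw [A'_eq, ← H.rootOp i] at this
      exact this
    · have := (ofEquiv (e i)).card_A
      rw [A_eq, ← H.root i] at this
      exact this
  -- conjugation by `g`
  have hg : ∀ {i : Fin 4} {t g : G}, (∀ k ∈ K i, g * k = k * g) → g * t * g⁻¹ = t * z i → ∀ s : SignType, s ≠ 0 →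
      ∀ v ∈ Q i s ⊓ centralizer {t * z i}, g⁻¹ * v * g ∈ Q i s ⊓ centralizer {t} := by
    intro i t g hgi hgt s hs v hv
    have hn : g ∈ Subgroup.normalizer (Q i s : Set G) := by
      refine F.Q_norm i s hs ?_
      refine (Subgroup.centralizer_le_normalizer (X i s : Set G) : _) ?_
      rw [Subgroup.mem_centralizer_iff]
      intro b hb
      exact (hgi b (F.X_le_K i hs hb)).symm
    refine ⟨?_, ?_⟩
    · have := (Subgroup.mem_normalizer_iff.1 (inv_mem hn) v).1 hv.1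
      rwa [inv_inv] at this
    · refine mem_centralizer_singleton_iff.2 ?_
      have h1 := mem_centralizer_singleton_iff.1 hv.2
      rw [← hgt] at h1
      calc g⁻¹ * v * g * t = g⁻¹ * (v * (g * t * g⁻¹)) * g := by group
        _ = t * (g⁻¹ * v * g) := by rw [h1]; group
  have hg' : ∀ {i : Fin 4} {t g : G}, (∀ k ∈ K i, g * k = k * g) → g * t * g⁻¹ = t * z i → ∀ s : SignType, s ≠ 0 →
      ∀ v ∈ Q i s ⊓ centralizer {t}, g * v * g⁻¹ ∈ Q i s ⊓ centralizer {t * z i} := by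
    intro i t g hgi hgt s hs v hv
    have hn : g ∈ Subgroup.normalizer (Q i s : Set G) := by
      refine F.Q_norm i s hs ?_
      refine (Subgroup.centralizer_le_normalizer (X i s : Set G) : _) ?_
      rw [Subgroup.mem_centralizer_iff]
      intro b hb
      exact (hgi b (F.X_le_K i hs hb)).symm
    refine ⟨(Subgroup.mem_normalizer_iff.1 hn v).1 hv.1, ?_⟩
    refine mem_centralizer_singleton_iff.2 ?_
    have h1 := mem_centralizer_singleton_iff.1 hv.2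
    rw [← hgt]
    calc g * v * g⁻¹ * (g * t * g⁻¹) = g * (v * t) * g⁻¹ := by group
      _ = g * t * g⁻¹ * (g * v * g⁻¹) := by rw [h1]; group
  have hcg : ∀ {i : Fin 4} {t g : G}, (∀ k ∈ K i, g * k = k * g) → g * t * g⁻¹ = t * z i → ∀ s : SignType, s ≠ 0 →
      Nat.card (Q i s ⊓ centralizer {t * z i} : Subgroup G) = Nat.card (Q i s ⊓ centralizer {t} : Subgroup G) := by
    intro i t g hgi hgt s hs
    exact Nat.card_congr ⟨fun v => ⟨g⁻¹ * v * g, hg hgi hgt s hs v v.2⟩, fun v => ⟨g * v * g⁻¹, hg' hgi hgt s hs v v.2⟩,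
      fun v => Subtype.ext (by simp only; group), fun v => Subtype.ext (by simp only; group)⟩
  refine
    { fr := F, root := H.root, rootOp := H.rootOp, zeq := H.zeq, h2 := H.h2, ord := H.ord, max := H.max
      card := ?_, quad := ?_, nonab := ?_ }
  · intro i s hs
    obtain ⟨j, k, hj, hk, hjk⟩ := In.exists_pair i
    obtain ⟨t, g, h1, h2, h3, h4, h5, h6⟩ := H.inv i j hj.symm
    have P : Pr K z X Q i t := ⟨h1, h2⟩
    have h7 := P.card_eq F hs
    rw [hcg h3 h5 s hs, (h6 s hs).1, hcX i s hs] at h7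
    have hq : 0 < Nat.card Fl := Nat.card_pos
    apply Nat.eq_of_mul_eq_mul_right hq
    rw [h7]; ring
  · intro i j hij s u hs hu v hv x hx y hy
    obtain ⟨t, g, h1, h2, h3, h4, h5, h6⟩ := H.inv i j hij
    have P : Pr K z X Q i t := ⟨h1, h2⟩
    obtain ⟨a, ha, b, hb, rfl⟩ := P.exists_mul F hs hv
    have hxK := F.X_le_K j hu hx
    have hyK := F.X_le_K j hu hy
    have hQc : ∀ v ∈ Q i s, ∀ k ∈ K j, ⁅v, k⁆ ∈ Q i s := by
      intro v hv k hk
      have h1 := mul_mem hv (conj_mem_Q F hij.symm hs hk (inv_mem hv))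
      have : v * (k * v⁻¹ * k⁻¹) = ⁅v, k⁆ := by rw [commutatorElement_def]; group
      rwa [this] at h1
    have hXK : ∀ c ∈ X i s, ∀ k ∈ K j, ⁅c, k⁆ = 1 := fun c hc k hk =>
      commutatorElement_eq_one_iff_mul_comm.2 (F.comm i j hij c (F.X_le_K i hs hc) k hk)
    -- additivity modulo `X i s`
    have hadd : ∀ c ∈ Q i s, ∀ d ∈ Q i s, ∀ k ∈ K j, ∃ m ∈ X i s, ⁅c * d, k⁆ = ⁅c, k⁆ * ⁅d, k⁆ * m := by
      intro c hc d hd k hk
      have e1 : ⁅c * d, k⁆ = c * ⁅d, k⁆ * c⁻¹ * ⁅c, k⁆ := by simp only [commutatorElement_def]; group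
      have e2 : c * ⁅d, k⁆ * c⁻¹ = ⁅c, ⁅d, k⁆⁆ * ⁅d, k⁆ := by rw [commutatorElement_def c ⁅d, k⁆]; group
      have m1 := F.Q_der i s hs c hc _ (hQc d hd k hk)
      have m2 := F.Q_der i s hs _ (hQc d hd k hk) _ (hQc c hc k hk)
      refine ⟨⁅c, ⁅d, k⁆⁆ * ⁅⁅d, k⁆, ⁅c, k⁆⁆, mul_mem m1 m2, ?_⟩
      rw [e1, e2]
      have c1 := F.Q_cent i s hs _ (mul_mem (hQc d hd k hk) (hQc c hc k hk)) _ m1
      have e3 : ⁅d, k⁆ * ⁅c, k⁆ = ⁅⁅d, k⁆, ⁅c, k⁆⁆ * (⁅c, k⁆ * ⁅d, k⁆) := by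
        rw [commutatorElement_def ⁅d, k⁆ ⁅c, k⁆]; group
      have c2 := F.Q_cent i s hs _ (mul_mem (hQc c hc k hk) (hQc d hd k hk)) _ m2
      have c3 := F.Q_cent i s hs _ (mul_mem (hQc c hc k hk) (hQc d hd k hk)) _ m1
      calc ⁅c, ⁅d, k⁆⁆ * ⁅d, k⁆ * ⁅c, k⁆ = ⁅c, ⁅d, k⁆⁆ * (⁅d, k⁆ * ⁅c, k⁆) := by group
        _ = ⁅c, ⁅d, k⁆⁆ * (⁅⁅d, k⁆, ⁅c, k⁆⁆ * (⁅c, k⁆ * ⁅d, k⁆)) := by rw [e3]
        _ = ⁅c, ⁅d, k⁆⁆ * ((⁅c, k⁆ * ⁅d, k⁆) * ⁅⁅d, k⁆, ⁅c, k⁆⁆) := by rw [← c2]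
        _ = (⁅c, ⁅d, k⁆⁆ * (⁅c, k⁆ * ⁅d, k⁆)) * ⁅⁅d, k⁆, ⁅c, k⁆⁆ := by group
        _ = ⁅c, k⁆ * ⁅d, k⁆ * (⁅c, ⁅d, k⁆⁆ * ⁅⁅d, k⁆, ⁅c, k⁆⁆) := by rw [← c3]; group
    have hmod : ∀ c ∈ Q i s, ∀ m ∈ X i s, ∀ k ∈ K j, ⁅c * m, k⁆ = ⁅c, k⁆ := by
      intro c hc m hm k hk
      have e1 : ⁅c * m, k⁆ = c * ⁅m, k⁆ * c⁻¹ * ⁅c, k⁆ := by simp only [commutatorElement_def]; group
      rw [e1, hXK m hm k hk]; group
    -- quadratic on the second factor
    have hb' : ⁅⁅b, x⁆, y⁆ ∈ X i s := by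
      have hbt := hg h3 h5 s hs b hb
      have h7 := (h6 s hs).2.2 u hu _ hbt x hx y hy
      have e1 : ∀ k, k ∈ K j → g⁻¹ * k * g = k := by
        intro k hk
        rw [mul_assoc, ← h4 k hk, inv_mul_cancel_left]
      have e2 : ⁅⁅g⁻¹ * b * g, x⁆, y⁆ = g⁻¹ * ⁅⁅b, x⁆, y⁆ * g := by
        conv_lhs => rw [← e1 x hxK, ← e1 y hyK]
        simp only [commutatorElement_def]; group
      rw [e2] at h7
      have h8 : g * (g⁻¹ * ⁅⁅b, x⁆, y⁆ * g) * g⁻¹ = g⁻¹ * ⁅⁅b, x⁆, y⁆ * g := by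
        rw [h3 _ (F.X_le_K i hs h7)]; group
      have h9 : ⁅⁅b, x⁆, y⁆ = g⁻¹ * ⁅⁅b, x⁆, y⁆ * g := by
        rw [← h8]; group
      rw [h9]; exact h7
    have ha' : ⁅⁅a, x⁆, y⁆ ∈ X i s := (h6 s hs).2.2 u hu a ha x hx y hy
    obtain ⟨m, hm, e1⟩ := hadd a ha.1 b hb.1 x hxK
    have hax := hQc a ha.1 x hxK
    have hbx := hQc b hb.1 x hxK
    rw [e1, hmod _ (mul_mem hax hbx) m hm y hyK]
    obtain ⟨m', hm', e2⟩ := hadd _ hax _ hbx y hyK
    rw [e2]
    exact mul_mem (mul_mem ha' hb') hm'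
  · intro i
    obtain ⟨j, k, hj, hk, hjk⟩ := In.exists_pair i
    obtain ⟨t, g, h1, h2, h3, h4, h5, h6⟩ := H.inv i j hj.symm
    obtain ⟨a, ha, b, hb, hab⟩ := (h6 1 (by decide)).2.1
    exact ⟨a, ha.1, b, hb.1, hab⟩

end Cfsg.Agent.Cit.TypeD4
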