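import Cfsg.Agent.Cit.FrameOf
import Cfsg.Agent.Cit.TypeD4In

/-!
# Frames when the odd cores of the centralisers of the `K i` are trivial (project CIT)

For `Long K X z` with `O(C(K)) = 1` and `R = O(C(X))`: `C_R(z) = X`, `z` inverts `R / X`, `[R,R] ≤ X` and
`X [R, z] = R`; so the frame exists without LEMMA UQ (`frame_of_core`).
-/

set_option autoImplicit false
set_option linter.unusedSectionVars false

namespace Cfsg.Agent.Cit.CoreFrame

open Subgroup Cfsg
open Cfsg.Agent.Cit.Parab Cfsg.Agent.Cit.LemmaUQ Cfsg.Agent.Cit.ParabSL2 Cfsg.Agent.Cit.FrameSign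
  Cfsg.Agent.Cit.FrameOf
open scoped commutatorElement

variable {G : Type*} [Group G] {K X : Subgroup G} {z : G}

variable [Finite G]

theorem fix_core (h : Long K X z) (hc : core K = ⊥) {a : G} (ha : a ∈ core X) (haz : a * z = z * a) : a ∈ X := by
  obtain ⟨x, hx, d, hd, hdK, rfl⟩ := h.mem_core_of_commute ha haz
  have h1 : d ∈ core K := h.core_inf_le ⟨hd, by
    change d ∈ centralizer (K : Set G)
    rw [mem_centralizer_iff]
    exact fun k hk => (hdK k hk).symm⟩
  rw [hc, mem_bot] at h1
  rw [h1, mul_one]; exact hx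

theorem z_conj (h : Long K X z) {r : G} (hr : r ∈ core X) : z * r * z ∈ core X := by
  have hz : z⁻¹ = z := inv_eq_of_mul_eq_one_left h.zsq
  have h1 := core_conj_mem (mem_centralizer_iff.2 fun x hx => (h.central (h.XK hx))) hr
  rwa [hz] at h1

theorem mem_of_sq {r : G} (hr : r ∈ core X) {N : Subgroup G} (h : r * r ∈ N) : r ∈ N := by
  have h1 : orderOf r ∣ Nat.card (core X) := by
    have h5 := orderOf_dvd_natCard (⟨r, hr⟩ : core X)
    rwa [← Subgroup.orderOf_coe] at h5
  obtain ⟨m, hm⟩ := Odd.of_dvd_nat (odd_core X) h1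
  have h2 : (r * r) ^ (m + 1) = r := by
    have h1 : r ^ (2 * m + 1) = 1 := by rw [← hm]; exact pow_orderOf_eq_one r
    rw [← pow_two, ← pow_mul]
    calc r ^ (2 * (m + 1)) = r ^ (2 * m + 1) * r := by rw [← pow_succ]; congr 1
      _ = r := by rw [h1, one_mul]
  rw [← h2]
  exact pow_mem h _

/-- a `z`-fixed point modulo `X` is in `X` -/
theorem mem_of_fix (h : Long K X z) (hc : core K = ⊥) {r : G} (hr : r ∈ core X)
    (hx : r⁻¹ * (z * r * z) ∈ X) : r ∈ X := by
  set x := r⁻¹ * (z * r * z) with hxdef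
  have h1 : z * r * z = r * x := by rw [hxdef]; group
  have hzr := z_conj h hr
  have hrx : r * x = x * r := core_commute hr hx
  have h2 : r * (z * r * z) ∈ X := by
    refine fix_core h hc (mul_mem hr hzr) ?_
    have h3 : z * (r * (z * r * z)) * z = (z * r * z) * r := by
      calc z * (r * (z * r * z)) * z = (z * r * z) * r * (z * z) := by group
        _ = (z * r * z) * r := by rw [h.zsq, mul_one]
    have h4 : (z * r * z) * r = r * (z * r * z) := by
      rw [h1, mul_assoc, ← hrx]
    calc r * (z * r * z) * z = (z * z) * (r * (z * r * z)) * z := by rw [h.zsq, one_mul]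
      _ = z * (z * (r * (z * r * z)) * z) := by group
      _ = z * (r * (z * r * z)) := by rw [h3, h4]
  rw [h1, ← mul_assoc] at h2
  have h3 : r * r ∈ X := by
    have := mul_mem h2 (inv_mem hx)
    rwa [mul_inv_cancel_right] at this
  exact mem_of_sq hr h3

/-- `z` inverts `R / X` and `R / X` is abelian. -/
theorem inv_and_der (h : Long K X z) (hc : core K = ⊥) :
    (∀ r ∈ core X, r * (z * r * z) ∈ X) ∧ ∀ a ∈ core X, ∀ b ∈ core X, ⁅a, b⁆ ∈ X := by
  have hz : z⁻¹ = z := inv_eq_of_mul_eq_one_left h.zsq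
  set R := core X with hR
  let φ : R →* R :=
    { toFun := fun a => ⟨z * a * z, z_conj h a.2⟩
      map_one' := Subtype.ext (by
        change z * 1 * z = 1
        rw [mul_one, h.zsq])
      map_mul' := fun a b => Subtype.ext (by
        change z * (a * b) * z = (z * a * z) * (z * b * z)
        calc z * ((a : G) * b) * z = z * a * 1 * b * z := by group
          _ = z * a * (z * z) * b * z := by rw [h.zsq]
          _ = z * a * z * (z * b * z) := by group) }
  let N : Subgroup R := X.subgroupOf R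
  have hcen : ∀ a : R, ∀ x ∈ N, a * x = x * a := by
    intro a x hx
    apply Subtype.ext
    exact core_commute a.2 (mem_subgroupOf.1 hx)
  have hN : N.Normal := ⟨fun x hx a => by
    rw [hcen a x hx, mul_inv_cancel_right]; exact hx⟩
  have hXz : ∀ x ∈ X, z * x * z = x := by
    intro x hx
    rw [← h.central (h.XK hx), mul_assoc, h.zsq, mul_one]
  have hφN : N ≤ N.comap φ := by
    intro x hx
    rw [mem_comap, mem_subgroupOf]
    change z * (x : G) * z ∈ X
    rw [hXz _ (mem_subgroupOf.1 hx)]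
    exact mem_subgroupOf.1 hx
  let ψ : R ⧸ N →* R ⧸ N := QuotientGroup.map N N φ hφN
  have h1 : MonoidHom.FixedPointFree ψ := by
    intro a ha
    induction a using QuotientGroup.induction_on with
    | H r =>
      have h2 : (QuotientGroup.mk (φ r) : R ⧸ N) = QuotientGroup.mk r := ha
      rw [eq_comm, QuotientGroup.eq, mem_subgroupOf] at h2
      rw [QuotientGroup.eq_one_iff, mem_subgroupOf]
      exact mem_of_fix h hc r.2 h2
  have h2 : Function.Involutive ψ := by
    intro a
    induction a using QuotientGroup.induction_on with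
    | H r =>
      change (QuotientGroup.mk (φ (φ r)) : R ⧸ N) = QuotientGroup.mk r
      congr 1
      apply Subtype.ext
      change z * (z * (r : G) * z) * z = r
      calc z * (z * (r : G) * z) * z = (z * z) * r * (z * z) := by group
        _ = r := by rw [h.zsq, one_mul, mul_one]
  constructor
  · intro r hr
    have h3 := congrFun (h1.coe_eq_inv_of_involutive h2) (QuotientGroup.mk ⟨r, hr⟩)
    have h4 : (QuotientGroup.mk (φ ⟨r, hr⟩) : R ⧸ N) = (QuotientGroup.mk ⟨r, hr⟩)⁻¹ := h3
    rw [← QuotientGroup.mk_inv, eq_comm, QuotientGroup.eq, inv_inv, mem_subgroupOf] at h4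
    exact h4
  · intro a ha b hb
    have h3 := h1.commute_all_of_involutive h2 (QuotientGroup.mk ⟨a, ha⟩) (QuotientGroup.mk ⟨b, hb⟩)
    have h4 : (QuotientGroup.mk (⟨b, hb⟩ * ⟨a, ha⟩ : R) : R ⧸ N) = QuotientGroup.mk (⟨a, ha⟩ * ⟨b, hb⟩) := h3.eq.symm
    rw [QuotientGroup.eq, mem_subgroupOf] at h4
    have h5 : (b * a)⁻¹ * (a * b) ∈ X := h4
    have h6 : ⁅a, b⁆ = (b * a) * ((b * a)⁻¹ * (a * b)) * (b * a)⁻¹ := by
      rw [commutatorElement_def]; group
    rw [h6, core_commute (mul_mem hb ha) h5, mul_inv_cancel_right]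
    exact h5

theorem QQ_eq (h : Long K X z) (hc : core K = ⊥) : QQ X z = core X := by
  apply le_antisymm (Long.QQ_le_core h)
  intro r hr
  have hz : z⁻¹ = z := inv_eq_of_mul_eq_one_left h.zsq
  have h1 := (inv_and_der h hc).1 _ (inv_mem hr)
  have h2 : ⁅r, z⁆ ∈ QX X z := commutator_core_mem hr
  -- `r² = [r,z] x`
  have h3 : r * r ∈ QQ X z := by
    have e : r * r = ⁅r, z⁆ * (r⁻¹ * (z * r⁻¹ * z))⁻¹ := by
      rw [commutatorElement_def, hz, mul_inv_rev, mul_inv_rev, mul_inv_rev, inv_inv, hz]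
      calc r * r = r * (z * r⁻¹ * (z * z) * r * z) * r := by
            rw [h.zsq]
            have : z * r⁻¹ * 1 * r * z = 1 := by
              rw [mul_one, inv_mul_cancel_right, h.zsq]
            rw [this, mul_one]
        _ = _ := by group
    rw [e]
    exact mul_mem (QX_le_QQ _ _ h2) (X_le_QQ _ _ (inv_mem h1))
  exact mem_of_sq hr h3

section Frame

variable {ι : Type*} {Om : Set (Subgroup G)} {F : Type*} [Field F] [Fintype F] {K : ι → Subgroup G}
  {X : ι → SignType → Subgroup G}

/-- the frame, from `O(C(K i)) = 1` -/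
theorem frame_of_core (D : Dat Om F K X) (hF : Odd (Fintype.card F)) (hc : ∀ i, core (K i) = ⊥) :
    Frame K (fun i => zz (K i)) X (QF K X) where
  z_mem i := D.hyp.zz_mem (D.mem i)
  z_sq i := D.hyp.zz_mul (D.mem i)
  z_cent i a ha := ((D.long hF i one_ne_zero).central ha).symm
  comm := D.comm
  K_eq := D.K_eq
  Q_zero := QF_zero K X
  X_le_Q i s hs := by rw [QF_of_ne K X i hs]; exact X_le_QQ _ _
  Q_cent i s hs a ha b hb := by
    rw [QF_of_ne K X i hs] at ha
    exact QQ_comm (D.long hF i hs) ha hb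
  Q_der i s hs a ha b hb := by
    have hl := D.long hF i hs
    rw [QF_of_ne K X i hs, QQ_eq hl (hc i)] at ha hb
    exact (inv_and_der hl (hc i)).2 a ha b hb
  Q_fix i s hs a ha h1 := by
    have hl := D.long hF i hs
    rw [QF_of_ne K X i hs, QQ_eq hl (hc i)] at ha
    exact fix_core hl (hc i) ha h1.symm
  Q_norm i s hs := by
    rw [QF_of_ne K X i hs]
    intro g hgn
    rw [mem_normalizer_iff_cj] at hgn ⊢
    exact cj_QQ (D.long hF i hs) hgn
  Q_odd i s hs := by
    rw [QF_of_ne K X i hs]
    exact Weights.card_odd_of_le (odd_core _) (Long.QQ_le_core (D.long hF i hs))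
  X_center i s hs a ha hc := D.X_center i hs ha hc
  X_disj i j hij s t hs ht a ha hb :=
    D.X_center i hs ha fun b hbK => (D.comm i j hij b hbK a (D.X_le j ht hb)).symm

/-- elements of odd order of `C(X)` inverted by `z` lie in `Q` -/
theorem QF_max (D : Dat Om F K X) (hF : Odd (Fintype.card F)) (i : ι) {s : SignType} (hs : s ≠ 0) {a : G}
    (ha : ∀ b ∈ X i s, a * b = b * a) (hinv : zz (K i) * a * zz (K i) = a⁻¹) (hodd : Odd (orderOf a)) :
    a ∈ QF K X i s := by
  have hl := D.long hF i hs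
  rw [QF_of_ne K X i hs]
  have h1 := hl.commutator_mem (mem_centralizer_iff.2 fun x hx => (ha x hx).symm)
  have hz : (zz (K i))⁻¹ = zz (K i) := inv_eq_of_mul_eq_one_left hl.zsq
  have h2 : ⁅a, zz (K i)⁆ = a * a := by
    have h3 : zz (K i) * a⁻¹ * zz (K i) = a := by
      have h4 := congrArg (·⁻¹) hinv
      simp only [mul_inv_rev, inv_inv, hz] at h4
      rw [← mul_assoc] at h4
      exact h4
    rw [commutatorElement_def, hz]
    calc a * zz (K i) * a⁻¹ * zz (K i) = a * (zz (K i) * a⁻¹ * zz (K i)) := by group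
      _ = a * a := by rw [h3]
  rw [h2] at h1
  obtain ⟨m, hm⟩ := hodd
  have h3 : (a * a) ^ (m + 1) = a := by
    have h1 : a ^ (2 * m + 1) = 1 := by rw [← hm]; exact pow_orderOf_eq_one a
    rw [← pow_two, ← pow_mul]
    calc a ^ (2 * (m + 1)) = a ^ (2 * m + 1) * a := by rw [← pow_succ]; congr 1
      _ = a := by rw [h1, one_mul]
  rw [← h3]
  exact pow_mem (QX_le_QQ _ _ h1) _

end Frame

end Cfsg.Agent.Cit.CoreFrame
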