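import Cfsg.Agent.Cit.TypeDet.Final
import Cfsg.Agent.Cit.Branches

/-!
# `CoreMany` (row Z6): `|Om(S)| ≥ 5`, skeleton

`coreMany_of` : `CoreMany` from

* `LocStmt`   : (EX) `HasPieces (restr Om C(s))` for all involutions `s` (exact pieces, no odd cores);
* `ConnStmt`  : (CONN) the commuting graph on `Om` is connected;
* `KindFact`, `GenFact`, `AutFact`, `ZFact` : facts on the charts of the pieces (`TypeDet/Setup`, `TypeDet/Reduc`);
* `IdentStmt` : the output `Out f` of the type determination gives `HasPieces Om`.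
-/

set_option autoImplicit false
set_option linter.style.haveILetI false

namespace Cfsg.Agent.Cit.CoreMany

open Subgroup Cfsg Cfsg.Agent.Cit.TypeDet

universe u

/-- (EX) : local pieces -/
def LocStmt : Prop := ∀ (G : Type u) [Group G] [Finite G] (Om : Set (Subgroup G)), MinS Om →
  ∀ n, 5 ≤ n → Branches.Card Om n → Loc Om

/-- (CONN) : the commuting graph is connected -/
def ConnStmt : Prop := ∀ (G : Type u) [Group G] [Finite G] (Om : Set (Subgroup G)), MinS Om →
  ∀ n, 5 ≤ n → Branches.Card Om n → ∀ C : Set (Subgroup G), C ⊆ Om → C.Nonempty →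
    (∀ K ∈ C, ∀ L ∈ Om, cm K L → L ∈ C) → C = Om

/-- the identification : the output of the type determination gives `HasPieces Om` -/
def IdentStmt : Prop := ∀ (G : Type u) [Group G] [Finite G] (Om : Set (Subgroup G)), MinS Om → Loc Om →
  ∀ (S : Sylow 2 G) (ι : Type u) [Fintype ι] (K : ι → Subgroup G) (f : IFrm Om K),
    Set.range K = OmS Om (S : Subgroup G) → 5 ≤ Fintype.card ι → Out f → HasPieces Om

/-- **`CoreMany`** -/
theorem coreMany_of (hLoc : LocStmt.{u}) (hConn : ConnStmt.{u}) (hKF : KindFact.{u}) (hGF : GenFact.{u})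
    (hAF : AutFact.{u}) (hZF : ZFact.{u}) (hId : IdentStmt.{u}) : Branches.CoreMany.{u} := by
  intro G _ _ Om ms n h5 hc
  have hloc := hLoc G Om ms n h5 hc
  have hconn := hConn G Om ms n h5 hc
  have hone : ∀ K ∈ Om, ∀ L ∈ Om, ∃ g, Cit.cj g K = L := fun K hK L hL => by
    obtain ⟨g, hg⟩ := ms.cls K hK L hL
    exact ⟨g, hg.symm⟩
  haveI := ms.simple
  obtain ⟨S⟩ : Nonempty (Sylow 2 G) := inferInstance
  have hfr := frames ms.hyp hone hloc
  obtain ⟨ι, i1, K, f, hr⟩ := exists_ifrm hfr (F := OmS Om (S : Subgroup G)) ⟨S, rfl⟩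
  have hcard : 5 ≤ Fintype.card ι := by
    have h1 := hc S
    rw [← hr, ← Set.image_univ, Set.ncard_image_of_injective _ f.inj, Set.ncard_univ,
      Nat.card_eq_fintype_card] at h1
    omega
  exact hId G Om ms hloc S ι K f hr hcard
    (out_of hKF hGF hAF hZF ms.hyp hone hloc hconn S f hr hcard)

end Cfsg.Agent.Cit.CoreMany
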