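import Cfsg.Agent.Cit.OneEndSD

/-!
# `|Om(S)| = 1`, `F = 1`: the Sylow 2-subgroups of `G` are semidihedral, wreathed or of type `G₂(q)`
-/

set_option autoImplicit false

namespace Cfsg.Agent.Cit.OneEnd

open Subgroup Cfsg

variable {G : Type*} [Group G] [Finite G] {Om : Set (Subgroup G)}

/-- **the end of `|Om(S)| = 1`** -/
theorem main (h : One Om) (hidx : ∀ H : Subgroup G, H.index ≠ 2)
    (hF : ∀ K L T Q Q', OPair Om K L T Q Q' → ∀ a ∈ T, (∀ u ∈ Q, a * u = u * a) → (∀ u ∈ Q', a * u = u * a) →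
      a = 1)
    (hpair : ∃ K ∈ Om, ∃ L ∈ Om, K ≠ L ∧ zz K * zz L = zz L * zz K) (S : Sylow 2 G) :
    Cfsg.IsQuasiDihedral (S : Subgroup G) ∨ Cfsg.IsWreathed (S : Subgroup G) ∨
      ∃ m v r s, SylowG2.Coord.TG2 (S : Subgroup G) m v r s := by
  have hS : Syl (S : Subgroup G) ⊤ := ⟨le_top, S.isPGroup', by rw [relIndex_top_right]; exact S.not_dvd_index⟩
  by_cases hW : ∃ K ∈ Om, ∃ L ∈ Om, K ≠ L ∧ zz K * zz L = zz L * zz K ∧ ∃ u ∈ K, u * u = zz K ∧ u * zz L = zz L * u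
  · right
    rcases OneEndGlue.main_W h (OneFieldPsi.hfield h hidx) hF hW hS with h1 | ⟨n, f, r, s, h1⟩
    · exact Or.inl h1
    · exact Or.inr ⟨n + 2, f, r, s, h1⟩
  · left
    refine OneEndSD.main_SD h hidx hF hpair ?_ hS
    intro K hK L hL hne hc u hu huu hut
    exact hW ⟨K, hK, L, hL, hne, hc, u, hu, huu, hut⟩

end Cfsg.Agent.Cit.OneEnd
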