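import Cfsg.Agent.Cit.TDef
import Cfsg.Agent.Cit.TBasic
import Cfsg.Agent.Cit.OneBasic
import Cfsg.Agent.Cit.Eleven

/-!
# THEOREM T, the case `|Om(S)| = 1`: from the isomorphism type of `G` to the pieces

`G` simple, `One Om`. The leaves `M₁₁` (`hasPieces_of_isoM11`) and `G₂(q)`, `³D₄(q)` (`hasPieces_of_isG2D4`).
-/

set_option autoImplicit false
set_option linter.style.haveILetI false
set_option linter.unusedSectionVars false

namespace Cfsg.Agent.Cit.OneLeafBase

open Subgroup Cfsg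

variable {G : Type*} [Group G] {Om : Set (Subgroup G)}

/-! ### `⊤` as a quasisimple group -/

theorem center_eq_bot [IsSimpleGroup G] (hna : ¬ IsMulCommutative G) : center G = ⊥ := by
  rcases (inferInstance : (center G).Normal).eq_bot_or_eq_top with h | h
  · exact h
  · exfalso
    apply hna
    refine ⟨⟨fun a b => ?_⟩⟩
    have ha : a ∈ center G := by rw [h]; exact mem_top a
    exact ((mem_center_iff.1 ha) b).symm

theorem center_top_eq_bot [IsSimpleGroup G] (hna : ¬ IsMulCommutative G) :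
    center (⊤ : Subgroup G) = ⊥ := by
  rw [eq_bot_iff]
  intro x hx
  have h1 : (x : G) ∈ center G := by
    rw [mem_center_iff]
    intro g
    exact congrArg Subtype.val (mem_center_iff.1 hx ⟨g, mem_top g⟩)
  rw [center_eq_bot hna, mem_bot] at h1
  exact mem_bot.2 (Subtype.ext h1)

/-- `⊤ ⧸ Z(⊤) ≃ G` -/
noncomputable def topQuot [IsSimpleGroup G] (hna : ¬ IsMulCommutative G) :
    ↥(⊤ : Subgroup G) ⧸ center ↥(⊤ : Subgroup G) ≃* G :=
  ((QuotientGroup.quotientMulEquivOfEq (center_top_eq_bot hna)).trans QuotientGroup.quotientBot).trans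
    Subgroup.topEquiv

theorem isQuasisimple_top [IsSimpleGroup G] (hna : ¬ IsMulCommutative G) :
    IsQuasisimple (⊤ : Subgroup G) := by
  have e : ↥(⊤ : Subgroup G) ≃* G := Subgroup.topEquiv
  refine ⟨?_, (MulEquiv.isSimpleGroup_congr (topQuot hna)).mpr inferInstance⟩
  have h1 : Group.IsPerfect G := by
    rw [Group.isPerfect_def]
    rcases (inferInstance : (commutator G).Normal).eq_bot_or_eq_top with h | h
    · exfalso
      apply hna
      refine ⟨⟨fun a b => ?_⟩⟩
      have h1 := Subgroup.commutator_mem_commutator (mem_top a) (mem_top b)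
      rw [← _root_.commutator_def, h, mem_bot, commutatorElement_eq_one_iff_mul_comm] at h1
      exact h1
    · exact h
  exact Group.IsPerfect.ofSurjective (f := e.symm.toMonoidHom) e.symm.surjective

theorem isPGroup_center_top [IsSimpleGroup G] (hna : ¬ IsMulCommutative G) (p : ℕ) :
    IsPGroup p (center ↥(⊤ : Subgroup G)) := by
  rw [center_top_eq_bot hna]
  exact IsPGroup.of_bot

/-- a group with a member is not commutative -/
theorem not_isMulCommutative [Finite G] (h : Hyp Om) {K : Subgroup G} (hK : K ∈ Om) : ¬ IsMulCommutative G := by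
  intro hc
  obtain ⟨Q, hQ⟩ := Hyp.exists_syl K
  obtain ⟨c, v, z, n, hcv⟩ := exists_gq (h.isGQ hK hQ)
  have h1 := hcv.conj
  have h2 : v * c * v⁻¹ = c := by rw [hc.is_comm.comm v c]; group
  rw [h2] at h1
  have h3 : c ^ 2 = 1 := by
    rw [pow_two]
    nth_rewrite 2 [h1]
    exact mul_inv_cancel c
  have h4 := orderOf_dvd_of_pow_eq_one h3
  rw [hcv.ord] at h4
  have h5 := Nat.le_of_dvd (by norm_num) h4
  have h6 : 2 ^ 2 ≤ 2 ^ (n + 2) := Nat.pow_le_pow_right (by norm_num) (by omega)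
  omega

/-- the family `{⊤}` -/
theorem hasPieces_of_top (hc : ∀ K ∈ Om, OO K = ⊥) (hp : Piece Om ⊤) : HasPieces Om where
  core := hc
  fam := ⟨{⊤}, fun D hD => by rw [Set.mem_singleton_iff.1 hD]; exact hp,
    fun D hD E hE hne => absurd ((Set.mem_singleton_iff.1 hD).trans (Set.mem_singleton_iff.1 hE).symm) hne,
    fun K _ => ⟨⊤, Set.mem_singleton _, le_top⟩⟩

/-! ### `M₁₁` -/

theorem eq_SS [Finite G] (h : Hyp Om) (iso : Spor.IsoM11 G) {K : Subgroup G} (hK : K ∈ Om) (ty : Ty K) :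
    K = Eleven.SS (zz K) := by
  have hz := h.orderOf_zz hK
  rcases Eleven.eq_or_eq_of_sylow iso hz (h.le_centralizer hK) (h.quat K hK) with h1 | h1
  · exfalso
    have h2 : IsPGroup 2 K := by
      rw [h1]
      exact IsPGroup.of_card (n := 3) (by rw [Eleven.card_QQ iso hz]; norm_num)
    have h3 := ty.isType.tyTwo (h.zz_mem hK)
    have h4 : closure {c | c ∈ K ∧ Odd (orderOf c)} ≤ (⊥ : Subgroup G) := by
      rw [closure_le]
      rintro c ⟨hc, ho⟩
      obtain ⟨k, hk⟩ := h2 ⟨c, hc⟩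
      have h5 : c ^ 2 ^ k = 1 := congrArg Subtype.val hk
      have h6 := orderOf_dvd_of_pow_eq_one h5
      have h7 : orderOf c = 1 := by
        obtain ⟨i, -, hi⟩ := (Nat.dvd_prime_pow Nat.prime_two).1 h6
        rcases Nat.eq_zero_or_pos i with h8 | h8
        · rw [hi, h8, pow_zero]
        · exfalso
          rw [hi] at ho
          exact (Nat.not_odd_iff_even.2 (Nat.even_pow.2 ⟨even_two, by omega⟩)) ho
      exact orderOf_eq_one_iff.1 h7
    have h5 := h4 h3
    rw [mem_bot] at h5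
    rw [h5, orderOf_one] at hz
    omega
  · exact h1

theorem oddCore_eq_bot_of_good {X : Type*} [Group X] [Finite X] (h : Ty.Good X) : oddCore X = ⊥ := by
  have hn : (oddCore X).Normal := Lib.Cores.pPrimeCore_normal 2
  have ho : Odd (Nat.card (oddCore X)) := Nat.coprime_two_right.1 (Lib.Cores.pPrimeCore_coprime 2)
  obtain ⟨z, hz, -⟩ := h.uniq
  rcases h.one _ hn with h1 | h1
  · exfalso
    have h2 : Odd (Nat.card X) := by
      rw [← (oddCore X).card_mul_index]
      exact ho.mul h1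
    have h3 : 2 ∣ Nat.card X := by
      rw [← hz]
      exact orderOf_dvd_natCard z
    obtain ⟨k, hk⟩ := h2
    omega
  · rw [eq_bot_iff]
    intro x hx
    rcases h1 x hx with h2 | h2
    · exact mem_bot.2 h2
    · exfalso
      have h3 : 2 ∣ Nat.card (oddCore X) := by
        rw [← h2]
        have := orderOf_dvd_natCard (⟨x, hx⟩ : oddCore X)
        rwa [← Subgroup.orderOf_coe] at this
      obtain ⟨k, hk⟩ := ho
      omega

theorem oddCore_SS (iso : Spor.IsoM11 G) {z : G} (hz : orderOf z = 2) : oddCore (Eleven.SS z) = ⊥ := by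
  have hfin := Eleven.finite iso
  obtain ⟨e⟩ := Eleven.SS_equiv iso hz
  exact oddCore_eq_bot_of_good (Ty.good_X.congr e.symm)

theorem OO_SS (iso : Spor.IsoM11 G) {z : G} (hz : orderOf z = 2) : OO (Eleven.SS z) = ⊥ := by
  rw [OO, oddCore_SS iso hz, Subgroup.map_bot]

theorem isT_SS (iso : Spor.IsoM11 G) {z : G} (hz : orderOf z = 2) : SolvTwo.IsT (Eleven.SS z) := by
  have hfin := Eleven.finite iso
  obtain ⟨e⟩ := Eleven.SS_equiv iso hz
  exact ⟨((QuotientGroup.quotientMulEquivOfEq (oddCore_SS iso hz)).trans QuotientGroup.quotientBot).trans e⟩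

theorem hasPieces_of_isoM11 [Finite G] (h : Hyp Om) (hne : Om.Nonempty) (ty : ∀ K ∈ Om, Ty K)
    (iso : Spor.IsoM11 G) : HasPieces Om := by
  haveI : IsSimpleGroup G := (Eleven.isM11 iso).1
  obtain ⟨K, hK⟩ := hne
  have hna := not_isMulCommutative h hK
  apply hasPieces_of_top
  · intro J hJ
    rw [eq_SS h iso hJ (ty J hJ)]
    exact OO_SS iso (h.orderOf_zz hJ)
  · refine Piece.mathieu (isQuasisimple_top hna) (isPGroup_center_top hna 2) ?_ ⟨K, hK, le_top⟩ ?_
    · obtain ⟨e⟩ := iso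
      exact ⟨(topQuot hna).trans e⟩
    · intro J hJ _
      rw [eq_SS h iso hJ (ty J hJ)]
      exact isT_SS iso (h.orderOf_zz hJ)

/-! ### `G₂(q)`, `³D₄(q)` -/

theorem One.eq_of_le_centralizer [Finite G] (h : One Om) {K J : Subgroup G} (hK : K ∈ Om) (hJ : J ∈ Om)
    (hc : K ≤ centralizer (J : Set G)) : K = J := by
  obtain ⟨Q, hQ⟩ := Hyp.exists_syl K
  refine h.eq_of_cent hK hJ hQ fun x hx => ?_
  exact mem_centralizer_iff.1 (hc (hQ.1 hx)) _ (h.hyp.zz_mem hJ)

theorem hasPieces_of_isG2D4 [Finite G] [IsSimpleGroup G] (h : One Om) (hne : Om.Nonempty)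
    (hc : ∀ K ∈ Om, OO K = ⊥) {p : ℕ} (hp : p.Prime) (h2 : p ≠ 2) (iso : IsG2D4 p G) : HasPieces Om := by
  obtain ⟨K, hK⟩ := hne
  have hna := not_isMulCommutative h.hyp hK
  apply hasPieces_of_top hc
  refine Piece.exc (isQuasisimple_top hna) (isPGroup_center_top hna 2) p hp h2
    (iso.congr (topQuot hna).symm) ⟨K, hK, le_top⟩ ?_ ?_
  · intro K hK J hJ _ _ hne hc
    exact absurd (One.eq_of_le_centralizer h hK hJ hc) hne
  · intro K hK J hJ M hM _ _ _ hc _ _
    exact Or.inl (One.eq_of_le_centralizer h hK hJ hc)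

end Cfsg.Agent.Cit.OneLeafBase
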