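import Cfsg.Agent.Cit.Branches
import Cfsg.Agent.Cit.OneEnd
import Cfsg.Agent.Cit.OneF.Main
import Cfsg.Agent.Cit.OneLeafBase
import Cfsg.Agent.Cit.Parab

/-!
# The branch `|Om(S)| = 1` of THEOREM T: assembly

`coreOne` : `Branches.CoreOne` from

* `S1173Stmt` (external);
* `IdentStmt` : `G` simple, `One Om`, Sylow 2-subgroups semidihedral, wreathed or of type `G₂(q)` ⟹ `G` is
  `PSL₃(q)`, `PSU₃(q)`, `M₁₁`, `G₂(q)`, `³D₄(q)` (from S0507, S0523, S1742 and the exclusion of `M₁₂`);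
* `LongStmt` : the pieces for `PSL₃(q)`, `PSU₃(q)`;
* `HexStmt` : `O(K) = 1` for `G₂(q)`, `³D₄(q)`.

Everything else (pairs, THEOREM F1, fields, the end games) is proved: `sylow_type`.
-/

set_option autoImplicit false
set_option linter.style.haveILetI false
set_option linter.unusedSectionVars false

namespace Cfsg.Agent.Cit.CoreOne

open Subgroup Cfsg Cfsg.Agent.Cit.OneLeafBase

universe u

/-! ### Simple groups -/

section Simple

variable {G : Type*} [Group G] [IsSimpleGroup G]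

theorem centralizer_eq_bot (hna : ¬ IsMulCommutative G) {N : Subgroup G} (hN : N.Normal)
    (hs : ¬ Group.IsSolvable N) : centralizer (N : Set G) = ⊥ := by
  rcases hN.eq_bot_or_eq_top with h | h
  · exfalso
    apply hs
    rw [h]
    infer_instance
  · rw [h, coe_top, centralizer_univ]
    exact center_eq_bot hna

theorem index_ne_two (hna : ¬ IsMulCommutative G) (H : Subgroup G) : H.index ≠ 2 := by
  intro h
  have hn := normal_of_index_eq_two h
  rcases hn.eq_bot_or_eq_top with h1 | h1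
  · rw [h1, index_bot] at h
    apply hna
    haveI : Fact (Nat.Prime 2) := ⟨Nat.prime_two⟩
    haveI : IsCyclic G := isCyclic_of_prime_card h
    exact IsCyclic.commutative
  · rw [h1, index_top] at h
    omega

theorem oddCore_eq_bot [Finite G] (h2 : 2 ∣ Nat.card G) : oddCore G = ⊥ := by
  rcases (Lib.Cores.pPrimeCore_normal 2 (G := G)).eq_bot_or_eq_top with h | h
  · exact h
  · exfalso
    have h1 := Lib.Cores.pPrimeCore_coprime (G := G) 2
    rw [h, card_top] at h1
    have h3 := Nat.dvd_gcd h2 (dvd_refl 2)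
    rw [h1] at h3
    omega

end Simple

/-! ### A pair of members -/

section Pair

variable {G : Type*} [Group G] [Finite G] {Om : Set (Subgroup G)}

theorem two_dvd_card (h : Hyp Om) {K : Subgroup G} (hK : K ∈ Om) : 2 ∣ Nat.card G := by
  rw [← h.orderOf_zz hK]
  exact orderOf_dvd_natCard _

/-- `Z*` : there are two members with commuting involutions -/
theorem exists_pair [IsSimpleGroup G] (h : One Om) (hne : Om.Nonempty) :
    ∃ K ∈ Om, ∃ L ∈ Om, K ≠ L ∧ zz K * zz L = zz L * zz K := by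
  obtain ⟨K, hK⟩ := hne
  by_contra hcon
  push Not at hcon
  obtain ⟨N, hN, hodd, hc⟩ := Parab.zstar (h.hyp.orderOf_zz hK) (by
    intro g hg
    by_contra hne
    apply hcon K hK (cj g K) (h.hyp.conj K hK g)
    · intro e
      apply hne
      rw [← h.hyp.zz_cj hK, ← e]
    · rw [h.hyp.zz_cj hK]
      exact hg.symm)
  rcases hN.eq_bot_or_eq_top with h1 | h1
  · have h2 : zz K ∈ center G := by
      rw [mem_center_iff]
      intro g
      have h3 := hc g
      rw [h1, mem_bot] at h3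
      calc g * zz K = (zz K * g * (zz K)⁻¹ * g⁻¹) * (g * zz K) := by rw [h3, one_mul]
        _ = zz K * g := by group
    rw [center_eq_bot (not_isMulCommutative h.hyp hK), mem_bot] at h2
    have h3 := h.hyp.orderOf_zz hK
    rw [h2, orderOf_one] at h3
    omega
  · rw [h1, card_top, Nat.odd_iff] at hodd
    have h2 := two_dvd_card h.hyp hK
    omega

/-- **The Sylow 2-subgroups in the branch `|Om(S)| = 1`** -/
theorem sylow_type [IsSimpleGroup G] (h : One Om) (hne : Om.Nonempty) (hT : ∀ K ∈ Om, TyTwo K)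
    (h1173 : OneF.H1173 G) (S : Sylow 2 G) :
    Cfsg.IsQuasiDihedral (S : Subgroup G) ∨ Cfsg.IsWreathed (S : Subgroup G) ∨
      ∃ m v r s, SylowG2.Coord.TG2 (S : Subgroup G) m v r s := by
  obtain ⟨K, hK⟩ := id hne
  have hna := not_isMulCommutative h.hyp hK
  refine OneEnd.main h (index_ne_two hna) ?_ (exists_pair h hne) S
  intro K L T Q Q' p a ha h1 h2
  exact OneF.eq_one_of_oPair h (OneF.k1_of_tyTwo h.hyp hT) h1173 (fun N hN => centralizer_eq_bot hna hN) p ha h1 h2

end Pair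

/-! ### The inputs -/

/-- S1173 -/
def S1173Stmt : Prop := ∀ (G : Type u) [Group G] [Finite G], oddCore G = ⊥ → OneF.H1173 G

def L3 (G : Type*) [Group G] : Prop := ∃ (F : Type) (_ : Field F) (_ : Fintype F), Odd (Fintype.card F) ∧
  Nonempty (G ≃* Matrix.ProjectiveSpecialLinearGroup (Fin 3) F)

def U3 (G : Type*) [Group G] : Prop := ∃ (F : Type) (_ : Field F) (_ : Fintype F) (q : ℕ),
  Fintype.card F = q ^ 2 ∧ Odd q ∧ Nonempty (G ≃* Cfsg.PSU 3 F q)

def G2D4 (G : Type*) [Group G] : Prop := ∃ p : ℕ, p.Prime ∧ p ≠ 2 ∧ IsG2D4 p G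

/-- the identification of `G` from its Sylow 2-subgroups (S0507, S0523, S1742) -/
def IdentStmt : Prop := ∀ (G : Type u) [Group G] [Finite G] [IsSimpleGroup G] (Om : Set (Subgroup G)), One Om →
  Om.Nonempty → (∀ K ∈ Om, Ty K) → ∀ S : Sylow 2 G,
  (Cfsg.IsQuasiDihedral (S : Subgroup G) ∨ Cfsg.IsWreathed (S : Subgroup G) ∨
      ∃ m v r s, SylowG2.Coord.TG2 (S : Subgroup G) m v r s) → L3 G ∨ U3 G ∨ Spor.IsoM11 G ∨ G2D4 G

/-- `PSL₃(q)`, `PSU₃(q)` -/
def LongStmt : Prop := ∀ (G : Type u) [Group G] [Finite G] [IsSimpleGroup G] (Om : Set (Subgroup G)), One Om →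
  Om.Nonempty → (∀ K ∈ Om, Ty K) → L3 G ∨ U3 G → HasPieces Om

/-- `G₂(q)`, `³D₄(q)` -/
def HexStmt : Prop := ∀ (G : Type u) [Group G] [Finite G] [IsSimpleGroup G] (Om : Set (Subgroup G)), One Om →
  (∀ K ∈ Om, Ty K) → G2D4 G → ∀ K ∈ Om, OO K = ⊥

/-- **the branch `|Om(S)| = 1`** -/
theorem coreOne (h1173 : S1173Stmt.{u}) (hI : IdentStmt.{u}) (hL : LongStmt.{u}) (hH : HexStmt.{u}) :
    Branches.CoreOne.{u} := by
  intro G _ _ Om hm h
  haveI := hm.simple
  obtain ⟨K, hK⟩ := hm.ne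
  have hna := not_isMulCommutative h.hyp hK
  obtain ⟨S⟩ : Nonempty (Sylow 2 G) := inferInstance
  have hS := sylow_type h hm.ne (fun K hK => (hm.ty K hK).isType.tyTwo)
    (h1173 G (oddCore_eq_bot (two_dvd_card h.hyp hK))) S
  rcases hI G Om h hm.ne hm.ty S hS with h1 | h1 | h1 | h1
  · exact hL G Om h hm.ne hm.ty (Or.inl h1)
  · exact hL G Om h hm.ne hm.ty (Or.inr h1)
  · exact hasPieces_of_isoM11 h.hyp hm.ne hm.ty h1
  · obtain ⟨p, hp, hp2, hi⟩ := id h1
    exact hasPieces_of_isG2D4 h hm.ne (hH G Om h hm.ty h1) hp hp2 hi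

end Cfsg.Agent.Cit.CoreOne
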