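import Cfsg.Agent.CoThreeStd.M12.Out
import Cfsg.Prelude.Def_Spor_Mathieu

/-!
# `M₁₂` has no automorphism of order 3 centralising a subgroup of order 8
-/

set_option autoImplicit false

namespace Cfsg.Agent.Cit.OneMTwelve

open Equiv Cfsg Cfsg.Agent.CoThreeStd.M12

/-- The fixed points. -/
def Fx (x : P12) : Finset (Fin 12) := Finset.univ.filter fun i => x i = i

theorem mem_Fx {x : P12} {i : Fin 12} : i ∈ Fx x ↔ x i = i := by simp [Fx]

theorem card_Fx {x : P12} (hx : x ∈ G12) (h1 : x ≠ 1) : (Fx x).card ≤ 4 := by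
  by_contra h
  exact h1 (Out.fix_five hx (Fx x) (by omega) fun i hi => mem_Fx.mp hi)

/-- Fixed points of a `p`-element `c` on an invariant subset. -/
theorem card_modEq {p : ℕ} [hp : Fact p.Prime] {c : P12} {k : ℕ} (hc : c ^ p ^ k = 1) (s : Finset (Fin 12))
    (hs : ∀ i ∈ s, c i ∈ s) : s.card ≡ (s ∩ Fx c).card [MOD p] := by
  classical
  let f : Function.End s := fun i => ⟨c i, hs i i.2⟩
  have hf : ∀ (n : ℕ) (i : s), ((f ^ n) i : Fin 12) = (c ^ n) i := by
    intro n
    induction n with
    | zero => intro i; rfl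
    | succ n ih =>
      intro i
      rw [pow_succ', pow_succ']
      show ((f ((f ^ n) i) : s) : Fin 12) = c ((c ^ n) i)
      rw [← ih]
  have h1 : f ^ p ^ k = 1 := by
    funext i
    apply Subtype.ext
    rw [hf, hc]
    rfl
  have h2 := Equiv.Perm.card_fixedPoints_modEq h1
  rw [Fintype.card_coe] at h2
  have h3 : Fintype.card f.fixedPoints = (s ∩ Fx c).card := by
    rw [← Fintype.card_coe]
    refine Fintype.card_congr ⟨fun i => ⟨(i : s), ?_⟩, fun i => ⟨⟨i, ?_⟩, ?_⟩, fun i => rfl, fun i => rfl⟩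
    · rw [Finset.mem_inter, mem_Fx]
      exact ⟨(i : s).2, congrArg Subtype.val i.2⟩
    · exact (Finset.mem_inter.mp i.2).1
    · exact Subtype.ext (mem_Fx.mp (Finset.mem_inter.mp i.2).2)
  rwa [h3] at h2

theorem Fx_comm {a c : P12} (h : a * c = c * a) : ∀ i ∈ Fx a, c i ∈ Fx a := by
  intro i hi
  rw [mem_Fx] at hi ⊢
  have h1 := congrArg (fun z : P12 => z i) h
  change a (c i) = c (a i) at h1
  rw [h1, hi]

/-- **No subgroup of order 8 of `M₁₂` commutes with an element of order 3.** -/
theorem not_eight {c : P12} (hc : c ∈ G12) (hc1 : c ≠ 1) (hc3 : c ^ 3 = 1) (P : Subgroup P12) (hPG : P ≤ G12)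
    (hP : Nat.card P = 8) (hcomm : ∀ x ∈ P, x * c = c * x) : False := by
  classical
  have h2f : Fact (Nat.Prime 2) := ⟨Nat.prime_two⟩
  have h3f : Fact (Nat.Prime 3) := ⟨Nat.prime_three⟩
  have hf4 := card_Fx hc hc1
  have hf3 : (Fx c).card % 3 = 0 := by
    have h1 := card_modEq (p := 3) (k := 1) (c := c) (by simpa using hc3) Finset.univ (fun i _ => Finset.mem_univ _)
    rw [Finset.univ_inter, Finset.card_univ, Fintype.card_fin] at h1
    exact h1.symm
  -- fixed points of an involution of `P`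
  have hinv : ∀ a ∈ P, a ≠ 1 → a ^ 2 = 1 → (Fx a).card % 2 = 0 ∧ (Fx a).card ≤ 4 ∧
      (Fx a).card % 3 = (Fx a ∩ Fx c).card % 3 := by
    intro a ha ha1 ha2
    have h1 := card_modEq (p := 2) (k := 1) (c := a) (by simpa using ha2) Finset.univ (fun i _ => Finset.mem_univ _)
    rw [Finset.univ_inter, Finset.card_univ, Fintype.card_fin] at h1
    refine ⟨h1.symm, card_Fx (hPG ha) ha1, ?_⟩
    exact card_modEq (p := 3) (k := 1) (c := c) (by simpa using hc3) (Fx a) (Fx_comm (hcomm a ha))
  have hcases : (Fx c).card = 0 ∨ (Fx c).card = 3 := by omega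
  rcases hcases with h0 | h3
  · -- no fixed points: `P` is semiregular
    have hfree : ∀ a ∈ P, a ≠ 1 → a ^ 2 = 1 → Fx a = ∅ := by
      intro a ha ha1 ha2
      obtain ⟨e1, e2, e3⟩ := hinv a ha ha1 ha2
      rw [Finset.card_eq_zero] at h0
      rw [h0, Finset.inter_empty, Finset.card_empty] at e3
      rw [← Finset.card_eq_zero]
      omega
    have hstab : ∀ i : Fin 12, ∀ a ∈ P, a i = i → a = 1 := by
      intro i a ha hai
      by_contra hne
      have ho : orderOf a ∣ 8 := by
        have := orderOf_dvd_natCard (⟨a, ha⟩ : P)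
        rwa [← Subgroup.orderOf_coe, hP] at this
      have ho1 : orderOf a ≠ 1 := fun h => hne (orderOf_eq_one_iff.mp h)
      obtain ⟨k, hk⟩ : 2 ∣ orderOf a := by
        rw [show (8 : ℕ) = 2 ^ 3 by norm_num, Nat.dvd_prime_pow Nat.prime_two] at ho
        obtain ⟨j, -, hj⟩ := ho
        rcases j with _ | j
        · exact absurd hj ho1
        · rw [hj]; exact dvd_pow_self 2 (by omega)
      have hk0 : k ≠ 0 := by
        rintro rfl
        have := orderOf_pos a
        omega
      have ha2 : (a ^ k) ^ 2 = 1 := by rw [← pow_mul, mul_comm, ← hk, pow_orderOf_eq_one]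
      have ha1 : a ^ k ≠ 1 := by
        intro h
        have h4 := Nat.le_of_dvd (Nat.pos_of_ne_zero hk0) (orderOf_dvd_of_pow_eq_one h)
        omega
      have h5 := hfree _ (P.pow_mem ha k) ha1 ha2
      have h6 : i ∈ Fx (a ^ k) := by
        rw [mem_Fx]
        clear h5 ha1 ha2 hk0 hk
        induction k with
        | zero => rfl
        | succ k ih => rw [pow_succ, Perm.mul_apply, hai, ih]
      rw [h5] at h6
      exact absurd h6 (Finset.notMem_empty i)
    have hfin : Fintype P := Fintype.ofFinite _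
    have h7 := MulAction.sum_card_fixedBy_eq_card_orbits_mul_card_group P (Fin 12)
    have h8 : ∀ a : P, Fintype.card (MulAction.fixedBy (Fin 12) a) = if a = 1 then 12 else 0 := by
      intro a
      split_ifs with h
      · subst h
        have h9 : Fintype.card (MulAction.fixedBy (Fin 12) (1 : P)) = Fintype.card (Fin 12) := by
          refine Fintype.card_congr ⟨fun i => i, fun i => ⟨i, one_smul _ _⟩, fun i => rfl, fun i => rfl⟩
        rw [h9, Fintype.card_fin]
      · rw [Fintype.card_eq_zero_iff]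
        refine ⟨fun i => h (Subtype.ext (hstab i a a.2 i.2))⟩
    rw [Finset.sum_congr rfl (fun a _ => h8 a), Finset.sum_ite_eq' Finset.univ (1 : P), if_pos (Finset.mem_univ _),
      ← Nat.card_eq_fintype_card (α := P), hP] at h7
    omega
  · -- three fixed points: an involution of `P` fixes all of them
    let φ : P →* Perm (Fx c) :=
      { toFun := fun a => 
          { toFun := fun i => ⟨(a : P12) i, Fx_comm (hcomm a a.2).symm i i.2⟩
            invFun := fun i => ⟨(a : P12)⁻¹ i, Fx_comm (hcomm _ (P.inv_mem a.2)).symm i i.2⟩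
            left_inv := fun i => Subtype.ext (Perm.inv_eq_iff_eq.mpr rfl)
            right_inv := fun i => Subtype.ext (Perm.eq_inv_iff_eq.mp rfl) }
        map_one' := rfl
        map_mul' := fun a b => rfl }
    have h4 : Nat.card φ.range ∣ 2 := by
      have h5 : Nat.card φ.range ∣ 8 := by rw [← hP]; exact Subgroup.card_range_dvd φ
      have h6 : Nat.card φ.range ∣ 6 := by
        have h7 := Subgroup.card_subgroup_dvd_card φ.range
        rwa [Nat.card_perm, Nat.card_eq_fintype_card (α := Fx c), Fintype.card_coe, h3] at h7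
      have h7 := Nat.dvd_gcd h5 h6
      have h8 : Nat.gcd 8 6 = 2 := by norm_num
      rwa [h8] at h7
    have h5 : Nat.card φ.ker * Nat.card φ.range = 8 := by
      rw [← hP, ← Subgroup.card_mul_index φ.ker, Subgroup.index_ker]
    have h6 : 2 ∣ Nat.card φ.ker := by
      have h7 : Nat.card φ.range = 1 ∨ Nat.card φ.range = 2 := (Nat.dvd_prime Nat.prime_two).mp h4
      rcases h7 with h7 | h7 <;> rw [h7] at h5 <;> omega
    obtain ⟨a, ha⟩ := exists_prime_orderOf_dvd_card' 2 h6
    have ha2 : (a : P) ^ 2 = 1 := by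
      have := pow_orderOf_eq_one a
      rw [ha] at this
      exact congrArg Subtype.val this
    have ha1 : ((a : P) : P12) ≠ 1 := by
      intro h
      have h7 : a = 1 := Subtype.ext (Subtype.ext h)
      rw [h7, orderOf_one] at ha
      exact absurd ha (by norm_num)
    obtain ⟨e1, e2, e3⟩ := hinv _ (a : P).2 ha1 (congrArg Subtype.val ha2)
    have h7 : Fx c ⊆ Fx ((a : P) : P12) := by
      intro i hi
      rw [mem_Fx]
      have h8 : φ a = 1 := a.2
      have h9 := congrArg (fun z : Perm (Fx c) => ((z ⟨i, hi⟩ : Fx c) : Fin 12)) h8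
      exact h9
    have h8 : Fx ((a : P) : P12) ∩ Fx c = Fx c := Finset.inter_eq_right.mpr h7
    rw [h8, h3] at e3
    have h9 := Finset.card_le_card h7
    omega

/-- **`M₁₂` has no automorphism of order 3 that centralises a subgroup of order 8.** -/
theorem false_of_isoM12 {X : Type*} [Group X] (hX : Cfsg.Spor.IsoM12 X) (α : MulAut X) (hα : α ≠ 1) (h3 : α ^ 3 = 1)
    (P : Subgroup X) (hP : Nat.card P = 8) (hfix : ∀ x ∈ P, α x = x) : False := by
  obtain ⟨e0⟩ := hX
  let e : X ≃* G12 := e0.trans CoThreeStd.M12.equiv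
  set φ : MulAut G12 := MulAut.congr e α with hφ
  have hφe : ∀ x, φ (e x) = e (α x) := fun x => by
    rw [hφ]
    change e (α (e.symm (e x))) = _
    rw [e.symm_apply_apply]
  have hφ3 : φ ^ 3 = 1 := by rw [hφ, ← map_pow, h3, map_one]
  obtain ⟨c, hc⟩ := Out.inner_of_odd (k := 3) (by decide) hφ3
  have hc3 : c ^ 3 = 1 := by
    have h1 : MulAut.conj (c ^ 3) = 1 := by rw [map_pow, hc, hφ3]
    have h2 : c ^ 3 ∈ Subgroup.center G12 := by
      rw [Subgroup.mem_center_iff]
      intro x
      have h4 := DFunLike.congr_fun h1 x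
      rw [MulAut.conj_apply, MulAut.one_apply] at h4
      exact (mul_inv_eq_iff_eq_mul.mp h4).symm
    rwa [Out.center_eq_bot, Subgroup.mem_bot] at h2
  have hc1 : c ≠ 1 := by
    rintro rfl
    rw [map_one] at hc
    apply hα
    ext1 x
    apply e.injective
    rw [← hφe, ← hc, MulAut.one_apply, MulAut.one_apply]
  refine not_eight (c := (c : P12)) c.2 (fun h => hc1 (Subtype.ext h)) (congrArg Subtype.val hc3)
    ((P.map e.toMonoidHom).map G12.subtype) ?_ ?_ ?_
  · rintro _ ⟨z, -, rfl⟩
    exact z.2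
  · rw [Nat.card_congr ((P.map e.toMonoidHom).equivMapOfInjective _ G12.subtype_injective).symm.toEquiv,
      Nat.card_congr (P.equivMapOfInjective e.toMonoidHom e.injective).symm.toEquiv, hP]
  · rintro _ ⟨_, ⟨x, hx, rfl⟩, rfl⟩
    have h1 := hφe x
    rw [hfix x hx, ← hc, MulAut.conj_apply] at h1
    have h2 := mul_inv_eq_iff_eq_mul.mp h1
    exact congrArg Subtype.val h2.symm

end Cfsg.Agent.Cit.OneMTwelve
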