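import Cfsg.Agent.GH.QAZStar
import Cfsg.Agent.Cit.OneEnd
import Cfsg.Agent.Cit.LemmaB
import Cfsg.Agent.Cit.OneF.End
import Cfsg.Agent.Cit.OneF.LOne
import Cfsg.Agent.Cit.OneF.RR
import Cfsg.Agent.Cit.OneK1

/-!
# `|Om(S)| = 1`: the conclusion

Assembly of the pieces of the case `|Om(S)| = 1` of the classical involution theorem.
-/

set_option autoImplicit false

open Cfsg Subgroup

namespace Cfsg.Agent.Cit.OneMain

variable {G : Type*} [Group G] [Finite G] {Om : Set (Subgroup G)}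

/-- the involution of a member commutes with the involution of another member -/
theorem exists_nbr (h : Hyp Om) (ho : oddCore G = ⊥) (hz : center G = ⊥) {K : Subgroup G}
    (hK : K ∈ Om) : ∃ L ∈ Om, K ≠ L ∧ zz K * zz L = zz L * zz K := by
  by_contra hcon
  push Not at hcon
  obtain ⟨N, hN, hodd, hc⟩ := GH.QA.zstar (h.zz_mul hK) (h.zz_ne hK) (by
    intro g hg
    have h1 := h.zz_cj hK g
    rw [← h1] at hg ⊢
    by_contra hne
    refine hcon (cj g K) (h.conj K hK g) ?_ hg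
    intro h2
    rw [← h2] at hne
    exact hne rfl)
  have h2 : N ≤ oddCore G := Lib.Cores.le_pPrimeCore hN (Nat.coprime_two_right.2 hodd)
  rw [ho] at h2
  apply h.zz_ne hK
  rw [← mem_bot, ← hz, mem_center_iff]
  intro g
  have h3 := h2 (hc g)
  rw [mem_bot] at h3
  calc g * zz K = (zz K * g * (zz K)⁻¹ * g⁻¹)⁻¹ * (zz K * g) := by group
    _ = zz K * g := by rw [h3]; group

/-- every element of a 2-subgroup generates a 2-group -/
theorem two_zpowers {T : Subgroup G} (hT : IsPGroup 2 T) {a : G} (ha : a ∈ T) : IsPGroup 2 (zpowers a) :=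
  hT.to_le (zpowers_le.2 ha)

/-- **`F = 1`** in the form used by the end games -/
theorem hF (h : One Om) (ty : ∀ K ∈ Om, TyTwo K) (h1173 : OneF.H1173 G)
    (hN : ∀ N : Subgroup G, N.Normal → ¬ Group.IsSolvable N → centralizer (N : Set G) = ⊥) :
    ∀ K L T Q Q', OPair Om K L T Q Q' → ∀ a ∈ T, (∀ u ∈ Q, a * u = u * a) → (∀ u ∈ Q', a * u = u * a) →
      a = 1 := by
  intro K L T Q Q' p a ha h1 h2
  have hK1 : OneF.K1 Om := fun M hM x hx y hy hx4 hy4 =>
    h.hyp.conj_four hM (ty M hM) hx hy hx4 hy4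
  exact OneF.eq_one_of_WW h hK1 (OneF.l1 h (OneF.k1rel_of_k1 h.hyp hK1)) h1173 hN
    (two_zpowers p.tp ha) ⟨K, p.hK, L, p.hL, p.ne, p.comm, ⟨Q, p.hQ, h1⟩, ⟨Q', p.hQ', h2⟩⟩

/-- **the end of the case `|Om(S)| = 1`**, from S1173 for `G` (as a hypothesis, so that this file does not
depend on the odd order theorem; see `OneMainFull`) -/
theorem main_of (h : One Om) (hne : Om.Nonempty) (ty : ∀ K ∈ Om, TyTwo K) (ho : oddCore G = ⊥)
    (hz : center G = ⊥) (hidx : ∀ H : Subgroup G, H.index ≠ 2)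
    (hc : ∀ N : Subgroup G, N.Normal → ¬ Group.IsSolvable N → centralizer (N : Set G) = ⊥)
    (h1173 : OneF.H1173 G) (S : Sylow 2 G) :
    Cfsg.IsQuasiDihedral (S : Subgroup G) ∨ Cfsg.IsWreathed (S : Subgroup G) ∨
      ∃ m v r s, SylowG2.Coord.TG2 (S : Subgroup G) m v r s := by
  obtain ⟨K, hK⟩ := hne
  obtain ⟨L, hL, h1, h2⟩ := exists_nbr h.hyp ho hz hK
  exact OneEnd.main h hidx (hF h ty h1173 hc) ⟨K, hK, L, hL, h1, h2⟩ S

end Cfsg.Agent.Cit.OneMain
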