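import Cfsg.Agent.Cit.AutAct
import Cfsg.Agent.SylowG2.Closed

/-!
# `TG2`: the two quaternion subgroups; elements of order 3 of `K` centralising a 2-group

* `TG`: centre and orders of the subgroups `Q1`, `Q2` of a 2-group with `G₂`-coordinates;
* `exists_three`: `K` of type `SL(2,F)` or `2.A₇`, `P ≤ N(K)` a 2-group centralising a Sylow 2-subgroup of `K`: some
  element of order 3 of `K` centralises `P`.
-/

set_option autoImplicit false
set_option linter.style.haveILetI false

namespace Cfsg.Agent.Cit.OneThree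

open Subgroup Cfsg

/-! ### coordinates -/

section tg

open SylowG2.Coord SylowG2.Coord.TG2

variable {G : Type*} [Group G] {S : Subgroup G} {m : ℕ} {v : ZMod (2 ^ m) → ZMod (2 ^ m) → G} {r s : G}

/-- the centre of `S` is `⟨t⟩` -/
theorem eq_t_of_central (h : TG2 S m v r s) {g : G} (hg : g ∈ S) (hg1 : g ≠ 1) (hc : ∀ x ∈ S, g * x = x * g) :
    g = v (half m) (half m) := by
  obtain ⟨i, j, rfl | rfl | rfl | rfl⟩ := h.cases g hg
  · have h1 := hc r h.r_mem
    rw [h.r_v] at h1
    have h2 := (h.v_eq (mul_right_cancel h1)).1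
    subst h2
    have h3 := hc s h.s_mem
    rw [h.s_v] at h3
    have h4 := (h.v_eq (mul_right_cancel h3)).1
    rcases eq_of_add_self h.m_pos (show i + i = 0 by linear_combination h4) with h5 | h5
    · subst h5
      exact absurd h.v_zero hg1
    · rw [h5]
  · exact absurd (h.comm_vr (hc _ (h.v_mem 1 0))) (one_ne_zero' h.hm)
  · exfalso
    have h1 := (h.comm_vs (hc _ (h.v_mem 1 0))).1
    exact two_ne_zero' h.hm (by linear_combination h1)
  · exfalso
    have h1 := h.comm_vrs (hc _ (h.v_mem 1 0))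
    rw [add_zero] at h1
    exact one_ne_zero' h.hm h1

theorem card_Q1 (h : TG2 S m v r s) : Nat.card h.Q1 = 2 * 2 ^ m := by
  let f : Bool × ZMod (2 ^ m) → h.Q1 := fun p =>
    ⟨cond p.1 (v (p.2 + half m) (-p.2) * r) (v p.2 (-p.2)), by
      rcases p with ⟨b, i⟩
      cases b
      · exact Or.inl ⟨i, rfl⟩
      · exact Or.inr ⟨i, rfl⟩⟩
  have hf : Function.Bijective f := by
    constructor
    · rintro ⟨b, i⟩ ⟨b', j⟩ he
      have he' : cond b (v (i + half m) (-i) * r) (v i (-i)) = cond b' (v (j + half m) (-j) * r) (v j (-j)) :=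
        congrArg Subtype.val he
      cases b <;> cases b' <;> simp only [cond_true, cond_false] at he'
      · rw [(h.v_eq he').1]
      · exact absurd he'.symm (h.vr_ne _ _ _ _)
      · exact absurd he' (h.vr_ne _ _ _ _)
      · have h1 := (h.v_eq (mul_right_cancel he')).1
        rw [add_right_cancel h1]
    · rintro ⟨g, ⟨i, hi⟩ | ⟨i, hi⟩⟩
      · exact ⟨(false, i), Subtype.ext hi.symm⟩
      · exact ⟨(true, i), Subtype.ext hi.symm⟩
  rw [← Nat.card_congr (Equiv.ofBijective f hf), Nat.card_prod, Nat.card_zmod, Nat.card_eq_fintype_card,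
    Fintype.card_bool]

theorem card_Q2 (h : TG2 S m v r s) : Nat.card h.Q2 = 2 * 2 ^ m := card_Q1 h.symm

/-- a quaternion subgroup with involution `t` lies in `Q1` or in `Q2` -/
theorem le_Q1_or {Q : Subgroup G} (h : TG2 S m v r s) (hQS : Q ≤ S) {c w : G} {n : ℕ}
    (hq : GQ Q c w (v (half m) (half m)) n) : Q ≤ h.Q1 ∨ Q ≤ h.Q2 := by
  set t := v (half m) (half m) with ht
  have hsq : ∀ y ∈ Q, orderOf y = 4 → y * y = t := by
    intro y hy hy4
    refine hq.eq_z (Q.mul_mem hy hy) ?_ ?_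
    · have h1 : y ^ 4 = 1 := by rw [← hy4, pow_orderOf_eq_one]
      calc y * y * (y * y) = y ^ 4 := by simp only [pow_succ, pow_zero, one_mul, mul_assoc]
        _ = 1 := h1
    · intro h1
      have h2 := orderOf_dvd_of_pow_eq_one (show y ^ 2 = 1 by rw [pow_two, h1])
      rw [hy4] at h2
      omega
  -- elements of order four commuting with `w`
  have key : ∀ y ∈ Q, orderOf y = 4 → w * y = y * w → y = w ∨ y = w⁻¹ := by
    intro y hy hy4 hc
    have h1 : (w * y) * (w * y) = 1 := by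
      calc (w * y) * (w * y) = w * (y * w) * y := by group
        _ = w * (w * y) * y := by rw [hc]
        _ = (w * w) * (y * y) := by group
        _ = 1 := by rw [hq.v_sq, hsq y hy hy4, hq.z_mul]
    by_cases h2 : w * y = 1
    · right
      exact eq_inv_of_mul_eq_one_right h2
    · left
      have h3 := hq.eq_z (Q.mul_mem hq.v_mem hy) h1 h2
      rw [← hq.v_sq] at h3
      exact mul_left_cancel h3
  have hwS := hQS hq.v_mem
  rcases h.mem_or_of_sq hwS hq.v_sq with h1 | h1
  · left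
    apply hq.le_of_four
    intro y hy hy4
    rcases h.mem_or_of_sq (hQS hy) (hsq y hy hy4) with h2 | h2
    · exact h2
    · rcases key y hy hy4 (SylowG2.Closed.comm_Q1_Q2 h h1 h2) with h3 | h3
      · rw [h3]; exact h1
      · rw [h3]; exact h.Q1.inv_mem h1
  · right
    apply hq.le_of_four
    intro y hy hy4
    rcases h.mem_or_of_sq (hQS hy) (hsq y hy hy4) with h2 | h2
    · rcases key y hy hy4 (SylowG2.Closed.comm_Q1_Q2 h h2 h1).symm with h3 | h3
      · rw [h3]; exact h1
      · rw [h3]; exact h.Q2.inv_mem h1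
    · exact h2

end tg

/-! ### elements of order three -/

theorem three_dvd_SL {F : Type*} [Field F] [Fintype F] :
    3 ∣ Nat.card (Matrix.SpecialLinearGroup (Fin 2) F) := by
  rw [ClassicalGeometry.PSL2Basic.card_SL2]
  set q := Fintype.card F
  have hq : 1 < q := Fintype.one_lt_card
  by_cases h : 3 ∣ q
  · exact h.mul_right _
  · refine Dvd.dvd.mul_left ?_ _
    have h1 : q % 3 = 1 ∨ q % 3 = 2 := by omega
    have h2 : q ^ 2 % 3 = 1 := by
      rcases h1 with h1 | h1 <;> rw [Nat.pow_mod, h1]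
    have h3 : 1 ≤ q ^ 2 := Nat.one_le_pow _ _ (by omega)
    omega

theorem three_dvd_of_isTy {X : Type*} [Group X] (h : IsTy X) : 3 ∣ Nat.card X := by
  rcases h with ⟨F, i1, i2, hF, ⟨e⟩⟩ | ⟨h1, ⟨e⟩, h2⟩
  · rw [Nat.card_congr e.toEquiv]
    exact three_dvd_SL
  · have h3 : Nat.card (X ⧸ center X) = 2520 := by
      rw [Nat.card_congr e.toEquiv, Nat.card_eq_fintype_card]
      have h4 := two_mul_card_alternatingGroup (α := Fin 7)
      rw [Fintype.card_perm, Fintype.card_fin] at h4
      have h5 : Nat.factorial 7 = 5040 := by decide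
      omega
    have h4 := card_quotient_dvd_card (center X)
    rw [h3] at h4
    exact dvd_trans (by norm_num) h4

section three

variable {G : Type*} [Group G] [Finite G]

/-- **an element of order three of `K` centralised by the 2-group `P`** -/
theorem exists_three {K Q P : Subgroup G} (h : IsType K) (hQ : Syl Q K) (hP : IsPGroup 2 P)
    (hPK : P ≤ normalizer (K : Set G)) (hPQ : ∀ x ∈ P, ∀ y ∈ Q, x * y = y * x) :
    ∃ c ∈ K, orderOf c = 3 ∧ ∀ x ∈ P, x * c = c * x := by
  haveI : Fact (Nat.Prime 2) := ⟨Nat.prime_two⟩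
  haveI : Fact (Nat.Prime 3) := ⟨Nat.prime_three⟩
  obtain ⟨b, hb⟩ := exists_prime_orderOf_dvd_card' 3 (three_dvd_of_isTy h)
  obtain ⟨⟨k, hk⟩, rfl⟩ := QuotientGroup.mk_surjective b
  have htriv : ∀ a ∈ P, AutAct.Triv a K := by
    intro a ha
    obtain ⟨j, hj⟩ := hP ⟨a, ha⟩
    exact AutAct.triv_of_cent h hQ (hPK ha) (b := j) (congrArg Subtype.val hj) (hPQ a ha)
  have hPO : P ≤ normalizer (OO K : Set G) := by
    intro a ha
    rw [mem_normalizer_iff_cj, ← OO_cj, mem_normalizer_iff_cj.1 (hPK ha)]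
  obtain ⟨c, hc, hkc⟩ := Lib.CoprimeCommutator.exists_fixed_in_coset 2 P (OO K) hP hPO (odd_OO K) k (by
    intro a ha
    have h1 := htriv a ha k hk
    have h2 := (mem_normalizer_iff.1 (inv_mem (le_normalizer_OO K hk)) _).1 h1
    have h3 : k⁻¹ * (a * k * a⁻¹ * k⁻¹) * k⁻¹⁻¹ = k⁻¹ * (a * k * a⁻¹) := by group
    rwa [h3] at h2)
  have hcK : c ∈ K := by
    have h2 := K.mul_mem hk (OO_le K hkc)
    rwa [mul_inv_cancel_left] at h2
  have hcomm : ∀ x ∈ P, x * c = c * x := fun x hx => mem_centralizer_iff.1 hc x hx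
  -- `3 ∣ orderOf c`
  have h3 : 3 ∣ orderOf c := by
    have h4 : (QuotientGroup.mk ⟨c, hcK⟩ : ↥K ⧸ oddCore ↥K) = QuotientGroup.mk ⟨k, hk⟩ :=
      ((AutAct.mk_eq_iff hk hcK).2 hkc).symm
    rw [← hb, ← h4]
    apply orderOf_dvd_of_pow_eq_one
    rw [← QuotientGroup.mk_pow]
    have h5 : (⟨c, hcK⟩ : K) ^ orderOf c = 1 := Subtype.ext (pow_orderOf_eq_one c)
    rw [h5]; rfl
  obtain ⟨j, hj⟩ := h3
  have hpos : 0 < orderOf c := orderOf_pos c
  refine ⟨c ^ j, K.pow_mem hcK j, ?_, fun x hx => ?_⟩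
  · rw [orderOf_pow_of_dvd (by rintro rfl; omega) ⟨3, by rw [hj, mul_comm]⟩, hj]
    rw [Nat.mul_div_cancel]
    rcases Nat.eq_zero_or_pos j with rfl | h6
    · omega
    · exact h6
  · exact ((show Commute x c from hcomm x hx).pow_right j).eq

end three

end Cfsg.Agent.Cit.OneThree
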