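import Cfsg.Agent.Cit.OneBasic
import Cfsg.Agent.Cit.OneComp
import Cfsg.Agent.Cit.LemmaB
import Cfsg.Agent.Cit.Sub

/-!
# `|Om(S)| = 1`, the end: from `G` to `X = F*(G)`

`Ctx Om X`: `One Om`, the members satisfy LEMMA B and are generated by their elements of odd order, `X` is a
normal simple subgroup of even order with `C_G(X) = 1`. Then `X` contains the Sylow 2-subgroups of the members,
the members are conjugate under `X`, `⟨Om⟩ = K X` for every member `K`, and `|⟨Om⟩ : X|` is odd.
Inside `H = ⟨Om⟩`: `O(H) = Z(H) = 1`, `H` has no subgroup of index 2 and all normal subgroups `≠ 1` have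
trivial centralisers.
-/

set_option autoImplicit false
set_option linter.style.haveILetI false
set_option linter.unusedSectionVars false

namespace Cfsg.Agent.Cit.OneX

open Subgroup Cfsg Cfsg.Agent.Cit Cfsg.Agent.Cit.OneBasic Cfsg.Agent.Cit.OneComp

/-! ### A simple normal subgroup with trivial centraliser -/

/-- `X` is a simple normal subgroup of even order with trivial centraliser -/
structure Soc {G : Type*} [Group G] (X : Subgroup G) : Prop where
  norm : X.Normal
  simple : IsSimpleGroup X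
  even : 2 ∣ Nat.card X
  cent : centralizer (X : Set G) = ⊥

namespace Soc

variable {G : Type*} [Group G] {X : Subgroup G} (h : Soc X)
include h

theorem ne_bot : X ≠ ⊥ := by
  rintro rfl
  have h1 := h.even
  rw [card_bot] at h1
  omega

theorem not_comm : ¬ IsMulCommutative X := by
  intro hc
  apply h.ne_bot
  rw [eq_bot_iff, ← h.cent]
  intro x hx
  rw [mem_centralizer_iff]
  intro y hy
  exact congrArg Subtype.val (hc.is_comm.comm ⟨y, hy⟩ ⟨x, hx⟩)

/-- every nontrivial normal subgroup contains `X` -/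
theorem le_of_normal {N : Subgroup G} (hN : N.Normal) (hne : N ≠ ⊥) : X ≤ N := by
  haveI := h.simple
  haveI := h.norm
  rcases (hN.subgroupOf X).eq_bot_or_eq_top with h1 | h1
  · exfalso
    apply hne
    rw [eq_bot_iff, ← h.cent]
    intro n hn
    rw [mem_centralizer_iff]
    intro x hx
    have h2 : x * n * x⁻¹ * n⁻¹ ∈ N ⊓ X := by
      refine ⟨N.mul_mem (hN.conj_mem n hn x) (N.inv_mem hn), ?_⟩
      have h3 : x * n * x⁻¹ * n⁻¹ = x * (n * x⁻¹ * n⁻¹) := by group
      rw [h3]
      exact X.mul_mem hx (h.norm.conj_mem _ (X.inv_mem hx) n)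
    have h3 : N ⊓ X = ⊥ := by
      rw [subgroupOf_eq_bot] at h1
      exact h1.eq_bot
    rw [h3, mem_bot] at h2
    have h4 : x * n = n * x := by
      calc x * n = x * n * x⁻¹ * n⁻¹ * (n * x) := by group
        _ = n * x := by rw [h2, one_mul]
    exact h4
  · rwa [subgroupOf_eq_top] at h1

theorem centralizer_eq_bot {N : Subgroup G} (hN : N.Normal) (hne : N ≠ ⊥) : centralizer (N : Set G) = ⊥ := by
  rw [eq_bot_iff, ← h.cent]
  exact centralizer_le (h.le_of_normal hN hne)

theorem center_eq_bot : center G = ⊥ := by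
  rw [eq_bot_iff, ← h.cent]
  exact center_le_centralizer _

theorem oddCore_eq_bot [Finite G] : oddCore G = ⊥ := by
  haveI : Fact (Nat.Prime 2) := ⟨Nat.prime_two⟩
  by_contra hne
  have h1 : X ≤ oddCore G := h.le_of_normal (Lib.Cores.pPrimeCore_normal 2) hne
  have h2 : 2 ∣ Nat.card (oddCore G) := h.even.trans (card_dvd_of_le h1)
  have h3 := Lib.Cores.pPrimeCore_coprime (G := G) 2
  have h4 := Nat.dvd_gcd h2 (dvd_refl 2)
  rw [h3] at h4
  omega

theorem OO_eq_bot [Finite G] : OO X = ⊥ := by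
  haveI := h.norm
  by_contra hne
  haveI hn : (OO X).Normal := by
    rw [← normalizer_eq_top_iff, eq_top_iff]
    intro g _
    rw [mem_normalizer_iff_cj, ← OO_cj]
    congr 1
    rw [← mem_normalizer_iff_cj, (normalizer_eq_top_iff (H := X)).2 h.norm]
    exact mem_top g
  have h1 := h.le_of_normal hn hne
  exact odd_OO X (h.even.trans (card_dvd_of_le h1))

/-- `X` is generated by its elements of odd order -/
theorem closure_odd [Finite G] : X ≤ closure {c | c ∈ X ∧ Odd (orderOf c)} := by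
  haveI : Fact (Nat.Prime 2) := ⟨Nat.prime_two⟩
  haveI hn : (closure {c | c ∈ X ∧ Odd (orderOf c)}).Normal := by
    refine ⟨fun x hx g => ?_⟩
    induction hx using closure_induction with
    | mem x hx =>
      refine subset_closure ⟨h.norm.conj_mem x hx.1 g, ?_⟩
      have h1 : orderOf (g * x * g⁻¹) = orderOf x := orderOf_injective (MulAut.conj g).toMonoidHom
        (MulAut.conj g).injective x
      rw [h1]
      exact hx.2
    | one => simp
    | mul x y _ _ hx hy =>
      have h1 : g * (x * y) * g⁻¹ = (g * x * g⁻¹) * (g * y * g⁻¹) := by group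
      rw [h1]
      exact mul_mem hx hy
    | inv x _ hx =>
      have h1 : g * x⁻¹ * g⁻¹ = (g * x * g⁻¹)⁻¹ := by group
      rw [h1]
      exact inv_mem hx
  refine h.le_of_normal hn ?_
  intro hbot
  -- `X` would be a 2-group
  have h1 : IsPGroup 2 X := by
    rw [IsPGroup.iff_orderOf]
    intro x
    obtain ⟨k, m, hm, hx⟩ : ∃ k m : ℕ, Odd m ∧ orderOf x = 2 ^ k * m := by
      obtain ⟨k, m, hm, hx⟩ := Nat.exists_eq_two_pow_mul_odd (orderOf_pos x).ne'
      exact ⟨k, m, hm, hx⟩
    have h2 : orderOf (x ^ 2 ^ k) = m := by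
      rw [orderOf_pow_of_dvd (by positivity) ⟨m, hx⟩, hx, Nat.mul_div_cancel_left _ (by positivity)]
    have h3 : ((x ^ 2 ^ k : X) : G) ∈ closure {c | c ∈ X ∧ Odd (orderOf c)} :=
      subset_closure ⟨(x ^ 2 ^ k).2, by rw [orderOf_coe, h2]; exact hm⟩
    rw [hbot, mem_bot] at h3
    have h4 : x ^ 2 ^ k = 1 := Subtype.ext h3
    rw [h4, orderOf_one] at h2
    exact ⟨k, by rw [hx, ← h2, mul_one]⟩
  haveI := h.simple
  haveI : Nontrivial X := h.simple.toNontrivial
  have h2 : Nontrivial (center X) := h1.center_nontrivial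
  have h3 : center X = ⊤ := by
    rcases (inferInstance : (center X).Normal).eq_bot_or_eq_top with h4 | h4
    · rw [h4] at h2
      exact absurd h2 (by rw [Subgroup.nontrivial_iff_ne_bot]; simp)
    · exact h4
  apply h.not_comm
  refine ⟨⟨fun a b => ?_⟩⟩
  have h4 : b ∈ center X := by rw [h3]; exact mem_top b
  exact mem_center_iff.1 h4 a

end Soc

/-- a group generated by elements of odd order has no subgroup of index 2 -/
theorem index_ne_two {H : Type*} [Group H] (hg : closure {c : H | Odd (orderOf c)} = ⊤) (N : Subgroup H) :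
    N.index ≠ 2 := by
  intro h2
  haveI hn : N.Normal := normal_of_index_eq_two h2
  have h1 : closure {c : H | Odd (orderOf c)} ≤ N := by
    rw [closure_le]
    intro c hc
    obtain ⟨m, hm⟩ := hc
    have h3 : c ^ 2 ∈ N := by
      have h4 := pow_index_mem N c
      rwa [h2] at h4
    have h4 : c ^ (2 * m + 1) = 1 := by rw [← hm, pow_orderOf_eq_one]
    have h5 : c = (c ^ 2) ^ (m + 1) := by
      rw [← pow_mul, show 2 * (m + 1) = (2 * m + 1) + 1 by ring, pow_succ, h4, one_mul]
    rw [h5]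
    exact N.pow_mem h3 _
  rw [hg, top_le_iff] at h1
  rw [h1, index_top] at h2
  omega

/-! ### The context -/

structure Ctx {G : Type*} [Group G] (Om : Set (Subgroup G)) (X : Subgroup G) : Prop where
  one : One Om
  soc : Soc X
  lemB : ∀ K ∈ Om, LemB K
  two : ∀ K ∈ Om, TyTwo K

namespace Ctx

variable {G : Type*} [Group G] [Finite G] {Om : Set (Subgroup G)} {X : Subgroup G} (h : Ctx Om X)
include h

/-- `X` contains the Sylow 2-subgroups of the members -/
theorem syl_le {K Q : Subgroup G} (hK : K ∈ Om) (hQ : Syl Q K) : Q ≤ X := by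
  refine h.lemB K hK Q X hQ ?_ h.soc.OO_eq_bot ?_
  · rw [(normalizer_eq_top_iff (H := X)).2 h.soc.norm]
    exact le_top
  · intro h1
    have h2 : zz K ∈ centralizer (X : Set G) := by
      rw [mem_centralizer_iff]
      intro x hx
      exact mem_centralizer_singleton_iff.1 (h1 hx)
    rw [h.soc.cent, mem_bot] at h2
    exact h.one.hyp.zz_ne hK h2

theorem zz_mem {K : Subgroup G} (hK : K ∈ Om) : zz K ∈ X := by
  obtain ⟨Q, hQ⟩ := Hyp.exists_syl K
  obtain ⟨c, v, n, hc⟩ := h.one.hyp.exists_gq hK hQ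
  exact h.syl_le hK hQ hc.z_mem

/-- the members are conjugate under `X` -/
theorem exists_cj {K L : Subgroup G} (hK : K ∈ Om) (hL : L ∈ Om) : ∃ x ∈ X, cj x K = L := by
  haveI : Fact (Nat.Prime 2) := ⟨Nat.prime_two⟩
  haveI := h.soc.norm
  obtain ⟨Q, hQ⟩ := Hyp.exists_syl K
  obtain ⟨R, hR⟩ := Hyp.exists_syl L
  obtain ⟨S, hS, hQS⟩ := exists_syl_ge hQ.2.1 (h.syl_le hK hQ)
  obtain ⟨T, hT, hRT⟩ := exists_syl_ge hR.2.1 (h.syl_le hL hR)
  obtain ⟨g, hg, hgST⟩ := hS.exists_conj hT
  refine ⟨g, hg, ?_⟩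
  refine h.one.one T hT.2.1 _ (mem_OmS_of_le (h.one.hyp.conj K hK g) (hQ.cj g) ?_) L
    (mem_OmS_of_le hL hR hRT)
  rw [← hgST]
  exact cj_mono g hQS

theorem sSup_le_sup {K : Subgroup G} (hK : K ∈ Om) : sSup Om ≤ K ⊔ X := by
  refine sSup_le fun L hL => ?_
  obtain ⟨x, hx, rfl⟩ := h.exists_cj hK hL
  intro y hy
  rw [mem_cj] at hy
  have h1 : y = x * (x⁻¹ * y * x) * x⁻¹ := by group
  rw [h1]
  have hxs : x ∈ K ⊔ X := mem_sup_right hx
  exact mul_mem (mul_mem hxs (mem_sup_left hy)) (inv_mem hxs)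

theorem sSup_normal : (sSup Om).Normal := by
  rw [← normalizer_eq_top_iff, eq_top_iff]
  intro g _
  have key : ∀ g : G, cj g (sSup Om) ≤ sSup Om := by
    intro g
    rw [cj_def, map_le_iff_le_comap]
    refine sSup_le fun L hL => ?_
    rw [← map_le_iff_le_comap, ← cj_def]
    exact le_sSup (h.one.hyp.conj L hL g)
  rw [mem_normalizer_iff_cj]
  apply le_antisymm (key g)
  have h1 := cj_mono g (key g⁻¹)
  rwa [cj_cj_inv] at h1

theorem le_sSup' {K : Subgroup G} (hK : K ∈ Om) : X ≤ sSup Om := by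
  refine h.soc.le_of_normal h.sSup_normal ?_
  intro hbot
  have h1 : zz K ∈ sSup Om := (le_sSup hK : K ≤ sSup Om) (h.one.hyp.zz_spec hK).1
  rw [hbot, mem_bot] at h1
  exact h.one.hyp.zz_ne hK h1

/-- `⟨Om⟩ = K X` -/
theorem sSup_eq {K : Subgroup G} (hK : K ∈ Om) : sSup Om = K ⊔ X :=
  le_antisymm (h.sSup_le_sup hK) (sup_le (le_sSup hK) (h.le_sSup' hK))

/-- `|⟨Om⟩ : X|` is odd -/
theorem odd_relIndex {K : Subgroup G} (hK : K ∈ Om) : ¬ 2 ∣ X.relIndex (sSup Om) := by
  haveI := h.soc.norm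
  rw [h.sSup_eq hK, relIndex_sup_right]
  obtain ⟨Q, hQ⟩ := Hyp.exists_syl K
  intro h2
  apply hQ.2.2
  refine h2.trans ?_
  exact relIndex_dvd_of_le_left K (h.syl_le hK hQ)

/-- 2-subgroups of `⟨Om⟩` lie in `X` -/
theorem le_of_isPGroup {K : Subgroup G} (hK : K ∈ Om) {S : Subgroup G} (hS : IsPGroup 2 S)
    (hSH : S ≤ sSup Om) : S ≤ X := by
  haveI : Fact (Nat.Prime 2) := ⟨Nat.prime_two⟩
  haveI := h.soc.norm
  have h1 : X.relIndex S ∣ X.relIndex (sSup Om) := by
    have h2 : X.relIndex (X ⊔ S) = X.relIndex S := by rw [sup_comm, relIndex_sup_right]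
    rw [← h2]
    exact ⟨_, (relIndex_mul_relIndex X (X ⊔ S) (sSup Om) le_sup_left
      (sup_le (h.le_sSup' hK) hSH)).symm⟩
  obtain ⟨k, hk⟩ : ∃ k, X.relIndex S = 2 ^ k := hS.index _
  have hk0 : k = 0 := by
    by_contra hk0
    apply h.odd_relIndex hK
    refine dvd_trans ?_ h1
    rw [hk]
    exact dvd_pow_self 2 hk0
  rw [hk0, pow_zero, relIndex_eq_one] at hk
  exact hk

/-! ### Inside `⟨Om⟩` -/

/-- `One` passes to subgroups -/
theorem one_restr (H : Subgroup G) : One (restr Om H) := by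
  refine ⟨h.one.hyp.restr H, fun S hS K hK L hL => ?_⟩
  rw [mem_OmS_restr] at hK hL
  have h1 := h.one.one (S.map H.subtype) (hS.map _) _ hK _ hL
  exact map_injective H.subtype_injective h1

theorem soc_restr {H : Subgroup G} (hXH : X ≤ H) : Soc (X.subgroupOf H) := by
  haveI := h.soc.norm
  refine ⟨normal_subgroupOf, ?_, ?_, ?_⟩
  · haveI := h.soc.simple
    exact (subgroupOfEquivOfLe hXH).isSimpleGroup
  · rw [Nat.card_congr (subgroupOfEquivOfLe hXH).toEquiv]
    exact h.soc.even
  · rw [eq_bot_iff]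
    intro c hc
    rw [mem_bot]
    apply Subtype.ext
    have h1 : (c : G) ∈ centralizer (X : Set G) := by
      rw [mem_centralizer_iff] at hc ⊢
      intro x hx
      exact congrArg Subtype.val (hc ⟨x, hXH hx⟩ hx)
    rw [h.soc.cent, mem_bot] at h1
    exact h1

theorem closure_odd_sSup {K : Subgroup G} (hK : K ∈ Om) :
    closure {c : ↥(sSup Om) | Odd (orderOf c)} = ⊤ := by
  apply map_injective (sSup Om).subtype_injective
  rw [MonoidHom.map_closure, ← MonoidHom.range_eq_map, range_subtype]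
  apply le_antisymm
  · rw [closure_le]
    rintro _ ⟨c, -, rfl⟩
    exact c.2
  · refine sSup_le fun L hL => (h.two L hL).trans ?_
    rw [closure_le]
    rintro c ⟨hc, hodd⟩
    have hcH : c ∈ sSup Om := (le_sSup hL : L ≤ sSup Om) hc
    exact subset_closure ⟨⟨c, hcH⟩, by
      show Odd (orderOf (⟨c, hcH⟩ : ↥(sSup Om)))
      rwa [orderOf_mk], rfl⟩

theorem index_ne_two_sSup {K : Subgroup G} (hK : K ∈ Om) (N : Subgroup ↥(sSup Om)) : N.index ≠ 2 :=
  index_ne_two (h.closure_odd_sSup hK) N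

theorem tyTwo_restr {L : Subgroup ↥(sSup Om)} (hL : L ∈ restr Om (sSup Om)) : TyTwo L := by
  have h1 := h.two _ (mem_restr.1 hL)
  intro x hx
  have h2 : (x : G) ∈ closure {c | c ∈ L.map (sSup Om).subtype ∧ Odd (orderOf c)} := h1 ⟨x, hx, rfl⟩
  have h3 : closure {c | c ∈ L.map (sSup Om).subtype ∧ Odd (orderOf c)} ≤
      (closure {c | c ∈ L ∧ Odd (orderOf c)}).map (sSup Om).subtype := by
    rw [MonoidHom.map_closure, closure_le]
    rintro _ ⟨⟨c, hc, rfl⟩, hodd⟩
    refine subset_closure ⟨c, ⟨hc, ?_⟩, rfl⟩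
    simpa only [coe_subtype, orderOf_coe] using hodd
  obtain ⟨y, hy, hyx⟩ := h3 h2
  have h4 : y = x := Subtype.ext hyx
  rw [← h4]
  exact hy

/-- a Sylow 2-subgroup of `⟨Om⟩` is isomorphic to one of `X` -/
theorem exists_equiv {K : Subgroup G} (hK : K ∈ Om) (T : Sylow 2 X) :
    ∃ S : Sylow 2 ↥(sSup Om), ∃ e : ↥(S : Subgroup ↥(sSup Om)) ≃* ↥(T : Subgroup X),
      ∀ s, ((e s : X) : G) = ((s : ↥(sSup Om)) : G) := by
  haveI : Fact (Nat.Prime 2) := ⟨Nat.prime_two⟩
  haveI := h.soc.norm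
  have hXH : X ≤ sSup Om := h.le_sSup' hK
  set U : Subgroup G := (T : Subgroup X).map X.subtype with hU
  have hUX : U ≤ X := map_subtype_le _
  have hUH : U ≤ sSup Om := hUX.trans hXH
  have hUp : IsPGroup 2 U := T.isPGroup'.map _
  have h1 : IsPGroup 2 (U.subgroupOf (sSup Om)) := hUp.comap_subtype
  have h2 : ¬ 2 ∣ (U.subgroupOf (sSup Om)).index := by
    have h3 : U.relIndex (sSup Om) = U.relIndex X * X.relIndex (sSup Om) :=
      (relIndex_mul_relIndex U X (sSup Om) hUX hXH).symm
    have h4 : U.relIndex X = (T : Subgroup X).index := by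
      rw [relIndex, hU]
      congr 1
      exact comap_map_eq_self_of_injective X.subtype_injective _
    intro h5
    have h6 : 2 ∣ U.relIndex X * X.relIndex (sSup Om) := by rw [← h3]; exact h5
    rcases (Nat.Prime.dvd_mul Nat.prime_two).1 h6 with h7 | h7
    · rw [h4] at h7
      exact T.not_dvd_index h7
    · exact h.odd_relIndex hK h7
  refine ⟨h1.toSylow h2, (subgroupOfEquivOfLe hUH).trans
    ((T : Subgroup X).equivMapOfInjective X.subtype X.subtype_injective).symm, fun s => ?_⟩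
  set t : U := subgroupOfEquivOfLe hUH s with ht
  have h3 : ((((T : Subgroup X).equivMapOfInjective X.subtype X.subtype_injective).symm t : X) : G) = (t : G) := by
    have h4 := (T : Subgroup X).coe_equivMapOfInjective_apply X.subtype X.subtype_injective
      (((T : Subgroup X).equivMapOfInjective X.subtype X.subtype_injective).symm t)
    rw [MulEquiv.apply_symm_apply] at h4
    exact h4.symm
  exact h3

end Ctx

end Cfsg.Agent.Cit.OneX
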