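import Cfsg.Agent.Cit.OneIdent
import Cfsg.Agent.Cit.OneThree
import Cfsg.Agent.Cit.OneMTwelve
import Cfsg.Agent.Cit.OneMain
import Cfsg.Agent.Cit.OneX
import Cfsg.Agent.Cit.TyTrans
import Cfsg.Agent.MTwelveType.SylowModel
import Cfsg.Agent.TwoFusion.SylowTypeTransfer

/-!
# The end of `|Om(S)| = 1`

* `not_isoM12`: `M₁₂` does not occur;
* `main_simple`: `G` simple, `One Om`, members of type `SL(2,F)`, `2.A₇` ⇒ `G` is `PSL₃(q)`, `PSU₃(q)`, `M₁₁`,
  `G₂(q)` or `³D₄(q)`, `q` odd;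
* `main_ctx`: the same for `X = F*(G)` (`Ctx Om X`).

S0507, S0523, S1742 (`Ext`) and S1173 (`OneF.H1173`) are hypotheses.
-/

set_option autoImplicit false
set_option linter.style.haveILetI false

namespace Cfsg.Agent.Cit.OneFinal

open Subgroup Cfsg Cfsg.Agent.Cit.OneIdent Cfsg.Agent.Cit.OneX

universe u

section twelve

open SylowG2.Coord SylowG2.Coord.TG2

variable {G : Type*} [Group G] [Finite G] {Om : Set (Subgroup G)}

/-- some member is covered by a given Sylow 2-subgroup -/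
theorem exists_mem_OmS (h : Hyp Om) {K : Subgroup G} (hK : K ∈ Om) (S : Sylow 2 G) :
    ∃ L, L ∈ OmS Om (S : Subgroup G) := by
  haveI : Fact (Nat.Prime 2) := ⟨Nat.prime_two⟩
  obtain ⟨Q, hQ⟩ := Hyp.exists_syl K
  obtain ⟨R, hR⟩ := hQ.2.1.exists_le_sylow
  obtain ⟨g, hg⟩ := MulAction.exists_smul_eq G R S
  refine ⟨cj g K, mem_OmS_of_le (h.conj K hK g) (hQ.cj g) ?_⟩
  have h1 : (S : Subgroup G) = cj g (R : Subgroup G) := by
    rw [← hg, Sylow.coe_subgroup_smul]
    rfl
  rw [h1]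
  exact cj_mono g hR

/-- **`M₁₂` does not occur** -/
theorem not_isoM12 (h : One Om) {K : Subgroup G} (ht : IsType K) {S : Subgroup G}
    (hS : IsPGroup 2 S) (hKS : K ∈ OmS Om S) {m : ℕ} {v : ZMod (2 ^ m) → ZMod (2 ^ m) → G} {r s : G}
    (tg : TG2 S m v r s) {X : Subgroup G} (hXn : X.Normal) (hX : centralizer (X : Set G) = ⊥) (hSX : S ≤ X)
    (h64 : Nat.card S = 64) (hM : Spor.IsoM12 X) : False := by
  have hK : K ∈ Om := hKS.1
  have hQ : Syl (K ⊓ S) K := syl_inf hS hKS
  obtain ⟨c, w, n, hgq⟩ := h.hyp.exists_gq hK hQ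
  have hSK : S ≤ normalizer (K : Set G) := h.le_normalizer_self hS hKS
  -- `m = 2`
  have hm : m = 2 := by
    have h1 : Nat.card S = 4 * (2 ^ m) ^ 2 := by
      rw [← Nat.card_congr (GH.QB.modelEquiv tg).toEquiv, ClassificationK.GTwoModel.T.card_T]
    rw [h64] at h1
    have h2 : (2 ^ m) ^ 2 = 4 ^ 2 := by omega
    have h3 : 2 ^ m = 4 := by nlinarith [Nat.pow_left_injective (n := 2) (by norm_num) h2]
    exact Nat.pow_right_injective le_rfl (h3.trans (by norm_num) : 2 ^ m = 2 ^ 2)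
  subst hm
  -- the involution
  have hz : zz K = v (half 2) (half 2) := by
    refine OneThree.eq_t_of_central tg (mem_inf.1 hgq.z_mem).2 (h.hyp.zz_ne hK) fun x hx => ?_
    exact (h.hyp.comm_zz hK (hSK hx)).symm
  rw [hz] at hgq
  obtain ⟨P, hPS, hP8, hPQ⟩ : ∃ P ≤ S, Nat.card P = 8 ∧ ∀ x ∈ P, ∀ y ∈ K ⊓ S, x * y = y * x := by
    rcases OneThree.le_Q1_or tg inf_le_right hgq with h1 | h1
    · exact ⟨tg.Q2, tg.Q2_le, by rw [OneThree.card_Q2 tg]; norm_num, fun x hx y hy =>
        (SylowG2.Closed.comm_Q1_Q2 tg (h1 hy) hx).symm⟩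
    · exact ⟨tg.Q1, tg.Q1_le, by rw [OneThree.card_Q1 tg]; norm_num, fun x hx y hy =>
        SylowG2.Closed.comm_Q1_Q2 tg hx (h1 hy)⟩
  obtain ⟨b, -, hb3, hbP⟩ := OneThree.exists_three ht hQ (hS.to_le hPS) (hPS.trans hSK) hPQ
  haveI := hXn
  refine OneMTwelve.false_of_isoM12 hM (MulAut.conjNormal b) ?_ ?_ (P.subgroupOf X) ?_ ?_
  · intro h1
    have h2 : b ∈ centralizer (X : Set G) := by
      rw [mem_centralizer_iff]
      intro x hx
      have h3 := congrArg Subtype.val (DFunLike.congr_fun h1 ⟨x, hx⟩)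
      rw [MulAut.conjNormal_apply] at h3
      change b * x * b⁻¹ = x at h3
      calc x * b = (b * x * b⁻¹) * b := by rw [h3]
        _ = b * x := by group
    rw [hX, mem_bot] at h2
    rw [h2, orderOf_one] at hb3
    omega
  · rw [← map_pow, ← hb3, pow_orderOf_eq_one, map_one]
  · rw [Nat.card_congr (subgroupOfEquivOfLe (hPS.trans hSX)).toEquiv, hP8]
  · rintro ⟨x, hxX⟩ hx
    apply Subtype.ext
    rw [MulAut.conjNormal_apply]
    change b * x * b⁻¹ = x
    rw [← hbP x hx, mul_inv_cancel_right]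

/-- the order of the Sylow 2-subgroups of `M₁₂` -/
theorem card_sylow_of_isoM12 {X : Type*} [Group X] [Finite X] (h : Spor.IsoM12 X) (S : Sylow 2 X) : Nat.card S = 64 := by
  haveI : Fact (Nat.Prime 2) := ⟨Nat.prime_two⟩
  obtain ⟨e⟩ := h
  have P : Sylow 2 Spor.M12 := default
  have h1 := MTwelveType.SylowModel.card_sylow P
  rw [P.card_eq_multiplicity] at h1
  rw [S.card_eq_multiplicity, Nat.card_congr e.toEquiv, h1]

end twelve

/-! ### `G` simple -/

section simple

variable {G : Type*} [Group G] [Finite G] {Om : Set (Subgroup G)}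

theorem exists_not_comm (h : Hyp Om) (hne : Om.Nonempty) : ∃ a b : G, a * b ≠ b * a := by
  obtain ⟨K, hK⟩ := hne
  obtain ⟨Q, hQ⟩ := Hyp.exists_syl K
  obtain ⟨c, w, n, hgq⟩ := h.exists_gq hK hQ
  exact ⟨w, c, hgq.not_comm⟩

theorem center_eq_bot (hG : IsSimpleGroup G) (h : Hyp Om) (hne : Om.Nonempty) : center G = ⊥ := by
  rcases (inferInstance : (center G).Normal).eq_bot_or_eq_top with h1 | h1
  · exact h1
  · exfalso
    obtain ⟨a, b, hab⟩ := exists_not_comm h hne
    exact hab (mem_center_iff.1 (show b ∈ center G by rw [h1]; exact mem_top b) a)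

theorem centralizer_eq_bot (hG : IsSimpleGroup G) (h : Hyp Om) (hne : Om.Nonempty) {N : Subgroup G} (hN : N.Normal)
    (hN1 : N ≠ ⊥) : centralizer (N : Set G) = ⊥ := by
  rcases hN.eq_bot_or_eq_top with h1 | h1
  · exact absurd h1 hN1
  · rw [h1, coe_top, centralizer_univ, center_eq_bot hG h hne]

/-- **the identification, `G` simple** -/
theorem main_of_types (hG : IsSimpleGroup G) (h : One Om) (hne : Om.Nonempty) (ty : ∀ K ∈ Om, IsType K) (ext : Ext G)
    (S : Sylow 2 G) (hS : IsQuasiDihedral (S : Subgroup G) ∨ IsWreathed (S : Subgroup G) ∨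
      ∃ m v r s, SylowG2.Coord.TG2 (S : Subgroup G) m v r s) : Concl G := by
  rcases ident ext S hS with h2 | ⟨h2, m, v, r, s, tg⟩
  · exact h2
  · exfalso
    obtain ⟨K, hK⟩ := id hne
    obtain ⟨L, hL⟩ := exists_mem_OmS h.hyp hK S
    haveI : (⊤ : Subgroup G).Normal := inferInstance
    refine not_isoM12 h (ty L hL.1) S.isPGroup' hL tg (X := ⊤) inferInstance
      (centralizer_eq_bot hG h.hyp hne inferInstance ?_) le_top (card_sylow_of_isoM12 h2 S) ?_
    · haveI := hG
      exact top_ne_bot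
    · obtain ⟨e⟩ := h2
      exact ⟨topEquiv.trans e⟩

/-- **the end of `|Om(S)| = 1`, `G` simple** -/
theorem main_simple (hG : IsSimpleGroup G) (h : One Om) (hne : Om.Nonempty) (ty : ∀ K ∈ Om, IsType K)
    (h1173 : OneF.H1173 G) (ext : Ext G) : Concl G := by
  haveI : Fact (Nat.Prime 2) := ⟨Nat.prime_two⟩
  have hz := center_eq_bot hG h.hyp hne
  have he : 2 ∣ Nat.card G := by
    obtain ⟨K, hK⟩ := id hne
    rw [← h.hyp.orderOf_zz hK]
    exact orderOf_dvd_natCard _
  have ho : oddCore G = ⊥ := by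
    rcases (Lib.Cores.pPrimeCore_normal 2 : (oddCore G).Normal).eq_bot_or_eq_top with h1 | h1
    · exact h1
    · exfalso
      have h3 := Lib.Cores.pPrimeCore_coprime (G := G) 2
      rw [show pPrimeCore 2 G = ⊤ from h1, card_top] at h3
      have h4 := Nat.dvd_gcd he (dvd_refl 2)
      rw [h3] at h4
      omega
  have hidx : ∀ H : Subgroup G, H.index ≠ 2 := by
    intro H hH
    haveI hn : H.Normal := normal_of_index_eq_two hH
    rcases hn.eq_bot_or_eq_top with h1 | h1
    · rw [h1, index_bot] at hH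
      have h2 : IsCyclic G := isCyclic_of_prime_card (p := 2) hH
      obtain ⟨a, b, hab⟩ := exists_not_comm h.hyp hne
      obtain ⟨g, hg⟩ := h2.exists_generator
      obtain ⟨i, hi⟩ := hg a
      obtain ⟨j, hj⟩ := hg b
      apply hab
      rw [← hi, ← hj]
      exact (Commute.refl g).zpow_zpow i j
    · rw [h1, index_top] at hH
      omega
  let S : Sylow 2 G := default
  have h1 := OneMain.main_of h hne (fun L hL => (ty L hL).tyTwo) ho hz hidx
    (fun N hN hs => centralizer_eq_bot hG h.hyp hne hN (by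
      rintro rfl
      exact hs (by infer_instance))) h1173 S
  exact main_of_types hG h hne ty ext S h1

end simple

/-! ### `X = F*(G)` simple -/

/-- **the end of `|Om(S)| = 1`, `F*(G) = X` simple** -/
theorem main_ctx {G : Type*} [Group G] [Finite G] {Om : Set (Subgroup G)} {X : Subgroup G} (h : Ctx Om X)
    (hne : Om.Nonempty) (ty : ∀ K ∈ Om, IsType K) (h1173 : OneF.H1173 ↥(sSup Om)) (ext : Ext X) : Concl X := by
  haveI : Fact (Nat.Prime 2) := ⟨Nat.prime_two⟩
  obtain ⟨K, hK⟩ := hne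
  have hXH := h.le_sSup' hK
  have hsoc := h.soc_restr hXH
  have h1 := h.one_restr (sSup Om)
  have hK' : K.subgroupOf (sSup Om) ∈ restr Om (sSup Om) := by
    rw [mem_restr, map_subgroupOf_eq_of_le (le_sSup hK)]
    exact hK
  have T : Sylow 2 X := default
  obtain ⟨S, e, he⟩ := h.exists_equiv hK T
  have h2 := OneMain.main_of h1 ⟨_, hK'⟩ (fun L hL => h.tyTwo_restr hL) hsoc.oddCore_eq_bot hsoc.center_eq_bot
    (h.index_ne_two_sSup hK)
    (fun N hN hs => hsoc.centralizer_eq_bot hN (by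
      rintro rfl
      exact hs (by infer_instance))) h1173 S
  rcases h2 with h2 | h2 | ⟨m, v, r, s, h2⟩
  · exact of_quasiDihedral ext T (TwoFusion.SylowTypeTransfer.isQuasiDihedral_of_mulEquiv e h2)
  · exact of_wreathed ext T (TwoFusion.SylowTypeTransfer.isWreathed_of_mulEquiv e h2)
  · rcases of_typeG2 ext T ((GH.QB.typeG2_of_TG2 h2).congr e) with h3 | h3
    · exact h3
    · exfalso
      obtain ⟨L, hL⟩ := exists_mem_OmS h1.hyp hK' S
      refine not_isoM12 h1 (TyTrans.isType_restr ty (sSup Om) L hL.1) S.isPGroup' hL h2 hsoc.norm hsoc.cent ?_ ?_ ?_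
      · intro x hx
        have h4 : (S : Subgroup ↥(sSup Om)).map (sSup Om).subtype ≤ X :=
          h.le_of_isPGroup hK (S.isPGroup'.map _) (map_subtype_le _)
        exact h4 ⟨x, hx, rfl⟩
      · rw [Nat.card_congr e.toEquiv]
        exact card_sylow_of_isoM12 h3 T
      · obtain ⟨f⟩ := h3
        exact ⟨(subgroupOfEquivOfLe hXH).trans f⟩

end Cfsg.Agent.Cit.OneFinal
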