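import Cfsg.Agent.Cit.CoreOne
import Cfsg.Agent.Cit.OneFinal

/-!
# The input `IdentStmt` of the branch `|Om(S)| = 1`
-/

set_option autoImplicit false

namespace Cfsg.Agent.Cit.OneIdentMain

open Subgroup Cfsg Cfsg.Agent.Cit.OneIdent

universe u

theorem of_concl {G : Type*} [Group G] (h : Concl G) :
    CoreOne.L3 G ∨ CoreOne.U3 G ∨ Spor.IsoM11 G ∨ CoreOne.G2D4 G := by
  rcases h with h | h | h | h | h
  · exact Or.inl h
  · exact Or.inr (Or.inl h)
  · exact Or.inr (Or.inr (Or.inl h))
  · exact Or.inr (Or.inr (Or.inr (isG2D4 (Or.inl h))))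
  · exact Or.inr (Or.inr (Or.inr (isG2D4 (Or.inr h))))

/-- **`CoreOne.IdentStmt`** from S0507, S0523, S1742 for all simple groups -/
theorem identStmt (ext : ∀ (G : Type u) [Group G] [Finite G] [IsSimpleGroup G], Ext G) : CoreOne.IdentStmt.{u} := by
  intro G _ _ _ Om h hne ty S hS
  exact of_concl (OneFinal.main_of_types inferInstance h hne (fun K hK => (ty K hK).isType) (ext G) S hS)

end Cfsg.Agent.Cit.OneIdentMain
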