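import Cfsg.Agent.Cit.CoreOne
import Cfsg.Agent.Cit.HexCore
import Cfsg.Agent.Cit.HexG2
import Cfsg.Agent.Cit.HexD4

/-!
# The input `HexStmt` of `CoreOne`: `|Om(S)| = 1`, `G₂(q)`, `³D₄(q)`

`oo_eq_bot` : `O(K) = 1` for the members `K` in a group with a `HexGrp` (helper764's `HexCore`).
-/

set_option autoImplicit false
set_option linter.style.haveILetI false

namespace Cfsg.Agent.Cit.CoreOneHex

open Subgroup Cfsg Cfsg.Agent.Cit.CoreOne

universe u

theorem oo_eq_bot {E : Type*} [Field E] [Finite E] {σ : E ≃+* E} {L : Type*} [Group L] [Finite L]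
    (c : HexBase.HexGrp σ L) (h2 : (2 : E) ≠ 0) {G : Type*} [Group G] [Finite G] {Om : Set (Subgroup G)}
    (h : Hyp Om) (e : G ≃* L) {K : Subgroup G} (hK : K ∈ Om) : OO K = ⊥ := by
  have h' := h.img (f := e.toMonoidHom) e.surjective (not_two_dvd_ker_of_injective e.toMonoidHom e.injective)
  have hK' : K.map e.toMonoidHom ∈ Cit.img e.toMonoidHom Om := ⟨K, hK, rfl⟩
  have h3 : oddCore ↥(K.map e.toMonoidHom) = ⊥ :=
    c.oddCore_subnormal h2 (h'.zz_mul hK') (h'.zz_ne hK') (h'.le_centralizer hK') (h'.sub _ hK')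
  have h4 : oddCore ↥K = ⊥ := by
    have h5 := Lib.Cores.map_equiv_pPrimeCore (K.equivMapOfInjective e.toMonoidHom e.injective) 2
    have h6 : pPrimeCore 2 ↥(K.map e.toMonoidHom) = ⊥ := h3
    rw [h6] at h5
    exact (Subgroup.map_eq_bot_iff_of_injective _ (K.equivMapOfInjective e.toMonoidHom e.injective).injective).1 h5
  rw [OO_def, h4, Subgroup.map_bot]

theorem two_ne_zero_of_char {p : ℕ} (hp : p ≠ 2) (F : Type*) [Field F] [CharP F p] : (2 : F) ≠ 0 := by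
  intro h2
  have h3 : (p : ℕ) ∣ 2 := (CharP.cast_eq_zero_iff F p 2).1 (by exact_mod_cast h2)
  rcases (Nat.dvd_prime Nat.prime_two).1 h3 with h4 | h4
  · subst h4
    have h5 : (1 : F) = 0 := by
      have := CharP.cast_eq_zero F 1
      rwa [Nat.cast_one] at this
    exact one_ne_zero h5
  · exact hp h4

/-- `IsG2D4`: `O(K) = 1` -/
theorem oo_of_isG2D4 {G : Type*} [Group G] [Finite G] {Om : Set (Subgroup G)} (h : Hyp Om) {p : ℕ} (hp : p ≠ 2)
    (hG : IsG2D4 p G) {K : Subgroup G} (hK : K ∈ Om) : OO K = ⊥ := by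
  obtain ⟨F, _, _, _, hG⟩ := hG
  have h2 := two_ne_zero_of_char hp F
  rcases hG with ⟨⟨e⟩⟩ | ⟨q, hq, hF, ⟨e⟩⟩
  · exact oo_eq_bot (HexG2.g2 F h2) h2 h e hK
  · obtain ⟨σ, -, ⟨c⟩⟩ := HexD4.exists_d4 hF
    exact oo_eq_bot c h2 h e hK

theorem hexStmt : HexStmt.{u} := by
  intro G _ _ _ Om h _ hG K hK
  obtain ⟨p, -, hp, hG⟩ := hG
  exact oo_of_isG2D4 h.hyp hp hG hK

end Cfsg.Agent.Cit.CoreOneHex
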