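import Cfsg.Agent.Cit.LongLeafEnd
import Cfsg.Agent.Cit.CoreOne

/-!
# The input `LongStmt` of `CoreOne`: `|Om(S)| = 1`, `PSL₃(q)`, `PSU₃(q)`
-/

set_option autoImplicit false

namespace Cfsg.Agent.Cit.LongLeafOne

open Subgroup Cfsg Cfsg.Agent.Cit.LongLeafEnd

universe u

/-- `|Om(S)| = 1`: all members are conjugate -/
theorem exists_cj_of_one {G : Type*} [Group G] [Finite G] {Om : Set (Subgroup G)} (h : One Om) {K J : Subgroup G}
    (hK : K ∈ Om) (hJ : J ∈ Om) : ∃ g, J = cj g K := by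
  obtain ⟨S, hKS, -⟩ := h.hyp.exists_sylow hK
  obtain ⟨T, hJT, -⟩ := h.hyp.exists_sylow hJ
  obtain ⟨g, hg⟩ := exists_cj_sylow S T
  refine ⟨g, h.one _ T.isPGroup' J hJT _ ?_⟩
  rw [← hg]
  exact cj_mem_OmS h.hyp.conj g hKS

theorem longStmt : CoreOne.LongStmt.{u} := by
  intro G _ _ hs Om h hne hT hL
  have B : Base Om := ⟨h.hyp, hT, hne, fun K hK J hJ => exists_cj_of_one h hK hJ, hs⟩
  rcases hL with ⟨F, _, _, ho, ⟨e⟩⟩ | ⟨F, _, _, q, hF, ho, ⟨e⟩⟩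
  · exact psl3 ho B (twoCen_of_one h hne) e
  · exact psu3 (by rw [hF]; exact ho.pow) hF B (twoCen_of_one h hne) e

end Cfsg.Agent.Cit.LongLeafOne
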