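import Cfsg.Agent.Cit.CoreOne
import Cfsg.Agent.Cit.CoreOneHex
import Cfsg.Agent.Cit.LongLeafOne
import Cfsg.Agent.S1173

/-!
# `|Om(S)| = 1`: inputs (1) (S1173), (3) (`PSL₃`, `PSU₃`), (4) (`G₂`, `³D₄`) plugged in
-/

set_option autoImplicit false

open Cfsg Subgroup

namespace Cfsg.Agent.Cit.CoreOneFull

universe u

theorem s1173Stmt : CoreOne.S1173Stmt.{u} :=
  fun _ _ _ ho S T hT => S1173.result ho S T hT

theorem coreOne (hI : CoreOne.IdentStmt.{u}) : Branches.CoreOne.{u} :=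
  CoreOne.coreOne s1173Stmt hI LongLeafOne.longStmt CoreOneHex.hexStmt

end Cfsg.Agent.Cit.CoreOneFull
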