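import Cfsg.Agent.Cit.CoresClose
import Cfsg.Agent.Cit.OneComp
import Cfsg.Agent.SignalizersComponents.LocalNormalize
import Cfsg.Agent.SignalizersComponents.BalanceAux

/-!
# (2B) and the generation of `C(s)`, abstract forms

`O(G) = 1`, `XX b = O(C(b))`.

* `XX_le_centralizer_pCore`, `XX_le_normalizer`, `component_le_centralizer_XX` : the action of `XX b` on `O_2(G)` and
  on the components;
* `GoodAt E y` : for some subgroup `E₀ ≤ E` of index `≤ 2`, every `b ∈ E₀`, `b ≠ 1`, commutes with `y` and `y`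
  commutes with `XX b`;
* `eq_one` : **(2B)**: `u ∈ XX b` for all `b ∈ B`, `b ≠ 1`, `B ≤ E` a four-group, all components generated by elements
  `y` with `GoodAt E y`: then `u = 1`.
-/

set_option autoImplicit false
set_option linter.style.haveILetI false

namespace Cfsg.Agent.Cit.CoreTwoB

open Subgroup Cfsg Cfsg.Agent.Cit Cfsg.Agent.Cit.Comp
open Cfsg.Agent.SignalizersComponents.Components

variable {G : Type*} [Group G]

theorem XX_eq (b : G) : XX b = centralizerPPrimeCore 2 b := rfl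

theorem orderOf_two {b : G} (hb : b * b = 1) (hb1 : b ≠ 1) : orderOf b = 2 :=
  haveI : Fact (Nat.Prime 2) := ⟨Nat.prime_two⟩
  orderOf_eq_prime (by rw [pow_two, hb]) hb1

variable [Finite G]

/-- `O(C(b))` centralises `O_2(G)` -/
theorem XX_le_centralizer_pCore {b : G} (hb : b * b = 1) (hb1 : b ≠ 1) :
    XX b ≤ centralizer (pCore 2 G : Set G) := by
  haveI : Fact (Nat.Prime 2) := ⟨Nat.prime_two⟩
  exact SignalizersComponents.BalanceAux.core_le_centralizer_pCore 2 b (orderOf_two hb hb1)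

/-- `O(C(b))` normalises every component, if `O(G) = 1` -/
theorem XX_le_normalizer (hO : pPrimeCore 2 G = ⊥) {b : G} (hb : b * b = 1) {L : Subgroup G}
    (hL : IsComponent L) : XX b ≤ normalizer (L : Set G) := by
  haveI : Fact (Nat.Prime 2) := ⟨Nat.prime_two⟩
  have hP : IsPGroup 2 (zpowers b) := by
    intro x
    obtain ⟨x, i, rfl⟩ := x
    refine ⟨1, Subtype.ext ?_⟩
    change (b ^ i) ^ 2 ^ 1 = 1
    rw [pow_one, ← zpow_natCast, ← zpow_mul, mul_comm, zpow_mul, zpow_natCast, pow_two, hb, one_zpow]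
  have h1 : OO (centralizer (zpowers b : Set G)) ≤ normalizer (L : Set G) :=
    SignalizersComponents.LocalNormalize.pPrimeCore_centralizer_le_normalizer_component hO hP hL
  have h2 : centralizer (zpowers b : Set G) = centralizer {b} := by
    ext x
    rw [mem_centralizer_iff, mem_centralizer_singleton_iff]
    constructor
    · exact fun h => (h b (mem_zpowers b)).symm
    · rintro h _ ⟨i, rfl⟩
      exact ((show Commute x b from h).zpow_right i).symm
  rw [h2] at h1
  exact h1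

/-- a component centralised by `b` commutes with `O(C(b))` -/
theorem component_le_centralizer_XX (hev : EvQ G) {b : G} {L : Subgroup G} (hL : IsComponent L)
    (hLb : L ≤ centralizer {b}) : L ≤ centralizer (XX b : Set G) := by
  rcases component_le_or_commutator_eq_bot_of_le_normalizer hL
    (hLb.trans (centralizer_le_normalizer_XX b)) with h | h
  · exact absurd ((hev L hL.2).trans (card_dvd_of_le h)) (odd_XX b)
  · exact commutator_eq_bot_iff_le_centralizer.1 h

/-- an element of odd order of `C(F*(G))` is `1`, if `O(G) = 1` -/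
theorem eq_one_of_comm (hO : pPrimeCore 2 G = ⊥) {N : Subgroup G} (hN : ¬ 2 ∣ Nat.card N) {u : G} (hu : u ∈ N)
    (h1 : ∀ L : Subgroup G, IsComponent L → ∀ y ∈ L, y * u = u * y)
    (h2 : u ∈ centralizer (pCore 2 G : Set G)) : u = 1 := by
  haveI : Fact (Nat.Prime 2) := ⟨Nat.prime_two⟩
  have h3 := OneComp.centralizer_genFit_le hO (OneComp.mem_centralizer_genFit hO
    (fun L hL => mem_centralizer_iff.2 (h1 L hL)) h2)
  obtain ⟨k, hk⟩ := Lib.Cores.pCore_isPGroup (G := G) 2 ⟨u, h3⟩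
  exact eq_one_of_odd hN hu (congrArg Subtype.val hk)

/-- `y` is good for the 2-subgroup `E` -/
def GoodAt (E : Subgroup G) (y : G) : Prop :=
  ∃ E₀ ≤ E, E₀.relIndex E ≤ 2 ∧ ∀ b ∈ E₀, b ≠ 1 → b * y = y * b ∧ ∀ x ∈ XX b, x * y = y * x

/-- a subgroup of index `≤ 2` meets every four-group -/
theorem exists_mem_of_relIndex {E E₀ B : Subgroup G} (hE₀ : E₀ ≤ E) (hi : E₀.relIndex E ≤ 2) (hB : B ≤ E)
    (h4 : 2 < Nat.card B) : ∃ b ∈ B, b ∈ E₀ ∧ b ≠ 1 := by
  by_contra hcon
  push Not at hcon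
  have h1 : (E₀ ⊓ B : Subgroup G) = ⊥ := by
    rw [eq_bot_iff]
    rintro x ⟨hx, hxB⟩
    exact mem_bot.2 (hcon x hxB hx)
  have h2 : (E₀ ⊓ B).relIndex B = E₀.relIndex B := inf_relIndex_right E₀ B
  rw [h1, relIndex_bot_left] at h2
  have h3 : E₀.relIndex B ≤ E₀.relIndex E :=
    relIndex_le_of_le_right hB (index_ne_zero_of_finite (H := E₀.subgroupOf E))
  omega

/-- **(2B)** -/
theorem eq_one (hO : pPrimeCore 2 G = ⊥) {E B : Subgroup G} (hE2 : ∀ b ∈ E, b * b = 1) (hB : B ≤ E)
    (h4 : 2 < Nat.card B) {u : G} (hu : ∀ b ∈ B, b ≠ 1 → u ∈ XX b)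
    (hL : ∀ L : Subgroup G, IsComponent L → L ≤ closure {y | GoodAt E y}) : u = 1 := by
  obtain ⟨b, hb, hb1⟩ : ∃ b ∈ B, b ≠ 1 := by
    by_contra hcon
    push Not at hcon
    have : B = ⊥ := by
      rw [eq_bot_iff]; exact fun x hx => mem_bot.2 (hcon x hx)
    rw [this, card_bot] at h4
    omega
  refine eq_one_of_comm hO (odd_XX b) (hu b hb hb1) ?_ (XX_le_centralizer_pCore (hE2 b (hB hb)) hb1 (hu b hb hb1))
  intro L hLc y hy
  have h1 : closure {y | GoodAt E y} ≤ centralizer {u} := by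
    rw [closure_le]
    rintro y ⟨E₀, hE₀, hi, h⟩
    obtain ⟨c, hc, hc0, hc1⟩ := exists_mem_of_relIndex hE₀ hi hB h4
    rw [SetLike.mem_coe, mem_centralizer_singleton_iff]
    exact ((h c hc0 hc1).2 u (hu c hc hc1)).symm
  exact mem_centralizer_singleton_iff.1 (h1 (hL L hLc hy))

end Cfsg.Agent.Cit.CoreTwoB
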