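import Mathlib

/-!
# Exclusions (R18, D8): LEMMA E and the alternating groups

`LEMMA E`: if `K` is subnormal in `H`, has at most one involution, and normalises an elementary abelian `2`-subgroup `B`
of `H`, then the elements of odd order of `K` centralise `B`; if `K` has no subgroup of index two, then `K` centralises `B`.

Consequence `no_perm`: in a symmetric or alternating group no involution `z` has a subgroup `K` subnormal in `C(z)` with
`z` the only involution of `K` and without subgroup of index two.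
-/

set_option autoImplicit false
set_option linter.unusedSectionVars false
set_option linter.style.haveILetI false

namespace Cfsg.Agent.Cit.Excl

open Subgroup

section E

variable {H : Type*} [Group H]

/-- the commutator map -/
def dd (c x : H) : H := x * (c * x⁻¹ * c⁻¹)

theorem dd_mem {K B : Subgroup H} (hKB : ∀ k ∈ K, ∀ b ∈ B, k * b * k⁻¹ ∈ B) {c : H} (hc : c ∈ K) {b : H} (hb : b ∈ B) :
    dd c b ∈ B := B.mul_mem hb (hKB c hc _ (B.inv_mem hb))

theorem iter_mem {K B : Subgroup H} (hKB : ∀ k ∈ K, ∀ b ∈ B, k * b * k⁻¹ ∈ B) {c : H} (hc : c ∈ K) {b : H} (hb : b ∈ B)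
    (n : ℕ) : (dd c)^[n] b ∈ B := by
  induction n with
  | zero => exact hb
  | succ n ih => rw [Function.iterate_succ_apply']; exact dd_mem hKB hc ih

theorem exists_iter {K : Subgroup H} (hK : K.IsSubnormal) : ∀ c ∈ K, ∀ b : H, ∃ n, (dd c)^[n] b ∈ K := by
  induction hK with
  | top => exact fun c _ b => ⟨0, Subgroup.mem_top _⟩
  | step X Y hXY hY hN ih =>
    intro c hc b
    obtain ⟨n, hn⟩ := ih c (hXY hc) b
    refine ⟨n + 1, ?_⟩
    rw [Function.iterate_succ_apply']
    set x := (dd c)^[n] b with hx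
    have h1 : x * c * x⁻¹ ∈ X := by
      have := hN.conj_mem ⟨c, hXY hc⟩ hc ⟨x, hn⟩
      exact this
    have h2 : dd c x = c * (c⁻¹ * (x * c * x⁻¹)) * c⁻¹ := by rw [dd]; group
    have h3 : dd c x = (x * c * x⁻¹) * c⁻¹ := by rw [dd]; group
    rw [h3]
    exact X.mul_mem h1 (X.inv_mem hc)

theorem dd_eq_one {c x : H} (h : dd c x = 1) : c * x = x * c := by
  rw [dd, mul_eq_one_iff_eq_inv] at h
  have h1 : x = c * x * c⁻¹ := by
    have h2 : (c * x⁻¹ * c⁻¹)⁻¹ = c * x * c⁻¹ := by group
    exact h.trans h2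
  calc c * x = c * x * c⁻¹ * c := by group
    _ = x * c := by rw [← h1]

theorem dd_of_comm {c x : H} (h : c * x = x * c) : dd c x = 1 := by
  have h1 : c * x⁻¹ = x⁻¹ * c := (Commute.inv_right h : Commute c x⁻¹).eq
  rw [dd, h1]; group

theorem dd_dd {c x : H} (hc : Odd (orderOf c)) (hy2 : dd c x * dd c x = 1) (h : dd c (dd c x) = 1) : dd c x = 1 := by
  set y := dd c x with hy
  have hcy : c * y = y * c := dd_eq_one h
  have hyi : y⁻¹ = y := inv_eq_of_mul_eq_one_right hy2
  have h1 : c * x * c⁻¹ = y * x := by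
    have h2 : y⁻¹ * x = c * x * c⁻¹ := by rw [hy, dd]; group
    rw [← h2, hyi]
  have h2 : c * (c * x * c⁻¹) * c⁻¹ = x := by
    rw [h1]
    calc c * (y * x) * c⁻¹ = (c * y) * x * c⁻¹ := by group
      _ = y * (c * x * c⁻¹) := by rw [hcy]; group
      _ = y * y * x := by rw [h1, mul_assoc]
      _ = x := by rw [hy2, one_mul]
  have h3 : Commute (c ^ 2) x := by
    have h4 : c ^ 2 * x * (c ^ 2)⁻¹ = x := by
      have : c ^ 2 * x * (c ^ 2)⁻¹ = c * (c * x * c⁻¹) * c⁻¹ := by rw [pow_two]; group
      rw [this, h2]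
    exact mul_inv_eq_iff_eq_mul.mp h4
  have h5 : Commute c x := by
    obtain ⟨k, hk⟩ := hc
    have h6 : c = (c ^ 2) ^ (k + 1) := by
      rw [← pow_mul, show 2 * (k + 1) = (2 * k + 1) + 1 by ring, pow_succ, ← hk, pow_orderOf_eq_one, one_mul]
    rw [h6]
    exact h3.pow_left _
  exact dd_of_comm h5.eq

/-- LEMMA E, elements of odd order -/
theorem odd_comm {K B : Subgroup H} (hK : K.IsSubnormal) (hKB : ∀ k ∈ K, ∀ b ∈ B, k * b * k⁻¹ ∈ B)
    (hB : ∀ b ∈ B, b * b = 1) (z : H) (huniq : ∀ t ∈ K, t * t = 1 → t = 1 ∨ t = z) {c : H} (hc : c ∈ K)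
    (hodd : Odd (orderOf c)) {b : H} (hb : b ∈ B) : c * b = b * c := by
  obtain ⟨n, hn⟩ := exists_iter hK c hc b
  have h1 : (dd c)^[n + 1] b = 1 := by
    rw [Function.iterate_succ_apply']
    have hxB := iter_mem hKB hc hb n
    set x := (dd c)^[n] b with hx
    apply dd_of_comm
    have hx2 := hB x hxB
    have hcx2 : c * x * c⁻¹ * (c * x * c⁻¹) = 1 := by
      have : c * x * c⁻¹ * (c * x * c⁻¹) = c * (x * x) * c⁻¹ := by group
      rw [this, hx2]; group
    have hcxK : c * x * c⁻¹ ∈ K := K.mul_mem (K.mul_mem hc hn) (K.inv_mem hc)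
    rcases huniq x hn hx2 with h2 | h2
    · rw [h2]; simp
    · rcases huniq _ hcxK hcx2 with h3 | h3
      · have : x = 1 := by
          have h4 : x = c⁻¹ * (c * x * c⁻¹) * c := by group
          rw [h3] at h4
          rw [h4]; group
        rw [this]; simp
      · rw [← h2] at h3
        exact mul_inv_eq_iff_eq_mul.mp h3
  have key : ∀ m, (dd c)^[m + 1] b = 1 → (dd c)^[1] b = 1 := by
    intro m
    induction m with
    | zero => exact id
    | succ m ih =>
      intro h2
      apply ih
      rw [Function.iterate_succ_apply'] at h2 ⊢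
      rw [Function.iterate_succ_apply'] at h2
      refine dd_dd hodd ?_ h2
      exact hB _ (dd_mem hKB hc (iter_mem hKB hc hb m))
  exact dd_eq_one (key n h1)

end E

/-! ### Subgroups without subgroup of index two -/

section Two

variable {G : Type*} [Group G] [Finite G]

/-- a finite group all of whose elements of odd order lie in the normal subgroup `N` has a subgroup of index two, or
`N` is everything -/
theorem eq_top_of_odd {X : Type*} [Group X] [Finite X] (hno : ∀ Y : Subgroup X, Y.index ≠ 2) (N : Subgroup X) [N.Normal]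
    (hodd : ∀ x : X, Odd (orderOf x) → x ∈ N) : N = ⊤ := by
  haveI : Fact (Nat.Prime 2) := ⟨Nat.prime_two⟩
  by_contra hne
  have hP : IsPGroup 2 (X ⧸ N) := by
    intro y
    obtain ⟨x, rfl⟩ := QuotientGroup.mk_surjective y
    obtain ⟨k, m, hm, hkm⟩ := Nat.exists_eq_two_pow_mul_odd (orderOf_pos x).ne'
    refine ⟨k, ?_⟩
    rw [← QuotientGroup.mk_pow, QuotientGroup.eq_one_iff]
    apply hodd
    rw [orderOf_pow, hkm, Nat.gcd_eq_right (dvd_mul_right _ _), Nat.mul_div_cancel_left _ (by positivity)]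
    exact hm
  obtain ⟨k, hk⟩ := hP.exists_card_eq
  have hk0 : k ≠ 0 := by
    rintro rfl
    rw [pow_zero] at hk
    apply hne
    rw [← index_eq_one]
    exact hk
  obtain ⟨k, rfl⟩ := Nat.exists_eq_succ_of_ne_zero hk0
  obtain ⟨Y, hY⟩ := Sylow.exists_subgroup_card_pow_prime 2 (G := X ⧸ N) (n := k)
    (by rw [hk]; exact pow_dvd_pow 2 (Nat.le_succ k))
  apply hno (Y.comap (QuotientGroup.mk' N))
  rw [index_comap_of_surjective _ (QuotientGroup.mk'_surjective N)]
  have h1 := Y.card_mul_index
  rw [hY, hk, pow_succ] at h1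
  exact Nat.eq_of_mul_eq_mul_left (by positivity) h1

/-- the same for a subgroup `K` of `G` -/
theorem le_of_odd {K N : Subgroup G} (hno : ∀ Y ≤ K, Y.relIndex K ≠ 2) (hn : ∀ k ∈ K, ∀ x ∈ K, x ∈ N → k * x * k⁻¹ ∈ N)
    (hodd : ∀ x ∈ K, Odd (orderOf x) → x ∈ N) : K ≤ N := by
  haveI : (N.subgroupOf K).Normal := ⟨fun x hx k => hn k k.2 x x.2 hx⟩
  have h1 : N.subgroupOf K = ⊤ := by
    apply eq_top_of_odd
    · intro Y hY
      apply hno (Y.map K.subtype) (map_subtype_le Y)
      have h2 : (Y.map K.subtype).subgroupOf K = Y := by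
        rw [subgroupOf, comap_map_eq_self_of_injective K.subtype_injective]
      rw [relIndex, h2, hY]
    · intro x hx
      exact hodd x x.2 (by rwa [Subgroup.orderOf_coe])
  rw [subgroupOf_eq_top] at h1
  exact h1

/-- **LEMMA E** -/
theorem lemmaE {H K B : Subgroup G} (hKH : K ≤ H) (hK : (K.subgroupOf H).IsSubnormal) (hBH : B ≤ H)
    (hKB : ∀ k ∈ K, ∀ b ∈ B, k * b * k⁻¹ ∈ B)
    (hB : ∀ b ∈ B, b * b = 1) (z : G) (huniq : ∀ t ∈ K, orderOf t = 2 → t = z) (hno : ∀ Y ≤ K, Y.relIndex K ≠ 2) :
    ∀ k ∈ K, ∀ b ∈ B, k * b = b * k := by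
  have h1 : K ≤ centralizer (B : Set G) := by
    refine le_of_odd hno ?_ ?_
    · intro k hk x _ hx
      rw [mem_centralizer_iff] at hx ⊢
      intro b hb
      have h2 := hx (k⁻¹ * b * k) (by
        have := hKB k⁻¹ (K.inv_mem hk) b hb
        rwa [inv_inv] at this)
      calc b * (k * x * k⁻¹) = k * (k⁻¹ * b * k * x) * k⁻¹ := by group
        _ = k * (x * (k⁻¹ * b * k)) * k⁻¹ := by rw [h2]
        _ = k * x * k⁻¹ * b := by group
    · intro x hx hodd
      rw [mem_centralizer_iff]
      intro b hb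
      by_cases hz : z ∈ K
      · have h2 := odd_comm (H := H) (K := K.subgroupOf H) (B := B.subgroupOf H) hK
          (fun k hk b hb => hKB k hk b hb) (fun b hb => Subtype.ext (hB b hb)) ⟨z, hKH hz⟩
          (fun t ht ht2 => by
            by_cases h3 : t = 1
            · exact Or.inl h3
            · refine Or.inr (Subtype.ext (huniq t ht ?_))
              rw [Subgroup.orderOf_coe]
              exact orderOf_eq_prime (by rw [pow_two]; exact ht2) h3)
          (c := ⟨x, hKH hx⟩) hx (by rwa [Subgroup.orderOf_mk]) (b := ⟨b, hBH hb⟩) hb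
        exact (congrArg Subtype.val h2).symm
      · have h2 := odd_comm (H := H) (K := K.subgroupOf H) (B := B.subgroupOf H) hK
          (fun k hk b hb => hKB k hk b hb) (fun b hb => Subtype.ext (hB b hb)) 1
          (fun t ht ht2 => by
            by_cases h3 : t = 1
            · exact Or.inl h3
            · exfalso
              apply hz
              have h4 := huniq t ht (by
                rw [Subgroup.orderOf_coe]
                exact orderOf_eq_prime (by rw [pow_two]; exact ht2) h3)
              rw [← h4]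
              exact ht)
          (c := ⟨x, hKH hx⟩) hx (by rwa [Subgroup.orderOf_mk]) (b := ⟨b, hBH hb⟩) hb
        exact (congrArg Subtype.val h2).symm
  intro k hk b hb
  exact ((mem_centralizer_iff.mp (h1 hk)) b hb).symm

end Two

/-! ### Symmetric and alternating groups -/

section Perm

open Equiv

theorem pai {α : Type*} (f : Perm α) (x : α) : f (f⁻¹ x) = x := f.apply_symm_apply x

theorem pia {α : Type*} (f : Perm α) (x : α) : f⁻¹ (f x) = x := f.symm_apply_apply x

/-- no involution `z` of a symmetric group has a subgroup `K` subnormal in `C(z)`, with `z` as its only involution and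
without subgroup of index two -/
theorem no_perm {α : Type*} [Finite α] {z : Perm α} (hz : orderOf z = 2) {K : Subgroup (Perm α)}
    (hKz : K ≤ centralizer {z}) (hzK : z ∈ K) (hsn : (K.subgroupOf (centralizer {z})).IsSubnormal)
    (huniq : ∀ t ∈ K, orderOf t = 2 → t = z) (hno : ∀ Y ≤ K, Y.relIndex K ≠ 2) : False := by
  classical
  haveI : Fintype α := Fintype.ofFinite α
  have hzz : ∀ x, z (z x) = x := by
    intro x
    have h1 : z ^ 2 = 1 := by rw [← hz]; exact pow_orderOf_eq_one z
    have h2 := congrArg (fun g : Perm α => g x) h1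
    simpa [pow_two] using h2
  have hz1 : z ≠ 1 := by
    rintro rfl
    simp at hz
  obtain ⟨x, hx⟩ : ∃ x, z x ≠ x := by
    by_contra h
    push Not at h
    exact hz1 (Perm.ext h)
  have hcom : ∀ k ∈ K, ∀ y, k (z y) = z (k y) := by
    intro k hk y
    have h1 := mem_centralizer_singleton_iff.mp (hKz hk)
    exact congrArg (fun g : Perm α => g y) h1
  let B : Subgroup (Perm α) :=
    { carrier := {g | g * z = z * g ∧ ∀ y, g y = y ∨ g y = z y}
      one_mem' := ⟨by simp, fun y => Or.inl rfl⟩
      mul_mem' := by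
        rintro g k ⟨hg, hg'⟩ ⟨hk, hk'⟩
        refine ⟨by rw [mul_assoc, hk, ← mul_assoc, hg, mul_assoc], fun y => ?_⟩
        rw [Perm.mul_apply]
        rcases hk' y with h1 | h1
        · rw [h1]; exact hg' y
        · rw [h1]
          rcases hg' (z y) with h2 | h2
          · exact Or.inr h2
          · exact Or.inl (by rw [h2, hzz])
      inv_mem' := by
        rintro g ⟨hg, hg'⟩
        have hg2 : Commute g z := hg
        refine ⟨hg2.inv_left.eq, fun y => ?_⟩
        rcases hg' (g⁻¹ y) with h1 | h1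
        · left
          rw [pai] at h1
          exact h1.symm
        · right
          rw [pai] at h1
          have h2 := congrArg z h1
          rw [hzz] at h2
          exact h2.symm }
  have hBmem : ∀ g, g ∈ B ↔ g * z = z * g ∧ ∀ y, g y = y ∨ g y = z y := fun g => Iff.rfl
  have hBC : B ≤ centralizer {z} := fun g hg => mem_centralizer_singleton_iff.mpr hg.1
  have hKB : ∀ k ∈ K, ∀ b ∈ B, k * b * k⁻¹ ∈ B := by
    rintro k hk b ⟨hb, hb'⟩
    have hkz : Commute k z := mem_centralizer_singleton_iff.mp (hKz hk)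
    have hbz : Commute b z := hb
    refine ⟨((hkz.mul_left hbz).mul_left hkz.inv_left).eq, fun y => ?_⟩
    rw [Perm.mul_apply, Perm.mul_apply]
    rcases hb' (k⁻¹ y) with h1 | h1
    · left; rw [h1, pai]
    · right; rw [h1, hcom k hk, pai]
  have hB2 : ∀ b ∈ B, b * b = 1 := by
    rintro b ⟨hb, hb'⟩
    ext y
    rw [Perm.mul_apply, Perm.one_apply]
    rcases hb' y with h1 | h1
    · rw [h1, h1]
    · have h2 : b (z y) = z (b y) := congrArg (fun g : Perm α => g y) hb
      rw [h1, h2, h1, hzz]
  have hE := lemmaE hKz hsn hBC hKB hB2 z huniq hno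
  have hs : swap x (z x) ∈ B := by
    refine ⟨?_, fun y => ?_⟩
    · have h1 := swap_mul_eq_mul_swap z x (z x)
      have h2 : swap x (z x) * z = z * swap (z⁻¹ x) (z⁻¹ (z x)) := swap_mul_eq_mul_swap z x (z x)
      have h3 : z⁻¹ x = z x := by rw [Perm.inv_eq_iff_eq, hzz]
      have h4 : z⁻¹ (z x) = x := pia z x
      rw [h2, h3, h4, swap_comm]
    · by_cases h1 : y = x
      · right; rw [h1, swap_apply_left]
      · by_cases h2 : y = z x
        · right; rw [h2, swap_apply_right, hzz]
        · left; exact swap_apply_of_ne_of_ne h1 h2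
  have horb : ∀ k ∈ K, k x = x ∨ k x = z x := by
    intro k hk
    have h1 : k (swap x (z x) x) = swap x (z x) (k x) := congrArg (fun g : Perm α => g x) (hE k hk _ hs)
    rw [swap_apply_left, hcom k hk] at h1
    by_contra h2
    push Not at h2
    rw [swap_apply_of_ne_of_ne h2.1 h2.2] at h1
    have h3 : k (z x) = k x := by rw [hcom k hk, h1]
    exact hx (k.injective h3)
  let Y : Subgroup (Perm α) := K ⊓ MulAction.stabilizer (Perm α) x
  have hY : Y.relIndex K = 2 := by
    rw [relIndex_eq_two_iff]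
    refine ⟨z, hzK, fun b hb => ?_⟩
    have h1 : b * z ∈ Y ↔ b (z x) = x := by
      simp only [Y, mem_inf, K.mul_mem hb hzK, true_and, MulAction.mem_stabilizer_iff, Perm.smul_def, Perm.mul_apply]
    have h2 : b ∈ Y ↔ b x = x := by
      simp only [Y, mem_inf, hb, true_and, MulAction.mem_stabilizer_iff, Perm.smul_def]
    rw [h1, h2, hcom b hb]
    rcases horb b hb with h3 | h3
    · rw [h3]
      exact Or.inr ⟨rfl, hx⟩
    · rw [h3, hzz]
      exact Or.inl ⟨rfl, hx⟩
  exact hno Y inf_le_left hY

/-- the same for a group embedded as a normal subgroup in a symmetric group -/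
theorem no_hom {G α : Type*} [Group G] [Finite α] (φ : G →* Perm α) (hφ : Function.Injective φ) (hn : φ.range.Normal)
    {z : G} (hz : orderOf z = 2) {K : Subgroup G}
    (hKz : K ≤ centralizer {z}) (hzK : z ∈ K) (hsn : (K.subgroupOf (centralizer {z})).IsSubnormal)
    (huniq : ∀ t ∈ K, orderOf t = 2 → t = z) (hno : ∀ Y ≤ K, Y.relIndex K ≠ 2) : False := by
  have hcz : ∀ x : G, φ x ∈ centralizer {φ z} ↔ x ∈ centralizer {z} := by
    intro x
    rw [mem_centralizer_singleton_iff, mem_centralizer_singleton_iff, ← map_mul, ← map_mul, hφ.eq_iff]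
  have hcommz : ∀ x : G, x ∈ centralizer {z} → φ x ∈ centralizer {φ z} := fun x => (hcz x).mpr
  refine no_perm (z := φ z) (K := K.map φ) (by rw [orderOf_injective φ hφ, hz]) ?_ ⟨z, hzK, rfl⟩ ?_ ?_ ?_
  · rintro _ ⟨k, hk, rfl⟩
    exact hcommz k (hKz hk)
  · let R : Subgroup ↥(centralizer {φ z}) := φ.range.subgroupOf (centralizer {φ z})
    haveI : R.Normal := hn.subgroupOf _
    have hle : (K.map φ).subgroupOf (centralizer {φ z}) ≤ R := by
      intro x hx
      exact map_le_range φ K hx
    refine IsSubnormal.trans hle ?_ (Normal.isSubnormal inferInstance)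
    let f : ↥(centralizer {z}) →* ↥R :=
      { toFun := fun x => ⟨⟨φ x, hcommz x x.2⟩, ⟨(x : G), rfl⟩⟩
        map_one' := Subtype.ext (Subtype.ext (map_one φ))
        map_mul' := fun x y => Subtype.ext (Subtype.ext (map_mul φ _ _)) }
    have hf : Function.Surjective f := by
      rintro ⟨⟨y, hy⟩, hyR⟩
      obtain ⟨x, hx⟩ := hyR
      have hx' : φ x = y := hx
      refine ⟨⟨x, (hcz x).mp (by rw [hx']; exact hy)⟩, ?_⟩
      exact Subtype.ext (Subtype.ext hx')
    have h1 := hsn.map hf
    convert h1 using 1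
    ext ⟨⟨y, hy⟩, hyR⟩
    simp only [mem_subgroupOf, mem_map]
    constructor
    · rintro ⟨k, hk, rfl⟩
      exact ⟨⟨k, hKz hk⟩, hk, rfl⟩
    · rintro ⟨k, hk, hky⟩
      exact ⟨k, hk, congrArg (fun t : ↥R => ((t : ↥(centralizer {φ z})) : Perm α)) hky⟩
  · rintro _ ⟨t, ht, rfl⟩ h2
    rw [orderOf_injective φ hφ] at h2
    rw [huniq t ht h2]
  · intro Y hY h2
    apply hno (Y.comap φ) (by
      intro x hx
      obtain ⟨k, hk, hkx⟩ := hY hx
      rw [← hφ hkx]
      exact hk)
    rw [← h2, ← relIndex_map_map_of_injective (Y.comap φ) K hφ, map_comap_eq_self (hY.trans (map_le_range φ K))]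

/-- **the alternating groups have no such `K`** -/
theorem no_alt {G α : Type*} [Group G] [Fintype α] [DecidableEq α] (e : G ≃* alternatingGroup α)
    {z : G} (hz : orderOf z = 2) {K : Subgroup G}
    (hKz : K ≤ centralizer {z}) (hzK : z ∈ K) (hsn : (K.subgroupOf (centralizer {z})).IsSubnormal)
    (huniq : ∀ t ∈ K, orderOf t = 2 → t = z) (hno : ∀ Y ≤ K, Y.relIndex K ≠ 2) : False := by
  have hr : ((alternatingGroup α).subtype.comp e.toMonoidHom).range = alternatingGroup α := by
    rw [MonoidHom.range_comp, MonoidHom.range_eq_top.mpr e.surjective, ← MonoidHom.range_eq_map, range_subtype]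
  refine no_hom ((alternatingGroup α).subtype.comp e.toMonoidHom)
    ((Subgroup.subtype_injective _).comp e.injective) ?_ hz hKz hzK hsn huniq hno
  rw [hr]
  infer_instance

end Perm

end Cfsg.Agent.Cit.Excl
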