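import Cfsg.Agent.Cit.OneFieldHom

/-!
# The field homomorphisms form a compatible family

`fam : OneField.Psi (zz '' Om) (M n)`; consequence: if `G` has no subgroup of index two, then a Sylow
2-subgroup of `N(K)` acts on the cyclic subgroup `⟨x⟩` of index two of `Q` through `±1`.
-/

set_option autoImplicit false
set_option linter.style.haveILetI false
set_option linter.unusedSectionVars false

namespace Cfsg.Agent.Cit.OneFieldPsi

open Subgroup Cfsg Cit OneBasic OneFieldHom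

variable {G : Type*} [Group G] [Finite G] {Om : Set (Subgroup G)}

/-! ### `psiK` as a homomorphism -/

section psiK

variable {K : Subgroup G} {n : ℕ}

theorem psiK_mul (hq : QK K n) (hn : n ≠ 0) {h g : G} (hh : h ∈ normalizer (K : Set G))
    (hg : g ∈ normalizer (K : Set G)) : psiK K n (h * g) = psiK K n h * psiK K n g := by
  obtain ⟨a, ha⟩ := exists_R hq hn hh
  obtain ⟨b, hb⟩ := exists_R hq hn hg
  rw [psiK_eq hq hn ha, psiK_eq hq hn hb, psiK_eq hq hn (R_mul hq hn hh hg ha hb), map_mul]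

theorem psiK_self (hq : QK K n) (hn : n ≠ 0) {h : G} (hh : h ∈ K) : psiK K n h = 1 := by
  rw [psiK_eq hq hn (R_self hh), map_one]

theorem psiK_pow (hq : QK K n) (hn : n ≠ 0) {h : G} (hh : h ∈ normalizer (K : Set G)) (m : ℕ) :
    psiK K n (h ^ m) = psiK K n h ^ m := by
  induction m with
  | zero => rw [pow_zero, pow_zero, psiK_self hq hn K.one_mem]
  | succ m ih => rw [pow_succ, pow_succ, psiK_mul hq hn (pow_mem hh m) hh, ih]

theorem psiK_conj (hq : QK K n) (hq' : ∀ g, QK (cj g K) n) (hn : n ≠ 0) {h : G}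
    (hh : h ∈ normalizer (K : Set G)) (g : G) : psiK (cj g K) n (g * h * g⁻¹) = psiK K n h := by
  obtain ⟨a, ha⟩ := exists_R hq hn hh
  rw [psiK_eq hq hn ha, psiK_eq (hq' g) hn (R_conj ha g)]

/-- conjugation by elements of `K` does not change the value -/
theorem psiK_conj_self (hq : QK K n) (hn : n ≠ 0) {h k : G} (hh : h ∈ normalizer (K : Set G)) (hk : k ∈ K) :
    psiK K n (k * h * k⁻¹) = psiK K n h := by
  have h1 : k ∈ normalizer (K : Set G) := le_normalizer hk
  rw [psiK_mul hq hn (mul_mem h1 hh) (inv_mem h1), psiK_mul hq hn h1 hh, psiK_self hq hn hk,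
    psiK_self hq hn (K.inv_mem hk), one_mul, mul_one]

end psiK

/-! ### The common order -/

/-- all members have Sylow 2-subgroups of order `2^(n+3)` -/
def Ord (Om : Set (Subgroup G)) (n : ℕ) : Prop := ∀ K ∈ Om, QK K n

theorem gq_n {Q Q' : Subgroup G} {c v z c' v' z' : G} {n m : ℕ} (h : GQ Q c v z n) (h' : GQ Q' c' v' z' m)
    (hc : Nat.card Q = Nat.card Q') : m = n := by
  rw [h.card, h'.card] at hc
  have := Nat.pow_right_injective (le_refl 2) hc
  omega

theorem exists_ord (h : One Om) : ∃ n, Ord Om n := by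
  by_cases hne : Om.Nonempty
  · obtain ⟨K0, hK0⟩ := hne
    obtain ⟨Q0, hQ0⟩ := Hyp.exists_syl K0
    obtain ⟨c0, v0, n, g0⟩ := h.hyp.exists_gq hK0 hQ0
    refine ⟨n, fun K hK Q hQ => ?_⟩
    obtain ⟨c, v, m, g⟩ := h.hyp.exists_gq hK hQ
    have hmn : m = n := by
      refine gq_n g0 g ?_
      obtain ⟨k, hk⟩ := h.exists_cj_eq hK0 hK
      have h2 := hQ0.cj k
      rw [hk] at h2
      obtain ⟨l, -, hl⟩ := h2.exists_conj hQ
      rw [← hl, card_cj, card_cj]
    subst hmn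
    exact ⟨c, v, zz K, g⟩
  · exact ⟨0, fun K hK => absurd ⟨K, hK⟩ hne⟩

theorem Ord.eq {n m : ℕ} (ho : Ord Om n) {K Q : Subgroup G} (hK : K ∈ Om) (hQ : Syl Q K) {c v z : G}
    (g : GQ Q c v z m) : m = n := by
  obtain ⟨c', v', z', g'⟩ := ho K hK Q hQ
  exact gq_n g' g rfl

/-! ### Pairs -/

section pair

variable {K L T Q Q' : Subgroup G} {x y x' y' : G} {n : ℕ}

/-- arithmetic: square roots of one modulo `2^(n+2)` -/
theorem arith_three {n : ℕ} {a : ℤ} (h : (2 : ℤ) ^ (n + 2) ∣ a ^ 2 - 1) :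
    (2 : ℤ) ^ (n + 1) ∣ a - 1 ∨ (2 : ℤ) ^ (n + 1) ∣ a + 1 := by
  have h2 : (2 : ℤ) ∣ a ^ 2 - 1 := (dvd_pow_self 2 (by omega)).trans h
  have hodd : Odd a := by
    rcases Int.even_or_odd a with hk | hk
    · exfalso
      have h3 : (2 : ℤ) ∣ a ^ 2 := (even_iff_two_dvd.1 hk).trans (dvd_pow_self a (by norm_num))
      omega
    · exact hk
  obtain ⟨b, rfl⟩ := hodd
  have h3 : (2 * b + 1) ^ 2 - 1 = 2 * (2 * (b * (b + 1))) := by ring
  rw [h3, pow_succ', mul_dvd_mul_iff_left (by norm_num), pow_succ', mul_dvd_mul_iff_left (by norm_num)] at h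
  rcases Int.even_or_odd b with hb | hb
  · left
    have h4 : IsCoprime ((2 : ℤ) ^ n) (b + 1) := by
      apply IsCoprime.pow_left
      obtain ⟨c, rfl⟩ := hb
      exact ⟨-c, 1, by ring⟩
    have h5 := h4.dvd_of_dvd_mul_right h
    have h6 : 2 * b + 1 - 1 = 2 * b := by ring
    rw [h6, pow_succ']
    exact mul_dvd_mul_left 2 h5
  · right
    have h4 : IsCoprime ((2 : ℤ) ^ n) b := by
      apply IsCoprime.pow_left
      obtain ⟨c, rfl⟩ := hb
      exact ⟨-c, 1, by ring⟩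
    have h5 := h4.dvd_of_dvd_mul_left h
    have h6 : 2 * b + 1 + 1 = 2 * (b + 1) := by ring
    rw [h6, pow_succ']
    exact mul_dvd_mul_left 2 h5

/-- type `SD`: `t` inverts `x` -/
theorem t_inv (p : OPair.Co Om K L T Q Q' x y x' y' n) (h : One Om)
    (hS : ∀ u ∈ Q, u * zz L = zz L * u → u = 1 ∨ u = zz K) : zz L * x * (zz L)⁻¹ = x⁻¹ := by
  rcases Nat.eq_zero_or_pos n with hn | hn
  · subst hn
    have h1 := p.t_w h hS
    have h2 := p.gq.w_sq
    rw [pow_zero, pow_one] at h1 h2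
    rw [h1, ← h2]
    have h3 := p.gq.z_mul
    rw [← h2] at h3
    rw [eq_inv_iff_mul_eq_one]
    calc x * (x * x) * x = x * x * (x * x) := by group
      _ = 1 := h3
  · obtain ⟨a, ha⟩ := p.exp (p.pair.zL_mem h)
    have htt := h.hyp.zz_mul p.pair.hL
    have haa : (2 : ℤ) ^ (n + 2) ∣ a ^ 2 - 1 := by
      rw [← p.gq.zpow_eq_one_iff, zpow_sub, zpow_one, mul_inv_eq_one]
      have h1 := OneBasic.conj_zpow_pow ha a
      rw [← ha] at h1
      rw [pow_two, ← h1]
      calc zz L * (zz L * x * (zz L)⁻¹) * (zz L)⁻¹ = (zz L * zz L) * x * (zz L * zz L)⁻¹ := by group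
        _ = x := by rw [htt]; group
    have hout : ∀ i : ℤ, (y * x ^ i) * zz L ≠ zz L * (y * x ^ i) := by
      intro i hi
      have h1 : (y * x ^ i) * (y * x ^ i) = zz K := by
        calc (y * x ^ i) * (y * x ^ i) = y * x ^ i * (x ^ (-i) * y) := by rw [p.gq.v_zpow]
          _ = y * y := by group
          _ = zz K := p.gq.v_sq
      rcases hS _ (Q.mul_mem p.gq.v_mem (Q.zpow_mem p.gq.c_mem i)) hi with h2 | h2
      · rw [h2, one_mul] at h1
        exact p.gq.z_ne h1.symm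
      · rw [h2, p.gq.z_mul] at h1
        exact p.gq.z_ne h1.symm
    rcases arith_three haa with h1 | h1
    · -- `t` centralises `x ^ 2`
      exfalso
      have h2 : zz L * x ^ (2 : ℤ) * (zz L)⁻¹ = x ^ (2 : ℤ) := by
        rw [OneBasic.conj_zpow_pow ha]
        have h3 : x ^ (a * 2 - 2) = 1 := by
          rw [p.gq.zpow_eq_one_iff]
          have : a * 2 - 2 = (a - 1) * 2 := by ring
          rw [this, pow_succ]
          exact mul_dvd_mul_right h1 2
        rwa [zpow_sub, mul_inv_eq_one] at h3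
      rw [mul_inv_eq_iff_eq_mul] at h2
      have h3 : x ^ (2 : ℤ) * x ^ (2 : ℤ) = 1 := by
        rcases hS _ (Q.zpow_mem p.gq.c_mem 2) h2.symm with h3 | h3
        · rw [h3, one_mul]
        · rw [h3, p.gq.z_mul]
      rw [← zpow_add, p.gq.zpow_eq_one_iff] at h3
      have h4 : (2 : ℤ) ^ 3 ∣ 2 + 2 := (pow_dvd_pow 2 (by omega)).trans h3
      norm_num at h4
    · obtain ⟨b, hb⟩ := h1
      rcases Int.even_or_odd b with ⟨b', hb'⟩ | hbo
      · have h2 : x ^ (a - (-1)) = 1 := by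
          rw [p.gq.zpow_eq_one_iff]
          refine ⟨b', ?_⟩
          rw [sub_neg_eq_add, hb, hb', pow_succ (2 : ℤ) (n + 1)]
          ring
        rw [zpow_sub, mul_inv_eq_one, zpow_neg_one] at h2
        rw [ha, h2]
      · exfalso
        obtain ⟨j, hj⟩ := p.conj_y (p.pair.zL_mem h)
        -- `j` is even
        have h2 : y = y * (x ^ j * x ^ (a * j)) := by
          calc y = (zz L * zz L) * y * (zz L * zz L)⁻¹ := by rw [htt]; group
            _ = zz L * (zz L * y * (zz L)⁻¹) * (zz L)⁻¹ := by group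
            _ = zz L * (y * x ^ j) * (zz L)⁻¹ := by rw [hj]
            _ = (zz L * y * (zz L)⁻¹) * (zz L * x ^ j * (zz L)⁻¹) := by group
            _ = (y * x ^ j) * x ^ (a * j) := by rw [hj, OneBasic.conj_zpow_pow ha]
            _ = _ := by rw [mul_assoc]
        have h3 : x ^ j * x ^ (a * j) = 1 := by
          have := h2.symm
          rwa [mul_eq_left] at this
        rw [← zpow_add, p.gq.zpow_eq_one_iff] at h3
        have h4 : j + a * j = 2 ^ (n + 1) * (b * j) := by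
          have : j + a * j = (a + 1) * j := by ring
          rw [this, hb]; ring
        rw [h4, pow_succ (2 : ℤ) (n + 1), mul_dvd_mul_iff_left (by positivity)] at h3
        obtain ⟨b', hb'⟩ := hbo
        have h5 : (2 : ℤ) ∣ j := by
          have h6 : j = b * j - 2 * (b' * j) := by rw [hb']; ring
          rw [h6]
          exact dvd_sub h3 (dvd_mul_right 2 _)
        obtain ⟨j', hj'⟩ := h5
        obtain ⟨m, hm⟩ : ∃ m, n = m + 1 := ⟨n - 1, by omega⟩
        -- the element `y x ^ i` commutes with `t`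
        apply hout (j' * (2 ^ n * b + 1))
        have h6 : zz L * (y * x ^ (j' * (2 ^ n * b + 1))) * (zz L)⁻¹ = y * x ^ (j' * (2 ^ n * b + 1)) := by
          calc zz L * (y * x ^ (j' * (2 ^ n * b + 1))) * (zz L)⁻¹
              = (zz L * y * (zz L)⁻¹) * (zz L * x ^ (j' * (2 ^ n * b + 1)) * (zz L)⁻¹) := by group
            _ = y * x ^ j * x ^ (a * (j' * (2 ^ n * b + 1))) := by rw [hj, OneBasic.conj_zpow_pow ha]
            _ = y * (x ^ j * x ^ (a * (j' * (2 ^ n * b + 1)))) := by rw [mul_assoc]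
            _ = y * x ^ (j' * (2 ^ n * b + 1)) := by
              congr 1
              rw [← zpow_add]
              have h7 : x ^ (j + a * (j' * (2 ^ n * b + 1)) - j' * (2 ^ n * b + 1)) = 1 := by
                rw [p.gq.zpow_eq_one_iff]
                have ha' : a = 2 ^ (n + 1) * b - 1 := by linarith
                refine ⟨j' * 2 ^ m * b ^ 2, ?_⟩
                rw [hj', ha', hm]
                ring
              rwa [zpow_sub, mul_inv_eq_one] at h7
        rw [mul_inv_eq_iff_eq_mul] at h6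
        exact h6.symm

/-- `C_Q(t)` acts on `x'` through `±1` -/
theorem conj_x' (p : OPair.Co Om K L T Q Q' x y x' y' n) (h : One Om) {r : G} (hr : r ∈ Q)
    (hrt : r * zz L = zz L * r) : r * x' * r⁻¹ = x' ∨ r * x' * r⁻¹ = x'⁻¹ := by
  rcases p.dich h with h1 | h1
  · left
    have hx' : x' ∈ T := p.pair.symm.mem_T h p.gq'.c_mem h1.1.symm
    rw [p.pair.commute_R h hr (p.pair.mem_T h hr hrt) p.gq'.c_mem hx', mul_inv_cancel_right]
  · rcases h1.1 r hr hrt with rfl | rfl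
    · left; group
    · right; exact t_inv p.symm h h1.2

/-- `y` normalises `T` -/
theorem conj_T (p : OPair Om K L T Q Q') (h : One Om) {q : G} (hq : q ∈ Q)
    (hqt : q * zz L * q⁻¹ = zz K * zz L) {u : G} (hu : u ∈ T) : q * u * q⁻¹ ∈ T := by
  have hQK : Q ≤ normalizer (K : Set G) := p.hQ.1.trans le_normalizer
  have h1 : IsPGroup 2 (T ⊔ Q : Subgroup G) := isPGroup_sup_of_normalizes p.tp p.hQ.2.1 p.hTQ
  have h2 : T = (T ⊔ Q) ⊓ centralizer {zz L} := by
    refine syl_eq_of_le p.hT (h1.to_le inf_le_left) ?_ ?_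
    · refine le_inf (inf_le_left.trans (sup_le p.tK hQK)) ?_
      rw [← h.centralizer_zz p.hL]
      exact inf_le_right
    · refine le_inf le_sup_left ?_
      rw [h.centralizer_zz p.hL]
      exact p.tL
  rw [h2]
  refine mem_inf.2 ⟨?_, mem_centralizer_singleton_iff.2 ?_⟩
  · exact mul_mem (mul_mem (mem_sup_right hq) (mem_sup_left hu)) (inv_mem (mem_sup_right hq))
  have hz := h.hyp.comm_zz p.hK (hQK hq)
  have h3 : q⁻¹ * zz L * q = zz K * zz L := by
    have h4 : zz L = q⁻¹ * (zz K * zz L) * q := by rw [← hqt]; group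
    have h5 : q⁻¹ * zz K = zz K * q⁻¹ := ((show Commute q (zz K) from hz).inv_left).eq
    calc q⁻¹ * zz L * q = zz K * zz K * (q⁻¹ * zz L * q) := by rw [h.hyp.zz_mul p.hK, one_mul]
      _ = zz K * (zz K * q⁻¹) * zz L * q := by group
      _ = zz K * (q⁻¹ * (zz K * zz L) * q) := by rw [← h5]; group
      _ = zz K * zz L := by rw [← h4]
  have h6 : u * (zz K * zz L) = zz K * zz L * u := by
    rw [← mul_assoc, p.tz h hu, mul_assoc, p.tt h hu, mul_assoc]
  calc q * u * q⁻¹ * zz L = q * (u * (q⁻¹ * zz L * q)) * q⁻¹ := by group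
    _ = q * ((q⁻¹ * zz L * q) * u) * q⁻¹ := by rw [h3, h6]
    _ = zz L * (q * u * q⁻¹) := by group

/-- the two homomorphisms of a pair agree on `T` -/
theorem agree_T (p : OPair Om K L T Q Q') (h : One Om) (ho : Ord Om n) (hn : n ≠ 0) {u : G} (hu : u ∈ T) :
    psiK K n u = psiK L n u := by
  obtain ⟨q, hq, hqt⟩ := p.exists_swap h
  obtain ⟨q', hq', hqz⟩ := p.symm.exists_swap h
  obtain ⟨x, y, x', y', m, c⟩ := p.exists_co h
  have hmn : m = n := ho.eq p.hK p.hQ c.gq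
  subst hmn
  have hzt : (q * q') * zz K * (q * q')⁻¹ = zz L := by
    have hqK : q * zz K = zz K * q := h.hyp.comm_zz p.hK (le_normalizer (p.hQ.1 hq))
    calc (q * q') * zz K * (q * q')⁻¹ = q * (q' * zz K * q'⁻¹) * q⁻¹ := by group
      _ = q * (zz L * zz K) * q⁻¹ := by rw [hqz]
      _ = q * (zz K * zz L) * q⁻¹ := by rw [p.comm]
      _ = (q * zz K) * zz L * q⁻¹ := by group
      _ = zz K * (q * zz L * q⁻¹) := by rw [hqK]; group
      _ = zz K * zz K * zz L := by rw [hqt]; group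
      _ = zz L := by rw [h.hyp.zz_mul p.hK, one_mul]
  have hKL : cj (q * q') K = L := h.cj_eq p.hK p.hL hzt
  have hu1 : q' * u * q'⁻¹ ∈ T := conj_T p.symm h hq' hqz hu
  obtain ⟨u1, hu1e⟩ : ∃ u1, u1 = q' * u * q'⁻¹ := ⟨_, rfl⟩
  rw [← hu1e] at hu1
  have hu2 : q * u1 * q⁻¹ ∈ T := conj_T p h hq hqt hu1
  have hqL := ho L p.hL
  -- the commutator
  have hwQ : q * u1 * q⁻¹ * u1⁻¹ ∈ Q := by
    have h1 : u1 * q⁻¹ * u1⁻¹ ∈ Q := conj_mem_of (p.hTQ hu1) (Q.inv_mem hq)
    have h2 := Q.mul_mem hq h1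
    rwa [show q * (u1 * q⁻¹ * u1⁻¹) = q * u1 * q⁻¹ * u1⁻¹ by group] at h2
  have hwT : q * u1 * q⁻¹ * u1⁻¹ ∈ T := T.mul_mem hu2 (T.inv_mem hu1)
  have hw1 : psiK L m (q * u1 * q⁻¹ * u1⁻¹) = 1 := by
    have hx'L : x' ∈ L := p.hQ'.1 c.gq'.c_mem
    have hx'1 : x' ^ 2 ^ (m + 2) = 1 := pow_eq_one c.gq'.ord
    rcases conj_x' c h hwQ (p.tt h hwT) with h1 | h1
    · have h2 : R L m (q * u1 * q⁻¹ * u1⁻¹) 1 :=
        R_of_one hqL hn (p.tL hwT) hx'L c.gq'.ord L.one_mem (by
          rw [h1, Units.val_one, cp_one hx'1]; group)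
      rw [psiK_eq hqL hn h2, map_one]
    · have h2 : R L m (q * u1 * q⁻¹ * u1⁻¹) (-1) :=
        R_of_one hqL hn (p.tL hwT) hx'L c.gq'.ord L.one_mem (by
          rw [h1, Units.val_neg, Units.val_one, cp_neg_one hx'1]; group)
      rw [psiK_eq hqL hn h2, q_eq_one]
      exact Or.inr rfl
  calc psiK K m u = psiK (cj (q * q') K) m ((q * q') * u * (q * q')⁻¹) :=
        (psiK_conj (ho K p.hK) (fun g => ho _ (h.hyp.conj K p.hK g)) hn (p.tK hu) _).symm
    _ = psiK L m ((q * u1 * q⁻¹ * u1⁻¹) * u1) := by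
        rw [hKL, hu1e]
        congr 1
        group
    _ = psiK L m u1 := by rw [psiK_mul hqL hn (p.tL hwT) (p.tL hu1), hw1, one_mul]
    _ = psiK L m u := by rw [hu1e, psiK_conj_self hqL hn (p.tL hu) (p.hQ'.1 hq')]

end pair

/-- **agreement** -/
theorem agree (h : One Om) {n : ℕ} (ho : Ord Om n) (hn : n ≠ 0) {K L : Subgroup G} (hK : K ∈ Om) (hL : L ∈ Om)
    (hc : zz K * zz L = zz L * zz K) {g : G} (hgK : g * zz K = zz K * g) (hgL : g * zz L = zz L * g) :
    psiK K n g = psiK L n g := by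
  by_cases hne : K = L
  · rw [hne]
  have hgK' := h.mem_normalizer hK hgK
  have hgL' := h.mem_normalizer hL hgL
  obtain ⟨m, hm, hm2⟩ := exists_odd_pow g
  obtain ⟨T, Q, Q', hT, p⟩ := h.exists_pair hK hL hne hc hm2 (zpowers_le.2 (pow_mem hgK' m))
    (zpowers_le.2 (pow_mem hgL' m))
  have h1 := agree_T p h ho hn (hT (mem_zpowers (g ^ m)))
  rw [psiK_pow (ho K hK) hn hgK', psiK_pow (ho L hL) hn hgL'] at h1
  obtain ⟨s, hs⟩ := card_M n
  rw [← mul_inv_eq_one]
  apply eq_one_of_pow hs hm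
  rw [mul_pow, inv_pow, h1, mul_inv_cancel]

open Classical in
/-- the family -/
noncomputable def fam (Om : Set (Subgroup G)) (n : ℕ) (z g : G) : M n :=
  if hz : ∃ K ∈ Om, zz K = z then psiK hz.choose n g else 1

theorem fam_zz (h : One Om) (n : ℕ) {K : Subgroup G} (hK : K ∈ Om) (g : G) :
    fam Om n (zz K) g = psiK K n g := by
  have hz : ∃ L ∈ Om, zz L = zz K := ⟨K, hK, rfl⟩
  unfold fam
  rw [dif_pos hz]
  rw [h.eq_of_zz_eq hz.choose_spec.1 hK hz.choose_spec.2]

/-- **the compatible family of field homomorphisms** -/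
noncomputable def famPsi (h : One Om) {n : ℕ} (ho : Ord Om n) (hn : n ≠ 0) :
    OneField.Psi {z | ∃ K ∈ Om, zz K = z} (M n) where
  psi := fam Om n
  mul := by
    rintro _ ⟨K, hK, rfl⟩ g k hg hk
    rw [fam_zz h n hK, fam_zz h n hK, fam_zz h n hK]
    exact psiK_mul (ho K hK) hn (h.mem_normalizer hK hg) (h.mem_normalizer hK hk)
  conj := by
    rintro _ ⟨K, hK, rfl⟩ g k hk
    rw [← h.hyp.zz_cj hK g, fam_zz h n hK, fam_zz h n (h.hyp.conj K hK g)]
    exact psiK_conj (ho K hK) (fun g => ho _ (h.hyp.conj K hK g)) hn (h.mem_normalizer hK hk) g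
  agree := by
    rintro _ ⟨K, hK, rfl⟩ _ ⟨L, hL, rfl⟩ hc g hgK hgL
    rw [fam_zz h n hK, fam_zz h n hL]
    exact agree h ho hn hK hL hc hgK hgL

/-- no subgroup of index two implies no normal subgroup of index `2^k`, `k > 0` -/
theorem index_eq_one (hidx : ∀ H : Subgroup G, H.index ≠ 2) (N : Subgroup G) (hN : N.Normal) (k : ℕ)
    (hk : N.index = 2 ^ k) : k = 0 := by
  by_contra hk0
  obtain ⟨j, rfl⟩ := Nat.exists_eq_succ_of_ne_zero hk0
  haveI : Fact (Nat.Prime 2) := ⟨Nat.prime_two⟩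
  have h1 : Nat.card (G ⧸ N) = 2 ^ (j + 1) := by rw [← hk]; rfl
  obtain ⟨B, hB⟩ := Sylow.exists_subgroup_card_pow_prime (G := G ⧸ N) 2 (n := j)
    (by rw [h1]; exact pow_dvd_pow 2 (by omega))
  have h2 : B.index = 2 := by
    have h3 := B.card_mul_index
    rw [hB, h1, pow_succ] at h3
    exact Nat.eq_of_mul_eq_mul_left (by positivity) h3
  apply hidx (B.comap (QuotientGroup.mk' N))
  rw [B.index_comap_of_surjective (QuotientGroup.mk'_surjective N), h2]

/-- **field conclusion**: if `G` has no subgroup of index two, a Sylow 2-subgroup of `N(K)` acts on `x`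
through `±1` -/
theorem field (h : One Om) (hidx : ∀ H : Subgroup G, H.index ≠ 2) {K S Q : Subgroup G} (hK : K ∈ Om)
    (hS : Syl S (normalizer (K : Set G))) (hQ : Syl Q K) (hQS : Q ≤ S) {x y : G} {n : ℕ}
    (g : GQ Q x y (zz K) n) {s : G} (hs : s ∈ S) {a : ℤ} (ha : s * x * s⁻¹ = x ^ a) :
    x ^ a = x ∨ x ^ a = x⁻¹ := by
  have hord : orderOf (s * x * s⁻¹) = 2 ^ (n + 2) := by
    have := (MulAut.conj s).orderOf_eq x
    rw [MulAut.conj_apply] at this
    rw [this, g.ord]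
  have hx1 : x ^ 2 ^ (n + 2) = 1 := pow_eq_one g.ord
  obtain ⟨u, hu⟩ := exists_unit g.ord hord (by rw [ha]; exact zpow_mem (mem_zpowers x) a)
  -- it is enough that `u = ± 1`
  have key : (u = 1 ∨ u = -1) → x ^ a = x ∨ x ^ a = x⁻¹ := by
    rintro (h1 | h1)
    · left; rw [← ha, hu, h1, Units.val_one, cp_one hx1]
    · right; rw [← ha, hu, h1, Units.val_neg, Units.val_one, cp_neg_one hx1]
  apply key
  rcases Nat.eq_zero_or_pos n with hn | hn
  · subst hn
    have h1 := card_units 0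
    rw [← q_eq_one]
    have h2 : (u : (ZMod (2 ^ (0 + 2)))ˣ) = 1 ∨ u = -1 := by
      have : ∀ w : (ZMod 4)ˣ, w = 1 ∨ w = -1 := by decide
      exact this u
    rwa [q_eq_one]
  · have hn0 : n ≠ 0 := by omega
    obtain ⟨m, ho⟩ := exists_ord h
    have hmn := ho.eq hK hQ g
    subst hmn
    -- `S` is a Sylow 2-subgroup of `G`
    have hStop : Syl S ⊤ := by
      obtain ⟨S1, hS1, hSS⟩ := exists_syl_ge hS.2.1 (le_top : S ≤ ⊤)
      have h1 : S1 ≤ normalizer (K : Set G) :=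
        h.le_normalizer_self hS1.2.1 (mem_OmS_of_le hK hQ (hQS.trans hSS))
      rw [syl_eq_of_le hS hS1.2.1 h1 hSS]
      exact hS1
    have hSz : S ≤ centralizer {zz K} := by
      rw [h.centralizer_zz hK]; exact hS.1
    have h2 := (famPsi h ho hn0).eq_one
      (by
        rintro _ ⟨L, hL, rfl⟩ k
        exact ⟨cj k L, h.hyp.conj L hL k, h.hyp.zz_cj hL k⟩)
      (by
        rintro _ ⟨L, hL, rfl⟩
        exact IsPGroup.of_card (n := 1) (by rw [Nat.card_zpowers, h.hyp.orderOf_zz hL, pow_one]))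
      hStop ⟨K, hK, rfl⟩ hSz (index_eq_one hidx) hs
    change fam Om n (zz K) s = 1 at h2
    rw [fam_zz h n hK] at h2
    have h3 : R K n s u := R_of_one (ho K hK) hn0 (hS.1 hs) (hQ.1 g.c_mem) g.ord K.one_mem (by
      rw [hu]; group)
    rw [psiK_eq (ho K hK) hn0 h3, q_eq_one] at h2
    exact h2

/-- the same in the form used by the end game -/
theorem hfield (h : One Om) (hidx : ∀ H : Subgroup G, H.index ≠ 2) :
    ∀ K ∈ Om, ∀ S Q : Subgroup G, Syl S (normalizer (K : Set G)) → Syl Q K → Q ≤ S →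
      ∀ (x y : G) (n : ℕ), GQ Q x y (zz K) n → ∀ s ∈ S, ∀ a : ℤ, s * x * s⁻¹ = x ^ a →
        x ^ a = x ∨ x ^ a = x⁻¹ :=
  fun _ hK _ _ hS hQ hQS _ _ _ g _ hs _ ha => field h hidx hK hS hQ hQS g hs ha

/-- an element acting on `x` through `±1` acts on `Q` modulo inner automorphisms as `1` or as
`x ↦ x`, `y ↦ y x` -/
theorem act_dich {Q : Subgroup G} {x y z : G} {n : ℕ} (g : GQ Q x y z n) {s : G}
    (hsQ : s ∈ normalizer (Q : Set G)) (hsx : s * x * s⁻¹ = x ∨ s * x * s⁻¹ = x⁻¹) :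
    ∃ q ∈ Q, (∀ u ∈ Q, (q⁻¹ * s) * u = u * (q⁻¹ * s)) ∨
      ((q⁻¹ * s) * x = x * (q⁻¹ * s) ∧ (q⁻¹ * s) * y * (q⁻¹ * s)⁻¹ = y * x) := by
  -- first correct the action on `x`
  obtain ⟨q₁, hq₁, h1⟩ : ∃ q₁ ∈ Q, (q₁⁻¹ * s) * x * (q₁⁻¹ * s)⁻¹ = x := by
    rcases hsx with h1 | h1
    · exact ⟨1, Q.one_mem, by rw [inv_one, one_mul, h1]⟩
    · refine ⟨y, g.v_mem, ?_⟩
      calc y⁻¹ * s * x * (y⁻¹ * s)⁻¹ = y⁻¹ * (s * x * s⁻¹) * y := by group
        _ = y⁻¹ * x⁻¹ * y := by rw [h1]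
        _ = y⁻¹ * (y * x * y⁻¹) * y := by rw [g.conj]
        _ = x := by group
  obtain ⟨t, ht⟩ : ∃ t, t = q₁⁻¹ * s := ⟨_, rfl⟩
  rw [← ht] at h1
  have htQ : t ∈ normalizer (Q : Set G) := by
    rw [ht]
    exact mul_mem (inv_mem (le_normalizer hq₁)) hsQ
  have htx : t * x = x * t := by rw [mul_inv_eq_iff_eq_mul] at h1; exact h1
  obtain ⟨j, hj⟩ := g.exists_act htQ (by
    have : t⁻¹ * x * t = x := by
      rw [mul_assoc, ← htx]; group
    rw [this]
    exact mem_zpowers x)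
  -- conjugation by `x ^ i` changes `j` by `2 i`
  have hcor : ∀ i : ℤ, (x ^ i * t) * y * (x ^ i * t)⁻¹ = y * x ^ (j - 2 * i) := by
    intro i
    calc (x ^ i * t) * y * (x ^ i * t)⁻¹ = x ^ i * (t * y * t⁻¹) * (x ^ i)⁻¹ := by group
      _ = x ^ i * (y * x ^ j) * (x ^ i)⁻¹ := by rw [hj]
      _ = (x ^ i * y) * x ^ (j - i) := by group
      _ = y * x ^ (-i) * x ^ (j - i) := by rw [g.zpow_v]
      _ = y * x ^ (j - 2 * i) := by rw [mul_assoc, ← zpow_add]; congr 2; ring
  have hcx : ∀ i : ℤ, (x ^ i * t) * x = x * (x ^ i * t) := by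
    intro i
    calc (x ^ i * t) * x = x ^ i * (t * x) := by group
      _ = x ^ i * (x * t) := by rw [htx]
      _ = x * (x ^ i * t) := by group
  rcases Int.even_or_odd j with ⟨i, hi⟩ | ⟨i, hi⟩
  · refine ⟨q₁ * x ^ (-i), Q.mul_mem hq₁ (Q.zpow_mem g.c_mem _), Or.inl ?_⟩
    have he : (q₁ * x ^ (-i))⁻¹ * s = x ^ i * t := by rw [ht]; group
    rw [he]
    have hy : (x ^ i * t) * y = y * (x ^ i * t) := by
      have := hcor i
      rw [hi, show i + i - 2 * i = 0 by ring, zpow_zero, mul_one, mul_inv_eq_iff_eq_mul] at this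
      exact this
    intro u hu
    have h1 : Q ≤ centralizer {x ^ i * t} := by
      apply g.le_of_mem (q := y)
      · exact mem_centralizer_singleton_iff.2 (hcx i).symm
      · exact g.v_mem
      · exact g.v_not_mem
      · exact mem_centralizer_singleton_iff.2 hy.symm
    exact (mem_centralizer_singleton_iff.1 (h1 hu)).symm
  · refine ⟨q₁ * x ^ (-i), Q.mul_mem hq₁ (Q.zpow_mem g.c_mem _), Or.inr ?_⟩
    have he : (q₁ * x ^ (-i))⁻¹ * s = x ^ i * t := by rw [ht]; group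
    rw [he]
    refine ⟨hcx i, ?_⟩
    rw [hcor i, hi, show 2 * i + 1 - 2 * i = 1 by ring, zpow_one]

end Cfsg.Agent.Cit.OneFieldPsi
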