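import Cfsg.Agent.Cit.TwoBasic
import Cfsg.Agent.Cit.OnePair
import Cfsg.Agent.Cit.CorTwo

/-!
# `|Om(S)| = 2`, equal involutions, branch (B): THEOREM B0 (R18, D6)

`TwoE Om` : `Hyp Om`, `|Om(S)| = 2`, the two members of `Om(S)` have the same involution.
* `NPair` : members `K`, `L`, different commuting involutions which normalise `K` and `L`;
  `NPair.act` : if `zz L` centralises `x ∈ Q`, `x * x = zz K`, then `zz L * x` centralises `Q`.
* `Perp b K` : `b` centralises a Sylow 2-subgroup of `K`.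
* `main` : if no `x y` (`x ∈ K`, `y ∈ K'` of order `4`) is the involution of a member and some such `t = x y` is
  perpendicular to a member, there is an elementary abelian subgroup `⟨z, s, v⟩` of order 8 with `z, s, z s`
  involutions of members and `v` perpendicular to the six members with these involutions.
-/

set_option autoImplicit false
set_option linter.style.haveILetI false
set_option linter.unusedSectionVars false

namespace Cfsg.Agent.Cit

open Subgroup Cfsg OneBasic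

variable {G : Type*} [Group G]

/-- `|Om(S)| = 2`, the members of `Om(S)` have the same involution -/
structure TwoE (Om : Set (Subgroup G)) : Prop where
  hyp : Hyp Om
  two : ∀ S : Sylow 2 G, (OmS Om (S : Subgroup G)).ncard = 2
  eqz : ∀ S : Sylow 2 G, ∀ K ∈ OmS Om (S : Subgroup G), ∀ L ∈ OmS Om (S : Subgroup G), zz K = zz L

/-- `b` centralises a Sylow 2-subgroup of `K` -/
def TwoE.Perp (b : G) (K : Subgroup G) : Prop := ∃ Q, Syl Q K ∧ ∀ q ∈ Q, b * q = q * b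

theorem TwoE.Perp.cj {b : G} {K : Subgroup G} (h : TwoE.Perp b K) (g : G) : TwoE.Perp (g * b * g⁻¹) (Cit.cj g K) := by
  obtain ⟨Q, hQ, hb⟩ := h
  refine ⟨Cit.cj g Q, hQ.cj g, ?_⟩
  rintro _ ⟨q, hq, rfl⟩
  simp only [MulEquiv.coe_toMonoidHom, MulAut.conj_apply]
  calc g * b * g⁻¹ * (g * q * g⁻¹) = g * (b * q) * g⁻¹ := by group
    _ = g * (q * b) * g⁻¹ := by rw [hb q hq]
    _ = _ := by group

namespace TwoE

variable [Finite G] {Om : Set (Subgroup G)}

theorem zz_eq (h : TwoE Om) {R : Subgroup G} (hR : IsPGroup 2 R) {K L : Subgroup G} (hK : K ∈ OmS Om R)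
    (hL : L ∈ OmS Om R) : zz K = zz L := by
  haveI : Fact (Nat.Prime 2) := ⟨Nat.prime_two⟩
  obtain ⟨S, hS⟩ := hR.exists_le_sylow
  exact h.eqz S K (OmS_mono hS hK) L (OmS_mono hS hL)

/-- a 2-group `R` centralises the involution of the members of `Om(R)` -/
theorem comm_of_mem (h : TwoE Om) {R : Subgroup G} (hR : IsPGroup 2 R) {K : Subgroup G} (hK : K ∈ OmS Om R)
    {g : G} (hg : g ∈ R) : g * zz K = zz K * g := by
  have h1 := h.zz_eq hR (cj_mem_OmS' h.hyp.conj (le_normalizer hg) hK) hK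
  rw [h.hyp.zz_cj hK.1, mul_inv_eq_iff_eq_mul] at h1
  exact h1

theorem pair (h : TwoE Om) {R : Subgroup G} (hR : IsPGroup 2 R) {K L M : Subgroup G} (hK : K ∈ OmS Om R)
    (hL : L ∈ OmS Om R) (hM : M ∈ OmS Om R) (hne : K ≠ L) : M = K ∨ M = L := by
  haveI : Fact (Nat.Prime 2) := ⟨Nat.prime_two⟩
  obtain ⟨S, hS⟩ := hR.exists_le_sylow
  by_contra hc
  rw [not_or] at hc
  have h1 : ({K, L, M} : Set (Subgroup G)) ⊆ OmS Om (S : Subgroup G) := by
    rintro X (rfl | rfl | rfl)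
    · exact OmS_mono hS hK
    · exact OmS_mono hS hL
    · exact OmS_mono hS hM
  have h2 := Set.ncard_le_ncard h1 (Set.toFinite _)
  have h3 : ({K, L, M} : Set (Subgroup G)).ncard = 3 :=
    Set.ncard_eq_three.2 ⟨K, L, M, hne, fun h => hc.1 h.symm, fun h => hc.2 h.symm, rfl⟩
  rw [h.two S, h3] at h2
  omega

/-- at most two members have the same involution -/
theorem eq_or (h : TwoE Om) {K L M : Subgroup G} (hK : K ∈ Om) (hL : L ∈ Om) (hM : M ∈ Om) (hne : K ≠ L)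
    (hz : zz L = zz K) (hz' : zz M = zz K) : M = K ∨ M = L := by
  obtain ⟨S, hS, -⟩ := h.hyp.exists_sylow hK
  exact h.pair S.isPGroup' hS (h.hyp.mem_OmS_of_zz_eq S hS hL hz) (h.hyp.mem_OmS_of_zz_eq S hS hM hz') hne

/-- members with the same involution are in the same `Om(R)` -/
theorem mem_OmS_of_zz (h : TwoE Om) {R : Subgroup G} (hR : IsPGroup 2 R) {K L : Subgroup G} (hK : K ∈ OmS Om R)
    (hL : L ∈ Om) (hz : zz L = zz K) : ∃ S : Sylow 2 G, R ≤ S ∧ K ∈ OmS Om (S : Subgroup G) ∧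
      L ∈ OmS Om (S : Subgroup G) := by
  haveI : Fact (Nat.Prime 2) := ⟨Nat.prime_two⟩
  obtain ⟨S, hS⟩ := hR.exists_le_sylow
  exact ⟨S, hS, OmS_mono hS hK, h.hyp.mem_OmS_of_zz_eq S (OmS_mono hS hK) hL hz⟩

/-- (B3) -/
theorem zz_eq_of_cent (h : TwoE Om) {K M Q : Subgroup G} (hK : K ∈ Om) (hM : M ∈ Om) (hQ : Syl Q K)
    (hc : ∀ q ∈ Q, zz M * q = q * zz M) : zz M = zz K := by
  obtain ⟨T, hT, hQT⟩ := OneBasic.exists_syl_ge hQ.2.1
    (fun q hq => mem_centralizer_singleton_iff.2 (hc q hq).symm : Q ≤ centralizer {zz M})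
  exact h.zz_eq hT.2.1 (h.hyp.mem_OmS_of_syl hM hT) (mem_OmS_of_le hK hQ hQT)

/-- a 2-element of `C(zz K)` fixing a member with this involution fixes both; general form: an element commuting
with `zz K` permutes the two members with involution `zz K` -/
theorem cj_or (h : TwoE Om) {K L : Subgroup G} (hK : K ∈ Om) (hL : L ∈ Om) (hne : K ≠ L) (hz : zz L = zz K)
    {g : G} (hg : g * zz K = zz K * g) : (cj g K = K ∧ cj g L = L) ∨ (cj g K = L ∧ cj g L = K) := by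
  have e1 : zz (cj g K) = zz K := by rw [h.hyp.zz_cj hK, mul_inv_eq_iff_eq_mul, hg]
  have e2 : zz (cj g L) = zz K := by rw [h.hyp.zz_cj hL, hz, mul_inv_eq_iff_eq_mul, hg]
  have h1 := h.eq_or hK hL (h.hyp.conj K hK g) hne hz e1
  have h2 := h.eq_or hK hL (h.hyp.conj L hL g) hne hz e2
  have h3 : cj g K ≠ cj g L := fun h4 => hne (cj_inj.1 h4)
  rcases h1 with h1 | h1 <;> rcases h2 with h2 | h2
  · exact absurd (h1.trans h2.symm) h3
  · exact Or.inl ⟨h1, h2⟩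
  · exact Or.inr ⟨h1, h2⟩
  · exact absurd (h1.trans h2.symm) h3

end TwoE

/-! ### N-pairs -/

/-- members `K`, `L` with different involutions which normalise `K` and `L`, and adapted Sylow subgroups -/
structure NPair (Om : Set (Subgroup G)) (K L T Q Q' : Subgroup G) : Prop where
  hK : K ∈ Om
  hL : L ∈ Om
  ne : zz K ≠ zz L
  hKL : zz L ∈ normalizer (K : Set G)
  hLK : zz K ∈ normalizer (L : Set G)
  hQ : Syl Q K
  hQ' : Syl Q' L
  hT : Syl T (normalizer (K : Set G) ⊓ normalizer (L : Set G))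
  hTQ : T ≤ normalizer (Q : Set G)
  hTQ' : T ≤ normalizer (Q' : Set G)

theorem NPair.symm {Om : Set (Subgroup G)} {K L T Q Q' : Subgroup G} (p : NPair Om K L T Q Q') :
    NPair Om L K T Q' Q :=
  ⟨p.hL, p.hK, p.ne.symm, p.hLK, p.hKL, p.hQ', p.hQ, by rw [inf_comm]; exact p.hT, p.hTQ', p.hTQ⟩

theorem exists_nPair [Finite G] {Om : Set (Subgroup G)} {K L A : Subgroup G} (hK : K ∈ Om) (hL : L ∈ Om)
    (hne : zz K ≠ zz L) (hKL : zz L ∈ normalizer (K : Set G)) (hLK : zz K ∈ normalizer (L : Set G))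
    (hA : IsPGroup 2 A) (hAK : A ≤ normalizer (K : Set G)) (hAL : A ≤ normalizer (L : Set G)) :
    ∃ T Q Q', A ≤ T ∧ NPair Om K L T Q Q' := by
  obtain ⟨T, hT, hAT⟩ := OneBasic.exists_syl_ge hA (le_inf hAK hAL)
  obtain ⟨Q, hQ, hTQ⟩ := exists_syl_normalized hT.2.1 (hT.1.trans inf_le_left)
  obtain ⟨Q', hQ', hTQ'⟩ := exists_syl_normalized hT.2.1 (hT.1.trans inf_le_right)
  exact ⟨T, Q, Q', hAT, hK, hL, hne, hKL, hLK, hQ, hQ', hT, hTQ, hTQ'⟩

namespace NPair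

variable [Finite G] {Om : Set (Subgroup G)} {K L T Q Q' : Subgroup G}

theorem tz (p : NPair Om K L T Q Q') (h : TwoE Om) {a : G} (ha : a ∈ T) : a * zz K = zz K * a :=
  h.hyp.comm_zz p.hK (p.hT.1.trans inf_le_left ha)

theorem tt (p : NPair Om K L T Q Q') (h : TwoE Om) {a : G} (ha : a ∈ T) : a * zz L = zz L * a :=
  h.hyp.comm_zz p.hL (p.hT.1.trans inf_le_right ha)

/-- `C_Q(t) ≤ T` -/
theorem mem_T (p : NPair Om K L T Q Q') (h : TwoE Om) {u : G} (hu : u ∈ Q) (hut : u * zz L = zz L * u) :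
    u ∈ T := by
  have h1 : Q ⊓ centralizer {zz L} ≤ T := by
    refine syl_le_of_normalizes p.hT (p.hQ.2.1.to_le inf_le_left) ?_ ?_
    · refine le_inf (inf_le_left.trans (p.hQ.1.trans le_normalizer)) ?_
      rintro w ⟨hw, hw'⟩
      have hwt := mem_centralizer_singleton_iff.1 hw'
      by_cases h4 : 4 ≤ orderOf w
      · exact h.hyp.norm_four p.hQ.2.1 p.hK p.hL (p.hQ.1 hw) hw h4 hwt
      · -- order at most 2
        have hp : IsPGroup 2 (zpowers w) := isPGroup_zpowers p.hQ.2.1 hw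
        obtain ⟨k, hk⟩ := (IsPGroup.iff_card.1 hp)
        rw [Nat.card_zpowers] at hk
        have hk1 : k ≤ 1 := by
          by_contra hk2
          apply h4
          rw [hk]
          calc 4 = 2 ^ 2 := by norm_num
            _ ≤ 2 ^ k := Nat.pow_le_pow_right (by norm_num) (by omega)
        have hw2 : w * w = 1 := by
          rw [← pow_two]
          apply orderOf_dvd_iff_pow_eq_one.1
          rw [hk]
          interval_cases k <;> decide
        by_cases hw1 : w = 1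
        · rw [hw1]; exact one_mem _
        · rw [h.hyp.eq_zz p.hK (p.hQ.1 hw) hw2 hw1]
          exact p.hLK
    · intro a ha
      rw [mem_normalizer_iff_cj, cj_inf, mem_normalizer_iff_cj.1 (p.hTQ ha), cj_centralizer]
      congr 2
      rw [p.tt h ha, mul_inv_cancel_right]
  exact h1 ⟨hu, mem_centralizer_singleton_iff.2 hut⟩

theorem zK_mem_Q (p : NPair Om K L T Q Q') (h : TwoE Om) : zz K ∈ Q := by
  obtain ⟨c, v, n, hc⟩ := h.hyp.exists_gq p.hK p.hQ
  exact hc.z_mem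

theorem comm (p : NPair Om K L T Q Q') (h : TwoE Om) : zz K * zz L = zz L * zz K := h.hyp.comm_zz p.hL p.hLK

theorem zK_mem (p : NPair Om K L T Q Q') (h : TwoE Om) : zz K ∈ T := p.mem_T h (p.zK_mem_Q h) (p.comm h)

theorem zL_mem (p : NPair Om K L T Q Q') (h : TwoE Om) : zz L ∈ T := p.symm.zK_mem h

/-- `Q ∩ Q' = 1` -/
theorem disj (p : NPair Om K L T Q Q') (h : TwoE Om) {u : G} (hu : u ∈ Q) (hu' : u ∈ Q') : u = 1 := by
  by_contra hu1
  have hIQ : AutQuat.IsQ Q := h.hyp.isGQ p.hK p.hQ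
  have h1 : zz K ∈ zpowers u :=
    hIQ.mem_zpowers (fun t ht => h.hyp.uniq K p.hK t (p.hQ.1 ht)) hu hu1
  have h2 : zz K ∈ Q' := (zpowers_le.2 hu') h1
  exact p.ne (h.hyp.uniq L p.hL _ (p.hQ'.1 h2) (h.hyp.orderOf_zz p.hK))

/-- `[C_Q(t), C_Q'(z)] = 1` -/
theorem commute_R (p : NPair Om K L T Q Q') (h : TwoE Om) {u u' : G} (hu : u ∈ Q) (huT : u ∈ T) (hu' : u' ∈ Q')
    (huT' : u' ∈ T) : u * u' = u' * u := by
  have h1 : u * u' * u⁻¹ * u'⁻¹ ∈ Q' :=
    Q'.mul_mem ((mem_normalizer_iff.1 (p.hTQ' huT) u').1 hu') (Q'.inv_mem hu')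
  have h2 : u * u' * u⁻¹ * u'⁻¹ ∈ Q := by
    have h3 := Q.mul_mem hu ((mem_normalizer_iff.1 (p.hTQ huT') u⁻¹).1 (Q.inv_mem hu))
    simpa [mul_assoc] using h3
  have h3 := p.disj h h2 h1
  rw [mul_inv_eq_one, mul_inv_eq_iff_eq_mul] at h3
  exact h3

/-- `t` does not centralise `Q` -/
theorem not_cent (p : NPair Om K L T Q Q') (h : TwoE Om) : ¬ ∀ x ∈ Q, zz L * x = x * zz L :=
  fun hh => p.ne (h.zz_eq_of_cent p.hK p.hL p.hQ hh).symm

/-- if `C_Q(t)` contains an element of order `4` then `z` centralises the `T`-invariant cyclic maximal subgroup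
`⟨x'⟩` of `Q'` -/
theorem key (p : NPair Om K L T Q Q') (h : TwoE Om) {x' y' : G} {n : ℕ} (gq' : GQ Q' x' y' (zz L) n)
    (inv' : ∀ w ∈ T, w * x' * w⁻¹ ∈ zpowers x') {u : G} (hu : u ∈ Q)
    (hut : u * zz L = zz L * u) (hu2 : u * u = zz K) : zz K * x' = x' * zz K := by
  have huT : u ∈ T := p.mem_T h hu hut
  obtain ⟨k, hk⟩ : ∃ k : ℤ, u * x' * u⁻¹ = x' ^ k := by
    obtain ⟨k, hk⟩ := inv' u huT
    exact ⟨k, hk.symm⟩
  have h1 : ∀ i : ℤ, zz K * x' ^ i * (zz K)⁻¹ = x' ^ (k ^ 2 * i) := by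
    intro i
    have h2 : zz K * x' ^ i * (zz K)⁻¹ = u * (u * x' ^ i * u⁻¹) * u⁻¹ := by rw [← hu2]; group
    rw [h2, conj_zpow_pow hk, conj_zpow_pow hk]
    congr 1
    ring
  have h4 : (2 : ℤ) ^ (n + 2) ∣ k ^ 4 - 1 := by
    rw [← gq'.zpow_eq_one_iff, zpow_sub, zpow_one, mul_inv_eq_one]
    have h3 : zz K * (zz K * x' ^ (1 : ℤ) * (zz K)⁻¹) * (zz K)⁻¹ = x' := by
      have h5 : zz K * (zz K * x' ^ (1 : ℤ) * (zz K)⁻¹) * (zz K)⁻¹
          = (zz K * zz K) * x' * (zz K * zz K)⁻¹ := by group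
      rw [h5, h.hyp.zz_mul p.hK]; group
    rw [h1, h1] at h3
    conv_rhs => rw [← h3]
    congr 1
    ring
  have h5 := arith_one n k h4
  -- `z` centralises `x'^2`
  have h6 : zz K * x' ^ (2 : ℤ) * (zz K)⁻¹ = x' ^ (2 : ℤ) := by
    rw [h1]
    have h7 : (2 : ℤ) ^ (n + 2) ∣ k ^ 2 * 2 - 2 := by
      have : k ^ 2 * 2 - 2 = (k ^ 2 - 1) * 2 := by ring
      rw [this, pow_succ]
      exact mul_dvd_mul h5 dvd_rfl
    rw [← gq'.zpow_eq_one_iff, zpow_sub, mul_inv_eq_one] at h7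
    exact h7
  have h7 : x' ^ (2 : ℤ) ∈ T := by
    apply p.symm.mem_T h (Q'.zpow_mem gq'.c_mem 2)
    rw [mul_inv_eq_iff_eq_mul] at h6
    exact h6.symm
  have h8 := p.commute_R h hu huT (Q'.zpow_mem gq'.c_mem 2) h7
  have h9 : u * x' ^ (2 : ℤ) * u⁻¹ = x' ^ (2 : ℤ) := by rw [h8, mul_inv_cancel_right]
  rw [conj_zpow_pow hk] at h9
  have h10 : (2 : ℤ) ^ (n + 1) ∣ k - 1 := by
    have h11 : (2 : ℤ) ^ (n + 2) ∣ k * 2 - 2 := by
      rw [← gq'.zpow_eq_one_iff, zpow_sub, mul_inv_eq_one]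
      exact h9
    have : k * 2 - 2 = 2 * (k - 1) := by ring
    rw [this, pow_succ'] at h11
    exact (mul_dvd_mul_iff_left (by norm_num)).1 h11
  have h11 := arith_two n k h10
  have h12 : zz K * x' * (zz K)⁻¹ = x' := by
    have h13 := h1 1
    rw [zpow_one] at h13
    rw [h13]
    have h14 : x' ^ (k ^ 2 * 1 - 1) = 1 := by
      rw [gq'.zpow_eq_one_iff, mul_one]; exact h11
    rw [zpow_sub, zpow_one, mul_inv_eq_one] at h14
    exact h14
  rwa [mul_inv_eq_iff_eq_mul] at h12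

/-- **type W**: if `s = zz L` centralises `x ∈ Q` of order `4` then `s` acts on `Q` as `x` does -/
theorem act (p : NPair Om K L T Q Q') (h : TwoE Om) {x : G} (hx : x ∈ Q) (hx2 : x * x = zz K)
    (hxs : x * zz L = zz L * x) : ∀ q ∈ Q, (zz L * x) * q = q * (zz L * x) := by
  obtain ⟨x0, y0, n, gq, inv⟩ := h.hyp.exists_gq_cyclic p.hK p.hQ p.hT.2.1 p.hTQ
  obtain ⟨x1, y1, m, gq', inv'⟩ := h.hyp.exists_gq_cyclic p.hL p.hQ' p.hT.2.1 p.hTQ'
  have h1 : zz K * x1 = x1 * zz K := p.key h gq' inv' hx hxs hx2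
  have h2 : x1 ^ 2 ^ m * zz K = zz K * x1 ^ 2 ^ m := ((show Commute x1 (zz K) from h1.symm).pow_left _).eq
  have h3 : zz L * x0 = x0 * zz L := p.symm.key h gq inv (Q'.pow_mem gq'.c_mem (2 ^ m)) h2 gq'.w_sq
  -- `x ∈ ⟨x0⟩`
  have hx0 : x ∈ zpowers x0 := by
    by_contra hc
    apply p.not_cent h
    intro q hq
    have h4 : Q ≤ centralizer {zz L} := gq.le_of_mem (mem_centralizer_singleton_iff.2 h3.symm) hx hc
      (mem_centralizer_singleton_iff.2 hxs)
    exact (mem_centralizer_singleton_iff.1 (h4 hq)).symm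
  have hxx0 : x * x0 = x0 * x := by
    obtain ⟨k, rfl⟩ := hx0
    exact ((Commute.refl x0).zpow_left k).eq
  -- action on `y0`
  obtain ⟨j, hj⟩ : ∃ j : ℤ, zz L * y0 * (zz L)⁻¹ = y0 * x0 ^ j := by
    apply gq.exists_act (p.hTQ (p.zL_mem h))
    have := inv (zz L)⁻¹ (T.inv_mem (p.zL_mem h))
    simpa using this
  have hsj : zz L * x0 ^ j * (zz L)⁻¹ = x0 ^ j := by
    rw [((show Commute (zz L) x0 from h3).zpow_right j).eq, mul_inv_cancel_right]
  have h5 : y0 = y0 * x0 ^ (2 * j) := by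
    calc y0 = (zz L * zz L) * y0 * (zz L * zz L)⁻¹ := by rw [h.hyp.zz_mul p.hL]; group
      _ = zz L * (zz L * y0 * (zz L)⁻¹) * (zz L)⁻¹ := by group
      _ = zz L * (y0 * x0 ^ j) * (zz L)⁻¹ := by rw [hj]
      _ = (zz L * y0 * (zz L)⁻¹) * (zz L * x0 ^ j * (zz L)⁻¹) := by group
      _ = y0 * x0 ^ (2 * j) := by rw [hj, hsj, mul_assoc, ← zpow_add, two_mul]
  have h6 : x0 ^ (2 * j) = 1 := by
    have := h5.symm
    simpa using this
  have h7 : zz L * y0 * (zz L)⁻¹ = y0 * zz K := by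
    rcases gq.zpow_sq h6 with h8 | h8
    · exfalso
      apply p.not_cent h
      rw [h8, mul_one, mul_inv_eq_iff_eq_mul] at hj
      intro q hq
      have h4 : Q ≤ centralizer {zz L} := gq.le_of_mem (mem_centralizer_singleton_iff.2 h3.symm) gq.v_mem
        gq.v_not_mem (mem_centralizer_singleton_iff.2 hj.symm)
      exact (mem_centralizer_singleton_iff.1 (h4 hq)).symm
    · rw [hj, h8]
  have h8 : x * y0 * x⁻¹ = y0 * zz K := by
    obtain ⟨i, hi⟩ := hx0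
    have hi' : x0 ^ i = x := hi
    rw [← hi', gq.conj_zpow_v, show (-2 : ℤ) * i = -(i + i) by ring, zpow_neg, zpow_add, hi', hx2,
      h.hyp.zz_inv p.hK]
  have hzy : zz K * y0 = y0 * zz K := (gq.commute_v_z.eq).symm
  have h9 : (zz L * x) * y0 * (zz L * x)⁻¹ = y0 := by
    calc (zz L * x) * y0 * (zz L * x)⁻¹ = zz L * (x * y0 * x⁻¹) * (zz L)⁻¹ := by group
      _ = zz L * (y0 * zz K) * (zz L)⁻¹ := by rw [h8]
      _ = (zz L * y0 * (zz L)⁻¹) * (zz L * zz K * (zz L)⁻¹) := by group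
      _ = y0 * zz K * (zz L * zz K * (zz L)⁻¹) := by rw [h7]
      _ = y0 * zz K * zz K := by rw [← p.comm h, mul_inv_cancel_right]
      _ = y0 := by rw [mul_assoc, h.hyp.zz_mul p.hK, mul_one]
  have h10 : (zz L * x) * x0 = x0 * (zz L * x) := by
    rw [mul_assoc, hxx0, ← mul_assoc, h3, mul_assoc]
  rw [mul_inv_eq_iff_eq_mul] at h9
  intro q hq
  have h4 : Q ≤ centralizer {zz L * x} := gq.le_of_mem (mem_centralizer_singleton_iff.2 h10.symm) gq.v_mem
    gq.v_not_mem (mem_centralizer_singleton_iff.2 h9.symm)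
  exact (mem_centralizer_singleton_iff.1 (h4 hq)).symm

end NPair

/-! ### Products of two elements of order 4 -/

/-- `x ∈ K`, `y ∈ K'` of order `4` in a common 2-group, `K ≠ K'` members with the same involution -/
structure TTp (Om : Set (Subgroup G)) (K K' : Subgroup G) (x y : G) : Prop where
  hK : K ∈ Om
  hK' : K' ∈ Om
  ne : K ≠ K'
  hz : zz K' = zz K
  hx : x ∈ K
  hy : y ∈ K'
  ox : orderOf x = 4
  oy : orderOf y = 4
  two : ∃ R : Subgroup G, IsPGroup 2 R ∧ x ∈ R ∧ y ∈ R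

namespace TTp

variable {Om : Set (Subgroup G)} {K K' : Subgroup G} {x y : G}

theorem symm (p : TTp Om K K' x y) : TTp Om K' K y x := by
  obtain ⟨R, h1, h2, h3⟩ := p.two
  exact ⟨p.hK', p.hK, p.ne.symm, p.hz.symm, p.hy, p.hx, p.oy, p.ox, R, h1, h3, h2⟩

theorem inv (p : TTp Om K K' x y) : TTp Om K K' x y⁻¹ := by
  obtain ⟨R, h1, h2, h3⟩ := p.two
  exact ⟨p.hK, p.hK', p.ne, p.hz, p.hx, K'.inv_mem p.hy, p.ox, by rw [orderOf_inv, p.oy], R, h1, h2,
    R.inv_mem h3⟩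

theorem cj (h : Hyp Om) [Finite G] (p : TTp Om K K' x y) (g : G) :
    TTp Om (Cit.cj g K) (Cit.cj g K') (g * x * g⁻¹) (g * y * g⁻¹) := by
  obtain ⟨R, h1, h2, h3⟩ := p.two
  refine ⟨h.conj K p.hK g, h.conj K' p.hK' g, fun e => p.ne (cj_inj.1 e), ?_, conj_mem_cj p.hx, conj_mem_cj p.hy,
    ?_, ?_, Cit.cj g R, isPGroup_cj h1, conj_mem_cj h2, conj_mem_cj h3⟩
  · rw [h.zz_cj p.hK, h.zz_cj p.hK', p.hz]
  · rw [← p.ox]; exact (MulAut.conj g).orderOf_eq x
  · rw [← p.oy]; exact (MulAut.conj g).orderOf_eq y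

variable [Finite G]

theorem comm (h : Hyp Om) (p : TTp Om K K' x y) : x * y = y * x := by
  obtain ⟨R, h1, h2, h3⟩ := p.two
  exact h.comm_of_zz_eq h1 p.hK p.hK' p.hz.symm p.ne p.hx h2 p.hy h3

theorem sqx (h : Hyp Om) (p : TTp Om K K' x y) : x * x = zz K := h.sq_eq_zz p.hK p.hx p.ox

theorem sqy (h : Hyp Om) (p : TTp Om K K' x y) : y * y = zz K := by
  rw [h.sq_eq_zz p.hK' p.hy p.oy, p.hz]

theorem sq (h : Hyp Om) (p : TTp Om K K' x y) : (x * y) * (x * y) = 1 := by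
  calc (x * y) * (x * y) = x * (y * x) * y := by group
    _ = (x * x) * (y * y) := by rw [← p.comm h]; group
    _ = 1 := by rw [p.sqx h, p.sqy h, h.zz_mul p.hK]

theorem inv_eq (h : Hyp Om) (p : TTp Om K K' x y) : x * y⁻¹ = x * y * zz K := by
  rw [← p.sqy h]
  have : y * (y * y) = y⁻¹ := by
    have h4 := pow_orderOf_eq_one y
    rw [p.oy] at h4
    apply eq_inv_of_mul_eq_one_left
    rw [← h4, pow_succ, pow_succ, pow_succ, pow_one]
    simp only [mul_assoc]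
  rw [mul_assoc, this]

end TTp

/-- an element of order `4` of a member does not centralise a Sylow 2-subgroup containing it -/
theorem Hyp.not_cent_of_four [Finite G] {Om : Set (Subgroup G)} (h : Hyp Om) {K Q : Subgroup G} (hK : K ∈ Om)
    (hQ : Syl Q K) {x : G} (hx : x ∈ Q) (h4 : orderOf x = 4) (hc : ∀ q ∈ Q, x * q = q * x) : False := by
  obtain ⟨c, v, n, gq⟩ := h.exists_gq hK hQ
  obtain ⟨q, hq, -, hinv⟩ := gq.exists_inverting hx h4
  have h1 := hc q hq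
  have h2 : x * x = 1 := by
    have h3 : q * x * q⁻¹ = x := by rw [← h1, mul_inv_cancel_right]
    rw [hinv] at h3
    calc x * x = x⁻¹ * x := by rw [h3]
      _ = 1 := inv_mul_cancel x
  have h5 : orderOf x ∣ 2 := orderOf_dvd_of_pow_eq_one (by rw [pow_two, h2])
  rw [h4] at h5
  exact absurd (Nat.le_of_dvd (by norm_num) h5) (by norm_num)

/-- an element of order `4` of `K` is not in `K'` -/
theorem Hyp.not_mem_of_four [Finite G] {Om : Set (Subgroup G)} (h : Hyp Om) {K K' : Subgroup G} (hK : K ∈ Om)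
    (hK' : K' ∈ Om) (hne : K ≠ K') (hz : zz K' = zz K) {x : G} (hx : x ∈ K) (h4 : orderOf x = 4) : x ∉ K' := by
  intro hx'
  have h1 : IsPGroup 2 (zpowers x) := by
    rw [IsPGroup.iff_card]
    exact ⟨2, by rw [Nat.card_zpowers, h4]; norm_num⟩
  obtain ⟨Q, hQ, hxQ⟩ := OneBasic.exists_syl_ge h1 (zpowers_le.2 hx : zpowers x ≤ K)
  have hxQ' : x ∈ Q := hxQ (mem_zpowers x)
  apply h.not_cent_of_four hK hQ hxQ' h4
  intro q hq
  exact (h.comm_of_zz_eq hQ.2.1 hK hK' hz.symm hne (hQ.1 hq) hq hx' hxQ').symm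

/-- members with the same involution normalise each other -/
theorem Hyp.le_normalizer_of_zz [Finite G] {Om : Set (Subgroup G)} (h : Hyp Om) {K K' : Subgroup G} (hK : K ∈ Om)
    (hK' : K' ∈ Om) (hz : zz K' = zz K) : K' ≤ normalizer (K : Set G) := by
  rcases h.h2 K hK K' hK' hz.symm with h1 | h1
  · rw [← h1]; exact le_normalizer
  · rw [le_normalizer_iff]
    intro x hx k hk
    have h2 : k * x * k⁻¹ * x⁻¹ ∈ K := OO_le K (h1 (commutator_mem_commutator hk hx)).1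
    have h3 := K.mul_mem (K.inv_mem h2) hk
    have h4 : (k * x * k⁻¹ * x⁻¹)⁻¹ * k = x * k * x⁻¹ := by group
    rwa [h4] at h3

/-- **The data of branch (B)**: `t = x y`, `s = zz J`, `v = s t` -/
structure WD (Om : Set (Subgroup G)) (K K' J Q Q' QJ : Subgroup G) (x y b c : G) : Prop where
  tt : TTp Om K K' x y
  hJ : J ∈ Om
  hQ : Syl Q K
  hQ' : Syl Q' K'
  hQJ : Syl QJ J
  xQ : x ∈ Q
  yQ : y ∈ Q'
  two : ∃ R : Subgroup G, IsPGroup 2 R ∧ Q ≤ R ∧ Q' ≤ R ∧ zz J ∈ R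
  ne : zz J ≠ zz K
  sx : x * zz J = zz J * x
  sy : y * zz J = zz J * y
  vQ : ∀ q ∈ Q, (zz J * (x * y)) * q = q * (zz J * (x * y))
  vQ' : ∀ q ∈ Q', (zz J * (x * y)) * q = q * (zz J * (x * y))
  vQJ : ∀ q ∈ QJ, (zz J * (x * y)) * q = q * (zz J * (x * y))
  bQ : b ∈ Q
  hb : b * zz J * b⁻¹ = zz K * zz J
  cQ : c ∈ QJ
  hc : c * zz K * c⁻¹ = zz J * zz K

namespace TwoE

variable [Finite G] {Om : Set (Subgroup G)}

theorem normalizer_le (h : TwoE Om) {K K' : Subgroup G} (hK : K ∈ Om) (hK' : K' ∈ Om) (hne : K ≠ K')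
    (hz : zz K' = zz K) : normalizer (K : Set G) ≤ normalizer (K' : Set G) := by
  intro g hg
  rcases h.cj_or hK hK' hne hz (h.hyp.comm_zz hK hg) with ⟨-, h1⟩ | ⟨h1, -⟩
  · exact mem_normalizer_iff_cj.2 h1
  · exact absurd ((mem_normalizer_iff_cj.1 hg).symm.trans h1) hne

theorem normalizer_eq (h : TwoE Om) {K K' : Subgroup G} (hK : K ∈ Om) (hK' : K' ∈ Om) (hne : K ≠ K')
    (hz : zz K' = zz K) : normalizer (K : Set G) = normalizer (K' : Set G) :=
  le_antisymm (h.normalizer_le hK hK' hne hz) (h.normalizer_le hK' hK hne.symm hz.symm)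

/-- **THEOREM B0** -/
theorem exists_wd (h : TwoE Om) {K K' J : Subgroup G} {x y : G} (p : TTp Om K K' x y) (hJ0 : J ∈ Om)
    (hperp : Perp (x * y) J) : ∃ J' Q Q' QJ b c, WD Om K K' J' Q Q' QJ x y b c := by
  have hxy := p.comm h.hyp
  -- a Sylow 2-subgroup `P` of `C(t)` containing `x`, `y` and a Sylow 2-subgroup of a conjugate of `J`
  obtain ⟨R0, hR0, hxR0, hyR0⟩ := p.two
  obtain ⟨P, hP, hAP⟩ := OneBasic.exists_syl_ge (A := R0 ⊓ centralizer {x * y}) (M := centralizer {x * y})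
    (hR0.to_le inf_le_left) inf_le_right
  have hxP : x ∈ P := hAP ⟨hxR0, mem_centralizer_singleton_iff.2 (by rw [← mul_assoc, mul_assoc x y x, ← hxy]; group)⟩
  have hyP : y ∈ P := hAP ⟨hyR0, mem_centralizer_singleton_iff.2 (by
    calc y * (x * y) = (y * x) * y := by group
      _ = x * y * y := by rw [← hxy])⟩
  obtain ⟨QJ0, hQJ0, htQ0⟩ := hperp
  obtain ⟨P', hP', hQP'⟩ := OneBasic.exists_syl_ge hQJ0.2.1
    (fun q hq => mem_centralizer_singleton_iff.2 (htQ0 q hq).symm : QJ0 ≤ centralizer {x * y})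
  obtain ⟨k, hk, hkP⟩ := hP'.exists_conj hP
  set J1 : Subgroup G := cj k J with hJ1
  have hJ : J1 ∈ Om := h.hyp.conj J hJ0 k
  have hQ1 : Syl (cj k QJ0) J1 := hQJ0.cj k
  have hQ1P : cj k QJ0 ≤ P := by rw [← hkP]; exact cj_mono k hQP'
  have hJP : J1 ∈ OmS Om P := mem_OmS_of_le hJ hQ1 hQ1P
  have hsP : ∀ g ∈ P, g * zz J1 = zz J1 * g := fun g hg => h.comm_of_mem hP.2.1 hJP hg
  have htP : ∀ g ∈ P, x * y * g = g * (x * y) := fun g hg => (mem_centralizer_singleton_iff.1 (hP.1 hg)).symm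
  have hzP : zz K ∈ P := by rw [← p.sqx h.hyp]; exact P.mul_mem hxP hxP
  -- `s ≠ z`
  have aux : ∀ {L L' : Subgroup G} {a b : G}, TTp Om L L' a b → a ∈ P → b ∈ P → (∀ g ∈ P, a * b * g = g * (a * b)) →
      J1 ≠ L := by
    intro L L' a b q haP hbP htP' he
    have hQL : Syl (cj k QJ0) L := by rw [← he]; exact hQ1
    have h1 : cj k QJ0 = L ⊓ P := OneBasic.syl_eq_of_le hQL (hP.2.1.to_le inf_le_right) inf_le_left
      (le_inf hQL.1 hQ1P)
    have haQ : a ∈ cj k QJ0 := by rw [h1]; exact ⟨q.hx, haP⟩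
    apply h.hyp.not_cent_of_four q.hK hQL haQ q.ox
    intro g hg
    have h2 : g * b = b * g := h.hyp.comm_of_zz_eq hP.2.1 q.hK q.hK' q.hz.symm q.ne (hQL.1 hg) (hQ1P hg) q.hy hbP
    have h3 := htP' g (hQ1P hg)
    apply mul_right_cancel (b := b)
    calc a * g * b = a * (g * b) := by group
      _ = a * b * g := by rw [h2]; group
      _ = g * (a * b) := h3
      _ = g * a * b := by group
  have hne : zz J1 ≠ zz K := by
    intro he
    rcases h.eq_or p.hK p.hK' hJ p.ne p.hz he with h1 | h1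
    · exact aux p hxP hyP htP h1
    · exact aux p.symm hyP hxP (by rw [← hxy]; exact htP) h1
  have hsz : zz J1 * zz K = zz K * zz J1 := (hsP _ hzP).symm
  -- `s` normalises `K`, `K'`
  have hsK : zz J1 ∈ normalizer (K : Set G) := by
    rcases h.cj_or p.hK p.hK' p.ne p.hz hsz with ⟨h1, -⟩ | ⟨h1, -⟩
    · exact mem_normalizer_iff_cj.2 h1
    · exfalso
      apply h.hyp.not_mem_of_four p.hK p.hK' p.ne p.hz p.hx p.ox
      rw [← h1, mem_cj]
      have h2 : (zz J1)⁻¹ * x * zz J1 = x := by rw [mul_assoc, hsP x hxP]; group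
      rw [h2]
      exact p.hx
  have hNN := h.normalizer_eq p.hK p.hK' p.ne p.hz
  have hsK' : zz J1 ∈ normalizer (K' : Set G) := by rw [← hNN]; exact hsK
  -- `x`, `y`, `z` normalise `J1`
  have hxJ : x ∈ normalizer (J1 : Set G) :=
    h.hyp.norm_four hP.2.1 p.hK hJ p.hx hxP (by rw [p.ox]) (hsP x hxP)
  have hyJ : y ∈ normalizer (J1 : Set G) :=
    h.hyp.norm_four hP.2.1 p.hK' hJ p.hy hyP (by rw [p.oy]) (hsP y hyP)
  have hzJ : zz K ∈ normalizer (J1 : Set G) := by rw [← p.sqx h.hyp]; exact mul_mem hxJ hxJ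
  have hyK : y ∈ normalizer (K : Set G) := h.hyp.le_normalizer_of_zz p.hK p.hK' p.hz p.hy
  have hxK : x ∈ normalizer (K : Set G) := le_normalizer p.hx
  -- the 2-group `T`
  obtain ⟨T, Q, QJ, hAT, pK⟩ := exists_nPair (A := P ⊓ (normalizer (K : Set G) ⊓ normalizer (J1 : Set G)))
    p.hK hJ hne.symm hsK hzJ (hP.2.1.to_le inf_le_left) (inf_le_right.trans inf_le_left)
    (inf_le_right.trans inf_le_right)
  have hxT : x ∈ T := hAT ⟨hxP, hxK, hxJ⟩
  have hyT : y ∈ T := hAT ⟨hyP, hyK, hyJ⟩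
  have hxQ : x ∈ Q := by
    have h1 : T ⊓ K ≤ Q := OneBasic.syl_le_of_normalizes' pK.hQ (pK.hT.2.1.to_le inf_le_left) inf_le_right
      (inf_le_left.trans pK.hTQ)
    exact h1 ⟨hxT, p.hx⟩
  -- the Sylow subgroup `Q'` of `K'`
  have hR1 : IsPGroup 2 (T ⊔ Q : Subgroup G) := isPGroup_sup_of_normalizes pK.hT.2.1 pK.hQ.2.1 pK.hTQ
  have hTK' : T ≤ normalizer (K' : Set G) := by rw [← hNN]; exact pK.hT.1.trans inf_le_left
  have hR1K' : T ⊔ Q ≤ normalizer (K' : Set G) := by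
    refine sup_le hTK' ?_
    rw [← hNN]
    exact pK.hQ.1.trans le_normalizer
  obtain ⟨Q', hQ', hRQ'⟩ := exists_syl_normalized hR1 hR1K'
  have hR2 : IsPGroup 2 ((T ⊔ Q) ⊔ Q' : Subgroup G) := isPGroup_sup_of_normalizes hR1 hQ'.2.1 hRQ'
  have hyQ' : y ∈ Q' := by
    have h1 : T ⊓ K' ≤ Q' := OneBasic.syl_le_of_normalizes' hQ' (pK.hT.2.1.to_le inf_le_left) inf_le_right
      (inf_le_left.trans (le_sup_left.trans hRQ'))
    exact h1 ⟨hyT, p.hy⟩
  have hsT : zz J1 ∈ T := pK.zL_mem h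
  have hzT : zz K ∈ T := pK.zK_mem h
  have pK' : NPair Om K' J1 T Q' QJ :=
    { hK := p.hK'
      hL := hJ
      ne := by rw [p.hz]; exact hne.symm
      hKL := hsK'
      hLK := by rw [p.hz]; exact hzJ
      hQ := hQ'
      hQ' := pK.hQ'
      hT := by rw [← hNN]; exact pK.hT
      hTQ := le_sup_left.trans hRQ'
      hTQ' := pK.hTQ' }
  have a1 := pK.act h hxQ (p.sqx h.hyp) (hsP x hxP)
  have a2 := pK'.act h hyQ' (by rw [p.sqy h.hyp, p.hz]) (hsP y hyP)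
  have hQy : ∀ q ∈ Q, y * q = q * y := fun q hq =>
    (h.hyp.comm_of_zz_eq hR2 p.hK p.hK' p.hz.symm p.ne (pK.hQ.1 hq)
      ((le_sup_right.trans le_sup_left : Q ≤ (T ⊔ Q) ⊔ Q') hq) p.hy ((le_sup_right : Q' ≤ (T ⊔ Q) ⊔ Q') hyQ')).symm
  have hQx : ∀ q ∈ Q', x * q = q * x := fun q hq =>
    h.hyp.comm_of_zz_eq hR2 p.hK p.hK' p.hz.symm p.ne p.hx
      ((le_sup_right.trans le_sup_left : Q ≤ (T ⊔ Q) ⊔ Q') hxQ) (hQ'.1 hq) ((le_sup_right : Q' ≤ (T ⊔ Q) ⊔ Q') hq)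
  -- `t` centralises `QJ`
  have htJ : x * y ∈ normalizer (J1 : Set G) := mul_mem hxJ hyJ
  have htT : x * y ∈ T := T.mul_mem hxT hyT
  have htQJ : ∀ q ∈ QJ, (x * y) * q = q * (x * y) :=
    h.hyp.rigid hJ hQ1 pK.hQ' htJ (isPGroup_zpowers hP.2.1 (P.mul_mem hxP hyP)) (fun q hq => htP q (hQ1P hq))
      (pK.hTQ' htT)
  have hsQJ : ∀ q ∈ QJ, zz J1 * q = q * zz J1 := fun q hq =>
    (h.hyp.comm_zz hJ (le_normalizer (pK.hQ'.1 hq))).symm
  obtain ⟨b, hbQ, hb, -⟩ := exists_conj_mul pK.hQ.2.1 (fun t ht h2 h1 => h.hyp.eq_zz p.hK (pK.hQ.1 ht) h2 h1)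
    (h.hyp.zz_mul hJ) (pK.hTQ hsT) (by
      by_contra hcon
      push Not at hcon
      exact pK.not_cent h hcon)
  obtain ⟨c, hcQ, hc, -⟩ := exists_conj_mul pK.hQ'.2.1 (fun t ht h2 h1 => h.hyp.eq_zz hJ (pK.hQ'.1 ht) h2 h1)
    (h.hyp.zz_mul p.hK) (pK.hTQ' hzT) (by
      by_contra hcon
      push Not at hcon
      exact pK.symm.not_cent h hcon)
  refine ⟨J1, Q, Q', QJ, b, c, ?_⟩
  exact
    { tt := p
      hJ := hJ
      hQ := pK.hQ
      hQ' := hQ'
      hQJ := pK.hQ'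
      xQ := hxQ
      yQ := hyQ'
      two := ⟨(T ⊔ Q) ⊔ Q', hR2, le_sup_right.trans le_sup_left, le_sup_right,
        (le_sup_left.trans le_sup_left : T ≤ (T ⊔ Q) ⊔ Q') hsT⟩
      ne := hne
      sx := hsP x hxP
      sy := hsP y hyP
      vQ := by
        intro q hq
        calc zz J1 * (x * y) * q = (zz J1 * x) * (y * q) := by group
          _ = (zz J1 * x) * q * y := by rw [hQy q hq]; group
          _ = q * (zz J1 * x) * y := by rw [a1 q hq]
          _ = _ := by group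
      vQ' := by
        intro q hq
        calc zz J1 * (x * y) * q = zz J1 * (y * x) * q := by rw [hxy]
          _ = (zz J1 * y) * (x * q) := by group
          _ = (zz J1 * y) * q * x := by rw [hQx q hq]; group
          _ = q * (zz J1 * y) * x := by rw [a2 q hq]
          _ = q * (zz J1 * (y * x)) := by group
          _ = _ := by rw [hxy]
      vQJ := by
        intro q hq
        calc zz J1 * (x * y) * q = zz J1 * ((x * y) * q) := by group
          _ = (zz J1 * q) * (x * y) := by rw [htQJ q hq]; group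
          _ = _ := by rw [hsQJ q hq]; group
      bQ := hbQ
      hb := hb
      cQ := hcQ
      hc := hc }

end TwoE

namespace WD

variable [Finite G] {Om : Set (Subgroup G)} {K K' J Q Q' QJ : Subgroup G} {x y b c : G}

/-- `s`, `z` commute -/
theorem sz (w : WD Om K K' J Q Q' QJ x y b c) (h : Hyp Om) : zz J * zz K = zz K * zz J := by
  rw [← w.tt.sqx h]
  have hc : Commute (zz J) x := w.sx.symm
  exact (hc.mul_right hc).eq

/-- `s`, `t` commute -/
theorem st (w : WD Om K K' J Q Q' QJ x y b c) : zz J * (x * y) = (x * y) * zz J := by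
  calc zz J * (x * y) = (zz J * x) * y := by group
    _ = x * (zz J * y) := by rw [← w.sx]; group
    _ = _ := by rw [← w.sy]; group

/-- `z`, `t` commute -/
theorem zt (w : WD Om K K' J Q Q' QJ x y b c) (h : Hyp Om) : zz K * (x * y) = (x * y) * zz K := by
  rw [← w.tt.sqx h]
  have hc : Commute x (x * y) := (Commute.refl x).mul_right (w.tt.comm h)
  exact (hc.mul_left hc).eq

/-- `v * v = 1` -/
theorem vv (w : WD Om K K' J Q Q' QJ x y b c) (h : Hyp Om) : (zz J * (x * y)) * (zz J * (x * y)) = 1 := by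
  calc (zz J * (x * y)) * (zz J * (x * y)) = (zz J * (x * y)) * ((x * y) * zz J) := by rw [w.st]
    _ = zz J * ((x * y) * (x * y)) * zz J := by group
    _ = 1 := by rw [w.tt.sq h, mul_one, h.zz_mul w.hJ]

/-- `z`, `v` commute -/
theorem zv (w : WD Om K K' J Q Q' QJ x y b c) (h : Hyp Om) :
    zz K * (zz J * (x * y)) = (zz J * (x * y)) * zz K := by
  calc zz K * (zz J * (x * y)) = (zz K * zz J) * (x * y) := by group
    _ = zz J * (zz K * (x * y)) := by rw [← w.sz h]; group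
    _ = _ := by rw [w.zt h]; group

/-- `s`, `v` commute -/
theorem sv (w : WD Om K K' J Q Q' QJ x y b c) :
    zz J * (zz J * (x * y)) = (zz J * (x * y)) * zz J := by
  calc zz J * (zz J * (x * y)) = zz J * ((x * y) * zz J) := by rw [w.st]
    _ = _ := by group

/-- `t = s v` -/
theorem t_eq (w : WD Om K K' J Q Q' QJ x y b c) (h : Hyp Om) : zz J * (zz J * (x * y)) = x * y := by
  rw [← mul_assoc, h.zz_mul w.hJ, one_mul]

/-- `v` is not the involution of a member -/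
theorem v_ne_zz (w : WD Om K K' J Q Q' QJ x y b c) (h : TwoE Om)
    (hZ : ∀ K K' x y, TTp Om K K' x y → ∀ M ∈ Om, x * y ≠ zz M) {M : Subgroup G} (hM : M ∈ Om) :
    zz J * (x * y) ≠ zz M := by
  intro he
  have h1 : zz M = zz K := h.zz_eq_of_cent w.tt.hK hM w.hQ (by rw [← he]; exact w.vQ)
  apply hZ K K' x y⁻¹ w.tt.inv J w.hJ
  rw [w.tt.inv_eq h.hyp]
  have h2 : x * y = zz J * zz K := by rw [← h1, ← he, w.t_eq h.hyp]
  rw [h2, mul_assoc, h.hyp.zz_mul w.tt.hK, mul_one]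

theorem v_ne (w : WD Om K K' J Q Q' QJ x y b c) (h : TwoE Om)
    (hZ : ∀ K K' x y, TTp Om K K' x y → ∀ M ∈ Om, x * y ≠ zz M) : zz J * (x * y) ≠ 1 := by
  intro he
  apply hZ K K' x y w.tt J w.hJ
  have h1 := w.t_eq h.hyp
  rw [he, mul_one] at h1
  exact h1.symm

theorem Perp_v (w : WD Om K K' J Q Q' QJ x y b c) : TwoE.Perp (zz J * (x * y)) K := ⟨Q, w.hQ, w.vQ⟩

theorem Perp_v' (w : WD Om K K' J Q Q' QJ x y b c) : TwoE.Perp (zz J * (x * y)) K' := ⟨Q', w.hQ', w.vQ'⟩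

theorem Perp_vJ (w : WD Om K K' J Q Q' QJ x y b c) : TwoE.Perp (zz J * (x * y)) J := ⟨QJ, w.hQJ, w.vQJ⟩

theorem bz (w : WD Om K K' J Q Q' QJ x y b c) (h : Hyp Om) : b * zz K * b⁻¹ = zz K := by
  rw [h.comm_zz w.tt.hK (le_normalizer (w.hQ.1 w.bQ)), mul_inv_cancel_right]

theorem bv (w : WD Om K K' J Q Q' QJ x y b c) : b * (zz J * (x * y)) * b⁻¹ = zz J * (x * y) := by
  rw [← w.vQ b w.bQ, mul_inv_cancel_right]

theorem cs (w : WD Om K K' J Q Q' QJ x y b c) (h : Hyp Om) : c * zz J * c⁻¹ = zz J := by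
  rw [h.comm_zz w.hJ (le_normalizer (w.hQJ.1 w.cQ)), mul_inv_cancel_right]

theorem cv (w : WD Om K K' J Q Q' QJ x y b c) : c * (zz J * (x * y)) * c⁻¹ = zz J * (x * y) := by
  rw [← w.vQJ c w.cQ, mul_inv_cancel_right]

/-- `g = c⁻¹ b` maps `s` to `z` -/
theorem gs (w : WD Om K K' J Q Q' QJ x y b c) (h : Hyp Om) : (c⁻¹ * b) * zz J * (c⁻¹ * b)⁻¹ = zz K := by
  have h1 : zz K = c⁻¹ * (zz J * zz K) * c := by rw [← w.hc]; group
  calc (c⁻¹ * b) * zz J * (c⁻¹ * b)⁻¹ = c⁻¹ * (b * zz J * b⁻¹) * c := by group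
    _ = c⁻¹ * (zz J * zz K) * c := by rw [w.hb, w.sz h]
    _ = zz K := h1.symm

theorem gv (w : WD Om K K' J Q Q' QJ x y b c) :
    (c⁻¹ * b) * (zz J * (x * y)) * (c⁻¹ * b)⁻¹ = zz J * (x * y) := by
  calc (c⁻¹ * b) * (zz J * (x * y)) * (c⁻¹ * b)⁻¹ = c⁻¹ * (b * (zz J * (x * y)) * b⁻¹) * c := by group
    _ = c⁻¹ * (c * (zz J * (x * y)) * c⁻¹) * c := by rw [w.bv, w.cv]
    _ = _ := by group

/-- `g` maps `z` to `s z` -/
theorem gz (w : WD Om K K' J Q Q' QJ x y b c) (h : Hyp Om) :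
    (c⁻¹ * b) * zz K * (c⁻¹ * b)⁻¹ = zz J * zz K := by
  have h2 : zz J * zz K = c * zz K * c⁻¹ := w.hc.symm
  have h3 : c⁻¹ * zz J * c = zz J := by
    calc c⁻¹ * zz J * c = c⁻¹ * (c * zz J * c⁻¹) * c := by rw [w.cs h]
      _ = _ := by group
  have h1 : c⁻¹ * zz K * c = zz J * zz K := by
    calc c⁻¹ * zz K * c = c⁻¹ * (zz J * (zz J * zz K)) * c := by
          rw [← mul_assoc (zz J), h.zz_mul w.hJ, one_mul]
      _ = (c⁻¹ * zz J * c) * (c⁻¹ * (zz J * zz K) * c) := by group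
      _ = zz J * (c⁻¹ * (c * zz K * c⁻¹) * c) := by rw [h3, h2]
      _ = _ := by group
  calc (c⁻¹ * b) * zz K * (c⁻¹ * b)⁻¹ = c⁻¹ * (b * zz K * b⁻¹) * c := by group
    _ = _ := by rw [w.bz h, h1]

/-- `g` maps `t` to `z v` -/
theorem gt (w : WD Om K K' J Q Q' QJ x y b c) (h : Hyp Om) :
    (c⁻¹ * b) * (x * y) * (c⁻¹ * b)⁻¹ = zz K * (zz J * (x * y)) := by
  calc (c⁻¹ * b) * (x * y) * (c⁻¹ * b)⁻¹
      = (c⁻¹ * b) * (zz J * (zz J * (x * y))) * (c⁻¹ * b)⁻¹ := by rw [w.t_eq h]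
    _ = ((c⁻¹ * b) * zz J * (c⁻¹ * b)⁻¹) * ((c⁻¹ * b) * (zz J * (x * y)) * (c⁻¹ * b)⁻¹) := by group
    _ = _ := by rw [w.gs h, w.gv]

theorem zvQ (w : WD Om K K' J Q Q' QJ x y b c) (h : Hyp Om) {q : G} (hq : q ∈ Q) :
    zz K * (zz J * (x * y)) * q = q * (zz K * (zz J * (x * y))) := by
  calc zz K * (zz J * (x * y)) * q = zz K * ((zz J * (x * y)) * q) := by group
    _ = (zz K * q) * (zz J * (x * y)) := by rw [w.vQ q hq]; group
    _ = _ := by rw [← h.comm_zz w.tt.hK (le_normalizer (w.hQ.1 hq))]; group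

theorem zvQ' (w : WD Om K K' J Q Q' QJ x y b c) (h : Hyp Om) {q : G} (hq : q ∈ Q') :
    zz K * (zz J * (x * y)) * q = q * (zz K * (zz J * (x * y))) := by
  have h1 : q * zz K = zz K * q := by
    rw [← w.tt.hz]; exact h.comm_zz w.tt.hK' (le_normalizer (w.hQ'.1 hq))
  calc zz K * (zz J * (x * y)) * q = zz K * ((zz J * (x * y)) * q) := by group
    _ = (zz K * q) * (zz J * (x * y)) := by rw [w.vQ' q hq]; group
    _ = _ := by rw [← h1]; group

/-- members with involution `s` are conjugate to `K` or `K'` under `g⁻¹` -/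
theorem eq_cj (w : WD Om K K' J Q Q' QJ x y b c) (h : TwoE Om) {M : Subgroup G} (hM : M ∈ Om)
    (hz : zz M = zz J) : cj (c⁻¹ * b) M = K ∨ cj (c⁻¹ * b) M = K' :=
  h.eq_or w.tt.hK w.tt.hK' (h.hyp.conj M hM _) w.tt.ne w.tt.hz (by rw [h.hyp.zz_cj hM, hz, w.gs h.hyp])

theorem Perp_of_cj {u g : G} {M : Subgroup G} (hp : TwoE.Perp (g * u * g⁻¹) (cj g M)) : TwoE.Perp u M := by
  have h1 := hp.cj g⁻¹
  rw [cj_inv_cj] at h1
  have h2 : g⁻¹ * (g * u * g⁻¹) * g⁻¹⁻¹ = u := by group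
  rwa [h2] at h1

/-- `t` is perpendicular to both members with involution `s` -/
theorem Perp_t (w : WD Om K K' J Q Q' QJ x y b c) (h : TwoE Om) {M : Subgroup G} (hM : M ∈ Om)
    (hz : zz M = zz J) : TwoE.Perp (x * y) M := by
  apply Perp_of_cj (g := c⁻¹ * b)
  rw [w.gt h.hyp]
  rcases w.eq_cj h hM hz with h1 | h1
  · rw [h1]; exact ⟨Q, w.hQ, fun q hq => w.zvQ h.hyp hq⟩
  · rw [h1]; exact ⟨Q', w.hQ', fun q hq => w.zvQ' h.hyp hq⟩

/-- `v` is perpendicular to both members with involution `z` -/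
theorem Perp_v_z (w : WD Om K K' J Q Q' QJ x y b c) (h : TwoE Om) {M : Subgroup G} (hM : M ∈ Om)
    (hz : zz M = zz K) : TwoE.Perp (zz J * (x * y)) M := by
  rcases h.eq_or w.tt.hK w.tt.hK' hM w.tt.ne w.tt.hz hz with h1 | h1
  · rw [h1]; exact w.Perp_v
  · rw [h1]; exact w.Perp_v'

/-- `z v` is perpendicular to both members with involution `z` -/
theorem Perp_zv (w : WD Om K K' J Q Q' QJ x y b c) (h : TwoE Om) {M : Subgroup G} (hM : M ∈ Om)
    (hz : zz M = zz K) : TwoE.Perp (zz K * (zz J * (x * y))) M := by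
  rcases h.eq_or w.tt.hK w.tt.hK' hM w.tt.ne w.tt.hz hz with h1 | h1
  · rw [h1]; exact ⟨Q, w.hQ, fun q hq => w.zvQ h.hyp hq⟩
  · rw [h1]; exact ⟨Q', w.hQ', fun q hq => w.zvQ' h.hyp hq⟩

/-- `v` is perpendicular to both members with involution `s` -/
theorem Perp_v_s (w : WD Om K K' J Q Q' QJ x y b c) (h : TwoE Om) {M : Subgroup G} (hM : M ∈ Om)
    (hz : zz M = zz J) : TwoE.Perp (zz J * (x * y)) M := by
  apply Perp_of_cj (g := c⁻¹ * b)
  rw [w.gv]
  rcases w.eq_cj h hM hz with h1 | h1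
  · rw [h1]; exact w.Perp_v
  · rw [h1]; exact w.Perp_v'

/-- `z s` is the involution of `cj b J` -/
theorem zz_b (w : WD Om K K' J Q Q' QJ x y b c) (h : Hyp Om) : zz (cj b J) = zz K * zz J := by
  rw [h.zz_cj w.hJ, w.hb]

/-- `v` is perpendicular to both members with involution `z s` -/
theorem Perp_v_zs (w : WD Om K K' J Q Q' QJ x y b c) (h : TwoE Om) {M : Subgroup G} (hM : M ∈ Om)
    (hz : zz M = zz K * zz J) : TwoE.Perp (zz J * (x * y)) M := by
  apply Perp_of_cj (g := b⁻¹)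
  have h1 : b⁻¹ * (zz J * (x * y)) * b⁻¹⁻¹ = zz J * (x * y) := by
    calc b⁻¹ * (zz J * (x * y)) * b⁻¹⁻¹ = b⁻¹ * (b * (zz J * (x * y)) * b⁻¹) * b := by rw [w.bv, inv_inv]
      _ = _ := by group
  rw [h1]
  apply w.Perp_v_s h (h.hyp.conj M hM _)
  rw [h.hyp.zz_cj hM, hz, ← w.hb]
  group

end WD

end Cfsg.Agent.Cit
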