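import Cfsg.Agent.Cit.Branches
import Cfsg.Agent.Cit.TBasic
import Cfsg.Agent.Cit.TwoW
import Cfsg.Agent.Cit.TwoFK.Base
import Cfsg.Agent.Cit.Excl
import Cfsg.Agent.GH.Defs

/-!
# The branch `|Om(S)| = 2`, `z_K = z_L`, of THEOREM T: assembly

`coreTwoEq` : `Branches.CoreTwoEq` from

* `PStmt` (THEOREM P): if not case (B), `C_S(Q₁Q₂)` is cyclic, and it is `⟨z⟩` in case (C);
* `SylOneStmt`, `SylTwoStmt` (D5b): the Sylow 2-subgroups are of type `PSp₄(q)` or `PSL₄(q)`, `q` odd, if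
  `C_S(Q₁Q₂)` is `⟨z⟩`, resp. cyclic of order at least 4 and case (A);
* `H509`, `H510` : S0509, and S0510 in the refined form `LFour.ConclR`;
* `ExclStmt` : exclusion of `M₂₂`, `M₂₃`, `McL`;
* `LongStmt` : the pieces for `PSL₄(q)`, `PSU₄(q)`, `PSp₄(q)`;
* `BStmt` : case (B) (`Ω₇(q)`, `Ω₈⁻(q)`).
-/

set_option autoImplicit false
set_option linter.style.haveILetI false
set_option linter.unusedSectionVars false

namespace Cfsg.Agent.Cit.CoreTwoEq

open Subgroup Cfsg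
open Cfsg.Agent.Cit.Branches (Card AllEq)
open Cfsg.Agent.Cit.TwoFK (TwoEq)
open Cfsg.Agent.GH.Defs (TypeSp4 TypeL4 HasAltCover)

universe u

/-! ### The hypotheses in the forms `TwoE`, `TwoEq` -/

section Forms

variable {G : Type*} [Group G] [Finite G] {Om : Set (Subgroup G)}

theorem twoE (h : Hyp Om) (hc : Card Om 2) (he : AllEq Om) : TwoE Om := ⟨h, hc, he⟩

theorem twoEq (h : Hyp Om) (hcls : ∀ K ∈ Om, ∀ J ∈ Om, ∃ g, J = cj g K) (hc : Card Om 2) (he : AllEq Om) :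
    TwoEq Om where
  hyp := h
  cls := fun K hK L hL => by
    obtain ⟨g, hg⟩ := hcls K hK L hL
    exact ⟨g, hg.symm⟩
  two := hc
  same := he

theorem _root_.Cfsg.Agent.Cit.TwoFK.TwoEq.twoE (h : TwoEq Om) : TwoE Om := ⟨h.hyp, h.two, h.same⟩

/-- the involution of a member is 2-central -/
theorem exists_sylow_central (h : TwoEq Om) {K : Subgroup G} (hK : K ∈ Om) :
    ∃ S : Sylow 2 G, K ∈ OmS Om (S : Subgroup G) ∧ ∀ s ∈ (S : Subgroup G), s * zz K = zz K * s := by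
  obtain ⟨S, hS, -⟩ := h.hyp.exists_sylow hK
  exact ⟨S, hS, fun s hs => h.twoE.comm_of_mem S.2 hS hs⟩

/-- groups generated by elements of odd order have no subgroups of index two -/
theorem relIndex_ne_two {K : Subgroup G} (h : TyTwo K) : ∀ Y ≤ K, Y.relIndex K ≠ 2 := by
  intro Y _ hY
  have h1 : K ≤ Y := by
    refine h.trans ((closure_le Y).2 ?_)
    rintro c ⟨hc, ho⟩
    have h2 : (⟨c, hc⟩ : K) ∈ Y.subgroupOf K := by
      apply Cit.Ty.mem_of_index_two hY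
      rwa [← Subgroup.orderOf_coe]
    exact h2
  rw [relIndex_eq_one.2 h1] at hY
  omega

end Forms

/-! ### The cases (A), (B), (C) -/

section Cases

variable {G : Type*} [Group G]

/-- `b` centralises a Sylow 2-subgroup of `K` -/
def Perp (b : G) (K : Subgroup G) : Prop := ∃ Q, Syl Q K ∧ ∀ q ∈ Q, b * q = q * b

/-- case (A): some `x y`, `x ∈ K`, `y ∈ K'` of order 4, `K ≠ K'` over one involution, is the involution of a member -/
def CaseA (Om : Set (Subgroup G)) : Prop := ∃ K K' x y, TTp Om K K' x y ∧ ∃ M ∈ Om, x * y = zz M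

/-- case (B): not (A), and some `x y` centralises a Sylow 2-subgroup of a member -/
def CaseB (Om : Set (Subgroup G)) : Prop := ¬ CaseA Om ∧ ∃ K K' x y, TTp Om K K' x y ∧ ∃ J ∈ Om, Perp (x * y) J

/-- `C_S(Q₁ Q₂)`, `Q₁ = K ∩ S`, `Q₂ = L ∩ S` -/
def PP (S K L : Subgroup G) : Subgroup G :=
  S ⊓ centralizer ((K ⊓ S : Subgroup G) : Set G) ⊓ centralizer ((L ⊓ S : Subgroup G) : Set G)

/-- the conclusion of THEOREM P -/
def PConcl (Om : Set (Subgroup G)) : Prop := ∀ S : Sylow 2 G, ∀ K ∈ OmS Om (S : Subgroup G),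
  ∀ L ∈ OmS Om (S : Subgroup G), K ≠ L → IsCyclic (PP (S : Subgroup G) K L) ∧
    (¬ CaseA Om → PP (S : Subgroup G) K L = zpowers (zz K))

def L4 (G : Type*) [Group G] : Prop := ∃ (F : Type) (_ : Field F) (_ : Fintype F), Odd (Fintype.card F) ∧
  Nonempty (G ≃* Matrix.ProjectiveSpecialLinearGroup (Fin 4) F)

def U4 (G : Type*) [Group G] : Prop := ∃ (F : Type) (_ : Field F) (_ : Fintype F) (q : ℕ),
  Fintype.card F = q ^ 2 ∧ Odd q ∧ Nonempty (G ≃* Cfsg.PSU 4 F q)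

def Sp4 (G : Type*) [Group G] : Prop := ∃ (F : Type) (_ : Field F) (_ : Fintype F), Odd (Fintype.card F) ∧
  Nonempty (G ≃* Cfsg.PSp 2 F)

end Cases

/-! ### The inputs -/

/-- THEOREM P -/
def PStmt : Prop := ∀ (G : Type u) [Group G] [Finite G] [IsSimpleGroup G] (Om : Set (Subgroup G)), TwoEq Om →
  Om.Nonempty → (∀ K ∈ Om, TyTwo K) → ¬ CaseB Om → PConcl Om

/-- D5b, `C_S(Q₁Q₂) = ⟨z⟩` -/
def SylOneStmt : Prop := ∀ (G : Type u) [Group G] [Finite G] [IsSimpleGroup G] (Om : Set (Subgroup G)), TwoEq Om →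
  (∀ K ∈ Om, TyTwo K) → ∀ (S : Sylow 2 G), ∀ K ∈ OmS Om (S : Subgroup G), ∀ L ∈ OmS Om (S : Subgroup G), K ≠ L →
  PP (S : Subgroup G) K L = zpowers (zz K) → TypeSp4 ↥(S : Subgroup G) ∨ TypeL4 ↥(S : Subgroup G)

/-- D5b, case (A), `C_S(Q₁Q₂)` cyclic, not `⟨z⟩` -/
def SylTwoStmt : Prop := ∀ (G : Type u) [Group G] [Finite G] [IsSimpleGroup G] (Om : Set (Subgroup G)), TwoEq Om →
  (∀ K ∈ Om, TyTwo K) → CaseA Om → ∀ (S : Sylow 2 G), ∀ K ∈ OmS Om (S : Subgroup G),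
  ∀ L ∈ OmS Om (S : Subgroup G), K ≠ L → IsCyclic (PP (S : Subgroup G) K L) →
  PP (S : Subgroup G) K L ≠ zpowers (zz K) → TypeL4 ↥(S : Subgroup G)

/-- S0509 -/
def H509 : Prop := ∀ (G : Type u) [Group G] [Finite G] [IsSimpleGroup G] (S : Sylow 2 G),
  TypeSp4 ↥(S : Subgroup G) → Sp4 G ∨ Nonempty (G ≃* alternatingGroup (Fin 8)) ∨
    Nonempty (G ≃* alternatingGroup (Fin 9))

/-- S0510, refined (`LFour.ConclR`, `LFour.mainR`) -/
def H510 : Prop := ∀ (G : Type u) [Group G] [Finite G] [IsSimpleGroup G] (S : Sylow 2 G),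
  TypeL4 ↥(S : Subgroup G) → (L4 G ∨ U4 G) ∨ Nonempty (G ≃* alternatingGroup (Fin 10)) ∨
    Nonempty (G ≃* alternatingGroup (Fin 11)) ∨ Cfsg.IsM22 G ∨ Cfsg.IsM23 G ∨ (HasAltCover G ∧ Cfsg.IsMcL G)

/-- exclusion of `M₂₂`, `M₂₃`, `McL` -/
def ExclStmt : Prop := ∀ (G : Type u) [Group G] [Finite G] [IsSimpleGroup G],
  Cfsg.IsM22 G ∨ Cfsg.IsM23 G ∨ (HasAltCover G ∧ Cfsg.IsMcL G) →
  ∀ Om : Set (Subgroup G), Hyp Om → Om.Nonempty → ¬ ∀ K ∈ Om, TyTwo K

/-- `PSL₄(q)`, `PSU₄(q)`, `PSp₄(q)` -/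
def LongStmt : Prop := ∀ (G : Type u) [Group G] [Finite G] [IsSimpleGroup G] (Om : Set (Subgroup G)), TwoEq Om →
  Om.Nonempty → (∀ K ∈ Om, Ty K) → L4 G ∨ U4 G ∨ Sp4 G → HasPieces Om

/-- case (B) -/
def BStmt : Prop := ∀ (G : Type u) [Group G] [Finite G] (Om : Set (Subgroup G)), MinS Om → TwoEq Om → CaseB Om →
  HasPieces Om

/-! ### Assembly -/

/-- the Sylow 2-subgroups in the cases (A), (C) -/
theorem sylow_type (h1 : SylOneStmt.{u}) (h2 : SylTwoStmt.{u}) {G : Type u} [Group G] [Finite G]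
    [IsSimpleGroup G] {Om : Set (Subgroup G)} (h : TwoEq Om) (hT : ∀ K ∈ Om, TyTwo K)
    (hP : PConcl Om) (S : Sylow 2 G) : TypeSp4 ↥(S : Subgroup G) ∨ TypeL4 ↥(S : Subgroup G) := by
  obtain ⟨K, L, hne', hKL⟩ := Set.ncard_eq_two.1 (h.two S)
  have hK : K ∈ OmS Om (S : Subgroup G) := by rw [hKL]; exact Set.mem_insert _ _
  have hL : L ∈ OmS Om (S : Subgroup G) := by rw [hKL]; exact Set.mem_insert_of_mem _ rfl
  obtain ⟨hc, hA⟩ := hP S K hK L hL hne'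
  by_cases hz : PP (S : Subgroup G) K L = zpowers (zz K)
  · exact h1 G Om h hT S K hK L hL hne' hz
  · refine Or.inr (h2 G Om h hT ?_ S K hK L hL hne' hc hz)
    by_contra hcon
    exact hz (hA hcon)

/-- the groups in the cases (A), (C) -/
theorem ident (h9 : H509.{u}) (h10 : H510.{u}) (hM : ExclStmt.{u}) {G : Type u} [Group G] [Finite G]
    [IsSimpleGroup G] {Om : Set (Subgroup G)} (h : Hyp Om) (hne : Om.Nonempty) (hT : ∀ K ∈ Om, TyTwo K)
    {S : Sylow 2 G} (hS : TypeSp4 ↥(S : Subgroup G) ∨ TypeL4 ↥(S : Subgroup G)) : L4 G ∨ U4 G ∨ Sp4 G := by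
  obtain ⟨K, hK⟩ := id hne
  have hno := relIndex_ne_two (hT K hK)
  have halt : ∀ n, Nonempty (G ≃* alternatingGroup (Fin n)) → False := by
    rintro n ⟨e⟩
    exact Excl.no_alt e (h.orderOf_zz hK) (h.le_centralizer hK) (h.zz_mem hK) (h.sub K hK) (h.uniq K hK) hno
  rcases hS with hS | hS
  · rcases h9 G S hS with h1 | h1 | h1
    · exact Or.inr (Or.inr h1)
    · exact (halt _ h1).elim
    · exact (halt _ h1).elim
  · rcases h10 G S hS with (h1 | h1) | h1 | h1 | h1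
    · exact Or.inl h1
    · exact Or.inr (Or.inl h1)
    · exact (halt _ h1).elim
    · exact (halt _ h1).elim
    · exact (hM G h1 Om h hne hT).elim

/-- **the branch `|Om(S)| = 2`, equal involutions** -/
theorem coreTwoEq (hP : PStmt.{u}) (hS1 : SylOneStmt.{u}) (hS2 : SylTwoStmt.{u}) (h9 : H509.{u}) (h10 : H510.{u})
    (hM : ExclStmt.{u}) (hL : LongStmt.{u}) (hB : BStmt.{u}) : Branches.CoreTwoEq.{u} := by
  intro G _ _ Om hm hc he
  haveI := hm.simple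
  have h := twoEq hm.hyp hm.cls hc he
  by_cases hb : CaseB Om
  · exact hB G Om hm h hb
  · have hT : ∀ K ∈ Om, TyTwo K := fun K hK => (hm.ty K hK).isType.tyTwo
    obtain ⟨S⟩ : Nonempty (Sylow 2 G) := inferInstance
    exact hL G Om h hm.ne hm.ty (ident h9 h10 hM hm.hyp hm.ne hT
      (sylow_type hS1 hS2 h hT (hP G Om h hm.ne hT hb) S))

end Cfsg.Agent.Cit.CoreTwoEq
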