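import Cfsg.Agent.Cit.CoreTwoEq
import Cfsg.Agent.Cit.LongLeaf

/-!
# The branch `|Om(S)| = 2`, `z_K = z_L`: identification, and the split of case (B)

`ident2`: not in case (B), a simple group is `PSL₄(q)`, `PSU₄(q)` or `PSp₄(q)`, `q` odd.

`BChart`: in case (B) the whole group has a chart of type `B₃` and the members are `SL₂(F)` without odd core.
`bStmt_of_chart : BChart → BStmt`.
-/

set_option autoImplicit false

namespace Cfsg.Agent.Cit.CoreTwoEqId

open Subgroup Cfsg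
open Cfsg.Agent.Cit.TwoFK (TwoEq)
open Cfsg.Agent.Cit.CoreTwoEq
open Cfsg.Agent.Nodes.Chart

universe u

/-- **Identification** if the case (B) does not occur -/
theorem ident2 (hP : PStmt.{u}) (hS1 : SylOneStmt.{u}) (hS2 : SylTwoStmt.{u}) (h9 : H509.{u}) (h10 : H510.{u})
    (hM : ExclStmt.{u}) (G : Type u) [Group G] [Finite G] [IsSimpleGroup G] (Om : Set (Subgroup G))
    (h : TwoEq Om) (hne : Om.Nonempty) (hT : ∀ K ∈ Om, TyTwo K) (hb : ¬ CaseB Om) : L4 G ∨ U4 G ∨ Sp4 G := by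
  obtain ⟨S⟩ : Nonempty (Sylow 2 G) := inferInstance
  exact ident h9 h10 hM h.hyp hne hT (sylow_type hS1 hS2 h hT (hP G Om h hne hT hb) S)

/-- the output of `ident2`, as a hypothesis -/
def IdentTwo : Prop := ∀ (G : Type u) [Group G] [Finite G] [IsSimpleGroup G] (Om : Set (Subgroup G)), TwoEq Om →
  Om.Nonempty → (∀ K ∈ Om, TyTwo K) → ¬ CaseB Om → L4 G ∨ U4 G ∨ Sp4 G

theorem identTwo (hP : PStmt.{u}) (hS1 : SylOneStmt.{u}) (hS2 : SylTwoStmt.{u}) (h9 : H509.{u}) (h10 : H510.{u})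
    (hM : ExclStmt.{u}) : IdentTwo.{u} := ident2 hP hS1 hS2 h9 h10 hM

/-- case (B), a chart of type `B₃` of the whole group -/
def BChart : Prop := ∀ (G : Type u) [Group G] [Finite G] (Om : Set (Subgroup G)), MinS Om → TwoEq Om → CaseB Om →
  (∀ K ∈ Om, OO K = ⊥) ∧ ∃ (p : ℕ) (c : Chart Om p (⊤ : Subgroup G)), c.IsTy (.B 3) ∧
    (∃ (F : Type) (_ : Field F) (_ : Fintype F), CharP F p ∧
      ∀ K ∈ Om, Nonempty (Matrix.SpecialLinearGroup (Fin 2) F ≃* ↥K)) ∧ ∀ r ∈ c.R, c.Z r = c.X r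

theorem bStmt_of_chart (hB : BChart.{u}) : BStmt.{u} := by
  intro G _ _ Om hm h hb
  obtain ⟨hcore, p, c, hc, hF, hZ⟩ := hB G Om hm h hb
  refine LongLeaf.hasPieces_of_chart hm.hyp hm.ne hcore hm.simple c (.B 3) hc (le_refl 3) ?_ hF (Or.inl hZ)
  intro h1
  rw [hc.card] at h1
  exact absurd h1 (by decide)

end Cfsg.Agent.Cit.CoreTwoEqId
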