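import Cfsg.Agent.Cit.LongLeafCh
import Cfsg.Agent.Cit.Branches

/-!
# Base leaves of THEOREM T for matrix groups, part 3: the results

`Base Om`: `Hyp`, `Ty`, one class, `G` simple.  For `G ≃* PSL₃, PSL₄, PSL₅, PSU₃, PSU₄, PSU₅, PSp₄` over a field of odd
order: `HasPieces Om`, under the condition `TwoCen Om` (some `zz K` is 2-central) for the groups of dimension 3 and 4,
`SqCen Om` (some `zz K` commutes with all squares of a Sylow 2-subgroup) in dimension 5.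
`TwoCen`, `SqCen` from `|Om(S)| ≤ 2`.
-/

set_option autoImplicit false

namespace Cfsg.Agent.Cit.LongLeafEnd

open Subgroup Cfsg Matrix Cfsg.Agent.Cit.LongAbs Cfsg.Agent.Cit.LongBlock Cfsg.Agent.Cit.LongQuot
  Cfsg.Agent.Cit.LongMain Cfsg.Agent.Cit.LongModel Cfsg.Agent.Cit.LongInst Cfsg.Agent.Cit.LongTwo
  Cfsg.Agent.Cit.LongFinal Cfsg.Agent.Cit.LongConj Cfsg.Agent.Cit.LongLeaf Cfsg.Agent.Cit.LongLeafCh
  Cfsg.Agent.Nodes.Chart

/-! ### the hypotheses -/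

section Base

/-- simple group, one class of members -/
structure Base {G : Type*} [Group G] (Om : Set (Subgroup G)) : Prop where
  hyp : Hyp Om
  ty : ∀ K ∈ Om, Cit.Ty K
  ne : Om.Nonempty
  cls : ∀ K ∈ Om, ∀ J ∈ Om, ∃ g, J = cj g K
  simple : IsSimpleGroup G

theorem base_of_minS {G : Type*} [Group G] {Om : Set (Subgroup G)} (h : MinS Om) : Base Om :=
  ⟨h.hyp, h.ty, h.ne, h.cls, h.simple⟩

/-- some `zz K` is 2-central -/
def TwoCen {G : Type*} [Group G] (Om : Set (Subgroup G)) : Prop :=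
  ∃ K ∈ Om, ∃ S : Sylow 2 G, ∀ s ∈ S, s * zz K = zz K * s

/-- some `zz K` commutes with the squares of a Sylow 2-subgroup -/
def SqCen {G : Type*} [Group G] (Om : Set (Subgroup G)) : Prop :=
  ∃ K ∈ Om, ∃ S : Sylow 2 G, ∀ s ∈ S, (s * s) * zz K = zz K * (s * s)

variable {G L : Type*} [Group G] [Group L] [Finite G] {Om : Set (Subgroup G)}

theorem Base.map (h : Base Om) (e : G ≃* L) : Base (Cit.img e.toMonoidHom Om) where
  hyp := h.hyp.img e.surjective (not_two_dvd_ker_of_injective _ e.injective)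
  ty := Cit.Ty.img h.ty _ (not_two_dvd_ker_of_injective _ e.injective)
  ne := h.ne.image _
  cls := by
    rintro _ ⟨K, hK, rfl⟩ _ ⟨J, hJ, rfl⟩
    obtain ⟨g, hg⟩ := h.cls K hK J hJ
    refine ⟨e g, ?_⟩
    rw [hg, cj_map]
    rfl
  simple := (MulEquiv.isSimpleGroup_congr e).1 h.simple

theorem TwoCen.map (h : Base Om) (ht : TwoCen Om) (e : G ≃* L) : TwoCen (Cit.img e.toMonoidHom Om) := by
  obtain ⟨K, hK, S, hS⟩ := ht
  refine ⟨K.map e.toMonoidHom, ⟨K, hK, rfl⟩, S.mapSurjective (f := e.toMonoidHom) e.surjective, ?_⟩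
  rintro _ ⟨s, hs, rfl⟩
  rw [zz_map_of_injective h.hyp hK e.toMonoidHom e.injective, ← map_mul, hS s hs, map_mul]

theorem SqCen.map (h : Base Om) (ht : SqCen Om) (e : G ≃* L) : SqCen (Cit.img e.toMonoidHom Om) := by
  obtain ⟨K, hK, S, hS⟩ := ht
  refine ⟨K.map e.toMonoidHom, ⟨K, hK, rfl⟩, S.mapSurjective (f := e.toMonoidHom) e.surjective, ?_⟩
  rintro _ ⟨s, hs, rfl⟩
  rw [zz_map_of_injective h.hyp hK e.toMonoidHom e.injective, ← map_mul, ← map_mul, hS s hs, map_mul]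

/-- equal involutions on `Om(S)` -/
theorem twoCen_of_eq (hOm : Hyp Om) (S : Sylow 2 G) {K : Subgroup G} (hK : K ∈ OmS Om (S : Subgroup G))
    (heq : ∀ J ∈ OmS Om (S : Subgroup G), zz J = zz K) : TwoCen Om := by
  refine ⟨K, hK.1, S, fun s hs => ?_⟩
  have h1 := heq _ (cj_mem_OmS' hOm.conj (le_normalizer hs) hK)
  rw [hOm.zz_cj hK.1] at h1
  calc s * zz K = (s * zz K * s⁻¹) * s := by group
    _ = zz K * s := by rw [h1]

/-- `|Om(S)| ≤ 2` -/
theorem sqCen_of_two (hOm : Hyp Om) (S : Sylow 2 G) {K : Subgroup G} (hK : K ∈ OmS Om (S : Subgroup G))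
    (h2 : (OmS Om (S : Subgroup G)).ncard ≤ 2) : SqCen Om := by
  refine ⟨K, hK.1, S, fun s hs => ?_⟩
  have hs1 := cj_mem_OmS' hOm.conj (le_normalizer hs) hK
  have hs2 := cj_mem_OmS' hOm.conj (le_normalizer hs) hs1
  have key : cj s (cj s K) = K := by
    by_contra hne
    have h3 : cj s K ≠ K := fun h => hne (by rw [h, h])
    have h4 : cj s (cj s K) ≠ cj s K := fun h => h3 (cj_inj.1 h)
    have h5 : ({K, cj s K, cj s (cj s K)} : Set (Subgroup G)).ncard = 3 :=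
      Set.ncard_eq_three.2 ⟨K, cj s K, cj s (cj s K), h3.symm, fun h => hne h.symm, h4.symm, rfl⟩
    have h6 : ({K, cj s K, cj s (cj s K)} : Set (Subgroup G)) ⊆ OmS Om (S : Subgroup G) := by
      rintro J (rfl | rfl | rfl)
      · exact hK
      · exact hs1
      · exact hs2
    have h7 := Set.ncard_le_ncard h6 (Set.toFinite _)
    omega
  rw [← cj_mul] at key
  exact hOm.comm_zz hK.1 (mem_normalizer_iff_cj.2 key)

end Base

/-! ### the general leaf -/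

section Leaf

variable {Γ : Type*} [Group Γ] [Finite Γ] {F : Type*} [Field F] {κ : Type*} [Fintype κ] [DecidableEq κ]
  {R : Rep Γ F κ} {F1 : Type} [Field F1] [Fintype F1]

theorem leaf_hasPieces (h : Leaf R F1) (f : F1 →+* F) {Om : Set (Subgroup (Γ ⧸ center Γ))} (B : Base Om)
    (hz : ∃ K ∈ Om, ∃ g, g * zz K * g⁻¹ = z0 R)
    (hch : D1 R ∈ Om → (∀ K ∈ Om, ∃ g, K = cj g (D1 R)) → ∃ (p : ℕ) (_ : CharP F p)
      (c : Chart Om p (⊤ : Subgroup (Γ ⧸ center Γ))) (τ : Nodes.Chart.Ty), c.IsTy τ ∧ KindOk τ ∧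
        (τ.rk ≤ 2 → IsLieTypeChar p (Γ ⧸ center Γ)) ∧ ((∀ r ∈ c.R, c.Z r = c.X r) ∨ ∃ n, τ = .C n)) :
    HasPieces Om := by
  obtain ⟨K, hK, g, hg⟩ := hz
  obtain ⟨g, hg⟩ := h.exists_cj B.hyp hK (B.ty K hK) hg
  have h1 : D1 R ∈ Om := by rw [← hg]; exact B.hyp.conj K hK g
  have h2 : ∀ J ∈ Om, ∃ g, J = cj g (D1 R) := fun J hJ => B.cls _ h1 J hJ
  obtain ⟨p, hp, c, τ, kind, ok, small, zx⟩ := hch h1 h2
  have hp1 : CharP F1 p := (RingHom.charP_iff f f.injective p).2 hp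
  refine hasPieces_of_chart B.hyp B.ne ?_ B.simple c τ kind ok (fun hI => small ?_)
    ⟨F1, inferInstance, inferInstance, hp1, fun J hJ => ?_⟩ zx
  · intro J hJ
    obtain ⟨x, rfl⟩ := h2 J hJ
    rw [OO_cj, OO_D1 h, cj, Subgroup.map_bot]
  · rwa [kind.card] at hI
  · obtain ⟨x, rfl⟩ := h2 J hJ
    have := h.good.ne
    obtain ⟨e⟩ := h.good.e1
    exact ⟨(e.symm.trans (D1Equiv R)).trans (cjEquiv x (D1 R))⟩

end Leaf

/-! ### the data -/

section Data

variable {F : Type} [Field F] [Fintype F] (ho : Odd (Fintype.card F))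

omit [Field F] in
theorem eight_of_three [Field F] (h : Fintype.card F = 3) (a : F) (ha : a ≠ 0) : a ^ 8 = 1 := by
  have h1 := FiniteField.pow_card_sub_one_eq_one a ha
  rw [h] at h1
  calc a ^ 8 = (a ^ (3 - 1)) ^ 4 := by ring
    _ = 1 := by rw [h1, one_pow]

include ho

theorem sl_leaf1 : Leaf (slRep F 1) F := ⟨sl_good1 ho, sl_swap1, eight_of_three⟩
theorem sl_leaf2 : Leaf (slRep F 2) F := ⟨sl_good2 ho, sl_swap2, eight_of_three⟩
theorem sl_leaf3 : Leaf (slRep F 3) F := ⟨sl_good3 ho, sl_swap3 ho, eight_of_three⟩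
theorem sp_leaf : Leaf (LongSp.spRep F) F := ⟨LongSp.sp_good ho, sp_swap', eight_of_three⟩

variable {q : ℕ} (hF : Fintype.card F = q ^ 2)

omit ho in
theorem eight_su (h : Fintype.card (KK hF) = 3) (a : F) (ha : a ≠ 0) : a ^ 8 = 1 := by
  rw [card_KK] at h
  have h1 := FiniteField.pow_card_sub_one_eq_one a ha
  rw [hF, h] at h1
  exact h1

theorem su_leaf1 : Leaf (suRep hF 1 le_rfl) (KK hF) := ⟨su_good1 hF ho, su_swap1 hF, eight_su hF⟩
theorem su_leaf2 : Leaf (suRep hF 2 (by norm_num)) (KK hF) := ⟨su_good2 hF ho, su_swap2 hF, eight_su hF⟩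
theorem su_leaf3 : Leaf (suRep hF 3 (by norm_num)) (KK hF) := ⟨su_good3 hF ho, su_swap3 ho hF, eight_su hF⟩

end Data

/-! ### `D₁` as block subgroup -/

section D1

open Cfsg.Agent.Nodes.ChartTypeA

theorem D1_sl (F : Type*) [Field F] (k : ℕ) : D1 (slRep F k) =
    (blk F ((ee k).symm (Sum.inl 0)) ((ee k).symm (Sum.inl 1))).map (pr (SpecialLinearGroup (Fin (2 + k)) F)) := by
  rw [D1]
  congr 1
  ext g
  exact (blk_iff_fromBlocks (ee k).symm).symm

theorem D1_su {F : Type*} [Field F] [Fintype F] {q : ℕ} (hF : Fintype.card F = q ^ 2) (k : ℕ) (hk : 1 ≤ k) :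
    D1 (suRep hF k hk) = (Cfsg.Agent.Nodes.WittBlock.blkU F q (2 + k) ((ee k).symm (Sum.inl 0))
      ((ee k).symm (Sum.inl 1))).map (pr (SU (2 + k) F q)) := by
  rw [D1]
  congr 1
  ext g
  exact (blk_iff_fromBlocks (ee k).symm).symm

theorem D1_sp (F : Type*) [Field F] : D1 (LongSp.spRep F) =
    (Cfsg.Agent.Nodes.WittBlock.blkSp F (0 : Fin 2)).map (pr (symplecticGroup (Fin 2) F)) := by
  rw [D1]
  congr 1
  ext g
  exact (blk_iff_fromBlocks LongSp.e4).symm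

end D1

/-! ### types -/

theorem oneInv_of_ty {G : Type*} [Group G] {K : Subgroup G} (h : Cit.Ty K) : OneInv (↥K ⧸ oddCore ↥K) := by
  obtain ⟨z, -, hz⟩ := h.isType.good.uniq
  intro x y hx hy hxx hyy
  rw [hz x (orderOf_eq_prime (by rw [pow_two]; exact hxx) hx),
    hz y (orderOf_eq_prime (by rw [pow_two]; exact hyy) hy)]

theorem nonComm_of_ty {G : Type*} [Group G] {K : Subgroup G} (h : Cit.Ty K) : NonComm (↥K ⧸ oddCore ↥K) := by
  rcases Ty.IsTy.cases h.isType with h1 | ⟨⟨e⟩⟩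
  · intro hc
    have h2 := h1.quasisimple
    have := h2.2.toNontrivial
    have h3 : center (↥K ⧸ oddCore ↥K) = ⊤ := by
      rw [eq_top_iff]
      intro x _
      rw [mem_center_iff]
      exact fun y => hc y x
    have h4 : Subsingleton ((↥K ⧸ oddCore ↥K) ⧸ center (↥K ⧸ oddCore ↥K)) := by
      rw [h3]; exact QuotientGroup.subsingleton_quotient_top
    exact not_subsingleton _ h4
  · exact (nonComm_SL2 (ZMod 3)).congr e.symm

/-! ### Lie type -/

section LieType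

variable {F : Type} [Field F] [Fintype F] (ho : Odd (Fintype.card F)) {p : ℕ} (hp : CharP F p)
include hp

theorem lie_psl3 : IsLieTypeChar p (ProjectiveSpecialLinearGroup (Fin 3) F) :=
  Or.inl ⟨F, inferInstance, inferInstance, hp, 3, by norm_num, by norm_num, ⟨MulEquiv.refl _⟩⟩

include ho

theorem lie_psp4 : IsLieTypeChar p (PSp 2 F) := by
  refine Or.inr (Or.inl ⟨F, inferInstance, inferInstance, hp, 2, le_rfl, fun _ => ?_, ⟨MulEquiv.refl _⟩⟩)
  have h1 : 1 < Fintype.card F := Fintype.one_lt_card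
  obtain ⟨k, hk⟩ := ho
  omega

theorem lie_psu {q n : ℕ} (hF : Fintype.card F = q ^ 2) (hn : 3 ≤ n) : IsLieTypeChar p (PSU n F q) := by
  refine Or.inr (Or.inr (Or.inl ⟨F, inferInstance, inferInstance, hp, n, q, hF, hn, ?_, ⟨MulEquiv.refl _⟩⟩))
  rintro ⟨-, rfl⟩
  exact absurd (odd_q hF ho) (by decide)

end LieType

/-! ### the groups -/

section Final

variable {F : Type} [Field F] [Fintype F] (ho : Odd (Fintype.card F))
variable {G : Type*} [Group G] [Finite G] {Om : Set (Subgroup G)}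
include ho

theorem psl3 (B : Base Om) (hc : TwoCen Om) (e : G ≃* ProjectiveSpecialLinearGroup (Fin 3) F) :
    HasPieces Om := by
  have B' := B.map e
  obtain ⟨K, hK, S, hS⟩ := hc.map B e
  refine hasPieces_congr B.hyp e ?_
  obtain ⟨g, hg⟩ := sl3_two_central ho S (B'.hyp.zz_mul hK) (B'.hyp.zz_ne hK) hS
  refine leaf_hasPieces (sl_leaf1 ho) (RingHom.id F) B' ⟨K, hK, g, hg⟩ fun h1 h2 => ?_
  rw [D1_sl] at h1
  simp only [D1_sl] at h2
  obtain ⟨p, hp, c, hc, hzx⟩ := exists_chart_sl (n := 2) (by norm_num) ho (pr (SpecialLinearGroup (Fin 3) F))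
    (QuotientGroup.mk'_surjective _) (by rw [QuotientGroup.ker_mk']) _ B'.hyp.conj
    ((ee 1).symm (Sum.inl 0)) ((ee 1).symm (Sum.inl 1)) (by simp) h1 h2
  exact ⟨p, hp, c, .A 2, hc, le_rfl, fun _ => lie_psl3 hp, Or.inl hzx⟩

theorem psl4 (B : Base Om) (hc : TwoCen Om) (e : G ≃* ProjectiveSpecialLinearGroup (Fin 4) F) :
    HasPieces Om := by
  have B' := B.map e
  obtain ⟨K, hK, S, hS⟩ := hc.map B e
  refine hasPieces_congr B.hyp e ?_
  obtain ⟨g, hg⟩ := sl4_two_central ho S (B'.hyp.zz_mul hK) (B'.hyp.zz_ne hK) hS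
  refine leaf_hasPieces (sl_leaf2 ho) (RingHom.id F) B' ⟨K, hK, g, hg⟩ fun h1 h2 => ?_
  rw [D1_sl] at h1
  simp only [D1_sl] at h2
  obtain ⟨p, hp, c, hc, hzx⟩ := exists_chart_sl (n := 3) (by norm_num) ho (pr (SpecialLinearGroup (Fin 4) F))
    (QuotientGroup.mk'_surjective _) (by rw [QuotientGroup.ker_mk']) _ B'.hyp.conj
    ((ee 2).symm (Sum.inl 0)) ((ee 2).symm (Sum.inl 1)) (by simp) h1 h2
  exact ⟨p, hp, c, .A 3, hc, (by show 2 ≤ 3; norm_num), fun h => absurd h (by show ¬ (3 ≤ 2); norm_num),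
    Or.inl hzx⟩

theorem psl5 (B : Base Om) (hc : SqCen Om) (e : G ≃* ProjectiveSpecialLinearGroup (Fin 5) F) :
    HasPieces Om := by
  have B' := B.map e
  obtain ⟨K, hK, S, hS⟩ := hc.map B e
  refine hasPieces_congr B.hyp e ?_
  obtain ⟨g, hg⟩ := sl5_conj ho S (B'.hyp.zz_mul hK) (B'.hyp.zz_ne hK) hS (B'.hyp.le_centralizer hK)
    (B'.hyp.sub K hK) (oneInv_of_ty (B'.ty K hK)) (nonComm_of_ty (B'.ty K hK))
  refine leaf_hasPieces (sl_leaf3 ho) (RingHom.id F) B' ⟨K, hK, g, hg⟩ fun h1 h2 => ?_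
  rw [D1_sl] at h1
  simp only [D1_sl] at h2
  obtain ⟨p, hp, c, hc, hzx⟩ := exists_chart_sl (n := 4) (by norm_num) ho (pr (SpecialLinearGroup (Fin 5) F))
    (QuotientGroup.mk'_surjective _) (by rw [QuotientGroup.ker_mk']) _ B'.hyp.conj
    ((ee 3).symm (Sum.inl 0)) ((ee 3).symm (Sum.inl 1)) (by simp) h1 h2
  exact ⟨p, hp, c, .A 4, hc, (by show 2 ≤ 4; norm_num), fun h => absurd h (by show ¬ (4 ≤ 2); norm_num),
    Or.inl hzx⟩

theorem psp4 (B : Base Om) (hc : TwoCen Om) (e : G ≃* PSp 2 F) : HasPieces Om := by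
  have B' := B.map e
  obtain ⟨K, hK, S, hS⟩ := hc.map B e
  refine hasPieces_congr B.hyp e ?_
  obtain ⟨g, hg⟩ := sp4_two_central ho S (B'.hyp.zz_mul hK) (B'.hyp.zz_ne hK) hS
  refine leaf_hasPieces (sp_leaf ho) (RingHom.id F) B' ⟨K, hK, g, hg⟩ fun h1 h2 => ?_
  rw [D1_sp] at h1
  simp only [D1_sp] at h2
  obtain ⟨p, hp, c, hc⟩ := exists_chart_sp ho (0 : Fin 2) _ B'.hyp.conj h1 h2
  exact ⟨p, hp, c, .C 2, hc, (by show 1 ≤ 2; norm_num), fun _ => lie_psp4 ho hp, Or.inr ⟨2, rfl⟩⟩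

variable {q : ℕ} (hF : Fintype.card F = q ^ 2)
include hF

theorem psu3 (B : Base Om) (hc : TwoCen Om) (e : G ≃* PSU 3 F q) : HasPieces Om := by
  have B' := B.map e
  obtain ⟨K, hK, S, hS⟩ := hc.map B e
  refine hasPieces_congr B.hyp e ?_
  obtain ⟨g, hg⟩ := su3_two_central ho hF S (B'.hyp.zz_mul hK) (B'.hyp.zz_ne hK) hS
  refine leaf_hasPieces (su_leaf1 ho hF) (KK hF).subtype B' ⟨K, hK, g, hg⟩ fun h1 h2 => ?_
  rw [D1_su] at h1
  simp only [D1_su] at h2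
  obtain ⟨p, hp, c, hc⟩ := exists_chart_su ho hF (N := 3) (m := 1) le_rfl one_pos (Or.inr rfl) _
    B'.hyp.conj (r := (ee 1).symm (Sum.inl 0)) (s := (ee 1).symm (Sum.inl 1)) rfl rfl h1 h2
  exact ⟨p, hp, c, .C 1, hc, le_rfl, fun _ => lie_psu ho hp hF le_rfl, Or.inr ⟨1, rfl⟩⟩

theorem psu4 (B : Base Om) (hc : TwoCen Om) (e : G ≃* PSU 4 F q) : HasPieces Om := by
  have B' := B.map e
  obtain ⟨K, hK, S, hS⟩ := hc.map B e
  refine hasPieces_congr B.hyp e ?_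
  obtain ⟨g, hg⟩ := su4_two_central ho hF S (B'.hyp.zz_mul hK) (B'.hyp.zz_ne hK) hS
  refine leaf_hasPieces (su_leaf2 ho hF) (KK hF).subtype B' ⟨K, hK, g, hg⟩ fun h1 h2 => ?_
  rw [D1_su] at h1
  simp only [D1_su] at h2
  obtain ⟨p, hp, c, hc⟩ := exists_chart_su ho hF (N := 4) (m := 2) (by norm_num) (by norm_num)
    (Or.inl rfl) _ B'.hyp.conj (r := (ee 2).symm (Sum.inl 0)) (s := (ee 2).symm (Sum.inl 1)) rfl rfl h1 h2
  exact ⟨p, hp, c, .C 2, hc, (by show 1 ≤ 2; norm_num), 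
    fun _ => lie_psu ho hp hF (by norm_num), Or.inr ⟨2, rfl⟩⟩

theorem psu5 (B : Base Om) (hc : SqCen Om) (e : G ≃* PSU 5 F q) : HasPieces Om := by
  have B' := B.map e
  obtain ⟨K, hK, S, hS⟩ := hc.map B e
  refine hasPieces_congr B.hyp e ?_
  obtain ⟨g, hg⟩ := su5_conj ho hF S (B'.hyp.zz_mul hK) (B'.hyp.zz_ne hK) hS (B'.hyp.le_centralizer hK)
    (B'.hyp.sub K hK) (oneInv_of_ty (B'.ty K hK)) (nonComm_of_ty (B'.ty K hK))
  refine leaf_hasPieces (su_leaf3 ho hF) (KK hF).subtype B' ⟨K, hK, g, hg⟩ fun h1 h2 => ?_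
  rw [D1_su] at h1
  simp only [D1_su] at h2
  obtain ⟨p, hp, c, hc⟩ := exists_chart_su ho hF (N := 5) (m := 2) (by norm_num) (by norm_num)
    (Or.inr rfl) _ B'.hyp.conj (r := (ee 3).symm (Sum.inl 0)) (s := (ee 3).symm (Sum.inl 1)) rfl rfl h1 h2
  exact ⟨p, hp, c, .C 2, hc, (by show 1 ≤ 2; norm_num), 
    fun _ => lie_psu ho hp hF (by norm_num), Or.inr ⟨2, rfl⟩⟩

end Final

/-! ### forms for the branches -/

section Branches

variable {G : Type*} [Group G] [Finite G] {Om : Set (Subgroup G)}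

theorem twoCen_of_one (h : One Om) (hne : Om.Nonempty) : TwoCen Om := by
  obtain ⟨K, hK⟩ := hne
  obtain ⟨S, hKS, -⟩ := h.hyp.exists_sylow hK
  exact twoCen_of_eq h.hyp S hKS fun J hJ => by rw [h.one _ S.isPGroup' J hJ K hKS]

theorem twoCen_of_allEq (hOm : Hyp Om) (hne : Om.Nonempty) (h : Branches.AllEq Om) : TwoCen Om := by
  obtain ⟨K, hK⟩ := hne
  obtain ⟨S, hKS, -⟩ := hOm.exists_sylow hK
  exact twoCen_of_eq hOm S hKS fun J hJ => h S J hJ K hKS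

theorem sqCen_of_card (hOm : Hyp Om) (hne : Om.Nonempty) (h : Branches.Card Om 2) : SqCen Om := by
  obtain ⟨K, hK⟩ := hne
  obtain ⟨S, hKS, -⟩ := hOm.exists_sylow hK
  exact sqCen_of_two hOm S hKS (h S).le

variable {F : Type} [Field F] [Fintype F] (ho : Odd (Fintype.card F)) {q : ℕ}
include ho

/-- **`|Om(S)| = 1`**, `PSL₃` -/
theorem one_psl3 (h : MinS Om) (h1 : One Om) (e : G ≃* ProjectiveSpecialLinearGroup (Fin 3) F) : HasPieces Om :=
  psl3 ho (base_of_minS h) (twoCen_of_one h1 h.ne) e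

/-- **`|Om(S)| = 1`**, `PSU₃` -/
theorem one_psu3 (h : MinS Om) (h1 : One Om) (hF : Fintype.card F = q ^ 2) (e : G ≃* PSU 3 F q) : HasPieces Om :=
  psu3 ho hF (base_of_minS h) (twoCen_of_one h1 h.ne) e

/-- **`|Om(S)| = 2`, `z₁ = z₂`**, `PSL₄` -/
theorem two_psl4 (h : MinS Om) (h1 : Branches.AllEq Om) (e : G ≃* ProjectiveSpecialLinearGroup (Fin 4) F) :
    HasPieces Om :=
  psl4 ho (base_of_minS h) (twoCen_of_allEq h.hyp h.ne h1) e

/-- **`|Om(S)| = 2`, `z₁ = z₂`**, `PSU₄` -/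
theorem two_psu4 (h : MinS Om) (h1 : Branches.AllEq Om) (hF : Fintype.card F = q ^ 2) (e : G ≃* PSU 4 F q) :
    HasPieces Om :=
  psu4 ho hF (base_of_minS h) (twoCen_of_allEq h.hyp h.ne h1) e

/-- **`|Om(S)| = 2`, `z₁ = z₂`**, `PSp₄` -/
theorem two_psp4 (h : MinS Om) (h1 : Branches.AllEq Om) (e : G ≃* PSp 2 F) : HasPieces Om :=
  psp4 ho (base_of_minS h) (twoCen_of_allEq h.hyp h.ne h1) e

/-- **`|Om(S)| = 2`**, `PSL₅` -/
theorem two_psl5 (h : MinS Om) (h1 : Branches.Card Om 2) (e : G ≃* ProjectiveSpecialLinearGroup (Fin 5) F) :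
    HasPieces Om :=
  psl5 ho (base_of_minS h) (sqCen_of_card h.hyp h.ne h1) e

/-- **`|Om(S)| = 2`**, `PSU₅` -/
theorem two_psu5 (h : MinS Om) (h1 : Branches.Card Om 2) (hF : Fintype.card F = q ^ 2) (e : G ≃* PSU 5 F q) :
    HasPieces Om :=
  psu5 ho hF (base_of_minS h) (sqCen_of_card h.hyp h.ne h1) e

end Branches

end Cfsg.Agent.Cit.LongLeafEnd
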