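import Cfsg.Agent.Cit.CoreTwoEq
import Cfsg.Agent.Cit.LongLeafEnd

/-!
# The branch `|Om(S)| = 2`, `z_K = z_L`, of THEOREM T: the leaves `PSL₄(q)`, `PSU₄(q)`, `PSp₄(q)`
-/

set_option autoImplicit false
set_option linter.style.haveILetI false
set_option linter.unusedSectionVars false

namespace Cfsg.Agent.Cit.CoreTwoEqLong

open Subgroup Cfsg Cfsg.Agent.Cit.CoreTwoEq
open Cfsg.Agent.Cit.TwoFK (TwoEq)

universe u

theorem odd_card_of_sq {F : Type*} [Fintype F] {q : ℕ} (h : Fintype.card F = q ^ 2) (hq : Odd q) :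
    Odd (Fintype.card F) := by
  rw [h]
  exact hq.pow

/-- **the leaves** -/
theorem longStmt : LongStmt.{u} := by
  intro G _ _ _ Om h hne hty hG
  obtain ⟨K, hK⟩ := id hne
  obtain ⟨S, -, hS⟩ := exists_sylow_central h hK
  have hc : LongLeafEnd.TwoCen Om := ⟨K, hK, S, hS⟩
  have hB : LongLeafEnd.Base Om := ⟨h.hyp, hty, hne, fun K hK J hJ => by
    obtain ⟨g, hg⟩ := h.cls K hK J hJ
    exact ⟨g, hg.symm⟩, inferInstance⟩
  rcases hG with ⟨F, i1, i2, ho, ⟨e⟩⟩ | ⟨F, i1, i2, q, hF, hq, ⟨e⟩⟩ | ⟨F, i1, i2, ho, ⟨e⟩⟩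
  · exact LongLeafEnd.psl4 ho hB hc e
  · exact LongLeafEnd.psu4 (odd_card_of_sq hF hq) hF hB hc e
  · exact LongLeafEnd.psp4 ho hB hc e

end Cfsg.Agent.Cit.CoreTwoEqLong
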