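import Cfsg.Agent.Cit.LongLeafEnd
import Cfsg.Agent.Cit.CoreTwoNe

/-!
# The input `FiveStmt` of `CoreTwoNe`: `PSL₅(q)`, `PSU₅(q)`
-/

set_option autoImplicit false

namespace Cfsg.Agent.Cit.LongLeafFive

open Subgroup Cfsg Cfsg.Agent.Cit.LongLeafEnd

universe u

theorem fiveStmt : CoreTwoNe.FiveStmt.{u} := by
  intro G _ _ Om h h2 h5
  have hc : Branches.Card Om 2 := h2.two
  rcases h5 with ⟨F, _, _, ho, ⟨e⟩⟩ | ⟨F, _, _, q, hF, ho, ⟨e⟩⟩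
  · exact two_psl5 ho h hc e
  · exact two_psu5 (by rw [hF]; exact ho.pow) h hc hF e

end Cfsg.Agent.Cit.LongLeafFive
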