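import Cfsg.Agent.Cit.Eleven

/-!
# The row `M₁₁` of the facts on `L` (classical involution theorem, `|Om(S)| = 2`, `z₁ ≠ z₂`)

`L` is a group with `h : IsoM11 L`, `z` an involution of `L`, `K₀` any subgroup with `QQ z ≤ K₀` (e.g. `SS z ≃ SL(2,3)`).

* `simple`, `conj_of_sq` (F2), `aut_eq_of_le` (F3), `outer` (F4, vacuous), `exists_comm` (F5), `pair`.
-/

set_option autoImplicit false

namespace Cfsg.Agent.Cit.ElevenFact

open Subgroup Matrix Cfsg.Agent.Cit.Eleven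

variable {L : Type*} [Group L]

theorem order_two {x : L} (h : x * x = 1) (h1 : x ≠ 1) : orderOf x = 2 :=
  orderOf_eq_prime (by rw [pow_two]; exact h) h1

theorem simple (h : Cfsg.Spor.IsoM11 L) : IsSimpleGroup L := (isM11 h).1

/-- (F2) -/
theorem conj_of_sq (h : Cfsg.Spor.IsoM11 L) {x y : L} (hx : x * x = 1) (hx1 : x ≠ 1) (hy : y * y = 1)
    (hy1 : y ≠ 1) : ∃ g : L, g * x * g⁻¹ = y :=
  isConj_iff.1 (isConj h (order_two hx hx1) (order_two hy hy1))

/-- (F3) -/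
theorem aut_eq_of_le (h : Cfsg.Spor.IsoM11 L) {z : L} (hz : z * z = 1) (hz1 : z ≠ 1) {K : Subgroup L}
    (hK : QQ z ≤ K) (a : MulAut L) (ha : ∀ x ∈ K, a x = x) : a = 1 ∨ a = MulAut.conj z :=
  aut_eq h (order_two hz hz1) a fun x hx => ha x (hK hx)

/-- (F3) for `K₀ = SS z` -/
theorem aut_eq_SS (h : Cfsg.Spor.IsoM11 L) {z : L} (hz : z * z = 1) (hz1 : z ≠ 1)
    (a : MulAut L) (ha : ∀ x ∈ SS z, a x = x) : a = 1 ∨ a = MulAut.conj z :=
  aut_eq_of_le h hz hz1 (QQ_le_SS h (order_two hz hz1)) a ha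

/-- (F4) : there are no outer automorphisms -/
theorem outer (h : Cfsg.Spor.IsoM11 L) {a : MulAut L} (ha : ∀ g : L, a ≠ MulAut.conj g) : False := by
  obtain ⟨g, hg⟩ := aut_inner h a
  exact ha g hg

/-- (F5) -/
theorem exists_comm (h : Cfsg.Spor.IsoM11 L) {z : L} (hz : z * z = 1) (hz1 : z ≠ 1) :
    ∃ t : L, t * t = 1 ∧ t ≠ 1 ∧ t ≠ z ∧ t * z = z * t := by
  have hz' := order_two hz hz1
  obtain ⟨e⟩ := nonempty_equiv h hz'
  have hdd : ∃ d : X, d * d = 1 ∧ d ≠ 1 ∧ d ≠ -1 :=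
    ⟨⟨!![1, 0; 0, -1], !![1, 0; 0, -1], by decide, by decide⟩, by
      refine ⟨?_, ?_, ?_⟩
      · ext i j; fin_cases i <;> fin_cases j <;> decide
      · intro h; have := congrArg (fun x : X => x.1 1 1) h; revert this; decide
      · intro h; have := congrArg (fun x : X => x.1 0 0) h; revert this; decide⟩
  obtain ⟨d, h1, h2, h3⟩ := hdd
  refine ⟨(e.symm d : L), ?_, ?_, ?_, mem_cent.1 (e.symm d).2⟩
  · have := congrArg Subtype.val (congrArg e.symm h1)
    simpa using this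
  · intro h4
    apply h2
    have h5 : e.symm d = 1 := Subtype.ext h4
    rw [← map_one e.symm] at h5
    exact e.symm.injective h5
  · intro h4
    apply h3
    have h5 : e.symm d = ⟨z, self_mem z⟩ := Subtype.ext h4
    rw [← equiv_z hz' e, ← h5, e.apply_symm_apply]

/-- ordered pairs of distinct commuting involutions are conjugate -/
theorem pair (h : Cfsg.Spor.IsoM11 L) {x y x' y' : L} (hx : x * x = 1) (hx1 : x ≠ 1) (hy : y * y = 1)
    (hy1 : y ≠ 1) (hxy : x ≠ y) (hc : x * y = y * x) (hx' : x' * x' = 1) (hx1' : x' ≠ 1)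
    (hy' : y' * y' = 1) (hy1' : y' ≠ 1) (hxy' : x' ≠ y') (hc' : x' * y' = y' * x') :
    ∃ g : L, g * x * g⁻¹ = x' ∧ g * y * g⁻¹ = y' := by
  obtain ⟨g, hg⟩ := conj_of_sq h hx hx1 hx' hx1'
  have hinj : ∀ a b : L, g * a * g⁻¹ = g * b * g⁻¹ → a = b := fun a b hab => by
    simpa using hab
  have h1 : (g * y * g⁻¹) * (g * y * g⁻¹) = 1 := by
    calc _ = g * (y * y) * g⁻¹ := by group
      _ = 1 := by rw [hy]; group
  have h2 : g * y * g⁻¹ ≠ 1 := fun h3 => hy1 (hinj _ _ (by rw [h3]; group))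
  have h3 : g * y * g⁻¹ ≠ x' := fun h4 => hxy (hinj _ _ (by rw [h4, hg]))
  have h4 : (g * y * g⁻¹) * x' = x' * (g * y * g⁻¹) := by
    rw [← hg]
    calc _ = g * (y * x) * g⁻¹ := by group
      _ = g * (x * y) * g⁻¹ := by rw [hc]
      _ = _ := by group
  obtain ⟨k, hk, hky⟩ := exists_conj_eq h (order_two hx' hx1') (order_two h1 h2) h4 h3
    (order_two hy' hy1') hc'.symm (Ne.symm hxy')
  have h5 : k * x' = x' * k := mem_cent.1 (SS_le x' hk)
  refine ⟨k * g, ?_, ?_⟩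
  · calc k * g * x * (k * g)⁻¹ = k * (g * x * g⁻¹) * k⁻¹ := by group
      _ = x' := by rw [hg, h5]; group
  · calc k * g * y * (k * g)⁻¹ = k * (g * y * g⁻¹) * k⁻¹ := by group
      _ = y' := hky

end Cfsg.Agent.Cit.ElevenFact
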