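import Cfsg.Agent.Cit.LongModel
import Cfsg.Agent.S0281
import Cfsg.Agent.LieClassical.SUBasic
import Cfsg.Agent.LieClassical.HermPerfect
import Cfsg.Agent.LieClassical.HermSimple

/-!
# `F(L)` for `PSL_n(F)` and `PSU_n(q)`, `n = 3, 4, 5`
-/

set_option autoImplicit false

namespace Cfsg.Agent.Cit.LongInst

open Subgroup Cfsg Matrix Cfsg.Agent.Cit.LongAbs Cfsg.Agent.Cit.LongBlock Cfsg.Agent.Cit.LongQuot
  Cfsg.Agent.Cit.LongMain Cfsg.Agent.Cit.LongModel Cfsg.Agent.LieClassical.HermBasic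

section Mk

variable {Γ : Type*} [Group Γ] {F : Type*} [Field F] {κ : Type*} [Fintype κ] [DecidableEq κ]
  {μ : Type*} [Fintype μ] [DecidableEq μ]
variable {ι : Type*} [Fintype ι] [DecidableEq ι]

/-- reindexed representation -/
def rho (e : ι ≃ μ ⊕ κ) (f : Γ →* SpecialLinearGroup ι F) :
    Γ →* Matrix (μ ⊕ κ) (μ ⊕ κ) F where
  toFun g := (f g).1.submatrix e.symm e.symm
  map_one' := by rw [map_one]; exact submatrix_one_equiv e.symm
  map_mul' g h := by
    rw [map_mul]
    exact (submatrix_mul_equiv (f g).1 (f h).1 e.symm e.symm e.symm).symm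

theorem rho_apply (e : ι ≃ μ ⊕ κ) (f : Γ →* SpecialLinearGroup ι F) (g : Γ) :
    rho e f g = (f g).1.submatrix e.symm e.symm := rfl

theorem rho_eq_iff {e : ι ≃ μ ⊕ κ} {f : Γ →* SpecialLinearGroup ι F} {g : Γ}
    {M : Matrix (μ ⊕ κ) (μ ⊕ κ) F} : rho e f g = M ↔ (f g).1 = M.submatrix e e := by
  constructor
  · rintro rfl
    simp [rho_apply]
  · intro h
    rw [rho_apply, h]
    simp

/-- the `Rep` from an embedding in `SL` -/
def mkRep (e : ι ≃ μ ⊕ κ) (f : Γ →* SpecialLinearGroup ι F) (hf : Function.Injective f)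
    (cen : ∀ g ∈ center Γ, ∃ c : F, (f g).1 = c • 1) (t : Γ)
    (ht : (f t).1 = (fromBlocks (-1) 0 0 1 : Matrix (μ ⊕ κ) (μ ⊕ κ) F).submatrix e e) : RepG Γ F μ κ where
  ρ := rho e f
  inj := by
    intro g h hgh
    apply hf
    apply Subtype.ext
    have h1 := (rho_eq_iff (e := e) (f := f) (g := g)).1 hgh
    rw [h1, rho_apply]
    simp
  cen := by
    intro g hg
    obtain ⟨c, hc⟩ := cen g hg
    refine ⟨c, rho_eq_iff.2 ?_⟩
    rw [hc]
    ext i j
    simp [Matrix.one_apply]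
  t := t
  t_eq := rho_eq_iff.2 ht

theorem mkRep_model (T : Set (F →+* F)) (e : ι ≃ μ ⊕ κ) (f : Γ →* SpecialLinearGroup ι F)
    (hf : Function.Injective f) (cen) (t : Γ) (ht)
    (hr : ∀ A : SpecialLinearGroup ι F, A ∈ f.range ↔ Cond T A.1) :
    Model (mkRep e f hf cen t ht) T := by
  intro M
  have h0 : Cond T (M.submatrix e e) ↔ Cond T M := by
    have := cond_reindex (T := T) e.symm (M := M)
    simpa using this
  constructor
  · rintro ⟨g, hg⟩
    have h1 : (f g).1 = M.submatrix e e := rho_eq_iff.1 hg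
    rw [← h0, ← h1]
    exact (hr _).1 ⟨g, rfl⟩
  · intro hM
    have h1 : Cond T (M.submatrix e e) := h0.2 hM
    obtain ⟨g, hg⟩ := (hr ⟨M.submatrix e e, h1.1⟩).2 h1
    exact ⟨g, rho_eq_iff.2 (by rw [hg])⟩

end Mk

/-! ### `SL` -/

section SL

variable (F : Type*) [Field F] (k : ℕ)

/-- the index equivalence -/
def ee : Fin (2 + k) ≃ Fin 2 ⊕ Fin k := finSumFinEquiv.symm

/-- `diag(-1,-1,1,…)` -/
def tt : SpecialLinearGroup (Fin (2 + k)) F :=
  ⟨(fromBlocks (-1) 0 0 1 : Matrix (Fin 2 ⊕ Fin k) (Fin 2 ⊕ Fin k) F).submatrix (ee k) (ee k), by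
    rw [det_submatrix_equiv_self, det_fromBlocks_zero₂₁, det_one, mul_one, det_neg]
    simp⟩

theorem sl_cen (g : SpecialLinearGroup (Fin (2 + k)) F)
    (hg : g ∈ center (SpecialLinearGroup (Fin (2 + k)) F)) : ∃ c : F, g.1 = c • 1 := by
  rw [Matrix.SpecialLinearGroup.mem_center_iff] at hg
  obtain ⟨c, -, hc⟩ := hg
  exact ⟨c, by rw [← hc]; ext i j; simp [Matrix.scalar_apply, Matrix.diagonal_apply, Matrix.one_apply]⟩

/-- `SL_{2+k}(F)` -/
def slRep : Rep (SpecialLinearGroup (Fin (2 + k)) F) F (Fin k) :=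
  mkRep (ee k) (MonoidHom.id _) Function.injective_id (sl_cen F k) (tt F k) rfl

theorem slRep_model : Model (slRep F k) ∅ := by
  refine mkRep_model ∅ _ _ _ _ _ _ fun A => ?_
  constructor
  · intro _
    exact ⟨A.2, fun t ht => absurd ht (Set.notMem_empty t)⟩
  · intro _
    exact ⟨A, rfl⟩

theorem un_empty (ι : Type*) [Fintype ι] [DecidableEq ι] : Un (∅ : Set (F →+* F)) ι = ⊤ := by
  rw [eq_top_iff]
  intro A _
  exact ⟨A.2, fun t ht => absurd ht (Set.notMem_empty t)⟩

theorem un_empty_equiv (ι : Type*) [Fintype ι] [DecidableEq ι] :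
    Nonempty (Un (∅ : Set (F →+* F)) ι ≃* SpecialLinearGroup ι F) := by
  rw [un_empty]; exact ⟨Subgroup.topEquiv⟩

/-- a quaternion pair for `SL` -/
theorem exists_quat [Fintype F] : ∃ a b : F, Quat (∅ : Set (F →+* F)) a b := by
  obtain ⟨p, hp⟩ := CharP.exists F
  have hp0 : NeZero p := ⟨by
    rintro rfl
    have := (CharP.charP_zero_iff_charZero F).1 hp
    exact not_finite F⟩
  obtain ⟨a, b, hab⟩ := CharP.sq_add_sq F p (-1)
  refine ⟨a, b, ?_, fun t ht => absurd ht (Set.notMem_empty t)⟩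
  rw [← pow_two, ← pow_two, hab]
  simp

theorem three_eq_zero {F : Type*} [Field F] [Fintype F] (h : Fintype.card F = 3) : (3 : F) = 0 := by
  have := FiniteField.cast_card_eq_zero F
  rw [h] at this
  exact_mod_cast this

/-- centre of `SL_3`, `|F| = 3` -/
theorem un3_center {F : Type*} [Field F] {T : Set (F →+* F)} (h3 : (3 : F) = 0)
    (hc : ∀ A ∈ center (Un T (Fin 3)), ∃ c : F, A.1.1 = c • 1) : center (Un T (Fin 3)) = ⊥ := by
  rw [eq_bot_iff]
  intro A hA
  obtain ⟨c, hc⟩ := hc A hA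
  have h1 : A.1.1.det = 1 := A.1.2
  rw [hc, det_smul, det_one, mul_one, Fintype.card_fin, pow_succ, pow_two] at h1
  rw [mem_bot]
  apply Subtype.ext; apply Subtype.ext
  rw [hc, eq_one_of_cube h3 h1, one_smul]
  rfl

/-- an involution in `Un T (Fin 3)` -/
theorem un3_even {F : Type*} [Field F] [Finite F] {T : Set (F →+* F)} (h2 : (2 : F) ≠ 0) :
    Even (Nat.card (Un T (Fin 3))) := by
  have h1 : (Un.mk (cond_V1 T)) ≠ (1 : Un T (Fin 3)) := by
    intro h
    have h3 : (V1 F) 0 0 = (1 : Matrix (Fin 3) (Fin 3) F) 0 0 := by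
      have := congrArg (fun A : Un T (Fin 3) => (A.1.1 : Matrix (Fin 3) (Fin 3) F) 0 0) h
      exact this
    simp [V1] at h3
    apply h2
    have : (1 : F) + 1 = 0 := by nth_rewrite 1 [← h3]; ring
    rw [← this]; norm_num
  have h3 : (Un.mk (cond_V1 T)) ^ 2 = (1 : Un T (Fin 3)) := by
    rw [pow_two]
    apply Subtype.ext; apply Subtype.ext
    exact V1_sq
  have h4 : orderOf (Un.mk (cond_V1 T)) = 2 := orderOf_eq_prime h3 h1
  have h5 := orderOf_dvd_natCard (Un.mk (cond_V1 T))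
  rw [h4] at h5
  exact even_iff_two_dvd.2 h5

end SL

/-! ### `Good` for models -/

section Good

variable {Γ : Type*} [Group Γ] {F : Type*} [Field F] {T : Set (F →+* F)}
  {F1 : Type*} [Field F1] [Fintype F1]

theorem good1 {R : Rep Γ F (Fin 1)} (hR : WModel R T) {a b : F} (h2 : (2 : F) ≠ 0) (h : Quat T a b)
    (ho : Odd (Fintype.card F1)) (e : Nonempty (Un T (Fin 2) ≃* SpecialLinearGroup (Fin 2) F1))
    (h3 : Fintype.card F1 = 3 → (3 : F) = 0) : Good R F1 where
  two := h2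
  ne := ⟨0⟩
  odd := ho
  e1 := by
    obtain ⟨f⟩ := hR.equiv1
    obtain ⟨e⟩ := e
    exact ⟨f.trans e⟩
  alt := by
    right; right
    rw [eq_bot_iff]
    rintro x ⟨S, hS⟩
    rw [mem_bot]
    apply R.inj
    have h1 := (hR.right x S hS).1
    rw [det_fin_one] at h1
    rw [hS, map_one, ← fromBlocks_one]
    congr 1
    ext i j
    fin_cases i; fin_cases j
    simpa using h1
  big := hR.big1 h2 h
  split := hR.split
  char3 := h3

theorem good2 {R : Rep Γ F (Fin 2)} (hR : WModel R T) {a b : F} (h2 : (2 : F) ≠ 0) (h : Quat T a b)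
    (ho : Odd (Fintype.card F1)) (e : Nonempty (Un T (Fin 2) ≃* SpecialLinearGroup (Fin 2) F1))
    (h3 : Fintype.card F1 = 3 → (3 : F) = 0) : Good R F1 where
  two := h2
  ne := ⟨0⟩
  odd := ho
  e1 := by
    obtain ⟨f⟩ := hR.equiv1
    obtain ⟨e⟩ := e
    exact ⟨f.trans e⟩
  alt := by
    left
    obtain ⟨f⟩ := hR.equiv2
    obtain ⟨e⟩ := e
    exact ⟨f.trans e⟩
  big := hR.big2 h2 h
  split := hR.split
  char3 := h3

theorem good3 [Finite F] {R : Rep Γ F (Fin 3)} (hR : WModel R T) {a b : F} (h2 : (2 : F) ≠ 0)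
    (h : Quat T a b)
    (ho : Odd (Fintype.card F1)) (e : Nonempty (Un T (Fin 2) ≃* SpecialLinearGroup (Fin 2) F1))
    (hq : IsQuasisimple (Un T (Fin 3)))
    (hc : ∀ A ∈ center (Un T (Fin 3)), ∃ c : F, A.1.1 = c • 1)
    (h3 : Fintype.card F1 = 3 → (3 : F) = 0) : Good R F1 where
  two := h2
  ne := ⟨0⟩
  odd := ho
  e1 := by
    obtain ⟨f⟩ := hR.equiv1
    obtain ⟨e⟩ := e
    exact ⟨f.trans e⟩
  alt := by
    right; left
    obtain ⟨f⟩ := hR.equiv2
    refine ⟨SignalizersComponents.ComponentNormalize.quasisimple_congr f.symm hq, ?_, ?_, fun h4 =>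
      center_eq_bot_congr f.symm (un3_center (h3 h4) hc)⟩
    · rw [Nat.card_congr f.toEquiv]
      exact un3_even h2
    · rintro ⟨g, hg⟩
      have h1 := (hR.right g _ hg).1
      rw [det_neg, det_one, Fintype.card_fin] at h1
      apply h2
      have h4 : (-1 : F) = 1 := by simpa [pow_succ] using h1
      have : (1 : F) + 1 = 0 := by nth_rewrite 1 [← h4]; ring
      rw [← this]; norm_num
  big := hR.big3 h2 h
  split := hR.split
  char3 := h3

end Good

section SLGood

variable {F : Type*} [Field F] [Fintype F] (ho : Odd (Fintype.card F))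
include ho

theorem sl_good1 : Good (slRep F 1) F := by
  obtain ⟨a, b, h⟩ := exists_quat F
  exact good1 (slRep_model F 1).toW (SignalizersComponents.SLQuasisimple.two_ne_zero_of_odd ho) h ho
    (un_empty_equiv F _) three_eq_zero

theorem sl_good2 : Good (slRep F 2) F := by
  obtain ⟨a, b, h⟩ := exists_quat F
  exact good2 (slRep_model F 2).toW (SignalizersComponents.SLQuasisimple.two_ne_zero_of_odd ho) h ho
    (un_empty_equiv F _) three_eq_zero

theorem sl_good3 : Good (slRep F 3) F := by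
  obtain ⟨a, b, h⟩ := exists_quat F
  obtain ⟨e⟩ := un_empty_equiv F (Fin 3)
  refine good3 (slRep_model F 3).toW (SignalizersComponents.SLQuasisimple.two_ne_zero_of_odd ho) h ho
    (un_empty_equiv F _) ?_ ?_ three_eq_zero
  · exact SignalizersComponents.ComponentNormalize.quasisimple_congr e.symm
      (SignalizersComponents.SLQuasisimple.isQuasisimple_of_three_le (by simp))
  · intro A hA
    have h1 : (A : SpecialLinearGroup (Fin 3) F) ∈ center (SpecialLinearGroup (Fin 3) F) := by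
      rw [mem_center_iff]
      intro g
      have h2 : g ∈ Un (∅ : Set (F →+* F)) (Fin 3) := by rw [un_empty]; exact mem_top g
      exact congrArg Subtype.val (mem_center_iff.1 hA ⟨g, h2⟩)
    exact sl_cen F 1 _ h1

end SLGood

section SU

variable {F : Type*} [Field F] [Fintype F] {q : ℕ} (hF : Fintype.card F = q ^ 2)

/-- `x ↦ x ^ q` -/
def cj : F →+* F := (conj hF).toRingHom

theorem cj_apply (x : F) : cj hF x = x ^ q := rfl

theorem herm_eq (n : ℕ) (u v : Fin n → F) : hermForm n F q u v = u ⬝ᵥ (fun i => cj hF (v i)) := rfl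

theorem su_cond {n : ℕ} (A : SpecialLinearGroup (Fin n) F) :
    A ∈ SU n F q ↔ Cond {cj hF} A.1 := by
  have key : ∀ u v : Fin n → F, hermForm n F q (A.1 *ᵥ u) (A.1 *ᵥ v) =
      u ⬝ᵥ ((A.1ᵀ * A.1.map (cj hF)) *ᵥ (fun i => cj hF (v i))) := by
    intro u v
    rw [herm_eq hF]
    have h1 : (fun i => cj hF ((A.1 *ᵥ v) i)) = (A.1.map (cj hF)) *ᵥ (fun i => cj hF (v i)) := by
      funext i
      simp only [mulVec, dotProduct, map_sum, map_mul, Matrix.map_apply]
    rw [h1, ← mulVec_mulVec, dotProduct_mulVec u, vecMul_transpose]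
  constructor
  · intro h
    refine ⟨A.2, fun t ht => ?_⟩
    rw [Set.mem_singleton_iff.1 ht]
    ext i j
    have h1 := (mem_SU_iff A).1 h (Pi.single i 1) (Pi.single j 1)
    have h2 := key (Pi.single i 1) (Pi.single j 1)
    have h3 : ∀ j : Fin n, (fun k => cj hF ((Pi.single j (1 : F) : Fin n → F) k)) = Pi.single j 1 := by
      intro j
      funext k
      rcases eq_or_ne k j with rfl | hk
      · simp
      · simp [hk]
    have h6 : Pi.single i (1 : F) ⬝ᵥ ((A.1ᵀ * A.1.map (cj hF)) *ᵥ Pi.single j 1) =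
        (A.1ᵀ * A.1.map (cj hF)) i j := by
      rw [single_one_dotProduct, mulVec_single_one]; rfl
    rw [h3, h6] at h2
    have h4 : hermForm n F q (Pi.single i 1) (Pi.single j 1) = (1 : Matrix (Fin n) (Fin n) F) i j := by
      rw [herm_eq hF, h3, single_one_dotProduct, Matrix.one_apply, Pi.single_apply]
    exact h2.symm.trans (h1.trans h4)
  · intro h
    rw [mem_SU_iff]
    intro u v
    rw [key, h.2 _ (Set.mem_singleton _), one_mulVec]
    rfl

theorem un_cj (n : ℕ) : Un {cj hF} (Fin n) = SU n F q := by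
  ext A
  exact (su_cond hF A).symm

omit [Field F] in
include hF in
theorem odd_q (ho : Odd (Fintype.card F)) : Odd q := by
  rw [hF, pow_two, Nat.odd_mul] at ho
  exact ho.1

/-- the fixed field -/
abbrev KK : Subfield F := RingHom.eqLocusField (cj hF) (RingHom.id F)

theorem mem_KK {x : F} : x ∈ KK hF ↔ x ^ q = x := Iff.rfl

noncomputable instance : Fintype (KK hF) := Fintype.ofFinite _

theorem card_KK : Fintype.card (KK hF) = q := by
  rw [← Nat.card_eq_fintype_card]
  exact card_fixed hF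

/-- a quaternion pair for `SU` -/
theorem exists_quat_su (ho : Odd (Fintype.card F)) : ∃ a b : F, Quat ({cj hF} : Set (F →+* F)) a b := by
  obtain ⟨θ, hθ, hθ'⟩ := exists_trace_zero_ne hF
  have hθq : θ ^ q = -θ := by linear_combination hθ'
  have h2 : θ ^ 2 ∈ KK hF := by
    rw [mem_KK, ← pow_mul, mul_comm, pow_mul, hθq, neg_sq]
  let c : KK hF := ⟨θ ^ 2, h2⟩
  have hc : c ≠ 0 := by
    intro h
    have : θ ^ 2 = 0 := congrArg Subtype.val h
    exact hθ (pow_eq_zero_iff (by norm_num) |>.1 this)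
  obtain ⟨x, y, hxy⟩ := FiniteField.exists_root_sum_quadratic
    (f := Polynomial.C c * Polynomial.X ^ 2) (g := Polynomial.C c * Polynomial.X ^ 2 + Polynomial.C 1)
    (by rw [Polynomial.degree_C_mul_X_pow 2 hc]; rfl)
    (by
      rw [Polynomial.degree_add_eq_left_of_degree_lt]
      · rw [Polynomial.degree_C_mul_X_pow 2 hc]; rfl
      · rw [Polynomial.degree_C_mul_X_pow 2 hc, Polynomial.degree_C one_ne_zero]
        norm_num)
    (by rw [card_KK]; exact Nat.odd_iff.1 (odd_q hF ho))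
  simp only [Polynomial.eval_mul, Polynomial.eval_C, Polynomial.eval_pow, Polynomial.eval_X,
    Polynomial.eval_add] at hxy
  have h3 : θ ^ 2 * (x : F) ^ 2 + (θ ^ 2 * (y : F) ^ 2 + 1) = 0 := congrArg Subtype.val hxy
  refine ⟨θ * x, θ * y, by linear_combination h3, fun t ht => ?_⟩
  rw [Set.mem_singleton_iff.1 ht]
  have hx : cj hF (x : F) = x := x.2
  have hy : cj hF (y : F) = y := y.2
  have h4 : cj hF θ = -θ := hθq
  rw [map_mul, map_mul, hx, hy, h4]
  constructor <;> ring

theorem un2_equiv : Nonempty (Un ({cj hF} : Set (F →+* F)) (Fin 2) ≃* SpecialLinearGroup (Fin 2) (KK hF)) := by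
  rw [un_cj]
  exact Cfsg.Agent.S0281.result hF (card_KK hF)

include hF in
theorem su_cen {n : ℕ} (hn : 3 ≤ n) (A : SU n F q) (hA : A ∈ center (SU n F q)) :
    ∃ c : F, A.1.1 = c • 1 := by
  obtain ⟨c, h1, h2, rfl⟩ := (Cfsg.Agent.LieClassical.SUBasic.mem_center_SU_iff hF hn A).1 hA
  refine ⟨c, ?_⟩
  change Matrix.diagonal (fun _ => c) = c • 1
  ext i j
  simp [Matrix.diagonal_apply, Matrix.one_apply]

theorem un3_quasisimple (ho : Odd (Fintype.card F)) :
    IsQuasisimple (Un ({cj hF} : Set (F →+* F)) (Fin 3)) := by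
  rw [un_cj]
  have h32 : ¬ (3 = 3 ∧ q = 2) := by
    rintro ⟨-, rfl⟩
    exact absurd (odd_q hF ho) (by decide)
  exact ⟨⟨LieClassical.HermPerfect.commutator_SU_eq_top hF le_rfl h32⟩,
    LieClassical.HermSimple.isSimpleGroup_of_perfect hF le_rfl
      (LieClassical.HermPerfect.commutator_SU_eq_top hF le_rfl h32)⟩

theorem un3_cen (A) (hA : A ∈ center (Un ({cj hF} : Set (F →+* F)) (Fin 3))) :
    ∃ c : F, A.1.1 = c • 1 := by
  have h0 := un_cj hF 3
  revert A
  rw [h0]
  exact su_cen hF le_rfl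

include hF in
theorem three_su (h : Fintype.card (KK hF) = 3) : (3 : F) = 0 := by
  rw [card_KK] at h
  have := FiniteField.cast_card_eq_zero F
  rw [hF, h] at this
  have h1 : (3 : F) ^ 2 = 0 := by exact_mod_cast this
  exact pow_eq_zero_iff (by norm_num) |>.1 h1

/-- `diag(-1,-1,1,…)` in `SU` -/
def su_t (k : ℕ) : SU (2 + k) F q := ⟨tt F k, by
  rw [su_cond hF]
  change Cond {cj hF} ((fromBlocks (-1) 0 0 1 : Matrix (Fin 2 ⊕ Fin k) (Fin 2 ⊕ Fin k) F).submatrix
    (ee k) (ee k))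
  have h1 : Cond {cj hF} (-1 : Matrix (Fin 2) (Fin 2) F) := by
    refine ⟨by rw [det_neg]; simp, fun t _ => ?_⟩
    ext i j
    fin_cases i <;> fin_cases j <;> simp
  exact (cond_reindex (ee k).symm).2 (h1.fromBlocks (Cond.one _))⟩

/-- `SU_{2+k}(q)` -/
def suRep (k : ℕ) (hk : 1 ≤ k) : Rep (SU (2 + k) F q) F (Fin k) :=
  mkRep (ee k) (SU (2 + k) F q).subtype (SU (2 + k) F q).subtype_injective
    (su_cen hF (by omega)) (su_t hF k) rfl

theorem suRep_model (k : ℕ) (hk : 1 ≤ k) : Model (suRep hF k hk) {cj hF} := by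
  refine mkRep_model _ _ _ _ _ _ _ fun A => ?_
  rw [← su_cond, Subgroup.range_subtype]

variable (ho : Odd (Fintype.card F))
include ho

theorem odd_KK : Odd (Fintype.card (KK hF)) := by
  rw [card_KK]; exact odd_q hF ho

theorem su_good1 : Good (suRep hF 1 le_rfl) (KK hF) := by
  obtain ⟨a, b, h⟩ := exists_quat_su hF ho
  exact good1 (suRep_model hF 1 le_rfl).toW (SignalizersComponents.SLQuasisimple.two_ne_zero_of_odd ho) h
    (odd_KK hF ho) (un2_equiv hF) (three_su hF)

theorem su_good2 : Good (suRep hF 2 (by norm_num)) (KK hF) := by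
  obtain ⟨a, b, h⟩ := exists_quat_su hF ho
  exact good2 (suRep_model hF 2 _).toW (SignalizersComponents.SLQuasisimple.two_ne_zero_of_odd ho) h
    (odd_KK hF ho) (un2_equiv hF) (three_su hF)

theorem su_good3 : Good (suRep hF 3 (by norm_num)) (KK hF) := by
  obtain ⟨a, b, h⟩ := exists_quat_su hF ho
  exact good3 (suRep_model hF 3 _).toW (SignalizersComponents.SLQuasisimple.two_ne_zero_of_odd ho) h
    (odd_KK hF ho) (un2_equiv hF) (un3_quasisimple hF ho) (un3_cen hF) (three_su hF)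

end SU

end Cfsg.Agent.Cit.LongInst
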