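import Mathlib
import Cfsg.Agent.Cit.TwoB.LFact
import Cfsg.Agent.Cit.LongInst
import Cfsg.Agent.Cit.ParabSL2
import Cfsg.Agent.ClassicalGeometry.AutPSL.Main
import Cfsg.Agent.GH.Cov.LieL4

/-!
# `LFact` for `PSL_3(F)`, `F` finite of odd characteristic
-/

set_option autoImplicit false

namespace Cfsg.Agent.CitLFactSL

open Matrix Cfsg Cfsg.Agent.Cit.TwoB
open Cfsg.Agent.Cit.LongQuot (D1 z0)
open Cfsg.Agent.Cit.LongInst (slRep ee)
open Cfsg.Agent.ClassicalGeometry.AutPSL.Root Cfsg.Agent.ClassicalGeometry.AutPSL.Auto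
open Cfsg.Agent.ClassicalGeometry.AutPSL.Main

variable {F : Type*} [Field F]

/-- `diag(-1,-1,1)` -/
def zz (F : Type*) [Field F] : SpecialLinearGroup (Fin 3) F := ⟨diagonal ![-1, -1, 1], by
  rw [det_diagonal, Fin.prod_univ_three]; simp⟩

/-- `diag(1,-1,-1)` -/
def ww (F : Type*) [Field F] : SpecialLinearGroup (Fin 3) F := ⟨diagonal ![1, -1, -1], by
  rw [det_diagonal, Fin.prod_univ_three]; simp⟩

theorem zz_val : (zz F).1 = diagonal ![-1, -1, 1] := rfl
theorem ww_val : (ww F).1 = diagonal ![1, -1, -1] := rfl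

theorem ee_zero : (ee 1) 0 = Sum.inl 0 := rfl
theorem ee_one : (ee 1) 1 = Sum.inl 1 := rfl
theorem ee_two : (ee 1) 2 = Sum.inr 0 := rfl

theorem tt_eq : Cfsg.Agent.Cit.LongInst.tt F 1 = zz F := by
  apply Subtype.ext
  rw [zz_val]
  show (fromBlocks (-1) 0 0 1 : Matrix (Fin 2 ⊕ Fin 1) (Fin 2 ⊕ Fin 1) F).submatrix (ee 1) (ee 1) = _
  ext i j
  fin_cases i <;> fin_cases j <;> simp [ee_zero, ee_one, ee_two]

theorem zz_sq : zz F * zz F = 1 := by
  apply Subtype.ext
  show diagonal ![(-1 : F), -1, 1] * diagonal ![(-1 : F), -1, 1] = 1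
  rw [diagonal_mul_diagonal]
  ext i j
  fin_cases i <;> fin_cases j <;> simp

theorem ww_sq : ww F * ww F = 1 := by
  apply Subtype.ext
  show diagonal ![(1 : F), -1, -1] * diagonal ![(1 : F), -1, -1] = 1
  rw [diagonal_mul_diagonal]
  ext i j
  fin_cases i <;> fin_cases j <;> simp

theorem z0_eq : z0 (slRep F 1) = pr (zz F) := by
  rw [← tt_eq]; rfl

/-- block matrices with third diagonal entry `1` lie in `E1` -/
theorem mem_E1 {g : SpecialLinearGroup (Fin 3) F} (h02 : g.1 0 2 = 0) (h12 : g.1 1 2 = 0) (h20 : g.1 2 0 = 0)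
    (h21 : g.1 2 1 = 0) (h22 : g.1 2 2 = 1) : g ∈ (slRep F 1).E1 := by
  refine ⟨!![g.1 0 0, g.1 0 1; g.1 1 0, g.1 1 1], ?_⟩
  show g.1.submatrix (ee 1).symm (ee 1).symm = _
  have e0 : (ee 1).symm (Sum.inl 0) = 0 := rfl
  have e1 : (ee 1).symm (Sum.inl 1) = 1 := rfl
  have e2 : (ee 1).symm (Sum.inr 0) = 2 := rfl
  ext i j
  rcases i with i | i <;> rcases j with j | j <;> fin_cases i <;> fin_cases j <;>
    simp [e0, e1, e2, h02, h12, h20, h21, h22]

theorem h01 : (0 : Fin 3) ≠ 1 := by decide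
theorem h10 : (1 : Fin 3) ≠ 0 := by decide
theorem h02 : (0 : Fin 3) ≠ 2 := by decide
theorem h21 : (2 : Fin 3) ≠ 1 := by decide

/-- transvections -/
abbrev tv {i j : Fin 3} (hij : i ≠ j) (c : F) : SpecialLinearGroup (Fin 3) F :=
  SpecialLinearGroup.transvection hij c

theorem tv_val {i j : Fin 3} (hij : i ≠ j) (c : F) : (tv hij c).1 = 1 + single i j c := rfl

theorem tv_mem_E1 (c : F) : tv h01 c ∈ (slRep F 1).E1 := by
  apply mem_E1 <;> rw [tv_val] <;> simp [single_apply]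

theorem tv_mem_E1' (c : F) : tv h10 c ∈ (slRep F 1).E1 := by
  apply mem_E1 <;> rw [tv_val] <;> simp [single_apply]

theorem gl_det_ne (A : GL (Fin 3) F) : (A : Matrix (Fin 3) (Fin 3) F).det ≠ 0 :=
  ((Matrix.isUnit_iff_isUnit_det _).1 A.isUnit).ne_zero

/-- The centraliser of the elementary matrices of the block. -/
theorem diag_of_comm {A : GL (Fin 3) F} {σ : F ≃+* F}
    (h1 : ∀ t, (A : Matrix (Fin 3) (Fin 3) F) * single 0 1 (σ t) = single 0 1 t * (A : Matrix (Fin 3) (Fin 3) F))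
    (h2 : (A : Matrix (Fin 3) (Fin 3) F) * single 1 0 1 = single 1 0 1 * (A : Matrix (Fin 3) (Fin 3) F)) :
    ∃ s μ : F, s ≠ 0 ∧ μ ≠ 0 ∧ (A : Matrix (Fin 3) (Fin 3) F) = diagonal ![s, s, μ] ∧ σ = RingEquiv.refl F := by
  have e1 := h1 1
  rw [map_one] at e1
  have a00 := congrFun (congrFun e1 0) 1
  have a10 := congrFun (congrFun e1 1) 1
  have a20 := congrFun (congrFun e1 2) 1
  have a12 := congrFun (congrFun e1 0) 2
  have b01 := congrFun (congrFun h2 0) 0
  have b21 := congrFun (congrFun h2 2) 0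
  have b02 := congrFun (congrFun h2 1) 2
  simp [Matrix.mul_apply, Fin.sum_univ_three, single_apply] at a00 a10 a20 a12 b01 b21 b02
  replace a12 := a12.symm
  replace b02 := b02.symm
  have hA : (A : Matrix (Fin 3) (Fin 3) F) = diagonal ![A.1 0 0, A.1 0 0, A.1 2 2] := by
    ext i j
    fin_cases i <;> fin_cases j <;> simp [*]
  have hdet := gl_det_ne A
  rw [hA, det_diagonal, Fin.prod_univ_three] at hdet
  simp at hdet
  refine ⟨A.1 0 0, A.1 2 2, hdet.1, hdet.2, hA, ?_⟩
  ext t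
  have e2 := congrFun (congrFun (h1 t) 0) 1
  simp [Matrix.mul_apply, Fin.sum_univ_three, single_apply] at e2
  rw [← a00, mul_comm] at e2
  exact mul_right_cancel₀ hdet.1 e2

/-- Conjugation by a multiple of an element of `SL` is inner. -/
theorem cj_eq_conj {A : GL (Fin 3) F} {g : SpecialLinearGroup (Fin 3) F} {c : F}
    (h : (A : Matrix (Fin 3) (Fin 3) F) = c • g.1) : cj A = MulAut.conj g := by
  ext1 x
  apply Subtype.ext
  rw [coe_cj, MulAut.conj_apply]
  have h1 : (A : Matrix (Fin 3) (Fin 3) F) * x.1 = (g * x * g⁻¹).1 * (A : Matrix (Fin 3) (Fin 3) F) := by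
    rw [h, Matrix.mul_smul, Matrix.smul_mul]
    congr 1
    have : (g * x * g⁻¹ * g).1 = (g * x).1 := by rw [inv_mul_cancel_right]
    exact this.symm
  rw [h1, mul_assoc, ← Units.val_mul, mul_inv_cancel, Units.val_one, mul_one]

theorem lift_conj (g : SpecialLinearGroup (Fin 3) F) : lift (MulAut.conj g) = MulAut.conj (pr g) := by
  ext1 x
  obtain ⟨x, rfl⟩ := pr_surjective x
  rw [lift_pr, MulAut.conj_apply, MulAut.conj_apply, map_mul, map_mul, map_inv]

theorem cj_tv {A : GL (Fin 3) F} {i j k l : Fin 3} {hij : i ≠ j} {hkl : k ≠ l} {s t : F}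
    (h : (A : Matrix (Fin 3) (Fin 3) F) * single i j s = single k l t * (A : Matrix (Fin 3) (Fin 3) F)) :
    cj A (tv hij s) = tv hkl t := by
  apply Subtype.ext
  rw [coe_cj]
  show (A : Matrix (Fin 3) (Fin 3) F) * (1 + single i j s) * _ = 1 + single k l t
  have h3 : (A : Matrix (Fin 3) (Fin 3) F) * (1 + single i j s) =
      (1 + single k l t) * (A : Matrix (Fin 3) (Fin 3) F) := by
    rw [mul_add, add_mul, mul_one, one_mul, h]
  rw [h3, mul_assoc, ← Units.val_mul, mul_inv_cancel, Units.val_one, mul_one]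

/-- The matrix inducing inverse transpose on the block. -/
def JJ (F : Type*) [Field F] : GL (Fin 3) F where
  val := !![0, 1, 0; -1, 0, 0; 0, 0, 1]
  inv := !![0, -1, 0; 1, 0, 0; 0, 0, 1]
  val_inv := by
    ext i j
    fin_cases i <;> fin_cases j <;> simp [Matrix.mul_apply, Fin.sum_univ_three]
  inv_val := by
    ext i j
    fin_cases i <;> fin_cases j <;> simp [Matrix.mul_apply, Fin.sum_univ_three]

theorem JJ_val : (JJ F : Matrix (Fin 3) (Fin 3) F) = !![0, 1, 0; -1, 0, 0; 0, 0, 1] := rfl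
theorem JJ_inv : ((JJ F)⁻¹ : GL (Fin 3) F).1 = !![0, -1, 0; 1, 0, 0; 0, 0, 1] := rfl

theorem jj_fix (c : F) : (cj (JJ F) * itr : MulAut (SpecialLinearGroup (Fin 3) F)) (tv h01 c) = tv h01 c := by
  rw [MulAut.mul_apply, itr_transvection]
  apply cj_tv
  rw [JJ_val]
  ext i j
  fin_cases i <;> fin_cases j <;> simp [Matrix.mul_apply, Fin.sum_univ_three, single_apply]

theorem jj_fix' (c : F) : (cj (JJ F) * itr : MulAut (SpecialLinearGroup (Fin 3) F)) (tv h10 c) = tv h10 c := by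
  rw [MulAut.mul_apply, itr_transvection]
  apply cj_tv
  rw [JJ_val]
  ext i j
  fin_cases i <;> fin_cases j <;> simp [Matrix.mul_apply, Fin.sum_univ_three, single_apply]

/-- field automorphisms on `GL_3` -/
abbrev gmap (σ : F ≃+* F) : GL (Fin 3) F →* GL (Fin 3) F := GeneralLinearGroup.map (σ : F →+* F)

theorem gmap_apply (σ : F ≃+* F) (A : GL (Fin 3) F) (i j : Fin 3) : (gmap σ A).1 i j = σ (A.1 i j) := rfl

theorem fld_cj (σ : F ≃+* F) (A : GL (Fin 3) F) : fld σ * cj A = cj (gmap σ A) * fld σ := by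
  ext1 x
  apply Subtype.ext
  rw [MulAut.mul_apply, MulAut.mul_apply]
  ext i j
  rw [coe_fld_apply, coe_cj, coe_cj, ← map_inv]
  simp only [Matrix.mul_apply, map_sum, map_mul, coe_fld_apply, gmap_apply]

theorem gmap_JJ (σ : F ≃+* F) : gmap σ (JJ F) = JJ F := by
  apply Units.ext
  ext i j
  rw [gmap_apply, JJ_val]
  fin_cases i <;> fin_cases j <;> simp

theorem fld_cj_JJ (σ : F ≃+* F) : fld σ * cj ((JJ F)⁻¹) = cj ((JJ F)⁻¹) * fld σ := by
  rw [fld_cj, map_inv (gmap σ), gmap_JJ]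

/-- **(F3)**, first type. -/
theorem fix_one [Fintype F] {A : GL (Fin 3) F} {σ : F ≃+* F}
    (h1 : ∀ t, lift (cj A * fld σ) (pr (tv h01 t)) = pr (tv h01 t))
    (h2 : ∀ t, lift (cj A * fld σ) (pr (tv h10 t)) = pr (tv h10 t)) :
    ∃ s μ : F, s ≠ 0 ∧ μ ≠ 0 ∧ (A : Matrix (Fin 3) (Fin 3) F) = diagonal ![s, s, μ] ∧ σ = RingEquiv.refl F := by
  apply diag_of_comm
  · intro t
    have h3 := h1 t
    rw [lift_pr, MulAut.mul_apply, fld_transvection] at h3
    exact cj_transvection_eq h3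
  · have h3 := h2 1
    rw [lift_pr, MulAut.mul_apply, fld_transvection, map_one] at h3
    exact cj_transvection_eq h3

theorem fld_refl : fld (RingEquiv.refl F) = (1 : MulAut (SpecialLinearGroup (Fin 3) F)) := map_one fld

theorem aut_fix [Fintype F] (p : ℕ) [Fact p.Prime] [CharP F p] (hF : (2 : F) ≠ 0)
    (a : MulAut (ProjectiveSpecialLinearGroup (Fin 3) F)) (ha : a * a = 1)
    (hfix : ∀ x ∈ D1 (slRep F 1), a x = x) : a = 1 ∨ a = MulAut.conj (pr (zz F)) := by
  have f1 : ∀ t : F, a (pr (tv h01 t)) = pr (tv h01 t) := fun t =>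
    hfix _ ⟨_, tv_mem_E1 t, rfl⟩
  have f2 : ∀ t : F, a (pr (tv h10 t)) = pr (tv h10 t) := fun t =>
    hfix _ ⟨_, tv_mem_E1' t, rfl⟩
  rcases surj_three p (le_refl 3) a with ⟨A, σ, rfl⟩ | ⟨A, σ, rfl⟩
  · obtain ⟨s, μ, hs, hμ, hA, rfl⟩ := fix_one f1 f2
    rw [fld_refl, mul_one] at ha ⊢
    rw [← map_mul, ← map_mul] at ha
    have h3 : lift (cj (A * A) * fld (RingEquiv.refl F)) = lift (fld (RingEquiv.refl F)) := by
      rw [fld_refl, mul_one, ha, map_one]
    obtain ⟨⟨r, hr⟩, -⟩ := injective_aux h3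
    have hAA : ((A * A : GL (Fin 3) F) : Matrix (Fin 3) (Fin 3) F) = diagonal ![s * s, s * s, μ * μ] := by
      rw [Units.val_mul, hA, diagonal_mul_diagonal]
      congr 1
      ext i; fin_cases i <;> rfl
    rw [hAA] at hr
    have r0 := congrFun (congrFun hr 0) 0
    have r2 := congrFun (congrFun hr 2) 2
    simp [scalar_apply] at r0 r2
    have hsm : (s - μ) * (s + μ) = 0 := by linear_combination r2 - r0
    rcases mul_eq_zero.1 hsm with h4 | h4
    · left
      have h5 : cj A = 1 := by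
        apply cj_eq_one_of_scalar (r := s)
        rw [hA, ← sub_eq_zero.1 h4]
        ext i j
        fin_cases i <;> fin_cases j <;> simp [scalar_apply]
      rw [h5, map_one]
    · right
      have h5 : (A : Matrix (Fin 3) (Fin 3) F) = (-s) • (zz F).1 := by
        rw [hA, eq_neg_of_add_eq_zero_right h4, zz_val]
        ext i j
        fin_cases i <;> fin_cases j <;> simp
      rw [cj_eq_conj h5, lift_conj]
  · exfalso
    have e1 : cj A * fld σ * itr * (cj (JJ F) * itr)⁻¹ = cj (A * (JJ F)⁻¹) * fld σ := by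
      rw [_root_.mul_inv_rev, mul_assoc (cj A * fld σ), mul_inv_cancel_left, mul_assoc, ← map_inv,
        fld_cj_JJ, ← mul_assoc, ← map_mul]
    have key : ∀ x : SpecialLinearGroup (Fin 3) F, (cj (JJ F) * itr : MulAut (SpecialLinearGroup (Fin 3) F)) x = x →
        lift (cj A * fld σ * itr) (pr x) = pr x → lift (cj (A * (JJ F)⁻¹) * fld σ) (pr x) = pr x := by
      intro x h3 h4
      have h5 : (cj (JJ F) * itr : MulAut (SpecialLinearGroup (Fin 3) F))⁻¹ x = x := by
        conv_lhs => rw [← h3]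
        exact (cj (JJ F) * itr : MulAut (SpecialLinearGroup (Fin 3) F)).symm_apply_apply x
      rw [← e1, lift_pr, MulAut.mul_apply, h5]
      exact h4
    obtain ⟨s, μ, hs, hμ, hA, rfl⟩ := fix_one (fun t => key _ (jj_fix t) (f1 t)) (fun t => key _ (jj_fix' t) (f2 t))
    have hA' : (A : Matrix (Fin 3) (Fin 3) F) = !![0, s, 0; -s, 0, 0; 0, 0, μ] := by
      have h3 : A = A * (JJ F)⁻¹ * JJ F := by rw [inv_mul_cancel_right]
      rw [h3, Units.val_mul, hA, JJ_val]
      ext i j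
      fin_cases i <;> fin_cases j <;> simp [Matrix.mul_apply, Fin.sum_univ_three]
    have h3 : lift (cj A * fld (RingEquiv.refl F) * itr) (pr (tv h02 (1 : F))) = pr (tv h21 (μ / s)) := by
      rw [fld_refl, mul_one, lift_pr, MulAut.mul_apply, itr_transvection]
      congr 1
      apply cj_tv
      rw [hA']
      ext i j
      fin_cases i <;> fin_cases j <;> simp [Matrix.mul_apply, Fin.sum_univ_three, single_apply]
      field_simp
    have h4 : lift (cj A * fld (RingEquiv.refl F) * itr) (pr (tv h21 (μ / s))) = pr (tv h02 (-1 : F)) := by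
      rw [fld_refl, mul_one, lift_pr, MulAut.mul_apply, itr_transvection]
      congr 1
      apply cj_tv
      rw [hA']
      ext i j
      fin_cases i <;> fin_cases j <;> simp [Matrix.mul_apply, Fin.sum_univ_three, single_apply]
      field_simp
    have h5 : lift (cj A * fld (RingEquiv.refl F) * itr) (lift (cj A * fld (RingEquiv.refl F) * itr)
        (pr (tv h02 (1 : F)))) = pr (tv h02 (1 : F)) := by
      rw [← MulAut.mul_apply, ha, MulAut.one_apply]
    rw [h3, h4] at h5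
    have h6 := Cfsg.Agent.ClassicalGeometry.AutPSL.Images.pr_transvection_injective h02 h5
    apply hF
    linear_combination -h6

/-! ### (F4) -/

theorem zz_trace : (zz F).1.trace = -1 := by
  rw [zz_val, trace_diagonal, Fin.sum_univ_three]; simp

theorem ww_trace : (ww F).1.trace = -1 := by
  rw [ww_val, trace_diagonal, Fin.sum_univ_three]; simp

theorem trace_cj (A : GL (Fin 3) F) (x : SpecialLinearGroup (Fin 3) F) : (cj A x).1.trace = x.1.trace := by
  rw [coe_cj, trace_mul_comm, ← mul_assoc, ← Units.val_mul, inv_mul_cancel, Units.val_one, one_mul]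

theorem comm_zz {A : GL (Fin 3) F} (h2 : (2 : F) ≠ 0) (h : pr (cj A (zz F)) = pr (zz F)) :
    A.1 0 2 = 0 ∧ A.1 1 2 = 0 ∧ A.1 2 0 = 0 ∧ A.1 2 1 = 0 := by
  obtain ⟨c, hc⟩ := exists_smul_of_pr_eq h
  have h3 : (zz F).1.trace = c * (cj A (zz F)).1.trace := by
    conv_lhs => rw [show (zz F).1 = c • (cj A (zz F)).1 from hc]
    rw [trace_smul, smul_eq_mul]
  rw [trace_cj, zz_trace] at h3
  have hc1 : c = 1 := by linear_combination h3
  rw [hc1, one_smul, coe_cj] at hc
  have h4 : (zz F).1 * A.1 = A.1 * (zz F).1 := by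
    conv_lhs => rw [show (zz F).1 = A.1 * (zz F).1 * ((A⁻¹ : GL (Fin 3) F)).1 from hc]
    rw [mul_assoc, ← Units.val_mul, inv_mul_cancel, Units.val_one, mul_one]
  rw [zz_val] at h4
  have e1 := congrFun (congrFun h4 0) 2
  have e2 := congrFun (congrFun h4 1) 2
  have e3 := congrFun (congrFun h4 2) 0
  have e4 := congrFun (congrFun h4 2) 1
  rw [diagonal_mul, mul_diagonal] at e1 e2 e3 e4
  simp at e1 e2 e3 e4
  refine ⟨?_, ?_, ?_, ?_⟩
  · exact (mul_eq_zero.1 (show (2 : F) * A.1 0 2 = 0 by linear_combination -e1)).resolve_left h2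
  · exact (mul_eq_zero.1 (show (2 : F) * A.1 1 2 = 0 by linear_combination -e2)).resolve_left h2
  · exact (mul_eq_zero.1 (show (2 : F) * A.1 2 0 = 0 by linear_combination e3)).resolve_left h2
  · exact (mul_eq_zero.1 (show (2 : F) * A.1 2 1 = 0 by linear_combination e4)).resolve_left h2

/-- the output of (F4) and (F5) -/
theorem out_of {t : SpecialLinearGroup (Fin 3) F} (h2 : (2 : F) ≠ 0) (hsq : t * t = 1) (h22 : t.1 2 2 = -1)
    (htr : t.1.trace = -1) (hc : t * zz F = zz F * t) :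
    pr t ≠ pr (zz F) ∧ pr t ≠ 1 ∧ pr t * pr t = 1 ∧ pr t * pr (zz F) = pr (zz F) * pr t := by
  refine ⟨?_, ?_, by rw [← map_mul, hsq, map_one], by rw [← map_mul, ← map_mul, hc]⟩
  · intro h
    obtain ⟨c, hc⟩ := exists_smul_of_pr_eq h
    have e1 := congrFun (congrFun hc 2) 2
    rw [Matrix.smul_apply, h22] at e1
    have e2 : (zz F).1 2 2 = 1 := by rw [zz_val]; simp
    rw [e2] at e1
    have h3 : (zz F).1.trace = c * t.1.trace := by
      conv_lhs => rw [show (zz F).1 = c • t.1 from hc]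
      rw [trace_smul, smul_eq_mul]
    rw [zz_trace, htr] at h3
    rw [smul_eq_mul] at e1
    apply h2
    linear_combination e1 - h3
  · intro h
    rw [← map_one pr] at h
    obtain ⟨c, hc⟩ := exists_smul_of_pr_eq h.symm
    have e1 := congrFun (congrFun hc 2) 2
    rw [Matrix.smul_apply, h22] at e1
    have e3 : ((1 : SpecialLinearGroup (Fin 3) F) : Matrix (Fin 3) (Fin 3) F) 2 2 = 1 := by simp
    rw [e3, smul_eq_mul, mul_one] at e1
    have h3 : t.1.trace = c * (1 : Matrix (Fin 3) (Fin 3) F).trace := by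
      conv_lhs => rw [show t.1 = c • (1 : Matrix (Fin 3) (Fin 3) F) from hc]
      rw [trace_smul, smul_eq_mul]
    rw [htr, trace_one, Fintype.card_fin, ← e1] at h3
    apply h2
    push_cast at h3
    linear_combination h3

theorem cj_eq_of_smul {A B : GL (Fin 3) F} {c : F} (h : (A : Matrix (Fin 3) (Fin 3) F) = c • B.1) : cj A = cj B := by
  have h1 : cj (A * B⁻¹) = 1 := by
    apply cj_eq_one_of_scalar (r := c)
    rw [Units.val_mul, h, Matrix.smul_mul, ← Units.val_mul, mul_inv_cancel, Units.val_one, scalar_apply,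
      smul_one_eq_diagonal]
  rw [map_mul, map_inv, mul_inv_eq_one] at h1
  exact h1

theorem fld_zz (σ : F ≃+* F) : fld σ (zz F) = zz F := by
  apply Subtype.ext
  ext i j
  rw [coe_fld_apply]
  show σ ((zz F).1 i j) = (zz F).1 i j
  rw [zz_val]
  fin_cases i <;> fin_cases j <;> simp

theorem fld_ww (σ : F ≃+* F) : fld σ (ww F) = ww F := by
  apply Subtype.ext
  ext i j
  rw [coe_fld_apply]
  show σ ((ww F).1 i j) = (ww F).1 i j
  rw [ww_val]
  fin_cases i <;> fin_cases j <;> simp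

theorem itr_zz : itr (zz F) = zz F := by
  apply Subtype.ext
  rw [coe_itr, inv_eq_of_mul_eq_one_right zz_sq]
  show (zz F).1ᵀ = (zz F).1
  rw [zz_val, diagonal_transpose]

theorem zz_ww : zz F * ww F = ww F * zz F := by
  apply Subtype.ext
  show (zz F).1 * (ww F).1 = (ww F).1 * (zz F).1
  rw [zz_val, ww_val, diagonal_mul_diagonal, diagonal_mul_diagonal]
  congr 1
  ext i
  rw [mul_comm]

/-- Fixed vectors of a semilinear involution. -/
theorem exists_fix {A : Matrix (Fin 3) (Fin 3) F} {σ : F ≃+* F} (hσ : σ ≠ RingEquiv.refl F)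
    (h20 : A 2 0 = 0) (h21 : A 2 1 = 0)
    (hAA : ∀ u : Fin 3 → F, A *ᵥ (fun i => σ ((A *ᵥ fun j => σ (u j)) i)) = u) :
    ∃ v w : Fin 3 → F, v 2 = 0 ∧ w 2 = 0 ∧ (A *ᵥ fun i => σ (v i)) = v ∧ (A *ᵥ fun i => σ (w i)) = w ∧
      v 0 * w 1 - v 1 * w 0 ≠ 0 := by
  by_contra hcon
  push Not at hcon
  obtain ⟨l, hl⟩ : ∃ l, σ l ≠ l := by
    by_contra h
    push Not at h
    exact hσ (RingEquiv.ext h)
  let T : (Fin 3 → F) → (Fin 3 → F) := fun u => A *ᵥ fun i => σ (u i)
  have hTT : ∀ u, T (T u) = u := hAA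
  have hadd : ∀ u v, T (u + v) = T u + T v := by
    intro u v
    show A *ᵥ _ = _
    rw [← mulVec_add]
    congr 1
    ext i
    simp
  have hsm : ∀ (c : F) u, T (c • u) = σ c • T u := by
    intro c u
    show A *ᵥ _ = _
    rw [← mulVec_smul]
    congr 1
    ext i
    simp
  have hT2 : ∀ u, u 2 = 0 → T u 2 = 0 := by
    intro u hu
    show (A *ᵥ fun i => σ (u i)) 2 = 0
    simp [mulVec, dotProduct, Fin.sum_univ_three, h20, h21, hu]
  have hfix : ∀ u, T (u + T u) = u + T u := by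
    intro u
    rw [hadd, hTT, add_comm]
  let d : (Fin 3 → F) → (Fin 3 → F) → F := fun v w => v 0 * w 1 - v 1 * w 0
  have key : ∀ u w, u 2 = 0 → w 2 = 0 → T w = w → d u w = 0 := by
    intro u w hu hw hTw
    have e1 : d (u + T u) w = 0 := hcon _ _ (by rw [Pi.add_apply, hu, hT2 u hu, add_zero]) hw (hfix u) hTw
    have e2 : d (l • u + T (l • u)) w = 0 := hcon _ _ (by
      rw [Pi.add_apply, hT2 _ (by simp [hu])]; simp [hu]) hw (hfix _) hTw
    rw [hsm] at e2
    simp only [d, Pi.add_apply, Pi.smul_apply, smul_eq_mul] at e1 e2 ⊢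
    have e3 : (l - σ l) * (u 0 * w 1 - u 1 * w 0) = 0 := by linear_combination e2 - σ l * e1
    exact (mul_eq_zero.1 e3).resolve_left (sub_ne_zero.2 hl.symm)
  have key2 : ∀ u w, u 2 = 0 → w 2 = 0 → d u w = 0 := by
    intro u w hu hw
    have e1 : d u (w + T w) = 0 := key _ _ hu (by rw [Pi.add_apply, hw, hT2 w hw, add_zero]) (hfix w)
    have e2 : d u (l • w + T (l • w)) = 0 := key _ _ hu (by
      rw [Pi.add_apply, hT2 _ (by simp [hw])]; simp [hw]) (hfix _)
    rw [hsm] at e2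
    simp only [d, Pi.add_apply, Pi.smul_apply, smul_eq_mul] at e1 e2 ⊢
    have e3 : (l - σ l) * (u 0 * w 1 - u 1 * w 0) = 0 := by linear_combination e2 - σ l * e1
    exact (mul_eq_zero.1 e3).resolve_left (sub_ne_zero.2 hl.symm)
  have := key2 ![1, 0, 0] ![0, 1, 0] rfl rfl
  simp [d] at this

theorem lift_cj_conj {A C : GL (Fin 3) F} {σ : F ≃+* F} {μ : F} (h : A.1 * (gmap σ C).1 = μ • C.1) :
    lift (cj A * fld σ) (pr (cj C (ww F))) = pr (cj C (ww F)) := by
  rw [lift_pr, MulAut.mul_apply]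
  congr 1
  have h1 : fld σ (cj C (ww F)) = cj (gmap σ C) (ww F) := by
    rw [← MulAut.mul_apply, fld_cj, MulAut.mul_apply, fld_ww]
  rw [h1, ← MulAut.mul_apply, ← map_mul]
  congr 1
  exact cj_eq_of_smul (c := μ) (by rw [Units.val_mul, h])

/-- **(F4)**, first type. -/
theorem out_one [Fintype F] (h2 : (2 : F) ≠ 0) {A : GL (Fin 3) F} {σ : F ≃+* F}
    (hinn : ∀ g, lift (cj A * fld σ) ≠ MulAut.conj g) (hsq : lift (cj A * fld σ) * lift (cj A * fld σ) = 1)
    (hz : lift (cj A * fld σ) (pr (zz F)) = pr (zz F)) :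
    ∃ t : ProjectiveSpecialLinearGroup (Fin 3) F, t ≠ pr (zz F) ∧ t ≠ 1 ∧ t * t = 1 ∧
      t * pr (zz F) = pr (zz F) * t ∧ lift (cj A * fld σ) t = t := by
  rw [lift_pr, MulAut.mul_apply, fld_zz] at hz
  obtain ⟨a02, a12, a20, a21⟩ := comm_zz h2 hz
  have hdet := gl_det_ne A
  have hμ : A.1 2 2 ≠ 0 := by
    intro h0
    apply hdet
    rw [det_fin_three, a02, a12, a20, a21, h0]
    ring
  set μ := A.1 2 2 with hμd
  have h3 : lift (cj (A * gmap σ A) * fld (σ * σ)) = lift (fld (RingEquiv.refl F)) := by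
    rw [fld_refl, map_one, ← hsq, ← map_mul]
    congr 1
    rw [map_mul, map_mul, mul_assoc (cj A) (fld σ), ← mul_assoc (fld σ) (cj A), fld_cj]
    simp only [mul_assoc]
  obtain ⟨⟨r, hr⟩, hσσ⟩ := injective_aux h3
  have hσ2 : ∀ x, σ (σ x) = x := fun x => RingEquiv.congr_fun hσσ x
  have hAA : A.1 * (gmap σ A).1 = r • (1 : Matrix (Fin 3) (Fin 3) F) := by
    have h4 : (A * gmap σ A : GL (Fin 3) F).1 = scalar (Fin 3) r := hr.symm
    rw [Units.val_mul] at h4
    rw [h4, scalar_apply, smul_one_eq_diagonal]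
  have hr2 : r = μ * σ μ := by
    have h5 := congrFun (congrFun hAA 2) 2
    rw [Matrix.mul_apply, Fin.sum_univ_three, gmap_apply, gmap_apply, gmap_apply, a20, a21] at h5
    simp at h5
    rw [← h5]
  have hσμ : σ μ ≠ 0 := by simpa using hμ
  let A' : Matrix (Fin 3) (Fin 3) F := μ⁻¹ • A.1
  have hA'A : ∀ u : Fin 3 → F, A' *ᵥ (fun i => σ ((A' *ᵥ fun j => σ (u j)) i)) = u := by
    intro u
    have h6 : (fun i => σ ((A' *ᵥ fun j => σ (u j)) i)) = (σ μ)⁻¹ • ((gmap σ A).1 *ᵥ u) := by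
      ext i
      simp only [A', mulVec, dotProduct, Pi.smul_apply, smul_eq_mul, Matrix.smul_apply, map_sum, map_mul,
        map_inv₀, hσ2, gmap_apply, Finset.mul_sum, mul_assoc]
    rw [h6, mulVec_smul]
    show (σ μ)⁻¹ • ((μ⁻¹ • A.1) *ᵥ _) = u
    rw [smul_mulVec, mulVec_mulVec, hAA, smul_mulVec, one_mulVec, smul_smul, smul_smul, hr2]
    have : (σ μ)⁻¹ * (μ⁻¹ * (μ * σ μ)) = 1 := by field_simp
    rw [← mul_assoc] at this
    rw [this, one_smul]
  by_cases hσ : σ = RingEquiv.refl F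
  · exfalso
    subst hσ
    have hd2 : A'.det * A'.det = 1 := by
      have h7 : A' * A' = 1 := by
        rw [← Matrix.mulVec_injective.eq_iff]
        funext u
        rw [← mulVec_mulVec, one_mulVec]
        exact hA'A u
      rw [← det_mul, h7, det_one]
    have hd3 : (A'.det - 1) * (A'.det + 1) = 0 := by linear_combination hd2
    rw [fld_refl, mul_one] at hinn
    rcases mul_eq_zero.1 hd3 with h8 | h8
    · obtain ⟨g, hg⟩ : ∃ g : SpecialLinearGroup (Fin 3) F, g.1 = A' := ⟨⟨A', sub_eq_zero.1 h8⟩, rfl⟩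
      apply hinn (pr g)
      rw [← lift_conj]
      congr 1
      apply cj_eq_conj (c := μ)
      rw [hg]
      show A.1 = μ • μ⁻¹ • A.1
      rw [smul_smul, mul_inv_cancel₀ hμ, one_smul]
    · have h9 : (-A').det = 1 := by
        rw [det_neg, Fintype.card_fin, eq_neg_of_add_eq_zero_left h8]
        norm_num
      obtain ⟨g, hg⟩ : ∃ g : SpecialLinearGroup (Fin 3) F, g.1 = -A' := ⟨⟨-A', h9⟩, rfl⟩
      apply hinn (pr g)
      rw [← lift_conj]
      congr 1
      apply cj_eq_conj (c := -μ)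
      rw [hg]
      show A.1 = (-μ) • -(μ⁻¹ • A.1)
      rw [smul_neg, neg_smul, _root_.neg_neg, smul_smul, mul_inv_cancel₀ hμ, one_smul]
  · have a20' : A' 2 0 = 0 := by simp [A', a20]
    have a21' : A' 2 1 = 0 := by simp [A', a21]
    obtain ⟨v, w, hv2, hw2, hv, hw, hd⟩ := exists_fix hσ a20' a21' hA'A
    have hCdet : (!![v 0, w 0, 0; v 1, w 1, 0; 0, 0, 1] : Matrix (Fin 3) (Fin 3) F).det ≠ 0 := by
      rw [det_fin_three]
      simp
      intro h0
      apply hd
      linear_combination h0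
    let C : GL (Fin 3) F := GeneralLinearGroup.mkOfDetNeZero _ hCdet
    have hC : C.1 = !![v 0, w 0, 0; v 1, w 1, 0; 0, 0, 1] := rfl
    have hAC : A.1 * (gmap σ C).1 = μ • C.1 := by
      have hA : A.1 = μ • A' := by
        show A.1 = μ • μ⁻¹ • A.1
        rw [smul_smul, mul_inv_cancel₀ hμ, one_smul]
      have hA22 : A' 2 2 = 1 := by
        show μ⁻¹ * A.1 2 2 = 1
        rw [← hμd, inv_mul_cancel₀ hμ]
      have a02' : A' 0 2 = 0 := by simp [A', a02]
      have a12' : A' 1 2 = 0 := by simp [A', a12]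
      rw [hA, Matrix.smul_mul]
      congr 1
      have v0 := congrFun hv 0
      have v1 := congrFun hv 1
      have w0 := congrFun hw 0
      have w1 := congrFun hw 1
      simp [mulVec, dotProduct, Fin.sum_univ_three, hv2, hw2] at v0 v1 w0 w1
      ext i j
      rw [Matrix.mul_apply, Fin.sum_univ_three, gmap_apply, gmap_apply, gmap_apply, hC]
      fin_cases i <;> fin_cases j <;> simp [a02', a12', a20', a21', hA22, v0, v1, w0, w1]
    have hCz : cj C (zz F) = zz F := by
      apply Subtype.ext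
      rw [coe_cj]
      have : C.1 * (zz F).1 = (zz F).1 * C.1 := by
        rw [hC, zz_val]
        ext i j
        rw [mul_diagonal, diagonal_mul]
        fin_cases i <;> fin_cases j <;> simp
      rw [this, mul_assoc, ← Units.val_mul, mul_inv_cancel, Units.val_one, mul_one]
    have ht22 : (cj C (ww F)).1 2 2 = -1 := by
      have h7 : (cj C (ww F)).1 * C.1 = C.1 * (ww F).1 := by
        rw [coe_cj, mul_assoc, ← Units.val_mul, inv_mul_cancel, Units.val_one, mul_one]
      have h8 := congrFun (congrFun h7 2) 2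
      rw [Matrix.mul_apply, Fin.sum_univ_three, hC, ww_val, mul_diagonal] at h8
      simp at h8
      exact h8
    obtain ⟨o1, o2, o3, o4⟩ := out_of (t := cj C (ww F)) h2 (by rw [← map_mul, ww_sq, map_one]) ht22
      (by rw [trace_cj, ww_trace]) (by
        conv_lhs => rw [← hCz]
        conv_rhs => rw [← hCz]
        rw [← map_mul, ← map_mul, zz_ww])
    exact ⟨_, o1, o2, o3, o4, lift_cj_conj hAC⟩

/-- The transposed inverse. -/
def gtr (A : GL (Fin 3) F) : GL (Fin 3) F where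
  val := ((A⁻¹ : GL (Fin 3) F).1)ᵀ
  inv := A.1ᵀ
  val_inv := by rw [← transpose_mul, ← Units.val_mul, mul_inv_cancel, Units.val_one, transpose_one]
  inv_val := by rw [← transpose_mul, ← Units.val_mul, inv_mul_cancel, Units.val_one, transpose_one]

theorem itr_cj (A : GL (Fin 3) F) : itr * cj A = cj (gtr A) * itr := by
  ext1 x
  apply Subtype.ext
  rw [MulAut.mul_apply, MulAut.mul_apply, coe_itr, ← map_inv, coe_cj, coe_cj, coe_itr, transpose_mul, transpose_mul,
    mul_assoc]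
  rfl

theorem itr_fld (σ : F ≃+* F) : (itr * fld σ : MulAut (SpecialLinearGroup (Fin 3) F)) = fld σ * itr := by
  ext1 x
  apply Subtype.ext
  ext i j
  rw [MulAut.mul_apply, MulAut.mul_apply, coe_itr, ← map_inv, coe_fld_apply, coe_itr, transpose_apply, transpose_apply,
    coe_fld_apply]

/-- **(F4)**, second type. -/
theorem out_two [Fintype F] (h2 : (2 : F) ≠ 0) {A : GL (Fin 3) F} {σ : F ≃+* F}
    (hsq : lift (cj A * fld σ * itr) * lift (cj A * fld σ * itr) = 1)
    (hz : lift (cj A * fld σ * itr) (pr (zz F)) = pr (zz F)) :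
    ∃ t : ProjectiveSpecialLinearGroup (Fin 3) F, t ≠ pr (zz F) ∧ t ≠ 1 ∧ t * t = 1 ∧
      t * pr (zz F) = pr (zz F) * t ∧ lift (cj A * fld σ * itr) t = t := by
  rw [lift_pr, MulAut.mul_apply, itr_zz, MulAut.mul_apply, fld_zz] at hz
  obtain ⟨a02, a12, a20, a21⟩ := comm_zz h2 hz
  have hdet := gl_det_ne A
  have hμ : A.1 2 2 ≠ 0 := by
    intro h0
    apply hdet
    rw [det_fin_three, a02, a12, a20, a21, h0]
    ring
  set μ := A.1 2 2 with hμd
  have h3 : lift (cj (A * gmap σ (gtr A)) * fld (σ * σ)) = lift (fld (RingEquiv.refl F)) := by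
    rw [fld_refl, map_one, ← hsq, ← map_mul]
    congr 1
    calc cj (A * gmap σ (gtr A)) * fld (σ * σ) = cj A * (cj (gmap σ (gtr A)) * fld σ) * fld σ := by
          rw [map_mul, map_mul]; simp only [mul_assoc]
      _ = cj A * (fld σ * cj (gtr A)) * fld σ := by rw [fld_cj]
      _ = cj A * fld σ * (cj (gtr A) * itr) * (itr * fld σ) := by
          have : (itr * (itr * fld σ) : MulAut (SpecialLinearGroup (Fin 3) F)) = fld σ := by
            rw [← mul_assoc, itr_mul_itr, one_mul]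
          simp only [mul_assoc]
          rw [this]
      _ = cj A * fld σ * itr * (cj A * fld σ * itr) := by
          rw [← itr_cj, itr_fld]
          simp only [mul_assoc]
  obtain ⟨⟨r, hr⟩, hσσ⟩ := injective_aux h3
  have hσ2 : ∀ x, σ (σ x) = x := fun x => RingEquiv.congr_fun hσσ x
  have hA1 : ∀ i j, A.1 i j = r * σ (A.1 j i) := by
    have h4 : (A * gmap σ (gtr A) : GL (Fin 3) F).1 = scalar (Fin 3) r := hr.symm
    have h5 : A.1 = (A * gmap σ (gtr A) : GL (Fin 3) F).1 * ((gmap σ (gtr A))⁻¹ : GL (Fin 3) F).1 := by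
      rw [← Units.val_mul, mul_inv_cancel_right]
    have h6 : ∀ i j, ((gmap σ (gtr A))⁻¹ : GL (Fin 3) F).1 i j = σ (A.1 j i) := by
      intro i j
      rw [← map_inv (gmap σ)]
      rfl
    intro i j
    conv_lhs => rw [h5, h4, scalar_apply]
    rw [diagonal_mul, h6]
  have hμ2 : μ = r * σ μ := hA1 2 2
  have hσμ : σ μ ≠ 0 := by simpa using hμ
  let A' : Matrix (Fin 3) (Fin 3) F := μ⁻¹ • A.1
  have hA'σ : ∀ i j, A' i j = σ (A' j i) := by
    intro i j
    show μ⁻¹ * A.1 i j = σ (μ⁻¹ * A.1 j i)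
    rw [hA1 i j, map_mul, map_inv₀]
    have hr0 : r ≠ 0 := by
      rintro rfl
      rw [zero_mul] at hμ2
      exact hμ hμ2
    have : μ⁻¹ = r⁻¹ * (σ μ)⁻¹ := by
      conv_lhs => rw [hμ2]
      rw [mul_inv]
    rw [this]
    field_simp
  have hA : A.1 = μ • A' := by
    show A.1 = μ • μ⁻¹ • A.1
    rw [smul_smul, mul_inv_cancel₀ hμ, one_smul]
  have a02' : A' 0 2 = 0 := by simp [A', a02]
  have a12' : A' 1 2 = 0 := by simp [A', a12]
  have a20' : A' 2 0 = 0 := by simp [A', a20]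
  have a21' : A' 2 1 = 0 := by simp [A', a21]
  have hdet' : A' 0 0 * A' 1 1 - A' 0 1 * A' 1 0 ≠ 0 := by
    intro h0
    apply hdet
    rw [det_fin_three, a02, a12, a20, a21, hA]
    simp only [Matrix.smul_apply, smul_eq_mul]
    linear_combination (μ * μ * (μ * A' 2 2)) * h0
  -- a non-isotropic vector
  obtain ⟨φ, hφ2, hk⟩ : ∃ φ : Fin 3 → F, φ 2 = 0 ∧ φ ⬝ᵥ (A' *ᵥ fun i => σ (φ i)) ≠ 0 := by
    have hval : ∀ x y : F, (![x, y, 0] : Fin 3 → F) ⬝ᵥ (A' *ᵥ fun i => σ ((![x, y, 0] : Fin 3 → F) i)) =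
        x * (A' 0 0 * σ x + A' 0 1 * σ y) + y * (A' 1 0 * σ x + A' 1 1 * σ y) := by
      intro x y
      simp [dotProduct, mulVec, Fin.sum_univ_three]
    by_cases h00 : A' 0 0 = 0
    · by_cases h11 : A' 1 1 = 0
      · have h10 : A' 1 0 ≠ 0 := by
          intro h0
          apply hdet'
          rw [h00, h0]; ring
        refine ⟨![1, (A' 1 0)⁻¹, 0], rfl, ?_⟩
        rw [hval, h00, h11, hA'σ 0 1, map_one, ← map_mul, mul_inv_cancel₀ h10, map_one]
        have : (1 : F) * (0 * 1 + 1) + (A' 1 0)⁻¹ * (A' 1 0 * 1 + 0 * σ (A' 1 0)⁻¹) = 2 := by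
          field_simp
          ring
        rw [this]
        exact h2
      · refine ⟨![0, 1, 0], rfl, ?_⟩
        rw [hval, map_one, map_zero]
        simpa using h11
    · refine ⟨![1, 0, 0], rfl, ?_⟩
      rw [hval, map_one, map_zero]
      simpa using h00
  set k := φ ⬝ᵥ (A' *ᵥ fun i => σ (φ i)) with hkd
  have hkσ : σ k = k := by
    rw [hkd]
    simp only [dotProduct, mulVec, map_sum, map_mul, hσ2, Finset.mul_sum]
    rw [Finset.sum_comm]
    refine Finset.sum_congr rfl fun i _ => Finset.sum_congr rfl fun j _ => ?_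
    rw [← hA'σ i j]
    ring
  let v : Fin 3 → F := k⁻¹ • (A' *ᵥ fun i => σ (φ i))
  have hv2 : v 2 = 0 := by
    simp [v, mulVec, dotProduct, Fin.sum_univ_three, a20', a21', hφ2]
  have hvφ : φ ⬝ᵥ v = 1 := by
    show φ ⬝ᵥ (k⁻¹ • (A' *ᵥ fun i => σ (φ i))) = 1
    rw [dotProduct_smul, ← hkd, smul_eq_mul, inv_mul_cancel₀ hk]
  let M : Matrix (Fin 3) (Fin 3) F := -1 + (2 : F) • vecMulVec v φ
  have hMM : M * M = 1 := by
    have h7 : vecMulVec v φ * vecMulVec v φ = vecMulVec v φ := by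
      rw [vecMulVec_mul_vecMulVec, hvφ, one_smul]
    simp only [M, mul_add, add_mul, Matrix.smul_mul, Matrix.mul_smul, h7, neg_mul, mul_neg, one_mul, mul_one,
      smul_smul, _root_.neg_neg]
    module
  have hMdet : M.det = 1 := by
    have h8 : M = -(1 + vecMulVec ((-2 : F) • v) φ) := by
      simp only [M, smul_vecMulVec]
      module
    rw [h8, det_neg, vecMulVec_eq Unit, det_one_add_replicateCol_mul_replicateRow, dotProduct_smul, hvφ,
      Fintype.card_fin, smul_eq_mul]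
    ring
  have hMtr : M.trace = -1 := by
    simp only [M, trace_add, trace_neg, trace_one, trace_smul, trace_vecMulVec, Fintype.card_fin, smul_eq_mul]
    rw [dotProduct_comm, hvφ]
    norm_num
  obtain ⟨t, ht⟩ : ∃ t : SpecialLinearGroup (Fin 3) F, t.1 = M := ⟨⟨M, hMdet⟩, rfl⟩
  have htt : t * t = 1 := by
    apply Subtype.ext
    show t.1 * t.1 = 1
    rw [ht, hMM]
  have hM : ∀ i j, M i j = -(1 : Matrix (Fin 3) (Fin 3) F) i j + 2 * (v i * φ j) := by
    intro i j
    simp [M, vecMulVec_apply]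
  have ht22 : t.1 2 2 = -1 := by
    rw [ht, hM, hv2]
    simp
  have htz : t * zz F = zz F * t := by
    apply Subtype.ext
    show t.1 * (zz F).1 = (zz F).1 * t.1
    rw [ht, zz_val]
    ext i j
    rw [mul_diagonal, diagonal_mul, hM]
    fin_cases i <;> fin_cases j <;> simp [hv2, hφ2, mul_comm]
  obtain ⟨o1, o2, o3, o4⟩ := out_of h2 htt ht22 (by rw [ht, hMtr]) htz
  refine ⟨_, o1, o2, o3, o4, ?_⟩
  rw [lift_pr]
  congr 1
  apply Subtype.ext
  rw [MulAut.mul_apply, MulAut.mul_apply, coe_cj]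
  have h9 : A.1 * (fld σ (itr t)).1 = t.1 * A.1 := by
    rw [hA, Matrix.smul_mul, Matrix.mul_smul]
    congr 1
    have h10 : ∀ i j, (fld σ (itr t)).1 i j = σ (M j i) := by
      intro i j
      rw [coe_fld_apply, coe_itr, inv_eq_of_mul_eq_one_right htt, transpose_apply]
      show σ (t.1 j i) = _
      rw [ht]
    have hv' : ∀ j, (A' *ᵥ fun i => σ (φ i)) j = k * v j := by
      intro j
      show _ = k * (k⁻¹ * _)
      rw [mul_inv_cancel_left₀ hk]
    have hvs : ∀ j, ∑ l, φ l * A' l j = k * σ (v j) := by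
      intro j
      have h11 : σ ((A' *ᵥ fun i => σ (φ i)) j) = ∑ l, φ l * A' l j := by
        simp only [mulVec, dotProduct, map_sum, map_mul, hσ2]
        refine Finset.sum_congr rfl fun l _ => ?_
        rw [← hA'σ l j, mul_comm]
      rw [← h11, hv', map_mul, hkσ]
    ext i j
    rw [Matrix.mul_apply, Matrix.mul_apply, ht]
    simp only [h10, hM, map_add, map_neg, map_mul, map_ofNat]
    have e1 : ∀ l, σ ((1 : Matrix (Fin 3) (Fin 3) F) j l) = (1 : Matrix (Fin 3) (Fin 3) F) j l := by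
      intro l
      rw [one_apply]
      split_ifs <;> simp
    have L : ∑ l, A' i l * (-σ ((1 : Matrix (Fin 3) (Fin 3) F) j l) + 2 * (σ (v j) * σ (φ l))) =
        -A' i j + 2 * (k * v i * σ (v j)) := by
      rw [← hv']
      simp only [mul_add, Finset.sum_add_distrib, e1, mul_neg, Finset.sum_neg_distrib, mulVec, dotProduct,
        Finset.mul_sum, Finset.sum_mul]
      congr 1
      · rw [Finset.sum_eq_single j]
        · rw [one_apply_eq, mul_one]
        · intro b _ hb
          rw [one_apply_ne hb.symm, mul_zero]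
        · intro h0
          exact absurd (Finset.mem_univ _) h0
      · refine Finset.sum_congr rfl fun l _ => ?_
        ring
    have R : ∑ l, (-(1 : Matrix (Fin 3) (Fin 3) F) i l + 2 * (v i * φ l)) * A' l j =
        -A' i j + 2 * (k * v i * σ (v j)) := by
      have : 2 * (k * v i * σ (v j)) = 2 * v i * ∑ l, φ l * A' l j := by rw [hvs]; ring
      rw [this]
      simp only [add_mul, Finset.sum_add_distrib, neg_mul, Finset.sum_neg_distrib, Finset.mul_sum]
      congr 1
      · rw [Finset.sum_eq_single i]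
        · rw [one_apply_eq, one_mul]
        · intro b _ hb
          rw [one_apply_ne hb.symm, zero_mul]
        · intro h0
          exact absurd (Finset.mem_univ _) h0
      · refine Finset.sum_congr rfl fun l _ => ?_
        ring
    rw [L, R]
  rw [h9, mul_assoc, ← Units.val_mul, mul_inv_cancel, Units.val_one, mul_one]

theorem aut_out [Fintype F] (p : ℕ) [Fact p.Prime] [CharP F p] (h2 : (2 : F) ≠ 0)
    (a : MulAut (ProjectiveSpecialLinearGroup (Fin 3) F)) (hinn : ∀ g, a ≠ MulAut.conj g) (ha : a * a = 1)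
    (hz : a (pr (zz F)) = pr (zz F)) :
    ∃ t : ProjectiveSpecialLinearGroup (Fin 3) F, t ≠ pr (zz F) ∧ t ≠ 1 ∧ t * t = 1 ∧
      t * pr (zz F) = pr (zz F) * t ∧ a t = t := by
  rcases surj_three p (le_refl 3) a with ⟨A, σ, rfl⟩ | ⟨A, σ, rfl⟩
  · exact out_one h2 hinn ha hz
  · exact out_two h2 ha hz

/-! ### (F2) and pairs -/

/-- Involutions lift from `Γ / Z(Γ)` if `Z(Γ)` has exponent `3`. -/
theorem exists_lift {Γ : Type*} [Group Γ] (h3 : ∀ c ∈ Subgroup.center Γ, c * c * c = 1)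
    {t : Γ ⧸ Subgroup.center Γ} (h2 : t * t = 1) (h1 : t ≠ 1) :
    ∃ h : Γ, h * h = 1 ∧ h ≠ 1 ∧ QuotientGroup.mk' (Subgroup.center Γ) h = t := by
  obtain ⟨g, rfl⟩ := QuotientGroup.mk'_surjective _ t
  have hc : g * g ∈ Subgroup.center Γ := by
    rw [← QuotientGroup.eq_one_iff]
    exact h2
  have h4 : QuotientGroup.mk' (Subgroup.center Γ) (g * (g * g)) = QuotientGroup.mk' (Subgroup.center Γ) g := by
    rw [map_mul, map_mul, h2, mul_one]
  refine ⟨g * (g * g), ?_, ?_, h4⟩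
  · have h5 := h3 _ hc
    calc g * (g * g) * (g * (g * g)) = g * g * (g * g) * (g * g) := by group
      _ = 1 := h5
  · intro h6
    rw [h6, map_one] at h4
    exact h1 h4.symm

/-- Commuting involutions lift to commuting involutions. -/
theorem comm_of_lift {Γ : Type*} [Group Γ] (h3 : ∀ c ∈ Subgroup.center Γ, c * c * c = 1) {g k : Γ}
    (hk : k * k = 1)
    (h : QuotientGroup.mk' (Subgroup.center Γ) g * QuotientGroup.mk' (Subgroup.center Γ) k =
      QuotientGroup.mk' (Subgroup.center Γ) k * QuotientGroup.mk' (Subgroup.center Γ) g) : g * k = k * g := by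
  have hc : g * k * g⁻¹ * k⁻¹ ∈ Subgroup.center Γ := by
    rw [← QuotientGroup.eq_one_iff]
    show QuotientGroup.mk' (Subgroup.center Γ) (g * k * g⁻¹ * k⁻¹) = 1
    rw [map_mul, map_mul, map_mul, map_inv, map_inv, mul_inv_eq_one, mul_inv_eq_iff_eq_mul]
    exact h
  set c := g * k * g⁻¹ * k⁻¹ with hcd
  have h4 : g * k * g⁻¹ = c * k := by rw [hcd]; group
  have h5 : (g * k * g⁻¹) * (g * k * g⁻¹) = 1 := by
    calc (g * k * g⁻¹) * (g * k * g⁻¹) = g * (k * k) * g⁻¹ := by group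
      _ = 1 := by rw [hk]; group
  have h6 : c * k = k * c := (Subgroup.mem_center_iff.1 hc k).symm
  have h7 : c * c = 1 := by
    calc c * c = c * (k * k) * c := by rw [hk, mul_one]
      _ = (c * k) * (k * c) := by group
      _ = (c * k) * (c * k) := by rw [h6]
      _ = 1 := by rw [← h4]; exact h5
  have h8 : c = 1 := by
    have := h3 c hc
    rwa [h7, one_mul] at this
  rw [h8, one_mul] at h4
  rw [mul_inv_eq_iff_eq_mul] at h4
  exact h4

theorem center_three (c : SpecialLinearGroup (Fin 3) F) (hc : c ∈ Subgroup.center _) : c * c * c = 1 := by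
  rw [Matrix.SpecialLinearGroup.mem_center_iff] at hc
  obtain ⟨r, hr, hr'⟩ := hc
  rw [Fintype.card_fin] at hr
  apply Subtype.ext
  show c.1 * c.1 * c.1 = 1
  rw [show c.1 = scalar (Fin 3) r from hr'.symm, ← map_mul, ← map_mul, ← pow_two, ← pow_succ, hr, map_one]

/-- conjugation by an invertible matrix commuting up to determinant -/
theorem exists_sl_conj {g d : SpecialLinearGroup (Fin 3) F} {P : Matrix (Fin 3) (Fin 3) F} (hP : P.det ≠ 0)
    (hd : ∃ x y z : F, d.1 = diagonal ![x, y, z]) (h : g.1 * P = P * d.1) :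
    ∃ x : SpecialLinearGroup (Fin 3) F, x * d * x⁻¹ = g := by
  obtain ⟨a, b, c, hd⟩ := hd
  have hdet : (P * diagonal ![1, 1, P.det⁻¹]).det = 1 := by
    rw [det_mul, det_diagonal, Fin.prod_univ_three]
    simp [mul_inv_cancel₀ hP]
  obtain ⟨x, hx⟩ : ∃ x : SpecialLinearGroup (Fin 3) F, x.1 = P * diagonal ![1, 1, P.det⁻¹] := ⟨⟨_, hdet⟩, rfl⟩
  refine ⟨x, ?_⟩
  rw [mul_inv_eq_iff_eq_mul]
  apply Subtype.ext
  show x.1 * d.1 = g.1 * x.1
  rw [hx, ← mul_assoc, h, mul_assoc, mul_assoc, hd, diagonal_mul_diagonal, diagonal_mul_diagonal]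
  congr 2
  ext i
  rw [mul_comm]

theorem conj_zz (h2 : (2 : F) ≠ 0) {g : SpecialLinearGroup (Fin 3) F} (hg : g * g = 1) (h1 : g ≠ 1) :
    ∃ x : SpecialLinearGroup (Fin 3) F, x * zz F * x⁻¹ = g := by
  have hM : g.1 * g.1 = 1 := congrArg Subtype.val hg
  obtain ⟨k, l, b, hb1, hb2⟩ := Cfsg.Agent.GH.Cov.LieL4.exists_basis h2 g.1 hM
  have hdet := Cfsg.Agent.GH.Cov.LieL4.det_of_basis g.1 b hb1 hb2
  rw [g.2] at hdet
  have hcard : k + l = 3 := by
    have h3 := Module.finrank_eq_card_basis b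
    rw [Module.finrank_fintype_fun_eq_card] at h3
    simp only [Fintype.card_sum, Fintype.card_fin] at h3
    omega
  have hne : (-1 : F) ≠ 1 := by
    intro h
    apply h2
    linear_combination -h
  have hk : k = 0 ∨ k = 1 ∨ k = 2 ∨ k = 3 := by omega
  rcases hk with rfl | rfl | rfl | rfl
  · exfalso
    apply h1
    apply Subtype.ext
    refine Matrix.toLin'.injective (b.ext fun i => ?_)
    rcases i with i | i
    · exact i.elim0
    · rw [toLin'_apply, hb2]
      simp
  · exact absurd (by rw [pow_one] at hdet; exact hdet.symm) hne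
  · obtain rfl : l = 1 := by omega
    let e : Fin 3 ≃ Fin 2 ⊕ Fin 1 := ee 1
    refine exists_sl_conj (P := Matrix.of fun i j => b (e j) i) ?_ ⟨-1, -1, 1, zz_val⟩ ?_
    · have h3 : (Matrix.of fun i j => b (e j) i) = (Pi.basisFun F (Fin 3)).toMatrix (b.reindex e.symm) := by
        ext i j
        simp [Module.Basis.toMatrix_apply]
      rw [h3]
      exact ((Pi.basisFun F (Fin 3)).isUnit_det (b.reindex e.symm)).ne_zero
    · ext i j
      have h5 : (g.1 * Matrix.of fun i j => b (e j) i) i j = (g.1 *ᵥ b (e j)) i := rfl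
      rw [h5, zz_val, mul_diagonal]
      fin_cases j
      · show (g.1 *ᵥ b (Sum.inl 0)) i = b (Sum.inl 0) i * _
        rw [hb1]; simp
      · show (g.1 *ᵥ b (Sum.inl 1)) i = b (Sum.inl 1) i * _
        rw [hb1]; simp
      · show (g.1 *ᵥ b (Sum.inr 0)) i = b (Sum.inr 0) i * _
        rw [hb2]; simp
  · exact absurd (by rw [show (-1 : F) ^ 3 = -1 by norm_num] at hdet; exact hdet.symm) hne

/-- Commuting with `diag(-1,-1,1)`. -/
theorem comm_zz' (h2 : (2 : F) ≠ 0) {g : SpecialLinearGroup (Fin 3) F} (h : g * zz F = zz F * g) :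
    g.1 0 2 = 0 ∧ g.1 1 2 = 0 ∧ g.1 2 0 = 0 ∧ g.1 2 1 = 0 := by
  have h4 : (zz F).1 * g.1 = g.1 * (zz F).1 := (congrArg Subtype.val h).symm
  rw [zz_val] at h4
  have e1 := congrFun (congrFun h4 0) 2
  have e2 := congrFun (congrFun h4 1) 2
  have e3 := congrFun (congrFun h4 2) 0
  have e4 := congrFun (congrFun h4 2) 1
  rw [diagonal_mul, mul_diagonal] at e1 e2 e3 e4
  simp at e1 e2 e3 e4
  refine ⟨?_, ?_, ?_, ?_⟩
  · exact (mul_eq_zero.1 (show (2 : F) * g.1 0 2 = 0 by linear_combination -e1)).resolve_left h2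
  · exact (mul_eq_zero.1 (show (2 : F) * g.1 1 2 = 0 by linear_combination -e2)).resolve_left h2
  · exact (mul_eq_zero.1 (show (2 : F) * g.1 2 0 = 0 by linear_combination e3)).resolve_left h2
  · exact (mul_eq_zero.1 (show (2 : F) * g.1 2 1 = 0 by linear_combination e4)).resolve_left h2

/-- Structure of the involutions commuting with `zz`. -/
theorem block_inv (h2 : (2 : F) ≠ 0) {g : SpecialLinearGroup (Fin 3) F} (hg : g * g = 1) (h1 : g ≠ 1)
    (hz : g ≠ zz F) (hc : g * zz F = zz F * g) :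
    g.1 0 2 = 0 ∧ g.1 1 2 = 0 ∧ g.1 2 0 = 0 ∧ g.1 2 1 = 0 ∧ g.1 2 2 = -1 ∧ g.1 1 1 = -g.1 0 0 ∧
      g.1 0 0 * g.1 0 0 + g.1 0 1 * g.1 1 0 = 1 := by
  obtain ⟨a02, a12, a20, a21⟩ := comm_zz' h2 hc
  have hM : g.1 * g.1 = 1 := congrArg Subtype.val hg
  have e00 := congrFun (congrFun hM 0) 0
  have e01 := congrFun (congrFun hM 0) 1
  have e10 := congrFun (congrFun hM 1) 0
  have e11 := congrFun (congrFun hM 1) 1
  have e22 := congrFun (congrFun hM 2) 2
  have hdet := g.2
  rw [det_fin_three, a02, a12, a20, a21] at hdet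
  simp [Matrix.mul_apply, Fin.sum_univ_three, a02, a12, a20, a21] at e00 e01 e10 e11 e22 hdet
  have h22 : (g.1 2 2 - 1) * (g.1 2 2 + 1) = 0 := by linear_combination e22
  rcases mul_eq_zero.1 h22 with h3 | h3
  · exfalso
    have h4 : g.1 2 2 = 1 := sub_eq_zero.1 h3
    rw [h4, mul_one, mul_one] at hdet
    -- trace
    by_cases hb : g.1 0 1 = 0 ∧ g.1 1 0 = 0
    · obtain ⟨hb, hc'⟩ := hb
      rw [hb, hc'] at hdet e00
      have h5 : g.1 0 0 = g.1 1 1 := by
        have : g.1 0 0 * g.1 1 1 = g.1 0 0 * g.1 0 0 := by linear_combination hdet - e00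
        have h00 : g.1 0 0 ≠ 0 := by
          intro h0
          rw [h0] at e00
          simp at e00
        exact (mul_left_cancel₀ h00 this).symm
      have h6 : (g.1 0 0 - 1) * (g.1 0 0 + 1) = 0 := by linear_combination e00
      rcases mul_eq_zero.1 h6 with h7 | h7
      · apply h1
        apply Subtype.ext
        have h8 := sub_eq_zero.1 h7
        ext i j
        fin_cases i <;> fin_cases j <;> simp [a02, a12, a20, a21, hb, hc', h4, h8, ← h5]
      · apply hz
        apply Subtype.ext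
        have h8 := eq_neg_of_add_eq_zero_left h7
        rw [zz_val]
        ext i j
        fin_cases i <;> fin_cases j <;> simp [a02, a12, a20, a21, hb, hc', h4, h8, ← h5]
    · have htr : g.1 0 0 + g.1 1 1 = 0 := by
        by_contra htr
        apply hb
        constructor
        · exact (mul_eq_zero.1 (show g.1 0 1 * (g.1 0 0 + g.1 1 1) = 0 by linear_combination e01)).resolve_right htr
        · exact (mul_eq_zero.1 (show g.1 1 0 * (g.1 0 0 + g.1 1 1) = 0 by linear_combination e10)).resolve_right htr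
      apply h2
      have : g.1 1 1 = -g.1 0 0 := by linear_combination htr
      rw [this] at hdet
      linear_combination -hdet - e00
  · have h4 : g.1 2 2 = -1 := eq_neg_of_add_eq_zero_left h3
    rw [h4] at hdet
    have htr : g.1 0 0 + g.1 1 1 = 0 := by
      by_contra htr
      have hb := (mul_eq_zero.1 (show g.1 0 1 * (g.1 0 0 + g.1 1 1) = 0 by linear_combination e01)).resolve_right htr
      rw [hb] at hdet e00
      have : g.1 0 0 * (g.1 0 0 + g.1 1 1) = 0 := by linear_combination e00 - hdet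
      rcases mul_eq_zero.1 this with h0 | h0
      · rw [h0] at e00
        simp at e00
      · exact htr h0
    exact ⟨a02, a12, a20, a21, h4, by linear_combination htr, e00⟩

/-- Pairs of commuting involutions are conjugate to `(zz, ww)`. -/
theorem conj_pair (h2 : (2 : F) ≠ 0) {g k : SpecialLinearGroup (Fin 3) F} (hg : g * g = 1) (hg1 : g ≠ 1)
    (hk : k * k = 1) (hk1 : k ≠ 1) (hgk : g ≠ k) (hc : g * k = k * g) :
    ∃ x : SpecialLinearGroup (Fin 3) F, x * zz F * x⁻¹ = g ∧ x * ww F * x⁻¹ = k := by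
  obtain ⟨x, hx⟩ := conj_zz h2 hg hg1
  obtain ⟨h, hh⟩ : ∃ h : SpecialLinearGroup (Fin 3) F, k = x * h * x⁻¹ := ⟨x⁻¹ * k * x, by group⟩
  have h_sq : h * h = 1 := by
    have : x * (h * h) * x⁻¹ = 1 := by rw [← hk, hh]; group
    rwa [mul_inv_eq_one, mul_eq_left] at this
  have h_ne : h ≠ 1 := by
    rintro rfl
    apply hk1
    rw [hh]; group
  have h_z : h ≠ zz F := by
    rintro rfl
    exact hgk (by rw [← hx, hh])
  have h_c : h * zz F = zz F * h := by
    have h3 : x * (h * zz F) * x⁻¹ = x * (zz F * h) * x⁻¹ := by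
      calc x * (h * zz F) * x⁻¹ = (x * h * x⁻¹) * (x * zz F * x⁻¹) := by group
        _ = (x * zz F * x⁻¹) * (x * h * x⁻¹) := by rw [hx, ← hh, hc]
        _ = x * (zz F * h) * x⁻¹ := by group
    exact mul_left_cancel (mul_right_cancel h3)
  obtain ⟨a02, a12, a20, a21, a22, a11, hq⟩ := block_inv h2 h_sq h_ne h_z h_c
  -- an adapted basis
  obtain ⟨P, hPdet, hP02, hP12, hP20, hP21, hPz⟩ : ∃ P : Matrix (Fin 3) (Fin 3) F, P.det ≠ 0 ∧ P 0 2 = 0 ∧ P 1 2 = 0 ∧
      P 2 0 = 0 ∧ P 2 1 = 0 ∧ h.1 * P = P * (ww F).1 := by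
    by_cases hb : h.1 0 1 = 0
    · rw [hb, zero_mul, add_zero] at hq
      have h6 : (h.1 0 0 - 1) * (h.1 0 0 + 1) = 0 := by linear_combination hq
      rcases mul_eq_zero.1 h6 with h7 | h7
      · have h8 := sub_eq_zero.1 h7
        refine ⟨!![2, 0, 0; h.1 1 0, 1, 0; 0, 0, 1], ?_, rfl, rfl, rfl, rfl, ?_⟩
        · rw [det_fin_three]; simp [h2]
        · rw [ww_val]
          ext i j
          rw [Matrix.mul_apply, Fin.sum_univ_three, mul_diagonal]
          fin_cases i <;> fin_cases j <;> simp [a02, a12, a20, a21, a22, a11, hb, h8]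
          ring
      · have h8 := eq_neg_of_add_eq_zero_left h7
        refine ⟨!![0, -2, 0; 1, h.1 1 0, 0; 0, 0, 1], ?_, rfl, rfl, rfl, rfl, ?_⟩
        · rw [det_fin_three]; simp [h2]
        · rw [ww_val]
          ext i j
          rw [Matrix.mul_apply, Fin.sum_univ_three, mul_diagonal]
          fin_cases i <;> fin_cases j <;> simp [a02, a12, a20, a21, a22, a11, hb, h8]
          ring
    · refine ⟨!![h.1 0 1, h.1 0 1, 0; 1 - h.1 0 0, -1 - h.1 0 0, 0; 0, 0, 1], ?_, rfl, rfl, rfl, rfl, ?_⟩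
      · rw [det_fin_three]
        simp
        intro h0
        have : (2 : F) * h.1 0 1 = 0 := by linear_combination -h0
        exact hb ((mul_eq_zero.1 this).resolve_left h2)
      · rw [ww_val]
        ext i j
        rw [Matrix.mul_apply, Fin.sum_univ_three, mul_diagonal]
        fin_cases i <;> fin_cases j <;> simp [a02, a12, a20, a21, a22, a11]
        · ring
        · ring
        · linear_combination hq
        · linear_combination hq
  have hdet : (P * diagonal ![1, 1, P.det⁻¹]).det = 1 := by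
    rw [det_mul, det_diagonal, Fin.prod_univ_three]
    simp [mul_inv_cancel₀ hPdet]
  obtain ⟨y, hy⟩ : ∃ y : SpecialLinearGroup (Fin 3) F, y.1 = P * diagonal ![1, 1, P.det⁻¹] := ⟨⟨_, hdet⟩, rfl⟩
  have hyz : y * zz F * y⁻¹ = zz F := by
    rw [mul_inv_eq_iff_eq_mul]
    apply Subtype.ext
    show y.1 * (zz F).1 = (zz F).1 * y.1
    rw [hy, zz_val]
    ext i j
    rw [mul_diagonal, diagonal_mul, mul_diagonal]
    fin_cases i <;> fin_cases j <;> simp [hP02, hP12, hP20, hP21]
  have hyw : y * ww F * y⁻¹ = h := by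
    rw [mul_inv_eq_iff_eq_mul]
    apply Subtype.ext
    show y.1 * (ww F).1 = h.1 * y.1
    rw [hy, ← mul_assoc, hPz, mul_assoc, mul_assoc, ww_val, diagonal_mul_diagonal, diagonal_mul_diagonal]
    congr 2
    ext i
    rw [mul_comm]
  refine ⟨x * y, ?_, ?_⟩
  · rw [← hx]
    nth_rw 2 [← hyz]
    group
  · rw [hh, ← hyw]
    group

theorem lpair (h2 : (2 : F) ≠ 0) : LPair (ProjectiveSpecialLinearGroup (Fin 3) F) := by
  have key : ∀ s t : ProjectiveSpecialLinearGroup (Fin 3) F, s * s = 1 → s ≠ 1 → t * t = 1 → t ≠ 1 → s ≠ t →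
      s * t = t * s → ∃ g, g * pr (zz F) * g⁻¹ = s ∧ g * pr (ww F) * g⁻¹ = t := by
    intro s t hs hs1 ht ht1 hst hc
    obtain ⟨g, hg, hg1, rfl⟩ := exists_lift center_three hs hs1
    obtain ⟨k, hk, hk1, rfl⟩ := exists_lift center_three ht ht1
    obtain ⟨x, hx1, hx2⟩ := conj_pair h2 hg hg1 hk hk1 (fun h => hst (by rw [h])) (comm_of_lift center_three hk hc)
    exact ⟨pr x, by rw [← map_inv, ← map_mul, ← map_mul, hx1], by rw [← map_inv, ← map_mul, ← map_mul, hx2]⟩
  intro s t s' t' hs hs1 ht ht1 hst hc hs' hs1' ht' ht1' hst' hc'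
  obtain ⟨g, g1, g2⟩ := key s t hs hs1 ht ht1 hst hc
  obtain ⟨k, k1, k2⟩ := key s' t' hs' hs1' ht' ht1' hst' hc'
  refine ⟨k * g⁻¹, ?_, ?_⟩
  · rw [← k1, ← g1]; group
  · rw [← k2, ← g2]; group

/-! ### Assembly -/

/-- `O(K0) = 1` for `K0 ≅ SL_2(F)`. -/
theorem core_of_equiv {L : Type*} [Group L] [Finite L] {K0 : Subgroup L} {F1 : Type*} [Field F1] [Fintype F1]
    (hF : Odd (Fintype.card F1)) (e : Nonempty (K0 ≃* SpecialLinearGroup (Fin 2) F1)) :
    ∀ N : Subgroup L, N ≤ K0 → K0 ≤ Subgroup.normalizer (N : Set L) → Odd (Nat.card N) → N = ⊥ := by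
  intro N h1 h2 h3
  obtain ⟨e⟩ := e
  have h4 := Cfsg.Agent.Cit.le_OO h1 h2 fun h => (Nat.not_even_iff_odd.2 h3) (even_iff_two_dvd.2 h)
  rw [Cfsg.Agent.Cit.ParabSL2.OO_eq_bot hF e.symm] at h4
  exact le_bot_iff.1 h4

/-- **The facts for `PSL_3(F)`.** -/
theorem lfact [Fintype F] (hF : Odd (Fintype.card F)) :
    LFact (ProjectiveSpecialLinearGroup (Fin 3) F) (D1 (slRep F 1)) (z0 (slRep F 1)) := by
  obtain ⟨p, hp⟩ := CharP.exists F
  have hpp : Fact p.Prime := ⟨CharP.char_is_prime F p⟩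
  have h2 : (2 : F) ≠ 0 := Cfsg.Agent.SignalizersComponents.SLQuasisimple.two_ne_zero_of_odd hF
  rw [z0_eq]
  obtain ⟨o1, o2, o3, o4⟩ := out_of (t := ww F) h2 ww_sq (by rw [ww_val]; simp) ww_trace zz_ww.symm
  have hz : pr (zz F) ≠ 1 := by
    intro h
    rw [← map_one pr] at h
    obtain ⟨c, hc⟩ := exists_smul_of_pr_eq h.symm
    have e1 := congrFun (congrFun hc 2) 2
    have e2 := congrFun (congrFun hc 0) 0
    rw [zz_val, Matrix.smul_apply] at e1 e2
    simp at e1 e2
    apply h2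
    linear_combination e1 - e2
  have hzz : pr (zz F) * pr (zz F) = 1 := by rw [← map_mul, zz_sq, map_one]
  refine ⟨hzz, hz, ?_, fun a ha hx => aut_fix p h2 a ha hx, fun a ha hl hz => ?_, ⟨_, o3, o2, o1, o4⟩, ?_⟩
  · have key : ∀ s : ProjectiveSpecialLinearGroup (Fin 3) F, s * s = 1 → s ≠ 1 → ∃ g, g * pr (zz F) * g⁻¹ = s := by
      intro s hs hs1
      obtain ⟨g, hg, hg1, rfl⟩ := exists_lift center_three hs hs1
      obtain ⟨x, hx⟩ := conj_zz h2 hg hg1
      exact ⟨pr x, by rw [← map_inv, ← map_mul, ← map_mul, hx]⟩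
    intro s t hs hs1 ht ht1
    obtain ⟨g, hg⟩ := key s hs hs1
    obtain ⟨k, hk⟩ := key t ht ht1
    refine ⟨k * g⁻¹, ?_⟩
    rw [← hk, ← hg]; group
  · obtain ⟨t, t1, t2, t3, t4, t5⟩ := aut_out p h2 a hl ha hz
    exact ⟨t, t3, t2, t1, t4, t5⟩
  · apply core_of_equiv hF
    obtain ⟨e⟩ := (Cfsg.Agent.Cit.LongInst.sl_good1 hF).e1
    have : Nonempty (Fin 1) := inferInstance
    exact ⟨(Cfsg.Agent.Cit.LongQuot.D1Equiv (slRep F 1)).symm.trans e⟩

end Cfsg.Agent.CitLFactSL
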