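import Mathlib

/-!
# Groups in which every outer involutory automorphism centralises a four-group

`FourFix L`: every non-inner `x : MulAut L` with `x * x = 1` fixes two different commuting involutions of `L`.
Consequence: if `x z = z` for an involution `z`, then `x` fixes an involution `t ≠ z` commuting with `z`
(bb R18 #7797, (F4')).
-/

set_option autoImplicit false
set_option linter.style.haveILetI false

namespace Cfsg.Agent.Cit

open Subgroup

/-- every non-inner automorphism `x` with `x * x = 1` fixes two different commuting involutions -/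
def FourFix (L : Type*) [Group L] : Prop :=
  ∀ x : MulAut L, x * x = 1 → (∀ l, x ≠ MulAut.conj l) →
    ∃ a b : L, a * a = 1 ∧ b * b = 1 ∧ a ≠ 1 ∧ b ≠ 1 ∧ a ≠ b ∧ a * b = b * a ∧ x a = a ∧ x b = b

/-- in a finite group containing a four-group every involution commutes with another one -/
theorem exists_commuting_involution {H : Type*} [Group H] [Finite H] {a b z : H} (ha : a * a = 1)
    (hb : b * b = 1) (ha1 : a ≠ 1) (hb1 : b ≠ 1) (hab : a ≠ b) (hc : a * b = b * a) (hz : z * z = 1)
    (hz1 : z ≠ 1) : ∃ t : H, t * t = 1 ∧ t ≠ 1 ∧ t ≠ z ∧ t * z = z * t := by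
  haveI : Fact (Nat.Prime 2) := ⟨Nat.prime_two⟩
  have hpz : IsPGroup 2 (zpowers z) := by
    rw [IsPGroup.iff_card]
    have h1 : orderOf z ∣ 2 ^ 1 := orderOf_dvd_of_pow_eq_one (by rw [pow_one, pow_two, hz])
    obtain ⟨k, -, hk⟩ := (Nat.dvd_prime_pow Nat.prime_two).1 h1
    exact ⟨k, by rw [Nat.card_zpowers, hk]⟩
  obtain ⟨W, hW⟩ := hpz.exists_le_sylow
  have hzW : z ∈ (W : Subgroup H) := hW (mem_zpowers z)
  -- the four-group `⟨a, b⟩`
  have hV : IsPGroup 2 (closure {a, b} : Subgroup H) := by
    have key : ∀ x ∈ closure ({a, b} : Set H), x = 1 ∨ x = a ∨ x = b ∨ x = a * b := by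
      intro x hx
      induction hx using closure_induction with
      | mem x hx =>
        rcases hx with rfl | hx
        · exact Or.inr (Or.inl rfl)
        · rw [Set.mem_singleton_iff] at hx
          exact Or.inr (Or.inr (Or.inl hx))
      | one => exact Or.inl rfl
      | mul x y _ _ h1 h2 =>
        have e1 : a * (a * b) = b := by rw [← mul_assoc, ha, one_mul]
        have e2 : b * (a * b) = a := by rw [hc, ← mul_assoc, hb, one_mul]
        have e3 : a * b * a = b := by rw [hc, mul_assoc, ha, mul_one]
        have e4 : a * b * b = a := by rw [mul_assoc, hb, mul_one]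
        have e5 : a * b * (a * b) = 1 := by rw [← mul_assoc, e3, hb]
        rcases h1 with rfl | rfl | rfl | rfl <;> rcases h2 with rfl | rfl | rfl | rfl <;>
          simp [ha, hb, e1, e2, e3, e4, e5, ← hc]
      | inv x _ h1 =>
        have ea : a⁻¹ = a := inv_eq_of_mul_eq_one_right ha
        have eb : b⁻¹ = b := inv_eq_of_mul_eq_one_right hb
        rcases h1 with rfl | rfl | rfl | rfl
        · simp
        · simp [ea]
        · simp [eb]
        · rw [mul_inv_rev, ea, eb, ← hc]; simp
    intro x
    refine ⟨1, ?_⟩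
    have e5 : a * b * (a * b) = 1 := by
      have e3 : a * b * a = b := by rw [hc, mul_assoc, ha, mul_one]
      rw [← mul_assoc, e3, hb]
    apply Subtype.ext
    rw [SubmonoidClass.coe_pow, pow_one, pow_two]
    rcases key _ x.2 with h | h | h | h <;> rw [h]
    · simp
    · exact ha
    · exact hb
    · exact e5
  obtain ⟨W', hW'⟩ := hV.exists_le_sylow
  obtain ⟨g, hg⟩ := MulAction.exists_smul_eq H W' W
  have hmem : ∀ x ∈ (W' : Subgroup H), g * x * g⁻¹ ∈ (W : Subgroup H) := by
    intro x hx
    rw [← hg, Sylow.coe_subgroup_smul, Subgroup.mem_pointwise_smul_iff_inv_smul_mem]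
    simpa [MulAut.smul_def, mul_assoc] using hx
  have haW := hmem a (hW' (subset_closure (by simp)))
  have hbW := hmem b (hW' (subset_closure (by simp)))
  -- a central involution of `W`
  haveI : Nontrivial W := ⟨⟨⟨z, hzW⟩, 1, fun h => hz1 (congrArg Subtype.val h)⟩⟩
  haveI := W.isPGroup'.center_nontrivial
  obtain ⟨c, hc2⟩ : ∃ c : center W, orderOf c = 2 := by
    have h1 : IsPGroup 2 (center W) := W.isPGroup'.to_subgroup _
    obtain ⟨n, hn⟩ := IsPGroup.iff_card.1 h1
    have hn0 : n ≠ 0 := by
      rintro rfl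
      rw [pow_zero] at hn
      exact absurd hn (Finite.one_lt_card).ne'
    exact exists_prime_orderOf_dvd_card' 2 (by rw [hn]; exact dvd_pow_self 2 hn0)
  have hcW : ∀ x ∈ (W : Subgroup H), ((c : W) : H) * x = x * ((c : W) : H) := by
    intro x hx
    have := mem_center_iff.1 c.2 ⟨x, hx⟩
    exact (congrArg Subtype.val this).symm
  have hcc : (((c : W) : H)) * ((c : W) : H) = 1 := by
    have h1 : c * c = 1 := by
      have h3 := pow_orderOf_eq_one c
      rw [hc2, pow_two] at h3
      exact h3
    exact congrArg (fun x : center W => ((x : W) : H)) h1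
  have hc1 : ((c : W) : H) ≠ 1 := by
    intro h1
    have h3 : c = 1 := Subtype.ext (Subtype.ext h1)
    rw [h3, orderOf_one] at hc2
    omega
  by_cases hcz : ((c : W) : H) = z
  · -- `z` is central in `W`
    rw [hcz] at hcW
    have conj1 : ∀ {x : H}, x * x = 1 → (g * x * g⁻¹) * (g * x * g⁻¹) = 1 := by
      intro x hx
      calc (g * x * g⁻¹) * (g * x * g⁻¹) = g * (x * x) * g⁻¹ := by group
        _ = 1 := by rw [hx]; group
    by_cases haz : g * a * g⁻¹ = z
    · refine ⟨g * b * g⁻¹, conj1 hb, ?_, ?_, (hcW _ hbW).symm⟩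
      · intro h1; exact hb1 (by simpa using h1)
      · intro h1
        apply hab
        have h2 := haz.trans h1.symm
        simpa using h2
    · exact ⟨g * a * g⁻¹, conj1 ha, fun h1 => ha1 (by simpa using h1), haz, (hcW _ haW).symm⟩
  · exact ⟨_, hcc, hc1, hcz, hcW z hzW⟩

/-- **(F4')** -/
theorem FourFix.exists_fixed {L : Type*} [Group L] [Finite L] (h : FourFix L) {x : MulAut L} (hx : x * x = 1)
    (hout : ∀ l, x ≠ MulAut.conj l) {z : L} (hz : z * z = 1) (hz1 : z ≠ 1) (hxz : x z = z) :
    ∃ t : L, t * t = 1 ∧ t ≠ 1 ∧ t ≠ z ∧ t * z = z * t ∧ x t = t := by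
  obtain ⟨a, b, ha, hb, ha1, hb1, hab, hc, hxa, hxb⟩ := h x hx hout
  let H : Subgroup L :=
    { carrier := {l | x l = l}
      one_mem' := map_one x
      mul_mem' := fun {a b} ha hb => by
        change x (a * b) = a * b
        rw [map_mul, show x a = a from ha, show x b = b from hb]
      inv_mem' := fun {a} ha => by
        change x a⁻¹ = a⁻¹
        rw [map_inv, show x a = a from ha] }
  obtain ⟨t, ht, ht1, htz, htc⟩ := exists_commuting_involution (H := H) (a := ⟨a, hxa⟩) (b := ⟨b, hxb⟩)
    (z := ⟨z, hxz⟩) (Subtype.ext ha) (Subtype.ext hb) (fun h => ha1 (congrArg Subtype.val h))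
    (fun h => hb1 (congrArg Subtype.val h)) (fun h => hab (congrArg Subtype.val h)) (Subtype.ext hc)
    (Subtype.ext hz) (fun h => hz1 (congrArg Subtype.val h))
  exact ⟨t, congrArg Subtype.val ht, fun h => ht1 (Subtype.ext h), fun h => htz (Subtype.ext h),
    congrArg Subtype.val htc, t.2⟩

theorem FourFix.of_equiv {L L' : Type*} [Group L] [Group L'] (e : L ≃* L') (h : FourFix L) : FourFix L' := by
  intro x hx hout
  have hx' : MulAut.congr e.symm x * MulAut.congr e.symm x = 1 := by
    rw [← map_mul, hx, map_one]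
  obtain ⟨a, b, ha, hb, ha1, hb1, hab, hc, hxa, hxb⟩ := h (MulAut.congr e.symm x) hx' (by
    intro l hl
    apply hout (e l)
    ext y
    have h1 := congrArg (fun f : MulAut L => f (e.symm y)) hl
    simp only [MulAut.congr_apply, MulEquiv.trans_apply, MulEquiv.symm_symm, MulEquiv.apply_symm_apply,
      MulAut.conj_apply] at h1
    have h2 := congrArg e h1
    simpa using h2)
  have key : ∀ c, MulAut.congr e.symm x c = c → x (e c) = e c := by
    intro c hc
    have h2 := congrArg e hc
    simpa [MulAut.congr_apply] using h2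
  refine ⟨e a, e b, by rw [← map_mul, ha, map_one], by rw [← map_mul, hb, map_one], ?_, ?_, ?_, ?_, key a hxa,
    key b hxb⟩
  · intro h1; exact ha1 (by simpa using h1)
  · intro h1; exact hb1 (by simpa using h1)
  · intro h1; exact hab (e.injective h1)
  · rw [← map_mul, hc, map_mul]

end Cfsg.Agent.Cit
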