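import Cfsg.Agent.ClassicalGeometry.AutPSL.Main
import Cfsg.Agent.Cit.FourFix

/-!
# `FourFix` for `PSL₃(F)`, `F` finite of odd characteristic

Every outer involutory automorphism of `PSL₃(F)` centralises a four-group.
-/

set_option autoImplicit false
set_option linter.unusedSectionVars false

namespace Cfsg.Agent.Cit.FourL

open Matrix
open Cfsg.Agent.ClassicalGeometry.AutPSL.Root
open Cfsg.Agent.ClassicalGeometry.AutPSL.Auto
open Cfsg.Agent.ClassicalGeometry.AutPSL.Main

variable {F : Type*} [Field F]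

abbrev M3 (F : Type*) [Field F] := Matrix (Fin 3) (Fin 3) F

/-! ### Galois descent -/

/-- the semilinear trace -/
def fv (σ : F ≃+* F) (A : M3 F) (v : Fin 3 → F) : Fin 3 → F := v + A *ᵥ (fun i => σ (v i))

theorem span_fv {σ : F ≃+* F} {c : F} (hc : σ c ≠ c) (A : M3 F) :
    Submodule.span F (Set.range (fv σ A)) = ⊤ := by
  by_contra hne
  obtain ⟨g, hg0, hg⟩ := Submodule.exists_le_ker_of_lt_top _ (lt_top_iff_ne_top.2 hne)
  apply hg0
  apply LinearMap.ext
  intro v
  have h1 : ∀ v, g v + g (A *ᵥ (fun i => σ (v i))) = 0 := by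
    intro v
    have := hg (Submodule.subset_span ⟨v, rfl⟩)
    rw [LinearMap.mem_ker, fv, map_add] at this
    exact this
  have h2 := h1 v
  have h3 := h1 (c • v)
  have h4 : (fun i => σ ((c • v) i)) = σ c • (fun i => σ (v i)) := by
    funext i
    change σ (c * v i) = σ c * σ (v i)
    rw [map_mul]
  rw [h4, mulVec_smul, map_smul, map_smul, smul_eq_mul, smul_eq_mul] at h3
  change g v = 0
  have h5 : (c - σ c) * g v = 0 := by linear_combination h3 - σ c * h2
  rcases mul_eq_zero.1 h5 with h6 | h6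
  · exact absurd (sub_eq_zero.1 h6).symm hc
  · exact h6

/-- Hilbert's Theorem 90 for `GL₃` and an automorphism of order two -/
theorem hilbert {σ : F ≃+* F} (hσ : ∀ x, σ (σ x) = x) {c : F} (hc : σ c ≠ c) (A : M3 F)
    (hA : A * A.map σ = 1) : ∃ B : M3 F, IsUnit B ∧ A * B.map σ = B := by
  obtain ⟨b, hbS, hbspan, hli⟩ := exists_linearIndependent F (Set.range (fv σ A))
  have htop : ⊤ ≤ Submodule.span F (Set.range (Subtype.val : b → (Fin 3 → F))) := by
    rw [Subtype.range_coe, hbspan, span_fv hc]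
  let bas : Module.Basis b F (Fin 3 → F) := Module.Basis.mk hli htop
  have hcard : Nat.card b = 3 := by
    rw [← Module.finrank_eq_nat_card_basis bas, Module.finrank_fintype_fun_eq_card,
      Fintype.card_fin]
  have hfin : Finite b := Nat.finite_of_card_ne_zero (by rw [hcard]; decide)
  let e : b ≃ Fin 3 := Finite.equivFinOfCardEq hcard
  let B : M3 F := fun i j => ((e.symm j : b) : Fin 3 → F) i
  refine ⟨B, ?_, ?_⟩
  · rw [← Matrix.linearIndependent_cols_iff_isUnit]
    exact hli.comp _ e.symm.injective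
  · ext i j
    obtain ⟨v, hv⟩ := hbS (e.symm j).2
    have hB : ∀ i, B i j = fv σ A v i := fun i => (congrFun hv i).symm
    rw [hB, Matrix.mul_apply]
    have h1 : (fun k => B.map σ k j) = fun k => σ (fv σ A v k) := by
      funext k
      change σ (B k j) = _
      rw [hB]
    have h2 : (∑ k, A i k * B.map σ k j) = (A *ᵥ (fun k => σ (fv σ A v k))) i := by
      rw [← h1]; rfl
    rw [h2]
    have h3 : (fun k => σ (fv σ A v k)) = (fun k => σ (v k)) + (A.map σ) *ᵥ v := by
      funext k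
      change σ (v k + (A *ᵥ fun i => σ (v i)) k) = σ (v k) + ((A.map σ) *ᵥ v) k
      rw [map_add]
      congr 1
      change σ (∑ l, A k l * σ (v l)) = ∑ l, σ (A k l) * v l
      rw [map_sum]
      apply Finset.sum_congr rfl
      intro l _
      rw [map_mul, hσ]
    rw [h3, mulVec_add, mulVec_mulVec, hA, one_mulVec, fv, add_comm]

/-! ### Orthogonal bases -/

/-- the form of a matrix -/
def fm (σ : F ≃+* F) (A : M3 F) (u v : Fin 3 → F) : F := u ⬝ᵥ (A *ᵥ (fun i => σ (v i)))

section form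

variable {σ : F ≃+* F} {A : M3 F}

theorem fm_add_left (u u' v : Fin 3 → F) : fm σ A (u + u') v = fm σ A u v + fm σ A u' v :=
  add_dotProduct _ _ _

theorem fm_smul_left (c : F) (u v : Fin 3 → F) : fm σ A (c • u) v = c * fm σ A u v := by
  rw [fm, smul_dotProduct, smul_eq_mul, fm]

theorem fm_add_right (u v v' : Fin 3 → F) : fm σ A u (v + v') = fm σ A u v + fm σ A u v' := by
  have : (fun i => σ ((v + v') i)) = (fun i => σ (v i)) + fun i => σ (v' i) := by
    funext i
    exact map_add σ _ _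
  rw [fm, this, mulVec_add, dotProduct_add, fm, fm]

theorem fm_smul_right (c : F) (u v : Fin 3 → F) : fm σ A u (c • v) = σ c * fm σ A u v := by
  have : (fun i => σ ((c • v) i)) = σ c • fun i => σ (v i) := by
    funext i
    exact map_mul σ _ _
  rw [fm, this, mulVec_smul, dotProduct_smul, smul_eq_mul, fm]

theorem fm_symm (hσ : ∀ x, σ (σ x) = x) (hA : (A.map σ)ᵀ = A) (u v : Fin 3 → F) :
    fm σ A v u = σ (fm σ A u v) := by
  have e : ∀ i j, σ (A i j) = A j i := fun i j => congrFun (congrFun hA j) i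
  simp only [fm, dotProduct, mulVec, map_sum, map_mul, hσ, e]
  simp only [Finset.mul_sum]
  rw [Finset.sum_comm]
  apply Finset.sum_congr rfl
  intro i _
  apply Finset.sum_congr rfl
  intro j _
  ring

theorem eq_zero_of_fm (hd : A.det ≠ 0) {u : Fin 3 → F} (h : ∀ v, fm σ A u v = 0) : u = 0 := by
  by_contra hu
  apply hd
  apply Matrix.exists_vecMul_eq_zero_iff.1
  refine ⟨u, hu, ?_⟩
  funext j
  have h1 := h (Pi.single j 1)
  have h2 : (fun i => σ ((Pi.single j 1 : Fin 3 → F) i)) = Pi.single j 1 := by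
    funext i
    by_cases hij : i = j
    · subst hij; simp
    · simp [hij]
  rw [fm, h2, dotProduct_mulVec, dotProduct_single, mul_one] at h1
  exact h1

theorem polar (hσ : ∀ x, σ (σ x) = x) (h2 : (2 : F) ≠ 0) (hA : (A.map σ)ᵀ = A)
    (W : Submodule F (Fin 3 → F)) (h0 : ∀ v ∈ W, fm σ A v v = 0) :
    ∀ u ∈ W, ∀ v ∈ W, fm σ A u v = 0 := by
  intro u hu v hv
  have key : ∀ c : F, c * fm σ A u v + σ c * σ (fm σ A u v) = 0 := by
    intro c
    have h1 := h0 (c • u + v) (W.add_mem (W.smul_mem c hu) hv)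
    rw [fm_add_left, fm_add_right, fm_add_right, h0 _ (W.smul_mem c hu), h0 v hv, fm_smul_left,
      fm_smul_right, fm_symm hσ hA u v] at h1
    linear_combination h1
  have h1 := key 1
  rw [map_one, one_mul, one_mul] at h1
  by_cases hc : ∃ c, σ c ≠ c
  · obtain ⟨c, hc⟩ := hc
    have h3 : (c - σ c) * fm σ A u v = 0 := by linear_combination key c - σ c * h1
    rcases mul_eq_zero.1 h3 with h4 | h4
    · exact absurd (sub_eq_zero.1 h4).symm hc
    · exact h4
  · push Not at hc
    rw [hc] at h1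
    have h3 : (2 : F) * fm σ A u v = 0 := by linear_combination h1
    rcases mul_eq_zero.1 h3 with h4 | h4
    · exact absurd h4 h2
    · exact h4

/-- **orthogonal basis of a nondegenerate symmetric / hermitian form of degree 3** -/
theorem exists_diag (hσ : ∀ x, σ (σ x) = x) (h2 : (2 : F) ≠ 0) (hA : (A.map σ)ᵀ = A) (hd : A.det ≠ 0) :
    ∃ C : M3 F, IsUnit C ∧ ∀ i j, i ≠ j → (C * A * (C.map σ)ᵀ) i j = 0 := by
  have hs := fun u v => fm_symm (σ := σ) hσ hA u v
  have hz : ∀ {u v : Fin 3 → F}, fm σ A u v = 0 → fm σ A v u = 0 := by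
    intro u v h
    rw [hs u v, h, map_zero]
  -- first vector
  obtain ⟨c1, hc1⟩ : ∃ v, fm σ A v v ≠ 0 := by
    by_contra hno
    push Not at hno
    have h3 := polar hσ h2 hA ⊤ (fun v _ => hno v)
    have h4 : (Pi.single 0 1 : Fin 3 → F) = 0 := eq_zero_of_fm hd (fun v => h3 _ trivial v trivial)
    have h5 := congrFun h4 0
    simp at h5
  have hdec : ∀ v : Fin 3 → F, ∃ (α : F) (v' : Fin 3 → F), v = v' + α • c1 ∧ fm σ A v' c1 = 0 := by
    intro v
    refine ⟨fm σ A v c1 / fm σ A c1 c1, v - (fm σ A v c1 / fm σ A c1 c1) • c1, by simp, ?_⟩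
    have h3 : v = (v - (fm σ A v c1 / fm σ A c1 c1) • c1) + (fm σ A v c1 / fm σ A c1 c1) • c1 := by simp
    have h4 := congrArg (fun x => fm σ A x c1) h3
    simp only [fm_add_left, fm_smul_left] at h4
    rw [div_mul_cancel₀ _ hc1] at h4
    exact (left_eq_add.1 (by rw [add_comm]; exact h4))
  -- second vector
  obtain ⟨c2, hc21, hc2⟩ : ∃ v, fm σ A v c1 = 0 ∧ fm σ A v v ≠ 0 := by
    by_contra hno
    push Not at hno
    let W : Submodule F (Fin 3 → F) :=
      { carrier := {v | fm σ A v c1 = 0}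
        add_mem' := fun {a b} ha hb => by
          change fm σ A (a + b) c1 = 0
          rw [fm_add_left, show fm σ A a c1 = 0 from ha, show fm σ A b c1 = 0 from hb, add_zero]
        zero_mem' := by
          change fm σ A 0 c1 = 0
          rw [fm, zero_dotProduct]
        smul_mem' := fun c {a} ha => by
          change fm σ A (c • a) c1 = 0
          rw [fm_smul_left, show fm σ A a c1 = 0 from ha, mul_zero] }
    have h3 := polar hσ h2 hA W (fun v hv => hno v hv)
    obtain ⟨u, hu0, hu, -⟩ := exists_common_zero (F := F) (ι := Fin 3) (by rw [Fintype.card_fin])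
      (A *ᵥ fun i => σ (c1 i)) 0
    have huW : fm σ A u c1 = 0 := by rw [fm, dotProduct_comm]; exact hu
    apply hu0
    apply eq_zero_of_fm (σ := σ) hd
    intro v
    obtain ⟨α, v', hv, hv'⟩ := hdec v
    rw [hv, fm_add_right, fm_smul_right, huW, mul_zero, add_zero]
    exact h3 u huW v' hv'
  -- third vector
  obtain ⟨c3, hc30, hc31, hc32⟩ : ∃ v, v ≠ 0 ∧ fm σ A v c1 = 0 ∧ fm σ A v c2 = 0 := by
    obtain ⟨u, hu0, hu1, hu2⟩ := exists_common_zero (F := F) (ι := Fin 3) (by rw [Fintype.card_fin])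
      (A *ᵥ fun i => σ (c1 i)) (A *ᵥ fun i => σ (c2 i))
    exact ⟨u, hu0, by rw [fm, dotProduct_comm]; exact hu1, by rw [fm, dotProduct_comm]; exact hu2⟩
  let C : M3 F := ![c1, c2, c3]
  have hC : ∀ i j, (C * A * (C.map σ)ᵀ) i j = fm σ A (C i) (C j) := by
    intro i j
    rw [mul_assoc, Matrix.mul_apply_eq_vecMul, ← vecMul_vecMul, fm, dotProduct_mulVec]
    rfl
  refine ⟨C, ?_, ?_⟩
  · rw [← Matrix.linearIndependent_rows_iff_isUnit]
    rw [Fintype.linearIndependent_iff]
    intro g hg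
    rw [Fin.sum_univ_three] at hg
    change g 0 • c1 + g 1 • c2 + g 2 • c3 = 0 at hg
    have e1 := congrArg (fun x => fm σ A x c1) hg
    have e2 := congrArg (fun x => fm σ A x c2) hg
    have e0 : ∀ w, fm σ A 0 w = 0 := fun w => by rw [fm, zero_dotProduct]
    simp only [fm_add_left, fm_smul_left, hc21, hc31, hc32, hz hc21, mul_zero, add_zero, zero_add, e0] at e1 e2
    have g0 : g 0 = 0 := (mul_eq_zero.1 e1).resolve_right hc1
    have g1 : g 1 = 0 := (mul_eq_zero.1 e2).resolve_right hc2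
    rw [g0, g1, zero_smul, zero_smul, zero_add, zero_add] at hg
    have g2 : g 2 = 0 := (smul_eq_zero.1 hg).resolve_right hc30
    intro i
    fin_cases i
    · exact g0
    · exact g1
    · exact g2
  · intro i j hij
    rw [hC]
    fin_cases i <;> fin_cases j
    · exact absurd rfl hij
    · exact hz hc21
    · exact hz hc31
    · exact hc21
    · exact absurd rfl hij
    · exact hz hc32
    · exact hc31
    · exact hc32
    · exact absurd rfl hij

end form

/-! ### Field automorphisms and inverse transpose on `GL` -/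

/-- field automorphism on `GL` -/
noncomputable def gm (σ : F ≃+* F) (A : GL (Fin 3) F) : GL (Fin 3) F :=
  Matrix.GeneralLinearGroup.map (σ : F →+* F) A

theorem coe_gm (σ : F ≃+* F) (A : GL (Fin 3) F) : (gm σ A : M3 F) = (A : M3 F).map σ := rfl

theorem coe_gm_inv (σ : F ≃+* F) (A : GL (Fin 3) F) :
    (((gm σ A)⁻¹ : GL (Fin 3) F) : M3 F) = ((A⁻¹ : GL (Fin 3) F) : M3 F).map σ := by
  have h : (gm σ A)⁻¹ = gm σ A⁻¹ :=
    (map_inv (Matrix.GeneralLinearGroup.map (n := Fin 3) (σ : F →+* F)) A).symm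
  rw [h, coe_gm]

/-- inverse transpose on `GL` -/
noncomputable def it (A : GL (Fin 3) F) : GL (Fin 3) F where
  val := ((A⁻¹ : GL (Fin 3) F) : M3 F)ᵀ
  inv := (A : M3 F)ᵀ
  val_inv := by rw [← transpose_mul, ← Units.val_mul, mul_inv_cancel, Units.val_one, transpose_one]
  inv_val := by rw [← transpose_mul, ← Units.val_mul, inv_mul_cancel, Units.val_one, transpose_one]

theorem coe_it (A : GL (Fin 3) F) : (it A : M3 F) = ((A⁻¹ : GL (Fin 3) F) : M3 F)ᵀ := rfl

theorem coe_it_inv (A : GL (Fin 3) F) : (((it A)⁻¹ : GL (Fin 3) F) : M3 F) = (A : M3 F)ᵀ := rfl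

theorem map_mul3 (σ : F ≃+* F) (X Y : M3 F) : (X * Y).map σ = X.map σ * Y.map σ :=
  Matrix.map_mul (f := (σ : F →+* F))

theorem fld_cj (σ : F ≃+* F) (A : GL (Fin 3) F) : fld σ * cj A = cj (gm σ A) * fld σ := by
  apply MulEquiv.ext
  intro g
  apply Subtype.ext
  have h1 : ((fld σ * cj A : MulAut (SpecialLinearGroup (Fin 3) F)) g).1 =
      ((A : M3 F) * g.1 * ((A⁻¹ : GL (Fin 3) F) : M3 F)).map σ := rfl
  have h2 : ((cj (gm σ A) * fld σ : MulAut (SpecialLinearGroup (Fin 3) F)) g).1 =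
      ((gm σ A : GL (Fin 3) F) : M3 F) * (g.1.map σ) * (((gm σ A)⁻¹ : GL (Fin 3) F) : M3 F) := rfl
  rw [h1, h2, coe_gm, coe_gm_inv, map_mul3, map_mul3]

theorem itr_cj (A : GL (Fin 3) F) : itr * cj A = cj (it A) * itr := by
  apply MulEquiv.ext
  intro g
  apply Subtype.ext
  have h1 : ((itr * cj A : MulAut (SpecialLinearGroup (Fin 3) F)) g).1 =
      (((cj A g)⁻¹ : SpecialLinearGroup (Fin 3) F).1)ᵀ := rfl
  have h2 : ((cj (it A) * itr : MulAut (SpecialLinearGroup (Fin 3) F)) g).1 =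
      ((it A : GL (Fin 3) F) : M3 F) * ((g⁻¹ : SpecialLinearGroup (Fin 3) F).1)ᵀ *
      (((it A)⁻¹ : GL (Fin 3) F) : M3 F) := rfl
  rw [h1, h2, coe_it, coe_it_inv, ← map_inv, coe_cj, transpose_mul, transpose_mul, mul_assoc]

theorem itr_fld (σ : F ≃+* F) :
    itr * fld σ = fld σ * (itr : MulAut (SpecialLinearGroup (Fin 3) F)) := by
  apply MulEquiv.ext
  intro g
  apply Subtype.ext
  have h1 : ((itr * fld σ : MulAut (SpecialLinearGroup (Fin 3) F)) g).1 =
    (((fld σ g)⁻¹ : SpecialLinearGroup (Fin 3) F).1)ᵀ := rfl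
  have h2 : ((fld σ * itr : MulAut (SpecialLinearGroup (Fin 3) F)) g).1 =
    (((g⁻¹ : SpecialLinearGroup (Fin 3) F).1)ᵀ).map σ := rfl
  rw [h1, h2, ← map_inv]
  rfl

/-! ### Diagonal matrices with entries `±1` -/

/-- diagonal element of `SL₃` -/
def dg (ε : Fin 3 → F) (h : ε 0 * ε 1 * ε 2 = 1) : SpecialLinearGroup (Fin 3) F :=
  ⟨diagonal ε, by rw [det_diagonal, Fin.prod_univ_three]; exact h⟩

theorem fld_dg (σ : F ≃+* F) {ε : Fin 3 → F} (h : ε 0 * ε 1 * ε 2 = 1) (hε : ∀ i, ε i = 1 ∨ ε i = -1) :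
    fld σ (dg ε h) = dg ε h := by
  apply Subtype.ext
  ext i j
  rw [coe_fld_apply]
  change σ (diagonal ε i j) = diagonal ε i j
  rw [diagonal_apply]
  split_ifs
  · rcases hε i with h1 | h1 <;> rw [h1] <;> simp
  · exact map_zero σ

theorem dg_inv {ε : Fin 3 → F} (h : ε 0 * ε 1 * ε 2 = 1) (hε : ∀ i, ε i = 1 ∨ ε i = -1) :
    (dg ε h)⁻¹ = dg ε h := by
  rw [inv_eq_iff_mul_eq_one]
  apply Subtype.ext
  change diagonal ε * diagonal ε = 1
  rw [diagonal_mul_diagonal, ← diagonal_one]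
  congr 1
  funext i
  rcases hε i with h1 | h1 <;> rw [h1] <;> simp

theorem itr_dg {ε : Fin 3 → F} (h : ε 0 * ε 1 * ε 2 = 1) (hε : ∀ i, ε i = 1 ∨ ε i = -1) :
    itr (dg ε h) = dg ε h := by
  apply Subtype.ext
  rw [coe_itr, dg_inv h hε]
  exact diagonal_transpose ε

theorem cj_dg {D : GL (Fin 3) F} (hD : ∀ i j, i ≠ j → (D : M3 F) i j = 0) {ε : Fin 3 → F}
    (h : ε 0 * ε 1 * ε 2 = 1) : cj D (dg ε h) = dg ε h := by
  apply Subtype.ext
  rw [coe_cj]
  change (D : M3 F) * diagonal ε * ((D⁻¹ : GL (Fin 3) F) : M3 F) = diagonal ε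
  have h1 : (D : M3 F) * diagonal ε = diagonal ε * (D : M3 F) := by
    ext i j
    rw [mul_diagonal, diagonal_mul]
    by_cases hij : i = j
    · subst hij; rw [mul_comm]
    · rw [hD i j hij, mul_zero, zero_mul]
  rw [h1, mul_assoc, ← Units.val_mul, mul_inv_cancel, Units.val_one, mul_one]

theorem four_of_fixed (h2 : (2 : F) ≠ 0) (α : MulAut (ProjectiveSpecialLinearGroup (Fin 3) F))
    (B : GL (Fin 3) F) (hfix : ∀ (ε : Fin 3 → F) (h : ε 0 * ε 1 * ε 2 = 1), (∀ i, ε i = 1 ∨ ε i = -1) →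
      α (pr (cj B (dg ε h))) = pr (cj B (dg ε h))) :
    ∃ a b : ProjectiveSpecialLinearGroup (Fin 3) F, a * a = 1 ∧ b * b = 1 ∧ a ≠ 1 ∧ b ≠ 1 ∧ a ≠ b ∧
      a * b = b * a ∧ α a = a ∧ α b = b := by
  have hne : (1 : F) ≠ -1 := by
    intro h
    apply h2
    linear_combination h
  have e1 : (![1, -1, -1] : Fin 3 → F) 0 * (![1, -1, -1] : Fin 3 → F) 1 * (![1, -1, -1] : Fin 3 → F) 2 = 1 := by
    simp
  have e2 : (![-1, 1, -1] : Fin 3 → F) 0 * (![-1, 1, -1] : Fin 3 → F) 1 * (![-1, 1, -1] : Fin 3 → F) 2 = 1 := by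
    simp
  have p1 : ∀ i, (![1, -1, -1] : Fin 3 → F) i = 1 ∨ (![1, -1, -1] : Fin 3 → F) i = -1 := by
    intro i; fin_cases i <;> simp
  have p2 : ∀ i, (![-1, 1, -1] : Fin 3 → F) i = 1 ∨ (![-1, 1, -1] : Fin 3 → F) i = -1 := by
    intro i; fin_cases i <;> simp
  have hnt : ∀ {ε ε' : Fin 3 → F} (h : ε 0 * ε 1 * ε 2 = 1) (h' : ε' 0 * ε' 1 * ε' 2 = 1),
      (pr (cj B (dg ε h)) : ProjectiveSpecialLinearGroup (Fin 3) F) = pr (cj B (dg ε' h')) →
      ∃ c : F, ∀ i, ε' i = c * ε i := by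
    intro ε ε' h h' heq
    obtain ⟨c, hc⟩ := exists_smul_of_pr_eq heq
    refine ⟨c, ?_⟩
    rw [coe_cj, coe_cj] at hc
    have h3 := congrArg (fun X => ((B⁻¹ : GL (Fin 3) F) : M3 F) * X * (B : M3 F)) hc
    simp only [Matrix.mul_smul, Matrix.smul_mul] at h3
    have h4 : ∀ X : M3 F, ((B⁻¹ : GL (Fin 3) F) : M3 F) * ((B : M3 F) * X *
        ((B⁻¹ : GL (Fin 3) F) : M3 F)) * (B : M3 F) = X := by
      intro X
      rw [mul_assoc (B : M3 F), ← mul_assoc ((B⁻¹ : GL (Fin 3) F) : M3 F) (B : M3 F), ← Units.val_mul,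
        inv_mul_cancel, Units.val_one, one_mul, mul_assoc, ← Units.val_mul, inv_mul_cancel,
        Units.val_one, mul_one]
    rw [h4, h4] at h3
    intro i
    have h5 := congrFun (congrFun h3 i) i
    change diagonal ε' i i = c * diagonal ε i i at h5
    rwa [diagonal_apply_eq, diagonal_apply_eq] at h5
  have hsq : ∀ {ε : Fin 3 → F} (h : ε 0 * ε 1 * ε 2 = 1), (∀ i, ε i = 1 ∨ ε i = -1) →
      (pr (cj B (dg ε h)) : ProjectiveSpecialLinearGroup (Fin 3) F) * pr (cj B (dg ε h)) = 1 := by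
    intro ε h hε
    have h3 : dg ε h * dg ε h = 1 := by
      have := dg_inv h hε
      rw [inv_eq_iff_mul_eq_one] at this
      exact this
    rw [← map_mul, ← map_mul, h3, map_one, map_one]
  have h1 : (pr (cj B (dg (fun _ => (1 : F)) (by simp))) : ProjectiveSpecialLinearGroup (Fin 3) F) = 1 := by
    have : dg (fun _ => (1 : F)) (by simp) = 1 := by
      apply Subtype.ext
      exact diagonal_one
    rw [this, map_one, map_one]
  refine ⟨pr (cj B (dg _ e1)), pr (cj B (dg _ e2)), hsq e1 p1, hsq e2 p2, ?_, ?_, ?_, ?_, hfix _ e1 p1,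
    hfix _ e2 p2⟩
  · intro h
    rw [← h1] at h
    obtain ⟨c, hc⟩ := hnt _ _ h.symm
    have a0 := hc 0
    have a1 := hc 1
    simp at a0 a1
    exact hne (a0.trans a1.symm)
  · intro h
    rw [← h1] at h
    obtain ⟨c, hc⟩ := hnt _ _ h.symm
    have a0 := hc 0
    have a1 := hc 1
    simp at a0 a1
    exact hne (a1.trans a0.symm)
  · intro h
    obtain ⟨c, hc⟩ := hnt _ _ h
    have a0 := hc 0
    have a2 := hc 2
    simp at a0 a2
    exact hne (by rw [a0, ← a2])
  · rw [← map_mul, ← map_mul, ← map_mul, ← map_mul]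
    congr 2
    apply Subtype.ext
    change diagonal _ * diagonal _ = diagonal _ * diagonal _
    rw [diagonal_mul_diagonal, diagonal_mul_diagonal]
    congr 1
    funext i
    rw [mul_comm]

/-! ### The three kinds of outer involutions -/

theorem smul_eq_scalar (μ : F) (X : M3 F) : (scalar (Fin 3) μ : M3 F) * X = μ • X := by
  rw [scalar_apply, ← smul_one_eq_diagonal, Matrix.smul_mul, one_mul]

theorem det_smul3 (μ : F) (X : M3 F) : (μ • X).det = μ ^ 3 * X.det := by
  rw [det_smul, Fintype.card_fin]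

theorem gl_det_ne (A : GL (Fin 3) F) : (A : M3 F).det ≠ 0 := by
  have := A.isUnit.map (Matrix.detMonoidHom (n := Fin 3) (R := F))
  exact this.ne_zero

theorem det_map3 (σ : F ≃+* F) (X : M3 F) : (X.map σ).det = σ X.det := by
  exact (RingHom.map_det (σ : F →+* F) X).symm

/-- conclusion from a diagonal matrix -/
theorem fixed_of_diag {σ : F ≃+* F} {A B : GL (Fin 3) F}
    (hD : ∀ i j, i ≠ j → ((B⁻¹ * (A * gm σ B) : GL (Fin 3) F) : M3 F) i j = 0) {ε : Fin 3 → F}
    (h : ε 0 * ε 1 * ε 2 = 1) (hε : ∀ i, ε i = 1 ∨ ε i = -1) :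
    lift (cj A * fld σ) (pr (cj B (dg ε h))) = pr (cj B (dg ε h)) := by
  rw [lift_pr]
  congr 1
  have h1 : (cj A * fld σ : MulAut (SpecialLinearGroup (Fin 3) F)) (cj B (dg ε h)) =
    cj A ((fld σ * cj B : MulAut (SpecialLinearGroup (Fin 3) F)) (dg ε h)) := rfl
  rw [h1, fld_cj]
  have h2 : (cj (gm σ B) * fld σ : MulAut (SpecialLinearGroup (Fin 3) F)) (dg ε h) =
    cj (gm σ B) (fld σ (dg ε h)) := rfl
  rw [h2, fld_dg σ h hε]
  have h3 : cj A (cj (gm σ B) (dg ε h)) = cj B (cj (B⁻¹ * (A * gm σ B)) (dg ε h)) := by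
    have : ∀ (X Y : GL (Fin 3) F) (g : SpecialLinearGroup (Fin 3) F), cj X (cj Y g) = cj (X * Y) g := by
      intro X Y g
      rw [map_mul]; rfl
    rw [this, this, mul_inv_cancel_left]
  rw [h3, cj_dg hD h]

theorem fixed_of_diag' {σ : F ≃+* F} {A B : GL (Fin 3) F}
    (hD : ∀ i j, i ≠ j → ((B⁻¹ * (A * gm σ (it B)) : GL (Fin 3) F) : M3 F) i j = 0) {ε : Fin 3 → F}
    (h : ε 0 * ε 1 * ε 2 = 1) (hε : ∀ i, ε i = 1 ∨ ε i = -1) :
    lift (cj A * fld σ * itr) (pr (cj B (dg ε h))) = pr (cj B (dg ε h)) := by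
  rw [lift_pr]
  congr 1
  have h1 : (cj A * fld σ * itr : MulAut (SpecialLinearGroup (Fin 3) F)) (cj B (dg ε h)) =
    cj A (fld σ ((itr * cj B : MulAut (SpecialLinearGroup (Fin 3) F)) (dg ε h))) := rfl
  rw [h1, itr_cj]
  have h2 : (cj (it B) * itr : MulAut (SpecialLinearGroup (Fin 3) F)) (dg ε h) =
    cj (it B) (itr (dg ε h)) := rfl
  rw [h2, itr_dg h hε]
  have h4 : fld σ (cj (it B) (dg ε h)) =
    (fld σ * cj (it B) : MulAut (SpecialLinearGroup (Fin 3) F)) (dg ε h) := rfl
  rw [h4, fld_cj]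
  have h5 : (cj (gm σ (it B)) * fld σ : MulAut (SpecialLinearGroup (Fin 3) F)) (dg ε h) =
    cj (gm σ (it B)) (fld σ (dg ε h)) := rfl
  rw [h5, fld_dg σ h hε]
  have h3 : cj A (cj (gm σ (it B)) (dg ε h)) = cj B (cj (B⁻¹ * (A * gm σ (it B))) (dg ε h)) := by
    have : ∀ (X Y : GL (Fin 3) F) (g : SpecialLinearGroup (Fin 3) F), cj X (cj Y g) = cj (X * Y) g := by
      intro X Y g
      rw [map_mul]; rfl
    rw [this, this, mul_inv_cancel_left]
  rw [h3, cj_dg hD h]

theorem scalar_iff {r : F} {C : GL (Fin 3) F} (h : scalar (Fin 3) r = (C : M3 F)) :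
    (C : M3 F) = r • (1 : M3 F) := by
  rw [← h, scalar_apply, smul_one_eq_diagonal]

theorem ring_sq {σ : F ≃+* F} (h : σ * σ = 1) (x : F) : σ (σ x) = x :=
  congrArg (fun f : F ≃+* F => f x) h

/-- **`PSL₃(F)`, `F` finite of odd characteristic** -/
theorem fourFix_psl [Fintype F] (h2 : (2 : F) ≠ 0) : FourFix (ProjectiveSpecialLinearGroup (Fin 3) F) := by
  obtain ⟨p, hp⟩ := CharP.exists F
  have : Fact p.Prime := ⟨CharP.char_is_prime F p⟩
  intro α hα hout
  rcases surj_three p le_rfl α with ⟨A, σ, rfl⟩ | ⟨A, σ, rfl⟩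
  · -- semilinear
    have e1 : lift (cj (A * gm σ A) * fld (σ * σ)) = lift (fld (1 : F ≃+* F)) := by
      rw [map_one fld, map_one, ← hα, ← map_mul]
      congr 1
      rw [map_mul cj, map_mul fld]
      calc cj A * cj (gm σ A) * (fld σ * fld σ) = cj A * (cj (gm σ A) * fld σ) * fld σ := by
            simp only [mul_assoc]
        _ = cj A * (fld σ * cj A) * fld σ := by rw [fld_cj]
        _ = _ := by simp only [mul_assoc]
    obtain ⟨⟨r, hr⟩, hσ⟩ := injective_aux e1
    have hσ' := ring_sq hσ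
    have hr' := scalar_iff hr
    rw [Units.val_mul, coe_gm] at hr'
    have hdet : (A : M3 F).det * σ (A : M3 F).det = r ^ 3 := by
      have := congrArg Matrix.det hr'
      rwa [det_mul, det_map3, det_smul3, det_one, mul_one] at this
    have hr0 : r ≠ 0 := by
      rintro rfl
      have h3 := mul_ne_zero (gl_det_ne A) (fun h => gl_det_ne A ((map_eq_zero σ).1 h))
      rw [hdet] at h3
      exact h3 (by norm_num)
    have hδ := gl_det_ne A
    -- `r` is fixed by `σ`
    have hσr : σ r = r := by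
      have h4 : (A : M3 F).map σ * (A : M3 F) = r • (1 : M3 F) := by
        have h5 : (A : M3 F) * ((r⁻¹) • (A : M3 F).map σ) = 1 := by
          rw [Matrix.mul_smul, hr', smul_smul, inv_mul_cancel₀ hr0, one_smul]
        have h6 := mul_eq_one_comm.1 h5
        rw [Matrix.smul_mul] at h6
        have h7 := congrArg (fun X => r • X) h6
        simp only [smul_smul, mul_inv_cancel₀ hr0, one_smul] at h7
        exact h7
      have h5 : ((A : M3 F) * (A : M3 F).map σ).map σ = (A : M3 F).map σ * (A : M3 F) := by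
        rw [map_mul3]
        congr 1
        ext i j
        exact hσ' _
      rw [hr', h4] at h5
      have h6 := congrFun (congrFun h5 0) 0
      simpa using h6
    by_cases hc : ∃ c, σ c ≠ c
    · obtain ⟨c, hc⟩ := hc
      -- rescale
      obtain ⟨μ, hμ⟩ : ∃ μ, μ = (A : M3 F).det / r := ⟨_, rfl⟩
      have hμμ : μ * σ μ = r := by
        rw [hμ, map_div₀, hσr, div_mul_div_comm, hdet]
        field_simp
      have hμ0 : μ ≠ 0 := by rw [hμ]; exact div_ne_zero hδ hr0
      have h3 : (μ⁻¹ • (A : M3 F)) * (μ⁻¹ • (A : M3 F)).map σ = 1 := by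
        have h4 : (μ⁻¹ • (A : M3 F)).map σ = (σ μ)⁻¹ • (A : M3 F).map σ := by
          ext i j
          change σ (μ⁻¹ * (A : M3 F) i j) = (σ μ)⁻¹ * σ ((A : M3 F) i j)
          rw [map_mul, map_inv₀]
        rw [h4, Matrix.smul_mul, Matrix.mul_smul, hr', smul_smul, smul_smul, ← hμμ]
        have : μ⁻¹ * (σ μ)⁻¹ * (μ * σ μ) = 1 := by
          have h5 : σ μ ≠ 0 := fun h => hμ0 ((map_eq_zero σ).1 h)
          field_simp
        rw [this, one_smul]
      obtain ⟨B, hBu, hB⟩ := hilbert hσ' hc _ h3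
      obtain ⟨B', rfl⟩ := hBu
      apply four_of_fixed h2 _ B'
      intro ε h hε
      refine fixed_of_diag ?_ h hε
      intro i j hij
      have h4 : (A : M3 F) * (B' : M3 F).map σ = μ • (B' : M3 F) := by
        have h5 := congrArg (fun X => μ • X) hB
        simp only [Matrix.smul_mul, smul_smul, mul_inv_cancel₀ hμ0, one_smul] at h5
        exact h5
      rw [Units.val_mul, Units.val_mul, coe_gm, h4, Matrix.mul_smul, ← Units.val_mul, inv_mul_cancel,
        Units.val_one, Matrix.smul_apply, Matrix.one_apply_ne hij, smul_zero]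
    · -- inner
      exfalso
      push Not at hc
      have hσ1 : σ = 1 := RingEquiv.ext hc
      subst hσ1
      obtain ⟨s, hs⟩ : ∃ s, s = r / (A : M3 F).det := ⟨_, rfl⟩
      have hs0 : s ≠ 0 := by rw [hs]; exact div_ne_zero hr0 hδ
      have hdet2 : (A : M3 F).det * (A : M3 F).det = r ^ 3 := hdet
      have hd1 : (s • (A : M3 F)).det = 1 := by
        rw [det_smul3, hs]
        field_simp
        linear_combination -hdet2
      obtain ⟨A', hA'⟩ : ∃ A' : GL (Fin 3) F, (A' : M3 F) = s • (A : M3 F) :=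
        ⟨(Matrix.isUnit_iff_isUnit_det _ |>.2 (by rw [hd1]; exact isUnit_one)).unit, rfl⟩
      have h3 : cj A' = cj A := by
        have h4 : cj (A⁻¹ * A') = 1 := by
          apply cj_eq_one_of_scalar (r := s)
          rw [Units.val_mul, hA', Matrix.mul_smul, ← Units.val_mul, inv_mul_cancel, Units.val_one,
            scalar_apply, smul_one_eq_diagonal]
        rw [map_mul, map_inv, inv_mul_eq_one] at h4
        exact h4.symm
      have hdA : (A' : M3 F).det = 1 := by rw [hA']; exact hd1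
      obtain ⟨a, ha⟩ : ∃ a : SpecialLinearGroup (Fin 3) F, a.1 = (A' : M3 F) := ⟨⟨_, hdA⟩, rfl⟩
      apply hout (pr a)
      rw [map_one fld, mul_one, ← h3]
      apply MulEquiv.ext
      intro x
      obtain ⟨x, rfl⟩ := pr_surjective x
      have key : cj A' x = a * x * a⁻¹ := by
        rw [eq_mul_inv_iff_mul_eq]
        apply Subtype.ext
        change (A' : M3 F) * x.1 * ((A'⁻¹ : GL (Fin 3) F) : M3 F) * a.1 = a.1 * x.1
        rw [ha, mul_assoc, ← Units.val_mul, inv_mul_cancel, Units.val_one, mul_one]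
      rw [lift_pr, MulAut.conj_apply, key, map_mul, map_mul, map_inv]
  · -- correlation
    have e1 : lift (cj (A * gm σ (it A)) * fld (σ * σ)) = lift (fld (1 : F ≃+* F)) := by
      rw [map_one fld, map_one, ← hα, ← map_mul]
      congr 1
      rw [map_mul cj, map_mul fld]
      calc cj A * cj (gm σ (it A)) * (fld σ * fld σ)
          = cj A * (cj (gm σ (it A)) * fld σ) * fld σ := by simp only [mul_assoc]
        _ = cj A * (fld σ * cj (it A)) * fld σ := by rw [fld_cj]
        _ = cj A * fld σ * (cj (it A) * (itr * itr)) * fld σ := by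
            rw [itr_mul_itr, mul_one]; simp only [mul_assoc]
        _ = cj A * fld σ * (itr * cj A * itr) * fld σ := by rw [itr_cj]; simp only [mul_assoc]
        _ = cj A * fld σ * itr * cj A * (itr * fld σ) := by simp only [mul_assoc]
        _ = cj A * fld σ * itr * (cj A * fld σ * itr) := by rw [itr_fld]; simp only [mul_assoc]
    obtain ⟨⟨r, hr⟩, hσ⟩ := injective_aux e1
    have hσ' := ring_sq hσ
    have hr' := scalar_iff hr
    rw [Units.val_mul, coe_gm, coe_it] at hr'
    have hδ := gl_det_ne A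
    -- `A = r σ(A)ᵀ`
    have hA : (A : M3 F) = r • ((A : M3 F).map σ)ᵀ := by
      have h3 : (A : M3 F) * ((((A⁻¹ : GL (Fin 3) F) : M3 F)ᵀ).map σ) * ((A : M3 F)ᵀ).map σ =
          (r • (1 : M3 F)) * ((A : M3 F)ᵀ).map σ := by rw [hr']
      have h4 : (((A⁻¹ : GL (Fin 3) F) : M3 F)ᵀ).map σ * ((A : M3 F)ᵀ).map σ = 1 := by
        rw [← map_mul3, ← transpose_mul, ← Units.val_mul, mul_inv_cancel, Units.val_one, transpose_one]
        ext i j
        rw [Matrix.map_apply, Matrix.one_apply]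
        split_ifs
        · exact map_one σ
        · exact map_zero σ
      rw [mul_assoc, h4, mul_one, Matrix.smul_mul, one_mul] at h3
      rw [transpose_map] at h3
      exact h3
    obtain ⟨δ, hδ'⟩ : ∃ δ, δ = (A : M3 F).det := ⟨_, rfl⟩
    rw [← hδ'] at hδ
    have hσδ : δ = r ^ 3 * σ δ := by
      have := congrArg Matrix.det hA
      rwa [det_smul3, det_transpose, det_map3, ← hδ'] at this
    have hr0 : r ≠ 0 := by
      rintro rfl
      apply hδ
      rw [hσδ]; ring
    have hσr : r * σ r = 1 := by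
      have h3 : (A : M3 F) = (r * σ r) • (A : M3 F) := by
        conv_lhs => rw [hA]
        conv_lhs => rw [hA]
        ext i j
        simp [hσ', mul_assoc]
      have h5 : (r * σ r) - 1 = 0 := by
        by_contra hne
        have h6 : ((r * σ r) - 1) • (A : M3 F) = 0 := by
          rw [sub_smul, one_smul, ← h3, sub_self]
        rcases smul_eq_zero.1 h6 with h | h
        · exact hne h
        · apply gl_det_ne A
          rw [h, det_zero]
      exact sub_eq_zero.1 h5
    have hσr0 : σ r ≠ 0 := fun h => hr0 ((map_eq_zero σ).1 h)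
    have hσδ0 : σ δ ≠ 0 := fun h => hδ ((map_eq_zero σ).1 h)
    -- rescale
    obtain ⟨c, hc⟩ : ∃ c, c = r / δ := ⟨_, rfl⟩
    have hc0 : c ≠ 0 := by rw [hc]; exact div_ne_zero hr0 hδ
    have hcr : c * r = σ c := by
      rw [hc, map_div₀]
      field_simp
      calc r ^ 2 * σ δ = (r * σ r) * (r ^ 2 * σ δ) := by rw [hσr, one_mul]
        _ = (r ^ 3 * σ δ) * σ r := by ring
        _ = δ * σ r := by rw [← hσδ]
        _ = _ := by ring
    have hA' : ((c • (A : M3 F)).map σ)ᵀ = c • (A : M3 F) := by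
      conv_rhs => rw [hA]
      rw [smul_smul, hcr]
      ext i j
      simp
    have hd' : (c • (A : M3 F)).det ≠ 0 := by
      rw [det_smul3, ← hδ']
      exact mul_ne_zero (pow_ne_zero 3 hc0) hδ
    obtain ⟨C, hCu, hC⟩ := exists_diag hσ' h2 hA' hd'
    obtain ⟨C', rfl⟩ := hCu
    apply four_of_fixed h2 _ C'⁻¹
    intro ε h hε
    refine fixed_of_diag' ?_ h hε
    intro i j hij
    rw [inv_inv, Units.val_mul, Units.val_mul, coe_gm, coe_it, inv_inv, ← mul_assoc]
    have h4 := hC i j hij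
    rw [Matrix.mul_smul, Matrix.smul_mul, Matrix.smul_apply, smul_eq_mul] at h4
    have h5 := (mul_eq_zero.1 h4).resolve_left hc0
    rw [← transpose_map] at h5
    exact h5

end Cfsg.Agent.Cit.FourL
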