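import Cfsg.Agent.Schreier.PSU
import Cfsg.Agent.Cit.FourFixL

/-!
# `FourFix` for `PSU₃(q)`, `q` odd

Every outer involutory automorphism of `PSU₃(q)` centralises a four-group.
-/

set_option autoImplicit false
set_option linter.unusedSectionVars false

namespace Cfsg.Agent.Cit.FourU

open Cfsg Matrix
open Cfsg.Agent.LieClassical.HermBasic Cfsg.Agent.LieClassical.HermSiegel
open Cfsg.Agent.ClassicalGeometry.PSUAutCount (gm semiConj toAut gm_mul gm_one gm_mul_inv gm_inv_mul eq_of_toAut_eq
  sc gm_sc_mul toAut_sc_mul herm_gm)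
open Cfsg.Agent.ClassicalGeometry.UnitAutBasic (pr pr_surjective)
open Cfsg.Agent.ClassicalGeometry.PSUAutBasic (exists_center_mul exists_scalar_of_mem_center)
open Cfsg.Agent.Schreier.PSU (f₁ f₂ toAut_eq mapGU conj_field f₁_eq_conj toAut_pr')
open Cfsg.Agent.Cit.FourL (M3 hilbert exists_diag map_mul3)

variable {F : Type*} [Field F] [Fintype F] {q : ℕ}

/-- an automorphism of order two of `F` is `x ↦ x ^ q` -/
theorem eq_conj (hF : Fintype.card F = q ^ 2) {ρ : F ≃+* F} (h : ρ * ρ = 1) (h1 : ρ ≠ 1) : ρ = conj hF := by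
  classical
  have hc : IsCyclic (F ≃+* F) := LieRecognition.FieldSemilinear.isCyclic_ringAut F
  have hcc : conj hF * conj hF = 1 := by
    apply RingEquiv.ext
    intro x
    exact pow_q_pow_q hF x
  have hc1 : conj hF ≠ 1 := by
    intro h2
    obtain ⟨x, hx⟩ := exists_not_fixed hF
    exact hx (congrArg (fun f : F ≃+* F => f x) h2)
  haveI : Finite (F ≃+* F) := Finite.of_injective (fun f : F ≃+* F => (f : F → F)) DFunLike.coe_injective
  haveI := Fintype.ofFinite (F ≃+* F)
  by_contra hne
  have hle := IsCyclic.card_pow_eq_one_le (α := F ≃+* F) (n := 2) (by norm_num)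
  have hsub : ({1, ρ, conj hF} : Finset (F ≃+* F)) ⊆ Finset.univ.filter (fun a => a ^ 2 = 1) := by
    intro a ha
    rw [Finset.mem_filter]
    refine ⟨Finset.mem_univ _, ?_⟩
    simp only [Finset.mem_insert, Finset.mem_singleton] at ha
    rcases ha with rfl | rfl | rfl
    · exact one_pow 2
    · rw [pow_two, h]
    · rw [pow_two, hcc]
  have h3 : ({1, ρ, conj hF} : Finset (F ≃+* F)).card = 3 := by
    rw [Finset.card_eq_three]
    exact ⟨1, ρ, conj hF, h1.symm, hc1.symm, hne, rfl⟩
  have h4 := Finset.card_le_card hsub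
  omega

theorem herm_eq (hF : Fintype.card F = q ^ 2) (u v : Fin 3 → F) :
    hermForm 3 F q u v = u ⬝ᵥ (fun i => conj hF (v i)) := rfl

/-- `Dᵀ D̄ = 1` -/
theorem herm_of_mat (hF : Fintype.card F = q ^ 2) {D : M3 F} (hD : Dᵀ * D.map (conj hF) = 1)
    (u v : Fin 3 → F) : hermForm 3 F q (D *ᵥ u) (D *ᵥ v) = hermForm 3 F q u v := by
  rw [herm_eq hF, herm_eq hF]
  have h1 : (fun i => conj hF ((D *ᵥ v) i)) = D.map (conj hF) *ᵥ (fun i => conj hF (v i)) := by
    funext i
    simp only [mulVec, dotProduct, map_sum, map_mul, Matrix.map_apply]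
  rw [h1, dotProduct_mulVec, ← mulVec_transpose, mulVec_mulVec]
  have h2 : (D.map (conj hF))ᵀ * D = 1 := by
    have h3 := congrArg Matrix.transpose hD
    rwa [transpose_mul, transpose_transpose, transpose_one] at h3
  rw [h2, one_mulVec]

theorem mat_of_gm (hF : Fintype.card F = q ^ 2) (A : GU 3 F q) :
    (gm A)ᵀ * (gm A).map (conj hF) = 1 :=
  ClassicalGeometry.GUBasic.transpose_mul_map (by have := q_pos hF; omega) (herm_gm A)

theorem mat_semiConj (A : GU 3 F q) (ρ : F ≃+* F) (g : SU 3 F q) :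
    mat (semiConj A ρ g) = gm A * (mat g).map ρ * gm A⁻¹ := rfl

/-- diagonal matrices with entries `±1` conjugated by `B` -/
theorem four_of_fixed (hF : Fintype.card F = q ^ 2) (h2 : (2 : F) ≠ 0) (α : MulAut (PSU 3 F q))
    {B Bi : M3 F} (hB : B * Bi = 1)
    (hfix : ∀ ε : Fin 3 → F, ε 0 * ε 1 * ε 2 = 1 → (∀ i, ε i = 1 ∨ ε i = -1) →
      ∃ g : SU 3 F q, mat g = B * diagonal ε * Bi ∧ α (pr 3 F q g) = pr 3 F q g) :
    ∃ a b : PSU 3 F q, a * a = 1 ∧ b * b = 1 ∧ a ≠ 1 ∧ b ≠ 1 ∧ a ≠ b ∧
      a * b = b * a ∧ α a = a ∧ α b = b := by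
  have hB' : Bi * B = 1 := mul_eq_one_comm.1 hB
  have hne : (1 : F) ≠ -1 := by
    intro h
    apply h2
    linear_combination h
  have hnt : ∀ {ε ε' : Fin 3 → F} {g g' : SU 3 F q}, mat g = B * diagonal ε * Bi →
      mat g' = B * diagonal ε' * Bi → pr 3 F q g = pr 3 F q g' → ∃ c : F, ∀ i, ε' i = c * ε i := by
    intro ε ε' g g' hg hg' heq
    obtain ⟨z, hz, hz'⟩ := exists_center_mul heq
    obtain ⟨c, -, -, hc⟩ := exists_scalar_of_mem_center hF le_rfl hz
    have hzc : mat z = c • (1 : M3 F) := by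
      apply Matrix.ext_of_mulVec_single
      intro i
      have := hc (Pi.single i 1)
      rw [act_def] at this
      rw [this, smul_mulVec, one_mulVec]
    rw [hz', mat_mul, hzc, hg, Matrix.mul_smul, mul_one] at hg'
    refine ⟨c, fun i => ?_⟩
    have h3 := congrArg (fun X => Bi * X * B) hg'
    simp only [Matrix.mul_smul, Matrix.smul_mul] at h3
    have h4 : ∀ X : M3 F, Bi * (B * X * Bi) * B = X := by
      intro X
      calc Bi * (B * X * Bi) * B = (Bi * B) * X * (Bi * B) := by simp only [mul_assoc]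
        _ = X := by rw [hB', one_mul, mul_one]
    rw [h4, h4] at h3
    have h5 := congrFun (congrFun h3 i) i
    rw [Matrix.smul_apply, diagonal_apply_eq, diagonal_apply_eq] at h5
    exact h5.symm
  have hsq : ∀ {ε : Fin 3 → F} {g : SU 3 F q}, mat g = B * diagonal ε * Bi → (∀ i, ε i = 1 ∨ ε i = -1) →
      pr 3 F q g * pr 3 F q g = 1 := by
    intro ε g hg hε
    have h3 : g * g = 1 := by
      apply mat_injective
      rw [mat_mul, hg, mat_one]
      calc B * diagonal ε * Bi * (B * diagonal ε * Bi) = B * diagonal ε * (Bi * B) * diagonal ε * Bi := by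
            simp only [mul_assoc]
        _ = B * (diagonal ε * diagonal ε) * Bi := by rw [hB', mul_one]; simp only [mul_assoc]
        _ = B * 1 * Bi := by
            rw [diagonal_mul_diagonal, ← diagonal_one]
            congr 3
            funext i
            rcases hε i with h | h <;> rw [h] <;> simp
        _ = 1 := by rw [mul_one, hB]
    rw [← map_mul, h3, map_one]
  have hone : mat (1 : SU 3 F q) = B * diagonal (fun _ => (1 : F)) * Bi := by
    rw [mat_one, diagonal_one, mul_one, hB]
  have e1 : (![1, -1, -1] : Fin 3 → F) 0 * (![1, -1, -1] : Fin 3 → F) 1 * (![1, -1, -1] : Fin 3 → F) 2 = 1 := by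
    simp
  have e2 : (![-1, 1, -1] : Fin 3 → F) 0 * (![-1, 1, -1] : Fin 3 → F) 1 * (![-1, 1, -1] : Fin 3 → F) 2 = 1 := by
    simp
  have p1 : ∀ i, (![1, -1, -1] : Fin 3 → F) i = 1 ∨ (![1, -1, -1] : Fin 3 → F) i = -1 := by
    intro i; fin_cases i <;> simp
  have p2 : ∀ i, (![-1, 1, -1] : Fin 3 → F) i = 1 ∨ (![-1, 1, -1] : Fin 3 → F) i = -1 := by
    intro i; fin_cases i <;> simp
  obtain ⟨g1, hg1, hf1⟩ := hfix _ e1 p1
  obtain ⟨g2, hg2, hf2⟩ := hfix _ e2 p2
  refine ⟨pr 3 F q g1, pr 3 F q g2, hsq hg1 p1, hsq hg2 p2, ?_, ?_, ?_, ?_, hf1, hf2⟩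
  · intro h
    rw [← map_one (pr 3 F q)] at h
    obtain ⟨c, hc⟩ := hnt hone hg1 h.symm
    have a0 := hc 0
    have a1 := hc 1
    simp at a0 a1
    exact hne (a0.trans a1.symm)
  · intro h
    rw [← map_one (pr 3 F q)] at h
    obtain ⟨c, hc⟩ := hnt hone hg2 h.symm
    have a0 := hc 0
    have a1 := hc 1
    simp at a0 a1
    exact hne (a1.trans a0.symm)
  · intro h
    obtain ⟨c, hc⟩ := hnt hg1 hg2 h
    have a0 := hc 0
    have a2 := hc 2
    simp at a0 a2
    exact hne (by rw [a0, ← a2])
  · rw [← map_mul, ← map_mul]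
    congr 1
    apply mat_injective
    rw [mat_mul, mat_mul, hg1, hg2]
    have key : ∀ X Y : M3 F, B * X * Bi * (B * Y * Bi) = B * (X * Y) * Bi := by
      intro X Y
      calc B * X * Bi * (B * Y * Bi) = B * X * (Bi * B) * Y * Bi := by simp only [mul_assoc]
        _ = _ := by rw [hB', mul_one]; simp only [mul_assoc]
    rw [key, key, diagonal_mul_diagonal, diagonal_mul_diagonal]
    congr 3
    funext i
    rw [mul_comm]

/-- **`PSU₃(q)`, `q` odd** -/
theorem fourFix_psu (hF : Fintype.card F = q ^ 2) (h2 : (2 : F) ≠ 0) : FourFix (PSU 3 F q) := by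
  have hq2 : ¬ ((3 : ℕ) = 3 ∧ q = 2) := by
    rintro ⟨-, rfl⟩
    apply h2
    have h3 : ((Fintype.card F : ℕ) : F) = 0 := Nat.cast_card_eq_zero F
    rw [hF] at h3
    have h4 : (2 : F) ^ 2 = 0 := by
      rw [← h3]; norm_num
    exact (pow_eq_zero_iff two_ne_zero).1 h4
  intro α hα hout
  obtain ⟨A, ρ, rfl⟩ := ClassicalGeometry.PSUAutMain.exists_toAut hF (n := 3) le_rfl hq2 α
  have e1 : toAut (A * mapGU ρ A) (ρ * ρ) = toAut (1 : GU 3 F q) 1 := by
    have h3 : toAut (1 : GU 3 F q) 1 = 1 := map_one f₁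
    rw [h3, ← hα, toAut_eq, toAut_eq, map_mul, map_mul, ← conj_field]
    group
  obtain ⟨hρ, c, hcq, hc⟩ := eq_of_toAut_eq hF le_rfl e1.symm
  rw [gm_mul, gm_one] at hc
  have hgmap : gm (mapGU ρ A) = (gm A).map ρ := rfl
  rw [hgmap] at hc
  have hc0 : c ≠ 0 := by
    rintro rfl
    rw [zero_mul] at hcq
    exact zero_ne_one hcq
  have hdA : (gm A).det ≠ 0 := by
    intro h
    have h3 := congrArg Matrix.det (gm_mul_inv A)
    rw [det_mul, h, zero_mul, det_one] at h3
    exact zero_ne_one h3
  by_cases hρ1 : ρ = 1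
  · -- inner
    exfalso
    subst hρ1
    have hAA : (gm A).det * (gm A).det = c ^ 3 := by
      have h3 : (gm A).map (1 : F ≃+* F) = gm A := by
        ext i j; rfl
      rw [h3] at hc
      have := congrArg Matrix.det hc
      rwa [det_mul, det_smul, Fintype.card_fin, det_one, mul_one] at this
    have hdn : (gm A).det * (gm A).det ^ q = 1 := by
      rw [← pow_succ']
      exact ClassicalGeometry.GUBasic.det_pow hF (herm_gm A)
    obtain ⟨s, hs⟩ : ∃ s, s = c / (gm A).det := ⟨_, rfl⟩
    have hsn : s * s ^ q = 1 := by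
      rw [hs, div_pow, div_mul_div_comm, hcq, hdn, div_one]
    have hgs := gm_sc_mul (n := 3) ⟨s, hsn⟩ A
    have hd1 : (gm (sc 3 ⟨s, hsn⟩ * A)).det = 1 := by
      rw [hgs, det_smul, Fintype.card_fin]
      change s ^ 3 * _ = 1
      rw [hs]
      field_simp
      linear_combination -hAA
    let g : SU 3 F q := mkSU (gm (sc 3 ⟨s, hsn⟩ * A)) hd1 (fun u v => herm_gm _ u v)
    apply hout (pr 3 F q g)
    rw [← f₁_eq_conj (sc 3 ⟨s, hsn⟩ * A) g rfl]
    exact (toAut_sc_mul ⟨s, hsn⟩ A 1).symm
  · have hρ' : ρ = conj hF := eq_conj hF hρ hρ1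
    subst hρ'
    obtain ⟨x0, hx0⟩ := exists_not_fixed hF
    have hσ : ∀ x, conj hF (conj hF x) = x := fun x => pow_q_pow_q hF x
    -- `A` is symmetric, `A Ā = 1`
    have hu := mat_of_gm hF A
    have hu' : (gm A).map (conj hF) * (gm A)ᵀ = 1 := mul_eq_one_comm.1 hu
    have hA1 : gm A = c • (gm A)ᵀ := by
      have h3 : gm A * (gm A).map (conj hF) * (gm A)ᵀ = c • (1 : M3 F) * (gm A)ᵀ := by rw [hc]
      rwa [mul_assoc, hu', mul_one, Matrix.smul_mul, one_mul] at h3
    have hAne : gm A ≠ 0 := by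
      intro h
      apply hdA
      rw [h, det_zero]
    have hcc : c * c = 1 := by
      have h3 : gm A = (c * c) • gm A := by
        conv_lhs => rw [hA1]
        conv_lhs => rw [hA1]
        rw [transpose_smul, transpose_transpose, smul_smul]
      have h4 : (c * c - 1) • gm A = 0 := by rw [sub_smul, one_smul, ← h3, sub_self]
      rcases smul_eq_zero.1 h4 with h | h
      · exact sub_eq_zero.1 h
      · exact absurd h hAne
    have hc3 : c ^ 3 = 1 := by
      have h3 := congrArg Matrix.det hA1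
      rw [det_smul, Fintype.card_fin, det_transpose] at h3
      have h4 : (c ^ 3 - 1) * (gm A).det = 0 := by linear_combination -h3
      rcases mul_eq_zero.1 h4 with h | h
      · exact sub_eq_zero.1 h
      · exact absurd h hdA
    have hc1 : c = 1 := by
      have : c ^ 3 = c * (c * c) := by ring
      rw [this, hcc, mul_one] at hc3
      exact hc3
    rw [hc1, one_smul] at hc hA1
    obtain ⟨B, hBu, hB⟩ := hilbert hσ hx0 (gm A) hc
    -- `M = Bᵀ B̄`
    obtain ⟨M, hM⟩ : ∃ M, M = Bᵀ * B.map (conj hF) := ⟨_, rfl⟩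
    have hMM : ∀ X : M3 F, (X.map (conj hF)).map (conj hF) = X := by
      intro X
      ext i j
      exact hσ _
    have hMs : Mᵀ = M := by
      have h3 : B.map (conj hF) = (gm A).map (conj hF) * B := by
        have h4 := congrArg (fun X => X.map (conj hF)) hB
        simp only [map_mul3, hMM] at h4
        exact h4.symm
      have h5 : M = Bᵀ * ((gm A).map (conj hF) * B) := by rw [hM, h3]
      rw [h5, transpose_mul, transpose_mul, transpose_transpose, ← mul_assoc]
      congr 2
      rw [← transpose_map, ← hA1]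
    have hMr : M.map (conj hF) = M := by
      have h3 : Mᵀ = (B.map (conj hF))ᵀ * B := by rw [hM, transpose_mul, transpose_transpose]
      have h4 : M.map (conj hF) = (B.map (conj hF))ᵀ * B := by
        rw [hM, map_mul3, hMM, transpose_map]
      rw [h4, ← h3, hMs]
    -- the fixed field
    let F0 : Subfield F := (conj hF : F →+* F).eqLocusField (RingHom.id F)
    have hF0 : ∀ x : F0, conj hF (x : F) = x := fun x => x.2
    let M0 : M3 F0 := fun i j => ⟨M i j, congrFun (congrFun hMr i) j⟩
    have hM0 : M0.map F0.subtype = M := by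
      ext i j; rfl
    have hM0s : (M0.map (RingEquiv.refl F0))ᵀ = M0 := by
      ext i j
      change M j i = M i j
      exact congrFun (congrFun hMs i) j
    have hBd : B.det ≠ 0 := by
      rw [Matrix.isUnit_iff_isUnit_det] at hBu
      exact hBu.ne_zero
    have hdet_map : ∀ X : M3 F, (X.map (conj hF)).det = conj hF X.det := fun X => FourL.det_map3 _ X
    have hMd : M.det ≠ 0 := by
      rw [hM, det_mul, det_transpose, hdet_map]
      exact mul_ne_zero hBd (fun h => hBd ((map_eq_zero (conj hF)).1 h))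
    have hM0d : M0.det ≠ 0 := by
      intro h
      apply hMd
      rw [← hM0]
      have h3 : (M0.map F0.subtype).det = F0.subtype M0.det := (RingHom.map_det F0.subtype M0).symm
      rw [h3, h, map_zero]
    have h20 : (2 : F0) ≠ 0 := by
      intro h
      apply h2
      exact congrArg Subtype.val h
    obtain ⟨C0, hC0u, hC0⟩ := exists_diag (σ := RingEquiv.refl F0) (fun _ => rfl) h20 hM0s hM0d
    obtain ⟨C, hC⟩ : ∃ C : M3 F, C = C0.map F0.subtype := ⟨_, rfl⟩
    have hCd : C.det ≠ 0 := by
      rw [Matrix.isUnit_iff_isUnit_det] at hC0u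
      rw [hC]
      have h3 : (C0.map F0.subtype).det = F0.subtype C0.det := (RingHom.map_det F0.subtype C0).symm
      rw [h3]
      exact fun h => hC0u.ne_zero ((map_eq_zero F0.subtype).1 h)
    have hCr : C.map (conj hF) = C := by
      rw [hC]
      ext i j
      exact hF0 (C0 i j)
    have hCtr : Cᵀ.map (conj hF) = Cᵀ := by
      conv_rhs => rw [← hCr]
      rfl
    have hCM : ∀ i j, i ≠ j → (C * M * Cᵀ) i j = 0 := by
      intro i j hij
      have h3 : C * M * Cᵀ = (C0 * M0 * C0ᵀ).map F0.subtype := by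
        rw [Matrix.map_mul, Matrix.map_mul, hM0, hC, transpose_map]
      rw [h3]
      have h4 := hC0 i j hij
      have h5 : C0.map (RingEquiv.refl F0) = C0 := by
        ext i j; rfl
      rw [h5] at h4
      rw [Matrix.map_apply, h4, map_zero]
    -- the new basis
    obtain ⟨P, hP⟩ : ∃ P, P = B * Cᵀ := ⟨_, rfl⟩
    have hPd : P.det ≠ 0 := by
      rw [hP, det_mul, det_transpose]
      exact mul_ne_zero hBd hCd
    obtain ⟨Q, hPQ⟩ : ∃ Q : M3 F, P * Q = 1 := by
      have hu : IsUnit P.det := isUnit_iff_ne_zero.2 hPd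
      exact ⟨P⁻¹, Matrix.mul_nonsing_inv P hu⟩
    have hQP : Q * P = 1 := mul_eq_one_comm.1 hPQ
    have hAP : gm A * P.map (conj hF) = P := by
      rw [hP, map_mul3, ← mul_assoc, hB, hCtr]
    have hone : (1 : M3 F).map (conj hF) = 1 := by
      ext i j
      rw [Matrix.map_apply, Matrix.one_apply]
      split_ifs
      · exact map_one _
      · exact map_zero _
    have hPPd : ∀ i j, i ≠ j → (Pᵀ * P.map (conj hF)) i j = 0 := by
      intro i j hij
      have h3 : Pᵀ * P.map (conj hF) = C * M * Cᵀ := by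
        rw [hP, map_mul3, hCtr, transpose_mul, transpose_transpose, hM]
        simp only [mul_assoc]
      rw [h3]
      exact hCM i j hij
    apply four_of_fixed hF h2 _ hPQ
    intro ε h hε
    have hεr : (diagonal ε).map (conj hF) = diagonal ε := by
      ext i j
      rw [Matrix.map_apply, diagonal_apply]
      split_ifs
      · rcases hε i with h1 | h1 <;> rw [h1] <;> simp
      · exact map_zero _
    have hεε : diagonal ε * diagonal ε = (1 : M3 F) := by
      rw [diagonal_mul_diagonal, ← diagonal_one]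
      congr 1
      funext i
      rcases hε i with h1 | h1 <;> rw [h1] <;> simp
    have hDb : (P * diagonal ε * Q).map (conj hF) = P.map (conj hF) * diagonal ε * Q.map (conj hF) := by
      rw [map_mul3, map_mul3, hεr]
    have hPQ' : P.map (conj hF) * Q.map (conj hF) = 1 := by rw [← map_mul3, hPQ, hone]
    have hQP' : Q.map (conj hF) * P.map (conj hF) = 1 := by rw [← map_mul3, hQP, hone]
    have hD : (P * diagonal ε * Q)ᵀ * (P * diagonal ε * Q).map (conj hF) = 1 := by
      have h3 : diagonal ε * (Pᵀ * P.map (conj hF)) * diagonal ε = Pᵀ * P.map (conj hF) := by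
        ext i j
        rw [mul_diagonal, diagonal_mul]
        by_cases hij : i = j
        · subst hij
          rcases hε i with h1 | h1 <;> rw [h1] <;> ring
        · rw [hPPd i j hij]; ring
      rw [hDb, transpose_mul, transpose_mul, diagonal_transpose]
      calc Qᵀ * (diagonal ε * Pᵀ) * (P.map (conj hF) * diagonal ε * Q.map (conj hF))
          = Qᵀ * (diagonal ε * (Pᵀ * P.map (conj hF)) * diagonal ε) * Q.map (conj hF) := by
            simp only [mul_assoc]
        _ = (Qᵀ * Pᵀ) * (P.map (conj hF) * Q.map (conj hF)) := by rw [h3]; simp only [mul_assoc]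
        _ = 1 := by rw [hPQ', mul_one, ← transpose_mul, hPQ, transpose_one]
    have hdet : (P * diagonal ε * Q).det = 1 := by
      have h3 : P.det * Q.det = 1 := by rw [← det_mul, hPQ, det_one]
      rw [det_mul, det_mul, det_diagonal, Fin.prod_univ_three, h, mul_one, h3]
    refine ⟨mkSU (P * diagonal ε * Q) hdet (herm_of_mat hF hD), rfl, ?_⟩
    rw [toAut_pr']
    congr 1
    apply mat_injective
    rw [mat_semiConj, mat_mkSU, hDb]
    calc gm A * (P.map (conj hF) * diagonal ε * Q.map (conj hF)) * gm A⁻¹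
        = (gm A * P.map (conj hF)) * diagonal ε * (Q.map (conj hF) * gm A⁻¹) := by simp only [mul_assoc]
      _ = P * diagonal ε * Q := by
        rw [hAP]
        congr 1
        have h3 : Q.map (conj hF) * gm A⁻¹ * P = 1 := by
          conv_lhs => rw [← hAP]
          calc Q.map (conj hF) * gm A⁻¹ * (gm A * P.map (conj hF))
              = Q.map (conj hF) * (gm A⁻¹ * gm A) * P.map (conj hF) := by simp only [mul_assoc]
            _ = 1 := by rw [gm_inv_mul, mul_one, hQP']
        calc Q.map (conj hF) * gm A⁻¹ = Q.map (conj hF) * gm A⁻¹ * (P * Q) := by rw [hPQ, mul_one]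
          _ = Q := by rw [← mul_assoc, h3, one_mul]

end Cfsg.Agent.Cit.FourU
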