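import Cfsg.Agent.Cit.LFactSL
import Cfsg.Agent.Cit.FourFixU

/-!
# `LFact` for `PSU_3(q)`, `q` odd
-/

set_option autoImplicit false
set_option linter.unusedSectionVars false

namespace Cfsg.Agent.CitLFactSU

open Matrix Cfsg Cfsg.Agent.Cit.TwoB
open Cfsg.Agent.Cit.LongQuot (D1 z0)
open Cfsg.Agent.Cit.LongInst (suRep ee su_t su_cond)
open Cfsg.Agent.LieClassical.HermBasic Cfsg.Agent.LieClassical.HermSiegel
open Cfsg.Agent.ClassicalGeometry.PSUAutCount (gm semiConj toAut gm_mul gm_one gm_mul_inv gm_inv_mul eq_of_toAut_eq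
  sc gm_sc_mul toAut_sc_mul herm_gm act_semiConj herm_semi)
open Cfsg.Agent.ClassicalGeometry.UnitAutBasic (pr pr_surjective)
open Cfsg.Agent.Schreier.PSU (f₁ f₂ toAut_eq mapGU conj_field f₁_eq_conj toAut_pr')
open Cfsg.Agent.CitLFactSL (zz ww zz_val ww_val tt_eq conj_zz exists_lift comm_of_lift core_of_equiv)

variable {F : Type*} [Field F] [Fintype F] {q : ℕ}

/-- elements of the quotient by a centre of exponent `3` -/
theorem eq_of_mk_eq {Γ : Type*} [Group Γ] (h3 : ∀ c ∈ Subgroup.center Γ, c * c * c = 1) {s t : Γ}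
    (hs : s * s = 1) (ht : t * t = 1)
    (h : QuotientGroup.mk' (Subgroup.center Γ) s = QuotientGroup.mk' (Subgroup.center Γ) t) : s = t := by
  have hc : s⁻¹ * t ∈ Subgroup.center Γ := by
    rw [← QuotientGroup.eq_one_iff]
    show QuotientGroup.mk' (Subgroup.center Γ) (s⁻¹ * t) = 1
    rw [map_mul, map_inv, h, inv_mul_cancel]
  set c := s⁻¹ * t with hcd
  have h4 : t = s * c := by rw [hcd]; group
  have h5 : s * c = c * s := Subgroup.mem_center_iff.1 hc s
  have h6 : c * c = 1 := by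
    calc c * c = (s * s) * (c * c) := by rw [hs, one_mul]
      _ = s * (s * c) * c := by group
      _ = s * (c * s) * c := by rw [h5]
      _ = (s * c) * (s * c) := by group
      _ = 1 := by rw [← h4, ht]
  have h7 := h3 c hc
  rw [h6, one_mul] at h7
  rw [h4, h7, mul_one]

theorem center_three (hF : Fintype.card F = q ^ 2) (c : SU 3 F q) (hc : c ∈ Subgroup.center (SU 3 F q)) :
    c * c * c = 1 := by
  obtain ⟨r, h1, h2, rfl⟩ := (Cfsg.Agent.LieClassical.SUBasic.mem_center_SU_iff hF le_rfl c).1 hc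
  apply Subtype.ext
  apply Subtype.ext
  show diagonal (fun _ => r) * diagonal (fun _ => r) * diagonal (fun _ => r) = 1
  rw [diagonal_mul_diagonal, diagonal_mul_diagonal, ← diagonal_one]
  congr 1
  ext i
  rw [← pow_two, ← pow_succ, h1]

theorem ext_single {g h : SU 3 F q} (H : ∀ i, act g (Pi.single i 1) = act h (Pi.single i 1)) : g = h := by
  apply mat_injective
  apply Matrix.ext_of_mulVec_single
  intro i
  exact H i

/-- isometries from diagonal matrices -/
theorem diag_isom {a : Fin 3 → F} (ha : ∀ i, a i * a i ^ q = 1) (u v : Fin 3 → F) :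
    hermForm 3 F q (diagonal a *ᵥ u) (diagonal a *ᵥ v) = hermForm 3 F q u v := by
  rw [herm_def, herm_def]
  refine Finset.sum_congr rfl fun i _ => ?_
  rw [mulVec_diagonal, mulVec_diagonal, mul_pow]
  calc a i * u i * (a i ^ q * v i ^ q) = (a i * a i ^ q) * (u i * v i ^ q) := by ring
    _ = _ := by rw [ha, one_mul]

/-- diagonal elements -/
def dg (a : Fin 3 → F) (hd : a 0 * a 1 * a 2 = 1) (ha : ∀ i, a i * a i ^ q = 1) : SU 3 F q :=
  mkSU (diagonal a) (by rw [det_diagonal, Fin.prod_univ_three, hd]) (diag_isom ha)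

theorem mat_dg (a : Fin 3 → F) (hd) (ha) : mat (dg (q := q) a hd ha) = diagonal a := rfl

theorem neg_one_norm (hF : Fintype.card F = q ^ 2) : (-1 : F) * (-1) ^ q = 1 := by
  rw [neg_pow_q hF, one_pow, neg_mul_neg, one_mul]

/-- `diag(-1,-1,1)` -/
def zu (hF : Fintype.card F = q ^ 2) : SU 3 F q := dg ![-1, -1, 1] (by simp) (by
  intro i
  fin_cases i
  · exact neg_one_norm hF
  · exact neg_one_norm hF
  · simp)

/-- `diag(1,-1,-1)` -/
def wu (hF : Fintype.card F = q ^ 2) : SU 3 F q := dg ![1, -1, -1] (by simp) (by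
  intro i
  fin_cases i
  · simp
  · exact neg_one_norm hF
  · exact neg_one_norm hF)

theorem mat_zu (hF : Fintype.card F = q ^ 2) : mat (zu hF) = diagonal ![-1, -1, 1] := rfl
theorem mat_wu (hF : Fintype.card F = q ^ 2) : mat (wu hF) = diagonal ![1, -1, -1] := rfl

theorem zu_sq (hF : Fintype.card F = q ^ 2) : zu hF * zu hF = 1 := by
  apply mat_injective
  rw [mat_mul, mat_zu, diagonal_mul_diagonal, mat_one]
  ext i j
  fin_cases i <;> fin_cases j <;> simp

theorem wu_sq (hF : Fintype.card F = q ^ 2) : wu hF * wu hF = 1 := by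
  apply mat_injective
  rw [mat_mul, mat_wu, diagonal_mul_diagonal, mat_one]
  ext i j
  fin_cases i <;> fin_cases j <;> simp

theorem zu_wu (hF : Fintype.card F = q ^ 2) : zu hF * wu hF = wu hF * zu hF := by
  apply mat_injective
  rw [mat_mul, mat_mul, mat_zu, mat_wu, diagonal_mul_diagonal, diagonal_mul_diagonal]
  congr 1
  ext i
  rw [mul_comm]

theorem su_t_eq (hF : Fintype.card F = q ^ 2) : su_t hF 1 = zu hF := by
  apply Subtype.ext
  show Cfsg.Agent.Cit.LongInst.tt F 1 = _
  rw [tt_eq]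
  rfl

theorem z0_eq (hF : Fintype.card F = q ^ 2) : z0 (suRep hF 1 le_rfl) = pr 3 F q (zu hF) := by
  rw [← su_t_eq]
  rfl

theorem ne_neg (h2 : (2 : F) ≠ 0) : (1 : F) ≠ -1 := by
  intro h
  apply h2
  linear_combination h

theorem zu_ne (hF : Fintype.card F = q ^ 2) (h2 : (2 : F) ≠ 0) : zu hF ≠ 1 := by
  intro h
  have h3 := congrFun (congrFun (congrArg mat h) 0) 0
  rw [mat_zu, mat_one] at h3
  simp at h3
  exact ne_neg h2 h3.symm

theorem wu_ne (hF : Fintype.card F = q ^ 2) (h2 : (2 : F) ≠ 0) : wu hF ≠ 1 := by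
  intro h
  have h3 := congrFun (congrFun (congrArg mat h) 1) 1
  rw [mat_wu, mat_one] at h3
  simp at h3
  exact ne_neg h2 h3.symm

theorem wu_ne_zu (hF : Fintype.card F = q ^ 2) (h2 : (2 : F) ≠ 0) : wu hF ≠ zu hF := by
  intro h
  have h3 := congrFun (congrFun (congrArg mat h) 0) 0
  rw [mat_wu, mat_zu] at h3
  simp at h3
  exact ne_neg h2 h3

/-! ### Involutions of `SU_3` -/

theorem mulVec_diag (a : Fin 3 → F) (i : Fin 3) :
    diagonal a *ᵥ (Pi.single i 1) = a i • (Pi.single i (1 : F) : Fin 3 → F) := by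
  ext j
  rw [mulVec_diagonal, Pi.smul_apply, smul_eq_mul]
  rcases eq_or_ne j i with rfl | h
  · rfl
  · simp [h]

/-- the fixed vector of an involution -/
theorem exists_unit (hF : Fintype.card F = q ^ 2) (h2 : (2 : F) ≠ 0) {g : SU 3 F q} (hg : g * g = 1)
    (h1 : g ≠ 1) : ∃ v : Fin 3 → F, hermForm 3 F q v v = 1 ∧ act g v = v ∧
      ∀ u, hermForm 3 F q u v = 0 → act g u = -u := by
  obtain ⟨h, hh⟩ := conj_zz h2 (g := g.1) (congrArg Subtype.val hg) (fun h => h1 (Subtype.ext h))
  have hh' : mat g * h.1 = h.1 * (zz F).1 := by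
    rw [mul_inv_eq_iff_eq_mul] at hh
    exact (congrArg Subtype.val hh).symm
  have hinv : h.1 * (h⁻¹).1 = 1 := congrArg Subtype.val (mul_inv_cancel h)
  have hinv' : (h⁻¹).1 * h.1 = 1 := congrArg Subtype.val (inv_mul_cancel h)
  have hfix : ∀ u, act g u = u → ∃ c : F, u = c • (h.1 *ᵥ Pi.single 2 1) := by
    intro u hu
    set w := (h⁻¹).1 *ᵥ u with hw
    have hu' : h.1 *ᵥ w = u := by rw [hw, mulVec_mulVec, hinv, one_mulVec]
    have h3 : (zz F).1 *ᵥ w = w := by
      have h4 : h.1 *ᵥ ((zz F).1 *ᵥ w) = h.1 *ᵥ w := by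
        rw [mulVec_mulVec, ← hh', ← mulVec_mulVec, hu']
        exact hu
      have h5 := congrArg (fun x => (h⁻¹).1 *ᵥ x) h4
      simp only [mulVec_mulVec, ← mul_assoc, hinv', one_mul, one_mulVec] at h5
      exact h5
    have h00 := congrFun h3 0
    have h11 := congrFun h3 1
    rw [zz_val, mulVec_diagonal] at h00 h11
    simp at h00 h11
    have w0 : w 0 = 0 := (mul_eq_zero.1 (show (2 : F) * w 0 = 0 by linear_combination -h00)).resolve_left h2
    have w1 : w 1 = 0 := (mul_eq_zero.1 (show (2 : F) * w 1 = 0 by linear_combination -h11)).resolve_left h2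
    refine ⟨w 2, ?_⟩
    rw [← hu', ← mulVec_smul]
    congr 1
    ext i
    fin_cases i <;> simp [w0, w1]
  set v0 := h.1 *ᵥ Pi.single 2 1 with hv0
  have hv0f : act g v0 = v0 := by
    show mat g *ᵥ v0 = v0
    rw [hv0, mulVec_mulVec, hh', ← mulVec_mulVec, zz_val, mulVec_diag]
    simp
  have hv0n : v0 ≠ 0 := by
    intro h3
    have h4 := congrArg (fun x => (h⁻¹).1 *ᵥ x) h3
    simp only [hv0, mulVec_mulVec, hinv', one_mulVec, mulVec_zero] at h4
    have := congrFun h4 2
    simp at this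
  have hgg : ∀ u, act g (act g u) = u := by
    intro u
    rw [← act_mul, hg, act_one]
  have hherm : ∀ u v, hermForm 3 F q (act g u) (act g v) = hermForm 3 F q u v := fun u v => g.2 u v
  have hne : hermForm 3 F q v0 v0 ≠ 0 := by
    intro h3
    apply hv0n
    apply herm_nondeg hF
    intro u
    apply herm_eq_zero_swap hF
    obtain ⟨c, hc⟩ := hfix (u + act g u) (by
      have : act g (u + act g u) = act g u + act g (act g u) := mulVec_add _ _ _
      rw [this, hgg, add_comm])
    have h4 : hermForm 3 F q (u + act g u) v0 = 0 := by rw [hc, herm_smul_left, h3, mul_zero]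
    have h5 : hermForm 3 F q (act g u) v0 = hermForm 3 F q u v0 := by
      conv_lhs => rw [← hv0f]
      exact hherm u v0
    rw [herm_add_left, h5] at h4
    exact (mul_eq_zero.1 (show (2 : F) * hermForm 3 F q u v0 = 0 by linear_combination h4)).resolve_left h2
  set k := hermForm 3 F q v0 v0 with hk
  have hkq : (k⁻¹) ^ q = k⁻¹ := by rw [inv_pow, hk, herm_self_pow hF]
  obtain ⟨c, hc0, hc⟩ := exists_norm_eq_ne hF hkq (inv_ne_zero hne)
  refine ⟨c • v0, ?_, ?_, ?_⟩
  · rw [herm_smul_left, herm_smul_right, ← mul_assoc, hc, inv_mul_cancel₀ hne]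
  · show mat g *ᵥ (c • v0) = c • v0
    rw [mulVec_smul]
    congr 1
  · intro u hu
    rw [herm_smul_right] at hu
    have hu0 : hermForm 3 F q u v0 = 0 := (mul_eq_zero.1 hu).resolve_left (mt (pow_q_eq_zero hF).1 hc0)
    obtain ⟨d, hd⟩ := hfix (u + act g u) (by
      have : act g (u + act g u) = act g u + act g (act g u) := mulVec_add _ _ _
      rw [this, hgg, add_comm])
    have h5 : hermForm 3 F q (act g u) v0 = hermForm 3 F q u v0 := by
      conv_lhs => rw [← hv0f]
      exact hherm u v0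
    have h6 : hermForm 3 F q (u + act g u) v0 = 0 := by rw [herm_add_left, h5, hu0, add_zero]
    rw [hd, herm_smul_left] at h6
    have h7 : d = 0 := (mul_eq_zero.1 h6).resolve_right hne
    rw [h7, zero_smul] at hd
    exact eq_neg_of_add_eq_zero_right hd


/-- `SU_3` is transitive on unit vectors. -/
theorem exists_map (hF : Fintype.card F = q ^ 2) {v : Fin 3 → F} (hv : hermForm 3 F q v v = 1) :
    ∃ x : SU 3 F q, act x (Pi.single 2 1) = v := by
  have he : hermForm 3 F q (Pi.single 2 1) (Pi.single 2 1) = 1 := by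
    rw [herm_single_right hF]; simp
  obtain ⟨A, hA⟩ := Cfsg.Agent.LieClassical.GUOrder.exists_gu_map hF he hv
  have hA' : gm A *ᵥ Pi.single 2 1 = v := hA
  set d := (gm A).det with hd
  have hdn : d * d ^ q = 1 := by
    rw [← pow_succ']
    exact ClassicalGeometry.GUBasic.det_pow hF (herm_gm A)
  have hd0 : d ≠ 0 := left_ne_zero_of_mul_eq_one hdn
  have hin : d⁻¹ * d⁻¹ ^ q = 1 := by rw [inv_pow, ← mul_inv, hdn, inv_one]
  have hdiag : ∀ i, (![d⁻¹, 1, 1] : Fin 3 → F) i * (![d⁻¹, 1, 1] : Fin 3 → F) i ^ q = 1 := by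
    intro i
    fin_cases i
    · exact hin
    · simp
    · simp
  refine ⟨mkSU (gm A * diagonal ![d⁻¹, 1, 1]) ?_ ?_, ?_⟩
  · rw [det_mul, det_diagonal, Fin.prod_univ_three, ← hd]
    simp [mul_inv_cancel₀ hd0]
  · intro u w
    rw [← mulVec_mulVec, ← mulVec_mulVec, herm_gm, diag_isom hdiag]
  · show (gm A * diagonal ![d⁻¹, 1, 1]) *ᵥ Pi.single 2 1 = v
    rw [← mulVec_mulVec, mulVec_diag]
    simp [hA']

theorem herm_act (g : SU 3 F q) (u v : Fin 3 → F) : hermForm 3 F q (act g u) (act g v) = hermForm 3 F q u v :=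
  g.2 u v

theorem act_inv_act (g : SU 3 F q) (u : Fin 3 → F) : act g⁻¹ (act g u) = u := by
  rw [← act_mul, inv_mul_cancel, act_one]

theorem act_act_inv (g : SU 3 F q) (u : Fin 3 → F) : act g (act g⁻¹ u) = u := by
  rw [← act_mul, mul_inv_cancel, act_one]

/-- the block elements of `SU_3` -/
def bl (hF : Fintype.card F = q ^ 2) (a b : F) (h : a * a ^ q + b * b ^ q = 1) : SU 3 F q :=
  mkSU !![a, -b ^ q, 0; b, a ^ q, 0; 0, 0, 1] (by
    rw [det_fin_three]
    simp
    linear_combination h) (by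
    intro u v
    rw [herm_def, herm_def, Fin.sum_univ_three, Fin.sum_univ_three]
    simp only [mulVec, dotProduct, Fin.sum_univ_three]
    simp only [of_apply, cons_val_zero, cons_val_one, cons_val, add_pow_q hF, mul_pow, neg_pow_q hF, pow_q_pow_q hF,
      zero_pow_q hF, one_pow]
    linear_combination (u 0 * v 0 ^ q + u 1 * v 1 ^ q) * h)

theorem mat_bl (hF : Fintype.card F = q ^ 2) (a b : F) (h : a * a ^ q + b * b ^ q = 1) :
    mat (bl hF a b h) = !![a, -b ^ q, 0; b, a ^ q, 0; 0, 0, 1] := rfl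

theorem exists_pair_map (hF : Fintype.card F = q ^ 2) {v w : Fin 3 → F} (hv : hermForm 3 F q v v = 1)
    (hw : hermForm 3 F q w w = 1) (hwv : hermForm 3 F q w v = 0) :
    ∃ x : SU 3 F q, act x (Pi.single 2 1) = v ∧ act x (Pi.single 0 1) = w := by
  obtain ⟨x, hx⟩ := exists_map hF hv
  set w' := act x⁻¹ w with hw'
  have hxw : act x w' = w := act_act_inv x w
  have h22 : w' 2 = 0 := by
    have h3 : hermForm 3 F q w' (Pi.single 2 1) = 0 := by rw [← herm_act x, hxw, hx, hwv]
    rw [herm_single_right hF] at h3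
    simpa using h3
  have h3 : w' 0 * w' 0 ^ q + w' 1 * w' 1 ^ q = 1 := by
    have h4 : hermForm 3 F q w' w' = 1 := by rw [← herm_act x, hxw, hw]
    rw [herm_def, Fin.sum_univ_three, h22, zero_mul, add_zero] at h4
    exact h4
  refine ⟨x * bl hF _ _ h3, ?_, ?_⟩
  · rw [act_mul]
    conv_rhs => rw [← hx]
    congr 1
    show mat (bl hF _ _ h3) *ᵥ _ = _
    rw [mat_bl]
    ext i
    fin_cases i <;> simp
  · rw [act_mul]
    conv_rhs => rw [← hxw]
    congr 1
    show mat (bl hF _ _ h3) *ᵥ _ = _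
    rw [mat_bl]
    ext i
    fin_cases i <;> simp [h22]

theorem herm_ee (hF : Fintype.card F = q ^ 2) {i j : Fin 3} (h : i ≠ j) :
    hermForm 3 F q (Pi.single i 1) (Pi.single j 1) = 0 := by
  rw [herm_single_right hF]
  simp [h.symm]

theorem act_dg (a : Fin 3 → F) (hd) (ha) (i : Fin 3) :
    act (dg (q := q) a hd ha) (Pi.single i 1) = a i • (Pi.single i (1 : F) : Fin 3 → F) := mulVec_diag a i

theorem eq_conj_dg (hF : Fintype.card F = q ^ 2) {g x : SU 3 F q} {v : Fin 3 → F} (hgv : act g v = v)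
    (hperp : ∀ u, hermForm 3 F q u v = 0 → act g u = -u) (a : Fin 3 → F) (hd) (ha) {k : Fin 3}
    (hk : a k = 1) (hk' : ∀ i, i ≠ k → a i = -1) (hx : act x (Pi.single k 1) = v) :
    x * dg a hd ha * x⁻¹ = g := by
  rw [mul_inv_eq_iff_eq_mul]
  apply ext_single
  intro i
  rw [act_mul, act_mul, act_dg]
  rcases eq_or_ne i k with rfl | h
  · rw [hk, one_smul, hx, hgv]
  · have h3 : act x (a i • (Pi.single i (1 : F) : Fin 3 → F)) = a i • act x (Pi.single i 1) := mulVec_smul _ _ _
    rw [h3, hk' i h, hperp _ (by rw [← hx, herm_act, herm_ee hF h])]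
    simp

theorem eq_conj_zu (hF : Fintype.card F = q ^ 2) {g x : SU 3 F q} {v : Fin 3 → F} (hgv : act g v = v)
    (hperp : ∀ u, hermForm 3 F q u v = 0 → act g u = -u) (hx : act x (Pi.single 2 1) = v) :
    x * zu hF * x⁻¹ = g := by
  refine eq_conj_dg hF hgv hperp _ _ _ (k := 2) rfl ?_ hx
  intro i hi
  fin_cases i
  · rfl
  · rfl
  · exact absurd rfl hi

theorem eq_conj_wu (hF : Fintype.card F = q ^ 2) {g x : SU 3 F q} {v : Fin 3 → F} (hgv : act g v = v)
    (hperp : ∀ u, hermForm 3 F q u v = 0 → act g u = -u) (hx : act x (Pi.single 0 1) = v) :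
    x * wu hF * x⁻¹ = g := by
  refine eq_conj_dg hF hgv hperp _ _ _ (k := 0) rfl ?_ hx
  intro i hi
  fin_cases i
  · exact absurd rfl hi
  · rfl
  · rfl

theorem conj_zu (hF : Fintype.card F = q ^ 2) (h2 : (2 : F) ≠ 0) {g : SU 3 F q} (hg : g * g = 1) (h1 : g ≠ 1) :
    ∃ x : SU 3 F q, x * zu hF * x⁻¹ = g := by
  obtain ⟨v, hv, hgv, hp⟩ := exists_unit hF h2 hg h1
  obtain ⟨x, hx⟩ := exists_map hF hv
  exact ⟨x, eq_conj_zu hF hgv hp hx⟩

theorem conj_pair (hF : Fintype.card F = q ^ 2) (h2 : (2 : F) ≠ 0) {g k : SU 3 F q} (hg : g * g = 1) (hg1 : g ≠ 1)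
    (hk : k * k = 1) (hk1 : k ≠ 1) (hgk : g ≠ k) (hc : g * k = k * g) :
    ∃ x : SU 3 F q, x * zu hF * x⁻¹ = g ∧ x * wu hF * x⁻¹ = k := by
  obtain ⟨v, hv, hgv, hp⟩ := exists_unit hF h2 hg hg1
  obtain ⟨w, hw, hkw, hp'⟩ := exists_unit hF h2 hk hk1
  -- `k v = ± v`
  have h3 : act k (act g w) = act g w := by rw [← act_mul, ← hc, act_mul, hkw]
  -- fixed vectors of `k`
  have hfix : ∀ u, act k u = u → u = hermForm 3 F q u w • w := by
    intro u hu
    have h4 : hermForm 3 F q (u - hermForm 3 F q u w • w) w = 0 := by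
      rw [herm_sub_left, herm_smul_left, hw, mul_one, sub_self]
    have h5 := hp' _ h4
    have h6 : act k (u - hermForm 3 F q u w • w) = u - hermForm 3 F q u w • w := by
      have : act k (u - hermForm 3 F q u w • w) = act k u - hermForm 3 F q u w • act k w := by
        show mat k *ᵥ _ = mat k *ᵥ u - hermForm 3 F q u w • (mat k *ᵥ w)
        rw [mulVec_sub, mulVec_smul]
      rw [this, hu, hkw]
    rw [h6] at h5
    have h7 : (2 : F) • (u - hermForm 3 F q u w • w) = 0 := by
      rw [two_smul]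
      nth_rw 1 [h5]
      rw [neg_add_cancel]
    rcases smul_eq_zero.1 h7 with h8 | h8
    · exact absurd h8 h2
    · exact sub_eq_zero.1 h8
  have hgg : act g (act g w) = w := by rw [← act_mul, hg, act_one]
  obtain ⟨c, hc'⟩ : ∃ c : F, act g w = c • w := ⟨_, hfix _ h3⟩
  have hw0 : w ≠ 0 := by
    rintro rfl
    rw [herm_zero_left] at hw
    exact zero_ne_one hw
  have hcc : c * c = 1 := by
    have h4 : act g (c • w) = c • act g w := mulVec_smul _ _ _
    rw [hc', h4, hc', smul_smul] at hgg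
    have h5 : (c * c - 1) • w = 0 := by rw [sub_smul, one_smul, hgg, sub_self]
    rcases smul_eq_zero.1 h5 with h6 | h6
    · exact sub_eq_zero.1 h6
    · exact absurd h6 hw0
  have hc1 : c ≠ 1 := by
    rintro rfl
    rw [one_smul] at hc'
    apply hgk
    -- `g` and `k` fix `w` and are `-1` on its complement
    have h4 : ∀ u, hermForm 3 F q u w = 0 → act g u = -u := by
      -- `w` is a multiple of `v`
      have h5 : hermForm 3 F q (w - hermForm 3 F q w v • v) v = 0 := by
        rw [herm_sub_left, herm_smul_left, hv, mul_one, sub_self]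
      have h6 := hp _ h5
      have h7 : act g (w - hermForm 3 F q w v • v) = w - hermForm 3 F q w v • v := by
        have : act g (w - hermForm 3 F q w v • v) = act g w - hermForm 3 F q w v • act g v := by
          show mat g *ᵥ _ = mat g *ᵥ w - hermForm 3 F q w v • (mat g *ᵥ v)
          rw [mulVec_sub, mulVec_smul]
        rw [this, hc', hgv]
      rw [h7] at h6
      have h8 : (2 : F) • (w - hermForm 3 F q w v • v) = 0 := by
        rw [two_smul]
        nth_rw 1 [h6]
        rw [neg_add_cancel]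
      rcases smul_eq_zero.1 h8 with h9 | h9
      · exact absurd h9 h2
      · have h10 := sub_eq_zero.1 h9
        intro u hu
        apply hp
        rw [h10, herm_smul_right] at hu
        refine (mul_eq_zero.1 hu).resolve_left ?_
        intro h11
        have h12 := (pow_q_eq_zero hF).1 h11
        rw [h12, zero_smul] at h10
        exact hw0 h10
    obtain ⟨x, hx⟩ := exists_map hF hw
    rw [← eq_conj_zu hF hc' h4 hx, ← eq_conj_zu hF hkw hp' hx]
  have hcm : c = -1 := by
    have h4 : (c - 1) * (c + 1) = 0 := by linear_combination hcc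
    exact eq_neg_of_add_eq_zero_left ((mul_eq_zero.1 h4).resolve_left (sub_ne_zero.2 hc1))
  have hwv : hermForm 3 F q w v = 0 := by
    have h4 : hermForm 3 F q (act g w) (act g v) = hermForm 3 F q w v := herm_act g w v
    rw [hc', hcm, hgv, herm_smul_left] at h4
    exact (mul_eq_zero.1 (show (2 : F) * hermForm 3 F q w v = 0 by linear_combination -h4)).resolve_left h2
  obtain ⟨x, hx, hx'⟩ := exists_pair_map hF hv hw hwv
  exact ⟨x, eq_conj_zu hF hgv hp hx, eq_conj_wu hF hkw hp' hx'⟩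

/-- pairs of commuting involutions of `PSU_3(q)` -/
theorem lpair (hF : Fintype.card F = q ^ 2) (h2 : (2 : F) ≠ 0) : LPair (PSU 3 F q) := by
  have key : ∀ s t : PSU 3 F q, s * s = 1 → s ≠ 1 → t * t = 1 → t ≠ 1 → s ≠ t →
      s * t = t * s → ∃ g, g * pr 3 F q (zu hF) * g⁻¹ = s ∧ g * pr 3 F q (wu hF) * g⁻¹ = t := by
    intro s t hs hs1 ht ht1 hst hc
    obtain ⟨g, hg, hg1, rfl⟩ := exists_lift (center_three hF) hs hs1
    obtain ⟨k, hk, hk1, rfl⟩ := exists_lift (center_three hF) ht ht1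
    obtain ⟨x, hx1, hx2⟩ := conj_pair hF h2 hg hg1 hk hk1 (fun h => hst (by rw [h]))
      (comm_of_lift (center_three hF) hk hc)
    refine ⟨pr 3 F q x, ?_, ?_⟩
    · rw [← map_inv, ← map_mul, ← map_mul, hx1]; rfl
    · rw [← map_inv, ← map_mul, ← map_mul, hx2]; rfl
  intro s t s' t' hs hs1 ht ht1 hst hc hs' hs1' ht' ht1' hst' hc'
  obtain ⟨g, g1, g2⟩ := key s t hs hs1 ht ht1 hst hc
  obtain ⟨k, k1, k2⟩ := key s' t' hs' hs1' ht' ht1' hst' hc'
  refine ⟨k * g⁻¹, ?_, ?_⟩
  · rw [← k1, ← g1]; group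
  · rw [← k2, ← g2]; group

/-! ### Automorphisms -/

/-- the data of an involutory automorphism -/
theorem aut_data (hF : Fintype.card F = q ^ 2) (h2 : (2 : F) ≠ 0) (a : MulAut (PSU 3 F q)) (ha : a * a = 1) :
    ∃ (A : GU 3 F q) (ρ : F ≃+* F), a = toAut A ρ ∧
      ((ρ = 1 ∧ ∃ c : F, c * c ^ q = 1 ∧ gm A * gm A = c • 1) ∨
       (ρ = conj hF ∧ gm A * (gm A).map (conj hF) = 1 ∧ (gm A)ᵀ = gm A)) := by
  have hq2 : ¬ ((3 : ℕ) = 3 ∧ q = 2) := by
    rintro ⟨-, rfl⟩
    apply h2
    have h3 : ((Fintype.card F : ℕ) : F) = 0 := Nat.cast_card_eq_zero F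
    rw [hF] at h3
    have h4 : (2 : F) ^ 2 = 0 := by
      rw [← h3]; norm_num
    exact (pow_eq_zero_iff two_ne_zero).1 h4
  obtain ⟨A, ρ, rfl⟩ := ClassicalGeometry.PSUAutMain.exists_toAut hF (n := 3) le_rfl hq2 a
  refine ⟨A, ρ, rfl, ?_⟩
  have e1 : toAut (A * mapGU ρ A) (ρ * ρ) = toAut (1 : GU 3 F q) 1 := by
    have h3 : toAut (1 : GU 3 F q) 1 = 1 := map_one f₁
    rw [h3, ← ha, toAut_eq, toAut_eq, map_mul, map_mul, ← conj_field]
    group
  obtain ⟨hρ, c, hcq, hc⟩ := eq_of_toAut_eq hF le_rfl e1.symm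
  rw [gm_mul, gm_one] at hc
  have hgmap : gm (mapGU ρ A) = (gm A).map ρ := rfl
  rw [hgmap] at hc
  have hc0 : c ≠ 0 := by
    rintro rfl
    rw [zero_mul] at hcq
    exact zero_ne_one hcq
  have hdA : (gm A).det ≠ 0 := by
    intro h
    have h3 := congrArg Matrix.det (gm_mul_inv A)
    rw [det_mul, h, zero_mul, det_one] at h3
    exact zero_ne_one h3
  by_cases hρ1 : ρ = 1
  · left
    subst hρ1
    refine ⟨rfl, c, hcq, ?_⟩
    have h3 : (gm A).map (1 : F ≃+* F) = gm A := by
      ext i j; rfl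
    rwa [h3] at hc
  · right
    have hρ' : ρ = conj hF := Cfsg.Agent.Cit.FourU.eq_conj hF hρ hρ1
    subst hρ'
    have hu := Cfsg.Agent.Cit.FourU.mat_of_gm hF A
    have hu' : (gm A).map (conj hF) * (gm A)ᵀ = 1 := mul_eq_one_comm.1 hu
    have hA1 : gm A = c • (gm A)ᵀ := by
      have h3 : gm A * (gm A).map (conj hF) * (gm A)ᵀ = c • (1 : Matrix (Fin 3) (Fin 3) F) * (gm A)ᵀ := by rw [hc]
      rwa [mul_assoc, hu', mul_one, Matrix.smul_mul, one_mul] at h3
    have hAne : gm A ≠ 0 := by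
      intro h
      apply hdA
      rw [h, det_zero]
    have hcc : c * c = 1 := by
      have h3 : gm A = (c * c) • gm A := by
        conv_lhs => rw [hA1]
        conv_lhs => rw [hA1]
        rw [transpose_smul, transpose_transpose, smul_smul]
      have h4 : (c * c - 1) • gm A = 0 := by rw [sub_smul, one_smul, ← h3, sub_self]
      rcases smul_eq_zero.1 h4 with h | h
      · exact sub_eq_zero.1 h
      · exact absurd h hAne
    have hc3 : c ^ 3 = 1 := by
      have h3 := congrArg Matrix.det hA1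
      rw [det_smul, Fintype.card_fin, det_transpose] at h3
      have h4 : (c ^ 3 - 1) * (gm A).det = 0 := by linear_combination -h3
      rcases mul_eq_zero.1 h4 with h | h
      · exact sub_eq_zero.1 h
      · exact absurd h hdA
    have hc1 : c = 1 := by
      have : c ^ 3 = c * (c * c) := by ring
      rw [this, hcc, mul_one] at hc3
      exact hc3
    rw [hc1, one_smul] at hc hA1
    exact ⟨rfl, hc, hA1.symm⟩


theorem gm_det_ne (A : GU 3 F q) : (gm A).det ≠ 0 := by
  intro h
  have h3 := congrArg Matrix.det (gm_mul_inv A)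
  rw [det_mul, h, zero_mul, det_one] at h3
  exact zero_ne_one h3

/-- multiples of elements of `SU` induce inner automorphisms -/
theorem toAut_eq_conj {A : GU 3 F q} {g : SU 3 F q} {c : F} (h : gm A = c • mat g) :
    toAut A 1 = MulAut.conj (pr 3 F q g) := by
  ext1 x
  obtain ⟨x, rfl⟩ := pr_surjective x
  rw [toAut_pr', MulAut.conj_apply, ← map_mul, ← map_inv, ← map_mul]
  congr 1
  apply mat_injective
  rw [Cfsg.Agent.Cit.FourU.mat_semiConj]
  have h1 : (mat x).map (1 : F ≃+* F) = mat x := by ext i j; rfl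
  have h2 : gm A * mat x = mat (g * x * g⁻¹) * gm A := by
    rw [h, Matrix.mul_smul, Matrix.smul_mul]
    congr 1
    rw [← mat_mul, ← mat_mul, inv_mul_cancel_right]
  rw [h1, h2, mul_assoc, gm_mul_inv, mul_one]

theorem map_zu (hF : Fintype.card F = q ^ 2) (ρ : F ≃+* F) : (mat (zu hF)).map ρ = mat (zu hF) := by
  rw [mat_zu]
  ext i j
  fin_cases i <;> fin_cases j <;> simp

/-- automorphisms fixing `z0` -/
theorem comm_zu (hF : Fintype.card F = q ^ 2) (h2 : (2 : F) ≠ 0) {A : GU 3 F q} {ρ : F ≃+* F}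
    (hz : toAut A ρ (pr 3 F q (zu hF)) = pr 3 F q (zu hF)) :
    gm A 0 2 = 0 ∧ gm A 1 2 = 0 ∧ gm A 2 0 = 0 ∧ gm A 2 1 = 0 := by
  rw [toAut_pr'] at hz
  have h1 : semiConj A ρ (zu hF) = zu hF :=
    eq_of_mk_eq (center_three hF) (by rw [← map_mul, zu_sq, map_one]) (zu_sq hF) hz
  have h3 : gm A * mat (zu hF) = mat (zu hF) * gm A := by
    have h4 : mat (semiConj A ρ (zu hF)) * gm A = mat (zu hF) * gm A := by rw [h1]
    rw [Cfsg.Agent.Cit.FourU.mat_semiConj, map_zu, mul_assoc, gm_inv_mul, mul_one] at h4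
    exact h4
  have h4 := h3.symm
  rw [mat_zu] at h4
  have e1 := congrFun (congrFun h4 0) 2
  have e2 := congrFun (congrFun h4 1) 2
  have e3 := congrFun (congrFun h4 2) 0
  have e4 := congrFun (congrFun h4 2) 1
  rw [diagonal_mul, mul_diagonal] at e1 e2 e3 e4
  simp at e1 e2 e3 e4
  refine ⟨?_, ?_, ?_, ?_⟩
  · exact (mul_eq_zero.1 (show (2 : F) * gm A 0 2 = 0 by linear_combination -e1)).resolve_left h2
  · exact (mul_eq_zero.1 (show (2 : F) * gm A 1 2 = 0 by linear_combination -e2)).resolve_left h2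
  · exact (mul_eq_zero.1 (show (2 : F) * gm A 2 0 = 0 by linear_combination e3)).resolve_left h2
  · exact (mul_eq_zero.1 (show (2 : F) * gm A 2 1 = 0 by linear_combination e4)).resolve_left h2

/-- block matrices with third diagonal entry `1` lie in `E1` -/
theorem mem_E1 (hF : Fintype.card F = q ^ 2) {g : SU 3 F q} (h02 : mat g 0 2 = 0) (h12 : mat g 1 2 = 0)
    (h20 : mat g 2 0 = 0) (h21 : mat g 2 1 = 0) (h22 : mat g 2 2 = 1) : g ∈ (suRep hF 1 le_rfl).E1 := by
  refine ⟨!![mat g 0 0, mat g 0 1; mat g 1 0, mat g 1 1], ?_⟩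
  show (mat g).submatrix (ee 1).symm (ee 1).symm = _
  have e0 : (ee 1).symm (Sum.inl 0) = 0 := rfl
  have e1 : (ee 1).symm (Sum.inl 1) = 1 := rfl
  have e2 : (ee 1).symm (Sum.inr 0) = 2 := rfl
  ext i j
  rcases i with i | i <;> rcases j with j | j <;> fin_cases i <;> fin_cases j <;>
    simp [e0, e1, e2, h02, h12, h20, h21, h22]

theorem bl_mem_E1 (hF : Fintype.card F = q ^ 2) (a b : F) (h : a * a ^ q + b * b ^ q = 1) :
    bl hF a b h ∈ (suRep hF 1 le_rfl).E1 := by
  apply mem_E1 <;> rw [mat_bl] <;> rfl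

/-- automorphisms trivial on the block -/
theorem fix_bl (hF : Fintype.card F = q ^ 2) {A : GU 3 F q} {ρ : F ≃+* F}
    (h02 : gm A 0 2 = 0) (h12 : gm A 1 2 = 0) (h20 : gm A 2 0 = 0) (h21 : gm A 2 1 = 0) {a b : F}
    (h : a * a ^ q + b * b ^ q = 1)
    (hz : toAut A ρ (pr 3 F q (bl hF a b h)) = pr 3 F q (bl hF a b h)) :
    gm A * (mat (bl hF a b h)).map ρ = mat (bl hF a b h) * gm A := by
  rw [toAut_pr'] at hz
  obtain ⟨z, hz1, hz2⟩ := Cfsg.Agent.ClassicalGeometry.PSUAutBasic.exists_center_mul hz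
  obtain ⟨c, h1, h3, rfl⟩ := (Cfsg.Agent.LieClassical.SUBasic.mem_center_SU_iff hF le_rfl z).1 hz1
  have hdet := gm_det_ne A
  have h22 : gm A 2 2 ≠ 0 := by
    intro h0
    apply hdet
    rw [det_fin_three, h02, h12, h20, h21, h0]
    ring
  have hc0 : c ≠ 0 := by
    rintro rfl
    simp at h1
  -- `A ρ(x) = c⁻¹ x A`
  have h4 : mat (bl hF a b h) * gm A = c • (gm A * (mat (bl hF a b h)).map ρ) := by
    conv_lhs => rw [hz2]
    rw [mat_mul, Cfsg.Agent.Cit.FourU.mat_semiConj]
    show gm A * (mat (bl hF a b h)).map ρ * gm A⁻¹ * diagonal (fun _ => c) * gm A = _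
    have h5 : (diagonal (fun _ => c) : Matrix (Fin 3) (Fin 3) F) = c • 1 := by
      rw [smul_one_eq_diagonal]
    rw [h5, Matrix.mul_smul, Matrix.smul_mul, mul_one, mul_assoc _ (gm A⁻¹), gm_inv_mul, mul_one]
  have h5 := congrFun (congrFun h4 2) 2
  rw [Matrix.smul_apply, Matrix.mul_apply, Matrix.mul_apply, Fin.sum_univ_three, Fin.sum_univ_three, mat_bl] at h5
  simp at h5
  rw [h4]
  have h6 : c = 1 := mul_right_cancel₀ h22 (by rw [one_mul]; exact h5.symm)
  rw [h6, one_smul]

/-- a norm one element different from its conjugate -/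
theorem exists_norm_one_ne (hF : Fintype.card F = q ^ 2) (h2 : (2 : F) ≠ 0) : ∃ t : F, t * t ^ q = 1 ∧ t ≠ t ^ q := by
  obtain ⟨θ, h0, h1⟩ := exists_trace_zero_ne hF
  have hθ : θ ^ q = -θ := by linear_combination h1
  have hp : 1 + θ ≠ 0 := by
    intro h
    have h3 : θ = -1 := by linear_combination h
    rw [h3, neg_pow_q hF, one_pow] at hθ
    apply h2
    linear_combination -hθ
  have hm : 1 - θ ≠ 0 := by
    intro h
    have h3 : θ = 1 := by linear_combination -h
    rw [h3, one_pow] at hθ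
    apply h2
    linear_combination hθ
  refine ⟨(1 + θ) / (1 - θ), ?_, ?_⟩
  · rw [div_pow, add_pow_q hF, sub_pow_q hF, one_pow, hθ, div_mul_div_comm, div_eq_one_iff_eq]
    · ring
    · rw [sub_neg_eq_add]
      exact mul_ne_zero hm hp
  · rw [div_pow, add_pow_q hF, sub_pow_q hF, one_pow, hθ, sub_neg_eq_add]
    intro h
    rw [div_eq_div_iff hm hp] at h
    have h3 : (2 : F) * 2 * θ = 0 := by linear_combination h
    exact (mul_ne_zero (mul_ne_zero h2 h2) h0) h3

/-- **(F3)** -/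
theorem aut_fix (hF : Fintype.card F = q ^ 2) (h2 : (2 : F) ≠ 0) (a : MulAut (PSU 3 F q)) (ha : a * a = 1)
    (hfix : ∀ x ∈ D1 (suRep hF 1 le_rfl), a x = x) : a = 1 ∨ a = MulAut.conj (pr 3 F q (zu hF)) := by
  obtain ⟨A, ρ, rfl, hA⟩ := aut_data hF h2 a ha
  obtain ⟨h02, h12, h20, h21⟩ := comm_zu hF h2 (hfix _ ⟨zu hF, mem_E1 hF rfl rfl rfl rfl rfl, rfl⟩)
  have hbl : ∀ (a b : F) (h : a * a ^ q + b * b ^ q = 1),
      gm A * (mat (bl hF a b h)).map ρ = mat (bl hF a b h) * gm A :=
    fun a b h => fix_bl hF h02 h12 h20 h21 h (hfix _ ⟨_, bl_mem_E1 hF a b h, rfl⟩)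
  have hw := hbl 0 1 (by rw [zero_mul, zero_add, one_pow, one_mul])
  rw [mat_bl] at hw
  have w00 := congrFun (congrFun hw 0) 0
  have w01 := congrFun (congrFun hw 0) 1
  rw [Matrix.mul_apply, Matrix.mul_apply, Fin.sum_univ_three, Fin.sum_univ_three] at w00 w01
  simp [zero_pow_q hF] at w00 w01
  obtain ⟨t, ht, ht'⟩ := exists_norm_one_ne hF h2
  have hd := hbl t 0 (by rw [zero_mul, add_zero, ht])
  rw [mat_bl] at hd
  have d00 := congrFun (congrFun hd 0) 0
  have d01 := congrFun (congrFun hd 0) 1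
  rw [Matrix.mul_apply, Matrix.mul_apply, Fin.sum_univ_three, Fin.sum_univ_three] at d00 d01
  simp [zero_pow_q hF] at d00 d01
  rcases hA with ⟨rfl, c, hc, hAA⟩ | ⟨rfl, hAA, hsym⟩
  · have h01 : gm A 0 1 = 0 := by
      have h3 : gm A 0 1 * (t ^ q - t) = 0 := by
        have h4 : ((1 : F ≃+* F) t) = t := rfl
        rw [h4] at d01
        linear_combination d01
      exact (mul_eq_zero.1 h3).resolve_right (sub_ne_zero.2 ht'.symm)
    have h10 : gm A 1 0 = 0 := by
      rw [h01] at w00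
      exact (neg_eq_zero.1 w00.symm)
    have h11 : gm A 1 1 = gm A 0 0 := w01.symm
    have a00 := congrFun (congrFun hAA 0) 0
    have a22 := congrFun (congrFun hAA 2) 2
    rw [Matrix.mul_apply, Fin.sum_univ_three] at a00 a22
    simp [h01, h02, h20, h21] at a00 a22
    have h3 : (gm A 2 2 - gm A 0 0) * (gm A 2 2 + gm A 0 0) = 0 := by linear_combination a22 - a00
    rcases mul_eq_zero.1 h3 with h4 | h4
    · left
      have h5 : gm A = gm A 0 0 • mat (1 : SU 3 F q) := by
        rw [mat_one]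
        ext i j
        fin_cases i <;> fin_cases j <;> simp [h01, h02, h10, h12, h20, h21, h11, sub_eq_zero.1 h4]
      rw [toAut_eq_conj h5, map_one, map_one]
    · right
      have h5 : gm A = (-gm A 0 0) • mat (zu hF) := by
        rw [mat_zu]
        ext i j
        fin_cases i <;> fin_cases j <;> simp [h01, h02, h10, h12, h20, h21, h11, eq_neg_of_add_eq_zero_left h4]
      exact toAut_eq_conj h5
  · exfalso
    have h00 : gm A 0 0 = 0 := by
      have h3 : gm A 0 0 * (t ^ q - t) = 0 := by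
        have h4 : conj hF t = t ^ q := rfl
        rw [h4] at d00
        linear_combination d00
      exact (mul_eq_zero.1 h3).resolve_right (sub_ne_zero.2 ht'.symm)
    have h10 : gm A 1 0 = gm A 0 1 := congrFun (congrFun hsym 0) 1
    have h01 : gm A 0 1 = 0 := by
      rw [h10] at w00
      exact (mul_eq_zero.1 (show (2 : F) * gm A 0 1 = 0 by linear_combination w00)).resolve_left h2
    apply gm_det_ne A
    rw [det_fin_three, h00, h01, h02]
    ring


/-! ### (F4) -/

/-- inner automorphisms -/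
theorem exists_inner (hF : Fintype.card F = q ^ 2) {A : GU 3 F q} {c : F} (hcq : c * c ^ q = 1)
    (hAA : gm A * gm A = c • 1) : ∃ g : PSU 3 F q, toAut A 1 = MulAut.conj g := by
  have hdA := gm_det_ne A
  have hc0 : c ≠ 0 := left_ne_zero_of_mul_eq_one hcq
  have hAA' : (gm A).det * (gm A).det = c ^ 3 := by
    have := congrArg Matrix.det hAA
    rwa [det_mul, det_smul, Fintype.card_fin, det_one, mul_one] at this
  have hdn : (gm A).det * (gm A).det ^ q = 1 := by
    rw [← pow_succ']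
    exact ClassicalGeometry.GUBasic.det_pow hF (herm_gm A)
  obtain ⟨s, hs⟩ : ∃ s, s = c / (gm A).det := ⟨_, rfl⟩
  have hsn : s * s ^ q = 1 := by
    rw [hs, div_pow, div_mul_div_comm, hcq, hdn, div_one]
  have hs0 : s ≠ 0 := left_ne_zero_of_mul_eq_one hsn
  refine ⟨pr 3 F q (mkSU (s • gm A) ?_ ?_), ?_⟩
  · rw [det_smul, Fintype.card_fin, hs]
    field_simp
    linear_combination -hAA'
  · intro u v
    rw [smul_mulVec, smul_mulVec, herm_smul_left, herm_smul_right, ← mul_assoc, hsn, one_mul, herm_gm]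
  · apply toAut_eq_conj (c := s⁻¹)
    rw [mat_mkSU, smul_smul, inv_mul_cancel₀ hs0, one_smul]

/-- the involution with fixed vector `v` -/
theorem exists_refl (hF : Fintype.card F = q ^ 2) {v : Fin 3 → F} (hk : hermForm 3 F q v v ≠ 0) :
    ∃ t : SU 3 F q, ∀ x, act t x = -x + (2 * (hermForm 3 F q v v)⁻¹ * hermForm 3 F q x v) • v := by
  set k := hermForm 3 F q v v with hkd
  have hkq : k ^ q = k := herm_self_pow hF v
  let vb : Fin 3 → F := fun i => v i ^ q
  have hvb : ∀ x : Fin 3 → F, vb ⬝ᵥ x = hermForm 3 F q x v := by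
    intro x
    rw [dotProduct_comm]
    rfl
  let M : Matrix (Fin 3) (Fin 3) F := -(1 + vecMulVec ((-(2 * k⁻¹)) • v) vb)
  have hM : ∀ x, M *ᵥ x = -x + (2 * k⁻¹ * hermForm 3 F q x v) • v := by
    intro x
    rw [← hvb]
    simp only [M, neg_mulVec, add_mulVec, one_mulVec, vecMulVec_mulVec]
    ext i
    simp
    ring
  have h2q : (2 : F) ^ q = 2 := by
    have : (2 : F) = 1 + 1 := by norm_num
    rw [this, add_pow_q hF, one_pow]
  refine ⟨mkSU M ?_ ?_, fun x => hM x⟩
  · have h3 : vb ⬝ᵥ ((-(2 * k⁻¹)) • v) = -2 := by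
      rw [dotProduct_smul, hvb, ← hkd, smul_eq_mul]
      field_simp
    simp only [M]
    rw [det_neg, vecMulVec_eq Unit, det_one_add_replicateCol_mul_replicateRow, h3, Fintype.card_fin]
    ring
  · intro x y
    rw [hM, hM, herm_add_left, herm_add_right hF, herm_add_right hF, herm_neg_left, herm_neg_left,
      herm_neg_right hF, herm_smul_left, herm_smul_left, herm_smul_right, herm_smul_right, herm_neg_right hF,
      ← hkd, mul_pow, mul_pow, h2q, inv_pow, hkq, herm_swap hF v y]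
    have h3 : (hermForm 3 F q v y ^ q) ^ q = hermForm 3 F q v y := pow_q_pow_q hF _
    rw [h3]
    field_simp
    ring


/-- a non-isotropic fixed vector of a semilinear involution -/
theorem exists_fixed (hF : Fintype.card F = q ^ 2) (h2 : (2 : F) ≠ 0) {A : GU 3 F q}
    (h20 : gm A 2 0 = 0) (h21 : gm A 2 1 = 0) (hAA : gm A * (gm A).map (conj hF) = 1) :
    ∃ v : Fin 3 → F, v 2 = 0 ∧ (gm A *ᵥ fun i => conj hF (v i)) = v ∧ hermForm 3 F q v v ≠ 0 := by
  by_contra hcon
  push Not at hcon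
  obtain ⟨l, hl⟩ := exists_not_fixed hF
  let T : (Fin 3 → F) → (Fin 3 → F) := fun u => gm A *ᵥ fun i => conj hF (u i)
  have hadd : ∀ u v, T (u + v) = T u + T v := by
    intro u v
    show gm A *ᵥ _ = _
    rw [← mulVec_add]
    congr 1
    ext i
    simp
  have hsm : ∀ (c : F) u, T (c • u) = c ^ q • T u := by
    intro c u
    show gm A *ᵥ _ = _
    rw [← mulVec_smul]
    congr 1
    ext i
    simp [conj_apply, mul_pow]
  have hTT : ∀ u, T (T u) = u := by
    intro u
    show (gm A *ᵥ fun i => conj hF ((gm A *ᵥ fun j => conj hF (u j)) i)) = u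
    have h3 : (fun i => conj hF ((gm A *ᵥ fun j => conj hF (u j)) i)) = (gm A).map (conj hF) *ᵥ u := by
      ext i
      simp only [mulVec, dotProduct, map_sum, map_mul, Matrix.map_apply]
      refine Finset.sum_congr rfl fun j _ => ?_
      congr 1
      exact pow_q_pow_q hF (u j)
    rw [h3, mulVec_mulVec, hAA, one_mulVec]
  have hT2 : ∀ u, u 2 = 0 → T u 2 = 0 := by
    intro u hu
    show (gm A *ᵥ fun i => conj hF (u i)) 2 = 0
    simp [mulVec, dotProduct, Fin.sum_univ_three, h20, h21, hu]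
  have hTh : ∀ u v, hermForm 3 F q (T u) (T v) = (hermForm 3 F q u v) ^ q := fun u v =>
    herm_semi A (conj hF) u v
  -- fixed vectors are orthogonal to each other
  have k1 : ∀ u v, u 2 = 0 → v 2 = 0 → T u = u → T v = v → hermForm 3 F q u v = 0 := by
    intro u v hu hv hTu hTv
    have e1 := hcon u hu hTu
    have e2 := hcon v hv hTv
    have e3 := hcon (u + v) (by simp [hu, hv]) (by
      show T (u + v) = u + v
      rw [hadd, hTu, hTv])
    rw [herm_add_left, herm_add_right hF, herm_add_right hF, e1, e2, herm_swap hF u v] at e3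
    have e4 : hermForm 3 F q u v = (hermForm 3 F q u v) ^ q := by
      rw [← hTh, hTu, hTv]
    rw [← e4] at e3
    exact (mul_eq_zero.1 (show (2 : F) * hermForm 3 F q u v = 0 by linear_combination e3)).resolve_left h2
  have hfix : ∀ u, T (u + T u) = u + T u := by
    intro u
    rw [hadd, hTT, add_comm]
  have k2 : ∀ u v, u 2 = 0 → v 2 = 0 → T v = v → hermForm 3 F q u v = 0 := by
    intro u v hu hv hTv
    have e1 := k1 (u + T u) v (by rw [Pi.add_apply, hu, hT2 u hu, add_zero]) hv (hfix u) hTv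
    have e2 := k1 (l • u + T (l • u)) v (by rw [Pi.add_apply, hT2 _ (by simp [hu])]; simp [hu]) hv (hfix _) hTv
    rw [herm_add_left] at e1
    rw [hsm, herm_add_left, herm_smul_left, herm_smul_left] at e2
    have e3 : (l - l ^ q) * hermForm 3 F q u v = 0 := by linear_combination e2 - l ^ q * e1
    exact (mul_eq_zero.1 e3).resolve_left (sub_ne_zero.2 hl.symm)
  have k3 : ∀ u v, u 2 = 0 → v 2 = 0 → hermForm 3 F q u v = 0 := by
    intro u v hu hv
    have e1 := k2 u (v + T v) hu (by rw [Pi.add_apply, hv, hT2 v hv, add_zero]) (hfix v)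
    have e2 := k2 u (l • v + T (l • v)) hu (by rw [Pi.add_apply, hT2 _ (by simp [hv])]; simp [hv]) (hfix _)
    rw [herm_add_right hF] at e1
    rw [hsm, herm_add_right hF, herm_smul_right, herm_smul_right, pow_q_pow_q hF] at e2
    have e3 : (l ^ q - l) * hermForm 3 F q u v = 0 := by linear_combination e2 - l * e1
    exact (mul_eq_zero.1 e3).resolve_left (sub_ne_zero.2 hl)
  have := k3 (Pi.single 0 1) (Pi.single 0 1) rfl rfl
  rw [herm_single_right hF] at this
  simp at this

/-- **(F4)** -/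
theorem aut_out (hF : Fintype.card F = q ^ 2) (h2 : (2 : F) ≠ 0) (a : MulAut (PSU 3 F q)) (ha : a * a = 1)
    (hinn : ∀ g, a ≠ MulAut.conj g) (hz : a (pr 3 F q (zu hF)) = pr 3 F q (zu hF)) :
    ∃ t : PSU 3 F q, t * t = 1 ∧ t ≠ 1 ∧ t ≠ pr 3 F q (zu hF) ∧
      t * pr 3 F q (zu hF) = pr 3 F q (zu hF) * t ∧ a t = t := by
  obtain ⟨A, ρ, rfl, hA⟩ := aut_data hF h2 a ha
  obtain ⟨h02, h12, h20, h21⟩ := comm_zu hF h2 hz
  rcases hA with ⟨rfl, c, hc, hAA⟩ | ⟨rfl, hAA, hsym⟩
  · obtain ⟨g, hg⟩ := exists_inner hF hc hAA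
    exact absurd hg (hinn g)
  · obtain ⟨v, hv2, hSv, hk⟩ := exists_fixed hF h2 h20 h21 hAA
    obtain ⟨t, ht⟩ := exists_refl hF hk
    set k := hermForm 3 F q v v with hkd
    have hkq : k ^ q = k := herm_self_pow hF v
    have h2q : (2 : F) ^ q = 2 := by
      have : (2 : F) = 1 + 1 := by norm_num
      rw [this, add_pow_q hF, one_pow]
    have htt : t * t = 1 := by
      apply ext_act
      intro x
      rw [act_mul, act_one, ht (act t x), ht x, herm_add_left, herm_neg_left, herm_smul_left, ← hkd, neg_add,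
        neg_neg, add_assoc, ← neg_smul, ← add_smul]
      have : -(2 * k⁻¹ * hermForm 3 F q x v) + 2 * k⁻¹ * (-hermForm 3 F q x v + 2 * k⁻¹ * hermForm 3 F q x v * k) =
          0 := by
        field_simp
        ring
      rw [this, zero_smul, add_zero]
    have he2 : hermForm 3 F q (Pi.single 2 1) v = 0 := by
      rw [herm_single_left, hv2, zero_pow_q hF, mul_zero]
    have hte2 : act t (Pi.single 2 1) = -Pi.single 2 1 := by
      rw [ht, he2, mul_zero, zero_smul, add_zero]
    have hte2' : (act t (Pi.single 2 1)) 2 = -1 := by rw [hte2]; simp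
    have ht1 : t ≠ 1 := by
      rintro rfl
      rw [act_one] at hte2'
      simp at hte2'
      exact ne_neg h2 hte2'
    have htz : t ≠ zu hF := by
      rintro rfl
      have h3 : act (zu hF) (Pi.single 2 1) = (1 : F) • Pi.single 2 1 := act_dg _ _ _ 2
      rw [h3] at hte2'
      simp at hte2'
      exact ne_neg h2 hte2'
    have hzv : act (zu hF) v = -v := by
      show mat (zu hF) *ᵥ v = -v
      rw [mat_zu]
      ext i
      rw [mulVec_diagonal]
      fin_cases i <;> simp [hv2]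
    have htc : t * zu hF = zu hF * t := by
      apply ext_act
      intro x
      rw [act_mul, act_mul, ht, ht]
      have h3 : hermForm 3 F q (act (zu hF) x) v = -hermForm 3 F q x v := by
        have h4 := herm_act (zu hF) x v
        rw [hzv, herm_neg_right hF] at h4
        rw [← h4, neg_neg]
      have h5 : act (zu hF) (-x + (2 * k⁻¹ * hermForm 3 F q x v) • v) =
          -act (zu hF) x + (2 * k⁻¹ * hermForm 3 F q x v) • act (zu hF) v := by
        show mat (zu hF) *ᵥ _ = -(mat (zu hF) *ᵥ x) + (2 * k⁻¹ * hermForm 3 F q x v) • (mat (zu hF) *ᵥ v)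
        rw [mulVec_add, mulVec_neg, mulVec_smul]
      rw [h5, hzv, h3]
      module
    have hTT : ∀ u : Fin 3 → F, (gm A *ᵥ fun i => conj hF ((gm A *ᵥ fun j => conj hF (u j)) i)) = u := by
      intro u
      have h3 : (fun i => conj hF ((gm A *ᵥ fun j => conj hF (u j)) i)) = (gm A).map (conj hF) *ᵥ u := by
        ext i
        simp only [mulVec, dotProduct, map_sum, map_mul, Matrix.map_apply]
        refine Finset.sum_congr rfl fun j _ => ?_
        congr 1
        exact pow_q_pow_q hF (u j)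
      rw [h3, mulVec_mulVec, hAA, one_mulVec]
    have hat : semiConj A (conj hF) t = t := by
      apply ext_act
      intro x
      rw [← hTT x]
      set y : Fin 3 → F := gm A *ᵥ fun j => conj hF (x j) with hy
      rw [act_semiConj, ht (gm A *ᵥ fun i => conj hF (y i))]
      have h3 : (fun i => conj hF (act t y i)) =
          -(fun i => conj hF (y i)) + (2 * k⁻¹ * (hermForm 3 F q y v) ^ q) • (fun i => conj hF (v i)) := by
        ext i
        rw [ht y]
        simp only [Pi.add_apply, Pi.neg_apply, Pi.smul_apply, smul_eq_mul, map_add, map_neg, map_mul, conj_apply,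
          inv_pow, hkq, h2q]
      have h4 : hermForm 3 F q (gm A *ᵥ fun i => conj hF (y i)) v = (hermForm 3 F q y v) ^ q := by
        conv_lhs => rw [← hSv]
        exact herm_semi A (conj hF) y v
      rw [h3, mulVec_add, mulVec_neg, mulVec_smul, hSv, h4]
    refine ⟨pr 3 F q t, by rw [← map_mul, htt, map_one], ?_, ?_, by rw [← map_mul, ← map_mul, htc], ?_⟩
    · intro h
      apply ht1
      exact eq_of_mk_eq (center_three hF) htt (mul_one 1) (by
        show pr 3 F q t = pr 3 F q 1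
        rw [h, map_one])
    · intro h
      exact htz (eq_of_mk_eq (center_three hF) htt (zu_sq hF) h)
    · rw [toAut_pr', hat]

/-- **The facts for `PSU_3(q)`.** -/
theorem lfact (hF : Fintype.card F = q ^ 2) (ho : Odd (Fintype.card F)) :
    LFact (PSU 3 F q) (D1 (suRep hF 1 le_rfl)) (z0 (suRep hF 1 le_rfl)) := by
  have h2 : (2 : F) ≠ 0 := Cfsg.Agent.SignalizersComponents.SLQuasisimple.two_ne_zero_of_odd ho
  rw [z0_eq]
  have hzz : pr 3 F q (zu hF) * pr 3 F q (zu hF) = 1 := by rw [← map_mul, zu_sq, map_one]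
  have hww : pr 3 F q (wu hF) * pr 3 F q (wu hF) = 1 := by rw [← map_mul, wu_sq, map_one]
  have h1 : ∀ t : SU 3 F q, t * t = 1 → t ≠ 1 → pr 3 F q t ≠ 1 := by
    intro t htt ht1 h
    apply ht1
    exact eq_of_mk_eq (center_three hF) htt (mul_one 1) (by
      show pr 3 F q t = pr 3 F q 1
      rw [h, map_one])
  refine ⟨hzz, h1 _ (zu_sq hF) (zu_ne hF h2), ?_, fun a ha hx => aut_fix hF h2 a ha hx,
    fun a ha hl hz => aut_out hF h2 a ha hl hz,
    ⟨pr 3 F q (wu hF), hww, h1 _ (wu_sq hF) (wu_ne hF h2), ?_, ?_⟩, ?_⟩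
  · have key : ∀ s : PSU 3 F q, s * s = 1 → s ≠ 1 → ∃ g, g * pr 3 F q (zu hF) * g⁻¹ = s := by
      intro s hs hs1
      obtain ⟨g, hg, hg1, rfl⟩ := exists_lift (center_three hF) hs hs1
      obtain ⟨x, hx⟩ := conj_zu hF h2 hg hg1
      exact ⟨pr 3 F q x, by rw [← map_inv, ← map_mul, ← map_mul, hx]; rfl⟩
    intro s t hs hs1 ht ht1
    obtain ⟨g, g1⟩ := key s hs hs1
    obtain ⟨k, k1⟩ := key t ht ht1
    refine ⟨k * g⁻¹, ?_⟩
    rw [← k1, ← g1]; group
  · intro h
    exact wu_ne_zu hF h2 (eq_of_mk_eq (center_three hF) (wu_sq hF) (zu_sq hF) h)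
  · rw [← map_mul, ← map_mul, zu_wu]
  · apply core_of_equiv (Cfsg.Agent.Cit.LongInst.odd_KK hF ho)
    obtain ⟨e⟩ := (Cfsg.Agent.Cit.LongInst.su_good1 hF ho).e1
    have : Nonempty (Fin 1) := inferInstance
    exact ⟨(Cfsg.Agent.Cit.LongQuot.D1Equiv (suRep hF 1 le_rfl)).symm.trans e⟩

end Cfsg.Agent.CitLFactSU
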