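import Cfsg.Agent.Cit.LongFinal

/-!
# `F(L)`: final form up to conjugation

`exists_swap`: for `n = 4` and `Sp₄` the two block subgroups `D₁`, `D₂` are conjugate in `C_L(z₀)`.
`conj_main`, `conj_exact`: the results of `LongMain` for `K` over a conjugate of `z₀`.
-/

set_option autoImplicit false

namespace Cfsg.Agent.Cit.LongConj

open Subgroup Cfsg Matrix Cfsg.Agent.Cit.LongAbs Cfsg.Agent.Cit.LongBlock Cfsg.Agent.Cit.LongQuot
  Cfsg.Agent.Cit.LongMain Cfsg.Agent.Cit.LongModel Cfsg.Agent.Cit.LongInst Cfsg.Agent.Cit.LongTwo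
  Cfsg.Agent.Cit.LongFive Cfsg.Agent.Cit.LongFiveB Cfsg.Agent.Cit.LongFinal

/-! ### `SL₂` has one involution -/

section SLTwo

variable {F : Type*} [Field F]

theorem eq_neg_one (h2 : (2 : F) ≠ 0) {x : SpecialLinearGroup (Fin 2) F} (hx : x * x = 1)
    (h1 : x ≠ 1) : x = -1 := by
  have hi : x⁻¹ = x := inv_eq_of_mul_eq_one_left hx
  have hm : (x⁻¹).1 = x.1 := by rw [hi]
  have hadj : (x⁻¹).1 = adjugate x.1 := rfl
  rw [hadj, adjugate_fin_two] at hm
  have e1 : x.1 1 1 = x.1 0 0 := by have := congrFun (congrFun hm 0) 0; simpa using this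
  have e2 : -x.1 0 1 = x.1 0 1 := by have := congrFun (congrFun hm 0) 1; simpa using this
  have e3 : -x.1 1 0 = x.1 1 0 := by have := congrFun (congrFun hm 1) 0; simpa using this
  have kz : ∀ t : F, -t = t → t = 0 := by
    intro t ht
    have : 2 * t = 0 := by linear_combination -ht
    exact (mul_eq_zero.1 this).resolve_left h2
  have z1 := kz _ e2
  have z2 := kz _ e3
  have hd : x.1.det = 1 := x.2
  rw [det_fin_two, e1, z1, z2] at hd
  have e4 : (x.1 0 0 - 1) * (x.1 0 0 + 1) = 0 := by linear_combination hd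
  rcases mul_eq_zero.1 e4 with h | h
  · exfalso
    apply h1
    have e5 : x.1 0 0 = 1 := sub_eq_zero.1 h
    apply Subtype.ext
    change x.1 = 1
    ext i j
    fin_cases i <;> fin_cases j <;> simp [e5, e1, z1, z2]
  · have e5 : x.1 0 0 = -1 := eq_neg_of_add_eq_zero_left h
    apply Subtype.ext
    change x.1 = -1
    ext i j
    fin_cases i <;> fin_cases j <;> simp [e5, e1, z1, z2]

theorem oneInv_SL2 (h2 : (2 : F) ≠ 0) : OneInv (SpecialLinearGroup (Fin 2) F) := by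
  intro x y hx hy hxx hyy
  rw [eq_neg_one h2 hxx hx, eq_neg_one h2 hyy hy]

theorem nonComm_SL2 (F : Type*) [Field F] : NonComm (SpecialLinearGroup (Fin 2) F) := by
  intro h
  let x : SpecialLinearGroup (Fin 2) F := ⟨!![1, 1; 0, 1], by simp⟩
  let y : SpecialLinearGroup (Fin 2) F := ⟨!![1, 0; 1, 1], by simp⟩
  have h1 : (x * y).1 1 1 = (y * x).1 1 1 := by rw [h x y]
  have h2 : (x * y).1 = !![1, 1; 0, 1] * !![1, 0; 1, 1] := rfl
  have h3 : (y * x).1 = !![1, 0; 1, 1] * !![1, 1; 0, 1] := rfl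
  rw [h2, h3] at h1
  simp at h1

end SLTwo

/-! ### the swap -/

section Swap

variable {Γ : Type*} [Group Γ] {F : Type*} [Field F] {T : Set (F →+* F)}

/-- if the swap matrix is in the group, `D₂` is conjugate to `D₁` inside `C_L(z₀)` -/
theorem exists_swap {R : Rep Γ F (Fin 2)} {s : Γ} (hs : R.ρ s = fromBlocks 0 1 1 0) :
    pr Γ s * z0 R * (pr Γ s)⁻¹ = z0 R ∧ (D2 R).map (MulAut.conj (pr Γ s)).toMonoidHom = D1 R := by
  have hss : s * s = 1 := by
    apply R.inj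
    rw [map_mul, hs, fromBlocks_multiply, map_one, ← fromBlocks_one]
    simp
  have hsi : s⁻¹ = s := inv_eq_of_mul_eq_one_left hss
  have key : ∀ g P S, R.ρ g = fromBlocks P 0 0 S → R.ρ (s * g * s⁻¹) = fromBlocks S 0 0 P := by
    intro g P S hg
    rw [hsi, map_mul, map_mul, hs, hg, fromBlocks_multiply, fromBlocks_multiply]
    simp
  constructor
  · have h1 := key R.t _ _ R.t_eq
    rw [z0, ← map_mul, ← map_inv, ← map_mul]
    apply pr_eq_of_smul R (e := -1)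
    rw [h1, R.t_eq, fromBlocks_smul]
    simp
  · ext x
    constructor
    · rintro ⟨_, ⟨y, ⟨S, hS⟩, rfl⟩, rfl⟩
      refine ⟨s * y * s⁻¹, ⟨S, key _ _ _ hS⟩, ?_⟩
      simp
    · rintro ⟨y, ⟨P, hP⟩, rfl⟩
      refine ⟨pr Γ (s * y * s⁻¹), ⟨_, ⟨P, key _ _ _ hP⟩, rfl⟩, ?_⟩
      rw [hsi]
      change pr Γ s * pr Γ (s * y * s) * (pr Γ s)⁻¹ = pr Γ y
      rw [← map_inv, ← map_mul, ← map_mul, hsi]
      congr 1
      calc s * (s * y * s) * s = (s * s) * y * (s * s) := by group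
        _ = y := by rw [hss]; group

theorem swap_det : (fromBlocks 0 1 1 0 : Matrix (Fin 2 ⊕ Fin 2) (Fin 2 ⊕ Fin 2) F).det = 1 := by
  let σ : Equiv.Perm (Fin 2 ⊕ Fin 2) :=
    Equiv.swap (Sum.inl 0) (Sum.inr 0) * Equiv.swap (Sum.inl 1) (Sum.inr 1)
  have h1 : (fromBlocks 0 1 1 0 : Matrix (Fin 2 ⊕ Fin 2) (Fin 2 ⊕ Fin 2) F) = σ.permMatrix F := by
    ext i j
    rcases i with i | i <;> rcases j with j | j <;> fin_cases i <;> fin_cases j <;>
      simp [σ, Equiv.swap_apply_def, PEquiv.toMatrix_apply, Equiv.toPEquiv]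
  rw [h1, det_permutation]
  have h2 : Equiv.Perm.sign σ = 1 := by
    simp [σ]
  rw [h2]; simp

theorem Model.swap {R : Rep Γ F (Fin 2)} (hR : Model R T) : ∃ s, R.ρ s = fromBlocks 0 1 1 0 := by
  refine (hR _).2 ⟨swap_det, fun t _ => ?_⟩
  rw [fromBlocks_transpose, fromBlocks_map, fromBlocks_multiply]
  rw [Matrix.map_one t (map_zero t) (map_one t), Matrix.map_zero t (map_zero t)]
  simp

theorem sp_swap : ∃ s, (LongSp.spRep F).ρ s = fromBlocks 0 1 1 0 := by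
  refine ⟨⟨(fromBlocks 0 1 1 0 : Matrix (Fin 2 ⊕ Fin 2) (Fin 2 ⊕ Fin 2) F).submatrix LongSp.e4
    LongSp.e4, ?_⟩, ?_⟩
  · rw [LongSp.sp_iff, fromBlocks_transpose, fromBlocks_multiply, fromBlocks_multiply]
    simp
  · rw [LongSp.spRep_ρ, LongSp.e4_e4]

end Swap

/-! ### the general form -/

section General

variable {Γ : Type*} [Group Γ] {F : Type*} [Field F] {κ : Type*} [Fintype κ] [DecidableEq κ]
  {F1 : Type*} [Field F1] [Fintype F1]

/-- `D₂`, if of type `SL₂`, is conjugate to `D₁` over `z₀` -/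
def Swap (R : Rep Γ F κ) (F1 : Type*) [Field F1] : Prop :=
  Nonempty (R.E2 ≃* SpecialLinearGroup (Fin 2) F1) →
    ∃ s : Γ ⧸ center Γ, s * z0 R * s⁻¹ = z0 R ∧ (D2 R).map (MulAut.conj s).toMonoidHom = D1 R

theorem map_conj_mul {G : Type*} [Group G] (K : Subgroup G) (s g : G) :
    (K.map (MulAut.conj g).toMonoidHom).map (MulAut.conj s).toMonoidHom =
      K.map (MulAut.conj (s * g)).toMonoidHom := by
  rw [Subgroup.map_map]
  congr 1
  ext x
  simp [mul_assoc]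

theorem OC_conj {R : Rep Γ F κ} {s : Γ ⧸ center Γ} (hs : s * z0 R * s⁻¹ = z0 R) :
    (OC R).map (MulAut.conj s).toMonoidHom ≤ OC R := by
  have hsC : s ∈ CC R := by
    rw [mem_centralizer_singleton_iff]
    calc s * z0 R = (s * z0 R * s⁻¹) * s := by group
      _ = z0 R * s := by rw [hs]
  rintro _ ⟨_, ⟨y, hy, rfl⟩, rfl⟩
  have hN : (oddCore (CC R)).Normal := Lib.Cores.pPrimeCore_normal 2
  exact ⟨⟨s, hsC⟩ * y * ⟨s, hsC⟩⁻¹, hN.conj_mem y hy _, rfl⟩

/-- **F(L), final form** -/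
theorem conj_main [Finite Γ] {R : Rep Γ F κ} (h : Good R F1) (hsw : Swap R F1)
    {z g : Γ ⧸ center Γ} (hg : g * z * g⁻¹ = z0 R) {K : Subgroup (Γ ⧸ center Γ)}
    (hK : K ≤ centralizer {z}) (hsn : (K.subgroupOf (centralizer {z})).IsSubnormal) (hz : z ∈ K)
    {F' : Type*} [Field F'] [Fintype F'] (ho' : Odd (Fintype.card F'))
    (eK : Nonempty (↥K ⧸ oddCore ↥K ≃* SpecialLinearGroup (Fin 2) F')) :
    ∃ g, g * z * g⁻¹ = z0 R ∧ D1 R ≤ K.map (MulAut.conj g).toMonoidHom ∧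
      K.map (MulAut.conj g).toMonoidHom ≤ D1 R ⊔ OC R := by
  obtain ⟨h3, h4, ⟨f⟩⟩ := conj_hyp g hK hsn
  rw [hg] at h3 h4
  obtain ⟨e⟩ := eK
  have f' : (↥K ⧸ oddCore ↥K) ≃* (↥(K.map (MulAut.conj g).toMonoidHom) ⧸
      oddCore ↥(K.map (MulAut.conj g).toMonoidHom)) :=
    QuotientGroup.congr _ _ f (Lib.Cores.map_equiv_pPrimeCore _ 2)
  rcases h.main h3 h4 ⟨z, hz, hg⟩ ho' ⟨f'.symm.trans e⟩ with ⟨h5, h6⟩ | ⟨h5, h6, h7⟩
  · exact ⟨g, hg, h5, h6⟩
  · obtain ⟨s, hs, hs2⟩ := hsw h5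
    refine ⟨s * g, ?_, ?_, ?_⟩
    · calc s * g * z * (s * g)⁻¹ = s * (g * z * g⁻¹) * s⁻¹ := by group
        _ = z0 R := by rw [hg, hs]
    · rw [← map_conj_mul, ← hs2]
      exact Subgroup.map_mono h6
    · rw [← map_conj_mul]
      refine (Subgroup.map_mono h7).trans ?_
      rw [Subgroup.map_sup, hs2]
      exact sup_le le_sup_left ((OC_conj hs).trans le_sup_right)

/-- **F(L), final form**, `K ≃ SL₂(F')` -/
theorem conj_exact [Finite Γ] {R : Rep Γ F κ} (h : Good R F1) (hsw : Swap R F1)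
    {z g : Γ ⧸ center Γ} (hg : g * z * g⁻¹ = z0 R) {K : Subgroup (Γ ⧸ center Γ)}
    (hK : K ≤ centralizer {z}) (hsn : (K.subgroupOf (centralizer {z})).IsSubnormal) (hz : z ∈ K)
    {F' : Type*} [Field F'] [Fintype F'] (ho' : Odd (Fintype.card F'))
    (eK : Nonempty (↥K ≃* SpecialLinearGroup (Fin 2) F')) :
    ∃ g, g * z * g⁻¹ = z0 R ∧ K.map (MulAut.conj g).toMonoidHom = D1 R := by
  obtain ⟨h3, h4, ⟨f⟩⟩ := conj_hyp g hK hsn
  rw [hg] at h3 h4
  obtain ⟨e⟩ := eK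
  rcases h.main_exact h3 h4 ⟨z, hz, hg⟩ ho' ⟨f.symm.trans e⟩ with h5 | ⟨h5, h6⟩
  · exact ⟨g, hg, h5⟩
  · obtain ⟨s, hs, hs2⟩ := hsw h5
    refine ⟨s * g, ?_, ?_⟩
    · calc s * g * z * (s * g)⁻¹ = s * (g * z * g⁻¹) * s⁻¹ := by group
        _ = z0 R := by rw [hg, hs]
    · rw [← map_conj_mul, h6, hs2]

/-- **F(L), final form**, other quasisimple types do not occur -/
theorem conj_false [Finite Γ] {R : Rep Γ F κ} (h : Good R F1)
    {z g : Γ ⧸ center Γ} (hg : g * z * g⁻¹ = z0 R) {K : Subgroup (Γ ⧸ center Γ)}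
    (hK : K ≤ centralizer {z}) (hsn : (K.subgroupOf (centralizer {z})).IsSubnormal) (hz : z ∈ K)
    (hq : IsQuasisimple (↥K ⧸ oddCore ↥K))
    (hne : ¬ Nonempty (↥K ⧸ oddCore ↥K ≃* SpecialLinearGroup (Fin 2) F1)) : False := by
  obtain ⟨h3, h4, ⟨f⟩⟩ := conj_hyp g hK hsn
  rw [hg] at h3 h4
  have f' : (↥K ⧸ oddCore ↥K) ≃* (↥(K.map (MulAut.conj g).toMonoidHom) ⧸
      oddCore ↥(K.map (MulAut.conj g).toMonoidHom)) :=
    QuotientGroup.congr _ _ f (Lib.Cores.map_equiv_pPrimeCore _ 2)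
  refine h.false_of_quasisimple h3 h4 ⟨z, hz, hg⟩
    (SignalizersComponents.ComponentNormalize.quasisimple_congr f' hq) ?_
  rintro ⟨e⟩
  exact hne ⟨f'.trans e⟩

end General

/-! ### `Swap` in all cases -/

section Cases

variable {Γ : Type*} [Group Γ] {F : Type*} [Field F] {T : Set (F →+* F)} {F1 : Type*} [Field F1]

theorem swap1 {R : Rep Γ F (Fin 1)} (hR : WModel R T) : Swap R F1 := by
  rintro ⟨e⟩
  exfalso
  have hE2 : R.E2 = ⊥ := by
    rw [eq_bot_iff]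
    rintro x ⟨S, hS⟩
    rw [mem_bot]
    apply R.inj
    have h1 := (hR.right x S hS).1
    rw [det_fin_one] at h1
    rw [hS, map_one, ← fromBlocks_one]
    congr 1
    ext i j
    fin_cases i; fin_cases j
    simpa using h1
  apply nonComm_SL2 F1
  intro x y
  have h1 : ∀ u : R.E2, u = 1 := by
    rintro ⟨u, hu⟩
    rw [hE2, mem_bot] at hu
    exact Subtype.ext hu
  rw [← e.apply_symm_apply x, h1 (e.symm x), map_one, one_mul, mul_one]

theorem swap2 {R : Rep Γ F (Fin 2)} (hR : ∃ s, R.ρ s = fromBlocks 0 1 1 0) : Swap R F1 := by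
  intro _
  obtain ⟨s, hs⟩ := hR
  exact ⟨pr Γ s, exists_swap hs⟩

theorem swap3 {R : Rep Γ F (Fin 3)} (hR : WModel R T) (h2 : (2 : F) ≠ 0) (h2' : (2 : F1) ≠ 0) :
    Swap R F1 := by
  rintro ⟨e⟩
  exfalso
  obtain ⟨f⟩ := hR.equiv2
  have h1 := (oneInv_SL2 h2').congr (e.symm.trans f)
  have h10 : (-1 : F) ≠ 1 := by
    intro h
    apply h2
    have : (1 : F) + 1 = 0 := by nth_rewrite 1 [← h]; ring
    rw [← this]; norm_num
  have n1 : (Un.mk (cond_V1 T) : Un T (Fin 3)) ≠ 1 := by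
    intro h
    have h3 : (V1 F) 0 0 = (1 : Matrix (Fin 3) (Fin 3) F) 0 0 :=
      congrArg (fun A : Un T (Fin 3) => (A.1.1 : Matrix (Fin 3) (Fin 3) F) 0 0) h
    simp [V1] at h3
    exact h10 h3
  have n2 : (Un.mk (cond_V2 T) : Un T (Fin 3)) ≠ 1 := by
    intro h
    have h3 : (V2 F) 1 1 = (1 : Matrix (Fin 3) (Fin 3) F) 1 1 :=
      congrArg (fun A : Un T (Fin 3) => (A.1.1 : Matrix (Fin 3) (Fin 3) F) 1 1) h
    simp [V2] at h3
    exact h10 h3
  have s2 : V2 F * V2 F = 1 := by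
    ext i j
    fin_cases i <;> fin_cases j <;> simp [V2, Matrix.mul_apply, Fin.sum_univ_three]
  have h3 := h1 _ _ n1 n2 (Subtype.ext (Subtype.ext V1_sq)) (Subtype.ext (Subtype.ext s2))
  have h4 : (V1 F) 0 0 = (V2 F) 0 0 :=
    congrArg (fun A : Un T (Fin 3) => (A.1.1 : Matrix (Fin 3) (Fin 3) F) 0 0) h3
  simp [V1, V2] at h4
  exact h10 h4

end Cases

/-! ### instances -/

section Instances

variable {F : Type*} [Field F] [Fintype F] (ho : Odd (Fintype.card F))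

omit [Fintype F] in
theorem sl_swap1 : Swap (slRep F 1) F := swap1 (slRep_model F 1).toW
omit [Fintype F] in
theorem sl_swap2 : Swap (slRep F 2) F := swap2 (Model.swap (slRep_model F 2))
omit [Fintype F] in
theorem sp_swap' : Swap (LongSp.spRep F) F := swap2 sp_swap

include ho in
theorem sl_swap3 : Swap (slRep F 3) F :=
  swap3 (slRep_model F 3).toW (SignalizersComponents.SLQuasisimple.two_ne_zero_of_odd ho)
    (SignalizersComponents.SLQuasisimple.two_ne_zero_of_odd ho)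

variable {q : ℕ} (hF : Fintype.card F = q ^ 2)

theorem su_swap1 : Swap (suRep hF 1 le_rfl) (KK hF) := swap1 (suRep_model hF 1 le_rfl).toW
theorem su_swap2 : Swap (suRep hF 2 (by norm_num)) (KK hF) :=
  swap2 (Model.swap (suRep_model hF 2 (by norm_num)))

include ho in
theorem su_swap3 : Swap (suRep hF 3 (by norm_num)) (KK hF) :=
  swap3 (suRep_model hF 3 (by norm_num)).toW
    (SignalizersComponents.SLQuasisimple.two_ne_zero_of_odd ho)
    (SignalizersComponents.SLQuasisimple.two_ne_zero_of_odd (odd_KK hF ho))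

end Instances

end Cfsg.Agent.Cit.LongConj
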