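import Cfsg.Agent.Cit.TwoB.BackMain
import Cfsg.Agent.Cit.TwoB.BackBigDK
import Cfsg.Agent.Cit.TwoB.FactA
import Cfsg.Agent.Cit.HexFactBMain
import Cfsg.Agent.Cit.LongLeafFive

/-!
# The branch `|Om(S)| = 2`, `z₁ ≠ z₂` of THEOREM T

From S1173, `IdentStmt` (as in the branch `|Om(S)| = 1`) and the odd order theorem.
-/

set_option autoImplicit false

namespace Cfsg.Agent.Cit.CoreTwoNeFull

open Cfsg Cfsg.Agent.Cit.CoreOne

universe u

theorem bigStmt (hodd : CoresG.OddStmt.{u}) : TwoB.BigStmt.{u} := by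
  intro G _ _ Om K hm h hni hL hOut hK hs hc0 hp F₀ _ _ p hJ hq heK
  obtain ⟨eK⟩ := heK
  exact TwoB.backBig hodd hm h hni hL hOut hK hs hc0 hp hJ hq eK

theorem backStmt (hodd : CoresG.OddStmt.{u}) : CoreTwoNe.BackStmt.{u} := TwoB.backStmt hodd (bigStmt hodd)

/-- **the branch `|Om(S)| = 2`, `z₁ ≠ z₂`** -/
theorem coreTwoNe_of (h1173 : S1173Stmt.{u}) (hI : IdentStmt.{u}) (hodd : CoresG.OddStmt.{u}) :
    Branches.CoreTwoNe.{u} :=
  CoreTwoNe.coreTwoNe h1173 hI CoreTwoNe.factA HexFactBMain.factB (backStmt hodd) LongLeafFive.fiveStmt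

end Cfsg.Agent.Cit.CoreTwoNeFull
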