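import Cfsg.Agent.Cit.HexMem
import Cfsg.Agent.Cit.HexFactB
import Cfsg.Agent.Cit.QuoCen
import Cfsg.Agent.Cit.TPieces

/-!
# Commuting members of a piece of type `G₂(q)`, `³D₄(q)` have the same involution

* `HexP Y` : one class of involutions; `C(w)` normalises the subnormal subgroups of `C(w)` of type `SL₂(q)`, `2.A₇` with
  involution `w`; holds for `G₂(q)`, `³D₄(q)`, `q` odd (`hexP_of_iso`);
* **`zz_eq`** : `D / Z(D)` of type `G₂(q)` or `³D₄(q)`, `K`, `J` commuting members in `D` ⟹ `zz K = zz J`.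
-/

set_option autoImplicit false
set_option linter.style.haveILetI false
set_option linter.unusedSectionVars false

namespace Cfsg.Agent.Cit.ExcZZ

open Subgroup Cfsg Cfsg.Agent.Cit Cfsg.Agent.Cit.HexBase
open Cfsg.Agent.Cit.TypeDet (cm)

universe u

/-- one class of involutions, and `C(w)` normalises the subnormal subgroups of type `SL₂(q)`, `2.A₇` with involution `w` -/
structure HexP (Y : Type*) [Group Y] : Prop where
  conj : ∀ s t : Y, s * s = 1 → s ≠ 1 → t * t = 1 → t ≠ 1 → ∃ g, g * s * g⁻¹ = t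
  nrm : ∀ (K : Subgroup Y) (w : Y), Mem Y K w → ∀ g, g * w = w * g → ∀ x ∈ K, g * x * g⁻¹ ∈ K

theorem HexP.of_equiv {Y Y' : Type*} [Group Y] [Group Y'] (e : Y ≃* Y') (h : HexP Y') : HexP Y where
  conj s t h1 h2 h3 h4 := by
    obtain ⟨g, hg⟩ := h.conj (e s) (e t) (by rw [← map_mul, h1, map_one]) (by simpa using h2)
      (by rw [← map_mul, h3, map_one]) (by simpa using h4)
    refine ⟨e.symm g, e.injective ?_⟩
    rw [map_mul, map_mul, map_inv, e.apply_symm_apply, hg]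
  nrm K w hM g hg x hx := by
    have h1 := h.nrm _ _ (hM.equiv e) (e g) (by rw [← map_mul, hg, map_mul]) (e x) ⟨x, hx, rfl⟩
    obtain ⟨y, hy, hyx⟩ := h1
    have h2 : y = g * x * g⁻¹ := e.injective (by rw [map_mul, map_mul, map_inv]; exact hyx)
    rwa [h2] at hy

theorem hexP {E : Type*} [Field E] {σ : E ≃+* E} {L : Type u} [Group L] (c : HexGrp σ L) [Finite E] [Finite L]
    (h2 : (2 : E) ≠ 0) : HexP L where
  conj s t h1 h3 h4 h5 := c.hone h2 s t h1 h3 h4 h5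
  nrm K w hM g hg x hx := by
    obtain ⟨a, ha, hK⟩ := c.exists_cj_eq h2 hM.sq hM.ne hM.ty hM.le hM.sub
    have hg' : a * g * a⁻¹ ∈ c.CZ := by
      rw [c.mem_CZ, ← ha]
      calc a * g * a⁻¹ * (a * w * a⁻¹) = a * (g * w) * a⁻¹ := by group
        _ = a * w * a⁻¹ * (a * g * a⁻¹) := by rw [hg]; group
    have hn : a * g * a⁻¹ ∈ normalizer (cj a K : Set L) := by
      rcases hK with e | e
      · rw [e]; exact c.CZ_le_normalizer_K1 h2 hg'
      · rw [e]; exact c.CZ_le_normalizer_K4 h2 hg'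
    have hx' : a * x * a⁻¹ ∈ cj a K := ⟨x, hx, rfl⟩
    have h3 := (mem_normalizer_iff.1 hn _).1 hx'
    obtain ⟨y, hy, hyx⟩ := h3
    have h4 : y = g * x * g⁻¹ := by
      have h5 : a * y * a⁻¹ = a * g * a⁻¹ * (a * x * a⁻¹) * (a * g * a⁻¹)⁻¹ := hyx
      calc y = a⁻¹ * (a * y * a⁻¹) * a := by group
        _ = _ := by rw [h5]; group
    rwa [h4] at hy

theorem hexP_of_iso {X : Type u} [Group X] [Finite X] {p : ℕ} (hp : p.Prime) (hp2 : p ≠ 2) (h : IsG2D4 p X) :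
    HexP X := by
  obtain ⟨F, i1, i2, i3, h⟩ := h
  have h2 : (2 : F) ≠ 0 := two_ne_of_char hp hp2
  rcases h with ⟨⟨e⟩⟩ | ⟨q, hq, hc, ⟨e⟩⟩
  · haveI : Finite ↥(Lie.chevG2.group F) := Finite.of_equiv _ e.toEquiv
    exact HexP.of_equiv e (hexP (HexG2.g2 F h2) h2)
  · haveI : Finite ↥(Lie.twistedD4 F q) := Finite.of_equiv _ e.toEquiv
    obtain ⟨σ, -, ⟨c⟩⟩ := HexD4.exists_d4 hc
    exact HexP.of_equiv e (hexP c h2)

variable {X : Type u} [Group X] [Finite X] {F : Set (Subgroup X)}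

theorem exists_vw (h : Hyp F) {K : Subgroup X} (hK : K ∈ F) :
    ∃ v ∈ K, ∃ w ∈ K, v * v = zz K ∧ w * v * w⁻¹ = v⁻¹ := by
  obtain ⟨Q, hQ⟩ := Hyp.exists_syl K
  obtain ⟨c, v, n, q⟩ := h.exists_gq hK hQ
  refine ⟨c ^ 2 ^ n, hQ.1 (Q.pow_mem q.c_mem _), v, hQ.1 q.v_mem, ?_, ?_⟩
  · rw [← pow_add, ← two_mul, ← pow_succ', q.z_eq]
  · rw [← conj_pow, q.conj, inv_pow]

/-- the involution of a member contained properly in a quasisimple group is not central -/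
theorem zz_notMem (h : Hyp F) {D K : Subgroup X} (hD : IsQuasisimple D) (hK : K ∈ F) (hKD : K ≤ D)
    (hDO : D ∉ F) : ¬ ∀ d ∈ D, d * zz K = zz K * d := by
  intro hc
  have h1 : D ≤ centralizer {zz K} := fun y hy => mem_centralizer_singleton_iff.2 (hc y hy)
  have h2 : (K.subgroupOf D).IsSubnormal := (h.sub K hK).comap (inclusion h1)
  rcases Lib.ComponentSolvable.quasisimple_subnormal_cases hD h2 with h3 | h3
  · apply hDO
    rw [← le_antisymm hKD (subgroupOf_eq_top.1 h3)]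
    exact hK
  · refine h.not_le_centralizer_self hK fun x hx y hy => ?_
    have h4 := h3 (show (⟨x, hKD hx⟩ : D) ∈ K.subgroupOf D from hx)
    exact congrArg Subtype.val (mem_center_iff.1 h4 ⟨y, hKD hy⟩)

/-- **commuting members of a piece of type `G₂(q)`, `³D₄(q)` have the same involution** -/
theorem zz_eq (h : Hyp F) {D : Subgroup X} (hDF : D ∉ F) (qs : IsQuasisimple D) (two : IsPGroup 2 (center D))
    (hp : HexP (↥D ⧸ center D)) {K J : Subgroup X} (hK : K ∈ F) (ty : IsType K) (hJ : J ∈ F) (hKD : K ≤ D)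
    (hJD : J ≤ D) (hc : cm K J) (zzc : ∀ d ∈ D, zz K * zz J * d = d * (zz K * zz J)) : zz K = zz J := by
  haveI : Fact (Nat.Prime 2) := ⟨Nat.prime_two⟩
  have hr := h.restr D
  obtain ⟨f, hf⟩ : ∃ f : ↥D →* ↥D ⧸ center D, f = QuotientGroup.mk' (center D) := ⟨_, rfl⟩
  have hfs : Function.Surjective f := by rw [hf]; exact QuotientGroup.mk'_surjective _
  have hker : f.ker = center D := by rw [hf]; exact QuotientGroup.ker_mk' _
  haveI : Finite (↥D ⧸ center D) := Finite.of_surjective f hfs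
  have hcen : ∀ {x : D}, f x = 1 ↔ ∀ d ∈ D, d * (x : X) = x * d := by
    intro x
    rw [← MonoidHom.mem_ker, hker, mem_center_iff]
    exact ⟨fun h d hd => congrArg Subtype.val (h ⟨d, hd⟩), fun h d => Subtype.ext (h d d.2)⟩
  -- the involutions
  have kK : zz K ∈ K := h.zz_mem hK
  have jJ : zz J ∈ J := h.zz_mem hJ
  have kD : zz K ∈ D := hKD kK
  have jD : zz J ∈ D := hJD jJ
  have kk : zz K * zz K = 1 := h.zz_mul hK
  have jj : zz J * zz J = 1 := h.zz_mul hJ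
  have kj : zz K * zz J = zz J * zz K := hc _ kK _ jJ
  have kne : zz K ≠ 1 := h.zz_ne hK
  obtain ⟨v, hv, w, hw, hvv, hwv⟩ := exists_vw h hK
  obtain ⟨v', hv', w', hw', hvv', hwv'⟩ := exists_vw h hJ
  have vv' : v * v' = v' * v := hc v hv v' hv'
  have wv' : w * v' = v' * w := hc w hw v' hv'
  have vw' : v * w' = w' * v := hc v hv w' hw'
  have vinv : v⁻¹ = zz K * v := by
    rw [inv_eq_iff_mul_eq_one, ← hvv, ← mul_assoc, ← mul_assoc, mul_assoc (v * v), hvv, kk]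
  have vinv' : v'⁻¹ = zz J * v' := by
    rw [inv_eq_iff_mul_eq_one, ← hvv', ← mul_assoc, ← mul_assoc, mul_assoc (v' * v'), hvv', jj]
  -- `x = v v'`
  have xD : v * v' ∈ D := mul_mem (hKD hv) (hJD hv')
  have xx : v * v' * (v * v') = zz K * zz J := by
    rw [← hvv, ← hvv']
    calc v * v' * (v * v') = v * (v' * v) * v' := by group
      _ = v * (v * v') * v' := by rw [vv']
      _ = _ := by group
  have wx : w * (v * v') * w⁻¹ = zz K * (v * v') := by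
    calc w * (v * v') * w⁻¹ = w * v * (v' * w⁻¹) := by group
      _ = w * v * (w⁻¹ * v') := by
          rw [show v' * w⁻¹ = w⁻¹ * v' from by rw [eq_inv_mul_iff_mul_eq, ← mul_assoc, wv', mul_inv_cancel_right]]
      _ = (w * v * w⁻¹) * v' := by group
      _ = _ := by rw [hwv, vinv, mul_assoc]
  have kv : zz K * v = v * zz K := by rw [← hvv, mul_assoc]
  have jv : zz J * v = v * zz J := (hc v hv _ jJ).symm
  have wx' : w' * (v * v') * w'⁻¹ = zz J * (v * v') := by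
    calc w' * (v * v') * w'⁻¹ = (w' * v) * v' * w'⁻¹ := by group
      _ = v * (w' * v' * w'⁻¹) := by rw [← vw']; group
      _ = v * zz J * v' := by rw [hwv', vinv', mul_assoc]
      _ = _ := by rw [← jv, mul_assoc]
  -- `f x` is an involution
  have hfx2 : f ⟨v * v', xD⟩ * f ⟨v * v', xD⟩ = 1 := by
    rw [← map_mul, hcen]
    intro d hd
    change d * (v * v' * (v * v')) = v * v' * (v * v') * d
    rw [xx, zzc d hd]
  have hfx1 : f ⟨v * v', xD⟩ ≠ 1 := by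
    intro h1
    have h2 := hcen.1 h1 w (hKD hw)
    change w * (v * v') = v * v' * w at h2
    rw [h2, mul_inv_cancel_right] at wx
    exact kne (mul_eq_right.1 wx.symm)
  have hfk2 : f ⟨zz K, kD⟩ * f ⟨zz K, kD⟩ = 1 := by
    rw [← map_mul, ← map_one f]
    exact congrArg f (Subtype.ext kk)
  have hfk1 : f ⟨zz K, kD⟩ ≠ 1 := fun h1 => zz_notMem h qs hK hKD hDF (hcen.1 h1)
  obtain ⟨g', hg'⟩ := hp.conj _ _ hfk2 hfk1 hfx2 hfx1
  obtain ⟨⟨g, hgD⟩, rfl⟩ := hfs g'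
  -- `s = x c`
  have hs : f (⟨g, hgD⟩ * ⟨zz K, kD⟩ * ⟨g, hgD⟩⁻¹ * ⟨v * v', xD⟩⁻¹) = 1 := by
    rw [map_mul, map_mul, map_mul, map_inv, map_inv, hg', mul_inv_cancel]
  have hs' := hcen.1 hs
  obtain ⟨c, hcdef⟩ : ∃ c : X, c = g * zz K * g⁻¹ * (v * v')⁻¹ := ⟨_, rfl⟩
  have hcc : ∀ d ∈ D, d * c = c * d := by
    intro d hd
    rw [hcdef]
    exact hs' d hd
  have hgk : g * zz K * g⁻¹ = c * (v * v') := by rw [hcdef, inv_mul_cancel_right]
  -- the conjugates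
  have e1 : (w * g) * zz K * (w * g)⁻¹ = zz K * (c * (v * v')) := by
    calc (w * g) * zz K * (w * g)⁻¹ = w * (g * zz K * g⁻¹) * w⁻¹ := by group
      _ = (w * c) * (v * v') * w⁻¹ := by rw [hgk]; group
      _ = c * (w * (v * v') * w⁻¹) := by rw [hcc w (hKD hw)]; group
      _ = (c * zz K) * (v * v') := by rw [wx]; group
      _ = _ := by rw [← hcc _ kD]; group
  have e2 : (w' * g) * zz K * (w' * g)⁻¹ = zz J * (c * (v * v')) := by
    calc (w' * g) * zz K * (w' * g)⁻¹ = w' * (g * zz K * g⁻¹) * w'⁻¹ := by group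
      _ = (w' * c) * (v * v') * w'⁻¹ := by rw [hgk]; group
      _ = c * (w' * (v * v') * w'⁻¹) := by rw [hcc w' (hJD hw')]; group
      _ = (c * zz J) * (v * v') := by rw [wx']; group
      _ = _ := by rw [← hcc _ jD]; group
  obtain ⟨d, hd⟩ : ∃ d : X, d = (w * g)⁻¹ * (w' * g) := ⟨_, rfl⟩
  have hdD : d ∈ D := by
    rw [hd]
    exact mul_mem (inv_mem (mul_mem (hKD hw) hgD)) (mul_mem (hJD hw') hgD)
  have hwgD : w * g ∈ D := mul_mem (hKD hw) hgD
  have hdk : d * zz K * d⁻¹ = zz J := by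
    have e3 : zz J * (c * (v * v')) = zz K * zz J * (zz K * (c * (v * v'))) := by
      calc zz J * (c * (v * v')) = zz J * (zz K * zz K) * (c * (v * v')) := by rw [kk, mul_one]
        _ = (zz J * zz K) * (zz K * (c * (v * v'))) := by group
        _ = _ := by rw [← kj]
    calc d * zz K * d⁻¹ = (w * g)⁻¹ * ((w' * g) * zz K * (w' * g)⁻¹) * (w * g) := by rw [hd]; group
      _ = (w * g)⁻¹ * (zz K * zz J * ((w * g) * zz K * (w * g)⁻¹)) * (w * g) := by rw [e2, e3, e1]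
      _ = ((w * g)⁻¹ * (zz K * zz J)) * ((w * g) * zz K * (w * g)⁻¹) * (w * g) := by group
      _ = (zz K * zz J * (w * g)⁻¹) * ((w * g) * zz K * (w * g)⁻¹) * (w * g) := by rw [zzc _ (inv_mem hwgD)]
      _ = zz K * zz J * zz K := by group
      _ = zz J * (zz K * zz K) := by rw [kj]; group
      _ = zz J := by rw [kk, mul_one]
  -- `f d` normalises the image of `K`
  have hKr : K.subgroupOf D ∈ restr F D := subgroupOf_mem_restr hK hKD
  have hinf : ∀ A ∈ restr F D, A ⊓ f.ker = ⊥ := by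
    intro A hA
    rw [hker, eq_bot_iff]
    rintro x ⟨hxA, hxc⟩
    rw [mem_bot]
    by_contra hx1
    obtain ⟨k, hk⟩ := two ⟨x, hxc⟩
    have hk' : x ^ 2 ^ k = 1 := congrArg Subtype.val hk
    obtain ⟨m, hm1, hm2⟩ := (Nat.dvd_prime_pow Nat.prime_two).1 (orderOf_dvd_of_pow_eq_one hk')
    have hm0 : m ≠ 0 := by
      rintro rfl
      rw [pow_zero, orderOf_eq_one_iff] at hm2
      exact hx1 hm2
    obtain ⟨j, rfl⟩ := Nat.exists_eq_succ_of_ne_zero hm0
    have h1 : orderOf (x ^ 2 ^ j) = 2 := by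
      rw [orderOf_pow_of_dvd (by positivity) (by rw [hm2]; exact Nat.pow_dvd_pow 2 (Nat.le_succ j)), hm2,
        Nat.pow_div (Nat.le_succ j) (by norm_num)]
      simp
    have h2 : zz A ∈ center D := by
      rw [← hr.uniq A hA _ (A.pow_mem hxA _) h1]
      exact (center D).pow_mem hxc _
    have h3 : A.map D.subtype ∈ F := mem_restr.1 hA
    refine zz_notMem h qs h3 (map_subtype_le A) hDF fun d hd => ?_
    rw [← zz_map h hA]
    exact congrArg Subtype.val (mem_center_iff.1 h2 ⟨d, hd⟩)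
  have hi := QuoCen.hyp_img_central hr hfs (by rw [hker]) hinf
  have hm : (K.subgroupOf D).map f ∈ img f (restr F D) := ⟨_, hKr, rfl⟩
  have hzz : zz ((K.subgroupOf D).map f) = f ⟨zz K, kD⟩ := by
    rw [QuoCen.zz_map_of_inf hr hKr (hinf _ hKr)]
    congr 1
    apply Subtype.ext
    rw [zz_map h hKr, map_subgroupOf_eq_of_le hKD]
  have hty : IsType ((K.subgroupOf D).map f) :=
    TyTrans.isType_of_quot (TyTrans.quotMapInf (hinf _ hKr))
      (TyTrans.isType_of_quot (TyTrans.quotSubgroupOf hKD).symm ty)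
  have hM : Mem (↥D ⧸ center D) ((K.subgroupOf D).map f) (f ⟨zz K, kD⟩) := by
    rw [← hzz]
    refine ⟨hi.zz_mem hm, hi.zz_mul hm, hi.zz_ne hm, hi.le_centralizer hm, hi.sub _ hm, hty⟩
  have hfd : f ⟨d, hdD⟩ * f ⟨zz K, kD⟩ = f ⟨zz K, kD⟩ * f ⟨d, hdD⟩ := by
    have h1 : f ⟨zz K, kD⟩ * f ⟨zz J, jD⟩ = 1 := by
      rw [← map_mul, hcen]
      intro y hy
      exact (zzc y hy).symm
    have h2 : f ⟨zz J, jD⟩ = f ⟨zz K, kD⟩ := mul_left_cancel (h1.trans hfk2.symm)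
    have h3 : f ⟨d, hdD⟩ * f ⟨zz K, kD⟩ * (f ⟨d, hdD⟩)⁻¹ = f ⟨zz J, jD⟩ := by
      rw [← map_inv, ← map_mul, ← map_mul]
      exact congrArg f (Subtype.ext hdk)
    rw [h2, mul_inv_eq_iff_eq_mul] at h3
    exact h3
  have key : ∀ y ∈ K, ∃ y₁ ∈ K, ∃ a, (∀ b ∈ D, b * a = a * b) ∧ d * y * d⁻¹ = y₁ * a := by
    intro y hy
    have h1 := hp.nrm _ _ hM _ hfd (f ⟨y, hKD hy⟩) ⟨⟨y, hKD hy⟩, hy, rfl⟩
    obtain ⟨y₁, hy₁, he⟩ := h1
    have h2 : f (y₁⁻¹ * (⟨d, hdD⟩ * ⟨y, hKD hy⟩ * ⟨d, hdD⟩⁻¹)) = 1 := by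
      rw [map_mul, map_mul, map_mul, map_inv, map_inv, ← he, inv_mul_cancel]
    refine ⟨y₁, hy₁, _, hcen.1 h2, ?_⟩
    change d * y * d⁻¹ = (y₁ : X) * ((y₁ : X)⁻¹ * (d * y * d⁻¹))
    rw [mul_inv_cancel_left]
  obtain ⟨v₁, hv₁, a, ha, hva⟩ := key v hv
  obtain ⟨w₁, hw₁, b, hb, hwb⟩ := key w hw
  have hcomm : w * v * w⁻¹ * v⁻¹ = zz K := by
    rw [hwv, ← mul_inv_rev, hvv, h.zz_inv hK]
  have hjK : zz J ∈ K := by
    have h1 : zz J = w₁ * v₁ * w₁⁻¹ * v₁⁻¹ := by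
      have aD : ∀ b ∈ D, b * a⁻¹ = a⁻¹ * b := fun b hb => by
        rw [eq_inv_mul_iff_mul_eq, ← mul_assoc, ← ha b hb, mul_inv_cancel_right]
      have bD : ∀ y ∈ D, y * b⁻¹ = b⁻¹ * y := fun y hy => by
        rw [eq_inv_mul_iff_mul_eq, ← mul_assoc, ← hb y hy, mul_inv_cancel_right]
      have w₁D := hKD hw₁
      have v₁D := hKD hv₁
      calc zz J = d * (w * v * w⁻¹ * v⁻¹) * d⁻¹ := by rw [hcomm, hdk]
        _ = (d * w * d⁻¹) * (d * v * d⁻¹) * (d * w * d⁻¹)⁻¹ * (d * v * d⁻¹)⁻¹ := by group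
        _ = (w₁ * b) * (v₁ * a) * (w₁ * b)⁻¹ * (v₁ * a)⁻¹ := by rw [hva, hwb]
        _ = w₁ * (b * v₁) * (a * b⁻¹) * (w₁⁻¹ * a⁻¹) * v₁⁻¹ := by group
        _ = w₁ * (v₁ * b) * (a * b⁻¹) * (a⁻¹ * w₁⁻¹) * v₁⁻¹ := by
            rw [hb v₁ v₁D, aD _ (inv_mem w₁D)]
        _ = w₁ * v₁ * (b * a * b⁻¹ * a⁻¹) * w₁⁻¹ * v₁⁻¹ := by group
        _ = w₁ * v₁ * w₁⁻¹ * v₁⁻¹ := by
            have h5 : b * a * b⁻¹ * a⁻¹ = 1 := by
              have hb' : b ∈ D := by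
                have : b = w₁⁻¹ * (d * w * d⁻¹) := by rw [hwb, inv_mul_cancel_left]
                rw [this]
                exact mul_mem (inv_mem w₁D) (mul_mem (mul_mem hdD (hKD hw)) (inv_mem hdD))
              rw [ha b hb', mul_inv_cancel_right, mul_inv_cancel]
            rw [h5, mul_one]
    rw [h1]
    exact mul_mem (mul_mem (mul_mem hw₁ hv₁) (inv_mem hw₁)) (inv_mem hv₁)
  exact (h.uniq K hK _ hjK (h.orderOf_zz hJ)).symm

end Cfsg.Agent.Cit.ExcZZ
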