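import Mathlib

/-!
# Type `B 3` in the case `|Ω(S)| = 3`: the linear algebra

`B : V →* V →* A` a symmetric form, `X₁`, `X₂`, `X₃ ≤ V` (images of the root groups `ε₂ - ε₃`, `ε₂`, `ε₂ + ε₃`), an
isometry `α` with `α² = -1` and isometries `ξ` (an element of the root group `-ε₃`), `ν` (reflection in `ε₃`).
Then `False`.
-/

set_option autoImplicit false

namespace Cfsg.Agent.Cit.ThreeLin

variable {V A : Type*} [Group V] [CommGroup A] {B : V →* V →* A}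

/-- an isometry -/
def Iso (B : V →* V →* A) (α : MulAut V) : Prop := ∀ v w, B (α v) (α w) = B v w

theorem Iso.mul {α β : MulAut V} (ha : Iso B α) (hb : Iso B β) : Iso B (α * β) := fun v w => by
  rw [MulAut.mul_apply, MulAut.mul_apply, ha, hb]

theorem Iso.inv {α : MulAut V} (ha : Iso B α) : Iso B α⁻¹ := fun v w => by
  rw [← ha (α⁻¹ v) (α⁻¹ w), MulAut.apply_inv_self, MulAut.apply_inv_self]

theorem Iso.left {α : MulAut V} (ha : Iso B α) (v w : V) : B (α v) w = B v (α⁻¹ w) := by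
  rw [← ha v (α⁻¹ w), MulAut.apply_inv_self]

theorem Iso.congr {α : MulAut V} (ha : Iso B α) {v w : V} (h : B v = B w) : B (α v) = B (α w) := by
  ext x
  rw [ha.left, ha.left, h]

/-- the data -/
structure Dat (B : V →* V →* A) (X₁ X₂ X₃ : Subgroup V) : Prop where
  odd : ∀ a : A, a * a = 1 → a = 1
  sym : ∀ v w, B v w = B w v
  dec : ∀ v, ∃ x₁ ∈ X₁, ∃ x₂ ∈ X₂, ∃ x₃ ∈ X₃, B v = B x₁ * B x₂ * B x₃
  h11 : ∀ x ∈ X₁, ∀ y ∈ X₁, B x y = 1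
  h33 : ∀ x ∈ X₃, ∀ y ∈ X₃, B x y = 1
  h12 : ∀ x ∈ X₁, ∀ y ∈ X₂, B x y = 1
  h32 : ∀ x ∈ X₃, ∀ y ∈ X₂, B x y = 1
  h13 : ∀ x ∈ X₁, ∀ y ∈ X₃, B x y = 1 → x = 1 ∨ y = 1
  h22 : ∀ x ∈ X₂, B x x = 1 → x = 1

variable {X₁ X₂ X₃ : Subgroup V}

theorem Dat.h21 (D : Dat B X₁ X₂ X₃) {x y : V} (hx : x ∈ X₂) (hy : y ∈ X₁) : B x y = 1 := by
  rw [D.sym, D.h12 y hy x hx]

theorem Dat.h23 (D : Dat B X₁ X₂ X₃) {x y : V} (hx : x ∈ X₂) (hy : y ∈ X₃) : B x y = 1 := by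
  rw [D.sym, D.h32 y hy x hx]

theorem Dat.h31 (D : Dat B X₁ X₂ X₃) {x y : V} (hx : x ∈ X₃) (hy : y ∈ X₁) (h : B x y = 1) : x = 1 ∨ y = 1 := by
  rw [D.sym] at h
  exact (D.h13 y hy x hx h).symm

/-- `B(v^α, v) = 1` -/
theorem Dat.alt (D : Dat B X₁ X₂ X₃) {α : MulAut V} (ha : Iso B α) (h2 : ∀ v, B (α (α v)) = (B v)⁻¹) (v : V) :
    B (α v) v = 1 := by
  apply D.odd
  have h1 : B (α v) v = (B (α v) v)⁻¹ := by
    conv_lhs => rw [← ha (α v) v, h2, MonoidHom.inv_apply, D.sym]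
  nth_rewrite 1 [h1]
  exact inv_mul_cancel _

/-- **Step A** -/
theorem Dat.stepA (D : Dat B X₁ X₂ X₃) {α : MulAut V} (ha : Iso B α) (h2 : ∀ v, B (α (α v)) = (B v)⁻¹) {c : V}
    (hc : c ∈ X₃) : ∃ c' ∈ X₃, B (α c) = B c' := by
  by_cases hc1 : c = 1
  · subst hc1
    exact ⟨1, one_mem _, by rw [map_one]⟩
  obtain ⟨x₁, h₁, x₂, h₂, x₃, h₃, e⟩ := D.dec (α c)
  have e' : ∀ w, B (α c) w = B x₁ w * B x₂ w * B x₃ w := fun w => by rw [e]; rfl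
  have h4 : x₁ = 1 := by
    have h5 := D.alt ha h2 c
    rw [e', D.h23 h₂ hc, D.h33 _ h₃ _ hc, mul_one, mul_one] at h5
    exact (D.h13 _ h₁ _ hc h5).resolve_right hc1
  subst h4
  have h5 : B (α c) (α c) = 1 := by rw [ha, D.h33 _ hc _ hc]
  have h6 : B (α c) x₂ = B x₂ x₂ := by
    rw [e', map_one, MonoidHom.one_apply, D.h32 _ h₃ _ h₂, one_mul, mul_one]
  have h7 : B (α c) x₃ = 1 := by
    rw [e', map_one, MonoidHom.one_apply, D.h23 h₂ h₃, D.h33 _ h₃ _ h₃, one_mul, mul_one]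
  have h8 : B x₂ x₂ = 1 := by
    rw [e', map_one, MonoidHom.one_apply, one_mul, D.sym x₂, D.sym x₃, h6, h7, mul_one] at h5
    exact h5
  refine ⟨x₃, h₃, ?_⟩
  rw [e, D.h22 _ h₂ h8, map_one, one_mul, one_mul]

/-- elements of `X₃` are determined by their values on `X₁` -/
theorem Dat.eq_of_X₁ (D : Dat B X₁ X₂ X₃) {d : V} (hd : d ∈ X₁) (hd1 : d ≠ 1) {c c' : V} (hc : c ∈ X₃)
    (hc' : c' ∈ X₃) (h : B c d = B c' d) : c = c' := by
  have h1 : B (c * c'⁻¹) d = 1 := by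
    rw [map_mul, map_inv, MonoidHom.mul_apply, MonoidHom.inv_apply, h, mul_inv_cancel]
  exact mul_inv_eq_one.1 ((D.h31 (mul_mem hc (inv_mem hc')) hd h1).resolve_right hd1)

theorem conj2 {α β : MulAut V} (hb : Iso B β) (h2 : ∀ v, B (α (α v)) = (B v)⁻¹) (v : V) :
    B ((β⁻¹ * α * β) ((β⁻¹ * α * β) v)) = (B v)⁻¹ := by
  have e1 : (β⁻¹ * α * β) ((β⁻¹ * α * β) v) = β⁻¹ (α (α (β v))) := by
    simp only [MulAut.mul_apply, MulAut.apply_inv_self]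
  have e2 : B (α (α (β v))) = B (β v)⁻¹ := by rw [h2, map_inv]
  have e3 := hb.inv.congr e2
  rw [e1, e3, map_inv, MulAut.inv_apply_self, map_inv]

/-- **The contradiction.** -/
theorem false_of (D : Dat B X₁ X₂ X₃) {α ξ ν : MulAut V} (ha : Iso B α) (hx : Iso B ξ) (hn : Iso B ν)
    (h2 : ∀ v, B (α (α v)) = (B v)⁻¹) (hν : ∀ x ∈ X₃, ν x ∈ X₁) (hν' : ∀ x ∈ X₁, ∃ y ∈ X₃, x = ν y)
    (m d : V → V) (hm : ∀ c ∈ X₃, m c ∈ X₂) (hd : ∀ c ∈ X₃, d c ∈ X₁)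
    (h3 : ∀ c ∈ X₃, B (ξ c) = B c * B (m c) * B (d c))
    (h4 : ∀ c ∈ X₃, B (ξ⁻¹ c) = B c * (B (m c))⁻¹ * B (d c)) (hd1 : ∀ c ∈ X₃, d c = 1 → c = 1)
    {c : V} (hc : c ∈ X₃) (hc1 : c ≠ 1) : False := by
  -- `α` normalises `X₃`, `X₁` and `ξ X₃` modulo the radical
  obtain ⟨c₁, hc₁, e1⟩ := D.stepA ha h2 hc
  have hX1 : ∀ x ∈ X₁, ∃ y ∈ X₁, B (α x) = B y := by
    intro x hx1
    obtain ⟨y, hy, rfl⟩ := hν' x hx1
    obtain ⟨y', hy', e⟩ := D.stepA ((hn.inv.mul ha).mul hn) (conj2 hn h2) hy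
    refine ⟨ν y', hν _ hy', ?_⟩
    have e' := hn.congr e
    simpa only [MulAut.mul_apply, MulAut.apply_inv_self] using e'
  obtain ⟨c', hc', e2⟩ := D.stepA ((hx.inv.mul ha).mul hx) (conj2 hx h2) hc
  have e3 : B (α (ξ c)) = B (ξ c') := by
    have e' := hx.congr e2
    simpa only [MulAut.mul_apply, MulAut.apply_inv_self] using e'
  -- compare
  have hB : ∀ w, B (α (ξ c)) w = B (α c) w * B (α (m c)) w * B (α (d c)) w := by
    intro w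
    rw [ha.left, h3 c hc, MonoidHom.mul_apply, MonoidHom.mul_apply, ← ha.left, ← ha.left, ← ha.left]
  have hneg : ∀ v w, B (α v) w = (B v (α w))⁻¹ := by
    intro v w
    rw [← ha (α v) w, h2, MonoidHom.inv_apply]
  obtain ⟨d', hd', e4⟩ := hX1 (d c) (hd c hc)
  have hd0 : d c ≠ 1 := fun h => hc1 (hd1 c hc h)
  -- pairing with `X₁`
  have e5 : c₁ = c' := by
    refine D.eq_of_X₁ (hd c hc) hd0 hc₁ hc' ?_
    have h5 : B (α (m c)) (d c) = 1 := by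
      rw [hneg, D.sym, e4, D.h12 _ hd' _ (hm c hc), inv_one]
    have h6 := hB (d c)
    rw [e3, h3 c' hc', MonoidHom.mul_apply, MonoidHom.mul_apply, D.h21 (hm c' hc') (hd c hc),
      D.h11 _ (hd c' hc') _ (hd c hc), mul_one, mul_one, h5, e4, D.h11 _ hd' _ (hd c hc), mul_one, mul_one, e1] at h6
    exact h6.symm
  subst e5
  -- pairing with `X₃`
  have e6 : B (α (d c)) c = B (d c₁) c := by
    have h5 : B (α (m c)) c = 1 := by
      rw [hneg, D.sym, e1, D.h32 _ hc₁ _ (hm c hc), inv_one]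
    have h6 := hB c
    rw [e3, h3 c₁ hc', MonoidHom.mul_apply, MonoidHom.mul_apply, D.h33 _ hc₁ _ hc,
      D.h23 (hm c₁ hc') hc, h5, e1, D.h33 _ hc₁ _ hc, one_mul, one_mul, one_mul] at h6
    exact h6.symm
  -- `T` is symmetric
  have hT : B (d c₁) c = B c₁ (d c) := by
    have h5 : B (ξ c₁) c = B (d c₁) c := by
      rw [h3 _ hc', MonoidHom.mul_apply, MonoidHom.mul_apply, D.h33 _ hc₁ _ hc, D.h23 (hm c₁ hc') hc, one_mul,
        one_mul]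
    have h6 : B (ξ c₁) c = B c₁ (d c) := by
      rw [hx.left, D.sym, h4 c hc, MonoidHom.mul_apply, MonoidHom.mul_apply, MonoidHom.inv_apply,
        D.h33 _ hc _ hc₁, D.h23 (hm c hc) hc₁, inv_one, one_mul, one_mul, D.sym]
    rw [← h5, h6]
  have e7 : B c₁ (d c) = 1 := by
    apply D.odd
    have h5 : B c₁ (d c) = (B c₁ (d c))⁻¹ := by
      conv_lhs => rw [← e1, hneg, D.sym, e6, hT]
    nth_rewrite 1 [h5]
    exact inv_mul_cancel _
  rcases D.h31 hc₁ (hd c hc) e7 with h5 | h5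
  · subst h5
    have h6 : B c (d c) = 1 := by
      rw [← ha c (d c), e1, map_one, MonoidHom.one_apply]
    rcases D.h31 hc (hd c hc) h6 with h7 | h7
    · exact hc1 h7
    · exact hd0 h7
  · exact hd0 h5

end Cfsg.Agent.Cit.ThreeLin
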