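import Mathlib
import Cfsg.Agent.Cit.ThreeLin

/-!
# The form of a quadratic automorphism of a group of class two

`cM hV : V →* V →* Z(V)` : the commutator map; `bM hV φ v w = [φ(v) v⁻¹, w]`.
-/

set_option autoImplicit false

namespace Cfsg.Agent.Cit.ThreeAbs

open scoped commutatorElement IsMulCommutative

variable {V : Type*} [Group V]

/-- the commutator map of a group of class two -/
def cM (hV : ∀ a b : V, ⁅a, b⁆ ∈ Subgroup.center V) : V →* V →* Subgroup.center V where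
  toFun v :=
    { toFun := fun w => ⟨⁅v, w⁆, hV v w⟩
      map_one' := Subtype.ext (commutatorElement_one_right v)
      map_mul' := fun w w' => Subtype.ext (by
        have h1 : ∀ x : V, x * ⁅v, w'⁆ = ⁅v, w'⁆ * x := fun x => (Subgroup.mem_center_iff.1 (hV v w') x)
        calc ⁅v, w * w'⁆ = ⁅v, w⁆ * (w * ⁅v, w'⁆ * w⁻¹) := by
              simp only [commutatorElement_def]; group
          _ = ⁅v, w⁆ * ⁅v, w'⁆ := by rw [h1 w, mul_inv_cancel_right]) }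
  map_one' := by
    ext w
    exact commutatorElement_one_left w
  map_mul' v v' := by
    ext w
    change ⁅v * v', w⁆ = ⁅v, w⁆ * ⁅v', w⁆
    have h1 : ∀ x : V, x * ⁅v', w⁆ = ⁅v', w⁆ * x := fun x => (Subgroup.mem_center_iff.1 (hV v' w) x)
    calc ⁅v * v', w⁆ = (v * ⁅v', w⁆ * v⁻¹) * ⁅v, w⁆ := by
          simp only [commutatorElement_def]; group
      _ = ⁅v, w⁆ * ⁅v', w⁆ := by rw [h1 v, mul_inv_cancel_right, ← h1]

variable (hV : ∀ a b : V, ⁅a, b⁆ ∈ Subgroup.center V)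

theorem cM_val (v w : V) : ((cM hV v w : Subgroup.center V) : V) = ⁅v, w⁆ := rfl

theorem cM_eq_one {v w : V} : cM hV v w = 1 ↔ v * w = w * v := by
  rw [← commutatorElement_eq_one_iff_mul_comm, Subtype.ext_iff]
  rfl

theorem cM_symm (v w : V) : cM hV v w = (cM hV w v)⁻¹ := by
  apply Subtype.ext
  rw [cM_val, Subgroup.coe_inv, cM_val, commutatorElement_inv]

theorem cM_self (v : V) : cM hV v v = 1 := (cM_eq_one hV).2 rfl

theorem cM_map {κ : MulAut V} (hκ : ∀ a b : V, κ ⁅a, b⁆ = ⁅a, b⁆) (v w : V) : cM hV (κ v) (κ w) = cM hV v w := by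
  apply Subtype.ext
  rw [cM_val, cM_val, ← map_commutatorElement, hκ]

/-- the form -/
def bM (φ : MulAut V) : V →* V →* Subgroup.center V := (cM hV).comp φ.toMonoidHom / cM hV

theorem bM_div (φ : MulAut V) (v w : V) : bM hV φ v w = cM hV (φ v) w / cM hV v w := rfl

theorem bM_apply (φ : MulAut V) (v w : V) : bM hV φ v w = cM hV (φ v * v⁻¹) w := by
  rw [map_mul, map_inv, MonoidHom.mul_apply, MonoidHom.inv_apply, bM_div, div_eq_mul_inv]

/-- commuting automorphisms which centralise the commutators are isometries -/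
theorem iso_of {φ κ : MulAut V} (hκ : ∀ a b : V, κ ⁅a, b⁆ = ⁅a, b⁆) (hc : ∀ v, κ (φ v) = φ (κ v)) :
    ThreeLin.Iso (bM hV φ) κ := by
  intro v w
  rw [bM_apply, bM_apply, ← hc, ← map_inv, ← map_mul, cM_map hV hκ]

/-- `φ(δ v) = δ v` -/
def quad (φ : MulAut V) (hφ : ∀ a b : V, φ ⁅a, b⁆ = ⁅a, b⁆) : Subgroup V where
  carrier := {v | φ (φ v * v⁻¹) = φ v * v⁻¹}
  one_mem' := by simp
  mul_mem' {v w} hv hw := by
    change φ (φ (v * w) * (v * w)⁻¹) = φ (v * w) * (v * w)⁻¹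
    have e : φ (v * w) * (v * w)⁻¹ = (φ v * v⁻¹) * (⁅v, φ w * w⁻¹⁆ * (φ w * w⁻¹)) := by
      rw [map_mul, commutatorElement_def]; group
    rw [e, map_mul, map_mul φ ⁅v, _⁆, hv, hw, hφ]
  inv_mem' {v} hv := by
    change φ (φ v⁻¹ * v⁻¹⁻¹) = φ v⁻¹ * v⁻¹⁻¹
    have hv' : φ (φ v * v⁻¹) = φ v * v⁻¹ := hv
    have e : φ v⁻¹ * v⁻¹⁻¹ = ⁅v⁻¹, (φ v * v⁻¹)⁻¹⁆ * (φ v * v⁻¹)⁻¹ := by
      rw [map_inv, commutatorElement_def]; group
    rw [e, map_mul, hφ, map_inv, hv']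

theorem bM_sym {φ : MulAut V} (hφ : ∀ a b : V, φ ⁅a, b⁆ = ⁅a, b⁆) (hq : ∀ v, φ (φ v * v⁻¹) = φ v * v⁻¹) (v w : V) :
    bM hV φ v w = bM hV φ w v := by
  -- `c(δ v, δ w) = 1`
  have h1 : cM hV (φ v * v⁻¹) (φ w * w⁻¹) = 1 := by
    have h2 := cM_map hV hφ (φ v * v⁻¹) w
    rw [hq] at h2
    rw [map_mul, map_inv, h2, mul_inv_cancel]
  have h3 := cM_map hV hφ v w
  rw [map_mul (cM hV), map_inv, MonoidHom.mul_apply, MonoidHom.inv_apply, map_mul, map_inv, map_mul, map_inv, h3] at h1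
  rw [bM_div, bM_div, cM_symm hV (φ w) v, cM_symm hV w v]
  set a := cM hV v w
  set b := cM hV (φ v) w
  set c := cM hV v (φ w)
  -- `a / b / (c / a) = 1`
  have h4 : a * b⁻¹ * (c * a⁻¹)⁻¹ = 1 := h1
  rw [div_eq_mul_inv, div_eq_mul_inv, inv_inv]
  have h5 : a * a = b * c := by
    have : a * b⁻¹ * (c * a⁻¹)⁻¹ = (a * a) * (b * c)⁻¹ := by
      rw [mul_inv_rev, inv_inv, mul_inv_rev]
      calc a * b⁻¹ * (a * c⁻¹) = a * (b⁻¹ * a) * c⁻¹ := by group
        _ = a * (a * b⁻¹) * c⁻¹ := by rw [mul_comm b⁻¹ a]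
        _ = a * a * (b⁻¹ * c⁻¹) := by group
        _ = a * a * (c⁻¹ * b⁻¹) := by rw [mul_comm b⁻¹]
    rw [this] at h4
    exact mul_inv_eq_one.1 h4
  calc b * a⁻¹ = (b * c) * (c⁻¹ * a⁻¹) := by group
    _ = (a * a) * (a⁻¹ * c⁻¹) := by rw [← h5, mul_comm c⁻¹]
    _ = a * c⁻¹ := by group
    _ = c⁻¹ * a := mul_comm _ _

/-- `B v = 1` if `φ v = v` -/
theorem bM_of_fix {φ : MulAut V} {v : V} (h : φ v = v) : bM hV φ v = 1 := by
  ext w
  rw [bM_apply, h, mul_inv_cancel, map_one]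

end Cfsg.Agent.Cit.ThreeAbs
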