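import Mathlib
import Cfsg.Agent.Nodes.KindBC
import Cfsg.Agent.Nodes.OppDec
import Cfsg.Agent.Nodes.Slope
import Cfsg.Agent.Nodes.PairOf
import Cfsg.Agent.Nodes.ChartLoc

/-!
# Type `B 3` / `C 3`: coordinates and commutators

`fc k` : the `k`-th `ε`-coordinate as an additive map; `coords` : the coordinates of a root of `C 3`; the roots

`rr = ε₀ + ε₁`, `ss = ε₀ - ε₁`, `y1 = ε₁ - ε₂`, `y2 = 2 ε₁`, `y3 = ε₁ + ε₂`, `u1 = ε₀ - ε₂`, `u2 = 2 ε₀`,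
`u3 = ε₀ + ε₂`, `fm = - 2 ε₂`, `fp = 2 ε₂`

and the roots strictly between two of them.
-/

set_option autoImplicit false
set_option linter.unusedSectionVars false

namespace Cfsg.Agent.Cit.ThreeCoord

open CoxeterSystem Cfsg.Agent.ChevalleyStructure.CoxeterGeom Cfsg.Agent.Tits.Roots Cfsg.Agent.Tits.Core
  Cfsg.Agent.Tits.RootComb Cfsg.Agent.Nodes.Comb Cfsg.Agent.Nodes.Reps Cfsg.Agent.Nodes.BNOf
  Cfsg.Agent.Nodes.Coroot Cfsg.Agent.Nodes.PairOf Cfsg.Agent.Nodes.OppDec Cfsg.Agent.Nodes.Bruhat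
  Cfsg.Agent.Nodes.TypeC Cfsg.Agent.Nodes.KindBC Cfsg.Agent.Nodes.TypeCForm
open scoped commutatorElement

/-- the `k`-th `ε`-coordinate -/
def fc (k : Fin 3) : (Fin 3 → ℤ) →+ ℤ where
  toFun x := ee x k
  map_zero' := by
    have := congrFun (ee_smul (n := 3) 0 0) k
    rw [zero_smul, zero_smul] at this
    exact this
  map_add' x y := congrFun (ee_add x y) k

theorem fc_apply (k : Fin 3) (x : Fin 3 → ℤ) : fc k x = ee x k := rfl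

theorem fc_rt (k : Fin 3) (a b : Fin 3 × Bool) : fc k (rt a b) = wt a k + wt b k := by
  rw [fc_apply, ee_rt, Pi.add_apply]

theorem eq_of_fc {x y : Fin 3 → ℤ} (h0 : fc 0 x = fc 0 y) (h1 : fc 1 x = fc 1 y) (h2 : fc 2 x = fc 2 y) :
    x = y := by
  apply ee_injective
  funext k
  fin_cases k
  · exact h0
  · exact h1
  · exact h2

theorem wt_val (i : Fin 3) (s : Bool) (k : Fin 3) : wt (i, s) k = if k = i then (if s then 1 else -1) else 0 :=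
  wt_apply _ _

/-! ### The roots -/

def rr : Fin 3 → ℤ := rt (0, true) (1, true)
def ss : Fin 3 → ℤ := rt (0, true) (1, false)
def y1 : Fin 3 → ℤ := rt (1, true) (2, false)
def y2 : Fin 3 → ℤ := rt (1, true) (1, true)
def y3 : Fin 3 → ℤ := rt (1, true) (2, true)
def u1 : Fin 3 → ℤ := rt (0, true) (2, false)
def u2 : Fin 3 → ℤ := rt (0, true) (0, true)
def u3 : Fin 3 → ℤ := rt (0, true) (2, true)
def fm : Fin 3 → ℤ := rt (2, false) (2, false)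
def fp : Fin 3 → ℤ := rt (2, true) (2, true)

theorem fc_rr : fc 0 rr = 1 ∧ fc 1 rr = 1 ∧ fc 2 rr = 0 := by
  simp only [rr, fc_rt, wt_val]; decide
theorem fc_ss : fc 0 ss = 1 ∧ fc 1 ss = -1 ∧ fc 2 ss = 0 := by
  simp only [ss, fc_rt, wt_val]; decide
theorem fc_y1 : fc 0 y1 = 0 ∧ fc 1 y1 = 1 ∧ fc 2 y1 = -1 := by
  simp only [y1, fc_rt, wt_val]; decide
theorem fc_y2 : fc 0 y2 = 0 ∧ fc 1 y2 = 2 ∧ fc 2 y2 = 0 := by
  simp only [y2, fc_rt, wt_val]; decide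
theorem fc_y3 : fc 0 y3 = 0 ∧ fc 1 y3 = 1 ∧ fc 2 y3 = 1 := by
  simp only [y3, fc_rt, wt_val]; decide
theorem fc_u1 : fc 0 u1 = 1 ∧ fc 1 u1 = 0 ∧ fc 2 u1 = -1 := by
  simp only [u1, fc_rt, wt_val]; decide
theorem fc_u2 : fc 0 u2 = 2 ∧ fc 1 u2 = 0 ∧ fc 2 u2 = 0 := by
  simp only [u2, fc_rt, wt_val]; decide
theorem fc_u3 : fc 0 u3 = 1 ∧ fc 1 u3 = 0 ∧ fc 2 u3 = 1 := by
  simp only [u3, fc_rt, wt_val]; decide
theorem fc_fm : fc 0 fm = 0 ∧ fc 1 fm = 0 ∧ fc 2 fm = -2 := by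
  simp only [fm, fc_rt, wt_val]; decide
theorem fc_fp : fc 0 fp = 0 ∧ fc 1 fp = 0 ∧ fc 2 fp = 2 := by
  simp only [fp, fc_rt, wt_val]; decide

variable {W : Type*} [Group W] {cs : CoxeterSystem (CoxeterMatrix.B 3) W}

theorem root_rt {a b : Fin 3 × Bool} (h : Ok a b) : IsRoot cs (isCartan 3) (rt a b) := isRoot_rt cs h

theorem root_rr : IsRoot cs (isCartan 3) rr := root_rt (by unfold Ok; decide)
theorem root_ss : IsRoot cs (isCartan 3) ss := root_rt (by unfold Ok; decide)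
theorem root_y1 : IsRoot cs (isCartan 3) y1 := root_rt (by unfold Ok; decide)
theorem root_y2 : IsRoot cs (isCartan 3) y2 := root_rt (by unfold Ok; decide)
theorem root_y3 : IsRoot cs (isCartan 3) y3 := root_rt (by unfold Ok; decide)
theorem root_u1 : IsRoot cs (isCartan 3) u1 := root_rt (by unfold Ok; decide)
theorem root_u2 : IsRoot cs (isCartan 3) u2 := root_rt (by unfold Ok; decide)
theorem root_u3 : IsRoot cs (isCartan 3) u3 := root_rt (by unfold Ok; decide)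
theorem root_fm : IsRoot cs (isCartan 3) fm := root_rt (by unfold Ok; decide)
theorem root_fp : IsRoot cs (isCartan 3) fp := root_rt (by unfold Ok; decide)

theorem rr_mem : rr ∈ RB 3 := rt_mem_RB (by decide)
theorem ss_mem : ss ∈ RB 3 := rt_mem_RB (by decide)
theorem y1_mem : y1 ∈ RB 3 := rt_mem_RB (by decide)
theorem y3_mem : y3 ∈ RB 3 := rt_mem_RB (by decide)
theorem u1_mem : u1 ∈ RB 3 := rt_mem_RB (by decide)
theorem u3_mem : u3 ∈ RB 3 := rt_mem_RB (by decide)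

/-- the coordinates of a root -/
theorem coords {x : Fin 3 → ℤ} (hx : IsRoot cs (isCartan 3) x) :
    (fc 0 x = 0 ∧ (fc 1 x = 1 ∨ fc 1 x = -1) ∧ (fc 2 x = 1 ∨ fc 2 x = -1)) ∨
    (fc 1 x = 0 ∧ (fc 0 x = 1 ∨ fc 0 x = -1) ∧ (fc 2 x = 1 ∨ fc 2 x = -1)) ∨
    (fc 2 x = 0 ∧ (fc 0 x = 1 ∨ fc 0 x = -1) ∧ (fc 1 x = 1 ∨ fc 1 x = -1)) ∨
    (fc 0 x = 0 ∧ fc 1 x = 0 ∧ (fc 2 x = 2 ∨ fc 2 x = -2)) ∨
    (fc 0 x = 0 ∧ fc 2 x = 0 ∧ (fc 1 x = 2 ∨ fc 1 x = -2)) ∨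
    (fc 1 x = 0 ∧ fc 2 x = 0 ∧ (fc 0 x = 2 ∨ fc 0 x = -2)) := by
  obtain ⟨⟨i, s⟩, ⟨j, t⟩, hab, rfl⟩ := exists_rt hx
  simp only [fc_rt, wt_val]
  clear hx
  revert hab
  unfold Ok
  revert i s j t
  decide

/-- strictly between, in coordinates -/
theorem btwn_fc {x y z : Fin 3 → ℤ} (hz : Btwn cs (isCartan 3) x y z) :
    IsRoot cs (isCartan 3) z ∧ ∃ m a b : ℤ, 0 < m ∧ 0 < a ∧ 0 < b ∧ m * fc 0 z = a * fc 0 x + b * fc 0 y ∧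
      m * fc 1 z = a * fc 1 x + b * fc 1 y ∧ m * fc 2 z = a * fc 2 x + b * fc 2 y := by
  obtain ⟨hr, m, a, b, hm, ha, hb, he⟩ := hz
  have key : ∀ k, m * fc k z = a * fc k x + b * fc k y := by
    intro k
    have := congrArg (fc k) he
    rwa [map_zsmul, map_add, map_zsmul, map_zsmul, smul_eq_mul, smul_eq_mul, smul_eq_mul] at this
  exact ⟨hr, m, a, b, hm, ha, hb, key 0, key 1, key 2⟩

/-- no root strictly between; the two hypotheses are the coordinates of the two roots -/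
macro "c3_none" p:term:max q:term:max : tactic => `(tactic| (
  intro z hz
  obtain ⟨hr, m, a, b, hm, ha, hb, e0, e1, e2⟩ := btwn_fc hz
  obtain ⟨p0, p1, p2⟩ := $p
  obtain ⟨q0, q1, q2⟩ := $q
  simp only [map_neg, p0, p1, p2, q0, q1, q2] at e0 e1 e2
  rcases coords hr with ⟨h0, h1 | h1, h2 | h2⟩ | ⟨h0, h1 | h1, h2 | h2⟩ | ⟨h0, h1 | h1, h2 | h2⟩ |
    ⟨h0, h1, h2 | h2⟩ | ⟨h0, h1, h2 | h2⟩ | ⟨h0, h1, h2 | h2⟩ <;> simp only [h0, h1, h2] at e0 e1 e2 <;> omega))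

theorem btwn_u1_y1 : ∀ z, ¬ Btwn cs (isCartan 3) u1 y1 z := by c3_none fc_u1 fc_y1
theorem btwn_u1_y2 : ∀ z, ¬ Btwn cs (isCartan 3) u1 y2 z := by c3_none fc_u1 fc_y2
theorem btwn_u3_y3 : ∀ z, ¬ Btwn cs (isCartan 3) u3 y3 z := by c3_none fc_u3 fc_y3
theorem btwn_u3_y2 : ∀ z, ¬ Btwn cs (isCartan 3) u3 y2 z := by c3_none fc_u3 fc_y2
theorem btwn_nss_y1 : ∀ z, ¬ Btwn cs (isCartan 3) (-ss) y1 z := by c3_none fc_ss fc_y1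
theorem btwn_nu1_y3 : ∀ z, ¬ Btwn cs (isCartan 3) (-u1) y3 z := by c3_none fc_u1 fc_y3
theorem btwn_ny2_ss : ∀ z, ¬ Btwn cs (isCartan 3) (-y2) ss z := by c3_none fc_y2 fc_ss
theorem btwn_y1_y2 : ∀ z, ¬ Btwn cs (isCartan 3) y1 y2 z := by c3_none fc_y1 fc_y2
theorem btwn_fp_y3 : ∀ z, ¬ Btwn cs (isCartan 3) fp y3 z := by c3_none fc_fp fc_y3
theorem btwn_u2_rr : ∀ z, ¬ Btwn cs (isCartan 3) u2 rr z := by c3_none fc_u2 fc_rr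


theorem btwn_ss_y1 : ∀ z, Btwn cs (isCartan 3) ss y1 z → z = u1 := by
  intro z hz
  obtain ⟨hr, m, a, b, hm, ha, hb, e0, e1, e2⟩ := btwn_fc hz
  obtain ⟨p0, p1, p2⟩ := fc_ss
  obtain ⟨q0, q1, q2⟩ := fc_y1
  simp only [p0, p1, p2, q0, q1, q2] at e0 e1 e2
  have key : fc 0 z = 1 ∧ fc 1 z = 0 ∧ fc 2 z = -1 := by
    rcases coords hr with ⟨h0, h1 | h1, h2 | h2⟩ | ⟨h0, h1 | h1, h2 | h2⟩ | ⟨h0, h1 | h1, h2 | h2⟩ |
      ⟨h0, h1, h2 | h2⟩ | ⟨h0, h1, h2 | h2⟩ | ⟨h0, h1, h2 | h2⟩ <;> simp only [h0, h1, h2] at e0 e1 e2 <;> omega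
  exact eq_of_fc (by rw [key.1, fc_u1.1]) (by rw [key.2.1, fc_u1.2.1]) (by rw [key.2.2, fc_u1.2.2])

theorem btwn_ss_y3 : ∀ z, Btwn cs (isCartan 3) ss y3 z → z = u3 := by
  intro z hz
  obtain ⟨hr, m, a, b, hm, ha, hb, e0, e1, e2⟩ := btwn_fc hz
  obtain ⟨p0, p1, p2⟩ := fc_ss
  obtain ⟨q0, q1, q2⟩ := fc_y3
  simp only [p0, p1, p2, q0, q1, q2] at e0 e1 e2
  have key : fc 0 z = 1 ∧ fc 1 z = 0 ∧ fc 2 z = 1 := by
    rcases coords hr with ⟨h0, h1 | h1, h2 | h2⟩ | ⟨h0, h1 | h1, h2 | h2⟩ | ⟨h0, h1 | h1, h2 | h2⟩ |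
      ⟨h0, h1, h2 | h2⟩ | ⟨h0, h1, h2 | h2⟩ | ⟨h0, h1, h2 | h2⟩ <;> simp only [h0, h1, h2] at e0 e1 e2 <;> omega
  exact eq_of_fc (by rw [key.1, fc_u3.1]) (by rw [key.2.1, fc_u3.2.1]) (by rw [key.2.2, fc_u3.2.2])

theorem btwn_ny2_u2 : ∀ z, Btwn cs (isCartan 3) (-y2) u2 z → z = ss := by
  intro z hz
  obtain ⟨hr, m, a, b, hm, ha, hb, e0, e1, e2⟩ := btwn_fc hz
  obtain ⟨p0, p1, p2⟩ := fc_y2
  obtain ⟨q0, q1, q2⟩ := fc_u2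
  simp only [map_neg, p0, p1, p2, q0, q1, q2] at e0 e1 e2
  have key : fc 0 z = 1 ∧ fc 1 z = -1 ∧ fc 2 z = 0 := by
    rcases coords hr with ⟨h0, h1 | h1, h2 | h2⟩ | ⟨h0, h1 | h1, h2 | h2⟩ | ⟨h0, h1 | h1, h2 | h2⟩ |
      ⟨h0, h1, h2 | h2⟩ | ⟨h0, h1, h2 | h2⟩ | ⟨h0, h1, h2 | h2⟩ <;> simp only [h0, h1, h2] at e0 e1 e2 <;> omega
  exact eq_of_fc (by rw [key.1, fc_ss.1]) (by rw [key.2.1, fc_ss.2.1]) (by rw [key.2.2, fc_ss.2.2])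

theorem btwn_fp_y2 : ∀ z, Btwn cs (isCartan 3) fp y2 z → z = y3 := by
  intro z hz
  obtain ⟨hr, m, a, b, hm, ha, hb, e0, e1, e2⟩ := btwn_fc hz
  obtain ⟨p0, p1, p2⟩ := fc_fp
  obtain ⟨q0, q1, q2⟩ := fc_y2
  simp only [p0, p1, p2, q0, q1, q2] at e0 e1 e2
  have key : fc 0 z = 0 ∧ fc 1 z = 1 ∧ fc 2 z = 1 := by
    rcases coords hr with ⟨h0, h1 | h1, h2 | h2⟩ | ⟨h0, h1 | h1, h2 | h2⟩ | ⟨h0, h1 | h1, h2 | h2⟩ |
      ⟨h0, h1, h2 | h2⟩ | ⟨h0, h1, h2 | h2⟩ | ⟨h0, h1, h2 | h2⟩ <;> simp only [h0, h1, h2] at e0 e1 e2 <;> omega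
  exact eq_of_fc (by rw [key.1, fc_y3.1]) (by rw [key.2.1, fc_y3.2.1]) (by rw [key.2.2, fc_y3.2.2])

theorem btwn_ss_y2 : ∀ z, Btwn cs (isCartan 3) ss y2 z → z = u2 ∨ z = rr := by
  intro z hz
  obtain ⟨hr, m, a, b, hm, ha, hb, e0, e1, e2⟩ := btwn_fc hz
  obtain ⟨p0, p1, p2⟩ := fc_ss
  obtain ⟨q0, q1, q2⟩ := fc_y2
  simp only [p0, p1, p2, q0, q1, q2] at e0 e1 e2
  have key : (fc 0 z = 2 ∧ fc 1 z = 0 ∧ fc 2 z = 0) ∨ (fc 0 z = 1 ∧ fc 1 z = 1 ∧ fc 2 z = 0) := by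
    rcases coords hr with ⟨h0, h1 | h1, h2 | h2⟩ | ⟨h0, h1 | h1, h2 | h2⟩ | ⟨h0, h1 | h1, h2 | h2⟩ |
      ⟨h0, h1, h2 | h2⟩ | ⟨h0, h1, h2 | h2⟩ | ⟨h0, h1, h2 | h2⟩ <;> simp only [h0, h1, h2] at e0 e1 e2 <;> omega
  rcases key with key | key
  · exact Or.inl (eq_of_fc (by rw [key.1, fc_u2.1]) (by rw [key.2.1, fc_u2.2.1]) (by rw [key.2.2, fc_u2.2.2]))
  · exact Or.inr (eq_of_fc (by rw [key.1, fc_rr.1]) (by rw [key.2.1, fc_rr.2.1]) (by rw [key.2.2, fc_rr.2.2]))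

theorem btwn_fm_y3 : ∀ z, Btwn cs (isCartan 3) fm y3 z → z = y2 ∨ z = y1 := by
  intro z hz
  obtain ⟨hr, m, a, b, hm, ha, hb, e0, e1, e2⟩ := btwn_fc hz
  obtain ⟨p0, p1, p2⟩ := fc_fm
  obtain ⟨q0, q1, q2⟩ := fc_y3
  simp only [p0, p1, p2, q0, q1, q2] at e0 e1 e2
  have key : (fc 0 z = 0 ∧ fc 1 z = 2 ∧ fc 2 z = 0) ∨ (fc 0 z = 0 ∧ fc 1 z = 1 ∧ fc 2 z = -1) := by
    rcases coords hr with ⟨h0, h1 | h1, h2 | h2⟩ | ⟨h0, h1 | h1, h2 | h2⟩ | ⟨h0, h1 | h1, h2 | h2⟩ |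
      ⟨h0, h1, h2 | h2⟩ | ⟨h0, h1, h2 | h2⟩ | ⟨h0, h1, h2 | h2⟩ <;> simp only [h0, h1, h2] at e0 e1 e2 <;> omega
  rcases key with key | key
  · exact Or.inl (eq_of_fc (by rw [key.1, fc_y2.1]) (by rw [key.2.1, fc_y2.2.1]) (by rw [key.2.2, fc_y2.2.2]))
  · exact Or.inr (eq_of_fc (by rw [key.1, fc_y1.1]) (by rw [key.2.1, fc_y1.2.1]) (by rw [key.2.2, fc_y1.2.2]))

/-! ### Cartan numbers -/

section

variable [Fintype W]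

theorem cpr_rr (x : Fin 3 → ℤ) : cpr cs (isCartan 3) x rr = fc 0 x + fc 1 x := by
  rw [rr, cpr_rt cs x (by decide), fc_apply, fc_apply]
  simp [sn]

theorem cpr_ss (x : Fin 3 → ℤ) : cpr cs (isCartan 3) x ss = fc 0 x - fc 1 x := by
  rw [ss, cpr_rt cs x (by decide), fc_apply, fc_apply]
  simp [sn, sub_eq_add_neg]

theorem cpr_u1 (x : Fin 3 → ℤ) : cpr cs (isCartan 3) x u1 = fc 0 x - fc 2 x := by
  rw [u1, cpr_rt cs x (by decide), fc_apply, fc_apply]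
  simp [sn, sub_eq_add_neg]

theorem cpr_u3 (x : Fin 3 → ℤ) : cpr cs (isCartan 3) x u3 = fc 0 x + fc 2 x := by
  rw [u3, cpr_rt cs x (by decide), fc_apply, fc_apply]
  simp [sn]

theorem cpr_y3 (x : Fin 3 → ℤ) : cpr cs (isCartan 3) x y3 = fc 1 x + fc 2 x := by
  rw [y3, cpr_rt cs x (by decide), fc_apply, fc_apply]
  simp [sn]

theorem cpr_y1 (x : Fin 3 → ℤ) : cpr cs (isCartan 3) x y1 = fc 1 x - fc 2 x := by
  rw [y1, cpr_rt cs x (by decide), fc_apply, fc_apply]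
  simp [sn, sub_eq_add_neg]

theorem cpr_fm (x : Fin 3 → ℤ) : cpr cs (isCartan 3) x fm = -fc 2 x := by
  rw [fm, cpr_rt_self cs x, fc_apply]
  simp [sn]

theorem cpr_fp (x : Fin 3 → ℤ) : cpr cs (isCartan 3) x fp = fc 2 x := by
  rw [fp, cpr_rt_self cs x, fc_apply]
  simp [sn]

theorem cpr_y2 (x : Fin 3 → ℤ) : cpr cs (isCartan 3) x y2 = fc 1 x := by
  rw [y2, cpr_rt_self cs x, fc_apply]
  simp [sn]

theorem form_sign (x : Fin 3 → ℤ) {q : Fin 3 → ℤ} (hq : IsRoot cs (isCartan 3) q) :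
    (0 < form cs (isCartan 3) x q ↔ 0 < cpr cs (isCartan 3) x q) ∧
      (0 ≤ form cs (isCartan 3) x q ↔ 0 ≤ cpr cs (isCartan 3) x q) ∧
      (form cs (isCartan 3) x q = 0 ↔ cpr cs (isCartan 3) x q = 0) := by
  have h1 := two_form_cpr cs (isCartan 3) x hq
  have h2 : 0 < form cs (isCartan 3) q q := form_pos cs (isCartan 3) hq.ne_zero
  refine ⟨⟨fun h => ?_, fun h => ?_⟩, ⟨fun h => ?_, fun h => ?_⟩, ⟨fun h => ?_, fun h => ?_⟩⟩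
  · by_contra h3
    nlinarith
  · nlinarith
  · by_contra h3
    nlinarith
  · nlinarith
  · rw [h, mul_zero] at h1
    rcases mul_eq_zero.1 h1.symm with h3 | h3
    · exact h3
    · omega
  · rw [h, zero_mul] at h1
    omega

/-- the roots `y` with `(y, r) > 0`, `(y, s) < 0` -/
theorem cases_neg {y : Fin 3 → ℤ} (hy : IsRoot cs (isCartan 3) y) (h1 : 0 < fc 0 y + fc 1 y)
    (h2 : fc 0 y - fc 1 y < 0) : y = y1 ∨ y = y2 ∨ y = y3 := by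
  have key : (fc 0 y = 0 ∧ fc 1 y = 1 ∧ fc 2 y = -1) ∨ (fc 0 y = 0 ∧ fc 1 y = 2 ∧ fc 2 y = 0) ∨
      (fc 0 y = 0 ∧ fc 1 y = 1 ∧ fc 2 y = 1) := by
    rcases coords hy with ⟨h0, h3 | h3, h4 | h4⟩ | ⟨h0, h3 | h3, h4 | h4⟩ | ⟨h0, h3 | h3, h4 | h4⟩ |
      ⟨h0, h3, h4 | h4⟩ | ⟨h0, h3, h4 | h4⟩ | ⟨h0, h3, h4 | h4⟩ <;> omega
  rcases key with key | key | key
  · exact Or.inl (eq_of_fc (by rw [key.1, fc_y1.1]) (by rw [key.2.1, fc_y1.2.1]) (by rw [key.2.2, fc_y1.2.2]))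
  · exact Or.inr (Or.inl (eq_of_fc (by rw [key.1, fc_y2.1]) (by rw [key.2.1, fc_y2.2.1])
      (by rw [key.2.2, fc_y2.2.2])))
  · exact Or.inr (Or.inr (eq_of_fc (by rw [key.1, fc_y3.1]) (by rw [key.2.1, fc_y3.2.1])
      (by rw [key.2.2, fc_y3.2.2])))

/-- two roots with different coordinates -/
theorem ne_of_fc {x y : Fin 3 → ℤ} (k : Fin 3) (h : fc k x ≠ fc k y) : x ≠ y := fun e => h (by rw [e])

end

end Cfsg.Agent.Cit.ThreeCoord
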