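import Cfsg.Agent.Cit.ThreeC
import Cfsg.Agent.Cit.ExcZZ
import Cfsg.Agent.Nodes.BThreeChart

/-!
# `TypeStmt` : `ExcZZ`, `BThreeA`, `BThreeX` hold
-/

set_option autoImplicit false

namespace Cfsg.Agent.Cit.ThreeC

open Cfsg Cfsg.Agent.Cit CoreThree

universe u

theorem excZZ : ThreeTy.ExcZZ.{u} := fun _ _ _ _ h ty _ hDF qs two _ hp hp2 iso K hK _ hJ hKD hJD hc zzc =>
  Cit.ExcZZ.zz_eq h hDF qs two (Cit.ExcZZ.hexP_of_iso hp hp2 iso) hK (ty K hK) hJ hKD hJD hc zzc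

/-- **`TypeStmt`** from the two facts on charts of type `B 3` -/
theorem typeStmt_of (hA : BThreeA.{u}) (hX : BThreeX.{u}) : TypeStmt.{u} := typeStmt excZZ hA hX

open Cfsg.Agent.Nodes.BThreeChart in
theorem bThreeA : BThreeA.{u} := fun _ _ _ _ hyp _ _ c h _ hK _ hL hKD hLD hne hc =>
  exists_sq hyp c h hK hL hKD hLD hne hc

open Cfsg.Agent.Nodes.BThreeChart in
theorem bThreeX : BThreeX.{u} := fun _ _ _ _ hyp _ _ c h _ hK _ hL hKD hLD hne hc _ hg hgc hsq =>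
  false_of_sq hyp c h hK hL hKD hLD hne hc hg (fun x hx => hgc x (Subgroup.mem_sup_left hx))
    (fun x hx => hgc x (Subgroup.mem_sup_right hx)) hsq

/-- **`TypeStmt`** -/
theorem typeStmt_main : TypeStmt.{u} := typeStmt_of bThreeA bThreeX

end Cfsg.Agent.Cit.ThreeC
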