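import Cfsg.Agent.Cit.TwoBlk
import Cfsg.Agent.Cit.ThreeCEnd
import Cfsg.Agent.Cit.CoreTwoEqId
import Cfsg.Agent.Nodes.ChartLift
import Cfsg.Agent.Nodes.ChartMap

/-!
# `|Om(S)| = 3`: case (B) does not occur in `D / Z(D)`

`D = PP Om K L` the piece of `C(zz K) / O(C(zz K))` with `|F(T)| = 2` modulo `Z(D)` (hypothesis `TwoEq`).  In case (B)
`BChart` gives a chart of type `B 3` of `D / Z(D)`, which lifts to `D` (`exists_chart`), against `ThreeC.not_B_three`.
-/

set_option autoImplicit false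
set_option linter.style.haveILetI false
set_option linter.unusedSectionVars false

namespace Cfsg.Agent.Cit.ThreeIdB

open Subgroup Cfsg Cfsg.Agent.Cit SubCent UseT Branches CoreThree
open Cfsg.Agent.Nodes.Chart Cfsg.Agent.Nodes.BNOf Cfsg.Agent.Nodes.RGDLib
open Cfsg.Agent.Cit.TypeDet (cm)
open Cfsg.Agent.Cit.TwoFK (TwoEq)
open Cfsg.Agent.Cit.TwoBlk.Blk (pi Fq)

universe u

/-! ### Lifting charts of `D / Z(D)` -/

/-- A chart of an equal subgroup. -/
def copy {G : Type*} [Group G] {Om : Set (Subgroup G)} {p : ℕ} {L L' : Subgroup G} (c : Chart Om p L)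
    (h : L = L') : Chart Om p L' :=
  { c with
    T_le := by rw [← h]; exact c.T_le
    gen := by rw [← h]; exact c.gen
    om_conj := by rw [← h]; exact c.om_conj }

theorem sup_le_of_chart {G : Type*} [Group G] {Om : Set (Subgroup G)} {p : ℕ} {L : Subgroup G} (c : Chart Om p L)
    {r : c.I → ℤ} (hr : r ∈ c.R) : c.Z r ⊔ c.Z (-r) ≤ L :=
  (sup_le ((c.cls.le r hr).trans (X_le_G1 (c.cls.root r hr)))
    ((c.cls.le _ (Nodes.ClsMap.neg_mem c.cls hr)).trans
      (X_le_G1 (c.cls.root _ (Nodes.ClsMap.neg_mem c.cls hr))))).trans c.gen.le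

section Lift

variable {X : Type*} [Group X] [Finite X] {F : Set (Subgroup X)} {D : Subgroup X}

theorem coprime_center (two : IsPGroup 2 (center D)) {p : ℕ} (hp : p.Prime) (hp2 : p ≠ 2) :
    (Nat.card (pi D).ker).Coprime p := by
  haveI : Fact (Nat.Prime 2) := ⟨Nat.prime_two⟩
  rw [QuotientGroup.ker_mk']
  obtain ⟨n, hn⟩ := (IsPGroup.iff_card (p := 2)).1 two
  rw [hn]
  exact Nat.Coprime.pow_left _ ((Nat.coprime_primes Nat.prime_two hp).2 hp2.symm)

/-- the chart of the group `D` -/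
noncomputable def chart₀ (hF : Hyp F) (qs : IsQuasisimple D) (two : IsPGroup 2 (center D))
    (hinf : ∀ J ∈ restr F D, J ⊓ center D = ⊥) (hq : Hyp (Fq F D)) {p : ℕ}
    (c : Chart (Fq F D) p (⊤ : Subgroup (D ⧸ center D))) : Chart (restr F D) p (⊤ : Subgroup D) :=
  have hker : (pi D).ker ≤ center D := (QuotientGroup.ker_mk' _).le
  have hcop := coprime_center two c.prime c.odd
  have hs : Function.Surjective (pi D) := QuotientGroup.mk'_surjective _
  copy (Nodes.ChartLift.Chart.lift c hker hcop hs (hF.restr D) hq (fun K hK => ⟨K, hK, rfl⟩)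
    (fun K' hK' => hK') (fun K hK => by rw [QuotientGroup.ker_mk']; exact hinf K hK))
    (Nodes.ChartLift.eq_lft_of_perfect hker hcop qs.1.commutator_eq_top (Subgroup.map_top_of_surjective _ hs)
      (Nodes.ChartLift.Chart.map_lft c hker hcop hs)).symm

/-- **the chart of `D`** -/
noncomputable def chart (hF : Hyp F) (qs : IsQuasisimple D) (two : IsPGroup 2 (center D))
    (hinf : ∀ J ∈ restr F D, J ⊓ center D = ⊥) (hq : Hyp (Fq F D)) {p : ℕ}
    (c : Chart (Fq F D) p (⊤ : Subgroup (D ⧸ center D))) : Chart F p D :=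
  copy (Nodes.ChartMap.mapInj (chart₀ hF qs two hinf hq c) D.subtype D.subtype_injective F
    (fun _ hK _ => hK) (fun K hK hKL => ⟨K.subgroupOf D, by
      have h1 : K ≤ D := hKL.trans (map_subtype_le _)
      exact ⟨subgroupOf_mem_restr hK h1, le_top, (map_subgroupOf_eq_of_le h1).symm⟩⟩))
    (by rw [← MonoidHom.range_eq_map, Subgroup.range_subtype])

variable (hF : Hyp F) (qs : IsQuasisimple D) (two : IsPGroup 2 (center D))
    (hinf : ∀ J ∈ restr F D, J ⊓ center D = ⊥) (hq : Hyp (Fq F D)) {p : ℕ}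
    (c : Chart (Fq F D) p (⊤ : Subgroup (D ⧸ center D)))

theorem chart_isTy {τ : Nodes.Chart.Ty} (h : c.IsTy τ) : (chart hF qs two hinf hq c).IsTy τ := h

theorem chart_Z (r : c.I → ℤ) : (chart hF qs two hinf hq c).Z r =
    (Nodes.RGDLift.lft p (pi D) (c.Z r)).map D.subtype := rfl

theorem chart_X (r : c.I → ℤ) : (chart hF qs two hinf hq c).X r =
    (Nodes.RGDLift.lft p (pi D) (c.X r)).map D.subtype := rfl

theorem chart_ZX (h : ∀ r ∈ c.R, c.Z r = c.X r) : ∀ r ∈ (chart hF qs two hinf hq c).R,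
    (chart hF qs two hinf hq c).Z r = (chart hF qs two hinf hq c).X r := by
  intro r hr
  refine (chart_Z hF qs two hinf hq c r).trans (Eq.trans ?_ (chart_X hF qs two hinf hq c r).symm)
  rw [h r hr]

include hF two hinf in
/-- members in `D` are isomorphic with their images in `D / Z(D)` -/
theorem exists_equiv {J : Subgroup X} (hJ : J ∈ F) (hJD : J ≤ D) :
    ∃ K ∈ Fq F D, Nonempty (K ≃* J) := by
  have h1 : J.subgroupOf D ∈ restr F D := subgroupOf_mem_restr hJ hJD
  have h2 := hinf _ h1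
  refine ⟨_, ⟨_, h1, rfl⟩, ⟨?_⟩⟩
  have hinj : Function.Injective ((pi D).subgroupMap (J.subgroupOf D)) := by
    rw [injective_iff_map_eq_one]
    intro x hx
    have h3 : (x : D) ∈ J.subgroupOf D ⊓ center D := by
      refine ⟨x.2, ?_⟩
      have h4 : pi D (x : D) = 1 := congrArg Subtype.val hx
      exact (QuotientGroup.eq_one_iff (x : D)).1 h4
    rw [h2, mem_bot] at h3
    exact Subtype.ext h3
  exact (MulEquiv.ofBijective ((pi D).subgroupMap (J.subgroupOf D))
    ⟨hinj, (pi D).subgroupMap_surjective _⟩).symm.trans (subgroupOfEquivOfLe hJD)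

end Lift

/-! ### Members and the centre of a piece -/

section Center

variable {X : Type*} [Group X] [Finite X] {F : Set (Subgroup X)} {D : Subgroup X}

theorem inf_center (hF : Hyp F) (hc : ∀ K ∈ F, OO K = ⊥) (hnm : D ∉ F) (two : IsPGroup 2 (center D))
    (hpc : ∀ J ∈ F, J ≤ D → pc F J = D) {J : Subgroup D} (hJ : J ∈ restr F D) : J ⊓ center D = ⊥ := by
  haveI : Fact (Nat.Prime 2) := ⟨Nat.prime_two⟩
  by_contra hne
  have hp : IsPGroup 2 (J ⊓ center D : Subgroup D) := two.to_le inf_le_right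
  haveI : Nontrivial (J ⊓ center D : Subgroup D) := (nontrivial_iff_ne_bot _).2 hne
  have h2 : 2 ∣ Nat.card (J ⊓ center D : Subgroup D) := by
    obtain ⟨n, hn⟩ := (IsPGroup.iff_card (p := 2)).1 hp
    have h3 : n ≠ 0 := by
      rintro rfl
      rw [pow_zero] at hn
      exact hne (Subgroup.card_eq_one.1 hn)
    rw [hn]
    exact dvd_pow_self 2 h3
  obtain ⟨t, ht⟩ := exists_prime_orderOf_dvd_card' 2 h2
  have ht' : orderOf (t : D) = 2 := by rw [orderOf_coe]; exact ht
  have e1 : (t : D) = zz J := (hF.restr D).uniq J hJ _ t.2.1 ht'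
  have h3 := hpc _ hJ (map_subtype_le J)
  apply hnm
  rw [← h3, Four.not_central hF hc hJ]
  · exact hJ
  · intro x hx
    rw [h3] at hx
    rw [← zz_map hF hJ, ← e1]
    exact congrArg Subtype.val (mem_center_iff.1 t.2.2 ⟨x, hx⟩)

/-- the types of the members of `D / Z(D)` -/
theorem ty_Fq (ty : ∀ K ∈ F, Ty K) (hinf : ∀ J ∈ restr F D, J ⊓ center D = ⊥) : ∀ J ∈ Fq F D, Ty J := by
  rintro _ ⟨J, hJ, rfl⟩
  refine (Ty.restr ty D J hJ).map (pi D) ?_
  have h2 := hinf J hJ
  have h1 : ((pi D).subgroupMap J).ker = ⊥ := by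
    rw [eq_bot_iff]
    intro x hx
    have h3 : (x : D) ∈ J ⊓ center D := by
      refine ⟨x.2, ?_⟩
      have h4 : pi D (x : D) = 1 := congrArg Subtype.val (MonoidHom.mem_ker.1 hx)
      exact (QuotientGroup.eq_one_iff (x : D)).1 h4
    rw [h2, mem_bot] at h3
    exact Subtype.ext h3
  rw [h1, card_bot]
  decide

end Center

/-! ### The piece -/

section Main

variable {G : Type u} [Group G] [Finite G] {Om : Set (Subgroup G)}

/-- the facts about the piece `D = PP Om K L` -/
structure Pc (Om : Set (Subgroup G)) (K L : Subgroup G) : Prop where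
  hF : Hyp (fam Om (centralizer {zz K}))
  ty : ∀ J ∈ fam Om (centralizer {zz K}), Ty J
  core : ∀ J ∈ fam Om (centralizer {zz K}), OO J = ⊥
  nmem : PP Om K L ∉ fam Om (centralizer {zz K})
  qs : IsQuasisimple (PP Om K L)
  two : IsPGroup 2 (center (PP Om K L))
  pc : ∀ J ∈ fam Om (centralizer {zz K}), J ≤ PP Om K L → pc (fam Om (centralizer {zz K})) J = PP Om K L
  mem : tr (centralizer {zz K}) L ∈ fam Om (centralizer {zz K})
  le : tr (centralizer {zz K}) L ≤ PP Om K L

theorem pc_of (m : MinS Om) (con : CoreThree.Con Om) {S : Sylow 2 G} {K L M : Subgroup G}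
    (t : ThreeC.Tr Om S K L M) : Pc Om K L := by
  have h := m.hyp
  have hT := m.isType
  have hl := ThreeC.loc m t
  have hF := hyp_fam h hT (centralizer {zz K})
  have hp : HasPieces (fam Om (centralizer {zz K})) := m.fam_cent (h.zz_ne t.K.1)
  have mL := tr_mem (hl.cov t.L)
  have mM := tr_mem (hl.cov t.M)
  have hcon : PP Om K L = PP Om K M := con S K t.K L t.L M t.M t.KL t.KM
  have hne : PP Om K L ≠ tr (centralizer {zz K}) L := by
    intro e
    have h1 : tr (centralizer {zz K}) M ≤ PP Om K L := by rw [hcon]; exact le_pc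
    rw [e] at h1
    have h3 := hF.eq_of_le mM mL h1
    have h4 := hl.cc t.L t.M t.LM
    rw [h3] at h4
    exact Four.not_cm_self hF mL h4
  have hq := (hp.eq_or_quasisimple hF mL).resolve_left hne
  exact ⟨hF, ty_fam hT _, hp.core, hq.1, hq.2.1, hq.2.2, fun J hJ hJD => (Four.le_pc_iff hF hJ mL).1 hJD, mL, le_pc⟩

theorem Pc.inf {K L : Subgroup G} (d : Pc Om K L) : ∀ J ∈ restr (fam Om (centralizer {zz K})) (PP Om K L),
    J ⊓ center (PP Om K L) = ⊥ :=
  fun _ hJ => inf_center d.hF d.core d.nmem d.two d.pc hJ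

/-- `MinS` for `D / Z(D)` -/
theorem Pc.minS (m : MinS Om) {K L : Subgroup G} (d : Pc Om K L)
    (h2 : TwoEq (Fq (fam Om (centralizer {zz K})) (PP Om K L))) :
    MinS (Fq (fam Om (centralizer {zz K})) (PP Om K L)) where
  hyp := h2.hyp
  ty := ty_Fq d.ty d.inf
  ne := ⟨_, _, subgroupOf_mem_restr d.mem d.le, rfl⟩
  cls := fun A hA B hB => by
    obtain ⟨g, hg⟩ := h2.cls A hA B hB
    exact ⟨g, hg.symm⟩
  simple := d.qs.2
  ind := by
    have hle : Nat.card (PP Om K L ⧸ center (PP Om K L)) ≤ Nat.card G := by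
      calc Nat.card (PP Om K L ⧸ center (PP Om K L)) ≤ Nat.card (PP Om K L) :=
            Nat.card_le_card_of_surjective _ (QuotientGroup.mk'_surjective _)
        _ ≤ Nat.card (HQ (centralizer ({zz K} : Set G))) :=
            Nat.card_le_card_of_injective _ (PP Om K L).subtype_injective
        _ ≤ Nat.card (centralizer ({zz K} : Set G)) := Nat.card_le_card_of_surjective _ (qm_surjective _)
        _ ≤ Nat.card G := Nat.card_le_card_of_injective _ (centralizer ({zz K} : Set G)).subtype_injective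
    exact fun Y _ _ hY Om' h3 h4 h5 => m.ind Y (hY.trans_le hle) Om' h3 h4 h5

/-- **the piece has type `B 3` in case (B)** -/
theorem Pc.tyPiece (hB : CoreTwoEqId.BChart.{u}) (m : MinS Om) {K L : Subgroup G} (d : Pc Om K L)
    (h2 : TwoEq (Fq (fam Om (centralizer {zz K})) (PP Om K L)))
    (hb : CoreTwoEq.CaseB (Fq (fam Om (centralizer {zz K})) (PP Om K L))) :
    TyPiece (fam Om (centralizer {zz K})) (PP Om K L) (.B 3) := by
  obtain ⟨-, p, c, hc, ⟨E, i1, i2, hE, hsl⟩, hZ⟩ := hB _ _ (d.minS m h2) h2 hb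
  refine ⟨d.nmem, d.qs, d.two, p, chart d.hF d.qs d.two d.inf h2.hyp c, hc, ?_, ⟨E, i1, i2, hE, ?_⟩,
    Or.inl (chart_ZX d.hF d.qs d.two d.inf h2.hyp c hZ)⟩
  · intro h1
    change Fintype.card c.I ≤ 2 at h1
    rw [hc.card] at h1
    exact absurd h1 (by decide)
  · intro r hr
    have hm := (chart d.hF d.qs d.two d.inf h2.hyp c).om r hr
    have hle := sup_le_of_chart (chart d.hF d.qs d.two d.inf h2.hyp c) hr
    obtain ⟨A, hA, ⟨e⟩⟩ := exists_equiv d.hF d.two d.inf hm hle
    obtain ⟨f⟩ := hsl A hA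
    exact ⟨f.trans e⟩

/-- **case (B) does not occur** -/
theorem not_caseB (hB : CoreTwoEqId.BChart.{u}) (m : MinS Om) (hc : Card Om 3) (con : CoreThree.Con Om)
    {S : Sylow 2 G} {K L M : Subgroup G} (t : ThreeC.Tr Om S K L M)
    (h2 : TwoEq (Fq (fam Om (centralizer {zz K})) (PP Om K L))) :
    ¬ CoreTwoEq.CaseB (Fq (fam Om (centralizer {zz K})) (PP Om K L)) := by
  intro hb
  have d := pc_of m con t
  have h1 := d.tyPiece hB m h2 hb
  exact ThreeC.not_B_three ThreeC.bThreeA ThreeC.bThreeX m hc con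
    fun S' K' hK' L' hL' hne' => ThreeC.typed_of m con t.K t.L t.KL hK' hL' hne' h1

/-- the same for adjacent members -/
theorem not_caseB_adj (hB : CoreTwoEqId.BChart.{u}) (m : MinS Om) (hc : Card Om 3) (con : CoreThree.Con Om)
    {K L : Subgroup G} (ha : ∃ S : Sylow 2 G, K ∈ OmS Om (S : Subgroup G) ∧ L ∈ OmS Om (S : Subgroup G)) (hne : L ≠ K)
    (h2 : TwoEq (Fq (fam Om (centralizer {zz K})) (PP Om K L))) :
    ¬ CoreTwoEq.CaseB (Fq (fam Om (centralizer {zz K})) (PP Om K L)) := by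
  obtain ⟨S, hK, hL⟩ := ha
  obtain ⟨M, t⟩ := ThreeC.exists_tr hc S hK hL hne.symm
  exact not_caseB hB m hc con t h2

end Main

end Cfsg.Agent.Cit.ThreeIdB
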