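import Cfsg.Agent.Cit.ThreeDich
import Cfsg.Agent.Cit.ThreeIdB
import Cfsg.Agent.Cit.ThreeCEnd

/-!
# `|Om(S)| = 3`, `z₁ z₂ z₃ = 1`: the cores, from `IdentTwo` and `BChart`

* `noB` : the case (B) does not occur in the pieces `D / Z(D)` (helper373);
* `dichStmt` : the dichotomy (helper724);
* `cores3` : **the cores** (`CoreThree.CoresFourStmt`).
-/

set_option autoImplicit false

namespace Cfsg.Agent.Cit.Cores3

open Subgroup Cfsg Cfsg.Agent.Cit

universe u

/-- the case (B) does not occur -/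
theorem noB (hB : CoreTwoEqId.BChart.{u}) : ThreeDich.NoBStmt.{u} :=
  fun _ _ _ _ m hp hcon _ ht _ _ l =>
    ThreeIdB.not_caseB_adj hB m hp.three hcon l.adj l.ne (ThreeDich.exists_blk2 m ht l).twoEq

/-- the dichotomy -/
theorem dichStmt (hI : CoreTwoEqId.IdentTwo.{u}) (hB : CoreTwoEqId.BChart.{u}) : ThreeCores.DichStmt.{u} :=
  ThreeDich.dich hI (noB hB)

/-- **the cores for `z₁ z₂ z₃ = 1`** -/
theorem cores3 (i : Sp4.In.{u}) (hct : CoresG.CTStmt.{u}) (hI : CoreTwoEqId.IdentTwo.{u})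
    (hB : CoreTwoEqId.BChart.{u}) : CoreThree.CoresFourStmt.{u} :=
  ThreeCores.coresFour i hct (dichStmt hI hB) ThreeC.typeStmt_main

end Cfsg.Agent.Cit.Cores3
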