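import Cfsg.Agent.Cit.FrameGood
import Cfsg.Agent.Cit.CoreTwoB
import Cfsg.Agent.Cit.CoresComm
import Cfsg.Agent.Cit.CT
import Cfsg.Agent.Cit.UseT
import Cfsg.Agent.HNType.Alt
import Cfsg.Agent.S0144

/-!
# The pieces and the subgroup `E = ⟨zz K : K ∈ Om(T)⟩` for groups with `O(X) = 1`

`T` a Sylow 2-subgroup of `X`, `E = ES Om T`, `HasPieces Om`.

* `dichotomy` : for a piece `D = pc Om K`, either `C_E(D)` has index at most two in `E`, or `D` has a chart and is
  generated by elements `y` of `p`-power order such that `C_E(y)` has index at most two in `E`;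
* `sSup_le_half` : all members are generated by such elements;
* `component_le_good` : each component of `X` is generated by elements `y` with `GoodAt E y`.
-/

set_option autoImplicit false
set_option linter.style.haveILetI false

namespace Cfsg.Agent.Cit.CoresH

open Subgroup Cfsg Cfsg.Agent.Cit Cfsg.Agent.Cit.Comp Cfsg.Agent.Cit.CoreTwoB Cfsg.Agent.Cit.FrameGood
open Cfsg.Agent.SignalizersComponents.Components

variable {G : Type*} [Group G] [Finite G] {Om : Set (Subgroup G)}

/-! ### Two commuting members in a group `D` with `D / Z(D) = M₁₁` -/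

omit [Finite G] in
theorem mem_center_iff_coe {D : Subgroup G} {x : G} (hx : x ∈ D) :
    (⟨x, hx⟩ : D) ∈ center D ↔ ∀ y ∈ D, y * x = x * y := by
  rw [Subgroup.mem_center_iff]
  constructor
  · exact fun h y hy => congrArg Subtype.val (h ⟨y, hy⟩)
  · exact fun h y => Subtype.ext (h y y.2)

/-- the involution of a member contained properly in a quasisimple group is not central -/
theorem zz_notMem_center (h : Hyp Om) {D K : Subgroup G} (hD : IsQuasisimple D) (hK : K ∈ Om) (hKD : K ≤ D)
    (hDO : D ∉ Om) : (⟨zz K, hKD (h.zz_mem hK)⟩ : D) ∉ center D := by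
  intro hc
  rw [mem_center_iff_coe] at hc
  have h1 : D ≤ centralizer {zz K} := fun y hy => mem_centralizer_singleton_iff.2 (hc y hy)
  have h2 : (K.subgroupOf D).IsSubnormal := by
    have h3 := (h.sub K hK).comap (inclusion h1)
    exact h3
  rcases quasisimple_subnormal hD h2 with h3 | h3
  · apply hDO
    rw [← le_antisymm hKD (subgroupOf_eq_top.1 h3)]
    exact hK
  · refine h.not_le_centralizer_self hK fun x hx y hy => ?_
    have h4 : (⟨x, hKD hx⟩ : D) ∈ center D := h3 hx
    exact (mem_center_iff_coe _).1 h4 y (hKD hy)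

omit [Finite G] in
/-- the centre of a generalised quaternion group -/
theorem GQ_center {Q : Subgroup G} {c v z : G} {n : ℕ} (hq : GQ Q c v z n) {a : G} (ha : a ∈ Q)
    (h : ∀ x ∈ Q, a * x = x * a) : a = 1 ∨ a = z := by
  by_cases h1 : a = 1
  · exact Or.inl h1
  right
  refine hq.eq_z ha ?_ h1
  rcases hq.cov a ha with ⟨i, rfl⟩ | ⟨i, rfl⟩
  · have h2 := h v hq.v_mem
    rw [hq.conj_pow] at h2
    have h3 := mul_right_cancel h2
    nth_rewrite 1 [h3]
    exact inv_mul_cancel _
  · exfalso
    apply hq.not_comm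
    have h2 := h c hq.c_mem
    have h3 : v * c * c ^ i = c * v * c ^ i := by
      calc v * c * c ^ i = v * c ^ i * c := by rw [mul_assoc, mul_assoc, ← pow_succ, ← pow_succ']
        _ = c * v * c ^ i := by rw [h2, mul_assoc]
    exact mul_right_cancel h3

theorem thirtytwo_dvd {M Q R : Type*} [Group M] [Finite M] [Group Q] [Group R] [Finite Q] [Finite R]
    (f : Q →* M) (g : R →* M) (hf : Function.Injective f) (hg : Function.Injective g)
    (hc : ∀ a b, f a * g b = g b * f a) (hQ : 8 ∣ Nat.card Q) (hR : 8 ∣ Nat.card R) (z : Q)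
    (hz : ∀ a : Q, (∀ x : Q, a * x = x * a) → a = 1 ∨ a = z) : 32 ∣ Nat.card M := by
  let ψ : Q × R →* M := MonoidHom.noncommCoprod f g hc
  have hψ : ∀ a b, ψ (a, b) = f a * g b := fun a b => rfl
  have h1 : Nat.card ψ.ker * Nat.card ψ.range = Nat.card Q * Nat.card R := by
    rw [← Nat.card_prod Q R, ← Subgroup.card_mul_index ψ.ker, Subgroup.index_ker]
  have h2 : Nat.card ψ.ker ≤ 2 := by
    classical
    let F : ψ.ker → Bool := fun x => decide (x.1.1 = 1)
    have hF : Function.Injective F := by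
      have key : ∀ x : ψ.ker, x.1.1 = 1 ∨ x.1.1 = z := by
        intro x
        apply hz
        intro y
        have h3 : f x.1.1 * g x.1.2 = 1 := x.2
        have h4 : f x.1.1 = (g x.1.2)⁻¹ := eq_inv_of_mul_eq_one_left h3
        apply hf
        rw [map_mul, map_mul, h4]
        have h5 := hc y x.1.2
        rw [inv_mul_eq_iff_eq_mul, ← mul_assoc, ← h5, mul_assoc, mul_inv_cancel, mul_one]
      have key2 : ∀ x y : ψ.ker, x.1.1 = y.1.1 → x = y := by
        intro x y hxy
        have h3 : f x.1.1 * g x.1.2 = 1 := x.2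
        have h4 : f y.1.1 * g y.1.2 = 1 := y.2
        rw [hxy] at h3
        have h5 : g x.1.2 = g y.1.2 := mul_left_cancel (h3.trans h4.symm)
        exact Subtype.ext (Prod.ext hxy (hg h5))
      intro x y hxy
      apply key2
      have h3 : (x.1.1 = 1) ↔ (y.1.1 = 1) := decide_eq_decide.1 hxy
      by_cases hx : x.1.1 = 1
      · rw [hx, h3.1 hx]
      · rw [(key x).resolve_left hx, (key y).resolve_left fun h => hx (h3.2 h)]
    have h3 := Nat.card_le_card_of_injective F hF
    rwa [Nat.card_eq_fintype_card (α := Bool), Fintype.card_bool] at h3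
  have h3 : 64 ∣ Nat.card ψ.ker * Nat.card ψ.range := by
    rw [h1]; exact Nat.mul_dvd_mul hQ hR
  have h4 : 0 < Nat.card ψ.ker := Nat.card_pos
  have h5 : 32 ∣ Nat.card ψ.range := by
    have h6 : Nat.card ψ.ker = 1 ∨ Nat.card ψ.ker = 2 := by omega
    rcases h6 with h6 | h6 <;> rw [h6] at h3 <;> omega
  exact h5.trans (card_subgroup_dvd_card _)

theorem eight_dvd (h : Hyp Om) {M S : Subgroup G} (hS : IsPGroup 2 S) (hM : M ∈ OmS Om S) :
    8 ∣ Nat.card (M ⊓ S : Subgroup G) := by
  obtain ⟨n, ⟨e⟩⟩ := h.isGQ hM.1 (syl_inf hS hM)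
  haveI : NeZero (2 ^ (n + 1)) := ⟨by positivity⟩
  rw [Nat.card_congr e.toEquiv, Nat.card_eq_fintype_card, QuaternionGroup.card]
  exact ⟨2 ^ n, by ring⟩

/-- commuting quaternion groups in `M₁₁` : impossible -/
theorem not_comm_of_card (h : Hyp Om) {D K J S : Subgroup G} (hS : IsPGroup 2 S) (hK : K ∈ OmS Om S)
    (hJ : J ∈ OmS Om S) (hKD : K ≤ D) (hJD : J ≤ D) (hD : IsQuasisimple D) (hDO : D ∉ Om)
    (hcard : ¬ 32 ∣ Nat.card (D ⧸ center D)) (hc : ∀ a ∈ K, ∀ b ∈ J, a * b = b * a) : False := by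
  haveI : Fact (Nat.Prime 2) := ⟨Nat.prime_two⟩
  let φ : D →* D ⧸ center D := QuotientGroup.mk' (center D)
  let F : ∀ M ∈ OmS Om S, M ≤ D → ((M ⊓ S : Subgroup G) →* D ⧸ center D) :=
    fun M _ hMD => φ.comp (inclusion (inf_le_left.trans hMD))
  -- `φ` is injective on the Sylow 2-subgroups of the members
  have hinj : ∀ M (hM : M ∈ OmS Om S) (hMD : M ≤ D), Function.Injective (F M hM hMD) := by
    intro M hM hMD
    rw [injective_iff_map_eq_one]
    intro x hx1
    by_contra hne
    obtain ⟨c, v, n, hq⟩ := h.exists_gq hM.1 (syl_inf hS hM)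
    have h3 : (⟨(x : G), hMD x.2.1⟩ : D) ∈ center D := (QuotientGroup.eq_one_iff _).1 hx1
    -- the involution is a power of `x`
    obtain ⟨k, hk⟩ := (syl_inf hS hM).2.1 x
    have hk' : (x : G) ^ 2 ^ k = 1 := congrArg Subtype.val hk
    have hne' : (x : G) ≠ 1 := fun h => hne (Subtype.ext h)
    have h4 : zz M ∈ zpowers (x : G) := by
      obtain ⟨j, hj1, hj2⟩ : ∃ j, (x : G) ^ 2 ^ j ≠ 1 ∧ (x : G) ^ 2 ^ (j + 1) = 1 := by
        classical
        have hex : ∃ n, (x : G) ^ 2 ^ n = 1 := ⟨k, hk'⟩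
        have h5 := Nat.find_spec hex
        have h6 : Nat.find hex ≠ 0 := by
          intro h0
          rw [h0, pow_zero, pow_one] at h5
          exact hne' h5
        obtain ⟨j, hj⟩ := Nat.exists_eq_succ_of_ne_zero h6
        refine ⟨j, Nat.find_min hex (by omega), ?_⟩
        rw [← Nat.succ_eq_add_one, ← hj]
        exact h5
      have h5 : (x : G) ^ 2 ^ j = zz M := by
        refine hq.eq_z (Subgroup.pow_mem _ x.2 _) ?_ hj1
        rw [← pow_add, ← two_mul, ← pow_succ']
        exact hj2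
      rw [← h5]
      exact pow_mem (mem_zpowers _) _
    apply zz_notMem_center h hD hM.1 hMD hDO
    rw [mem_center_iff_coe]
    intro y hy
    have h5 : zpowers (x : G) ≤ centralizer {y} := by
      rw [zpowers_le, mem_centralizer_singleton_iff]
      exact ((mem_center_iff_coe (hMD x.2.1)).1 h3 y hy).symm
    exact (mem_centralizer_singleton_iff.1 (h5 h4)).symm
  obtain ⟨c, v, n, hq⟩ := h.exists_gq hK.1 (syl_inf hS hK)
  refine hcard (thirtytwo_dvd (F K hK hKD) (F J hJ hJD) (hinj K hK hKD) (hinj J hJ hJD) ?_ (eight_dvd h hS hK)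
    (eight_dvd h hS hJ) ⟨zz K, hq.z_mem⟩ ?_)
  · intro a b
    change φ _ * φ _ = φ _ * φ _
    rw [← map_mul, ← map_mul]
    congr 1
    exact Subtype.ext (hc a a.2.1 b b.2.1)
  · intro a ha
    rcases GQ_center hq a.2 (fun x hx => congrArg Subtype.val (ha ⟨x, hx⟩)) with h1 | h1
    · exact Or.inl (Subtype.ext h1)
    · exact Or.inr (Subtype.ext h1)

/-! ### Pieces -/

omit [Finite G] in
theorem sSup_normal (h : Hyp Om) : (sSup Om : Subgroup G).Normal := by
  refine ⟨fun n hn g => ?_⟩
  have h1 : cj g (sSup Om) ≤ sSup Om := by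
    rw [Cit.cj_le_iff]
    refine sSup_le fun K hK => ?_
    rw [← Cit.cj_le_iff]
    exact le_sSup (h.conj K hK g)
  exact h1 (conj_mem_cj hn)

omit [Finite G] in
theorem pc_le_sSup {K : Subgroup G} (hK : K ∈ Om) : pc Om K ≤ sSup Om :=
  sSup_le fun _ hJ => le_sSup (chn_mem hK hJ)

omit [Finite G] in
theorem pc_isSubnormal (h : Hyp Om) {K : Subgroup G} (hK : K ∈ Om) : (pc Om K).IsSubnormal := by
  have h1 : ((pc Om K).subgroupOf (sSup Om)).Normal :=
    (normal_subgroupOf_iff_le_normalizer (pc_le_sSup hK)).2 (sSup_le_normalizer_pc hK)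
  exact IsSubnormal.step _ _ (pc_le_sSup hK) (sSup_normal h).isSubnormal h1

theorem relIndex_of_unique (h : Hyp Om) {T D : Subgroup G} (hT : IsPGroup 2 T)
    (hD : ∀ J ∈ OmS Om T, J ≤ D ∨ J ≤ centralizer (D : Set G))
    (hu : ∀ J ∈ OmS Om T, ∀ M ∈ OmS Om T, J ≤ D → M ≤ D → J ≠ M → zz J * zz M ∈ centralizer (D : Set G)) :
    (ES Om T ⊓ centralizer (D : Set G)).relIndex (ES Om T) ≤ 2 := by
  by_cases hF : ∃ J ∈ OmS Om T, J ≤ D
  · obtain ⟨J, hJ, hJD⟩ := hF
    have hz : zz J ∈ ES Om T := zz_mem_ES hJ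
    have hzz := h.zz_mul hJ.1
    have hzi := h.zz_inv hJ.1
    refine relIndex_le_two_of hz fun e he => ?_
    have hcom : ∀ a ∈ ES Om T, zz J * a = a * zz J := fun a ha => ES_comm h hT hz ha
    rw [hzi]
    change e ∈ closure (zz '' OmS Om T) at he
    induction he using closure_induction with
    | mem x hx =>
      obtain ⟨M, hM, rfl⟩ := hx
      rcases hD M hM with h1 | h1
      · right
        by_cases hJM : J = M
        · rw [← hJM, hzz]
          exact one_mem _
        · exact hu J hJ M hM hJD h1 hJM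
      · exact Or.inl (h1 (h.zz_mem hM.1))
    | one => exact Or.inl (one_mem _)
    | mul x y hx hy ihx ihy =>
      rcases ihx with ihx | ihx <;> rcases ihy with ihy | ihy
      · exact Or.inl (mul_mem ihx ihy)
      · right
        rw [← mul_assoc, hcom x hx, mul_assoc]
        exact mul_mem ihx ihy
      · right
        rw [← mul_assoc]
        exact mul_mem ihx ihy
      · left
        have h1 := mul_mem ihx ihy
        have h2 : zz J * x * (zz J * y) = x * y := by
          rw [hcom x hx, mul_assoc, ← mul_assoc (zz J), hzz, one_mul]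
        rwa [h2] at h1
    | inv x hx ih =>
      rcases ih with ih | ih
      · exact Or.inl (inv_mem ih)
      · right
        have h1 := inv_mem ih
        rwa [hcom x hx, mul_inv_rev, hzi] at h1
  · have h1 : ES Om T ≤ centralizer (D : Set G) := by
      rw [ES_le_iff]
      intro K hK
      rcases hD K hK with h1 | h1
      · exact absurd ⟨K, hK, h1⟩ hF
      · exact h1 (h.zz_mem hK.1)
    rw [inf_eq_left.2 h1, relIndex_self]
    omega

/-- **the dichotomy for the pieces** -/
theorem dichotomy (h : Hyp Om) (hp : HasPieces Om) {T : Subgroup G} (hT : IsPGroup 2 T)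
    {K : Subgroup G} (hK : K ∈ Om) :
    (ES Om T ⊓ centralizer (pc Om K : Set G)).relIndex (ES Om T) ≤ 2 ∨
      ∃ p, Nonempty (Nodes.Chart.Chart Om p (pc Om K)) ∧
        pc Om K ≤ closure (Half p (pc Om K) (ES Om T)) := by
  have hD : ∀ J ∈ OmS Om T, J ≤ pc Om K ∨ J ≤ centralizer (pc Om K : Set G) := by
    intro J hJ
    by_cases he : pc Om J = pc Om K
    · left; rw [← he]; exact le_pc
    · right; exact le_pc.trans (pc_comm hJ.1 hK he)
  have hcomm' : ∀ J ∈ OmS Om T, ∀ M ∈ OmS Om T, J ≠ M → J ≤ centralizer (M : Set G) := fun J hJ M hM hne =>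
    UseT.comm_of_core h hp.core hT hJ hM hne
  have hcomm : ∀ J ∈ OmS Om T, ∀ M ∈ OmS Om T, J ≠ M → ∀ a ∈ J, ∀ b ∈ M, a * b = b * a :=
    fun J hJ M hM hne a ha b hb => (mem_centralizer_iff.1 (hcomm' J hJ M hM hne ha) b hb).symm
  have hne : pc Om K ∉ Om → IsQuasisimple (pc Om K) := fun hn => ((hp.piece h hK).quasisimple hn).1
  by_cases hKO : pc Om K ∈ Om
  · left
    refine relIndex_of_unique h hT hD fun J hJ M hM hJK hMK hJM => ?_
    exact absurd ((h.eq_of_le hJ.1 hKO hJK).trans (h.eq_of_le hM.1 hKO hMK).symm) hJM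
  rcases hp.piece h hK with hm | ⟨_, _, _, p, c, _⟩ | ⟨qs, two, p, prime, odd, iso, ne, zzc, three⟩ |
    ⟨qs, two, iso, ne, mem⟩
  · exact absurd hm hKO
  · right
    refine ⟨p, ⟨c⟩, ?_⟩
    refine le_closure_half h c (S := Cit.zz '' OmS Om T) (F := {J | J ∈ OmS Om T ∧ J ≤ pc Om K})
      (fun J hJ => ⟨hJ.1.1, hJ.2⟩) (fun J hJ M hM hne => hcomm J hJ.1 M hM.1 hne) ?_
    rintro _ ⟨J, hJ, rfl⟩
    rcases hD J hJ with h1 | h1
    · exact Or.inr ⟨J, ⟨hJ, h1⟩, rfl⟩
    · exact Or.inl (h1 (h.zz_mem hJ.1))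
  · left
    refine relIndex_of_unique h hT hD fun J hJ M hM hJK hMK hJM => ?_
    rw [mem_centralizer_iff]
    exact fun d hd => (zzc J hJ.1 M hM.1 hJK hMK hJM (hcomm' J hJ M hM hJM) d hd).symm
  · left
    refine relIndex_of_unique h hT hD fun J hJ M hM hJK hMK hJM => ?_
    exfalso
    refine not_comm_of_card h hT hJ hM hJK hMK qs hKO ?_ (hcomm J hJ M hM hJM)
    obtain ⟨e⟩ := iso
    rw [Nat.card_congr e.toEquiv, HNType.Alt.card_M11]
    omega

theorem relIndex_mono {E A B : Subgroup G} (h : A ≤ B) (h2 : A.relIndex E ≤ 2) : B.relIndex E ≤ 2 :=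
  (relIndex_le_of_le_left h (index_ne_zero_of_finite (H := A.subgroupOf E))).trans h2

/-- all members are generated by elements centralised by a subgroup of index at most two of `E` -/
theorem sSup_le_half (h : Hyp Om) (hp : HasPieces Om) {T : Subgroup G} (hT : IsPGroup 2 T) :
    sSup Om ≤ closure {y | (ES Om T ⊓ centralizer {y}).relIndex (ES Om T) ≤ 2} := by
  refine sSup_le fun K hK => (le_pc (Om := Om)).trans ?_
  rcases dichotomy h hp hT hK with h1 | ⟨p, -, h1⟩
  · intro y hy
    refine Subgroup.subset_closure (relIndex_mono (inf_le_inf_left _ ?_) h1)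
    intro x hx
    rw [mem_centralizer_singleton_iff]
    exact (mem_centralizer_iff.1 hx y hy).symm
  · exact h1.trans (closure_mono fun y hy => hy.2.2)

theorem ES_le_normalizer_pc (h : Hyp Om) {T K : Subgroup G} (hK : K ∈ Om) :
    ES Om T ≤ normalizer (pc Om K : Set G) := by
  rw [ES_le_iff]
  exact fun J hJ => le_normalizer_pc hK hJ.1 (h.zz_mem hJ.1)

set_option maxRecDepth 100000 in
theorem card_X : Nat.card SolvTwo.X = 24 := by
  rw [Nat.card_eq_fintype_card]
  decide +kernel

/-- a component which is not centralised by `E` is a piece -/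
theorem component_eq_pc (h : Hyp Om) (ty : ∀ K ∈ Om, Ty K) (hp : HasPieces Om) {L : Subgroup G} (hL : IsComponent L)
    {K : Subgroup G} (hK : K ∈ Om) (hKL : ¬ L ≤ centralizer {zz K}) : L = pc Om K := by
  have h1 : L ≤ pc Om K := by
    rcases component_le_or_commutator_eq_bot hL (pc_isSubnormal h hK) with h1 | h1
    · exact h1
    · exfalso
      apply hKL
      rw [commutator_eq_bot_iff_le_centralizer] at h1
      exact h1.trans (centralizer_le (Set.singleton_subset_iff.2 (le_pc (h.zz_mem hK))))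
  by_contra hne
  have h2 : IsQuasisimple (pc Om K) := by
    rcases hp.eq_or_quasisimple h hK with h3 | h3
    · rw [h3]
      by_cases hT : SolvTwo.IsT K
      · exfalso
        rw [h3] at h1
        -- `K` of type `SL₂(3)` is solvable
        have h4 : oddCore K = ⊥ := by
          have h5 := hp.core K hK
          rw [OO_def] at h5
          exact (Subgroup.map_eq_bot_iff_of_injective _ K.subtype_injective).1 h5
        obtain ⟨e⟩ := hT
        let e' : K ≃* SolvTwo.X := (QuotientGroup.quotientBot.symm.trans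
          (QuotientGroup.quotientMulEquivOfEq h4.symm)).trans e
        have h6 : Nat.card K = 2 ^ 3 * 3 ^ 1 := by rw [Nat.card_congr e'.toEquiv, card_X]; norm_num
        have h7 : Group.IsSolvable K := S0144.result 2 3 3 1 Nat.prime_two Nat.prime_three h6
        exact quasisimple_not_isSolvable hL.2
          (Group.isSolvable_of_isSolvable_injective (f := inclusion h1) (inclusion_injective h1))
      · exact CoresComm.quasisimple_of_not_isT (ty K hK) hT (hp.core K hK)
    · exact h3.2.1
  have h3 : IsComponent (pc Om K) := ⟨pc_isSubnormal h hK, h2⟩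
  have h4 : ∀ x ∈ L, ∀ y ∈ L, x * y = y * x := fun x hx y hy => comm_of_ne hL h3 hne hx (h1 hy)
  exact quasisimple_not_isMulCommutative hL.2 ⟨⟨fun x y => Subtype.ext (h4 x x.2 y y.2)⟩⟩

/-- **each component is generated by good elements** -/
theorem component_le_good (h : Hyp Om) (ty : ∀ K ∈ Om, Ty K) (hp : HasPieces Om) {T : Subgroup G}
    (hT : IsPGroup 2 T) (hO : pPrimeCore 2 G = ⊥) (hev : EvQ G)
    (hfix : ∀ (p : ℕ) (D : Subgroup G), IsComponent D → Nonempty (Nodes.Chart.Chart Om p D) → CT.FixP p D)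
    {L : Subgroup G} (hL : IsComponent L) : L ≤ closure {y | GoodAt (ES Om T) y} := by
  -- elements of the component commute with `XX b` if `b` centralises the component
  have key : ∀ {y : G}, y ∈ L → (ES Om T ⊓ centralizer (L : Set G)).relIndex (ES Om T) ≤ 2 →
      GoodAt (ES Om T) y := by
    intro y hy h1
    refine ⟨ES Om T ⊓ centralizer (L : Set G), inf_le_left, h1, fun b hb hb1 => ⟨?_, fun x hx => ?_⟩⟩
    · exact (mem_centralizer_iff.1 hb.2 y hy).symm
    · have h2 : L ≤ centralizer {b} := by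
        intro l hl
        rw [mem_centralizer_singleton_iff]
        exact mem_centralizer_iff.1 hb.2 l hl
      exact mem_centralizer_iff.1 (component_le_centralizer_XX hev hL h2 hy) x hx
  by_cases hE : ES Om T ≤ centralizer (L : Set G)
  · intro y hy
    refine Subgroup.subset_closure (key hy ?_)
    rw [inf_eq_left.2 hE, relIndex_self]
    omega
  · obtain ⟨K, hK, hKL⟩ : ∃ K ∈ OmS Om T, ¬ L ≤ centralizer {zz K} := by
      by_contra hcon
      push Not at hcon
      apply hE
      rw [ES_le_iff]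
      intro K hK
      rw [mem_centralizer_iff]
      exact fun l hl => mem_centralizer_singleton_iff.1 (hcon K hK hl)
    have hLK := component_eq_pc h ty hp hL hK.1 hKL
    rcases dichotomy h hp hT hK.1 with h1 | ⟨p, ⟨c⟩, h1⟩
    · rw [← hLK] at h1
      exact fun y hy => Subgroup.subset_closure (key hy h1)
    · have : Fact p.Prime := ⟨c.prime⟩
      have hF := hfix p (pc Om K) (hLK ▸ hL) ⟨c⟩
      rw [hLK]
      refine h1.trans (closure_mono ?_)
      rintro y ⟨hyL, hyp, hyi⟩
      refine ⟨ES Om T ⊓ centralizer {y}, inf_le_left, hyi, fun b hb hb1 => ?_⟩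
      have hby := mem_centralizer_singleton_iff.1 hb.2
      refine ⟨hby, fun x hx => ?_⟩
      have hb2 := ES_sq h hT hb.1
      exact (hF.comm hb2 (ES_le_normalizer_pc h hK.1 hb.1) hx (XX_le_normalizer hO hb2 (hLK ▸ hL) hx) hyL
        hby.symm hyp).symm

end Cfsg.Agent.Cit.CoresH
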