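import Mathlib
import Cfsg.Agent.Nodes.Slope
import Cfsg.Agent.Nodes.ChartLoc

/-!
# The order of a unipotent group is the product of the orders of its root groups (project CIT)

* `card_split`, `card_Sup` : `|Sup X S| = ∏_{x ∈ S} |X x|` for a closed set `S` of roots in an open half space;
* `card_VV` : the same for `VV r`.
-/

set_option autoImplicit false
set_option linter.unusedSectionVars false

namespace Cfsg.Agent.Cit.DCard

open CoxeterSystem Cfsg.Agent.ChevalleyStructure.CoxeterGeom Cfsg.Agent.Tits.Roots Cfsg.Agent.Tits.Core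
  Cfsg.Agent.Nodes.Reps Cfsg.Agent.Nodes.BNOf Cfsg.Agent.Nodes.Slope Cfsg.Agent.Nodes.ChartLoc
  Cfsg.Agent.Nodes.OppDec Cfsg.Agent.Nodes.Comb

variable {I W Y : Type*} [Fintype I] [DecidableEq I] [Group W] [Fintype W] [Group Y] {M : CoxeterMatrix I}
  {cs : CoxeterSystem M W} {A : I → I → ℤ} {h : IsCartan M A} {p : ℕ} {T : Subgroup Y} {n : I → Y}
  {X : (I → ℤ) → Subgroup Y}

theorem card_split (R : RGD cs h p T n X) {S : Set (I → ℤ)} (hS : Closed cs h S) (lam ell : (I → ℤ) →+ ℤ)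
    (hl : ∀ x ∈ S, 0 < lam x) : Nat.card (RGD.Sup X S) =
      Nat.card (RGD.Sup X {x | x ∈ S ∧ 0 < ell x}) * Nat.card (RGD.Sup X {x | x ∈ S ∧ ell x ≤ 0}) := by
  rw [← Nat.card_prod]
  have h1 : RGD.Sup X {x | x ∈ S ∧ 0 < ell x} ≤ RGD.Sup X S := RGD.Sup_mono fun x hx => hx.1
  have h2 : RGD.Sup X {x | x ∈ S ∧ ell x ≤ 0} ≤ RGD.Sup X S := RGD.Sup_mono fun x hx => hx.1
  refine (Nat.card_congr (Equiv.ofBijective
    (fun q : ↥(RGD.Sup X {x | x ∈ S ∧ 0 < ell x}) × ↥(RGD.Sup X {x | x ∈ S ∧ ell x ≤ 0}) =>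
      (⟨q.1 * q.2, mul_mem (h1 q.1.2) (h2 q.2.2)⟩ : ↥(RGD.Sup X S))) ⟨?_, ?_⟩)).symm
  · rintro ⟨⟨a, ha⟩, ⟨c, hc⟩⟩ ⟨⟨a', ha'⟩, ⟨c', hc'⟩⟩ e
    have e1 : a * c = a' * c' := congrArg Subtype.val e
    have e2 : a'⁻¹ * a = c' * c⁻¹ := by
      rw [inv_mul_eq_iff_eq_mul, ← mul_assoc, ← e1, mul_inv_cancel_right]
    have e3 : a'⁻¹ * a = 1 := by
      refine sup_inf_sup' R ell lam (RGD.Sup_mono (S := {x | x ∈ S ∧ 0 < ell x})
        (S' := {x | IsRoot cs h x ∧ 0 < ell x}) (fun x hx => ⟨hS.root x hx.1, hx.2⟩)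
        (mul_mem (inv_mem ha') ha)) ?_
      · rw [e2]
        exact RGD.Sup_mono (S := {x | x ∈ S ∧ ell x ≤ 0}) (S' := {x | IsRoot cs h x ∧ ell x ≤ 0 ∧ 0 < lam x})
          (fun x hx => ⟨hS.root x hx.1, hx.2, hl x hx.1⟩) (mul_mem hc' (inv_mem hc))
    have e4 : a = a' := (inv_mul_eq_one.1 e3).symm
    subst e4
    have e5 : c = c' := mul_left_cancel e1
    subst e5
    rfl
  · rintro ⟨u, hu⟩
    obtain ⟨a, ha, c, hc, rfl⟩ := split R hS lam ell hl hu
    exact ⟨⟨⟨a, ha⟩, ⟨c, hc⟩⟩, rfl⟩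

/-- **The order of `Sup X S`.** -/
theorem card_Sup (R : RGD cs h p T n X) (lam : (I → ℤ) →+ ℤ) : ∀ (k : ℕ) (s : Finset (I → ℤ)), s.card = k →
    Closed cs h (s : Set (I → ℤ)) → (∀ x ∈ s, 0 < lam x) →
    Nat.card (RGD.Sup X (s : Set (I → ℤ))) = ∏ x ∈ s, Nat.card (X x) := by
  classical
  intro k
  induction k using Nat.strong_induction_on with
  | _ k ih =>
    intro s hk hS hl
    rcases Nat.lt_or_ge s.card 2 with h2 | h2
    · rcases Nat.lt_or_ge s.card 1 with h1 | h1
      · have h0 : s = ∅ := Finset.card_eq_zero.1 (by omega)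
        subst h0
        rw [Finset.coe_empty, Sup_empty, Finset.prod_empty, Subgroup.card_bot]
      · obtain ⟨x, rfl⟩ := Finset.card_eq_one.1 (show s.card = 1 by omega)
        rw [Finset.prod_singleton, Finset.coe_singleton]
        have : RGD.Sup X ({x} : Set (I → ℤ)) = X x := by
          apply le_antisymm
          · refine RGD.Sup_le ?_
            rintro y rfl
            exact le_rfl
          · exact RGD.le_Sup (S := ({x} : Set (I → ℤ))) rfl
        rw [this]
    · obtain ⟨a, ha, b, hb, hab⟩ := Finset.one_lt_card.1 (show 1 < s.card by omega)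
      obtain ⟨mu, hmu⟩ := exists_sep (cs := cs) (h := h) (S := (s : Set (I → ℤ))) hS.root lam hl
      obtain ⟨ell, h3, h4⟩ : ∃ ell : (I → ℤ) →+ ℤ, (∃ x ∈ s, 0 < ell x) ∧ ∃ x ∈ s, ell x ≤ 0 := by
        have hval : ∀ x, (lam a • mu - mu a • lam : (I → ℤ) →+ ℤ) x = lam a * mu x - mu a * lam x := fun x => by
          rw [AddMonoidHom.sub_apply, AddMonoidHom.smul_apply, AddMonoidHom.smul_apply, smul_eq_mul, smul_eq_mul]
        have h5 : lam a * mu b - mu a * lam b ≠ 0 := by
          intro h6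
          apply hab
          exact hmu a ha b hb (by linarith)
        rcases lt_or_gt_of_ne h5 with h6 | h6
        · refine ⟨-(lam a • mu - mu a • lam), ⟨b, hb, ?_⟩, a, ha, ?_⟩
          · rw [AddMonoidHom.neg_apply, hval]
            linarith
          · rw [AddMonoidHom.neg_apply, hval]
            have : lam a * mu a - mu a * lam a = 0 := by ring
            linarith
        · refine ⟨lam a • mu - mu a • lam, ⟨b, hb, ?_⟩, a, ha, ?_⟩
          · rw [hval]
            exact h6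
          · rw [hval]
            have : lam a * mu a - mu a * lam a = 0 := by ring
            linarith
      have e1 : {x | x ∈ (s : Set (I → ℤ)) ∧ 0 < ell x} = ((s.filter fun x => 0 < ell x : Finset (I → ℤ)) :
          Set (I → ℤ)) := by
        ext x
        simp
      have e2 : {x | x ∈ (s : Set (I → ℤ)) ∧ ell x ≤ 0} = ((s.filter fun x => ¬ 0 < ell x : Finset (I → ℤ)) :
          Set (I → ℤ)) := by
        ext x
        simp
      rw [card_split R hS lam ell hl, ← Finset.prod_filter_mul_prod_filter_not s (fun x => 0 < ell x)]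
      have c1 : (s.filter fun x => 0 < ell x).card < s.card := by
        obtain ⟨x, hx, hx0⟩ := h4
        refine Finset.card_lt_card (Finset.filter_ssubset.2 ⟨x, hx, by omega⟩)
      have c2 : (s.filter fun x => ¬ 0 < ell x).card < s.card := by
        obtain ⟨x, hx, hx0⟩ := h3
        refine Finset.card_lt_card (Finset.filter_ssubset.2 ⟨x, hx, by omega⟩)
      congr 1
      · rw [e1]
        refine ih _ (by omega) _ rfl ?_ fun x hx => hl x (Finset.mem_filter.1 hx).1
        rw [← e1]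
        exact hS.pos ell
      · rw [e2]
        refine ih _ (by omega) _ rfl ?_ fun x hx => hl x (Finset.mem_filter.1 hx).1
        rw [← e2]
        exact hS.nonpos ell

/-- `x ↦ (x, r)` -/
noncomputable def fh (cs : CoxeterSystem M W) (h : IsCartan M A) (r : I → ℤ) : (I → ℤ) →+ ℤ where
  toFun x := form cs h x r
  map_zero' := by
    have h1 := form_smul_left cs h 0 0 r
    rw [zero_smul, zero_mul] at h1
    exact h1
  map_add' x y := form_add_left cs h x y r

theorem fh_apply (r x : I → ℤ) : fh cs h r x = form cs h x r := rfl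

/-- **The order of `VV r`.** -/
theorem card_VV (R : RGD cs h p T n X) (r : I → ℤ) (s : Finset (I → ℤ))
    (hs : ∀ y, y ∈ s ↔ IsRoot cs h y ∧ 0 < form cs h y r) :
    Nat.card (VV cs h X r) = ∏ x ∈ s, Nat.card (X x) := by
  have e : (s : Set (I → ℤ)) = {y | y ∈ {y | IsRoot cs h y} ∧ 0 < fh cs h r y} := by
    ext y
    exact hs y
  have h1 := card_Sup R (fh cs h r) s.card s rfl (by rw [e]; exact closed_univ.pos (fh cs h r))
    fun x hx => ((hs x).1 hx).2
  rw [← h1, e]
  rfl

end Cfsg.Agent.Cit.DCard
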