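import Mathlib
import Cfsg.Agent.Nodes.KindC
import Cfsg.Agent.Nodes.OppDec
import Cfsg.Agent.Nodes.Slope
import Cfsg.Agent.Nodes.PairOf
import Cfsg.Agent.Nodes.ChartLoc

/-!
# Type `C 2`: coordinates

`fc k` : the `k`-th `ε`-coordinate; `rr = 2 ε₀`, `ss = 2 ε₁`, `yp = ε₀ + ε₁`, `ym = ε₀ - ε₁` and the roots strictly
between two of them.
-/

set_option autoImplicit false
set_option linter.unusedSectionVars false

namespace Cfsg.Agent.Cit.DTwoCoord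

open CoxeterSystem Cfsg.Agent.ChevalleyStructure.CoxeterGeom Cfsg.Agent.Tits.Roots Cfsg.Agent.Tits.Core
  Cfsg.Agent.Tits.RootComb Cfsg.Agent.Nodes.Comb Cfsg.Agent.Nodes.Reps Cfsg.Agent.Nodes.BNOf
  Cfsg.Agent.Nodes.Coroot Cfsg.Agent.Nodes.PairOf Cfsg.Agent.Nodes.OppDec Cfsg.Agent.Nodes.Bruhat
  Cfsg.Agent.Nodes.TypeC Cfsg.Agent.Nodes.KindBC Cfsg.Agent.Nodes.TypeCForm
open scoped commutatorElement

/-- the `k`-th `ε`-coordinate -/
def fc (k : Fin 2) : (Fin 2 → ℤ) →+ ℤ where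
  toFun x := ee x k
  map_zero' := by
    have := congrFun (ee_smul (n := 2) 0 0) k
    rw [zero_smul, zero_smul] at this
    exact this
  map_add' x y := congrFun (ee_add x y) k

theorem fc_apply (k : Fin 2) (x : Fin 2 → ℤ) : fc k x = ee x k := rfl

theorem fc_rt (k : Fin 2) (a b : Fin 2 × Bool) : fc k (rt a b) = wt a k + wt b k := by
  rw [fc_apply, ee_rt, Pi.add_apply]

theorem eq_of_fc {x y : Fin 2 → ℤ} (h0 : fc 0 x = fc 0 y) (h1 : fc 1 x = fc 1 y) : x = y := by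
  apply ee_injective
  funext k
  fin_cases k
  · exact h0
  · exact h1

theorem wt_val (i : Fin 2) (s : Bool) (k : Fin 2) : wt (i, s) k = if k = i then (if s then 1 else -1) else 0 :=
  wt_apply _ _

/-! ### The roots -/

def rr : Fin 2 → ℤ := rt (0, true) (0, true)
def ss : Fin 2 → ℤ := rt (1, true) (1, true)
def yp : Fin 2 → ℤ := rt (0, true) (1, true)
def ym : Fin 2 → ℤ := rt (0, true) (1, false)

theorem fc_rr : fc 0 rr = 2 ∧ fc 1 rr = 0 := by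
  simp only [rr, fc_rt, wt_val]; decide
theorem fc_ss : fc 0 ss = 0 ∧ fc 1 ss = 2 := by
  simp only [ss, fc_rt, wt_val]; decide
theorem fc_yp : fc 0 yp = 1 ∧ fc 1 yp = 1 := by
  simp only [yp, fc_rt, wt_val]; decide
theorem fc_ym : fc 0 ym = 1 ∧ fc 1 ym = -1 := by
  simp only [ym, fc_rt, wt_val]; decide

variable {W : Type*} [Group W] {cs : CoxeterSystem (CoxeterMatrix.B 2) W}

theorem root_rt {a b : Fin 2 × Bool} (h : Ok a b) : IsRoot cs (isCartan 2) (rt a b) := isRoot_rt cs h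

theorem root_rr : IsRoot cs (isCartan 2) rr := root_rt (by unfold Ok; decide)
theorem root_ss : IsRoot cs (isCartan 2) ss := root_rt (by unfold Ok; decide)
theorem root_yp : IsRoot cs (isCartan 2) yp := root_rt (by unfold Ok; decide)
theorem root_ym : IsRoot cs (isCartan 2) ym := root_rt (by unfold Ok; decide)

theorem rr_mem : rr ∈ RC 2 := mem_RC.2 ⟨(0, true), rfl⟩
theorem ss_mem : ss ∈ RC 2 := mem_RC.2 ⟨(1, true), rfl⟩

/-- the coordinates of a root -/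
theorem coords {x : Fin 2 → ℤ} (hx : IsRoot cs (isCartan 2) x) :
    ((fc 0 x = 1 ∨ fc 0 x = -1) ∧ (fc 1 x = 1 ∨ fc 1 x = -1)) ∨
    (fc 0 x = 0 ∧ (fc 1 x = 2 ∨ fc 1 x = -2)) ∨ (fc 1 x = 0 ∧ (fc 0 x = 2 ∨ fc 0 x = -2)) := by
  obtain ⟨⟨i, s⟩, ⟨j, t⟩, hab, rfl⟩ := exists_rt hx
  simp only [fc_rt, wt_val]
  clear hx
  revert hab
  unfold Ok
  revert i s j t
  decide

/-- strictly between, in coordinates -/
theorem btwn_fc {x y z : Fin 2 → ℤ} (hz : Btwn cs (isCartan 2) x y z) :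
    IsRoot cs (isCartan 2) z ∧ ∃ m a b : ℤ, 0 < m ∧ 0 < a ∧ 0 < b ∧ m * fc 0 z = a * fc 0 x + b * fc 0 y ∧
      m * fc 1 z = a * fc 1 x + b * fc 1 y := by
  obtain ⟨hr, m, a, b, hm, ha, hb, he⟩ := hz
  have key : ∀ k, m * fc k z = a * fc k x + b * fc k y := by
    intro k
    have := congrArg (fc k) he
    rwa [map_zsmul, map_add, map_zsmul, map_zsmul, smul_eq_mul, smul_eq_mul, smul_eq_mul] at this
  exact ⟨hr, m, a, b, hm, ha, hb, key 0, key 1⟩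

/-- no root strictly between; the two hypotheses are the coordinates of the two roots -/
macro "c2_none" p:term:max q:term:max : tactic => `(tactic| (
  intro z hz
  obtain ⟨hr, m, a, b, hm, ha, hb, e0, e1⟩ := btwn_fc hz
  obtain ⟨p0, p1⟩ := $p
  obtain ⟨q0, q1⟩ := $q
  simp only [map_neg, p0, p1, q0, q1] at e0 e1
  rcases coords hr with ⟨h0 | h0, h1 | h1⟩ | ⟨h0, h1 | h1⟩ | ⟨h0, h1 | h1⟩ <;> simp only [h0, h1] at e0 e1 <;>
    omega))

theorem btwn_rr_yp : ∀ z, ¬ Btwn cs (isCartan 2) rr yp z := by c2_none fc_rr fc_yp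
theorem btwn_rr_ym : ∀ z, ¬ Btwn cs (isCartan 2) rr ym z := by c2_none fc_rr fc_ym
theorem btwn_nyp_nss : ∀ z, ¬ Btwn cs (isCartan 2) (-yp) (-ss) z := by c2_none fc_yp fc_ss
theorem btwn_ym_rr : ∀ z, ¬ Btwn cs (isCartan 2) ym rr z := by c2_none fc_ym fc_rr

/-- the roots between `ε₀ + ε₁` and `ε₀ - ε₁` -/
theorem btwn_yp_ym : ∀ z, Btwn cs (isCartan 2) yp ym z → z = rr := by
  intro z hz
  obtain ⟨hr, m, a, b, hm, ha, hb, e0, e1⟩ := btwn_fc hz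
  obtain ⟨p0, p1⟩ := fc_yp
  obtain ⟨q0, q1⟩ := fc_ym
  simp only [p0, p1, q0, q1] at e0 e1
  have key : fc 0 z = 2 ∧ fc 1 z = 0 := by
    rcases coords hr with ⟨h0 | h0, h1 | h1⟩ | ⟨h0, h1 | h1⟩ | ⟨h0, h1 | h1⟩ <;> simp only [h0, h1] at e0 e1 <;>
      omega
  exact eq_of_fc (by rw [key.1, fc_rr.1]) (by rw [key.2, fc_rr.2])

theorem btwn_nyp_ym : ∀ z, Btwn cs (isCartan 2) (-yp) ym z → z = -ss := by
  intro z hz
  obtain ⟨hr, m, a, b, hm, ha, hb, e0, e1⟩ := btwn_fc hz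
  obtain ⟨p0, p1⟩ := fc_yp
  obtain ⟨q0, q1⟩ := fc_ym
  simp only [map_neg, p0, p1, q0, q1] at e0 e1
  have key : fc 0 z = 0 ∧ fc 1 z = -2 := by
    rcases coords hr with ⟨h0 | h0, h1 | h1⟩ | ⟨h0, h1 | h1⟩ | ⟨h0, h1 | h1⟩ <;> simp only [h0, h1] at e0 e1 <;>
      omega
  exact eq_of_fc (by rw [key.1, map_neg, fc_ss.1, neg_zero]) (by rw [key.2, map_neg, fc_ss.2])

theorem btwn_nss_yp : ∀ z, Btwn cs (isCartan 2) (-ss) yp z → z = ym ∨ z = rr := by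
  intro z hz
  obtain ⟨hr, m, a, b, hm, ha, hb, e0, e1⟩ := btwn_fc hz
  obtain ⟨p0, p1⟩ := fc_ss
  obtain ⟨q0, q1⟩ := fc_yp
  simp only [map_neg, p0, p1, q0, q1] at e0 e1
  have key : (fc 0 z = 1 ∧ fc 1 z = -1) ∨ (fc 0 z = 2 ∧ fc 1 z = 0) := by
    rcases coords hr with ⟨h0 | h0, h1 | h1⟩ | ⟨h0, h1 | h1⟩ | ⟨h0, h1 | h1⟩ <;> simp only [h0, h1] at e0 e1 <;>
      omega
  rcases key with key | key
  · exact Or.inl (eq_of_fc (by rw [key.1, fc_ym.1]) (by rw [key.2, fc_ym.2]))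
  · exact Or.inr (eq_of_fc (by rw [key.1, fc_rr.1]) (by rw [key.2, fc_rr.2]))

theorem btwn_ss_ym : ∀ z, Btwn cs (isCartan 2) ss ym z → z = yp ∨ z = rr := by
  intro z hz
  obtain ⟨hr, m, a, b, hm, ha, hb, e0, e1⟩ := btwn_fc hz
  obtain ⟨p0, p1⟩ := fc_ss
  obtain ⟨q0, q1⟩ := fc_ym
  simp only [p0, p1, q0, q1] at e0 e1
  have key : (fc 0 z = 1 ∧ fc 1 z = 1) ∨ (fc 0 z = 2 ∧ fc 1 z = 0) := by
    rcases coords hr with ⟨h0 | h0, h1 | h1⟩ | ⟨h0, h1 | h1⟩ | ⟨h0, h1 | h1⟩ <;> simp only [h0, h1] at e0 e1 <;>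
      omega
  rcases key with key | key
  · exact Or.inl (eq_of_fc (by rw [key.1, fc_yp.1]) (by rw [key.2, fc_yp.2]))
  · exact Or.inr (eq_of_fc (by rw [key.1, fc_rr.1]) (by rw [key.2, fc_rr.2]))

/-! ### Cartan numbers -/

section

variable [Fintype W]

theorem cpr_rr (x : Fin 2 → ℤ) : cpr cs (isCartan 2) x rr = fc 0 x := by
  rw [rr, cpr_rt_self cs x, fc_apply]
  simp [sn]

theorem cpr_ss (x : Fin 2 → ℤ) : cpr cs (isCartan 2) x ss = fc 1 x := by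
  rw [ss, cpr_rt_self cs x, fc_apply]
  simp [sn]

theorem cpr_yp (x : Fin 2 → ℤ) : cpr cs (isCartan 2) x yp = fc 0 x + fc 1 x := by
  rw [yp, cpr_rt cs x (by decide), fc_apply, fc_apply]
  simp [sn]

theorem cpr_ym (x : Fin 2 → ℤ) : cpr cs (isCartan 2) x ym = fc 0 x - fc 1 x := by
  rw [ym, cpr_rt cs x (by decide), fc_apply, fc_apply]
  simp [sn, sub_eq_add_neg]

theorem form_sign (x : Fin 2 → ℤ) {q : Fin 2 → ℤ} (hq : IsRoot cs (isCartan 2) q) :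
    (0 < form cs (isCartan 2) x q ↔ 0 < cpr cs (isCartan 2) x q) ∧
      (0 ≤ form cs (isCartan 2) x q ↔ 0 ≤ cpr cs (isCartan 2) x q) ∧
      (form cs (isCartan 2) x q = 0 ↔ cpr cs (isCartan 2) x q = 0) := by
  have h1 := two_form_cpr cs (isCartan 2) x hq
  have h2 : 0 < form cs (isCartan 2) q q := form_pos cs (isCartan 2) hq.ne_zero
  refine ⟨⟨fun h => ?_, fun h => ?_⟩, ⟨fun h => ?_, fun h => ?_⟩, ⟨fun h => ?_, fun h => ?_⟩⟩
  · by_contra h3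
    nlinarith
  · nlinarith
  · by_contra h3
    nlinarith
  · nlinarith
  · rw [h, mul_zero] at h1
    rcases mul_eq_zero.1 h1.symm with h3 | h3
    · exact h3
    · omega
  · rw [h, zero_mul] at h1
    omega

/-- two roots with different coordinates -/
theorem ne_of_fc {x y : Fin 2 → ℤ} (k : Fin 2) (h : fc k x ≠ fc k y) : x ≠ y := fun e => h (by rw [e])

/-- the roots with positive product with `2 ε₀` -/
theorem pos_rr {y : Fin 2 → ℤ} (hy : IsRoot cs (isCartan 2) y) (h0 : 0 < fc 0 y) : y = rr ∨ y = yp ∨ y = ym := by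
  have key : (fc 0 y = 2 ∧ fc 1 y = 0) ∨ (fc 0 y = 1 ∧ fc 1 y = 1) ∨ (fc 0 y = 1 ∧ fc 1 y = -1) := by
    rcases coords hy with ⟨h1 | h1, h2 | h2⟩ | ⟨h1, h2 | h2⟩ | ⟨h1, h2 | h2⟩ <;> omega
  rcases key with key | key | key
  · exact Or.inl (eq_of_fc (by rw [key.1, fc_rr.1]) (by rw [key.2, fc_rr.2]))
  · exact Or.inr (Or.inl (eq_of_fc (by rw [key.1, fc_yp.1]) (by rw [key.2, fc_yp.2])))
  · exact Or.inr (Or.inr (eq_of_fc (by rw [key.1, fc_ym.1]) (by rw [key.2, fc_ym.2])))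

end

end Cfsg.Agent.Cit.DTwoCoord
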