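import Cfsg.Agent.Nodes.ChartLoc
import Cfsg.Agent.Nodes.ClsMap
import Cfsg.Agent.Nodes.Coroot

/-!
# Two orthogonal classical roots with the same involution (project CIT)

`C : Cls cs h p T n X R Z z`, `r, r' ∈ R` orthogonal of the same length.

* `cpr_add_eq_zero` : a root `x` with `(x, r) > 0`, `(x, r') < 0` has `⟨x, r∨⟩ + ⟨x, r'∨⟩ = 0`;
* `quad` : `⁅⁅VV r, Z r'⁆, Z r'⁆ ≤ Z r`;
* if `z r = z r'`: `X_eq_Z`, `form_ne` (a root `y ≠ ± r` not orthogonal to `r` is not orthogonal to `r'`),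
  `exists_pos_pos`, and `exists_not_comm` : `VV r` is not abelian.
-/

set_option autoImplicit false
set_option linter.unusedSectionVars false

namespace Cfsg.Agent.Cit.TwinRoots

open CoxeterSystem Cfsg.Agent.ChevalleyStructure.CoxeterGeom Cfsg.Agent.Tits.Roots Cfsg.Agent.Tits.Core
  Cfsg.Agent.Tits.RootComb Cfsg.Agent.Nodes.Comb Cfsg.Agent.Nodes.Reps Cfsg.Agent.Nodes.BNOf
  Cfsg.Agent.Nodes.RGDLib Cfsg.Agent.Nodes.Chart Cfsg.Agent.Nodes.StabComb Cfsg.Agent.Nodes.Bruhat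
  Cfsg.Agent.Nodes.ClsNorm Cfsg.Agent.Nodes.ChartLoc Cfsg.Agent.Nodes.Coroot
open scoped commutatorElement

variable {I W Y : Type*} [Fintype I] [DecidableEq I] [Group W] [Fintype W] [Group Y] {M : CoxeterMatrix I}
  {cs : CoxeterSystem M W} {A : I → I → ℤ} {h : IsCartan M A}

/-! ### Roots -/

section Roots

variable {r r' : I → ℤ} (hr : IsRoot cs h r) (hr' : IsRoot cs h r') (h0 : form cs h r r' = 0)
  (hf : form cs h r r = form cs h r' r')

include hr hr' h0 hf

/-- Bessel's inequality. -/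
theorem bessel (x : I → ℤ) : (cpr cs h x r ^ 2 + cpr cs h x r' ^ 2) * form cs h r r ≤ 4 * form cs h x x := by
  set a := cpr cs h x r with ha
  set b := cpr cs h x r' with hb
  have h1 := two_form_cpr cs h x hr
  have h2 := two_form_cpr cs h x hr'
  rw [← ha] at h1
  rw [← hb] at h2
  have h3 : 0 ≤ form cs h ((2 : ℤ) • x - a • r - b • r') ((2 : ℤ) • x - a • r - b • r') := form_nonneg cs h _
  have e : form cs h ((2 : ℤ) • x - a • r - b • r') ((2 : ℤ) • x - a • r - b • r') =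
      4 * form cs h x x - (a ^ 2 + b ^ 2) * form cs h r r := by
    simp only [sub_eq_add_neg, ← neg_smul, form_add_left, form_add_right, form_smul_left, form_smul_right]
    rw [form_comm cs h r x, form_comm cs h r' x, form_comm cs h r' r, h0, ← hf]
    rw [← hf] at h2
    linear_combination (-2 * a) * h1 + (-2 * b) * h2
  linarith

/-- the two coefficients are opposite -/
theorem cpr_add_eq_zero {x : I → ℤ} (hx : IsRoot cs h x) (h1 : 0 < form cs h x r) (h2 : form cs h x r' < 0) :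
    cpr cs h x r + cpr cs h x r' = 0 := by
  have hb : 0 < cpr cs h x r := (cpr_pos_iff cs h x hr).2 h1
  have ha : 0 < -cpr cs h x r' := by
    rw [← cpr_neg_right cs h x hr']
    refine (cpr_pos_iff cs h x hr'.neg).2 ?_
    rw [form_neg_right]; omega
  set b := cpr cs h x r with hbdef
  set a := cpr cs h x r' with hadef
  set f := form cs h r r with hfdef
  set m := form cs h x x with hmdef
  have hm : 0 < m := form_pos cs h hx.ne_zero
  have hfp : 0 < f := form_pos cs h hr.ne_zero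
  have h3 := bessel hr hr' h0 hf x
  rw [← hbdef, ← hadef, ← hfdef, ← hmdef] at h3
  -- integrality
  have e1 := two_form_cpr cs h x hr
  have e2 := two_form_cpr cs h x hr'
  have e3 := two_form_cpr cs h r hx
  have e4 := two_form_cpr cs h r' hx
  rw [form_comm] at e3 e4
  rw [← hbdef, ← hfdef] at e1
  rw [← hadef, ← hf] at e2
  rw [← hmdef] at e3 e4
  set β := cpr cs h r x
  set α := cpr cs h r' x
  have e5 : β * m = b * f := by rw [← e3, e1]
  have e6 : α * m = a * f := by rw [← e4, e2]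
  have hβ : 1 ≤ β := by
    by_contra h5
    have h6 : β ≤ 0 := by omega
    nlinarith [mul_pos hb hfp]
  have hα : α ≤ -1 := by
    by_contra h5
    have h6 : 0 ≤ α := by omega
    nlinarith [mul_pos ha hfp]
  -- `b² + a² ≤ 4 b`
  have h7 : b ^ 2 + a ^ 2 ≤ 4 * b := by
    by_contra h5
    have h6 : 4 * b + 1 ≤ b ^ 2 + a ^ 2 := by omega
    nlinarith [mul_pos hfp hfp]
  have h8 : b ^ 2 + a ^ 2 ≤ -4 * a := by
    by_contra h5
    have h6 : -4 * a + 1 ≤ b ^ 2 + a ^ 2 := by omega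
    nlinarith [mul_pos hfp hfp]
  have hb4 : b ≤ 4 := by nlinarith
  have ha4 : -4 ≤ a := by nlinarith
  have ha1 : a ≤ -1 := by omega
  interval_cases b <;> interval_cases a <;> omega

/-- the roots between a root with `(y, r) > 0`, `(y, r') < 0` and `r'` -/
theorem btwn_pos {y m : I → ℤ} (hy : IsRoot cs h y) (h1 : 0 < form cs h y r) (h2 : form cs h y r' < 0)
    (hm : Btwn cs h y r' m) : 0 < form cs h m r ∧ 0 ≤ form cs h m r' := by
  obtain ⟨hmr, k, c, d, hk, hc, hd, e⟩ := hm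
  have e1 : k * form cs h m r = c * form cs h y r := by
    rw [← form_smul_left, e, form_add_left, form_smul_left, form_smul_left, form_comm cs h r' r, h0]; ring
  have h3 : 0 < form cs h m r := by
    by_contra h5
    nlinarith [mul_pos hc h1]
  refine ⟨h3, ?_⟩
  by_contra h4
  have h5 := cpr_add_eq_zero hr hr' h0 hf hy h1 h2
  have h6 := cpr_add_eq_zero hr hr' h0 hf hmr h3 (not_le.1 h4)
  have e2 : k * cpr cs h m r = c * cpr cs h y r := by
    rw [← cpr_smul cs h k m hr, e, cpr_add cs h _ _ hr, cpr_smul cs h c y hr, cpr_smul cs h d r' hr,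
      (cpr_zero_iff cs h r' hr).2 (by rw [form_comm]; exact h0)]
    ring
  have e3 : k * cpr cs h m r' = c * cpr cs h y r' + d * 2 := by
    rw [← cpr_smul cs h k m hr', e, cpr_add cs h _ _ hr', cpr_smul cs h c y hr', cpr_smul cs h d r' hr',
      cpr_self cs h hr']
  have e4 : k * (cpr cs h m r + cpr cs h m r') = c * (cpr cs h y r + cpr cs h y r') + d * 2 := by
    rw [mul_add, e2, e3]; ring
  rw [h5, h6] at e4
  omega

end Roots

/-! ### Groups -/

variable {p : ℕ} {T : Subgroup Y} {n : I → Y} {X : (I → ℤ) → Subgroup Y} {R : Set (I → ℤ)}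
  {Z : (I → ℤ) → Subgroup Y} {z : (I → ℤ) → Y}

variable (C : Cls cs h p T n X R Z z)

include C

/-- `X y` centralises `Z r` if `(y, r) ≥ 0` -/
theorem comm_Z {r : I → ℤ} (hr : r ∈ R) {y : I → ℤ} (hy : IsRoot cs h y) (h0 : 0 ≤ form cs h y r) {a b : Y}
    (ha : a ∈ X y) (hb : b ∈ Z r) : ⁅a, b⁆ = 1 :=
  commutatorElement_eq_one_iff_mul_comm.2 (C.cent r hr y hy h0 a ha b hb)

/-- `X y`, `(y, r) = 0`, normalises `VV r` -/
theorem X_le_normalizer_VV {r : I → ℤ} {y : I → ℤ} (hy : IsRoot cs h y)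
    (h0 : form cs h y r = 0) : X y ≤ Subgroup.normalizer (VV cs h X r : Set Y) := by
  refine C.rgd.le_normalizer hy fun x hx => ⟨hx.1, Or.inr ⟨?_, ?_⟩⟩
  · rintro rfl
    rw [form_neg_left] at h0
    have := hx.2
    omega
  · rintro m ⟨hmr, k, c, d, hk, hc, hd, e⟩
    refine ⟨hmr, ?_⟩
    have e1 : k * form cs h m r = d * form cs h x r := by
      rw [← form_smul_left, e, form_add_left, form_smul_left, form_smul_left, h0]; ring
    by_contra h5
    nlinarith [mul_pos hd hx.2]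

/-- `VV r` is normalised by `Z r'`, `r'` orthogonal to `r` -/
theorem conj_VV {r r' : I → ℤ} (hr' : r' ∈ R) (h0 : form cs h r r' = 0) {v x : Y} (hv : v ∈ VV cs h X r)
    (hx : x ∈ Z r') : x * v * x⁻¹ ∈ VV cs h X r := by
  have h1 := X_le_normalizer_VV C (C.root r' hr') (by rw [form_comm]; exact h0) (C.le r' hr' hx)
  exact (Subgroup.mem_normalizer_iff.1 h1 v).1 hv

theorem comm_mem {r r' : I → ℤ} (hr' : r' ∈ R) (h0 : form cs h r r' = 0) {v x : Y} (hv : v ∈ VV cs h X r)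
    (hx : x ∈ Z r') : ⁅v, x⁆ ∈ VV cs h X r := by
  have h1 : ⁅v, x⁆ = v * (x * v⁻¹ * x⁻¹) := by rw [commutatorElement_def]; group
  rw [h1]
  exact mul_mem hv (conj_VV C hr' h0 (inv_mem hv) hx)

/-- **`Z r'` acts quadratically on `VV r / Z r`.** -/
theorem quad (hp2 : p ≠ 2) [Fact p.Prime] [Finite Y] {r r' : I → ℤ} (hr : r ∈ R) (hr' : r' ∈ R)
    (h0 : form cs h r r' = 0) (hf : form cs h r r = form cs h r' r') {v : Y} (hv : v ∈ VV cs h X r) {x x' : Y}
    (hx : x ∈ Z r') (hx' : x' ∈ Z r') : ⁅⁅v, x⁆, x'⁆ ∈ Z r := by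
  have hder : ∀ a ∈ VV cs h X r, ∀ b ∈ VV cs h X r, ⁅a, b⁆ ∈ Z r := fun a ha b hb =>
    commutator_VV_le C hp2 hr (Subgroup.commutator_mem_commutator ha hb)
  have hZ : ∀ m ∈ Z r, ∀ k ∈ Z r', ⁅m, k⁆ = 1 := fun m hm k hk =>
    comm_Z C hr' (C.root r hr) h0.ge (C.le r hr hm) hk
  -- additivity modulo `Z r`
  have hadd : ∀ c ∈ VV cs h X r, ∀ d ∈ VV cs h X r, ∀ k ∈ Z r', ∃ m ∈ Z r, ⁅c * d, k⁆ = ⁅c, k⁆ * ⁅d, k⁆ * m := by
    intro c hc d hd k hk
    have e1 : ⁅c * d, k⁆ = c * ⁅d, k⁆ * c⁻¹ * ⁅c, k⁆ := by simp only [commutatorElement_def]; group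
    have e2 : c * ⁅d, k⁆ * c⁻¹ = ⁅c, ⁅d, k⁆⁆ * ⁅d, k⁆ := by rw [commutatorElement_def c ⁅d, k⁆]; group
    have hdk := comm_mem C hr' h0 hd hk
    have hck := comm_mem C hr' h0 hc hk
    have m1 := hder c hc _ hdk
    have m2 := hder _ hdk _ hck
    refine ⟨⁅c, ⁅d, k⁆⁆ * ⁅⁅d, k⁆, ⁅c, k⁆⁆, mul_mem m1 m2, ?_⟩
    rw [e1, e2]
    have e3 : ⁅d, k⁆ * ⁅c, k⁆ = ⁅⁅d, k⁆, ⁅c, k⁆⁆ * (⁅c, k⁆ * ⁅d, k⁆) := by
      rw [commutatorElement_def ⁅d, k⁆ ⁅c, k⁆]; group
    have c2 := VV_comm C hr m2 (mul_mem hck hdk)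
    have c3 := VV_comm C hr m1 (mul_mem hck hdk)
    calc ⁅c, ⁅d, k⁆⁆ * ⁅d, k⁆ * ⁅c, k⁆ = ⁅c, ⁅d, k⁆⁆ * (⁅d, k⁆ * ⁅c, k⁆) := by group
      _ = ⁅c, ⁅d, k⁆⁆ * (⁅⁅d, k⁆, ⁅c, k⁆⁆ * (⁅c, k⁆ * ⁅d, k⁆)) := by rw [e3]
      _ = ⁅c, ⁅d, k⁆⁆ * ((⁅c, k⁆ * ⁅d, k⁆) * ⁅⁅d, k⁆, ⁅c, k⁆⁆) := by rw [c2]
      _ = (⁅c, ⁅d, k⁆⁆ * (⁅c, k⁆ * ⁅d, k⁆)) * ⁅⁅d, k⁆, ⁅c, k⁆⁆ := by group
      _ = ⁅c, k⁆ * ⁅d, k⁆ * (⁅c, ⁅d, k⁆⁆ * ⁅⁅d, k⁆, ⁅c, k⁆⁆) := by rw [c3]; group
  have hmod : ∀ c ∈ VV cs h X r, ∀ m ∈ Z r, ∀ k ∈ Z r', ⁅c * m, k⁆ = ⁅c, k⁆ := by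
    intro c _ m hm k hk
    have e1 : ⁅c * m, k⁆ = c * ⁅m, k⁆ * c⁻¹ * ⁅c, k⁆ := by simp only [commutatorElement_def]; group
    rw [e1, hZ m hm k hk]; group
  suffices hC : v ∈ VV cs h X r ∧ ∀ x ∈ Z r', ∀ x' ∈ Z r', ⁅⁅v, x⁆, x'⁆ ∈ Z r from hC.2 x hx x' hx'
  refine Subgroup.iSup_induction
    (fun y : {y | IsRoot cs h y ∧ 0 < form cs h y r} => X y.1)
    (C := fun v => v ∈ VV cs h X r ∧ ∀ x ∈ Z r', ∀ x' ∈ Z r', ⁅⁅v, x⁆, x'⁆ ∈ Z r) hv ?_ ?_ ?_
  · rintro ⟨y, hy⟩ v hv
    refine ⟨RGD.le_Sup (S := {y | IsRoot cs h y ∧ 0 < form cs h y r}) hy hv, fun x hx x' hx' => ?_⟩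
    rcases le_or_gt 0 (form cs h y r') with h1 | h1
    · rw [comm_Z C hr' hy.1 h1 hv hx, commutatorElement_one_left]
      exact one_mem _
    · have hne : y ≠ r' := by
        rintro rfl
        have := hy.2
        rw [form_comm] at this
        omega
      have hne' : y ≠ -r' := by
        rintro rfl
        have := hy.2
        rw [form_neg_left, form_comm] at this
        omega
      have h2 := C.rgd.comm y r' hy.1 (C.root r' hr') hne hne' v hv x (C.le r' hr' hx)
      have h3 : btw cs h X y r' ≤ Subgroup.centralizer (Z r' : Set Y) := by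
        unfold Nodes.Reps.btw
        refine iSup_le ?_
        rintro ⟨m, hm⟩
        exact X_le_centralizer C hr' hm.1 (btwn_pos (C.root r hr) (C.root r' hr') h0 hf hy.1 hy.2 h1 hm).2
      have h4 : ⁅⁅v, x⁆, x'⁆ = 1 :=
        commutatorElement_eq_one_iff_mul_comm.2 (Subgroup.mem_centralizer_iff.1 (h3 h2) x' hx').symm
      rw [h4]
      exact one_mem _
  · refine ⟨one_mem _, fun x _ x' _ => ?_⟩
    rw [commutatorElement_one_left, commutatorElement_one_left]
    exact one_mem _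
  · rintro a b ⟨ha, ha'⟩ ⟨hb, hb'⟩
    refine ⟨mul_mem ha hb, fun x hx x' hx' => ?_⟩
    obtain ⟨m, hm, e1⟩ := hadd a ha b hb x hx
    have hax := comm_mem C hr' h0 ha hx
    have hbx := comm_mem C hr' h0 hb hx
    rw [e1, hmod _ (mul_mem hax hbx) m hm x' hx']
    obtain ⟨m', hm', e2⟩ := hadd _ hax _ hbx x' hx'
    rw [e2]
    exact mul_mem (mul_mem (ha' x hx x' hx') (hb' x hx x' hx')) hm'

section Twin

variable {r r' : I → ℤ} (hr : r ∈ R) (hr' : r' ∈ R) (h0 : form cs h r r' = 0) (hzz : z r = z r')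

include hr hr' h0 hzz

/-- `X r = Z r` -/
theorem X_eq_Z (hp2 : p ≠ 2) [Fact p.Prime] : X r = Z r := by
  apply le_antisymm _ (C.le r hr)
  intro a ha
  have h1 : a ∈ VV cs h X r := RGD.le_Sup (S := {y | IsRoot cs h y ∧ 0 < form cs h y r})
    ⟨C.root r hr, form_pos cs h (C.root r hr).ne_zero⟩ ha
  refine mem_Z_of_commute C hp2 hr h1 ?_
  rw [hzz]
  have h2 : Z r' ⊔ Z (-r') ≤ Subgroup.centralizer {a} := by
    refine sup_le (fun b hb => ?_) (fun b hb => ?_)
    · rw [Subgroup.mem_centralizer_singleton_iff]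
      exact (C.cent r' hr' r (C.root r hr) h0.ge a ha b hb).symm
    · rw [Subgroup.mem_centralizer_singleton_iff]
      exact (C.cent _ (neg_mem C hr') r (C.root r hr) (by rw [form_neg_right, h0, neg_zero]) a ha b hb).symm
  exact (Subgroup.mem_centralizer_singleton_iff.1 (h2 (C.z_mem r' hr'))).symm

/-- a root `y ≠ ± r` not orthogonal to `r` is not orthogonal to `r'` -/
theorem form_ne (hp2 : p ≠ 2) [Fact p.Prime] {y : I → ℤ} (hy : IsRoot cs h y) (h1 : y ≠ r) (h2 : y ≠ -r)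
    (h3 : form cs h y r ≠ 0) : form cs h y r' ≠ 0 := by
  intro h4
  apply X_ne_bot C.rgd hy
  rw [eq_bot_iff]
  intro a ha
  rw [Subgroup.mem_bot]
  have h5 := C.z_inv r hr y hy h1 h2 h3 a ha
  have h6 : Z r' ⊔ Z (-r') ≤ Subgroup.centralizer {a} := by
    refine sup_le (fun b hb => ?_) (fun b hb => ?_)
    · rw [Subgroup.mem_centralizer_singleton_iff]
      exact (C.cent r' hr' y hy h4.ge a ha b hb).symm
    · rw [Subgroup.mem_centralizer_singleton_iff]
      exact (C.cent _ (neg_mem C hr') y hy (by rw [form_neg_right, h4, neg_zero]) a ha b hb).symm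
  have h7 := Subgroup.mem_centralizer_singleton_iff.1 (h6 (C.z_mem r' hr'))
  rw [← hzz] at h7
  rw [h7, mul_assoc, C.z_sq r hr, mul_one] at h5
  have h8 : a * a ∈ (⊥ : Subgroup Y) := by
    rw [Subgroup.mem_bot]
    nth_rewrite 1 [h5]
    exact inv_mul_cancel a
  exact Subgroup.mem_bot.1 (mem_of_odd_sq C hp2 (odd_of_mem_X C hp2 hy ha) h8)

/-- a root with positive products with `r` and `r'` -/
theorem exists_pos_pos (hp2 : p ≠ 2) [Fact p.Prime] (hne : VV cs h X r ≠ Z r) :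
    ∃ y, IsRoot cs h y ∧ 0 < form cs h y r ∧ 0 < form cs h y r' := by
  have h1 : ∃ y, IsRoot cs h y ∧ 0 < form cs h y r ∧ y ≠ r := by
    by_contra h2
    push Not at h2
    apply hne
    apply le_antisymm _ (Z_le_VV C hr)
    refine RGD.Sup_le fun y hy => ?_
    rw [h2 y hy.1 hy.2, X_eq_Z C hr hr' h0 hzz hp2]
  obtain ⟨y, hy, hyr, hne⟩ := h1
  have hne' : y ≠ -r := by
    rintro rfl
    rw [form_neg_left] at hyr
    have := form_pos cs h (C.root r hr).ne_zero
    omega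
  have h2 := form_ne C hr hr' h0 hzz hp2 hy hne hne' hyr.ne'
  rcases lt_or_gt_of_ne h2 with h3 | h3
  · refine ⟨y - cpr cs h y r' • r', isRoot_refl cs h hy (C.root r' hr'), ?_, ?_⟩
    · rw [sub_eq_add_neg, ← neg_smul, form_add_left, form_smul_left, form_comm cs h r' r, h0, mul_zero, add_zero]
      exact hyr
    · rw [sub_eq_add_neg, ← neg_smul, form_add_left, form_smul_left]
      have := two_form_cpr cs h y (C.root r' hr')
      linarith
  · exact ⟨y, hy, hyr, h3⟩

end Twin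

/-- `⟨X y, X (-y)⟩` is not a `p`-group. -/
theorem not_isPGroup {y : I → ℤ} (hy : IsRoot cs h y) : ¬ IsPGroup p ↥(X y ⊔ X (-y)) := by
  obtain ⟨w, i, rfl⟩ := hy
  obtain ⟨g, hg⟩ := exists_rp cs C.rgd.nsys w
  intro h1
  apply C.rgd.notp i
  have h2 : cj g (X (sr i) ⊔ X (-sr i)) = X (rep cs h w (sr i)) ⊔ X (-(rep cs h w (sr i))) := by
    rw [← map_neg]
    rw [← C.rgd.conj_rp hg (isRoot_sr cs h i), ← C.rgd.conj_rp hg (isRoot_sr cs h i).neg]
    exact Subgroup.map_sup _ _ _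
  rw [← h2] at h1
  exact h1.of_equiv ((X (sr i) ⊔ X (-sr i)).equivMapOfInjective _ (MulAut.conj g).injective).symm

omit [Fintype I] [DecidableEq I] [Group W] [Fintype W] C in
/-- Two `p`-groups whose mutual commutators are central generate a `p`-group. -/
theorem isPGroup_sup {p : ℕ} {P P' : Subgroup Y} (hP : IsPGroup p P) (hP' : IsPGroup p P')
    (h1 : ∀ a ∈ P, ∀ b ∈ P', ∀ c ∈ P, c * ⁅a, b⁆ = ⁅a, b⁆ * c)
    (h2 : ∀ a ∈ P, ∀ b ∈ P', ∀ c ∈ P', c * ⁅a, b⁆ = ⁅a, b⁆ * c) : IsPGroup p ↥(P ⊔ P') := by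
  set D : Subgroup Y := ⁅P, P'⁆ with hD
  have hDP : P ≤ Subgroup.centralizer (D : Set Y) := by
    intro c hc
    rw [Subgroup.mem_centralizer_iff]
    intro d hd
    have h3 : D ≤ Subgroup.centralizer {c} := by
      rw [hD, Subgroup.commutator_le]
      intro a ha b hb
      rw [Subgroup.mem_centralizer_singleton_iff]
      exact (h1 a ha b hb c hc).symm
    exact Subgroup.mem_centralizer_singleton_iff.1 (h3 hd)
  have hDP' : P' ≤ Subgroup.centralizer (D : Set Y) := by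
    intro c hc
    rw [Subgroup.mem_centralizer_iff]
    intro d hd
    have h3 : D ≤ Subgroup.centralizer {c} := by
      rw [hD, Subgroup.commutator_le]
      intro a ha b hb
      rw [Subgroup.mem_centralizer_singleton_iff]
      exact (h2 a ha b hb c hc).symm
    exact Subgroup.mem_centralizer_singleton_iff.1 (h3 hd)
  have hDle : D ≤ P ⊔ P' := Subgroup.commutator_le.2 fun a ha b hb => by
    rw [commutatorElement_def]
    have ha' : a ∈ P ⊔ P' := le_sup_left (a := P) ha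
    have hb' : b ∈ P ⊔ P' := le_sup_right (a := P) hb
    exact mul_mem (mul_mem (mul_mem ha' hb') (inv_mem ha')) (inv_mem hb')
  have hDD : ∀ a ∈ D, ∀ b ∈ D, a * b = b * a := fun a ha b hb =>
    Subgroup.mem_centralizer_iff.1 ((sup_le hDP hDP') (hDle hb)) a ha
  -- `D` is a `p`-group
  have hpD : IsPGroup p D := by
    have key : ∀ x ∈ D, ∃ k : ℕ, x ^ p ^ k = 1 := by
      intro x hx
      have hx' : x ∈ Subgroup.closure {g | ∃ a ∈ P, ∃ b ∈ P', ⁅a, b⁆ = g} := by
        rwa [hD, Subgroup.commutator_def] at hx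
      have hle : Subgroup.closure {g | ∃ a ∈ P, ∃ b ∈ P', ⁅a, b⁆ = g} = D := by
        rw [hD, Subgroup.commutator_def]
      induction hx' using Subgroup.closure_induction with
      | mem y hy =>
        obtain ⟨a, ha, b, hb, rfl⟩ := hy
        obtain ⟨k, hk⟩ := hP ⟨a, ha⟩
        have hk' : a ^ p ^ k = 1 := by
          have := congrArg Subtype.val hk
          simpa using this
        refine ⟨k, ?_⟩
        have e : ∀ m : ℕ, ⁅a ^ m, b⁆ = ⁅a, b⁆ ^ m := by
          intro m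
          induction m with
          | zero => rw [pow_zero, pow_zero, commutatorElement_one_left]
          | succ m ih =>
            have e1 : ⁅a ^ (m + 1), b⁆ = a * ⁅a ^ m, b⁆ * a⁻¹ * ⁅a, b⁆ := by
              rw [pow_succ']; simp only [commutatorElement_def]; group
            have e2 : a * ⁅a, b⁆ ^ m * a⁻¹ = ⁅a, b⁆ ^ m := by
              have : Commute a ⁅a, b⁆ := h1 a ha b hb a ha
              rw [(this.pow_right m).eq, mul_inv_cancel_right]
            rw [e1, ih, e2, pow_succ]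
        rw [← e, hk', commutatorElement_one_left]
      | one => exact ⟨0, one_pow _⟩
      | mul y y' hy hy' ih ih' =>
        rw [hle] at hy hy'
        obtain ⟨k, hk⟩ := ih hy
        obtain ⟨k', hk'⟩ := ih' hy'
        refine ⟨k + k', ?_⟩
        have hc : Commute y y' := hDD y hy y' hy'
        rw [hc.mul_pow, pow_add, pow_mul, hk, one_pow, one_mul, mul_comm (p ^ k), pow_mul, hk', one_pow]
      | inv y hy ih =>
        rw [hle] at hy
        obtain ⟨k, hk⟩ := ih hy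
        exact ⟨k, by rw [inv_pow, hk, inv_one]⟩
    intro x
    obtain ⟨k, hk⟩ := key x x.2
    exact ⟨k, Subtype.ext (by simpa using hk)⟩
  have hPD : IsPGroup p ↥(P ⊔ D) :=
    hP.to_sup_of_normal_right' hpD (hDP.trans (Subgroup.centralizer_le_normalizer _))
  have hN : P' ≤ Subgroup.normalizer ((P ⊔ D : Subgroup Y) : Set Y) := by
    have key : ∀ b ∈ P', cj b (P ⊔ D) ≤ P ⊔ D := by
      intro b hb
      have e1 : cj b (P ⊔ D) = cj b P ⊔ cj b D := Subgroup.map_sup _ _ _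
      rw [e1]
      refine sup_le ?_ ?_
      · intro a ha
        rw [mem_cj] at ha
        have e2 : a = ⁅b⁻¹ * a * b, b⁆⁻¹ * (b⁻¹ * a * b) := by
          rw [commutatorElement_def]; group
        rw [e2]
        exact mul_mem (inv_mem (le_sup_right (a := P) (Subgroup.commutator_mem_commutator ha hb)))
          (le_sup_left (a := P) ha)
      · intro d hd
        rw [mem_cj] at hd
        have h3 := Subgroup.mem_centralizer_iff.1 (hDP' hb) _ hd
        have e2 : d = b⁻¹ * d * b := by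
          have : b * (b⁻¹ * d * b) = d * b := by group
          rw [this] at h3
          exact (mul_right_cancel h3).symm
        rw [e2]
        exact le_sup_right (a := P) hd
    intro b hb
    rw [mem_normalizer_iff_cj]
    apply le_antisymm (key b hb)
    have h3 := cj_mono b (key b⁻¹ (inv_mem hb))
    rwa [cj_cj_inv] at h3
  have hall := hP'.to_sup_of_normal_right' hPD hN
  exact hall.to_le (sup_le (le_sup_left.trans le_sup_right) le_sup_left)

theorem odd_of_mem_VV (hp2 : p ≠ 2) [Fact p.Prime] {r : I → ℤ} {u : Y} (hu : u ∈ VV cs h X r) :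
    Odd (orderOf u) := by
  obtain ⟨k, hk⟩ := isPGroup_VV C r ⟨u, hu⟩
  have hk' : u ^ p ^ k = 1 := by
    have := congrArg Subtype.val hk
    simpa using this
  exact Odd.of_dvd_nat (((Fact.out : p.Prime).odd_of_ne_two hp2).pow) (orderOf_dvd_of_pow_eq_one hk')

/-- `⁅Z r, X y⁆` for a root `y` with negative products with `r`, `r'`, if `VV (-r')` is abelian -/
theorem comm_mem_of_abelian (hp2 : p ≠ 2) [Fact p.Prime] {r r' : I → ℤ} (hr : r ∈ R) (hr' : r' ∈ R)
    (h0 : form cs h r r' = 0) (hf : form cs h r r = form cs h r' r') (hzz : z r = z r') {y : I → ℤ}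
    (hy : IsRoot cs h y) (hyr : form cs h y r < 0) (hyr' : form cs h y r' < 0)
    (hab : ∀ a ∈ VV cs h X (-r'), ∀ b ∈ VV cs h X (-r'), a * b = b * a) {x b : Y} (hx : x ∈ Z r) (hb : b ∈ X y) :
    ⁅x, b⁆ ∈ VV cs h X r ∧ ⁅x, b⁆ ∈ VV cs h X (-r') := by
  have hroot := C.root r hr
  have hroot' := C.root r' hr'
  have hposr := form_pos cs h hroot.ne_zero
  have hne : y ≠ r := by
    rintro rfl
    omega
  have hne' : y ≠ -r := by
    rintro rfl
    rw [form_neg_left, h0] at hyr'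
    omega
  set S : Set (I → ℤ) := {m | IsRoot cs h m ∧ 0 < form cs h m r ∧ 0 < form cs h m (-r')} with hS
  have hSr : RGD.Sup X S ≤ VV cs h X r := RGD.Sup_mono fun m hm => ⟨hm.1, hm.2.1⟩
  have hSr' : RGD.Sup X S ≤ VV cs h X (-r') := RGD.Sup_mono fun m hm => ⟨hm.1, hm.2.2⟩
  suffices hmem : ⁅x, b⁆ ∈ RGD.Sup X S from ⟨hSr hmem, hSr' hmem⟩
  have hbV : b ∈ VV cs h X (-r') := RGD.le_Sup (S := {y | IsRoot cs h y ∧ 0 < form cs h y (-r')})
    ⟨hy, by rw [form_neg_right]; omega⟩ hb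
  have hzinv : ∀ y, IsRoot cs h y → y ≠ r → y ≠ -r → form cs h y r ≠ 0 → ∀ a ∈ X y, z r * a * z r = a⁻¹ := fun y h1 h2 h3 h4 => C.z_inv r hr y h1 h2 h3 h4
  have hzS : ∀ s ∈ RGD.Sup X S, z r * s * z r ∈ RGD.Sup X S := by
    intro s hs
    have h1 := C.rgd.T_le_normalizer (S := S) (fun _ hy => hy.1) (C.z_torus r hr)
    have h2 := (Subgroup.mem_normalizer_iff.1 h1 s).1 hs
    rwa [inv_eq_of_mul_eq_one_left (C.z_sq r hr)] at h2
  have hzV : ∀ s ∈ VV cs h X (-r'), z r * s * z r ∈ VV cs h X (-r') := by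
    intro s hs
    have h1 := C.rgd.T_le_normalizer (S := {y | IsRoot cs h y ∧ 0 < form cs h y (-r')}) (fun _ hy => hy.1)
      (C.z_torus r hr)
    have h2 := (Subgroup.mem_normalizer_iff.1 h1 s).1 hs
    rwa [inv_eq_of_mul_eq_one_left (C.z_sq r hr)] at h2
  -- the roots between `r` and `y`
  have hbtw : ∀ m, Btwn cs h r y m → m = -r' ∨ m ∈ S := by
    intro m hm
    have h1 := btwn_pos hroot'.neg hroot (by rw [form_neg_left, form_comm, h0, neg_zero])
      (by rw [form_neg_left, form_neg_right, neg_neg, hf]) hy (by rw [form_neg_right]; omega) hyr hm.symm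
    rcases h1.2.eq_or_lt with h2 | h2
    · left
      by_contra h3
      by_cases h4 : m = r'
      · rw [h4, form_neg_right] at h1
        have := form_pos cs h hroot'.ne_zero
        omega
      · refine form_ne C hr' hr (by rw [form_comm]; exact h0) hzz.symm hp2 hm.1 h4 h3 ?_ h2.symm
        have := h1.1
        rw [form_neg_right] at this
        omega
    · exact Or.inr ⟨hm.1, h2, h1.1⟩
  have hu := C.rgd.comm r y hroot hy (Ne.symm hne) (fun h1 => hne' (by rw [h1, neg_neg])) x (C.le r hr hx) b hb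
  have key : ⁅x, b⁆ ∈ VV cs h X (-r') ∧ ⁅x, b⁆ * (z r * ⁅x, b⁆ * z r)⁻¹ ∈ RGD.Sup X S := by
    refine Subgroup.iSup_induction (fun m : {m // Btwn cs h r y m} => X m.1)
      (C := fun u => u ∈ VV cs h X (-r') ∧ u * (z r * u * z r)⁻¹ ∈ RGD.Sup X S) hu ?_ ?_ ?_
    · rintro ⟨m, hm⟩ a ha
      rcases hbtw m hm with rfl | h1
      · have hneg := neg_mem C hr'
        have h2 : a ∈ Z (-r') := by
          rw [← X_eq_Z C hneg (neg_mem C hr) (by
            rw [form_neg_left, form_neg_right, neg_neg, form_comm]; exact h0)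
            (by rw [C.z_neg r hr, C.z_neg r' hr', hzz]) hp2]
          exact ha
        refine ⟨Z_le_VV C hneg h2, ?_⟩
        have h3 := C.z_cent _ hneg a h2
        rw [C.z_neg r' hr', ← hzz] at h3
        rw [h3, mul_assoc, C.z_sq r hr, mul_one, mul_inv_cancel]
        exact one_mem _
      · have h2 := RGD.le_Sup (X := X) h1 ha
        exact ⟨hSr' h2, mul_mem h2 (inv_mem (hzS a h2))⟩
    · refine ⟨one_mem _, ?_⟩
      rw [mul_one, C.z_sq r hr, inv_one, mul_one]
      exact one_mem _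
    · rintro a b ⟨ha, ha'⟩ ⟨hb, hb'⟩
      refine ⟨mul_mem ha hb, ?_⟩
      have e1 : z r * (a * b) * z r = (z r * a * z r) * (z r * b * z r) := by
        calc z r * (a * b) * z r = z r * a * 1 * b * z r := by group
          _ = z r * a * (z r * z r) * b * z r := by rw [C.z_sq r hr]
          _ = _ := by group
      have e2 : a * b * (z r * (a * b) * z r)⁻¹ = (a * (z r * a * z r)⁻¹) * (b * (z r * b * z r)⁻¹) := by
        rw [e1, mul_inv_rev]
        have c1 := hab _ (mul_mem hb (inv_mem (hzV b hb))) _ (inv_mem (hzV a ha))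
        calc a * b * ((z r * b * z r)⁻¹ * (z r * a * z r)⁻¹) = a * ((b * (z r * b * z r)⁻¹) * (z r * a * z r)⁻¹) := by
              group
          _ = a * ((z r * a * z r)⁻¹ * (b * (z r * b * z r)⁻¹)) := by rw [c1]
          _ = _ := by group
      rw [e2]
      exact mul_mem ha' hb'
  -- `z` inverts `⁅x, b⁆`
  have e3 : z r * ⁅x, b⁆ * z r = ⁅x, b⁆⁻¹ := by
    have h1 : z r * x * z r = x := by rw [C.z_cent r hr x hx, mul_assoc, C.z_sq r hr, mul_one]
    have h2 := hzinv y hy hne hne' hyr.ne b hb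
    have h3 : z r * ⁅x, b⁆ * z r = (z r * x * z r) * (z r * b * z r) * (z r * x * z r)⁻¹ * (z r * b * z r)⁻¹ := by
      have hz : (z r)⁻¹ = z r := inv_eq_of_mul_eq_one_left (C.z_sq r hr)
      rw [commutatorElement_def]
      simp only [mul_inv_rev, hz]
      calc z r * (x * b * x⁻¹ * b⁻¹) * z r = z r * x * 1 * b * 1 * x⁻¹ * 1 * b⁻¹ * z r := by group
        _ = z r * x * (z r * z r) * b * (z r * z r) * x⁻¹ * (z r * z r) * b⁻¹ * z r := by rw [C.z_sq r hr]
        _ = _ := by group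
    rw [h3, h1, h2, inv_inv]
    have h4 : x * b⁻¹ * x⁻¹ ∈ VV cs h X (-r') := conj_VV C hr (by rw [form_neg_left, form_comm, h0, neg_zero])
      (inv_mem hbV) hx
    rw [hab _ h4 _ hbV, commutatorElement_inv, commutatorElement_def]
    group
  have h5 : ⁅x, b⁆ * ⁅x, b⁆ ∈ RGD.Sup X S := by
    have := key.2
    rwa [e3, inv_inv] at this
  exact mem_of_odd_sq C hp2 (odd_of_mem_VV C hp2 key.1) h5

/-- **`VV r` is not abelian** (in the form: the four groups `VV (±r)`, `VV (±r')` are not all abelian). -/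
theorem false_of_abelian (hp2 : p ≠ 2) [Fact p.Prime] {r r' : I → ℤ} (hr : r ∈ R) (hr' : r' ∈ R)
    (h0 : form cs h r r' = 0) (hf : form cs h r r = form cs h r' r') (hzz : z r = z r')
    (hne : VV cs h X r ≠ Z r)
    (hab : ∀ s ∈ ({r, -r, r', -r'} : Set (I → ℤ)), ∀ a ∈ VV cs h X s, ∀ b ∈ VV cs h X s, a * b = b * a) {w : Y}
    (hw : w ∈ Z r ⊔ Z (-r)) (hw1 : ∀ a ∈ VV cs h X r, w * a * w⁻¹ ∈ VV cs h X (-r))
    (hw2 : ∀ a ∈ VV cs h X (-r), w * a * w⁻¹ ∈ VV cs h X r)
    (hw3 : ∀ a ∈ VV cs h X r', w * a * w⁻¹ ∈ VV cs h X r')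
    (hw4 : ∀ a ∈ VV cs h X (-r'), w * a * w⁻¹ ∈ VV cs h X (-r')) : False := by
  have hroot := C.root r hr
  have hroot' := C.root r' hr'
  have A1 := hab r (by simp)
  have A2 := hab (-r) (by simp)
  have A3 := hab r' (by simp)
  have A4 := hab (-r') (by simp)
  obtain ⟨y, hy, hyr, hyr'⟩ := exists_pos_pos C hr hr' h0 hzz hp2 hne
  have P1 : X y ≤ VV cs h X r := RGD.le_Sup (S := {y | IsRoot cs h y ∧ 0 < form cs h y r}) ⟨hy, hyr⟩
  have P3 : X y ≤ VV cs h X r' := RGD.le_Sup (S := {y | IsRoot cs h y ∧ 0 < form cs h y r'}) ⟨hy, hyr'⟩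
  have P2 : X (-y) ≤ VV cs h X (-r) := RGD.le_Sup (S := {y | IsRoot cs h y ∧ 0 < form cs h y (-r)})
    ⟨hy.neg, by rw [form_neg_left, form_neg_right, neg_neg]; exact hyr⟩
  have P4 : X (-y) ≤ VV cs h X (-r') := RGD.le_Sup (S := {y | IsRoot cs h y ∧ 0 < form cs h y (-r')})
    ⟨hy.neg, by rw [form_neg_left, form_neg_right, neg_neg]; exact hyr'⟩
  have hC : ∀ a ∈ X y, ∀ b ∈ X (-y), w * ⁅a, b⁆ * w⁻¹ = ⁅a, b⁆ := by
    intro a ha b hb
    have h1 : Z r ⊔ Z (-r) ≤ Subgroup.centralizer {⁅a, b⁆} := by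
      refine sup_le (fun x hx => ?_) (fun x hx => ?_)
      · rw [Subgroup.mem_centralizer_singleton_iff]
        obtain ⟨u1, u2⟩ := comm_mem_of_abelian C hp2 hr hr' h0 hf hzz hy.neg (by rw [form_neg_left]; omega)
          (by rw [form_neg_left]; omega) A4 hx hb
        set u := ⁅x, b⁆ with hu
        have e1 : x * b * x⁻¹ = u * b := by rw [hu, commutatorElement_def]; group
        have e2 : x * a * x⁻¹ = a := by
          rw [← C.cent r hr y hy hyr.le a ha x hx, mul_inv_cancel_right]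
        have c1 := A1 u u1 a (P1 ha)
        have c2 := A4 u u2 b (P4 hb)
        have e3 : x * ⁅a, b⁆ * x⁻¹ = ⁅x * a * x⁻¹, x * b * x⁻¹⁆ := by simp only [commutatorElement_def]; group
        have e4 : ⁅a, u * b⁆ = ⁅a, b⁆ := by
          have : ⁅a, u * b⁆ = ⁅a, u⁆ * (u * ⁅a, b⁆ * u⁻¹) := by simp only [commutatorElement_def]; group
          rw [this, commutatorElement_eq_one_iff_mul_comm.2 c1.symm, one_mul]
          have c3 : Commute u ⁅a, b⁆ := by
            rw [commutatorElement_def]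
            have k1 : Commute u a := c1
            have k2 : Commute u b := c2
            exact ((k1.mul_right k2).mul_right k1.inv_right).mul_right k2.inv_right
          rw [c3.eq, mul_inv_cancel_right]
        rw [e2, e1, e4] at e3
        have : x * ⁅a, b⁆ = ⁅a, b⁆ * x := by
          conv_rhs => rw [← e3]
          group
        exact this
      · rw [Subgroup.mem_centralizer_singleton_iff]
        obtain ⟨u1, u2⟩ := comm_mem_of_abelian C hp2 (neg_mem C hr) (neg_mem C hr')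
          (by rw [form_neg_left, form_neg_right, neg_neg]; exact h0)
          (by simp only [form_neg_left, form_neg_right, neg_neg]; exact hf)
          (by rw [C.z_neg r hr, C.z_neg r' hr', hzz]) hy (by rw [form_neg_right]; omega)
          (by rw [form_neg_right]; omega) (by rw [neg_neg]; exact A3) hx ha
        rw [neg_neg] at u2
        set u := ⁅x, a⁆ with hu
        have e1 : x * a * x⁻¹ = u * a := by rw [hu, commutatorElement_def]; group
        have e2 : x * b * x⁻¹ = b := by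
          rw [← C.cent _ (neg_mem C hr) (-y) hy.neg (by rw [form_neg_left, form_neg_right, neg_neg]; exact hyr.le)
            b hb x hx, mul_inv_cancel_right]
        have c1 := A3 u u2 a (P3 ha)
        have c2 := A2 u u1 b (P2 hb)
        have e3 : x * ⁅a, b⁆ * x⁻¹ = ⁅x * a * x⁻¹, x * b * x⁻¹⁆ := by simp only [commutatorElement_def]; group
        have e4 : ⁅u * a, b⁆ = ⁅a, b⁆ := by
          have : ⁅u * a, b⁆ = (u * ⁅a, b⁆ * u⁻¹) * ⁅u, b⁆ := by simp only [commutatorElement_def]; group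
          rw [this, commutatorElement_eq_one_iff_mul_comm.2 c2, mul_one]
          have c3 : Commute u ⁅a, b⁆ := by
            rw [commutatorElement_def]
            have k1 : Commute u a := c1
            have k2 : Commute u b := c2
            exact ((k1.mul_right k2).mul_right k1.inv_right).mul_right k2.inv_right
          rw [c3.eq, mul_inv_cancel_right]
        rw [e2, e1, e4] at e3
        have : x * ⁅a, b⁆ = ⁅a, b⁆ * x := by
          conv_rhs => rw [← e3]
          group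
        exact this
    rw [Subgroup.mem_centralizer_singleton_iff.1 (h1 hw), mul_inv_cancel_right]
  have hconj : ∀ a b, w * ⁅a, b⁆ * w⁻¹ = ⁅w * a * w⁻¹, w * b * w⁻¹⁆ := by
    intro a b; simp only [commutatorElement_def]; group
  refine not_isPGroup C hy (isPGroup_sup (C.rgd.pgrp' hy) (C.rgd.pgrp' hy.neg) ?_ ?_)
  · intro a ha b hb c hc
    rw [← hC a ha b hb, hconj]
    have k1 : Commute c (w * a * w⁻¹) := A3 c (P3 hc) _ (hw3 a (P3 ha))
    have k2 : Commute c (w * b * w⁻¹) := A1 c (P1 hc) _ (hw2 b (P2 hb))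
    rw [commutatorElement_def]
    exact ((k1.mul_right k2).mul_right k1.inv_right).mul_right k2.inv_right
  · intro a ha b hb c hc
    rw [← hC a ha b hb, hconj]
    have k1 : Commute c (w * a * w⁻¹) := A2 c (P2 hc) _ (hw1 a (P1 ha))
    have k2 : Commute c (w * b * w⁻¹) := A4 c (P4 hc) _ (hw4 b (P4 hb))
    rw [commutatorElement_def]
    exact ((k1.mul_right k2).mul_right k1.inv_right).mul_right k2.inv_right

end Cfsg.Agent.Cit.TwinRoots
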