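import Mathlib
import Cfsg.Agent.Cit.DTwoCoord
import Cfsg.Agent.Cit.TwinRoots
import Cfsg.Agent.Nodes.MuSq

/-!
# Charts of type `C 2` with `z (2 ε₀) = z (2 ε₁)` (project CIT)

`A = X (2 ε₀)`, `P = X (ε₀ + ε₁)`, `Q = X (ε₀ - ε₁)`, `B = X (2 ε₁)`, `B' = X (-2 ε₁)`.

* `exists_m` : for `a ∈ B'`, `a ≠ 1` there is `m ∈ ⟨B, B'⟩`, `P ^ m = Q`, with `[a, x] ∈ (m x m⁻¹) A` for `x ∈ P`;
* `aniso` : `[m x m⁻¹, x] ≠ 1` for `x ∈ P`, `x ≠ 1`.
-/

set_option autoImplicit false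
set_option linter.unusedSectionVars false
set_option linter.unusedSimpArgs false

namespace Cfsg.Agent.Cit.DTwo

open CoxeterSystem Cfsg.Agent.ChevalleyStructure.CoxeterGeom Cfsg.Agent.Tits.Roots Cfsg.Agent.Tits.Core
  Cfsg.Agent.Tits.RootComb Cfsg.Agent.Nodes.Comb Cfsg.Agent.Nodes.Reps Cfsg.Agent.Nodes.BNOf
  Cfsg.Agent.Nodes.Coroot Cfsg.Agent.Nodes.PairOf Cfsg.Agent.Nodes.OppDec Cfsg.Agent.Nodes.Bruhat
  Cfsg.Agent.Nodes.Chart Cfsg.Agent.Nodes.RGDLib Cfsg.Agent.Nodes.LeviDec Cfsg.Agent.Nodes.ChartLoc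
  Cfsg.Agent.Nodes.ClsNorm Cfsg.Agent.Nodes.SubComb Cfsg.Agent.Nodes.TypeC Cfsg.Agent.Nodes.KindBC
  Cfsg.Agent.Nodes.MuSq Cfsg.Agent.Cit.DTwoCoord
open scoped commutatorElement

variable {W Y : Type*} [Group W] [Fintype W] [Group Y] {cs : CoxeterSystem (CoxeterMatrix.B 2) W}
  {p : ℕ} {T : Subgroup Y} {n : Fin 2 → Y} {X : (Fin 2 → ℤ) → Subgroup Y}
  {Z : (Fin 2 → ℤ) → Subgroup Y} {z : (Fin 2 → ℤ) → Y}
  (C : Cls cs (isCartan 2) p T n X (RC 2) Z z)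

include C

/-! ### Commutation -/

theorem cm_Z {r y : Fin 2 → ℤ} (hr : r ∈ RC 2) (hy : IsRoot cs (isCartan 2) y)
    (h0 : 0 ≤ cpr cs (isCartan 2) y r) {a x : Y} (ha : a ∈ X y) (hx : x ∈ Z r) : a * x = x * a :=
  C.cent r hr y hy ((form_sign y (C.root r hr)).2.1.2 h0) a ha x hx

theorem cm_KK {r y : Fin 2 → ℤ} (hr : r ∈ RC 2) (hy : IsRoot cs (isCartan 2) y)
    (h0 : cpr cs (isCartan 2) y r = 0) {a x : Y} (ha : a ∈ X y) (hx : x ∈ Z r ⊔ Z (-r)) : a * x = x * a :=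
  Cfsg.Agent.Nodes.Perp.X_cm_KK C hr hy ((form_sign y (C.root r hr)).2.2.2 h0) a ha x hx

theorem inv_z {y : Fin 2 → ℤ} (hy : IsRoot cs (isCartan 2) y) (h1 : fc 1 y ≠ 0)
    (h0 : fc 0 y ≠ 0) {a : Y} (ha : a ∈ X y) : z rr * a * z rr = a⁻¹ := by
  refine C.z_inv rr rr_mem y hy ?_ ?_ ?_ a ha
  · rintro rfl
    exact h1 fc_rr.2
  · rintro rfl
    apply h1
    rw [map_neg, fc_rr.2, neg_zero]
  · intro h
    apply h0
    rw [← cpr_rr (cs := cs), ← (form_sign y root_rr).2.2, h]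

theorem z_cm {y : Fin 2 → ℤ} (hy : IsRoot cs (isCartan 2) y) (h0 : fc 0 y = 0) {a : Y} (ha : a ∈ X y) :
    a * z rr = z rr * a :=
  cm_KK C rr_mem hy (by rw [cpr_rr, h0]) ha (C.z_mem rr rr_mem)

section Twin

variable (hp2 : p ≠ 2) [Fact p.Prime] (hzz : z rr = z ss)

omit [Fact p.Prime] hp2 hzz in
theorem form_rr_ss : form cs (isCartan 2) rr ss = 0 := by
  rw [(form_sign rr root_ss).2.2, cpr_ss, fc_rr.2]

include hp2 hzz

theorem eqZ_rr : X rr = Z rr := Cfsg.Agent.Cit.TwinRoots.X_eq_Z C rr_mem ss_mem (form_rr_ss C) hzz hp2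

theorem eqZ_ss : X ss = Z ss :=
  Cfsg.Agent.Cit.TwinRoots.X_eq_Z C ss_mem rr_mem (by rw [form_comm, form_rr_ss C]) hzz.symm hp2

theorem eqZ_nss : X (-ss) = Z (-ss) := by
  refine Cfsg.Agent.Cit.TwinRoots.X_eq_Z C (neg_mem C ss_mem) rr_mem ?_ ?_ hp2
  · rw [form_neg_left, form_comm, form_rr_ss C, neg_zero]
  · rw [C.z_neg ss ss_mem, hzz]

/-- `A` commutes with the root groups with `⟨y, r∨⟩ ≥ 0` -/
theorem cm_rr {y : Fin 2 → ℤ} (hy : IsRoot cs (isCartan 2) y) (h0 : 0 ≤ fc 0 y) {a b : Y} (ha : a ∈ X rr)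
    (hb : b ∈ X y) : b * a = a * b :=
  cm_Z C rr_mem hy (by rw [cpr_rr]; exact h0) hb (by rw [← eqZ_rr C hp2 hzz]; exact ha)

theorem cm_ss {y : Fin 2 → ℤ} (hy : IsRoot cs (isCartan 2) y) (h0 : 0 ≤ fc 1 y) {a b : Y} (ha : a ∈ X ss)
    (hb : b ∈ X y) : b * a = a * b :=
  cm_Z C ss_mem hy (by rw [cpr_ss]; exact h0) hb (by rw [← eqZ_ss C hp2 hzz]; exact ha)

theorem cm_nss {y : Fin 2 → ℤ} (hy : IsRoot cs (isCartan 2) y) (h0 : fc 1 y ≤ 0) {a b : Y} (ha : a ∈ X (-ss))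
    (hb : b ∈ X y) : b * a = a * b := by
  refine cm_Z C (neg_mem C ss_mem) hy ?_ hb (by rw [← eqZ_nss C hp2 hzz]; exact ha)
  rw [cpr_neg_right cs (isCartan 2) y root_ss, cpr_ss]
  omega

omit hp2 hzz [Fact p.Prime] in
/-- `[P, Q] ≤ A` -/
theorem comm_PQ {x q : Y} (hx : x ∈ X yp) (hq : q ∈ X ym) : ⁅x, q⁆ ∈ X rr :=
  comm_in C.rgd root_yp root_ym (ne_of_fc 1 (by rw [fc_yp.2, fc_ym.2]; decide))
    (ne_of_fc 0 (by rw [map_neg, fc_yp.1, fc_ym.1]; decide)) btwn_yp_ym hx hq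

omit hp2 hzz [Fact p.Prime] in
theorem comm_QP {x q : Y} (hx : x ∈ X yp) (hq : q ∈ X ym) : ⁅q, x⁆ ∈ X rr := by
  rw [← commutatorElement_inv]
  exact inv_mem (comm_PQ C hx hq)

/-- the reflection in `2 ε₁` -/
theorem exists_m {a : Y} (ha : a ∈ X (-ss)) (ha1 : a ≠ 1) : ∃ u ∈ X ss, ∃ v ∈ X ss, ∃ w : W,
    Rp cs C.rgd.nsys w (u * a * v) ∧ (∀ y, rep cs (isCartan 2) w y = y - fc 1 y • ss) ∧
    (∀ x ∈ X yp, u * a * v * x * (u * a * v)⁻¹ ∈ X ym) ∧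
    ∀ x ∈ X yp, ∃ c ∈ X rr, ⁅a, x⁆ = u * a * v * x * (u * a * v)⁻¹ * c := by
  obtain ⟨u, hu, v, hv, w, hw, -, he⟩ := exists_mu' C.rgd (root_ss (cs := cs)).neg ha ha1
  rw [neg_neg] at hu hv
  have he' : ∀ y, rep cs (isCartan 2) w y = y - fc 1 y • ss := by
    intro y
    rw [he, cpr_neg_right cs (isCartan 2) y root_ss, cpr_ss, neg_smul, smul_neg, neg_neg]
  have e1 : rep cs (isCartan 2) w yp = ym := by
    rw [he']
    refine eq_of_fc ?_ ?_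
    · rw [map_sub, map_zsmul, fc_yp.1, fc_yp.2, fc_ss.1, fc_ym.1]; decide
    · rw [map_sub, map_zsmul, fc_yp.2, fc_ss.2, fc_ym.2]; decide
  have hm : ∀ x ∈ X yp, u * a * v * x * (u * a * v)⁻¹ ∈ X ym := by
    intro x hx
    rw [← e1]
    exact C.rgd.conj_mem hw root_yp hx
  refine ⟨u, hu, v, hv, w, hw, he', hm, fun x hx => ?_⟩
  obtain ⟨q, hq, c, hc, e2⟩ := comm_two C.rgd (root_ss (cs := cs)).neg root_yp
    (ne_of_fc 0 (by rw [map_neg, fc_ss.1, fc_yp.1]; decide))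
    (ne_of_fc 0 (by rw [map_neg, map_neg, fc_ss.1, fc_yp.1]; decide)) btwn_nss_yp
    (fun a ha b hb => cm_rr C hp2 hzz root_ym (by rw [fc_ym.1]; decide) hb ha) ha hx
  obtain ⟨p', hp', a', ha', e3⟩ := comm_two C.rgd (root_ss (cs := cs)) root_ym
    (ne_of_fc 0 (by rw [fc_ss.1, fc_ym.1]; decide))
    (ne_of_fc 0 (by rw [map_neg, fc_ss.1, fc_ym.1]; decide)) btwn_ss_ym
    (fun a ha b hb => cm_rr C hp2 hzz root_yp (by rw [fc_yp.1]; decide) hb ha) hu hq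
  have hA : ∀ b ∈ X yp, ∀ c ∈ X rr, b * c = c * b := fun b hb c hc =>
    cm_rr C hp2 hzz root_yp (by rw [fc_yp.1]; decide) hc hb
  have hAq : ∀ b ∈ X ym, ∀ c ∈ X rr, b * c = c * b := fun b hb c hc =>
    cm_rr C hp2 hzz root_ym (by rw [fc_ym.1]; decide) hc hb
  have hAA : ∀ b ∈ X rr, ∀ c ∈ X rr, b * c = c * b := fun b hb c hc =>
    cm_rr C hp2 hzz root_rr (by rw [fc_rr.1]; decide) hc hb
  have hSA : ∀ b ∈ X ss, ∀ c ∈ X rr, b * c = c * b := fun b hb c hc =>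
    cm_rr C hp2 hzz root_ss (by rw [fc_ss.1]) hc hb
  have hSP : ∀ b ∈ X ss, ∀ c ∈ X yp, c * b = b * c := fun b hb c hc =>
    cm_ss C hp2 hzz root_yp (by rw [fc_yp.2]; decide) hb hc
  have hqx := comm_QP C hx hq
  set q0 := u * a * v * x * (u * a * v)⁻¹ with hq0
  have e4 : q0 = p' * x * (a' * c * ⁅x⁻¹, q⁆) * q := by
    have k1 : q0 = u * (⁅a, x⁆ * x) * u⁻¹ := by
      have k2 : v * x * v⁻¹ = x := by rw [← hSP v hv x hx]; group
      calc q0 = u * (a * (v * x * v⁻¹) * a⁻¹) * u⁻¹ := by rw [hq0]; group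
        _ = u * (a * x * a⁻¹) * u⁻¹ := by rw [k2]
        _ = u * (⁅a, x⁆ * x) * u⁻¹ := by rw [commutatorElement_def]; group
    have k3 : c * x * u⁻¹ = u⁻¹ * (c * x) := by
      have k4 := hSA u⁻¹ (inv_mem hu) c hc
      have k5 := hSP u⁻¹ (inv_mem hu) x hx
      calc c * x * u⁻¹ = c * (x * u⁻¹) := by group
        _ = c * u⁻¹ * x := by rw [k5]; group
        _ = u⁻¹ * (c * x) := by rw [← k4]; group
    have k6 : ⁅x⁻¹, q⁆ ∈ X rr := comm_PQ C (inv_mem hx) hq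
    calc q0 = u * q * (c * x * u⁻¹) := by rw [k1, e2]; group
      _ = u * q * (u⁻¹ * (c * x)) := by rw [k3]
      _ = ⁅u, q⁆ * (q * c) * x := by rw [commutatorElement_def]; group
      _ = p' * a' * (c * q) * x := by rw [e3, hAq q hq c hc]
      _ = p' * (a' * c) * (x * ⁅x⁻¹, q⁆ * q) := by rw [commutatorElement_def]; group
      _ = p' * ((a' * c) * x) * ⁅x⁻¹, q⁆ * q := by group
      _ = p' * (x * (a' * c)) * ⁅x⁻¹, q⁆ * q := by rw [hA x hx _ (mul_mem ha' hc)]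
      _ = p' * x * (a' * c * ⁅x⁻¹, q⁆) * q := by group
  have e5 : q0 * q⁻¹ = 1 := by
    apply Cfsg.Agent.Nodes.Slope.sup_inf_sup' C.rgd (fc 0 + fc 1) (fc 0)
    · have k1 : q0 * q⁻¹ = p' * x * (a' * c * ⁅x⁻¹, q⁆) := by rw [e4]; group
      rw [k1]
      have k2 : X yp ≤ RGD.Sup X {x | IsRoot cs (isCartan 2) x ∧ 0 < (fc 0 + fc 1) x} :=
        RGD.le_Sup (S := {x | IsRoot cs (isCartan 2) x ∧ 0 < (fc 0 + fc 1) x})
          ⟨root_yp, by rw [AddMonoidHom.add_apply, fc_yp.1, fc_yp.2]; decide⟩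
      have k3 : X rr ≤ RGD.Sup X {x | IsRoot cs (isCartan 2) x ∧ 0 < (fc 0 + fc 1) x} :=
        RGD.le_Sup (S := {x | IsRoot cs (isCartan 2) x ∧ 0 < (fc 0 + fc 1) x})
          ⟨root_rr, by rw [AddMonoidHom.add_apply, fc_rr.1, fc_rr.2]; decide⟩
      exact mul_mem (mul_mem (k2 hp') (k2 hx)) (k3 (mul_mem (mul_mem ha' hc) (comm_PQ C (inv_mem hx) hq)))
    · have k2 : X ym ≤ RGD.Sup X {x | IsRoot cs (isCartan 2) x ∧ (fc 0 + fc 1) x ≤ 0 ∧ 0 < fc 0 x} :=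
        RGD.le_Sup (S := {x | IsRoot cs (isCartan 2) x ∧ (fc 0 + fc 1) x ≤ 0 ∧ 0 < fc 0 x})
          ⟨root_ym, by rw [AddMonoidHom.add_apply, fc_ym.1, fc_ym.2]; decide, by rw [fc_ym.1]; decide⟩
      exact k2 (mul_mem (hm x hx) (inv_mem hq))
  refine ⟨c, hc, ?_⟩
  rw [e2, mul_inv_eq_one.1 e5]

/-! ### Anisotropy -/

omit [Fact p.Prime] hp2 hzz in
theorem eq_one_of_sq' [Fact p.Prime] (hp2 : p ≠ 2) {y : Fin 2 → ℤ} (hy : IsRoot cs (isCartan 2) y) {b : Y} (hb : b ∈ X y)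
    (e : b = b⁻¹) : b = 1 := Cfsg.Agent.Nodes.ZRel.eq_one_of_inv C Fact.out hp2 hy hb e

/-- **Anisotropy.** -/
theorem aniso {a u v : Y} (ha : a ∈ X (-ss))
    (hm : ∀ x ∈ X yp, u * a * v * x * (u * a * v)⁻¹ ∈ X ym)
    (hc : ∀ x ∈ X yp, ∃ c ∈ X rr, ⁅a, x⁆ = u * a * v * x * (u * a * v)⁻¹ * c)
    {x : Y} (hx : x ∈ X yp) (hcm : x * (u * a * v * x * (u * a * v)⁻¹) = (u * a * v * x * (u * a * v)⁻¹) * x) :
    x = 1 := by
  by_contra hx1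
  obtain ⟨c, hcA, e1⟩ := hc x hx
  set q := u * a * v * x * (u * a * v)⁻¹ with hq
  have hqm : q ∈ X ym := hm x hx
  have hzz2 := C.z_sq rr rr_mem
  have hzi : (z rr)⁻¹ = z rr := inv_eq_of_mul_eq_one_right hzz2
  have ix : z rr * x * z rr = x⁻¹ :=
    inv_z C root_yp (by rw [fc_yp.2]; decide) (by rw [fc_yp.1]; decide) hx
  have iq : z rr * q * z rr = q⁻¹ :=
    inv_z C root_ym (by rw [fc_ym.2]; decide) (by rw [fc_ym.1]; decide) hqm
  have ia : ∀ b ∈ X (-ss), b * z rr = z rr * b := fun b hb =>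
    z_cm C root_ss.neg (by rw [map_neg, fc_ss.1, neg_zero]) hb
  have ic : ∀ b ∈ X rr, z rr * b = b * z rr := fun b hb =>
    C.z_cent rr rr_mem b (by rw [← eqZ_rr C hp2 hzz]; exact hb)
  have hAx : x * c = c * x := cm_rr C hp2 hzz root_yp (by rw [fc_yp.1]; decide) hcA hx
  have hAq : q * c = c * q := cm_rr C hp2 hzz root_ym (by rw [fc_ym.1]; decide) hcA hqm
  -- `c = 1`
  have e2 : a * x * a⁻¹ = q * c * x := by
    rw [← e1, commutatorElement_def]; group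
  have e3 : a * x⁻¹ * a⁻¹ = q⁻¹ * c⁻¹ * x⁻¹ := by
    have k1 : a * x⁻¹ * a⁻¹ = (a * x * a⁻¹)⁻¹ := by group
    have k2 : q * c * x = x * c * q := by
      rw [hAq, mul_assoc, ← hcm, ← mul_assoc, hAx]
    rw [k1, e2, k2]; group
  have e4 : a * x⁻¹ * a⁻¹ = q⁻¹ * c * x⁻¹ := by
    have k1 : z rr * (a * x * a⁻¹) * z rr = a * x⁻¹ * a⁻¹ := by
      rw [← ix]
      have k2 : z rr * a = a * z rr := (ia a ha).symm
      have k3 : a⁻¹ * z rr = z rr * a⁻¹ := ia a⁻¹ (inv_mem ha)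
      calc z rr * (a * x * a⁻¹) * z rr = (z rr * a) * x * (a⁻¹ * z rr) := by group
        _ = a * (z rr * x * z rr) * a⁻¹ := by rw [k2, k3]; group
    rw [← k1, e2]
    calc z rr * (q * c * x) * z rr = z rr * q * 1 * c * 1 * x * z rr := by group
      _ = z rr * q * (z rr * z rr) * c * (z rr * z rr) * x * z rr := by rw [hzz2]
      _ = (z rr * q * z rr) * ((z rr * c) * z rr) * (z rr * x * z rr) := by group
      _ = q⁻¹ * (c * (z rr * z rr)) * x⁻¹ := by rw [iq, ix, ic c hcA]; group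
      _ = q⁻¹ * c * x⁻¹ := by rw [hzz2, mul_one]
  have e5 : c = c⁻¹ := by
    have k1 := e3.symm.trans e4
    have k2 := mul_right_cancel k1
    exact (mul_left_cancel k2).symm
  have e6 : c = 1 := eq_one_of_sq' C hp2 root_rr hcA e5
  rw [e6, mul_one] at e2
  -- the `μ`-element of `x`
  obtain ⟨g, hg, g', hg', w', hw', -, he'⟩ := exists_mu' C.rgd (root_yp (cs := cs)) hx hx1
  have k0 : rep cs (isCartan 2) w' (-ss) = rr := by
    rw [he', cpr_yp]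
    refine eq_of_fc ?_ ?_
    · simp only [map_sub, map_zsmul, map_neg, fc_yp.1, fc_yp.2, fc_ss.1, fc_ss.2, fc_rr.1]; decide
    · simp only [map_sub, map_zsmul, map_neg, fc_yp.1, fc_yp.2, fc_ss.1, fc_ss.2, fc_rr.2]; decide
  have k1 : g * x * g' * a * (g * x * g')⁻¹ ∈ X rr := by
    rw [← k0]
    exact C.rgd.conj_mem hw' (root_ss (cs := cs)).neg ha
  have k2 : g' * a = a * g' :=
    comm_one C.rgd (root_yp (cs := cs)).neg (root_ss (cs := cs)).neg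
      (ne_of_fc 0 (by rw [map_neg, map_neg, fc_yp.1, fc_ss.1]; decide))
      (ne_of_fc 0 (by rw [map_neg, map_neg, map_neg, fc_yp.1, fc_ss.1]; decide)) btwn_nyp_nss hg' ha
  have k3 : ⁅g, q⁻¹⁆ ∈ X (-ss) :=
    comm_in C.rgd (root_yp (cs := cs)).neg root_ym (ne_of_fc 0 (by rw [map_neg, fc_yp.1, fc_ym.1]; decide))
      (ne_of_fc 1 (by rw [map_neg, map_neg, fc_yp.2, fc_ym.2]; decide)) btwn_nyp_ym hg (inv_mem hqm)
  have k4 : g * a = a * g :=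
    comm_one C.rgd (root_yp (cs := cs)).neg (root_ss (cs := cs)).neg
      (ne_of_fc 0 (by rw [map_neg, map_neg, fc_yp.1, fc_ss.1]; decide))
      (ne_of_fc 0 (by rw [map_neg, map_neg, map_neg, fc_yp.1, fc_ss.1]; decide)) btwn_nyp_nss hg ha
  have k5 : g * x * g' * a * (g * x * g')⁻¹ = ⁅g, q⁻¹⁆ * q⁻¹ * a := by
    have l1 : x * a * x⁻¹ = q⁻¹ * a := by
      have l2 : a * x = q * x * a := by
        rw [← e2]; group
      calc x * a * x⁻¹ = q⁻¹ * (q * x * a) * x⁻¹ := by group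
        _ = q⁻¹ * a := by rw [← l2]; group
    calc g * x * g' * a * (g * x * g')⁻¹ = g * x * (g' * a) * g'⁻¹ * x⁻¹ * g⁻¹ := by group
      _ = g * (x * a * x⁻¹) * g⁻¹ := by rw [k2]; group
      _ = g * q⁻¹ * (a * g⁻¹) := by rw [l1]; group
      _ = g * q⁻¹ * (g⁻¹ * a) := by
          have : a * g⁻¹ = g⁻¹ * a := by
            rw [eq_comm, inv_mul_eq_iff_eq_mul, ← mul_assoc, k4, mul_inv_cancel_right]
          rw [this]
      _ = ⁅g, q⁻¹⁆ * q⁻¹ * a := by rw [commutatorElement_def]; group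
  rw [k5] at k1
  set η := ⁅g, q⁻¹⁆ with hη
  have k6 : η * q⁻¹ * a = η * q * a := by
    have l1 := ic _ k1
    have l2 := ia η k3
    have l3 := ia a ha
    have l4 : z rr * q⁻¹ * z rr = q := by
      have l5 := congrArg (fun t => t⁻¹) iq
      simp only [mul_inv_rev, hzi, inv_inv] at l5
      rw [mul_assoc]
      exact l5
    calc η * q⁻¹ * a = (η * q⁻¹ * a * z rr) * z rr := by rw [mul_assoc _ (z rr) (z rr), hzz2, mul_one]
      _ = z rr * (η * q⁻¹ * a) * z rr := by rw [← l1]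
      _ = z rr * η * q⁻¹ * (a * z rr) := by group
      _ = (η * z rr) * q⁻¹ * (z rr * a) := by rw [← l2, l3]
      _ = η * (z rr * q⁻¹ * z rr) * a := by group
      _ = η * q * a := by rw [l4]
  have k7 : q = q⁻¹ := (mul_left_cancel (mul_right_cancel k6)).symm
  have k8 : q = 1 := eq_one_of_sq' C hp2 root_ym hqm k7
  apply hx1
  have k9 : u * a * v * x * (u * a * v)⁻¹ = 1 := by rw [← hq]; exact k8
  calc x = (u * a * v)⁻¹ * (u * a * v * x * (u * a * v)⁻¹) * (u * a * v) := by group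
    _ = 1 := by rw [k9]; group

end Twin

end Cfsg.Agent.Cit.DTwo
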