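import Mathlib

/-!
# Anisotropic quadratic maps over `F_p` (project CIT)

`card_le_sq` : `P`, `A` elementary abelian `p`-groups, `b : P × P → A` bimultiplicative, `b x x ≠ 1` for `x ≠ 1`:
`|P| ≤ |A|²` (Chevalley–Warning).
-/

set_option autoImplicit false
set_option linter.unusedSectionVars false

namespace Cfsg.Agent.Cit.DWarn

open MvPolynomial

/-- the quadratic form with coefficients `q` -/
noncomputable def pol {p n : ℕ} (q : Fin n → Fin n → ZMod p) : MvPolynomial (Fin n) (ZMod p) :=
  ∑ j, ∑ k, C (q j k) * (X j * X k)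

theorem pol_deg {p n : ℕ} [Fact p.Prime] (q : Fin n → Fin n → ZMod p) : (pol q).totalDegree ≤ 2 := by
  refine (totalDegree_finsetSum _ _).trans (Finset.sup_le fun j _ => ?_)
  refine (totalDegree_finsetSum _ _).trans (Finset.sup_le fun k _ => ?_)
  refine (totalDegree_mul _ _).trans ?_
  rw [totalDegree_C, zero_add]
  refine (totalDegree_mul _ _).trans ?_
  rw [totalDegree_X, totalDegree_X]

theorem eval_pol {p n : ℕ} (q : Fin n → Fin n → ZMod p) (x : Fin n → ZMod p) :
    eval x (pol q) = ∑ j, ∑ k, q j k * (x j * x k) := by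
  unfold pol
  rw [map_sum]
  refine Finset.sum_congr rfl fun j _ => ?_
  rw [map_sum]
  refine Finset.sum_congr rfl fun k _ => ?_
  rw [map_mul, map_mul, eval_C, eval_X, eval_X]

theorem exists_zero {p n k : ℕ} [Fact p.Prime] (hk : 2 * k < n) (q : Fin k → Fin n → Fin n → ZMod p) :
    ∃ x : Fin n → ZMod p, x ≠ 0 ∧ ∀ i, ∑ j, ∑ l, q i j l * (x j * x l) = 0 := by
  classical
  by_contra hcon
  push Not at hcon
  have hdvd : p ∣ Nat.card {x : Fin n → ZMod p // ∀ i, eval x (pol (q i)) = 0} := by
    rw [Nat.card_eq_fintype_card]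
    convert char_dvd_card_solutions_of_fintype_sum_lt p (f := fun i => pol (q i)) ?_
    rw [Fintype.card_fin]
    refine lt_of_le_of_lt (Finset.sum_le_sum fun i _ => pol_deg (q i)) ?_
    rw [Finset.sum_const, Finset.card_univ, Fintype.card_fin, smul_eq_mul, mul_comm]
    exact hk
  have hone : Nat.card {x : Fin n → ZMod p // ∀ i, eval x (pol (q i)) = 0} = 1 := by
    rw [Nat.card_eq_fintype_card, Fintype.card_eq_one_iff]
    refine ⟨⟨0, fun i => ?_⟩, ?_⟩
    · rw [eval_pol]
      refine Finset.sum_eq_zero fun j _ => Finset.sum_eq_zero fun l _ => ?_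
      rw [Pi.zero_apply, zero_mul, mul_zero]
    · rintro ⟨x, hx⟩
      apply Subtype.ext
      change x = 0
      by_contra h0
      obtain ⟨i, hi⟩ := hcon x h0
      apply hi
      rw [← eval_pol]
      exact hx i
  rw [hone] at hdvd
  exact (Fact.out : p.Prime).one_lt.ne' (Nat.dvd_one.1 hdvd)

theorem finrank_le {p : ℕ} [Fact p.Prime] {V A : Type*} [AddCommGroup V] [AddCommGroup A] [Module (ZMod p) V]
    [Module (ZMod p) A] [Module.Finite (ZMod p) V] [Module.Finite (ZMod p) A]
    (b : V → V → A) (hadd : ∀ x y z, b (x + y) z = b x z + b y z) (hadd' : ∀ x y z, b x (y + z) = b x y + b x z)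
    (hs : ∀ (c : ZMod p) x y, b (c • x) y = c • b x y) (hs' : ∀ (c : ZMod p) x y, b x (c • y) = c • b x y)
    (h : ∀ x, b x x = 0 → x = 0) :
    Module.finrank (ZMod p) V ≤ 2 * Module.finrank (ZMod p) A := by
  classical
  by_contra hlt
  push Not at hlt
  have v := Module.finBasis (ZMod p) V
  have a := Module.finBasis (ZMod p) A
  obtain ⟨B, hB⟩ : ∃ B : V →ₗ[ZMod p] V →ₗ[ZMod p] A, ∀ x y, B x y = b x y :=
    ⟨LinearMap.mk₂ (ZMod p) b hadd hs hadd' hs', fun _ _ => rfl⟩
  obtain ⟨x, hx, hq⟩ := exists_zero hlt fun i j l => a.repr (b (v j) (v l)) i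
  have e1 : b (∑ j, x j • v j) (∑ l, x l • v l) = ∑ j, ∑ l, (x j * x l) • b (v j) (v l) := by
    rw [← hB, LinearMap.map_sum₂]
    refine Finset.sum_congr rfl fun j _ => ?_
    rw [map_sum]
    refine Finset.sum_congr rfl fun l _ => ?_
    rw [map_smul, map_smul, LinearMap.smul_apply, smul_smul, mul_comm, hB]
  have h1 : b (∑ j, x j • v j) (∑ j, x j • v j) = 0 := by
    apply a.repr.injective
    rw [map_zero]
    ext i
    rw [e1, map_sum, Finsupp.zero_apply, ← hq i, Finsupp.finsetSum_apply]
    refine Finset.sum_congr rfl fun j _ => ?_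
    rw [map_sum, Finsupp.finsetSum_apply]
    refine Finset.sum_congr rfl fun l _ => ?_
    rw [map_smul, Finsupp.smul_apply, smul_eq_mul, mul_comm]
  have h2 := h _ h1
  apply hx
  have h3 := Fintype.linearIndependent_iff.1 v.linearIndependent x h2
  funext j
  exact h3 j

theorem card_le_sq {p : ℕ} [Fact p.Prime] {P A : Type*} [CommGroup P] [CommGroup A] [Finite P] [Finite A]
    (hP : ∀ x : P, x ^ p = 1) (hA : ∀ x : A, x ^ p = 1) (b : P → P → A)
    (h1 : ∀ x y z, b (x * y) z = b x z * b y z) (h2 : ∀ x y z, b x (y * z) = b x y * b x z)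
    (h : ∀ x, b x x = 1 → x = 1) : Nat.card P ≤ Nat.card A ^ 2 := by
  let _ : Module (ZMod p) (Additive P) := AddCommGroup.zmodModule (n := p) (fun x => hP x)
  let _ : Module (ZMod p) (Additive A) := AddCommGroup.zmodModule (n := p) (fun x => hA x)
  have : Finite (Additive P) := inferInstanceAs (Finite P)
  have : Finite (Additive A) := inferInstanceAs (Finite A)
  let b' : Additive P → Additive P → Additive A := fun x y => Additive.ofMul (b x.toMul y.toMul)
  have a1 : ∀ x y z, b' (x + y) z = b' x z + b' y z := fun x y z => h1 _ _ _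
  have a2 : ∀ x y z, b' x (y + z) = b' x y + b' x z := fun x y z => h2 _ _ _
  let f1 : ∀ y, Additive P →+ Additive A := fun y => AddMonoidHom.mk' (fun x => b' x y) (fun x x' => a1 x x' y)
  let f2 : ∀ x, Additive P →+ Additive A := fun x => AddMonoidHom.mk' (fun y => b' x y) (fun y y' => a2 x y y')
  have key := finrank_le (p := p) b' a1 a2 (fun c x y => ZMod.map_smul (f1 y) c x)
    (fun c x y => ZMod.map_smul (f2 x) c y) (fun x hx => h x.toMul hx)
  have e1 : Nat.card P = p ^ Module.finrank (ZMod p) (Additive P) := by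
    have := Module.natCard_eq_pow_finrank (K := ZMod p) (V := Additive P)
    rw [Nat.card_zmod] at this
    exact this
  have e2 : Nat.card A = p ^ Module.finrank (ZMod p) (Additive A) := by
    have := Module.natCard_eq_pow_finrank (K := ZMod p) (V := Additive A)
    rw [Nat.card_zmod] at this
    exact this
  rw [e1, e2, ← pow_mul, mul_comm]
  exact Nat.pow_le_pow_right (Fact.out : p.Prime).pos key

end Cfsg.Agent.Cit.DWarn
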