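import Cfsg.Agent.Cit.LemmaATwo
import Cfsg.Agent.Cit.ParabSL2Opp

/-!
# The `SLSys` of a subgroup isomorphic to `SL(2,F)`

`SLSysOf.ofEquiv e : SLSys F G` for `e : SL(2,F) ≃* K`, with `A = root e`, `A' = rootOp e`.
-/

set_option autoImplicit false
set_option linter.unusedSectionVars false

namespace Cfsg.Agent.Cit.SLSysOf

open Subgroup Cfsg Matrix Cfsg.Agent.Lib.SL2Mat Cfsg.Agent.Cit.LemmaATwo Cfsg.Agent.Cit.ParabSL2

variable {G : Type*} [Group G] {F : Type*} [Field F]

theorem dg_one : dg (1 : F) one_ne_zero = 1 := by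
  refine ext_ent ?_ ?_ ?_ ?_ <;> simp

theorem dg_mul (s t : F) (hs : s ≠ 0) (ht : t ≠ 0) : dg (s * t) (mul_ne_zero hs ht) = dg s hs * dg t ht := by
  refine ext_ent ?_ ?_ ?_ ?_ <;> rw [ent_mul] <;> simp
  ring

theorem dg_lo (s c : F) (hs : s ≠ 0) : dg s hs * lo c = lo (s⁻¹ * s⁻¹ * c) * dg s hs := by
  refine ext_ent ?_ ?_ ?_ ?_ <;> rw [ent_mul, ent_mul] <;> simp
  field_simp

theorem wm_dg (s : F) (hs : s ≠ 0) :
    wm (1 : F) one_ne_zero * dg s hs = dg s⁻¹ (inv_ne_zero hs) * wm 1 one_ne_zero := by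
  refine ext_ent ?_ ?_ ?_ ?_ <;> rw [ent_mul, ent_mul] <;> simp

theorem wm_sq : wm (1 : F) one_ne_zero * wm 1 one_ne_zero = dg (-1) (neg_ne_zero.2 one_ne_zero) := by
  refine ext_ent ?_ ?_ ?_ ?_ <;> rw [ent_mul] <;> simp

theorem wm_eq_dg (t : F) (ht : t ≠ 0) : wm t ht = dg t ht * wm 1 one_ne_zero := by
  refine ext_ent ?_ ?_ ?_ ?_ <;> rw [ent_mul] <;> simp

open Classical in
/-- The system belonging to an isomorphism `SL(2,F) ≃ K`. -/
noncomputable def ofHom (φ : Matrix.SpecialLinearGroup (Fin 2) F →* G) (hφ : Function.Injective φ) :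
    SLSys F G where
  xp t := φ (up t)
  xm t := φ (lo t)
  h s := if hs : s = 0 then 1 else φ (dg s hs)
  w := φ (wm 1 one_ne_zero)
  xp_add s t := by rw [← up_mul, map_mul]
  xm_add s t := by rw [← lo_mul, map_mul]
  h_one := by rw [dif_neg one_ne_zero, dg_one, map_one]
  h_mul s t hs ht := by
    rw [dif_neg hs, dif_neg ht, dif_neg (mul_ne_zero hs ht), dg_mul s t hs ht, map_mul]
  h_xp s t hs := by
    rw [dif_neg hs]
    unfold ac
    rw [← map_mul, dg_up, map_mul, mul_inv_cancel_right, pow_two]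
  h_xm s t hs := by
    rw [dif_neg hs]
    unfold ac
    rw [← map_mul, dg_lo, map_mul, mul_inv_cancel_right]
  w_xp t := by
    unfold ac
    rw [← map_mul, wm_up, map_mul, mul_inv_cancel_right]
    congr 2
    ring
  w_xm t := by
    unfold ac
    rw [← map_mul, wm_lo, map_mul, mul_inv_cancel_right]
    congr 2
    ring
  w_h s hs := by
    rw [dif_neg hs, dif_neg (inv_ne_zero hs)]
    unfold ac
    rw [← map_mul, wm_dg, map_mul, mul_inv_cancel_right]
  w_sq := by
    rw [dif_neg (neg_ne_zero.2 one_ne_zero), ← map_mul, wm_sq]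
  weyl t ht := by
    rw [dif_neg ht, ← map_mul, ← map_mul, ← map_mul, ← wm_eq t ht, wm_eq_dg]
  xp_inj t ht := by
    have h1 : up t = 1 := hφ (by rw [ht, map_one])
    rw [← up_zero] at h1
    exact up_inj h1

variable {K : Subgroup G} (e : Matrix.SpecialLinearGroup (Fin 2) F ≃* K)

/-- The system belonging to an isomorphism `SL(2,F) ≃ K`. -/
noncomputable def ofEquiv : SLSys F G :=
  ofHom (K.subtype.comp e.toMonoidHom) (K.subtype_injective.comp e.injective)

theorem ofEquiv_xp (t : F) : (ofEquiv e).xp t = (e (up t) : G) := rfl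
theorem ofEquiv_xm (t : F) : (ofEquiv e).xm t = (e (lo t) : G) := rfl
theorem ofEquiv_w : (ofEquiv e).w = (e (wm 1 one_ne_zero) : G) := rfl
theorem ofEquiv_h {s : F} (hs : s ≠ 0) : (ofEquiv e).h s = (e (dg s hs) : G) := by
  unfold ofEquiv ofHom
  simp only [dif_neg hs]
  rfl

theorem xp_mem (t : F) : (ofEquiv e).xp t ∈ K := (e _).2
theorem xm_mem (t : F) : (ofEquiv e).xm t ∈ K := (e _).2
theorem w_mem : (ofEquiv e).w ∈ K := (e _).2
theorem h_mem {s : F} (hs : s ≠ 0) : (ofEquiv e).h s ∈ K := by rw [ofEquiv_h e hs]; exact (e _).2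

theorem A_eq : (ofEquiv e).A = root e := by
  ext x
  rw [mem_root, SLSys.mem_A]
  rfl

theorem A'_eq : (ofEquiv e).A' = rootOp e := by
  ext x
  rw [mem_rootOp, SLSys.mem_A']
  rfl

/-- `h (-1)` is the central involution. -/
theorem h_neg_one : (ofEquiv e).h (-1) = (e (-1) : G) := by
  rw [ofEquiv_h e (neg_ne_zero.2 one_ne_zero)]
  congr 2
  refine ext_ent ?_ ?_ ?_ ?_
  · rw [dg_00]; rfl
  · rw [dg_01]; show (0 : F) = -(0 : F); rw [neg_zero]
  · rw [dg_10]; show (0 : F) = -(0 : F); rw [neg_zero]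
  · rw [dg_11, inv_neg, inv_one]; rfl

/-- `h (-1)` is the only involution of `K`. -/
theorem h_neg_one_eq (h2 : (2 : F) ≠ 0) {z : G} (hz : z ∈ K) (hz2 : orderOf z = 2) :
    (ofEquiv e).h (-1) = z := by
  have h1 : z * z = 1 := by rw [← pow_two, ← hz2, pow_orderOf_eq_one]
  have h1' : z ≠ 1 := by
    intro h
    rw [h, orderOf_one] at hz2
    omega
  set g := e.symm ⟨z, hz⟩ with hg
  have hgz : (e g : G) = z := by rw [hg, MulEquiv.apply_symm_apply]
  have hgg : g * g = 1 := by
    apply e.injective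
    apply Subtype.ext
    rw [map_mul, Subgroup.coe_mul, hgz, h1, map_one]
    rfl
  have hg1 : g ≠ 1 := by
    rintro h
    rw [h, map_one] at hgz
    exact h1' hgz.symm
  have e00 := congrArg (fun m => ent m 0 0) hgg
  have e01 := congrArg (fun m => ent m 0 1) hgg
  have e10 := congrArg (fun m => ent m 1 0) hgg
  have e11 := congrArg (fun m => ent m 1 1) hgg
  simp only [ent_mul, ent_one_00, ent_one_01, ent_one_10, ent_one_11] at e00 e01 e10 e11
  have hd := det_eq g
  -- the trace is nonzero or `g` is a scalar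
  have t01 : ent g 0 1 * (ent g 0 0 + ent g 1 1) = 0 := by linear_combination e01
  have t10 : ent g 1 0 * (ent g 0 0 + ent g 1 1) = 0 := by linear_combination e10
  have ht : ent g 0 0 + ent g 1 1 ≠ 0 := by
    intro h0
    have : (2 : F) = 0 := by
      have h3 : ent g 1 1 = -ent g 0 0 := by linear_combination h0
      rw [h3] at hd
      linear_combination -e00 - hd
    exact h2 this
  have h01 : ent g 0 1 = 0 := (mul_eq_zero.1 t01).resolve_right ht
  have h10 : ent g 1 0 = 0 := (mul_eq_zero.1 t10).resolve_right ht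
  rw [h01, h10] at e00 e11 hd
  have e00' : ent g 0 0 * ent g 0 0 = 1 := by linear_combination e00
  rcases mul_self_eq_one_iff.1 e00' with h00 | h00
  · exfalso
    apply hg1
    refine ext_ent h00 h01 h10 ?_
    rw [h00] at hd
    show ent g 1 1 = 1
    linear_combination hd
  · rw [h_neg_one, ← hgz]
    congr 2
    refine ext_ent ?_ ?_ ?_ ?_
    · rw [h00]; rfl
    · rw [h01]; show -(0 : F) = 0; rw [neg_zero]
    · rw [h10]; show -(0 : F) = 0; rw [neg_zero]
    · rw [h00] at hd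
      have : ent g 1 1 = -1 := by linear_combination -hd
      rw [this]; rfl

end Cfsg.Agent.Cit.SLSysOf
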