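import Mathlib
import Cfsg.Agent.Cit.DTwo
import Cfsg.Agent.Cit.DWarn
import Cfsg.Agent.Cit.SLSysOf
import Cfsg.Agent.Cit.Parab
import Cfsg.Agent.Lib.ActCount

/-!
# Charts of type `C 2` with `z (2 ε₀) = z (2 ε₁)`: the order of `X (ε₀ + ε₁)` (project CIT)

* `P_eq` : `VV (2 ε₀) ⊓ VV (2 ε₁) = X (ε₀ + ε₁)`;
* `free` : the torus of `⟨B, B'⟩` acts freely;
* `card_le` : `|X (ε₀ + ε₁)| ≤ q²`;
* `card_yp` : `|X (ε₀ + ε₁)| = q²` if two elements `y`, `a` with `y² = z`, `a y a⁻¹ = y⁻¹` centralise `A`, `B`, `B'`.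
-/

set_option autoImplicit false
set_option linter.unusedSectionVars false
set_option linter.unusedSimpArgs false

namespace Cfsg.Agent.Cit.DTor

open CoxeterSystem Cfsg.Agent.ChevalleyStructure.CoxeterGeom Cfsg.Agent.Tits.Roots Cfsg.Agent.Tits.Core
  Cfsg.Agent.Tits.RootComb Cfsg.Agent.Nodes.Comb Cfsg.Agent.Nodes.Reps Cfsg.Agent.Nodes.BNOf
  Cfsg.Agent.Nodes.Coroot Cfsg.Agent.Nodes.PairOf Cfsg.Agent.Nodes.OppDec Cfsg.Agent.Nodes.Bruhat
  Cfsg.Agent.Nodes.Chart Cfsg.Agent.Nodes.RGDLib Cfsg.Agent.Nodes.LeviDec Cfsg.Agent.Nodes.ChartLoc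
  Cfsg.Agent.Nodes.ClsNorm Cfsg.Agent.Nodes.SubComb Cfsg.Agent.Nodes.TypeC Cfsg.Agent.Nodes.KindBC
  Cfsg.Agent.Nodes.MuSq Cfsg.Agent.Cit.DTwoCoord Cfsg.Agent.Cit.DTwo
open Cfsg.Agent.Cit.ParabSL2 Cfsg.Agent.Lib.SL2Mat Cfsg.Agent.Cit.SLSysOf
open scoped commutatorElement

/-! ### Counting -/

section Count

variable {G : Type*} [Group G] [Finite G]

/-- the conjugation action of `T` on `V ∖ 1` -/
@[reducible] def actC (T V : Subgroup G) (hTV : ∀ t ∈ T, ∀ v ∈ V, t * v * t⁻¹ ∈ V) :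
    MulAction T {v : V // v ≠ 1} where
  smul := fun t v => ⟨⟨(t : G) * v.1 * (t : G)⁻¹, hTV t t.2 _ v.1.2⟩, by
    intro h
    apply v.2
    have h1 : (t : G) * v.1 * (t : G)⁻¹ = 1 := congrArg Subtype.val h
    have h2 : (v.1 : G) = 1 := by
      have := congrArg (fun x => (t : G)⁻¹ * x * t) h1
      simpa [mul_assoc] using this
    exact Subtype.ext h2⟩
  one_smul := fun v => by
    apply Subtype.ext; apply Subtype.ext
    change ((1 : T) : G) * v.1 * ((1 : T) : G)⁻¹ = v.1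
    simp
  mul_smul := fun s t v => by
    apply Subtype.ext; apply Subtype.ext
    change ((s * t : T) : G) * v.1 * ((s * t : T) : G)⁻¹ =
      (s : G) * ((t : G) * v.1 * (t : G)⁻¹) * (s : G)⁻¹
    rw [Subgroup.coe_mul]; group

theorem card_ne_one (V : Subgroup G) : Nat.card {v : V // v ≠ 1} = Nat.card V - 1 := by
  have h1 := Set.ncard_compl ({1} : Set V)
  rw [Set.ncard_singleton] at h1
  rw [← h1]
  rfl

theorem card_dvd_conj (T V : Subgroup G) (hTV : ∀ t ∈ T, ∀ v ∈ V, t * v * t⁻¹ ∈ V)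
    (hfree : ∀ t ∈ T, ∀ v ∈ V, v ≠ 1 → t * v = v * t → t = 1) : Nat.card T ∣ Nat.card V - 1 := by
  classical
  let act : MulAction T {v : V // v ≠ 1} := actC T V hTV
  obtain ⟨m, hm⟩ := Lib.ActCount.exists_card_mul (H := T) (Y := {v : V // v ≠ 1}) 1 (by
    intro v
    rw [Subgroup.card_eq_one, eq_bot_iff]
    intro t ht
    rw [Subgroup.mem_bot]
    have h1 : (⟨(t : G) * v.1 * (t : G)⁻¹, hTV t t.2 _ v.1.2⟩ : V) = v.1 :=
      congrArg Subtype.val (MulAction.mem_stabilizer_iff.mp ht)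
    have h2 : (t : G) * v.1 * (t : G)⁻¹ = v.1 := congrArg Subtype.val h1
    rw [mul_inv_eq_iff_eq_mul] at h2
    exact Subtype.ext (hfree t t.2 _ v.1.2 (fun h3 => v.2 (Subtype.ext h3)) h2))
  rw [← card_ne_one]
  exact ⟨m, by rw [← Nat.one_mul (Nat.card _), hm, mul_comm]⟩

/-- the regular case -/
theorem exists_conj_of_card (T V : Subgroup G) (hTV : ∀ t ∈ T, ∀ v ∈ V, t * v * t⁻¹ ∈ V)
    (hfree : ∀ t ∈ T, ∀ v ∈ V, v ≠ 1 → t * v = v * t → t = 1) (hc : Nat.card V = Nat.card T + 1) {v v' : G}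
    (hv : v ∈ V) (hv1 : v ≠ 1) (hv' : v' ∈ V) (hv1' : v' ≠ 1) : ∃ t ∈ T, t * v * t⁻¹ = v' := by
  let f : T → {v : V // v ≠ 1} := fun t => (actC T V hTV).smul t ⟨⟨v, hv⟩, fun h => hv1 (congrArg Subtype.val h)⟩
  have hf : ∀ t : T, ((f t).1 : G) = t * v * (t : G)⁻¹ := fun t => rfl
  have hinj : Function.Injective f := by
    intro s t hst
    have h1 : (s : G) * v * (s : G)⁻¹ = t * v * (t : G)⁻¹ := by rw [← hf, ← hf, hst]
    have h2 := hfree ((t : G)⁻¹ * s) (mul_mem (inv_mem t.2) s.2) v hv hv1 (by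
      calc (t : G)⁻¹ * s * v = (t : G)⁻¹ * ((s : G) * v * (s : G)⁻¹) * s := by group
        _ = (t : G)⁻¹ * ((t : G) * v * (t : G)⁻¹) * s := by rw [h1]
        _ = v * ((t : G)⁻¹ * s) := by group)
    exact Subtype.ext (inv_mul_eq_one.1 h2).symm
  have hbij : Function.Bijective f := by
    rw [Nat.bijective_iff_injective_and_card]
    refine ⟨hinj, ?_⟩
    rw [card_ne_one, hc]
    omega
  obtain ⟨t, ht⟩ := hbij.2 ⟨⟨v', hv'⟩, fun h => hv1' (congrArg Subtype.val h)⟩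
  refine ⟨t, t.2, ?_⟩
  rw [← hf, ht]

end Count

/-- `q - 1 ∣ m - 1`, `m ≤ q²` -/
theorem card_cases {p q m : ℕ} (hp : 1 < p) (hq : ∃ k, q = p ^ k) (hm : ∃ k, m = p ^ k) (h1 : 1 < q)
    (hm1 : 1 < m) (hdvd : q - 1 ∣ m - 1) (hle : m ≤ q ^ 2) : m = q ∨ m = q ^ 2 := by
  obtain ⟨k, rfl⟩ := hq
  obtain ⟨N, rfl⟩ := hm
  have hg := Nat.pow_sub_one_gcd_pow_sub_one p k N
  rw [Nat.gcd_eq_left hdvd] at hg
  have hk0 : k ≠ 0 := by
    rintro rfl
    rw [pow_zero] at h1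
    omega
  have hN0 : N ≠ 0 := by
    rintro rfl
    rw [pow_zero] at hm1
    omega
  have h2 : k = Nat.gcd k N := by
    apply Nat.pow_right_injective hp
    change p ^ k = p ^ Nat.gcd k N
    have h3 : 0 < p ^ k := Nat.pow_pos (by omega)
    have h4 : 0 < p ^ Nat.gcd k N := Nat.pow_pos (by omega)
    omega
  have h3 : k ∣ N := by rw [h2]; exact Nat.gcd_dvd_right k N
  obtain ⟨c, rfl⟩ := h3
  have h4 : k * c ≤ k * 2 := by
    rw [← pow_mul] at hle
    exact (Nat.pow_le_pow_iff_right hp).1 hle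
  have h5 : c ≤ 2 := Nat.le_of_mul_le_mul_left h4 (by omega)
  have h6 : c = 1 ∨ c = 2 := by
    have : c ≠ 0 := by rintro rfl; exact hN0 (mul_zero k)
    omega
  rcases h6 with rfl | rfl
  · left; rw [mul_one]
  · right; rw [pow_mul]

/-! ### The group `X (ε₀ + ε₁)` -/

variable {W Y : Type*} [Group W] [Fintype W] [Group Y] {cs : CoxeterSystem (CoxeterMatrix.B 2) W}
  {p : ℕ} {T : Subgroup Y} {n : Fin 2 → Y} {X : (Fin 2 → ℤ) → Subgroup Y}
  {Z : (Fin 2 → ℤ) → Subgroup Y} {z : (Fin 2 → ℤ) → Y}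
  (C : Cls cs (isCartan 2) p T n X (RC 2) Z z)

include C

theorem pos_rr' {y : Fin 2 → ℤ} (hy : IsRoot cs (isCartan 2) y) (h0 : 0 < form cs (isCartan 2) y rr) :
    y = rr ∨ y = yp ∨ y = ym := by
  refine pos_rr hy ?_
  rw [← cpr_rr (cs := cs)]
  exact (form_sign y root_rr).1.1 h0

theorem form_pos_iff_ss {y : Fin 2 → ℤ} : 0 < form cs (isCartan 2) y ss ↔ 0 < fc 1 y := by
  rw [(form_sign y root_ss).1, cpr_ss]

theorem form_pos_iff_rr {y : Fin 2 → ℤ} : 0 < form cs (isCartan 2) y rr ↔ 0 < fc 0 y := by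
  rw [(form_sign y root_rr).1, cpr_rr]

section Twin

variable (hp2 : p ≠ 2) [Fact p.Prime] (hzz : z rr = z ss)

theorem X_yp_le : X yp ≤ VV cs (isCartan 2) X rr ⊓ VV cs (isCartan 2) X ss := by
  refine le_inf ?_ ?_
  · exact RGD.le_Sup (S := {y | IsRoot cs (isCartan 2) y ∧ 0 < form cs (isCartan 2) y rr})
      ⟨root_yp, by rw [form_pos_iff_rr C, fc_yp.1]; decide⟩
  · exact RGD.le_Sup (S := {y | IsRoot cs (isCartan 2) y ∧ 0 < form cs (isCartan 2) y ss})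
      ⟨root_yp, by rw [form_pos_iff_ss C, fc_yp.2]; decide⟩

include hp2 hzz

theorem P_eq : VV cs (isCartan 2) X rr ⊓ VV cs (isCartan 2) X ss = X yp := by
  refine le_antisymm ?_ (X_yp_le C)
  rintro x ⟨hx, hx'⟩
  have h1 : x ∈ RGD.Sup X {x | x ∈ {x | IsRoot cs (isCartan 2) x} ∧ 0 < fc 0 x} :=
    RGD.Sup_mono (S := {y | IsRoot cs (isCartan 2) y ∧ 0 < form cs (isCartan 2) y rr})
      (S' := {x | x ∈ {x | IsRoot cs (isCartan 2) x} ∧ 0 < fc 0 x})
      (fun x hx => ⟨hx.1, (form_pos_iff_rr C).1 hx.2⟩) hx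
  obtain ⟨a, ha, c, hc, rfl⟩ := Cfsg.Agent.Nodes.Slope.split C.rgd
    ((Cfsg.Agent.Nodes.Slope.closed_univ (cs := cs) (h := isCartan 2)).pos (fc 0)) (fc 0) (fc 1)
    (fun x hx => hx.2) h1
  have h2 : a ∈ X yp := by
    refine RGD.Sup_le (S := {x | x ∈ {x | x ∈ {x | IsRoot cs (isCartan 2) x} ∧ 0 < fc 0 x} ∧ 0 < fc 1 x})
      ?_ ha
    rintro y ⟨⟨hy, h3⟩, h4⟩
    rcases pos_rr hy h3 with rfl | rfl | rfl
    · rw [fc_rr.2] at h4; exact absurd h4 (by decide)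
    · exact le_rfl
    · rw [fc_ym.2] at h4; exact absurd h4 (by decide)
  have h3 : c = 1 := by
    have h4 : c ∈ VV cs (isCartan 2) X ss := by
      have := mul_mem (inv_mem (Subgroup.mem_inf.1 (X_yp_le C h2)).2) hx'
      rwa [inv_mul_cancel_left] at this
    refine Cfsg.Agent.Nodes.Slope.sup_inf_sup' C.rgd (fc 1) (fc 0) ?_ ?_
    · exact RGD.Sup_mono (S := {y | IsRoot cs (isCartan 2) y ∧ 0 < form cs (isCartan 2) y ss})
        (S' := {x | IsRoot cs (isCartan 2) x ∧ 0 < fc 1 x})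
        (fun x hx => ⟨hx.1, (form_pos_iff_ss C).1 hx.2⟩) h4
    · exact RGD.Sup_mono (S := {x | x ∈ {x | x ∈ {x | IsRoot cs (isCartan 2) x} ∧ 0 < fc 0 x} ∧ fc 1 x ≤ 0})
        (S' := {x | IsRoot cs (isCartan 2) x ∧ fc 1 x ≤ 0 ∧ 0 < fc 0 x})
        (fun x hx => ⟨hx.1.1, hx.2, hx.1.2⟩) hc
  rw [h3, mul_one]
  exact h2

theorem abP [Finite Y] {x x' : Y} (hx : x ∈ X yp) (hx' : x' ∈ X yp) : x * x' = x' * x := by
  have h1 : ⁅x, x'⁆ ∈ Z rr :=
    commutator_VV_le C hp2 rr_mem (Subgroup.commutator_mem_commutator (X_yp_le C hx).1 (X_yp_le C hx').1)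
  have h2 : ⁅x, x'⁆ ∈ X rr ⊓ X yp := by
    refine ⟨C.le rr rr_mem h1, ?_⟩
    rw [commutatorElement_def]
    exact (X yp).mul_mem ((X yp).mul_mem ((X yp).mul_mem hx hx') ((X yp).inv_mem hx)) ((X yp).inv_mem hx')
  rw [X_inf_X C.rgd root_rr root_yp (ne_of_fc 1 (by rw [fc_rr.2, fc_yp.2]; decide)), Subgroup.mem_bot] at h2
  exact commutatorElement_eq_one_iff_mul_comm.1 h2

theorem norm_of_cent [Finite Y] {g : Y} (hg : g ∈ Subgroup.normalizer (GG cs (isCartan 2) T X : Set Y))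
    (hr : ∀ x ∈ Z rr, g * x = x * g) (hs : ∀ x ∈ Z ss, g * x = x * g) {v : Y} (hv : v ∈ X yp) :
    g * v * g⁻¹ ∈ X yp := by
  have h1 := cj_VV_le C rr_mem hg hr
  have h2 := cj_VV_le C ss_mem hg hs
  rw [← P_eq C hp2 hzz] at hv ⊢
  exact ⟨h1 (conj_mem_cj hv.1), h2 (conj_mem_cj hv.2)⟩

omit [Fact p.Prime] hzz in
theorem KK_le : Z ss ⊔ Z (-ss) ≤ GG cs (isCartan 2) T X :=
  sup_le ((C.le _ ss_mem).trans fun _ h => X_le_GG root_ss h)
    ((C.le _ (neg_mem C ss_mem)).trans fun _ h => X_le_GG (root_ss (cs := cs)).neg h)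

omit [Fact p.Prime] hp2 hzz in
theorem KK_cm_rr {g : Y} (hg : g ∈ Z ss ⊔ Z (-ss)) {x : Y} (hx : x ∈ X rr) : g * x = x * g :=
  (cm_KK C ss_mem root_rr (by rw [cpr_ss, fc_rr.2]) hx hg).symm

section SL

variable {F : Type*} [Field F] [Fintype F] {K : Subgroup Y}

omit [Fintype F] in
/-- the torus of `⟨B, B'⟩` -/
def tor (e : Matrix.SpecialLinearGroup (Fin 2) F ≃* K) : Fˣ →* Y where
  toFun l := (e (dg (l : F) l.ne_zero) : Y)
  map_one' := by
    have h1 : dg ((1 : Fˣ) : F) (1 : Fˣ).ne_zero = 1 := dg_one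
    rw [h1, map_one, Subgroup.coe_one]
  map_mul' l m := by
    have h1 : dg ((l * m : Fˣ) : F) (l * m : Fˣ).ne_zero = dg (l : F) l.ne_zero * dg (m : F) m.ne_zero :=
      dg_mul _ _ _ _
    rw [h1, map_mul, Subgroup.coe_mul]

variable (e : Matrix.SpecialLinearGroup (Fin 2) F ≃* K)

omit C hp2 hzz in
theorem tor_apply (l : Fˣ) : tor e l = (e (dg (l : F) l.ne_zero) : Y) := rfl

omit C hp2 hzz in
theorem tor_injective : Function.Injective (tor e) := by
  intro l m h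
  rw [tor_apply, tor_apply] at h
  have h1 := e.injective (Subtype.ext h)
  have h2 := congrArg (fun x => ent x 0 0) h1
  exact Units.ext h2

omit C hp2 hzz in
theorem tor_root (l : Fˣ) {x : Y} (hx : x ∈ root e) : tor e l * x * (tor e l)⁻¹ ∈ root e := by
  obtain ⟨b, rfl⟩ := mem_root.1 hx
  rw [mem_root]
  refine ⟨(l : F) ^ 2 * b, ?_⟩
  rw [tor_apply, eq_mul_inv_iff_mul_eq, ← Subgroup.coe_mul, ← Subgroup.coe_mul, ← map_mul, ← map_mul, dg_up]

omit C hp2 hzz in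
theorem tor_rootOp (l : Fˣ) {x : Y} (hx : x ∈ rootOp e) : tor e l * x * (tor e l)⁻¹ ∈ rootOp e := by
  obtain ⟨b, rfl⟩ := mem_rootOp.1 hx
  rw [mem_rootOp]
  refine ⟨(l : F)⁻¹ * (l : F)⁻¹ * b, ?_⟩
  rw [tor_apply, eq_mul_inv_iff_mul_eq, ← Subgroup.coe_mul, ← Subgroup.coe_mul, ← map_mul, ← map_mul, dg_lo]

omit C hp2 hzz in
theorem tor_eq_or (l : Fˣ) {x : Y} (hx : x ∈ rootOp e) (hx1 : x ≠ 1) (h : tor e l * x = x * tor e l) :
    l = 1 ∨ l = -1 := by
  obtain ⟨b, rfl⟩ := mem_rootOp.1 hx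
  have hb : b ≠ 0 := by
    rintro rfl
    apply hx1
    rw [lo_zero, map_one]
    rfl
  rw [tor_apply, ← Subgroup.coe_mul, ← Subgroup.coe_mul, ← map_mul, ← map_mul] at h
  have h1 := e.injective (Subtype.ext h)
  have h2 := congrArg (fun x => ent x 1 0) h1
  simp only [ent_mul, dg_00, dg_01, dg_10, dg_11, lo_00, lo_01, lo_10, lo_11] at h2
  have h3 : (l : F) * l = 1 := by
    have hl := l.ne_zero
    have h4 : (l : F)⁻¹ * b = b * l := by linear_combination h2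
    have h5 : b * ((l : F) * l - 1) = 0 := by
      have h6 : (l : F) * ((l : F)⁻¹ * b) = l * (b * l) := by rw [h4]
      rw [mul_inv_cancel_left₀ hl] at h6
      linear_combination -h6
    rcases mul_eq_zero.1 h5 with h6 | h6
    · exact absurd h6 hb
    · linear_combination h6
  rcases mul_self_eq_one_iff.1 h3 with h4 | h4
  · exact Or.inl (Units.ext h4)
  · right
    apply Units.ext
    rw [h4]; rfl

omit C hp2 hzz in
/-- an element interchanging the two root groups inverts the torus -/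
theorem inv_tor {m : Y} (hm : m ∈ K) (h1 : ∀ x ∈ root e, m * x * m⁻¹ ∈ rootOp e)
    (h2 : ∀ x ∈ rootOp e, m * x * m⁻¹ ∈ root e) (l : Fˣ) : m * tor e l = (tor e l)⁻¹ * m := by
  obtain ⟨M, hM⟩ : ∃ M, (e M : Y) = m := ⟨e.symm ⟨m, hm⟩, by rw [MulEquiv.apply_symm_apply]⟩
  subst hM
  obtain ⟨b, hb⟩ := mem_rootOp.1 (h1 _ (mem_root.2 ⟨1, rfl⟩))
  obtain ⟨c, hc⟩ := mem_root.1 (h2 _ (mem_rootOp.2 ⟨1, rfl⟩))
  rw [eq_mul_inv_iff_mul_eq, ← Subgroup.coe_mul, ← Subgroup.coe_mul, ← map_mul, ← map_mul] at hb hc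
  have k1 := e.injective (Subtype.ext hb)
  have k2 := e.injective (Subtype.ext hc)
  have k3 := congrArg (fun x => ent x 0 1) k1
  have k4 := congrArg (fun x => ent x 1 0) k2
  simp only [ent_mul, up_00, up_01, up_10, up_11, lo_00, lo_01, lo_10, lo_11] at k3 k4
  have m00 : ent M 0 0 = 0 := by linear_combination -k3
  have m11 : ent M 1 1 = 0 := by linear_combination -k4
  rw [tor_apply, eq_inv_mul_iff_mul_eq, ← Subgroup.coe_mul, ← Subgroup.coe_mul, ← map_mul, ← map_mul]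
  congr 2
  have hl := l.ne_zero
  refine ext_ent ?_ ?_ ?_ ?_
  · simp only [ent_mul, dg_00, dg_01, dg_10, dg_11, m00, m11]; ring
  · simp only [ent_mul, dg_00, dg_01, dg_10, dg_11, m00, m11]; field_simp; ring
  · simp only [ent_mul, dg_00, dg_01, dg_10, dg_11, m00, m11]; field_simp; ring
  · simp only [ent_mul, dg_00, dg_01, dg_10, dg_11, m00, m11]; ring

section Fin

variable [Finite Y] (hK : K = Z ss ⊔ Z (-ss)) (he : Z ss = root e) (he' : Z (-ss) = rootOp e)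

include hK he

/-- the torus normalises `P` -/
theorem tor_P (l : Fˣ) {v : Y} (hv : v ∈ X yp) : tor e l * v * (tor e l)⁻¹ ∈ X yp := by
  have hg : tor e l ∈ Z ss ⊔ Z (-ss) := hK.le (e _).2
  have hgG := KK_le C hp2 hg
  have h1 : tor e l ∈ Subgroup.normalizer (VV cs (isCartan 2) X rr : Set Y) := by
    apply mem_normalizer_VV C rr_mem hgG
    apply centralizer_le_normalizer' (Z rr)
    rw [Subgroup.mem_centralizer_iff]
    exact fun x hx => (KK_cm_rr C hg (C.le _ rr_mem hx)).symm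
  have h2 : tor e l ∈ Subgroup.normalizer (VV cs (isCartan 2) X ss : Set Y) := by
    apply mem_normalizer_VV C ss_mem hgG
    rw [Cfsg.Agent.Cit.mem_normalizer_iff_cj]
    exact Cfsg.Agent.Cit.Parab.cj_eq_of_conj_mem fun x hx => he.ge (tor_root e l (he.le hx))
  rw [← P_eq C hp2 hzz] at hv ⊢
  exact ⟨(Subgroup.mem_normalizer_iff.1 h1 _).1 hv.1, (Subgroup.mem_normalizer_iff.1 h2 _).1 hv.2⟩

include he'

/-- **The torus acts freely on `P`.** -/
theorem free (h2 : (2 : F) ≠ 0) {l : Fˣ} {x : Y} (hx : x ∈ X yp) (hx1 : x ≠ 1)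
    (hl : tor e l * x = x * tor e l) : l = 1 := by
  set a := (e (lo 1) : Y) with had
  have ha : a ∈ rootOp e := mem_rootOp.2 ⟨1, rfl⟩
  have ha1 : a ≠ 1 := by
    intro h
    have h3 : e (lo 1) = e 1 := by rw [map_one]; exact Subtype.ext h
    have h4 := e.injective h3
    rw [← lo_zero] at h4
    exact one_ne_zero (lo_inj h4)
  have hZs := eqZ_ss C hp2 hzz
  have hZn := eqZ_nss C hp2 hzz
  have haX : a ∈ X (-ss) := hZn.ge (he'.ge ha)
  obtain ⟨u, hu, v, hv, w, hw, hre, hm, hc⟩ := exists_m C hp2 hzz haX ha1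
  have hmK : u * a * v ∈ K :=
    mul_mem (mul_mem (root_le e (he.le (hZs.le hu))) (e _).2) (root_le e (he.le (hZs.le hv)))
  set m := u * a * v with hmd
  have r1 : rep cs (isCartan 2) w ss = -ss := by
    rw [hre, fc_ss.2]
    refine eq_of_fc ?_ ?_
    · simp only [map_sub, map_zsmul, map_neg, fc_ss.1]; decide
    · simp only [map_sub, map_zsmul, map_neg, fc_ss.2]; decide
  have r2 : rep cs (isCartan 2) w (-ss) = ss := by rw [map_neg, r1, neg_neg]
  have hm1 : ∀ x ∈ root e, m * x * m⁻¹ ∈ rootOp e := by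
    intro x hx
    have h3 := C.rgd.conj_mem hw root_ss (hZs.ge (he.ge hx))
    rw [r1] at h3
    exact he'.le (hZn.le h3)
  have hm2 : ∀ x ∈ rootOp e, m * x * m⁻¹ ∈ root e := by
    intro x hx
    have h3 := C.rgd.conj_mem hw (root_ss (cs := cs)).neg (hZn.ge (he'.ge hx))
    rw [r2] at h3
    exact he.le (hZs.le h3)
  have e1 := inv_tor e hmK hm1 hm2 l
  have htK : tor e l ∈ K := (e _).2
  have hta : tor e l * a * (tor e l)⁻¹ ∈ rootOp e := tor_rootOp e l ha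
  set t := tor e l with htd
  obtain ⟨c, hcA, e2⟩ := hc x hx
  have e3 : t * (m * x * m⁻¹) * t⁻¹ = m * x * m⁻¹ := by
    have k1 : t * m = m * t⁻¹ := by
      calc t * m = t * (m * t) * t⁻¹ := by group
        _ = m * t⁻¹ := by rw [e1]; group
    calc t * (m * x * m⁻¹) * t⁻¹ = (t * m) * x * (t * m)⁻¹ := by group
      _ = m * t⁻¹ * (x * t) * m⁻¹ := by rw [k1]; group
      _ = m * x * m⁻¹ := by rw [← hl]; group
  have e4 : t * c = c * t := KK_cm_rr C (hK.le htK) hcA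
  have e5 : ⁅t * a * t⁻¹, x⁆ = ⁅a, x⁆ := by
    have k1 : t * x * t⁻¹ = x := by rw [hl]; group
    calc ⁅t * a * t⁻¹, x⁆ = ⁅t * a * t⁻¹, t * x * t⁻¹⁆ := by rw [k1]
      _ = t * ⁅a, x⁆ * t⁻¹ := by rw [commutatorElement_def, commutatorElement_def]; group
      _ = (t * (m * x * m⁻¹) * t⁻¹) * (t * c * t⁻¹) := by rw [e2]; group
      _ = ⁅a, x⁆ := by rw [e3, e4, e2]; group
  have e6 : x * (a⁻¹ * (t * a * t⁻¹)) = a⁻¹ * (t * a * t⁻¹) * x := by
    rw [commutatorElement_def, commutatorElement_def] at e5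
    have k1 := mul_right_cancel e5
    calc x * (a⁻¹ * (t * a * t⁻¹)) = a⁻¹ * (a * x * a⁻¹) * (t * a * t⁻¹) := by group
      _ = a⁻¹ * (t * a * t⁻¹) * x := by rw [← k1]; group
  have e7 : a⁻¹ * (t * a * t⁻¹) = 1 := by
    refine eq_one_of_comm C.rgd root_yp (root_ss (cs := cs)).neg
      (ne_of_fc 0 (by rw [map_neg, fc_yp.1, fc_ss.1]; decide))
      (ne_of_fc 0 (by rw [map_neg, map_neg, fc_yp.1, fc_ss.1]; decide)) btwn_nyp_nss ?_ hx hx1 ?_ e6
    · rw [cpr_yp, map_neg, map_neg, fc_ss.1, fc_ss.2]; decide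
    · exact hZn.ge (he'.ge (mul_mem (inv_mem ha) hta))
  have e8 : t * a = a * t := by
    have k1 := inv_mul_eq_one.1 e7
    calc t * a = (t * a * t⁻¹) * t := by group
      _ = a * t := by rw [← k1]
  rcases tor_eq_or e l ha ha1 e8 with h3 | h3
  · exact h3
  · exfalso
    have hi := inv_z C root_yp (by rw [fc_yp.2]; decide) (by rw [fc_yp.1]; decide) hx
    have hz2 := C.z_sq rr rr_mem
    have hz1 : z rr ≠ 1 := by
      intro h4
      rw [h4, one_mul, mul_one] at hi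
      exact hx1 (eq_one_of_sq' C hp2 root_yp hx hi)
    have hzo : orderOf (z rr) = 2 := orderOf_eq_prime (by rw [pow_two]; exact hz2) hz1
    have hzK : z rr ∈ K := by rw [hzz]; exact hK.ge (C.z_mem ss ss_mem)
    have h4 := h_neg_one_eq e h2 hzK hzo
    have h5 : t = z rr := by
      rw [← h4, htd, h3, ofEquiv_h e (neg_ne_zero.2 one_ne_zero)]
      rfl
    rw [h5] at hl
    rw [hl, mul_assoc, hz2, mul_one] at hi
    exact hx1 (eq_one_of_sq' C hp2 root_yp hx hi)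

include e in
/-- **`|P| ≤ q²`** -/
theorem card_le (hcard : Nat.card (Z rr) = Fintype.card F) (hexp : ∀ x ∈ Z rr, x ^ p = 1) :
    Nat.card (X yp) ≤ Fintype.card F ^ 2 := by
  set a := (e (lo 1) : Y) with had
  have ha : a ∈ rootOp e := mem_rootOp.2 ⟨1, rfl⟩
  have ha1 : a ≠ 1 := by
    intro h
    have h3 : e (lo 1) = e 1 := by rw [map_one]; exact Subtype.ext h
    have h4 := e.injective h3
    rw [← lo_zero] at h4
    exact one_ne_zero (lo_inj h4)
  have haX : a ∈ X (-ss) := (eqZ_nss C hp2 hzz).ge (he'.ge ha)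
  obtain ⟨u, hu, v, hv, w, hw, hre, hm, hc⟩ := exists_m C hp2 hzz haX ha1
  have han := fun x hx => aniso C hp2 hzz haX hm hc (x := x) hx
  set m := u * a * v with hmd
  have hZr := eqZ_rr C hp2 hzz
  have hA : ∀ b ∈ X yp, ∀ c ∈ X rr, b * c = c * b := fun b hb c hc =>
    cm_rr C hp2 hzz root_yp (by rw [fc_yp.1]; decide) hc hb
  have hAq : ∀ b ∈ X ym, ∀ c ∈ X rr, b * c = c * b := fun b hb c hc =>
    cm_rr C hp2 hzz root_ym (by rw [fc_ym.1]; decide) hc hb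
  have hAA : ∀ b ∈ X rr, ∀ c ∈ X rr, b * c = c * b := fun b hb c hc =>
    cm_rr C hp2 hzz root_rr (by rw [fc_rr.1]; decide) hc hb
  let _ : CommGroup (X yp) :=
    { (inferInstance : Group (X yp)) with
      mul_comm := fun x y => Subtype.ext (abP C hp2 hzz x.2 y.2) }
  let _ : CommGroup (X rr) :=
    { (inferInstance : Group (X rr)) with
      mul_comm := fun x y => Subtype.ext (hAA x x.2 y y.2) }
  let σ : X yp → X yp → X rr := fun x y => ⟨⁅m * (x : Y) * m⁻¹, (y : Y)⁆, comm_QP C y.2 (hm x x.2)⟩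
  have h1 : ∀ x y z, σ (x * y) z = σ x z * σ y z := by
    intro x y z
    apply Subtype.ext
    change ⁅m * ((x : Y) * y) * m⁻¹, (z : Y)⁆ = ⁅m * (x : Y) * m⁻¹, (z : Y)⁆ * ⁅m * (y : Y) * m⁻¹, (z : Y)⁆
    have k0 : m * ((x : Y) * y) * m⁻¹ = (m * (x : Y) * m⁻¹) * (m * (y : Y) * m⁻¹) := by group
    rw [k0]
    have k1 := hm x x.2
    have k2 := comm_QP C z.2 (hm y y.2)
    have k3 := comm_QP C z.2 k1
    set q1 := m * (x : Y) * m⁻¹
    set q2 := m * (y : Y) * m⁻¹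
    calc ⁅q1 * q2, (z : Y)⁆ = q1 * ⁅q2, (z : Y)⁆ * q1⁻¹ * ⁅q1, (z : Y)⁆ := by
          rw [commutatorElement_def, commutatorElement_def, commutatorElement_def]; group
      _ = ⁅q2, (z : Y)⁆ * ⁅q1, (z : Y)⁆ := by rw [hAq q1 k1 _ k2]; group
      _ = ⁅q1, (z : Y)⁆ * ⁅q2, (z : Y)⁆ := hAA _ k2 _ k3
  have h2 : ∀ x y z, σ x (y * z) = σ x y * σ x z := by
    intro x y z
    apply Subtype.ext
    change ⁅m * (x : Y) * m⁻¹, (y : Y) * z⁆ = ⁅m * (x : Y) * m⁻¹, (y : Y)⁆ * ⁅m * (x : Y) * m⁻¹, (z : Y)⁆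
    have k1 := hm x x.2
    have k2 := comm_QP C y.2 k1
    have k3 := comm_QP C z.2 k1
    set q1 := m * (x : Y) * m⁻¹
    calc ⁅q1, (y : Y) * z⁆ = ⁅q1, (y : Y)⁆ * (y * ⁅q1, (z : Y)⁆ * (y : Y)⁻¹) := by
          rw [commutatorElement_def, commutatorElement_def, commutatorElement_def]; group
      _ = ⁅q1, (y : Y)⁆ * ⁅q1, (z : Y)⁆ := by rw [hA y y.2 _ k3]; group
  have h3 : ∀ x, σ x x = 1 → x = 1 := by
    intro x hx
    have k1 : ⁅m * (x : Y) * m⁻¹, (x : Y)⁆ = 1 := congrArg Subtype.val hx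
    exact Subtype.ext (han x x.2 (commutatorElement_eq_one_iff_mul_comm.1 k1).symm)
  have hexpA : ∀ x : X rr, x ^ p = 1 := fun x => Subtype.ext (hexp x (hZr.le x.2))
  have hexpP : ∀ x : X yp, x ^ p = 1 := by
    intro x
    apply h3
    let f : X yp →* X rr := MonoidHom.mk' (fun y => σ y (x ^ p)) (fun y y' => h1 y y' _)
    have k1 : σ (x ^ p) (x ^ p) = (σ x (x ^ p)) ^ p := map_pow f x p
    rw [k1]
    exact hexpA _
  have key := Cfsg.Agent.Cit.DWarn.card_le_sq (p := p) hexpP hexpA σ h1 h2 h3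
  rw [hZr, hcard] at key
  exact key

/-- **`|P| = q²`** -/
theorem card_yp [CharP F p] (h2 : (2 : F) ≠ 0) (hcard : Nat.card (Z rr) = Fintype.card F)
    (hexp : ∀ x ∈ Z rr, x ^ p = 1)
    {y g : Y} (hyG : y ∈ Subgroup.normalizer (GG cs (isCartan 2) T X : Set Y))
    (hgG : g ∈ Subgroup.normalizer (GG cs (isCartan 2) T X : Set Y)) (hyr : ∀ x ∈ Z rr, y * x = x * y)
    (hgr : ∀ x ∈ Z rr, g * x = x * g) (hyK : ∀ x ∈ K, y * x = x * y) (hgK : ∀ x ∈ K, g * x = x * g)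
    (hyy : y * y = z rr) (hgy : g * y * g⁻¹ = y⁻¹) : Nat.card (X yp) = Fintype.card F ^ 2 := by
  have hle := card_le C hp2 hzz e hK he he' hcard hexp
  have hne : X yp ≠ ⊥ := X_ne_bot C.rgd root_yp
  have hm1 : 1 < Nat.card (X yp) := (Subgroup.one_lt_card_iff_ne_bot _).2 hne
  have hT : ∀ t ∈ (tor e).range, ∀ v ∈ X yp, t * v * t⁻¹ ∈ X yp := by
    rintro _ ⟨l, rfl⟩ v hv
    exact tor_P C hp2 hzz e hK he l hv
  have hfree : ∀ t ∈ (tor e).range, ∀ v ∈ X yp, v ≠ 1 → t * v = v * t → t = 1 := by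
    rintro _ ⟨l, rfl⟩ v hv hv1 hc
    rw [free C hp2 hzz e hK he he' h2 hv hv1 hc, map_one]
  have hTc : Nat.card (tor e).range = Fintype.card F - 1 := by
    classical
    rw [← Fintype.card_units, ← Nat.card_eq_fintype_card]
    exact (Nat.card_congr (MonoidHom.ofInjective (tor_injective e)).toEquiv).symm
  have hdvd := card_dvd_conj (tor e).range (X yp) hT hfree
  rw [hTc] at hdvd
  have hq1 : 1 < Fintype.card F := Fintype.one_lt_card
  rcases card_cases (Fact.out : p.Prime).one_lt (by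
      obtain ⟨k, hk⟩ := FiniteField.card F p
      exact ⟨_, hk.2⟩) (by
      obtain ⟨k, hk⟩ := (IsPGroup.iff_card).1 (C.rgd.pgrp' root_yp)
      exact ⟨k, hk⟩) hq1 hm1 hdvd hle with h3 | h3
  · exfalso
    obtain ⟨x, hx, hx1⟩ := (Subgroup.ne_bot_iff_exists_ne_one).1 hne |>.elim fun x hx =>
      (⟨x.1, x.2, fun h => hx (Subtype.ext h)⟩ : ∃ x, x ∈ X yp ∧ x ≠ 1)
    have hc : Nat.card (X yp) = Nat.card (tor e).range + 1 := by rw [hTc, h3]; omega
    have hn : ∀ k ∈ Subgroup.normalizer (GG cs (isCartan 2) T X : Set Y), (∀ x ∈ Z rr, k * x = x * k) →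
        (∀ x ∈ K, k * x = x * k) → ∀ v ∈ X yp, k * v * k⁻¹ ∈ X yp := fun k h4 h5 h6 v hv =>
      norm_of_cent C hp2 hzz h4 h5 (fun x hx => h6 x (root_le e (he.le hx))) hv
    have hne1 : ∀ k : Y, ∀ v : Y, v ≠ 1 → k * v * k⁻¹ ≠ 1 := by
      intro k v hv h4
      apply hv
      calc v = k⁻¹ * (k * v * k⁻¹) * k := by group
        _ = 1 := by rw [h4]; group
    obtain ⟨_, ⟨l, rfl⟩, hl⟩ := exists_conj_of_card (tor e).range (X yp) hT hfree hc hx hx1
      (hn y hyG hyr hyK x hx) (hne1 y x hx1)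
    obtain ⟨_, ⟨l', rfl⟩, hl'⟩ := exists_conj_of_card (tor e).range (X yp) hT hfree hc hx hx1
      (hn g hgG hgr hgK x hx) (hne1 g x hx1)
    have ct : ∀ (k : Y) (l : Fˣ), (∀ x ∈ K, k * x = x * k) → k * tor e l = tor e l * k := fun k l h =>
      h _ (e _).2
    have htt : tor e l * tor e l' = tor e l' * tor e l := by rw [← map_mul, mul_comm, map_mul]
    have ct1 := ct g l hgK
    have ct2 := ct y l' hyK
    -- `g y x = y g x`
    set t := tor e l with htd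
    set t' := tor e l' with htd'
    have e1 : g * y * x * (g * y)⁻¹ = t * t' * x * (t * t')⁻¹ := by
      calc g * y * x * (g * y)⁻¹ = g * (y * x * y⁻¹) * g⁻¹ := by group
        _ = g * t * x * (g * t)⁻¹ := by rw [← hl]; group
        _ = t * (g * x * g⁻¹) * t⁻¹ := by rw [ct1]; group
        _ = t * t' * x * (t * t')⁻¹ := by rw [← hl']; group
    have e2 : y * g * x * (y * g)⁻¹ = t * t' * x * (t * t')⁻¹ := by
      calc y * g * x * (y * g)⁻¹ = y * (g * x * g⁻¹) * y⁻¹ := by group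
        _ = y * t' * x * (y * t')⁻¹ := by rw [← hl']; group
        _ = t' * (y * x * y⁻¹) * t'⁻¹ := by rw [ct2]; group
        _ = t * t' * x * (t * t')⁻¹ := by rw [← hl, htt]; group
    have e3 : g * y = y⁻¹ * g := by rw [← hgy]; group
    set v := g * x * g⁻¹ with hvd
    have hvP : v ∈ X yp := hn g hgG hgr hgK x hx
    have hv1 : v ≠ 1 := hne1 g x hx1
    have e4 : y⁻¹ * v * y = y * v * y⁻¹ := by
      calc y⁻¹ * v * y = (y⁻¹ * g) * x * (y⁻¹ * g)⁻¹ := by rw [hvd]; group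
        _ = y * g * x * (y * g)⁻¹ := by rw [← e3, e1, e2]
        _ = y * v * y⁻¹ := by rw [hvd]; group
    have hz2 := C.z_sq rr rr_mem
    have hzi : (z rr)⁻¹ = z rr := inv_eq_of_mul_eq_one_right hz2
    have e5 : z rr * v * z rr = v := by
      calc z rr * v * z rr = (y * y) * v * (y * y)⁻¹ := by rw [hyy, hzi]
        _ = y * (y * v * y⁻¹) * y⁻¹ := by group
        _ = v := by rw [← e4]; group
    have e6 := inv_z C root_yp (by rw [fc_yp.2]; decide) (by rw [fc_yp.1]; decide) hvP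
    rw [e5] at e6
    exact hv1 (eq_one_of_sq' C hp2 root_yp hvP e6)
  · exact h3

end Fin

end SL

end Twin

end Cfsg.Agent.Cit.DTor
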