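import Cfsg.Agent.Cit.FourTypes
import Cfsg.Agent.Cit.BDFour

/-!
# Charts with commuting members with the same involution (project CIT, `|Om(S)| = 4`, `τ = 2`)

* `types_ty` : two commuting members `K`, `K'` with `zz K = zz K'` and no third one commuting with both: type `A 3`, `B 3`
  or `C 2`;
* `isTy_D_four` : four commuting members with involutions `z`, `z`, `z'`, `z'`, `z z'` central: type `D 4`.
-/

set_option autoImplicit false
set_option linter.unusedSectionVars false
set_option linter.dupNamespace false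

namespace Cfsg.Agent.Cit.FourTypes

open CoxeterSystem Cfsg.Agent.ChevalleyStructure.CoxeterGeom Cfsg.Agent.Tits.Roots Cfsg.Agent.Tits.Core
  Cfsg.Agent.Tits.RootComb Cfsg.Agent.Nodes.Comb Cfsg.Agent.Nodes.Reps Cfsg.Agent.Nodes.BNOf
  Cfsg.Agent.Nodes.RGDLib Cfsg.Agent.Nodes.Chart Cfsg.Agent.Nodes.Coroot Cfsg.Agent.Nodes.Perp
  Cfsg.Agent.Nodes.ChartFrame Cfsg.Agent.Nodes.KindBase Cfsg.Agent.Nodes.TyStd
open Cfsg.Agent.Cit.TypeDet (cm)

variable {G : Type*} [Group G] {Om : Set (Subgroup G)} {p : ℕ} {D : Subgroup G} [Finite G]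

/-- the involutions of the classical roots are the involutions of the members, in the presence of two orthogonal ones -/
theorem frame_zz (hyp : Hyp Om) (c : Chart Om p D) {κ : Type*} {F : κ → Subgroup G} (hF : ∀ i, F i ∈ TypeDet.OmIn Om D)
    {i j : κ} (hij : i ≠ j) {s : κ → c.I → ℤ} {d : G} (F' : FrameIn c F s d) (k : κ) :
    d * zz (F k) * d⁻¹ = c.z (s k) := by
  have h1 : ∀ r ∈ c.R, c.z r ≠ 1 := by
    intro r hr
    obtain ⟨x, hx, h1, h2, h3⟩ := exists_joined c (c.cls.root _ (F'.R i)) (c.cls.root _ (F'.R j))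
      (F'.orth i j hij) (c.cls.root r hr)
    exact Nodes.StdConn.z_ne_one c.cls c.prime c.odd hr hx h1 h2 h3
  exact Nodes.KindsOf.FrameIn_zz hyp F' hF h1 k

/-- **the possible types** of a chart with two commuting members with the same involution, no third member commuting
with both -/
theorem types_ty (hyp : Hyp Om) (c : Chart Om p D) {τ : Nodes.Chart.Ty} (hτ : c.IsTy τ) (ok : KindOk τ)
    {K K' : Subgroup G} (hK : K ∈ Om) (hK' : K' ∈ Om)
    (hKD : K ≤ D) (hKD' : K' ≤ D) (hc : cm K K') (hzz : zz K = zz K')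
    (hmax : ∀ L ∈ Om, L ≤ D → cm L K → cm L K' → False) :
    τ = .A 3 ∨ τ = .B 3 ∨ τ = .C 2 := by
  set F : Fin 2 → Subgroup G := ![K, K'] with hF
  have hF2 : ∀ i, F i ∈ TypeDet.OmIn Om D := by
    intro i
    fin_cases i
    · exact ⟨hK, hKD⟩
    · exact ⟨hK', hKD'⟩
  have hc2 : ∀ i j, i ≠ j → cm (F i) (F j) := by
    intro i j hij
    fin_cases i <;> fin_cases j
    · exact absurd rfl hij
    · exact hc
    · exact TypeDet.cm_symm hc
    · exact absurd rfl hij
  have hmax2 : ∀ L' ∈ TypeDet.OmIn Om D, ¬ ∀ k, cm L' (F k) := fun L hL h => hmax L hL.1 hL.2 (h 0) (h 1)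
  have hsz : fsz τ = 2 := by
    obtain ⟨c', κ, _, g, h1, FS, hcard⟩ := exists_frame c hτ ok
    obtain ⟨s, d, F'⟩ := exists_frameIn (C := c') hF2 hc2
    obtain ⟨σ, -, -⟩ := F'.exists_std hyp.conj hmax2 FS
    rw [← hcard, ← Fintype.card_congr σ, Fintype.card_fin]
  have hz : ∀ (c' : Chart Om p D) {s : Fin 2 → c'.I → ℤ} {d : G}, FrameIn c' F s d → c'.z (s 0) = c'.z (s 1) := by
    intro c' s d F'
    rw [← frame_zz hyp c' hF2 (i := 0) (j := 1) (by decide) F' 0,
      ← frame_zz hyp c' hF2 (i := 0) (j := 1) (by decide) F' 1]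
    change d * zz K * d⁻¹ = d * zz K' * d⁻¹
    rw [hzz]
  cases τ with
  | A n =>
    have h2 : (n + 1) / 2 = 2 := hsz
    by_cases h3 : n = 3
    · exact Or.inl (by rw [h3])
    · have h4 : n = 4 := by omega
      subst h4
      exfalso
      obtain ⟨c', g, FS, hsep⟩ := exists_A_four c hτ
      obtain ⟨s, d, F'⟩ := exists_frameIn (C := c') hF2 hc2
      obtain ⟨σ, d', F''⟩ := F'.exists_std hyp.conj hmax2 FS
      have h5 := hz c' F''
      have h6 : σ 0 ≠ σ 1 := fun h => by
        have := σ.injective h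
        exact absurd this (by decide)
      obtain ⟨x, hx, e1, e2, e3, e4⟩ := hsep (σ 0) (σ 1) h6
      exact Nodes.ZRel.z_ne c'.cls c'.prime c'.odd (FS.mem _) (FS.mem _) hx e1 e2 e3 e4 h5.symm
  | B n =>
    have h2 : 2 * (n / 2) = 2 := hsz
    have h3 : 3 ≤ n := ok
    exact Or.inr (Or.inl (by rw [show n = 3 by omega]))
  | C n =>
    have h2 : n = 2 := hsz
    exact Or.inr (Or.inr (by rw [h2]))
  | D n =>
    have h2 : 2 * (n / 2) = 2 := hsz
    have h3 : 4 ≤ n := ok
    omega
  | E6 => exact absurd (hsz : (4 : ℕ) = 2) (by decide)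
  | E7 => exact absurd (hsz : (7 : ℕ) = 2) (by decide)
  | E8 => exact absurd (hsz : (8 : ℕ) = 2) (by decide)
  | F4 => exact absurd (hsz : (4 : ℕ) = 2) (by decide)
  | G2 => exact ok.elim

/-! ### Type `D 4` -/

/-- four orthogonal classical roots with `z 0 = z 1`, `z 2 = z 3`, `z 0 * z 2` central -/
theorem four_of_z (c : Chart Om p D) {s : Fin 4 → c.I → ℤ} (hs : ∀ i, s i ∈ c.R)
    (ho : ∀ i j, i ≠ j → form c.cs c.h (s i) (s j) = 0) (h01 : c.z (s 0) = c.z (s 1)) (h23 : c.z (s 2) = c.z (s 3))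
    (hcen : ∀ x ∈ D, x * (c.z (s 0) * c.z (s 2)) = c.z (s 0) * c.z (s 2) * x) :
    BDFour.Four c.cs c.h c.R s where
  irr := c.irr
  root := c.cls.root
  act := c.cls.act
  trans := c.trans
  mem := hs
  orth := ho
  iso := by
    intro y hy h1 h2
    have hsq : ∀ i, c.z (s i) * c.z (s i) = 1 := fun i => c.cls.z_sq _ (hs i)
    -- all `z (s i)` act in the same way on `X y`
    have key : ∀ a ∈ c.X y, c.z (s 2) * a * c.z (s 2) = c.z (s 0) * a * c.z (s 0) := by
      intro a ha
      have h3 := hcen a (X_le c hy ha)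
      have h4 : c.z (s 0) * c.z (s 2) = c.z (s 2) * c.z (s 0) := by
        exact Nodes.ZRel.z_comm c.cls (hs 0) (hs 2)
      calc c.z (s 2) * a * c.z (s 2) = (c.z (s 0) * c.z (s 0)) * c.z (s 2) * a * c.z (s 2) := by
            rw [hsq 0, one_mul]
        _ = c.z (s 0) * (c.z (s 0) * c.z (s 2) * a) * c.z (s 2) := by group
        _ = c.z (s 0) * (a * (c.z (s 0) * c.z (s 2))) * c.z (s 2) := by rw [h3]
        _ = c.z (s 0) * a * c.z (s 0) * (c.z (s 2) * c.z (s 2)) := by group
        _ = _ := by rw [hsq 2, mul_one]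
    have key2 : ∀ i, ∀ a ∈ c.X y, c.z (s i) * a * c.z (s i) = c.z (s 0) * a * c.z (s 0) := by
      intro i a ha
      fin_cases i
      · rfl
      · change c.z (s 1) * a * c.z (s 1) = _
        rw [← h01]
      · exact key a ha
      · change c.z (s 3) * a * c.z (s 3) = _
        rw [← h23]
        exact key a ha
    intro i j hi
    by_contra hj
    apply Nodes.StdConn.X_ne_bot c.cls hy
    rw [Subgroup.eq_bot_iff_forall]
    intro a ha
    apply Nodes.ZRel.eq_one_of_inv c.cls c.prime c.odd hy ha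
    have h3 := c.cls.z_inv (s j) (hs j) y hy (h1 j) (h2 j) hj a ha
    have h4 := Nodes.ZRel.z_cent_of_orth c.cls (hs i) hy hi ha
    have h5 : c.z (s i) * a * c.z (s i) = a := by rw [← h4, mul_assoc, hsq i, mul_one]
    rw [key2 j a ha, ← key2 i a ha, h5] at h3
    exact h3

section Nodes

variable {I W : Type*} [Fintype I] [DecidableEq I] [Group W] [Fintype W] {M : CoxeterMatrix I}
  {cs : CoxeterSystem M W} {A : I → I → ℤ} {h : IsCartan M A} {R : Set (I → ℤ)} {r : Fin 4 → I → ℤ}

/-- the Cartan matrix of type `D_4` -/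
theorem typeD_two : ∀ i j : Fin 4, Nodes.TypeD.A 2 i j =
    if i = j then 2 else if i = 1 ∨ j = 1 then -1 else 0 := by
  intro i j
  rw [Nodes.TypeD.A_apply]
  revert i j
  decide

/-- the nodes of the diagram -/
theorem exists_equiv (H : BDFour.Four cs h R r) :
    ∃ e : I ≃ Fin 4, (∀ i j, A i j = Nodes.TypeD.A 2 (e i) (e j)) ∧ ∀ i, sr i ∈ R := by
  obtain ⟨β, hβR, hβ⟩ := H.exists_beta
  obtain ⟨w, a, b, c, d, ha, hb, hc, hd⟩ := H.exists_nodes hβR hβ
  set f : Fin 4 → I := ![a, b, c, d] with hf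
  set x : Fin 4 → I → ℤ := ![r 1, β, r 2, r 3] with hx
  have hfx : ∀ k, rep cs h w (x k) = sr (f k) := by
    intro k
    fin_cases k
    · exact ha
    · exact hb
    · exact hc
    · exact hd
  have hxR : ∀ k, x k ∈ R := by
    intro k
    fin_cases k
    · exact H.mem 1
    · exact hβR
    · exact H.mem 2
    · exact H.mem 3
  have hN := H.pos
  -- the forms
  have b1 := H.form_beta hβ 1
  have b2 := H.form_beta hβ 2
  have b3 := H.form_beta hβ 3
  have hform : ∀ i j : Fin 4, 2 * form cs h (x i) (x j) =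
      (if i = j then 2 else if i = 1 ∨ j = 1 then -1 else 0) * form cs h (r 0) (r 0) := by
    intro i j
    have n1 := H.norm (H.mem 1)
    have n2 := H.norm (H.mem 2)
    have n3 := H.norm (H.mem 3)
    have nb := H.norm hβR
    have o12 := H.orth 1 2 (by decide)
    have o13 := H.orth 1 3 (by decide)
    have o23 := H.orth 2 3 (by decide)
    have o21 := H.orth 2 1 (by decide)
    have o31 := H.orth 3 1 (by decide)
    have o32 := H.orth 3 2 (by decide)
    have c1 := form_comm cs h (r 1) β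
    have c2 := form_comm cs h (r 2) β
    have c3 := form_comm cs h (r 3) β
    fin_cases i <;> fin_cases j <;> simp [hx] <;> linarith
  have hA : ∀ i j : Fin 4, A (f i) (f j) = Nodes.TypeD.A 2 i j := by
    intro i j
    rw [typeD_two]
    exact H.cartan (hxR i) (hxR j) (hfx i) (hfx j) (hform i j)
  have hinj : Function.Injective f := by
    intro i j hij
    by_contra hne
    have h1 := hA i j
    rw [hij, h.diag, typeD_two, if_neg hne] at h1
    split_ifs at h1 <;> omega
  have hsurj : Function.Surjective f := by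
    intro i
    by_contra hcon
    push Not at hcon
    -- the coordinate `i` of all roots vanishes
    have h0 : ∀ k, rep cs h w (x k) i = 0 := by
      intro k
      rw [hfx, sr_ne (hcon k).symm]
    have e1 : rep cs h w (r 1) i = 0 := h0 0
    have eb : rep cs h w β i = 0 := h0 1
    have e2 : rep cs h w (r 2) i = 0 := h0 2
    have e3 : rep cs h w (r 3) i = 0 := h0 3
    have e0 : rep cs h w (r 0) i = 0 := by
      have h1 := congrFun (congrArg (fun v => rep cs h w v) hβ) i
      simp only [map_smul, map_neg, map_add, Pi.smul_apply, Pi.neg_apply, Pi.add_apply, smul_eq_mul] at h1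
      rw [eb, e1, e2, e3] at h1
      omega
    have hall : ∀ k, rep cs h w (r k) i = 0 := by
      intro k
      fin_cases k
      · exact e0
      · exact e1
      · exact e2
      · exact e3
    have hroot : IsRoot cs h (rep cs h w⁻¹ (sr i)) := (isRoot_sr cs h i).act w⁻¹
    have hback : rep cs h w (rep cs h w⁻¹ (sr i)) = sr i := by
      rw [← Module.End.mul_apply, ← map_mul, mul_inv_cancel, map_one, Module.End.one_apply]
    rcases H.cases hroot with ⟨k, h1 | h1⟩ | ⟨-, -, -, ε, -, hsum, -⟩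
    · have h2 := congrFun hback i
      rw [h1, hall k, sr_self] at h2
      omega
    · have h2 := congrFun hback i
      rw [h1, map_neg, Pi.neg_apply, hall k, sr_self] at h2
      omega
    · have h2 := congrFun (congrArg (fun v => rep cs h w v) hsum) i
      simp only [map_smul, map_sum, Finset.sum_apply, Pi.smul_apply, smul_eq_mul, hall, mul_zero,
        Finset.sum_const_zero] at h2
      rw [hback, sr_self] at h2
      omega
  refine ⟨(Equiv.ofBijective f ⟨hinj, hsurj⟩).symm, fun i j => ?_, fun i => H.mem_R (isRoot_sr cs h i)⟩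
  rw [← hA]
  have h1 : ∀ k, f ((Equiv.ofBijective f ⟨hinj, hsurj⟩).symm k) = k := fun k =>
    (Equiv.ofBijective f ⟨hinj, hsurj⟩).apply_symm_apply k
  rw [h1, h1]

end Nodes

/-- **type `D 4`** -/
theorem isTy_D_four (hyp : Hyp Om) (c : Chart Om p D) {F : Fin 4 → Subgroup G} (hF : ∀ i, F i ∈ TypeDet.OmIn Om D)
    (hc : ∀ i j, i ≠ j → cm (F i) (F j)) (h01 : zz (F 0) = zz (F 1)) (h23 : zz (F 2) = zz (F 3))
    (hcen : ∀ x ∈ D, x * (zz (F 0) * zz (F 2)) = zz (F 0) * zz (F 2) * x) :
    c.IsTy (.D 4) ∧ ∀ r ∈ c.R, c.Z r = c.X r := by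
  obtain ⟨s, d, F'⟩ := exists_frameIn (C := c) hF hc
  have hz := fun k => frame_zz hyp c hF (i := (0 : Fin 4)) (j := 1) (by decide) F' k
  have H : BDFour.Four c.cs c.h c.R s := by
    refine four_of_z c F'.R F'.orth ?_ ?_ fun x hx => ?_
    · rw [← hz, ← hz, h01]
    · rw [← hz, ← hz, h23]
    · rw [← hz, ← hz]
      have h1 := hcen (d⁻¹ * x * d) (mul_mem (mul_mem (inv_mem F'.mem) hx) F'.mem)
      calc x * (d * zz (F 0) * d⁻¹ * (d * zz (F 2) * d⁻¹)) =
            d * (d⁻¹ * x * d * (zz (F 0) * zz (F 2))) * d⁻¹ := by group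
        _ = d * (zz (F 0) * zz (F 2) * (d⁻¹ * x * d)) * d⁻¹ := by rw [h1]
        _ = _ := by group
  obtain ⟨e, h1, h2⟩ := exists_equiv H
  refine ⟨⟨e, h1, fun i => ⟨fun _ => trivial, fun _ => h2 i⟩⟩, X_le_Z c (F'.R 0) (F'.R 1) (F'.orth 0 1 (by decide)) ?_⟩
  rw [← hz, ← hz, h01]

end Cfsg.Agent.Cit.FourTypes
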