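import Mathlib
import Cfsg.Agent.Cit.DTor
import Cfsg.Agent.Cit.DCard
import Cfsg.Agent.Cit.FourChart
import Cfsg.Agent.Nodes.KindsOf
import Cfsg.Agent.Nodes.RKindsBC
import Cfsg.Agent.Nodes.RootsA

/-!
# The order of `VV r` in charts of type `C 2` and `A 3` (project CIT)

* `VV_le_of_Z` : `VV r` depends only on `Z r`, not on the chart of `D`;
* `C_two` : type `C 2`, `z (2 ε₀) = z (2 ε₁)` and a quaternion-like pair of elements centralising the frame: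
  `|VV r| = q ^ 5`;
* `A_three` : type `A 3`.
-/

set_option autoImplicit false
set_option linter.unusedSectionVars false

namespace Cfsg.Agent.Cit.DTwoChart

open CoxeterSystem Cfsg.Agent.ChevalleyStructure.CoxeterGeom Cfsg.Agent.Tits.Roots Cfsg.Agent.Tits.Core
  Cfsg.Agent.Tits.RootComb Cfsg.Agent.Nodes.Comb Cfsg.Agent.Nodes.Reps Cfsg.Agent.Nodes.BNOf
  Cfsg.Agent.Nodes.RGDLib Cfsg.Agent.Nodes.Chart Cfsg.Agent.Nodes.Coroot Cfsg.Agent.Nodes.Perp
  Cfsg.Agent.Nodes.ChartFrame Cfsg.Agent.Nodes.KindBC Cfsg.Agent.Nodes.TyStd Cfsg.Agent.Nodes.RKindsBC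
  Cfsg.Agent.Nodes.Bruhat Cfsg.Agent.Nodes.KindsOf Cfsg.Agent.Nodes.ChartLoc
  Cfsg.Agent.Nodes.ClsNorm Cfsg.Agent.Nodes.MuSq
open Cfsg.Agent.Cit.TypeDet (cm)
open Cfsg.Agent.Nodes.OppDec (X_inf_X)
open Cfsg.Agent.Cit.ParabSL2 (root rootOp exists_equiv_pair mem_root root_le)

variable {G : Type*} [Group G] [Finite G] {Om : Set (Subgroup G)} {p : ℕ} {D : Subgroup G}

/-- `VV r` does not depend on the chart. -/
theorem VV_le_of_Z (c c' : Chart Om p D) {r : c.I → ℤ} (hr : r ∈ c.R) {r' : c'.I → ℤ} (hr' : r' ∈ c'.R)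
    (hZ : c.Z r = c'.Z r') : VV c'.cs c'.h c'.X r' ≤ VV c.cs c.h c.X r := by
  have := Fact.mk c.prime
  refine FrameF2.le_of_normalized c.cls.rgd r (isPGroup_VV c'.cls r') ?_ ?_
  · rw [GG_eq c]
    exact (VV_le_GG c'.cls r').trans (GG_eq c').le
  · intro y hy h0 b hb
    have hbG : b ∈ GG c'.cs c'.h c'.T c'.X := (GG_eq c').ge ((GG_eq c).le (X_le_GG hy hb))
    apply mem_normalizer_VV c'.cls hr' hbG
    apply centralizer_le_normalizer' (c'.Z r')
    rw [Subgroup.mem_centralizer_iff]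
    intro x hx
    exact (c.cls.cent r hr y hy h0 b hb x (hZ.ge hx)).symm

theorem card_VV_eq (c c' : Chart Om p D) {r : c.I → ℤ} (hr : r ∈ c.R) {r' : c'.I → ℤ} (hr' : r' ∈ c'.R)
    (hZ : c.Z r = c'.Z r') : Nat.card (VV c.cs c.h c.X r) = Nat.card (VV c'.cs c'.h c'.X r') := by
  rw [le_antisymm (VV_le_of_Z c' c hr' hr hZ.symm) (VV_le_of_Z c c' hr hr' hZ)]

theorem card_VV_all (c : Chart Om p D) {r s : c.I → ℤ} (hr : r ∈ c.R) (hs : s ∈ c.R) :
    Nat.card (VV c.cs c.h c.X s) = Nat.card (VV c.cs c.h c.X r) := by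
  obtain ⟨w, rfl⟩ := c.trans r hr s hs
  obtain ⟨k, hk⟩ := exists_rp c.cs c.cls.rgd.nsys w
  rw [← cj_VV c.cls hk r]
  exact Nat.card_congr ((VV c.cs c.h c.X r).equivMapOfInjective _ (MulAut.conj k).injective).symm.toEquiv

/-- change of the index type -/
theorem card_VV_reindex (c : Chart Om p D) {J W' : Type} [Fintype J] [DecidableEq J] [Group W'] [Fintype W']
    {M' : CoxeterMatrix J} {A' : J → J → ℤ} (e : c.I ≃ J)
    (hM : ∀ i j, c.M i j = M' (e i) (e j)) (hA : ∀ i j, c.A i j = A' (e i) (e j)) (cs' : CoxeterSystem M' W')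
    (h' : IsCartan M' A') {R' : Set (J → ℤ)} (hroot : ∀ r ∈ R', IsRoot cs' h' r)
    (hact' : ∀ r ∈ R', ∀ w, rep cs' h' w r ∈ R') (hsr : ∀ i, sr i ∈ c.R ↔ sr (e i) ∈ R')
    (htrans : ∀ r ∈ R', ∀ s ∈ R', ∃ w, s = rep cs' h' w r) {x : J → ℤ} (hx : x ∈ R') {r : c.I → ℤ} (hr : r ∈ c.R) :
    Nat.card (VV c.cs c.h c.X r) = Nat.card (VV cs' h' (fun x => c.X (fun i => x (e i))) x) := by
  have h1 : (fun i => x (e i)) ∈ c.R :=
    (mem_R_iff (cs := c.cs) (h := c.h) e hM hA cs' h' c.cls.act hact' hsr (hroot x hx)).2 hx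
  rw [card_VV_all c h1 hr]
  exact card_VV_eq c (reindex c e hM hA cs' h' hroot hact' hsr htrans) h1 (r' := x) hx rfl

/-- the order of `Z r`, and its exponent -/
theorem card_exp_Z {I W : Type*} [Fintype I] [DecidableEq I] [Group W] [Fintype W] {M : CoxeterMatrix I}
    {cs : CoxeterSystem M W} {A : I → I → ℤ} {h : IsCartan M A} {T : Subgroup G} {n : I → G}
    {X : (I → ℤ) → Subgroup G} {R : Set (I → ℤ)} {Z : (I → ℤ) → Subgroup G} {z : (I → ℤ) → G}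
    (C : Cls cs h p T n X R Z z) [Fact p.Prime] (hp2 : p ≠ 2) {F : Type*} [Field F] [Fintype F] [CharP F p]
    {r : I → ℤ} (hr : r ∈ R) (e : Matrix.SpecialLinearGroup (Fin 2) F ≃* ↥(Z r ⊔ Z (-r))) :
    Nat.card (Z r) = Fintype.card F ∧ (∀ x ∈ Z r, x ^ p = 1) ∧
      ∃ e' : Matrix.SpecialLinearGroup (Fin 2) F ≃* ↥(Z r ⊔ Z (-r)), root e' = Z r ∧ rootOp e' = Z (-r) := by
  have h1 : Nat.card (Z r) = Fintype.card F := card_Z C hp2 hr e
  have h2 : Nat.card (Z (-r)) = Fintype.card F := by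
    have h3 : Z r ⊔ Z (-r) = Z (-r) ⊔ Z (- -r) := by rw [neg_neg, sup_comm]
    exact card_Z C hp2 (Nodes.ClsNorm.neg_mem C hr) (e.trans (MulEquiv.subgroupCongr h3))
  have hne : Z (-r) ≠ Z r := by
    intro h3
    have h4 : Z r ≤ X r ⊓ X (-r) := le_inf (C.le r hr) (by rw [← h3]; exact C.le _ (Nodes.ClsNorm.neg_mem C hr))
    rw [X_inf_X C.rgd (C.root r hr) (C.root r hr).neg (fun h5 => ?_), le_bot_iff] at h4
    · exact C.ne_bot r hr h4
    · have h6 := (C.root r hr).ne_zero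
      apply h6
      funext i
      have := congrFun h5 i
      rw [Pi.neg_apply] at this
      rw [Pi.zero_apply]
      omega
  obtain ⟨e', h3, h4⟩ := exists_equiv_pair e le_sup_left h1 le_sup_right h2 hne
  refine ⟨h1, fun x hx => ?_, e', h3, h4⟩
  obtain ⟨b, rfl⟩ := mem_root.1 (h3.ge hx)
  have key : ∀ k : ℕ, (Lib.SL2Mat.up b) ^ k = Lib.SL2Mat.up (k * b) := by
    intro k
    induction k with
    | zero => rw [pow_zero, Nat.cast_zero, zero_mul, Lib.SL2Mat.up_zero]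
    | succ k ih => rw [pow_succ, ih, Lib.SL2Mat.up_mul]; congr 1; push_cast; ring
  rw [← Subgroup.coe_pow, ← map_pow, key, CharP.cast_eq_zero, zero_mul, Lib.SL2Mat.up_zero, map_one]
  rfl

section CTwo

open Cfsg.Agent.Nodes.TypeC Cfsg.Agent.Cit.DTwoCoord

/-- a root of `RC 2` orthogonal to `rr` -/
theorem orth_rr {W : Type*} [Group W] [Fintype W] {cs : CoxeterSystem (CoxeterMatrix.B 2) W} {x : Fin 2 → ℤ}
    (hx : x ∈ RC 2) (h0 : form cs (isCartan 2) x rr = 0) : x = ss ∨ x = -ss := by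
  have hr : IsRoot cs (isCartan 2) x := root_RC cs hx
  rw [(form_sign x root_rr).2.2, cpr_rr] at h0
  rcases coords hr with ⟨h1 | h1, h2 | h2⟩ | ⟨h1, h2 | h2⟩ | ⟨h1, h2 | h2⟩ <;> try omega
  · exact Or.inl (eq_of_fc (by rw [h1, fc_ss.1]) (by rw [h2, fc_ss.2]))
  · exact Or.inr (eq_of_fc (by rw [h1, map_neg, fc_ss.1, neg_zero]) (by rw [h2, map_neg, fc_ss.2]))

theorem card_VV_rr {W : Type*} [Group W] [Fintype W] {cs : CoxeterSystem (CoxeterMatrix.B 2) W}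
    {T : Subgroup G} {n : Fin 2 → G} {X : (Fin 2 → ℤ) → Subgroup G} {Z : (Fin 2 → ℤ) → Subgroup G}
    {z : (Fin 2 → ℤ) → G} (C : Cls cs (isCartan 2) p T n X (RC 2) Z z) {a b : ℕ}
    (h1 : Nat.card (X rr) = a) (h2 : Nat.card (X yp) = b) :
    Nat.card (VV cs (isCartan 2) X rr) = a * b ^ 2 := by
  have h3 : Nat.card (X ym) = b := by
    obtain ⟨s, hs, hs1⟩ := (Subgroup.ne_bot_iff_exists_ne_one).1 (X_ne_bot C.rgd (root_ss (cs := cs))) |>.elim
      fun x hx => (⟨x.1, x.2, fun h => hx (Subtype.ext h)⟩ : ∃ x, x ∈ X ss ∧ x ≠ 1)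
    obtain ⟨u, hu, v, hv, w, hw, -, he⟩ := exists_mu' C.rgd (root_ss (cs := cs)) hs hs1
    have h4 : rep cs (isCartan 2) w yp = ym := by
      rw [he, cpr_ss]
      refine eq_of_fc ?_ ?_
      · rw [map_sub, map_zsmul, fc_yp.1, fc_yp.2, fc_ss.1, fc_ym.1]; decide
      · rw [map_sub, map_zsmul, fc_yp.2, fc_ss.2, fc_ym.2]; decide
    rw [← h4, ← C.rgd.conj_rp hw root_yp, ← h2]
    exact Nat.card_congr ((X yp).equivMapOfInjective _ (MulAut.conj (u * s * v)).injective).symm.toEquiv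
  have n1 : rr ≠ yp := ne_of_fc 0 (by rw [fc_rr.1, fc_yp.1]; decide)
  have n2 : rr ≠ ym := ne_of_fc 0 (by rw [fc_rr.1, fc_ym.1]; decide)
  have n3 : yp ≠ ym := ne_of_fc 1 (by rw [fc_yp.2, fc_ym.2]; decide)
  rw [DCard.card_VV C.rgd rr {rr, yp, ym} ?_]
  · rw [Finset.prod_insert (by simp [n1, n2]), Finset.prod_insert (by simp [n3]), Finset.prod_singleton, h1, h2, h3]
    ring
  · intro y
    rw [Finset.mem_insert, Finset.mem_insert, Finset.mem_singleton]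
    constructor
    · rintro (rfl | rfl | rfl)
      · exact ⟨root_rr, by rw [(form_sign rr root_rr).1, cpr_rr, fc_rr.1]; decide⟩
      · exact ⟨root_yp, by rw [(form_sign yp root_rr).1, cpr_rr, fc_yp.1]; decide⟩
      · exact ⟨root_ym, by rw [(form_sign ym root_rr).1, cpr_rr, fc_ym.1]; decide⟩
    · rintro ⟨hy, h0⟩
      exact DTor.pos_rr' C hy h0

/-- **Type `C 2`** -/
theorem C_two (hyp : Cfsg.Agent.Cit.Hyp Om) (c : Chart Om p D) (h : c.IsTy (.C 2)) {K L : Subgroup G}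
    (hK : K ∈ Om) (hL : L ∈ Om) (hKD : K ≤ D) (hLD : L ≤ D) (hcm : cm K L)
    (hzz : Cfsg.Agent.Cit.zz K = Cfsg.Agent.Cit.zz L) {F : Type*} [Field F] [Fintype F] [CharP F p]
    (eK : Matrix.SpecialLinearGroup (Fin 2) F ≃* K) (eL : Matrix.SpecialLinearGroup (Fin 2) F ≃* L) {y g : G}
    (hy : Cfsg.Agent.Cit.cj y D = D) (hg : Cfsg.Agent.Cit.cj g D = D)
    (hyK : ∀ x ∈ K, y * x = x * y) (hyL : ∀ x ∈ L, y * x = x * y) (hgK : ∀ x ∈ K, g * x = x * g)
    (hgL : ∀ x ∈ L, g * x = x * g) (hyy : y * y = Cfsg.Agent.Cit.zz K) (hgy : g * y * g⁻¹ = y⁻¹) :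
    ∀ r ∈ c.R, Nat.card (VV c.cs c.h c.X r) = Fintype.card F ^ 5 := by
  have hpF : Fact p.Prime := ⟨c.prime⟩
  have hp2 := c.odd
  have h2 : (2 : F) ≠ 0 := by
    intro h2
    have h3 : ((2 : ℕ) : F) = 0 := by exact_mod_cast h2
    rw [CharP.cast_eq_zero_iff F p] at h3
    exact hp2 ((Nat.prime_dvd_prime_iff_eq c.prime Nat.prime_two).1 h3)
  let cs' : CoxeterSystem (CoxeterMatrix.B 2) (CoxeterMatrix.B 2).Group := (CoxeterMatrix.B 2).toCoxeterSystem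
  have hf : Finite (CoxeterMatrix.B 2).Group := finite_of_isTy c h cs'
  let ft : Fintype (CoxeterMatrix.B 2).Group := Fintype.ofFinite _
  obtain ⟨e, hM, hA, hR, h1⟩ := exists_chart_of_isTy c h (W' := (CoxeterMatrix.B 2).Group) cs' (R' := RC 2)
    (fun r hr => root_RC cs' hr) (fun r hr w => act_RC cs' hr w) (fun i => sr_mem_RC) (trans_RC cs')
  let c' := reindex c e hM hA cs' (Ty.C 2).isCartan (fun r hr => root_RC cs' hr)
    (fun r hr w => act_RC cs' hr w) hR (trans_RC cs')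
  have hC : Cls cs' (isCartan 2) p c'.T c'.n c'.X (RC 2) c'.Z c'.z := c'.cls
  have hcm2 : ∀ i j : Fin 2, i ≠ j → cm ((![K, L] : Fin 2 → Subgroup G) i) ((![K, L] : Fin 2 → Subgroup G) j) := by
    intro i j hij
    fin_cases i <;> fin_cases j
    · exact absurd rfl hij
    · exact hcm
    · exact Cfsg.Agent.Cit.TypeDet.cm_symm hcm
    · exact absurd rfl hij
  have hK2 : ∀ i : Fin 2, (![K, L] : Fin 2 → Subgroup G) i ∈ TypeDet.OmIn Om D := by
    intro i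
    fin_cases i
    · exact ⟨hK, hKD⟩
    · exact ⟨hL, hLD⟩
  obtain ⟨s, d, F0⟩ := exists_frameIn c' hK2 hcm2
  obtain ⟨w, hw⟩ := c'.trans (s 0) (F0.R 0) rr rr_mem
  obtain ⟨d', F'⟩ := F0.act w
  have e0 : rep c'.cs c'.h w (s 0) = rr := hw.symm
  have h3 : rep c'.cs c'.h w (s 1) = ss ∨ rep c'.cs c'.h w (s 1) = -ss := by
    apply orth_rr (cs := cs') (F'.R 1)
    have := F'.orth 1 0 (by decide)
    rw [e0] at this
    exact this
  have k0 := F'.eq 0
  have k1 := F'.eq 1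
  have z0 := FourTypes.frame_zz hyp c' hK2 (i := 0) (j := 1) (by decide) F' 0
  have z1 := FourTypes.frame_zz hyp c' hK2 (i := 0) (j := 1) (by decide) F' 1
  rw [e0] at k0 z0
  have k1' : Cfsg.Agent.Cit.cj d' L = c'.Z ss ⊔ c'.Z (-ss) := by
    rcases h3 with h3 | h3
    · rw [h3] at k1
      exact k1
    · rw [h3] at k1
      exact k1.trans (Nodes.Perp.KK_neg ss)
  have z1' : d' * Cfsg.Agent.Cit.zz L * d'⁻¹ = c'.z ss := by
    rcases h3 with h3 | h3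
    · rw [h3] at z1
      exact z1
    · rw [h3] at z1
      rw [← hC.z_neg ss ss_mem]
      exact z1
  have z0' : d' * Cfsg.Agent.Cit.zz K * d'⁻¹ = c'.z rr := z0
  have k0' : Cfsg.Agent.Cit.cj d' K = c'.Z rr ⊔ c'.Z (-rr) := k0
  have hzz' : c'.z rr = c'.z ss := by rw [← z0', ← z1', hzz]
  obtain ⟨hc1, hexp, -⟩ := card_exp_Z hC hp2 rr_mem
    ((eK.trans (Cfsg.Agent.Cit.cjEquiv d' K)).trans (MulEquiv.subgroupCongr k0'))
  obtain ⟨-, -, e', he, he'⟩ := card_exp_Z hC hp2 ss_mem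
    ((eL.trans (Cfsg.Agent.Cit.cjEquiv d' L)).trans (MulEquiv.subgroupCongr k1'))
  have hGG : GG cs' (isCartan 2) c'.T c'.X = D := GG_eq c'
  have hd : d' ∈ D := F'.mem
  have hn : ∀ k : G, Cfsg.Agent.Cit.cj k D = D →
      d' * k * d'⁻¹ ∈ Subgroup.normalizer (GG cs' (isCartan 2) c'.T c'.X : Set G) := by
    intro k hk
    rw [hGG]
    have hdn : d' ∈ Subgroup.normalizer (D : Set G) := Subgroup.le_normalizer hd
    exact mul_mem (mul_mem hdn (Cfsg.Agent.Cit.mem_normalizer_iff_cj.2 hk)) (inv_mem hdn)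
  have hcj : ∀ {M S : Subgroup G} {k : G}, Cfsg.Agent.Cit.cj d' M = S → (∀ x ∈ M, k * x = x * k) →
      ∀ x ∈ S, d' * k * d'⁻¹ * x = x * (d' * k * d'⁻¹) := by
    intro M S k e3 h4 x hx
    rw [← e3, Cfsg.Agent.Cit.mem_cj] at hx
    have h5 := h4 _ hx
    calc d' * k * d'⁻¹ * x = d' * (k * (d'⁻¹ * x * d')) * d'⁻¹ := by group
      _ = d' * ((d'⁻¹ * x * d') * k) * d'⁻¹ := by rw [h5]
      _ = x * (d' * k * d'⁻¹) := by group
  have key := DTor.card_yp hC hp2 hzz' e' rfl he.symm he'.symm h2 hc1 hexp (hn y hy) (hn g hg)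
    (fun x hx => hcj k0' hyK x (Subgroup.mem_sup_left hx)) (fun x hx => hcj k0' hgK x (Subgroup.mem_sup_left hx))
    (hcj k1' hyL) (hcj k1' hgL)
    (by rw [← z0', ← hyy]; group)
    (by
      calc d' * g * d'⁻¹ * (d' * y * d'⁻¹) * (d' * g * d'⁻¹)⁻¹ = d' * (g * y * g⁻¹) * d'⁻¹ := by group
        _ = (d' * y * d'⁻¹)⁻¹ := by rw [hgy]; group)
  have hrr : Nat.card (c'.X rr) = Fintype.card F := by
    rw [← hc1]
    exact congrArg (fun S : Subgroup G => Nat.card S) (DTwo.eqZ_rr hC hp2 hzz')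
  have hfin := card_VV_rr hC hrr key
  intro r hr
  rw [card_VV_reindex c e hM hA cs' (Ty.C 2).isCartan (fun r hr => root_RC cs' hr)
    (fun r hr w => act_RC cs' hr w) hR (trans_RC cs') rr_mem hr]
  refine hfin.trans ?_
  ring

end CTwo

section AThree

open Cfsg.Agent.Nodes.RootsA

theorem form_pos_iff {I W : Type*} [Fintype I] [DecidableEq I] [Group W] [Fintype W] {M : CoxeterMatrix I}
    {cs : CoxeterSystem M W} {A : I → I → ℤ} {h : IsCartan M A} (x : I → ℤ) {q : I → ℤ} (hq : IsRoot cs h q) :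
    0 < form cs h x q ↔ 0 < cpr cs h x q := by
  have h1 := two_form_cpr cs h x hq
  have h2 : 0 < form cs h q q := form_pos cs h hq.ne_zero
  constructor
  · intro h
    by_contra h3
    nlinarith
  · intro h
    nlinarith

theorem dec4 : ∀ a b : Fin 4, a ≠ b → 0 < (((if a = 0 then 1 else 0) - (if a = 1 then 1 else 0) -
    (if b = 0 then 1 else 0) + (if b = 1 then 1 else 0)) : ℤ) →
    (a = 0 ∧ b = 1) ∨ (a = 0 ∧ b = 2) ∨ (a = 0 ∧ b = 3) ∨ (a = 2 ∧ b = 1) ∨ (a = 3 ∧ b = 1) := by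
  decide

open Cfsg.Agent.LieRecognition.BNCox (cA) in
theorem card_VV_A {W : Type*} [Group W] [Fintype W] {cs : CoxeterSystem (cA 3) W} {A : Fin 3 → Fin 3 → ℤ}
    {h : IsCartan (cA 3) A} {T : Subgroup G} {n : Fin 3 → G} {X : (Fin 3 → ℤ) → Subgroup G}
    (R : RGD cs h p T n X) {q : ℕ} (hX : ∀ x, IsRoot cs h x → Nat.card (X x) = q) :
    Nat.card (VV cs h X (rtA 0 1)) = q ^ 5 := by
  have h01 : ((0 : Fin 4)) ≠ 1 := by decide
  have hr01 : IsRoot cs h (rtA (n := 3) 0 1) := isRoot_rtA cs h h01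
  let S : Finset (Fin 3 → ℤ) := {rtA 0 1, rtA 0 2, rtA 0 3, rtA 2 1, rtA 3 1}
  have hS : ∀ y, y ∈ S ↔ IsRoot cs h y ∧ 0 < form cs h y (rtA (n := 3) 0 1) := by
    intro y
    rw [form_pos_iff y hr01]
    constructor
    · intro hy
      simp only [S, Finset.mem_insert, Finset.mem_singleton] at hy
      rcases hy with rfl | rfl | rfl | rfl | rfl
      · exact ⟨hr01, by rw [Nodes.KindA.cpr_rtA cs h _ _ h01]; decide⟩
      · exact ⟨isRoot_rtA cs h (by decide), by rw [Nodes.KindA.cpr_rtA cs h _ _ h01]; decide⟩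
      · exact ⟨isRoot_rtA cs h (by decide), by rw [Nodes.KindA.cpr_rtA cs h _ _ h01]; decide⟩
      · exact ⟨isRoot_rtA cs h (by decide), by rw [Nodes.KindA.cpr_rtA cs h _ _ h01]; decide⟩
      · exact ⟨isRoot_rtA cs h (by decide), by rw [Nodes.KindA.cpr_rtA cs h _ _ h01]; decide⟩
    · rintro ⟨hy, h0⟩
      obtain ⟨a, b, hab, rfl⟩ := exists_of_isRoot cs h hy
      rw [Nodes.KindA.cpr_rtA cs h _ _ h01] at h0
      simp only [S, Finset.mem_insert, Finset.mem_singleton]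
      rcases dec4 a b hab h0 with ⟨rfl, rfl⟩ | ⟨rfl, rfl⟩ | ⟨rfl, rfl⟩ | ⟨rfl, rfl⟩ | ⟨rfl, rfl⟩
      · exact Or.inl rfl
      · exact Or.inr (Or.inl rfl)
      · exact Or.inr (Or.inr (Or.inl rfl))
      · exact Or.inr (Or.inr (Or.inr (Or.inl rfl)))
      · exact Or.inr (Or.inr (Or.inr (Or.inr rfl)))
  have hcard : S.card = 5 := by decide
  rw [DCard.card_VV R (rtA (n := 3) 0 1) S hS, Finset.prod_congr rfl fun y hy => hX y ((hS y).1 hy).1,
    Finset.prod_const, hcard]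

/-- **Type `A 3`** -/
theorem A_three (c : Chart Om p D) (h : c.IsTy (.A 3)) (hZX : ∀ r ∈ c.R, c.Z r = c.X r) {q : ℕ}
    (hq : ∀ r ∈ c.R, Nat.card (c.Z r) = q) : ∀ r ∈ c.R, Nat.card (VV c.cs c.h c.X r) = q ^ 5 := by
  let cs' : CoxeterSystem (Ty.A 3).M (Ty.A 3).M.Group := (Ty.A 3).M.toCoxeterSystem
  have hf : Finite (Ty.A 3).M.Group := finite_of_isTy c h cs'
  let ft : Fintype (Ty.A 3).M.Group := Fintype.ofFinite _
  have htr : ∀ r ∈ {x | IsRoot cs' (Ty.A 3).isCartan x}, ∀ s ∈ {x | IsRoot cs' (Ty.A 3).isCartan x},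
      ∃ w, s = rep cs' (Ty.A 3).isCartan w r := fun r hr s hs => by
    obtain ⟨w, hw⟩ := Nodes.KindA.trans (Ty.A 3).M.toCoxeterSystem (Ty.A 3).isCartan hr hs
    exact ⟨w, hw.symm⟩
  have hact : ∀ r ∈ {x | IsRoot cs' (Ty.A 3).isCartan x}, ∀ w,
      rep cs' (Ty.A 3).isCartan w r ∈ {x | IsRoot cs' (Ty.A 3).isCartan x} := fun r hr w =>
    IsRoot.act (show IsRoot cs' (Ty.A 3).isCartan r from hr) w
  obtain ⟨e, hM, hA, hR, h1⟩ := exists_chart_of_isTy c h (W' := (Ty.A 3).M.Group) cs'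
    (R' := {x | IsRoot cs' (Ty.A 3).isCartan x}) (fun r hr => hr) hact
    (fun i => ⟨fun _ => trivial, fun _ => isRoot_sr _ _ i⟩) htr
  let c' := reindex c e hM hA cs' (Ty.A 3).isCartan (fun r hr => hr) hact hR htr
  have hX : ∀ x, IsRoot cs' (Ty.A 3).isCartan x → Nat.card (c'.X x) = q := by
    intro x hx
    have h2 : (fun i => x (e i)) ∈ c.R :=
      (mem_R_iff (cs := c.cs) (h := c.h) (R' := {x | IsRoot cs' (Ty.A 3).isCartan x}) e hM hA cs'
        (Ty.A 3).isCartan c.cls.act hact hR hx).2 hx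
    have h3 := hq _ h2
    rw [hZX _ h2] at h3
    exact h3
  have h01 : ((0 : Fin 4)) ≠ 1 := by decide
  have hr01 : IsRoot cs' (Ty.A 3).isCartan (rtA (n := 3) 0 1) := isRoot_rtA cs' (Ty.A 3).isCartan h01
  intro r hr
  rw [card_VV_reindex c e hM hA cs' (Ty.A 3).isCartan (R' := {x | IsRoot cs' (Ty.A 3).isCartan x})
    (fun r hr => hr) hact hR htr (x := rtA (n := 3) 0 1) hr01 hr]
  exact card_VV_A c'.cls.rgd hX

end AThree

end Cfsg.Agent.Cit.DTwoChart
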