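import Mathlib
import Cfsg.Agent.Cit.ExIn
import Cfsg.Agent.Cit.UseT3

/-!
# Local input of the dispatchers from (C) on the frames (project CIT)

(C): the 2-groups `K ⊓ S`, `K ∈ Om(S)`, centralise `O(C(s))`, `1 ≠ s ∈ E(S)` (for all `S`).

* `loc` : the members of `Om(S)` centralise `E(S)`, and `CorG Om C(s)`;
* `exists_frame` : a member covered by `C(zz L)` lies in a common frame with `L`;
* `fam_eq` : `fam Om C(zz L) = fb Om C(zz L)`; `tr_eq` : `tr H K = bar H K`;
* `core_eq_bot` : `O(K) = 1` for all members, if any two members of a frame are in the same chart piece of `C(zz L)`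
  for some third `L`, and the graph is connected; `lb` : `ExLocal.LB Om`.
-/

set_option autoImplicit false
set_option linter.dupNamespace false
set_option linter.style.haveILetI false
set_option linter.unusedSectionVars false

namespace Cfsg.Agent.Cit.DispCor

open Subgroup Cfsg Relation SubCent Cfsg.Agent.Cit.UseT Cfsg.Agent.Cit.PieceLift Cfsg.Agent.Cit.PieceG
open Cfsg.Agent.Cit.CoresG Cfsg.Agent.Cit.CoresCore
open scoped commutatorElement

universe u

/-- (C) on all frames -/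
def CE {G : Type*} [Group G] (Om : Set (Subgroup G)) : Prop := ∀ S : Sylow 2 G, ∀ K ∈ OmS Om (S : Subgroup G),
  ∀ s ∈ ES Om (S : Subgroup G), s ≠ 1 → ⁅XX s, K ⊓ (S : Subgroup G)⁆ = ⊥

variable {G : Type u} [Group G] [Finite G] {Om : Set (Subgroup G)}

theorem loc (hm : MinS Om) (hE : CE Om) (S : Sylow 2 G) {s : G} (hs : s ∈ ES Om (S : Subgroup G)) (hs1 : s ≠ 1) :
    (∀ K ∈ OmS Om (S : Subgroup G), K ≤ centralizer {s}) ∧ CorG Om (centralizer {s}) :=
  hm.corG_of_cor S (fun s hs hs1 K hK => by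
    have h1 := hE S K hK s hs hs1
    rwa [commutator_comm, commutator_eq_bot_iff_le_centralizer] at h1) s hs hs1

/-- `CorG` at the involutions of the members -/
theorem cor (hm : MinS Om) (hE : CE Om) {L : Subgroup G} (hL : L ∈ Om) : CorG Om (centralizer {zz L}) := by
  obtain ⟨S, hS⟩ := exists_mem_OmS hL
  exact (loc hm hE S (zz_mem_ES hS) (hm.hyp.zz_ne hL)).2

theorem exists_frame (h : Hyp Om) {K L : Subgroup G} (hL : L ∈ Om) (hK : K ∈ cov Om (centralizer {zz L})) :
    ∃ S : Sylow 2 G, K ∈ OmS Om (S : Subgroup G) ∧ L ∈ OmS Om (S : Subgroup G) := by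
  haveI : Fact (Nat.Prime 2) := ⟨Nat.prime_two⟩
  obtain ⟨Q, hQ⟩ := Hyp.exists_syl (K ⊓ centralizer {zz L})
  have hQK := syl_of_syl_inf hK hQ
  obtain ⟨T, hT, hQT⟩ := exists_syl_ge hQ.2.1 (hQ.1.trans inf_le_right)
  obtain ⟨S, hS⟩ := hT.2.1.exists_le_sylow
  exact ⟨S, mem_OmS_of_le hK.1 hQK (hQT.trans hS), OmS_mono hS (h.mem_OmS_of_syl hL hT)⟩

/-- members covered by `C(zz L)` are contained in it -/
theorem le_of_cov (hm : MinS Om) (hE : CE Om) {K L : Subgroup G} (hL : L ∈ Om)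
    (hK : K ∈ cov Om (centralizer {zz L})) : K ≤ centralizer {zz L} := by
  obtain ⟨S, h1, h2⟩ := exists_frame hm.hyp hL hK
  exact (loc hm hE S (zz_mem_ES h2) (hm.hyp.zz_ne hL)).1 K h1

theorem OmIn_eq_restr {H : Subgroup G} (h : ∀ K ∈ cov Om H, K ≤ H) : Cit.OmIn Om H = restr Om H := by
  rw [RdOm.OmIn_eq]
  ext J
  constructor
  · rintro ⟨K, hK, rfl⟩
    exact subgroupOf_mem_restr hK.1 (h K hK)
  · intro hJ
    refine ⟨J.map H.subtype, mem_cov_of_le hJ (map_subtype_le _), ?_⟩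
    change (J.map H.subtype).subgroupOf H = J
    rw [subgroupOf, comap_map_eq_self_of_injective H.subtype_injective]

/-- the two families of images coincide -/
theorem fam_eq_of (ty : ∀ K ∈ Om, Ty K) {H : Subgroup G} (h : ∀ K ∈ cov Om H, K ≤ H) : fam Om H = fb Om H := by
  rw [fam, OmIn_eq_restr h, RdOm.rd_image_eq (Ty.restr ty H), fb]

theorem fam_eq (hm : MinS Om) (hE : CE Om) {L : Subgroup G} (hL : L ∈ Om) :
    fam Om (centralizer {zz L}) = fb Om (centralizer {zz L}) :=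
  fam_eq_of hm.ty fun _ hK => le_of_cov hm hE hL hK

theorem tr_eq (ty : ∀ K ∈ Om, Ty K) {H K : Subgroup G} (hK : K ∈ Om) (hKH : K ≤ H) : tr H K = bar H K := by
  rw [tr, RdOm.rd_eq_self (Ty.restr ty H _ (subgroupOf_mem_restr hK hKH)), bar]

/-- the piece of the trace is the piece of the image -/
theorem pc_eq (hm : MinS Om) (hE : CE Om) {K L : Subgroup G} (hL : L ∈ Om) (hK : K ∈ Om)
    (hKL : K ≤ centralizer {zz L}) :
    pc (fam Om (centralizer {zz L})) (tr (centralizer {zz L}) K) = PT Om (centralizer {zz L}) K := by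
  rw [fam_eq hm hE hL, tr_eq hm.ty hK hKL, PT]

/-! ### The cores of the members -/

/-- `O(K) ≤ O(H)` for `K ≤ H` if the images have trivial cores -/
theorem OO_le_OO {H : Subgroup G} (hp : HasPieces (fb Om H)) {K : Subgroup G} (hK : K ∈ Om) (hKH : K ≤ H) :
    OO K ≤ OO H := by
  intro x hx
  have hxH := hKH (OO_le K hx)
  have h1 := hp.core _ (bar_mem hK hKH)
  have h2 : qm H ⟨x, hxH⟩ ∈ OO (bar H K) := by
    refine map_OO_le _ _ ⟨⟨x, hxH⟩, ?_, rfl⟩
    rw [OO_subgroupOf (mem_cov_of_le hK hKH)]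
    exact hx
  rw [h1, mem_bot] at h2
  exact (mem_ker_iff H).1 h2

/-- two members of a frame in the same chart piece of `C(zz L)` have the same core -/
theorem OO_eq {L K M : Subgroup G} (C : CorG Om (centralizer {zz L})) (hK : K ∈ Om) (hM : M ∈ Om)
    (hKH : K ≤ centralizer {zz L}) (hMH : M ≤ centralizer {zz L}) {p : ℕ}
    (c : Nodes.Chart.Chart (fb Om (centralizer {zz L})) p (PT Om (centralizer {zz L}) K))
    (hne : PT Om (centralizer {zz L}) K ∉ fb Om (centralizer {zz L}))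
    (hKM : PT Om (centralizer {zz L}) K = PT Om (centralizer {zz L}) M) : OO K = OO M := by
  have h1 := OO_le_OO C.pcs hK hKH
  obtain ⟨-, e, he, rfl⟩ := CorOf.lnk_of_chart (b := OO) C hK hM hKH hMH c hne hKM
    (CorOf.DL_le_centralizer_of_le C h1)
  rw [OO_cj]
  symm
  have key : ∀ e : G, (∀ y ∈ OO K, e * y = y * e) → Cit.cj e (OO K) ≤ OO K := by
    intro e he x hx
    rw [mem_cj] at hx
    have h2 : e * (e⁻¹ * x * e) * e⁻¹ = e⁻¹ * x * e := by
      rw [he _ hx]; group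
    have h3 : x = e⁻¹ * x * e := by rw [← h2]; group
    rw [h3]
    exact hx
  refine le_antisymm (key e he) ?_
  have h3 := cj_mono e (key e⁻¹ fun y hy => by
    have h2 := he y hy
    calc e⁻¹ * y = e⁻¹ * (y * e) * e⁻¹ := by group
      _ = e⁻¹ * (e * y) * e⁻¹ := by rw [h2]
      _ = y * e⁻¹ := by group)
  rwa [cj_cj_inv] at h3

/-- **the members have trivial cores** -/
theorem core_eq_bot (hm : MinS Om) (hE : CE Om) (hcon : ∀ K ∈ Om, ∀ L ∈ Om, ReflTransGen (Adj Om) K L)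
    (hc : ∀ S : Sylow 2 G, ∀ K ∈ OmS Om (S : Subgroup G), ∀ M ∈ OmS Om (S : Subgroup G), K ≠ M →
      ∃ L ∈ OmS Om (S : Subgroup G), PT Om (centralizer {zz L}) K ∉ fb Om (centralizer {zz L}) ∧
        PT Om (centralizer {zz L}) K = PT Om (centralizer {zz L}) M ∧
        ∃ p, Nonempty (Nodes.Chart.Chart (fb Om (centralizer {zz L})) p (PT Om (centralizer {zz L}) K))) :
    ∀ K ∈ Om, OO K = ⊥ := by
  have h := hm.hyp
  -- the core is constant
  have h1 : ∀ K ∈ Om, ∀ L ∈ Om, OO K = OO L := by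
    intro K hK L hL
    have h2 := hcon K hK L hL
    clear hL
    induction h2 with
    | refl => rfl
    | @tail M N _ h3 ih =>
      obtain ⟨S, hM, hN⟩ := h3
      rw [ih]
      by_cases e : M = N
      · rw [e]
      · obtain ⟨L, hL, h4, h5, p, ⟨c⟩⟩ := hc S M hM N hN e
        obtain ⟨h6, C⟩ := loc hm hE S (zz_mem_ES hL) (h.zz_ne hL.1)
        exact OO_eq C hM.1 hN.1 (h6 M hM) (h6 N hN) c h4 h5
  intro K hK
  refine hm.eq_bot_of_odd ?_ (odd_OO K)
  refine normalizer_eq_top_iff.1 (top_unique fun g _ => ?_)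
  rw [mem_normalizer_iff_cj, ← OO_cj]
  exact h1 _ (h.conj K hK g) K hK

theorem lb (hm : MinS Om) (hE : CE Om) (core : ∀ K ∈ Om, OO K = ⊥) : ExLocal.LB Om where
  hyp := hm.hyp
  ty := hm.ty
  core := core
  cor _ hK := cor hm hE hK

end Cfsg.Agent.Cit.DispCor
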