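import Mathlib
import Cfsg.Agent.Cit.FrameProv
import Cfsg.Agent.Cit.TypeDet.Setup
import Cfsg.Agent.ClassicalGeometry.PSL2Basic

/-!
# From local pieces to the input of the type owners (project CIT)

* `piece_isPiece` : the chain classes of `Om ∩ C(s)` generate pieces in the sense of `FrameOf.Piece Om s`;
* `piece_isPiece_K` : the same for `Om ∩ C(K)`, `s = zz K`;
* `chart_of_tyPc` : `TyPc Om τ D`, `K i ≤ D` gives a chart for the characteristic of the frame;
* `delta_eq` : `delta Om (K k)` is the piece of `K j` in `C(K k)` if this contains all `K i`, `i ≠ k`.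
-/

set_option autoImplicit false
set_option linter.unusedSectionVars false
set_option linter.dupNamespace false

namespace Cfsg.Agent.Cit.DispGen

open Subgroup Cfsg Cfsg.Agent.Cit.TypeDet Cfsg.Agent.Cit.FrameOf Cfsg.Agent.Cit.FrameClose Cfsg.Agent.Nodes.Chart

variable {G : Type*} [Group G] {Om : Set (Subgroup G)}

/-! ### Pieces of centralisers -/

theorem cj_mem_OmIn (hO : ∀ K ∈ Om, ∀ g, Cit.cj g K ∈ Om) {H : Subgroup G} {g : G} (hg : Cit.cj g H = H)
    {X : Subgroup G} (hX : X ∈ TypeDet.OmIn Om H) : Cit.cj g X ∈ TypeDet.OmIn Om H :=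
  ⟨hO _ hX.1 g, by rw [← hg]; exact cj_mono g hX.2⟩

theorem cj_piece (hO : ∀ K ∈ Om, ∀ g, Cit.cj g K ∈ Om) {H : Subgroup G} {g : G} (hg : Cit.cj g H = H)
    (X : Subgroup G) : Cit.cj g (piece (TypeDet.OmIn Om H) X) = piece (TypeDet.OmIn Om H) (Cit.cj g X) := by
  have key : ∀ g : G, Cit.cj g H = H → ∀ X : Subgroup G,
      Cit.cj g (piece (TypeDet.OmIn Om H) X) ≤ piece (TypeDet.OmIn Om H) (Cit.cj g X) := by
    intro g hg X
    rw [cj_le_iff]
    refine sSup_le fun M hM => ?_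
    rw [← cj_le_iff]
    exact le_piece (cj_mem_OmIn hO hg hM.1) (TypeDet.chn_cj (fun L hL => cj_mem_OmIn hO hg hL) hM.2)
  refine le_antisymm (key g hg X) ?_
  have hg' : Cit.cj g⁻¹ H = H := by
    conv_lhs => rw [← hg]
    exact cj_inv_cj g H
  have h1 := key g⁻¹ hg' (Cit.cj g X)
  rw [cj_inv_cj] at h1
  have h2 := cj_mono g h1
  rwa [cj_cj_inv] at h2

theorem piece_eq_of_chn {T : Set (Subgroup G)} {X Y : Subgroup G} (h : chn T X Y) : piece T X = piece T Y := by
  unfold piece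
  congr 1
  ext M
  exact ⟨fun hM => ⟨hM.1, (chn_symm h).trans hM.2⟩, fun hM => ⟨hM.1, h.trans hM.2⟩⟩

theorem piece_le {H X : Subgroup G} : piece (TypeDet.OmIn Om H) X ≤ H := sSup_le fun _ hM => hM.1.2

/-- a member of `T` lies in the piece or commutes with it -/
theorem le_or_cm {T : Set (Subgroup G)} {X J : Subgroup G} (hJ : J ∈ T) : J ≤ piece T X ∨ cm (piece T X) J := by
  by_cases h : chn T X J
  · exact Or.inl (le_piece hJ h)
  · exact Or.inr (cm_sSup fun M hM => by
      by_contra hc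
      exact h (hM.2.tail ⟨hM.1, hJ, hc⟩))

theorem cj_centralizer_of_comm {s g : G} (hg : g * s = s * g) :
    Cit.cj g (centralizer {s} : Subgroup G) = centralizer {s} := by
  have key : ∀ g : G, g * s = s * g → Cit.cj g (centralizer {s} : Subgroup G) ≤ centralizer {s} := by
    intro g hg x hx
    rw [Cit.mem_cj, mem_centralizer_singleton_iff] at hx
    rw [mem_centralizer_singleton_iff]
    have hg' : g⁻¹ * s = s * g⁻¹ := by
      calc g⁻¹ * s = g⁻¹ * (s * g) * g⁻¹ := by group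
        _ = g⁻¹ * (g * s) * g⁻¹ := by rw [hg]
        _ = s * g⁻¹ := by group
    calc x * s = g * (g⁻¹ * x * g) * (g⁻¹ * s) := by group
      _ = g * ((g⁻¹ * x * g) * s) * g⁻¹ := by rw [hg']; group
      _ = g * (s * (g⁻¹ * x * g)) * g⁻¹ := by rw [hx]
      _ = (g * s) * g⁻¹ * x := by group
      _ = s * x := by rw [hg]; group
  refine le_antisymm (key g hg) ?_
  have h1 : g⁻¹ * s = s * g⁻¹ := by
    calc g⁻¹ * s = g⁻¹ * (s * g) * g⁻¹ := by group
      _ = g⁻¹ * (g * s) * g⁻¹ := by rw [hg]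
      _ = s * g⁻¹ := by group
  have h2 := cj_mono g (key g⁻¹ h1)
  rwa [cj_cj_inv] at h2

/-- **The chain classes of `Om ∩ C(s)` generate pieces.** -/
theorem piece_isPiece (hO : ∀ K ∈ Om, ∀ g, Cit.cj g K ∈ Om) {s : G} {X : Subgroup G} :
    FrameOf.Piece Om s (piece (TypeDet.OmIn Om (centralizer {s})) X) where
  le a ha := mem_centralizer_singleton_iff.1 (piece_le ha)
  norm g hg := by
    rw [cj_piece hO (cj_centralizer_of_comm hg)]
    by_cases h : chn (TypeDet.OmIn Om (centralizer {s})) X (Cit.cj g X)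
    · exact Or.inl (piece_eq_of_chn h).symm
    · exact Or.inr (cm_piece h)
  mem J hJ hc := le_or_cm ⟨hJ, fun x hx => mem_centralizer_singleton_iff.2 (hc x hx)⟩

section Loc

variable [Finite G] (hyp : Hyp Om) (hloc : Loc Om)

include hyp hloc

/-- the pieces of `Om ∩ C(K)` are pieces of `Om ∩ C(zz K)` -/
theorem piece_centralizer_eq {K : Subgroup G} (hK : K ∈ Om) {X : Subgroup G}
    (hX : X ∈ TypeDet.OmIn Om (centralizer (K : Set G))) :
    piece (TypeDet.OmIn Om (centralizer (K : Set G))) X = piece (TypeDet.OmIn Om (centralizer {zz K})) X := by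
  have hle : centralizer (K : Set G) ≤ centralizer {zz K} := by
    refine centralizer_le ?_
    rw [Set.singleton_subset_iff]
    exact hyp.zz_mem hK
  unfold piece
  congr 1
  ext M
  constructor
  · rintro ⟨h1, h2⟩
    exact ⟨⟨h1.1, h1.2.trans hle⟩, (chn_centralizer_iff hyp hloc hK hX).mp h2⟩
  · rintro ⟨h1, h2⟩
    have h3 := (chn_centralizer_iff hyp hloc hK hX).mpr h2
    refine ⟨?_, h3⟩
    rcases Relation.ReflTransGen.cases_tail h3 with h4 | ⟨Z, -, h4⟩
    · rw [h4]; exact hX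
    · exact h4.2.1

/-- **The chain classes of `Om ∩ C(K)` generate pieces.** -/
theorem piece_isPiece_K {K : Subgroup G} (hK : K ∈ Om) {X : Subgroup G}
    (hX : X ∈ TypeDet.OmIn Om (centralizer (K : Set G))) :
    FrameOf.Piece Om (zz K) (piece (TypeDet.OmIn Om (centralizer (K : Set G))) X) := by
  rw [piece_centralizer_eq hyp hloc hK hX]
  exact piece_isPiece hyp.conj

end Loc

/-! ### The characteristic -/

theorem card_inj {a b : ℕ} (ha : 2 ≤ a) (hb : 2 ≤ b) (h : a * (a ^ 2 - 1) = b * (b ^ 2 - 1)) : a = b := by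
  have key : ∀ a b : ℕ, 2 ≤ a → a < b → a * (a ^ 2 - 1) < b * (b ^ 2 - 1) := by
    intro a b h2 hab
    have h1 : a ^ 2 - 1 < b ^ 2 - 1 := by
      have : a ^ 2 < b ^ 2 := Nat.pow_lt_pow_left hab (by norm_num)
      have : 1 ≤ a ^ 2 := Nat.one_le_pow _ _ (by omega)
      omega
    exact Nat.mul_lt_mul_of_lt_of_lt hab h1
  rcases lt_trichotomy a b with h1 | h1 | h1
  · exact absurd h (key a b ha h1).ne
  · exact h1
  · exact absurd h.symm (key b a hb h1).ne

theorem char_eq {F F' : Type*} [Field F] [Fintype F] [Field F'] [Fintype F'] {p p' : ℕ} [CharP F p]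
    [CharP F' p'] (e : Matrix.SpecialLinearGroup (Fin 2) F ≃* Matrix.SpecialLinearGroup (Fin 2) F') : p = p' := by
  have h1 := Nat.card_congr e.toEquiv
  rw [ClassicalGeometry.PSL2Basic.card_SL2, ClassicalGeometry.PSL2Basic.card_SL2] at h1
  have h2 := card_inj (Fintype.one_lt_card (α := F)) (Fintype.one_lt_card (α := F')) h1
  obtain ⟨n, hp, hn⟩ := FiniteField.card F p
  obtain ⟨n', hp', hn'⟩ := FiniteField.card F' p'
  rw [hn, hn'] at h2
  have h3 : p ∣ p' ^ (n' : ℕ) := by
    rw [← h2]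
    exact dvd_pow_self p n.2.ne'
  exact (Nat.prime_dvd_prime_iff_eq hp hp').1 (hp.dvd_of_dvd_pow h3)

/-- A (T1)-piece containing a member of the frame has a chart for the characteristic of the frame. -/
theorem chart_of_tyPc [Finite G] {ι : Type*} {F : Type*} [Field F] [Fintype F] {p : ℕ} [CharP F p]
    {K : ι → Subgroup G} {X : ι → SignType → Subgroup G} (D : Dat Om F K X) {τ : Nodes.Chart.Ty} {L : Subgroup G}
    (h : TyPc Om τ L) {i : ι} (hi : K i ≤ L) :
    ∃ c : Chart Om p L, c.IsTy τ ∧ ((∀ r ∈ c.R, c.Z r = c.X r) ∨ ∃ n, τ = .C n) := by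
  obtain ⟨-, -, -, -, p', c, kind, -, ⟨F', _, _, _, hsl⟩, zx⟩ := h
  obtain ⟨r, hr, g, hg, e1⟩ := c.om_conj (K i) (D.mem i) hi
  obtain ⟨e2⟩ := hsl r hr
  obtain ⟨e3, -, -⟩ := D.sl i
  have e4 : ↥(c.Z r ⊔ c.Z (-r)) ≃* ↥(K i) :=
    ((c.Z r ⊔ c.Z (-r)).equivMapOfInjective (MulAut.conj g).toMonoidHom (MulAut.conj g).injective).trans
      (MulEquiv.subgroupCongr e1.symm)
  have hpp : p = p' := char_eq (e3.trans (e4.symm.trans e2.symm))
  subst hpp
  exact ⟨c, kind, zx⟩

/-! ### `Δ_k` -/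

section Delta

variable [Finite G] {ι : Type*} (hyp : Hyp Om) (hloc : Loc Om) (S : Sylow 2 G) {K : ι → Subgroup G}
  (hS : Set.range K = OmS Om (S : Subgroup G))

include hyp hloc hS

/-- **`Δ_k` is the piece of `K j` in `C(K k)`** if this contains all `K i`, `i ≠ k`. -/
theorem delta_eq {k : ι} {X : Subgroup G} (hX : X ∈ TypeDet.OmIn Om (centralizer (K k : Set G)))
    (hle : ∀ i, i ≠ k → K i ≤ piece (TypeDet.OmIn Om (centralizer (K k : Set G))) X) :
    delta Om (K k) = piece (TypeDet.OmIn Om (centralizer (K k : Set G))) X := by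
  have hk : K k ∈ Om := by
    have h0 : K k ∈ OmS Om (S : Subgroup G) := by rw [← hS]; exact ⟨k, rfl⟩
    exact h0.1
  refine le_antisymm (FrameProv.delta_le hyp S hS (piece_isPiece_K hyp hloc hk hX) hle) ?_
  refine sSup_le fun M hM => le_delta hM.1.1 ?_ (cm_iff_le_centralizer.2 hM.1.2)
  intro e
  exact not_cm_self hyp hk (by
    have h1 := cm_iff_le_centralizer.2 hM.1.2
    rwa [e] at h1)

end Delta

end Cfsg.Agent.Cit.DispGen
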