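import Mathlib

/-!
Labelling of the quadruples of a spanning frame (project CIT, types `E₇`, `E₈`).

* `exists_seven` : `|ι| = 7`, quadruples such that every index misses three of them, two quadruples missing a common
  index meet in an even number of indices: the complements are the lines of the Fano plane;
* `exists_eight` : `|ι| = 8`, every index misses seven quadruples: the extended Hamming code.
-/

set_option autoImplicit false

namespace Cfsg.Agent.Cit.SpanComb

variable {ι : Type*} [Fintype ι] [DecidableEq ι]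

/-- double counting -/
theorem sum_filter (C : Finset (Finset ι)) (h4 : ∀ B ∈ C, B.card = 4) :
    ∑ l : ι, (C.filter fun B => l ∉ B).card = (Fintype.card ι - 4) * C.card := by
  have h1 : ∀ l : ι, (C.filter fun B => l ∉ B).card = ∑ B ∈ C, if l ∉ B then 1 else 0 := by
    intro l
    rw [Finset.card_filter]
  rw [Finset.sum_congr rfl fun l _ => h1 l, Finset.sum_comm]
  have h2 : ∀ B ∈ C, (∑ l : ι, if l ∉ B then 1 else 0) = Fintype.card ι - 4 := by
    intro B hB
    rw [← Finset.card_filter]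
    have : (Finset.univ.filter fun l => l ∉ B) = Bᶜ := by ext l; simp
    rw [this, Finset.card_compl, h4 B hB]
  rw [Finset.sum_congr rfl h2, Finset.sum_const, smul_eq_mul, mul_comm]

/-- Two quadruples missing a common index and meeting in three indices are equal. -/
theorem eq_of_inter {C : Finset (Finset ι)} (h4 : ∀ B ∈ C, B.card = 4)
    (he : ∀ l, ∀ B ∈ C, ∀ B' ∈ C, l ∉ B → l ∉ B' → Even (B ∩ B').card) {B B' : Finset ι} (hB : B ∈ C)
    (hB' : B' ∈ C) {l : ι} (hl : l ∉ B) (hl' : l ∉ B') (h3 : 3 ≤ (B ∩ B').card) : B = B' := by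
  have h1 := he l B hB B' hB' hl hl'
  have h2 : (B ∩ B').card ≤ 4 := by rw [← h4 B hB]; exact Finset.card_le_card Finset.inter_subset_left
  have h5 : (B ∩ B').card = 4 := by
    obtain ⟨k, hk⟩ := h1
    omega
  have e1 : B ∩ B' = B := Finset.eq_of_subset_of_card_le Finset.inter_subset_left (by rw [h4 B hB, h5])
  have e2 : B ∩ B' = B' := Finset.eq_of_subset_of_card_le Finset.inter_subset_right (by rw [h4 B' hB', h5])
  rw [← e1, e2]

/-- an equivalence from an injective map -/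
theorem exists_equiv {n : ℕ} (hι : Fintype.card ι = n) (f : Fin n → ι) (hf : Function.Injective f) :
    ∃ σ : Fin n ≃ ι, ∀ i, σ i = f i := by
  have hb : Function.Bijective f := (Fintype.bijective_iff_injective_and_card f).2 ⟨hf, by simp [hι]⟩
  exact ⟨Equiv.ofBijective f hb, fun i => rfl⟩

/-! ### Seven indices -/

section Seven

variable (hι : Fintype.card ι = 7) {C : Finset (Finset ι)} (h4 : ∀ B ∈ C, B.card = 4)
  (hN : ∀ l : ι, (C.filter fun B => l ∉ B).card = 3)
  (he : ∀ l, ∀ B ∈ C, ∀ B' ∈ C, l ∉ B → l ∉ B' → Even (B ∩ B').card)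

include hι h4 he

theorem eq_of_miss {B B' : Finset ι} (hB : B ∈ C) (hB' : B' ∈ C) {i j : ι} (hij : i ≠ j) (hi : i ∉ B) (hj : j ∉ B)
    (hi' : i ∉ B') (hj' : j ∉ B') : B = B' := by
  refine eq_of_inter h4 he hB hB' hi hi' ?_
  have h1 : B ∪ B' ⊆ (Finset.univ.erase i).erase j := by
    intro k hk
    rw [Finset.mem_erase, Finset.mem_erase]
    rw [Finset.mem_union] at hk
    refine ⟨?_, ?_, Finset.mem_univ k⟩
    · rintro rfl; exact hk.elim hj hj'
    · rintro rfl; exact hk.elim hi hi'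
  have h2 := Finset.card_le_card h1
  rw [Finset.card_erase_of_mem (Finset.mem_erase.2 ⟨hij.symm, Finset.mem_univ j⟩),
    Finset.card_erase_of_mem (Finset.mem_univ i), Finset.card_univ, hι] at h2
  have h3 := Finset.card_union_add_card_inter B B'
  rw [h4 B hB, h4 B' hB'] at h3
  omega

include hN

/-- every pair of indices is missed by a quadruple -/
theorem exists_miss {i j : ι} (hij : i ≠ j) : ∃ B ∈ C, i ∉ B ∧ j ∉ B := by
  have hC : C.card = 7 := by
    have h1 := sum_filter C h4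
    rw [Finset.sum_congr rfl fun l _ => hN l, Finset.sum_const, Finset.card_univ, hι, smul_eq_mul] at h1
    omega
  have h1 : (C.biUnion fun B => (Bᶜ : Finset ι).powersetCard 2).card = 21 := by
    rw [Finset.card_biUnion]
    · have h2 : ∀ B ∈ C, ((Bᶜ : Finset ι).powersetCard 2).card = 3 := by
        intro B hB
        rw [Finset.card_powersetCard, Finset.card_compl, h4 B hB, hι]
        rfl
      rw [Finset.sum_congr rfl h2, Finset.sum_const, hC]
      rfl
    · intro B hB B' hB' hne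
      rw [Function.onFun, Finset.disjoint_left]
      intro P h1 h2
      rw [Finset.mem_powersetCard] at h1 h2
      obtain ⟨a, b, hab, rfl⟩ := Finset.card_eq_two.1 h1.2
      apply hne
      have ha := h1.1 (Finset.mem_insert_self a _)
      have hb := h1.1 (Finset.mem_insert_of_mem (Finset.mem_singleton_self b))
      have ha' := h2.1 (Finset.mem_insert_self a _)
      have hb' := h2.1 (Finset.mem_insert_of_mem (Finset.mem_singleton_self b))
      rw [Finset.mem_compl] at ha hb ha' hb'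
      exact eq_of_miss hι h4 he hB hB' hab ha hb ha' hb'
  have h2 : (C.biUnion fun B => (Bᶜ : Finset ι).powersetCard 2) = (Finset.univ : Finset ι).powersetCard 2 := by
    apply Finset.eq_of_subset_of_card_le
    · intro P hP
      obtain ⟨B, -, h3⟩ := Finset.mem_biUnion.1 hP
      rw [Finset.mem_powersetCard] at h3 ⊢
      exact ⟨Finset.subset_univ _, h3.2⟩
    · rw [h1, Finset.card_powersetCard, Finset.card_univ, hι]
      decide
  have h3 : ({i, j} : Finset ι) ∈ (Finset.univ : Finset ι).powersetCard 2 := by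
    rw [Finset.mem_powersetCard]
    exact ⟨Finset.subset_univ _, Finset.card_pair hij⟩
  rw [← h2] at h3
  obtain ⟨B, hB, h4⟩ := Finset.mem_biUnion.1 h3
  rw [Finset.mem_powersetCard] at h4
  have hi := h4.1 (Finset.mem_insert_self i _)
  have hj := h4.1 (Finset.mem_insert_of_mem (Finset.mem_singleton_self j))
  rw [Finset.mem_compl] at hi hj
  exact ⟨B, hB, hi, hj⟩

/-- the third index of a line -/
theorem exists_third {i j : ι} (hij : i ≠ j) :
    ∃ B ∈ C, ∃ k, k ≠ i ∧ k ≠ j ∧ ∀ m, m ∉ B ↔ (m = i ∨ m = j ∨ m = k) := by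
  obtain ⟨B, hB, hi, hj⟩ := exists_miss hι h4 hN he hij
  have h1 : (Bᶜ : Finset ι).card = 3 := by rw [Finset.card_compl, h4 B hB, hι]
  have h2 : ((Bᶜ.erase i).erase j).card = 1 := by
    rw [Finset.card_erase_of_mem (Finset.mem_erase.2 ⟨hij.symm, Finset.mem_compl.2 hj⟩),
      Finset.card_erase_of_mem (Finset.mem_compl.2 hi), h1]
  obtain ⟨k, hk⟩ := Finset.card_eq_one.1 h2
  have hk' : k ∈ (Bᶜ.erase i).erase j := by rw [hk]; exact Finset.mem_singleton_self k
  rw [Finset.mem_erase, Finset.mem_erase] at hk'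
  refine ⟨B, hB, k, hk'.2.1, hk'.1, fun m => ⟨fun hm => ?_, ?_⟩⟩
  · by_cases h3 : m = i
    · exact Or.inl h3
    by_cases h4 : m = j
    · exact Or.inr (Or.inl h4)
    right; right
    have : m ∈ (Bᶜ.erase i).erase j := by
      rw [Finset.mem_erase, Finset.mem_erase]
      exact ⟨h4, h3, Finset.mem_compl.2 hm⟩
    rw [hk, Finset.mem_singleton] at this
    exact this
  · rintro (rfl | rfl | rfl)
    · exact hi
    · exact hj
    · exact Finset.mem_compl.1 hk'.2.2

/-- **Seven indices**: the Fano plane. -/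
theorem exists_seven : ∃ σ : Fin 7 ≃ ι, (({0, 1, 2, 3} : Finset (Fin 7)).map σ.toEmbedding ∈ C) ∧
    (({1, 3, 5, 6} : Finset (Fin 7)).map σ.toEmbedding ∈ C) ∧
    (({2, 3, 4, 5} : Finset (Fin 7)).map σ.toEmbedding ∈ C) := by
  have hne : Nonempty ι := by
    rw [← Fintype.card_pos_iff, hι]; omega
  obtain ⟨a⟩ := hne
  have : Nontrivial ι := by
    rw [← Fintype.one_lt_card_iff_nontrivial, hι]; omega
  obtain ⟨v, hv⟩ := exists_ne a
  obtain ⟨B0, hB0, w, hwa, hwv, e0⟩ := exists_third hι h4 hN he hv.symm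
  -- a point off the line
  obtain ⟨P2, hP2⟩ : B0.Nonempty := by rw [← Finset.card_pos, h4 B0 hB0]; omega
  have hP2' : ∀ m, m ∉ B0 → m ≠ P2 := fun m hm h => hm (by rw [h]; exact hP2)
  have n2a : P2 ≠ a := (hP2' a ((e0 a).2 (Or.inl rfl))).symm
  have n2v : P2 ≠ v := (hP2' v ((e0 v).2 (Or.inr (Or.inl rfl)))).symm
  have n2w : P2 ≠ w := (hP2' w ((e0 w).2 (Or.inr (Or.inr rfl)))).symm
  obtain ⟨B1, hB1, P5, h52, h5a, e1⟩ := exists_third hι h4 hN he n2a
  obtain ⟨B2, hB2, P3, h32, h3w, e2⟩ := exists_third hι h4 hN he n2w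
  have key : ∀ {B B' : Finset ι}, B ∈ C → B' ∈ C → ∀ i j, i ≠ j → i ∉ B → j ∉ B → i ∉ B' → j ∉ B' → B = B' :=
    fun hB hB' i j hij a b c d => eq_of_miss hι h4 he hB hB' hij a b c d
  have h5v : P5 ≠ v := by
    rintro rfl
    have := key hB0 hB1 a P5 hv.symm ((e0 a).2 (Or.inl rfl)) ((e0 P5).2 (Or.inr (Or.inl rfl)))
      ((e1 a).2 (Or.inr (Or.inl rfl))) ((e1 P5).2 (Or.inr (Or.inr rfl)))
    exact (e1 P2).2 (Or.inl rfl) (this ▸ hP2)
  have h5w : P5 ≠ w := by
    rintro rfl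
    have := key hB0 hB1 a P5 hwa.symm ((e0 a).2 (Or.inl rfl)) ((e0 P5).2 (Or.inr (Or.inr rfl)))
      ((e1 a).2 (Or.inr (Or.inl rfl))) ((e1 P5).2 (Or.inr (Or.inr rfl)))
    exact (e1 P2).2 (Or.inl rfl) (this ▸ hP2)
  have h3a : P3 ≠ a := by
    rintro rfl
    have := key hB0 hB2 P3 w hwa.symm ((e0 P3).2 (Or.inl rfl)) ((e0 w).2 (Or.inr (Or.inr rfl)))
      ((e2 P3).2 (Or.inr (Or.inr rfl))) ((e2 w).2 (Or.inr (Or.inl rfl)))
    exact (e2 P2).2 (Or.inl rfl) (this ▸ hP2)
  have h3v : P3 ≠ v := by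
    rintro rfl
    have := key hB0 hB2 P3 w hwv.symm ((e0 P3).2 (Or.inr (Or.inl rfl))) ((e0 w).2 (Or.inr (Or.inr rfl)))
      ((e2 P3).2 (Or.inr (Or.inr rfl))) ((e2 w).2 (Or.inr (Or.inl rfl)))
    exact (e2 P2).2 (Or.inl rfl) (this ▸ hP2)
  have h35 : P3 ≠ P5 := by
    rintro rfl
    have := key hB1 hB2 P2 P3 h52.symm ((e1 P2).2 (Or.inl rfl)) ((e1 P3).2 (Or.inr (Or.inr rfl)))
      ((e2 P2).2 (Or.inl rfl)) ((e2 P3).2 (Or.inr (Or.inr rfl)))
    have h1 : w ∉ B1 := by rw [this]; exact (e2 w).2 (Or.inr (Or.inl rfl))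
    rcases (e1 w).1 h1 with h2 | h2 | h2
    · exact n2w h2.symm
    · exact hwa h2
    · exact h5w h2.symm
  -- the seventh index
  obtain ⟨u, hu⟩ : ∃ u, u ∉ ({P2, P3, P5, a, v, w} : Finset ι) := by
    by_contra hcon
    push Not at hcon
    have h1 : (Finset.univ : Finset ι) ⊆ {P2, P3, P5, a, v, w} := fun x _ => hcon x
    have h2 := Finset.card_le_card h1
    rw [Finset.card_univ, hι] at h2
    have h3 : ({P2, P3, P5, a, v, w} : Finset ι).card ≤ 6 := Finset.card_le_six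
    omega
  simp only [Finset.mem_insert, Finset.mem_singleton, not_or] at hu
  obtain ⟨u2, u3, u5, ua, uv, uw⟩ := hu
  have hf : Function.Injective (![P2, P3, P5, u, a, v, w] : Fin 7 → ι) := by
    intro i j hij
    fin_cases i <;> fin_cases j <;> first
      | rfl
      | (exfalso; revert hij; simp only [Fin.zero_eta, Fin.mk_one, Fin.reduceFinMk, Matrix.cons_val]
         first
           | assumption
           | (apply Ne.symm; assumption))
  obtain ⟨σ, hσ⟩ := exists_equiv hι _ hf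
  have hval : ∀ x : ι, x = P2 ∨ x = P3 ∨ x = P5 ∨ x = u ∨ x = a ∨ x = v ∨ x = w := by
    intro x
    obtain ⟨i, rfl⟩ := σ.surjective x
    rw [hσ i]
    fin_cases i <;> simp
  have s0 : σ 0 = P2 := hσ 0
  have s1 : σ 1 = P3 := hσ 1
  have s2 : σ 2 = P5 := hσ 2
  have s3 : σ 3 = u := hσ 3
  have s4 : σ 4 = a := hσ 4
  have s5 : σ 5 = v := hσ 5
  have s6 : σ 6 = w := hσ 6
  have e : ∀ (B : Finset ι) (D : Finset (Fin 7)), (∀ i, i ∈ D ↔ σ i ∈ B) → D.map σ.toEmbedding = B := by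
    intro B D h1
    ext x
    constructor
    · intro hx
      obtain ⟨i, hi, rfl⟩ := Finset.mem_map.1 hx
      exact (h1 i).1 hi
    · intro hx
      refine Finset.mem_map.2 ⟨σ.symm x, (h1 _).2 (by simpa using hx), by simp⟩
  refine ⟨σ, ?_, ?_, ?_⟩
  · rw [e B0 _ ?_]
    · exact hB0
    · intro i
      rw [← not_iff_not, e0]
      fin_cases i <;> simp [s0, s1, s2, s3, s4, s5, s6, n2a, n2v, n2w, h3a, h3v, h3w, h5a, h5v, h5w, ua, uv, uw]
  · rw [e B1 _ ?_]
    · exact hB1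
    · intro i
      rw [← not_iff_not, e1]
      fin_cases i <;> simp [s0, s1, s2, s3, s4, s5, s6, n2a, n2v, n2w, h3a, h3v, h3w, h5a, h5v, h5w, ua, uv, uw,
        h32, h52, h35, u2, u3, u5, hwa, hwv, hv, n2v.symm, n2w.symm, n2a.symm, h5v.symm, h5w.symm]
  · rw [e B2 _ ?_]
    · exact hB2
    · intro i
      rw [← not_iff_not, e2]
      fin_cases i <;> simp [s0, s1, s2, s3, s4, s5, s6, n2a, n2v, n2w, h3a, h3v, h3w, h5a, h5v, h5w, ua, uv, uw,
        h32, h52, h35, h35.symm, u2, u3, u5, hwa, hwv, hv, n2v.symm, n2w.symm, n2a.symm, h5v.symm, h5w.symm, h3a.symm, h3v.symm,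
        hwa.symm, hwv.symm]

end Seven

/-! ### Eight indices -/

section Eight

variable (hι : Fintype.card ι = 8) {C : Finset (Finset ι)} (h4 : ∀ B ∈ C, B.card = 4)
  (hN : ∀ l : ι, (C.filter fun B => l ∉ B).card = 7)
  (he : ∀ l, ∀ B ∈ C, ∀ B' ∈ C, l ∉ B → l ∉ B' → Even (B ∩ B').card)

include hι h4 he

/-- two quadruples containing three common indices are equal -/
theorem eq_of_triple {B B' : Finset ι} (hB : B ∈ C) (hB' : B' ∈ C) (h3 : 3 ≤ (B ∩ B').card) : B = B' := by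
  have h1 := Finset.card_union_add_card_inter B B'
  rw [h4 B hB, h4 B' hB'] at h1
  obtain ⟨l, hl⟩ : ∃ l, l ∉ B ∪ B' := by
    by_contra hcon
    push Not at hcon
    have h2 : (Finset.univ : Finset ι) ⊆ B ∪ B' := fun x _ => hcon x
    have h5 := Finset.card_le_card h2
    rw [Finset.card_univ, hι] at h5
    omega
  rw [Finset.mem_union, not_or] at hl
  exact eq_of_inter h4 he hB hB' hl.1 hl.2 h3

theorem eq_of_three {B B' : Finset ι} (hB : B ∈ C) (hB' : B' ∈ C) {i j k : ι} (hij : i ≠ j) (hik : i ≠ k)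
    (hjk : j ≠ k) (hi : i ∈ B) (hj : j ∈ B) (hk : k ∈ B) (hi' : i ∈ B') (hj' : j ∈ B') (hk' : k ∈ B') : B = B' := by
  refine eq_of_triple hι h4 he hB hB' ?_
  have h1 : ({i, j, k} : Finset ι).card = 3 := Finset.card_eq_three.2 ⟨i, j, k, hij, hik, hjk, rfl⟩
  rw [← h1]
  apply Finset.card_le_card
  intro x hx
  simp only [Finset.mem_insert, Finset.mem_singleton] at hx
  rw [Finset.mem_inter]
  rcases hx with rfl | rfl | rfl
  · exact ⟨hi, hi'⟩
  · exact ⟨hj, hj'⟩
  · exact ⟨hk, hk'⟩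

include hN

/-- every triple of indices lies in a quadruple -/
theorem exists_block {i j k : ι} (hij : i ≠ j) (hik : i ≠ k) (hjk : j ≠ k) : ∃ B ∈ C, i ∈ B ∧ j ∈ B ∧ k ∈ B := by
  have hC : C.card = 14 := by
    have h1 := sum_filter C h4
    rw [Finset.sum_congr rfl fun l _ => hN l, Finset.sum_const, Finset.card_univ, hι, smul_eq_mul] at h1
    omega
  have h1 : (C.biUnion fun B => B.powersetCard 3).card = 56 := by
    rw [Finset.card_biUnion]
    · have h2 : ∀ B ∈ C, (B.powersetCard 3).card = 4 := by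
        intro B hB
        rw [Finset.card_powersetCard, h4 B hB]
        rfl
      rw [Finset.sum_congr rfl h2, Finset.sum_const, hC]
      rfl
    · intro B hB B' hB' hne
      rw [Function.onFun, Finset.disjoint_left]
      intro P h1 h2
      rw [Finset.mem_powersetCard] at h1 h2
      apply hne
      refine eq_of_triple hι h4 he hB hB' ?_
      rw [← h1.2]
      exact Finset.card_le_card (Finset.subset_inter h1.1 h2.1)
  have h2 : (C.biUnion fun B => B.powersetCard 3) = (Finset.univ : Finset ι).powersetCard 3 := by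
    apply Finset.eq_of_subset_of_card_le
    · intro P hP
      obtain ⟨B, -, h3⟩ := Finset.mem_biUnion.1 hP
      rw [Finset.mem_powersetCard] at h3 ⊢
      exact ⟨Finset.subset_univ _, h3.2⟩
    · rw [h1, Finset.card_powersetCard, Finset.card_univ, hι]
      decide
  have h3 : ({i, j, k} : Finset ι) ∈ (Finset.univ : Finset ι).powersetCard 3 := by
    rw [Finset.mem_powersetCard]
    exact ⟨Finset.subset_univ _, Finset.card_eq_three.2 ⟨i, j, k, hij, hik, hjk, rfl⟩⟩
  rw [← h2] at h3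
  obtain ⟨B, hB, h5⟩ := Finset.mem_biUnion.1 h3
  rw [Finset.mem_powersetCard] at h5
  exact ⟨B, hB, h5.1 (by simp), h5.1 (by simp), h5.1 (by simp)⟩

/-- the fourth index of a quadruple -/
theorem exists_fourth {i j k : ι} (hij : i ≠ j) (hik : i ≠ k) (hjk : j ≠ k) :
    ∃ B ∈ C, ∃ m, m ≠ i ∧ m ≠ j ∧ m ≠ k ∧ ∀ x, x ∈ B ↔ (x = i ∨ x = j ∨ x = k ∨ x = m) := by
  obtain ⟨B, hB, hi, hj, hk⟩ := exists_block hι h4 hN he hij hik hjk
  have h2 : (((B.erase i).erase j).erase k).card = 1 := by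
    rw [Finset.card_erase_of_mem (Finset.mem_erase.2 ⟨hjk.symm, Finset.mem_erase.2 ⟨hik.symm, hk⟩⟩),
      Finset.card_erase_of_mem (Finset.mem_erase.2 ⟨hij.symm, hj⟩),
      Finset.card_erase_of_mem hi, h4 B hB]
  obtain ⟨m, hm⟩ := Finset.card_eq_one.1 h2
  have hm' : m ∈ ((B.erase i).erase j).erase k := by rw [hm]; exact Finset.mem_singleton_self m
  rw [Finset.mem_erase, Finset.mem_erase, Finset.mem_erase] at hm'
  refine ⟨B, hB, m, hm'.2.2.1, hm'.2.1, hm'.1, fun x => ⟨fun hx => ?_, ?_⟩⟩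
  · by_cases h3 : x = i
    · exact Or.inl h3
    by_cases h5 : x = j
    · exact Or.inr (Or.inl h5)
    by_cases h6 : x = k
    · exact Or.inr (Or.inr (Or.inl h6))
    right; right; right
    have : x ∈ ((B.erase i).erase j).erase k := by
      rw [Finset.mem_erase, Finset.mem_erase, Finset.mem_erase]
      exact ⟨h6, h5, h3, hx⟩
    rw [hm, Finset.mem_singleton] at this
    exact this
  · rintro (rfl | rfl | rfl | rfl)
    · exact hi
    · exact hj
    · exact hk
    · exact hm'.2.2.2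

/-- **Eight indices**: the extended Hamming code. -/
theorem exists_eight : ∃ σ : Fin 8 ≃ ι, (({0, 1, 2, 3} : Finset (Fin 8)).map σ.toEmbedding ∈ C) ∧
    (({1, 2, 5, 6} : Finset (Fin 8)).map σ.toEmbedding ∈ C) ∧
    (({1, 3, 4, 6} : Finset (Fin 8)).map σ.toEmbedding ∈ C) ∧
    (({1, 3, 5, 7} : Finset (Fin 8)).map σ.toEmbedding ∈ C) := by
  obtain ⟨x0, x1, x2, h01, h02, h12⟩ := Fintype.two_lt_card_iff.1 (by rw [hι]; omega : 2 < Fintype.card ι)
  obtain ⟨B0, hB0, x3, h30, h31, h32, e0⟩ := exists_fourth hι h4 hN he h01 h02 h12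
  obtain ⟨x5, hx5⟩ : ∃ x5, x5 ∉ B0 := by
    by_contra hcon
    push Not at hcon
    have h1 : (Finset.univ : Finset ι) ⊆ B0 := fun x _ => hcon x
    have h2 := Finset.card_le_card h1
    rw [Finset.card_univ, hι, h4 B0 hB0] at h2
    omega
  have hx5' : ∀ m, m ∈ B0 → m ≠ x5 := fun m hm h => hx5 (by rw [← h]; exact hm)
  have m0 : x0 ∈ B0 := (e0 _).2 (Or.inl rfl)
  have m1 : x1 ∈ B0 := (e0 _).2 (Or.inr (Or.inl rfl))
  have m2 : x2 ∈ B0 := (e0 _).2 (Or.inr (Or.inr (Or.inl rfl)))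
  have m3 : x3 ∈ B0 := (e0 _).2 (Or.inr (Or.inr (Or.inr rfl)))
  have h05 := hx5' _ m0
  have h15 := hx5' _ m1
  have h25 := hx5' _ m2
  have h35 := hx5' _ m3
  have key : ∀ {B B' : Finset ι}, B ∈ C → B' ∈ C → ∀ i j k, i ≠ j → i ≠ k → j ≠ k → i ∈ B → j ∈ B → k ∈ B →
      i ∈ B' → j ∈ B' → k ∈ B' → B = B' :=
    fun hB hB' i j k hij hik hjk a b c d e f => eq_of_three hι h4 he hB hB' hij hik hjk a b c d e f
  obtain ⟨B1, hB1, x6, h61, h62, h65, e1⟩ := exists_fourth hι h4 hN he h12 h15 h25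
  have b11 : x1 ∈ B1 := (e1 _).2 (Or.inl rfl)
  have b12 : x2 ∈ B1 := (e1 _).2 (Or.inr (Or.inl rfl))
  have b15 : x5 ∈ B1 := (e1 _).2 (Or.inr (Or.inr (Or.inl rfl)))
  have b16 : x6 ∈ B1 := (e1 _).2 (Or.inr (Or.inr (Or.inr rfl)))
  have h6B : x6 ∉ B0 := by
    intro h
    have := key hB0 hB1 x1 x2 x6 h12 h61.symm h62.symm m1 m2 h b11 b12 b16
    exact hx5 (this ▸ b15)
  have h6' : ∀ m, m ∈ B0 → m ≠ x6 := fun m hm h => h6B (by rw [← h]; exact hm)
  have h06 := h6' _ m0
  have h36 := h6' _ m3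
  have h3B1 : x3 ∉ B1 := by
    intro h
    rcases (e1 _).1 h with h | h | h | h
    · exact h31 h
    · exact h32 h
    · exact h35 h
    · exact h36 h
  obtain ⟨B2, hB2, x4, h41, h43, h46, e2⟩ := exists_fourth hι h4 hN he h31.symm h61.symm h36
  have b21 : x1 ∈ B2 := (e2 _).2 (Or.inl rfl)
  have b23 : x3 ∈ B2 := (e2 _).2 (Or.inr (Or.inl rfl))
  have b26 : x6 ∈ B2 := (e2 _).2 (Or.inr (Or.inr (Or.inl rfl)))
  have b24 : x4 ∈ B2 := (e2 _).2 (Or.inr (Or.inr (Or.inr rfl)))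
  have h4B : x4 ∉ B0 := by
    intro h
    have := key hB0 hB2 x1 x3 x4 h31.symm h41.symm h43.symm m1 m3 h b21 b23 b24
    exact h6B (this ▸ b26)
  have h4' : ∀ m, m ∈ B0 → m ≠ x4 := fun m hm h => h4B (by rw [← h]; exact hm)
  have h04 := h4' _ m0
  have h24 := h4' _ m2
  have h45 : x4 ≠ x5 := by
    intro h
    have := key hB1 hB2 x1 x5 x6 h15 h61.symm h65.symm b11 b15 b16 b21 (h ▸ b24) b26
    exact h3B1 (this ▸ b23)
  obtain ⟨B3, hB3, x7, h71, h73, h75, e3⟩ := exists_fourth hι h4 hN he h31.symm h15 h35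
  have b31 : x1 ∈ B3 := (e3 _).2 (Or.inl rfl)
  have b33 : x3 ∈ B3 := (e3 _).2 (Or.inr (Or.inl rfl))
  have b35 : x5 ∈ B3 := (e3 _).2 (Or.inr (Or.inr (Or.inl rfl)))
  have b37 : x7 ∈ B3 := (e3 _).2 (Or.inr (Or.inr (Or.inr rfl)))
  have h7B : x7 ∉ B0 := by
    intro h
    have := key hB0 hB3 x1 x3 x7 h31.symm h71.symm h73.symm m1 m3 h b31 b33 b37
    exact hx5 (this ▸ b35)
  have h7' : ∀ m, m ∈ B0 → m ≠ x7 := fun m hm h => h7B (by rw [← h]; exact hm)
  have h07 := h7' _ m0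
  have h27 := h7' _ m2
  have h5B2 : x5 ∉ B2 := by
    intro h
    rcases (e2 _).1 h with h | h | h | h
    · exact h15 h.symm
    · exact h35 h.symm
    · exact h65 h.symm
    · exact h45 h.symm
  have h67 : x6 ≠ x7 := by
    intro h
    have := key hB2 hB3 x1 x3 x6 h31.symm h61.symm h36 b21 b23 b26 b31 b33 (h ▸ b37)
    exact h5B2 (this ▸ b35)
  have h47 : x4 ≠ x7 := by
    intro h
    have := key hB2 hB3 x1 x3 x4 h31.symm h41.symm h43.symm b21 b23 b24 b31 b33 (h ▸ b37)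
    exact h5B2 (this ▸ b35)
  have hf : Function.Injective (![x0, x1, x2, x3, x4, x5, x6, x7] : Fin 8 → ι) := by
    intro i j hij
    fin_cases i <;> fin_cases j <;> first
      | rfl
      | (exfalso; revert hij; simp only [Fin.zero_eta, Fin.mk_one, Fin.reduceFinMk, Matrix.cons_val]
         first
           | assumption
           | (apply Ne.symm; assumption))
  obtain ⟨σ, hσ⟩ := exists_equiv hι _ hf
  have s0 : σ 0 = x0 := hσ 0
  have s1 : σ 1 = x1 := hσ 1
  have s2 : σ 2 = x2 := hσ 2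
  have s3 : σ 3 = x3 := hσ 3
  have s4 : σ 4 = x4 := hσ 4
  have s5 : σ 5 = x5 := hσ 5
  have s6 : σ 6 = x6 := hσ 6
  have s7 : σ 7 = x7 := hσ 7
  have e : ∀ (B : Finset ι) (a b c d : Fin 8), (∀ x, x ∈ B ↔ (x = σ a ∨ x = σ b ∨ x = σ c ∨ x = σ d)) →
      ({a, b, c, d} : Finset (Fin 8)).map σ.toEmbedding = B := by
    intro B a b c d h1
    ext x
    rw [h1]
    simp only [Finset.mem_map, Finset.mem_insert, Finset.mem_singleton, Equiv.coe_toEmbedding]
    constructor
    · rintro ⟨i, hi, rfl⟩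
      rcases hi with rfl | rfl | rfl | rfl <;> simp
    · rintro (rfl | rfl | rfl | rfl)
      · exact ⟨a, by simp, rfl⟩
      · exact ⟨b, by simp, rfl⟩
      · exact ⟨c, by simp, rfl⟩
      · exact ⟨d, by simp, rfl⟩
  refine ⟨σ, ?_, ?_, ?_, ?_⟩
  · rw [e B0 0 1 2 3 (by rw [s0, s1, s2, s3]; exact e0)]
    exact hB0
  · rw [e B1 1 2 5 6 (by rw [s1, s2, s5, s6]; exact e1)]
    exact hB1
  · rw [e B2 1 3 4 6 (by
      rw [s1, s3, s4, s6]
      intro x
      rw [e2]
      tauto)]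
    exact hB2
  · rw [e B3 1 3 5 7 (by rw [s1, s3, s5, s7]; exact e3)]
    exact hB3

end Eight

end Cfsg.Agent.Cit.SpanComb
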