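import Mathlib
import Cfsg.Agent.Nodes.SpanFrame
import Cfsg.Agent.Cit.TypeESix
import Cfsg.Agent.Nodes.ChartOfCls

/-!
The frame method for spanning frames (project CIT, types `E₇`, `E₈`): facts inside one chart, expressed in `G`.

* `Frame.XX_le` : (P2), the sign groups with `e l = 0` lie in `Δ_l`;
* `len_of_irr` : irreducible simply laced root systems have one root length;
* `YV Q c` : the sign group of the signs of `c : ι → ℤ`;
* `CC Q` : the quadruples `B` with a nontrivial sign group; `Vec` : the coordinate vectors;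
* `Loc` : the facts at `l`; `loc_of_chart` : they hold for a chart `FrChart` with a spanning frame.
-/

set_option autoImplicit false
set_option linter.unusedSectionVars false

namespace Cfsg.Agent.Cit.SpanSys

open CoxeterSystem Cfsg.Agent.ChevalleyStructure.CoxeterGeom Cfsg.Agent.Tits.Roots Cfsg.Agent.Tits.Core
  Cfsg.Agent.Nodes.Reps Cfsg.Agent.Nodes.BNOf Cfsg.Agent.Nodes.Coroot Cfsg.Agent.Nodes.PairOf
  Cfsg.Agent.Nodes.SimplyLaced Cfsg.Agent.Cit.FrameSign Cfsg.Agent.Cit.NodeGlue Cfsg.Agent.RootAmalgam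
  Cfsg.Agent.Cit.TypeESix Cfsg.Agent.Nodes.SpanFrame Cfsg.Agent.Nodes.Chart Cfsg.Agent.Nodes.ChartOfCls

universe u

variable {G : Type u} [Group G] {ι : Type*}

/-- **(P2)**: the sign groups centralising `K l` lie in every subgroup `L` normalised by `C(K l)` and containing
`z i`, `X i (e i)`. -/
theorem XX_le [Finite G] {K : ι → Subgroup G} {z : ι → G} {X Q : ι → SignType → Subgroup G} (F : Frame K z X Q)
    {L : Subgroup G} {l i : ι} {e : ι → SignType} (hl : e l = 0) (hi : e i ≠ 0)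
    (hN : Subgroup.centralizer (K l : Set G) ≤ Subgroup.normalizer (L : Set G)) (hz : z i ∈ L)
    (hX : X i (e i) ≤ L) : XX Q e ≤ L := by
  intro a ha
  have haN : a ∈ Subgroup.normalizer (L : Set G) := by
    apply hN
    have h1 := (mem_XX.1 ha) l
    rwa [hl, F.Q_zero] at h1
  have hzz := F.z_sq i
  -- `u = a φ(a)⁻¹`
  set u : G := a * z i * a⁻¹ * z i with hu
  have huL : u ∈ L := mul_mem ((Subgroup.mem_normalizer_iff.1 haN _).1 hz) hz
  have huX : u ∈ XX Q e := by
    have h1 := F.z_conj_mem i (inv_mem ha)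
    have h2 : u = a * (z i * a⁻¹ * z i) := by rw [hu]; group
    rw [h2]
    exact mul_mem ha h1
  have hodd := F.odd_order hi ((mem_XX.1 huX) i)
  obtain ⟨k, hk⟩ := hodd
  have hφu : z i * u * z i = u⁻¹ := by
    have h1 : z i * u * z i = z i * a * z i * a⁻¹ * (z i * z i) := by rw [hu]; group
    have h2 : u⁻¹ = z i * a * z i * a⁻¹ := by
      rw [hu]; simp only [mul_inv_rev, inv_inv, F.z_inv]; group
    rw [h1, h2, hzz, mul_one]
  set v : G := u ^ (k + 1) with hv
  have hvv : v * v = u := by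
    have : u ^ (2 * k + 1) = 1 := by rw [← hk]; exact pow_orderOf_eq_one u
    calc v * v = u ^ (2 * k + 1) * u := by rw [hv, ← pow_add, ← pow_succ]; congr 1; ring
      _ = u := by rw [this, one_mul]
  have hφv : z i * v * z i = v⁻¹ := by
    have key : ∀ m : ℕ, z i * u ^ m * z i = (u⁻¹) ^ m := by
      intro m
      induction m with
      | zero => rw [pow_zero, pow_zero, mul_one, hzz]
      | succ m ih =>
        have h1 : z i * u ^ (m + 1) * z i = (z i * u ^ m * z i) * (z i * u * z i) := by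
          calc z i * u ^ (m + 1) * z i = z i * u ^ m * 1 * u * z i := by rw [pow_succ]; group
            _ = z i * u ^ m * (z i * z i) * u * z i := by rw [hzz]
            _ = _ := by group
        rw [h1, ih, hφu, ← pow_succ]
    rw [hv, key, inv_pow]
  have hvL : v ∈ L := pow_mem huL _
  have hvX : v ∈ XX Q e := pow_mem huX _
  have hcX : v⁻¹ * a ∈ XX Q e := mul_mem (inv_mem hvX) ha
  have hc : z i * (v⁻¹ * a) = (v⁻¹ * a) * z i := by
    have h1 : z i * v⁻¹ * z i = v := by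
      have h2 := congrArg (·⁻¹) hφv
      simp only [mul_inv_rev, inv_inv, F.z_inv] at h2
      rw [← mul_assoc] at h2
      exact h2
    have h2 : z i * a * z i = u⁻¹ * a := by
      rw [hu]; simp only [mul_inv_rev, inv_inv, F.z_inv]; group
    have h3 : z i * (v⁻¹ * a) * z i = v⁻¹ * a := by
      calc z i * (v⁻¹ * a) * z i = z i * v⁻¹ * 1 * a * z i := by group
        _ = z i * v⁻¹ * (z i * z i) * a * z i := by rw [hzz]
        _ = (z i * v⁻¹ * z i) * (z i * a * z i) := by group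
        _ = v * (u⁻¹ * a) := by rw [h1, h2]
        _ = v * ((v * v)⁻¹ * a) := by rw [hvv]
        _ = v⁻¹ * a := by group
    calc z i * (v⁻¹ * a) = z i * (v⁻¹ * a) * (z i * z i) := by rw [hzz, mul_one]
      _ = (z i * (v⁻¹ * a) * z i) * z i := by group
      _ = _ := by rw [h3]
  have h5 : v⁻¹ * a ∈ L := hX (F.Q_fix i _ hi _ ((mem_XX.1 hcX) i) hc)
  have h6 : a = v * (v⁻¹ * a) := by group
  rw [h6]
  exact mul_mem hvL h5

section Len

variable {I W : Type*} [Fintype I] [DecidableEq I] [Group W] [Fintype W] {M : CoxeterMatrix I}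
  (cs : CoxeterSystem M W) {A : I → I → ℤ} (h : IsCartan M A)

/-- One root length. -/
theorem len_of_irr (h4 : ∀ i j, M i j ≠ 4) (h6 : ∀ i j, M i j ≠ 6)
    (irr : ∀ J : Set I, J.Nonempty → J ≠ Set.univ → ∃ a ∈ J, ∃ b, b ∉ J ∧ M a b ≠ 2) (x y : I → ℤ)
    (hx : IsRoot cs h x) (hy : IsRoot cs h y) : form cs h x x = form cs h y y := by
  obtain ⟨w, i, rfl⟩ := hx
  obtain ⟨w', j, rfl⟩ := hy
  rw [form_rep, form_rep]
  by_contra hne
  obtain ⟨a, ha, b, hb, hab⟩ := irr {k | form cs h (sr i) (sr i) = form cs h (sr k) (sr k)} ⟨i, rfl⟩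
    (fun h1 => hne (by
      have : j ∈ (Set.univ : Set I) := Set.mem_univ j
      rw [← h1] at this
      exact this))
  apply hb
  have hab' : a ≠ b := by rintro rfl; exact hb ha
  refine Eq.trans (show form cs h (sr i) (sr i) = form cs h (sr a) (sr a) from ha) ?_
  refine form_self_eq cs h h4 h6 (isRoot_sr cs h a) (isRoot_sr cs h b) ?_
  rw [cpr_sr, Cfsg.Agent.Nodes.ZFam.pairing_sr']
  intro h0
  rcases h.rel b a hab'.symm with ⟨h1, h2, h3⟩ | ⟨h1, h2, h3⟩ | ⟨h1, ⟨h2, h3⟩ | ⟨h2, h3⟩⟩ | ⟨h1, ⟨h2, h3⟩ | ⟨h2, h3⟩⟩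
  · rw [M.symmetric] at h1; exact hab h1
  all_goals rw [h0] at h2; omega

end Len

/-! ### Facts inside one chart -/

section Loc

variable [Fintype ι] [DecidableEq ι]

/-- The sign group of the signs of `v`. -/
noncomputable def YV (Q : ι → SignType → Subgroup G) (v : ι → ℤ) : Subgroup G := XX Q fun i => SignType.sign (v i)

/-- The quadruples with a nontrivial sign group. -/
noncomputable def CC (Q : ι → SignType → Subgroup G) : Finset (Finset ι) := by
  classical
  exact Finset.univ.filter fun B => B.card = 4 ∧ XX Q (fun i => if i ∈ B then 1 else 0) ≠ ⊥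

theorem mem_CC {Q : ι → SignType → Subgroup G} {B : Finset ι} :
    B ∈ CC Q ↔ B.card = 4 ∧ XX Q (fun i => if i ∈ B then 1 else 0) ≠ ⊥ := by
  classical
  unfold CC
  rw [Finset.mem_filter]
  exact ⟨fun h => h.2, fun h => ⟨Finset.mem_univ _, h⟩⟩

/-- The coordinate vectors of the roots. -/
def Vec (C : Finset (Finset ι)) (v : ι → ℤ) : Prop :=
  (∃ i, (v i = 2 ∨ v i = -2) ∧ ∀ j, j ≠ i → v j = 0) ∨
  ∃ B ∈ C, (∀ i, i ∈ B → v i = 1 ∨ v i = -1) ∧ ∀ i, i ∉ B → v i = 0

theorem Vec.neg {C : Finset (Finset ι)} {v : ι → ℤ} (h : Vec C v) : Vec C (-v) := by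
  rcases h with ⟨i, h1, h2⟩ | ⟨B, hB, h1, h2⟩
  · left
    refine ⟨i, ?_, fun j hj => by rw [Pi.neg_apply, h2 j hj, neg_zero]⟩
    rw [Pi.neg_apply]
    omega
  · right
    refine ⟨B, hB, fun i hi => ?_, fun i hi => by rw [Pi.neg_apply, h2 i hi, neg_zero]⟩
    rw [Pi.neg_apply]
    have := h1 i hi
    omega

/-- The facts at `l`, read off from a chart of `L`. -/
structure Loc (Om : Set (Subgroup G)) (p : ℕ) (Y : (ι → ℤ) → Subgroup G) (X : ι → SignType → Subgroup G)
    (C : Finset (Finset ι)) (L : Subgroup G) (N : ℕ) (l : ι) : Prop where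
  num : (C.filter fun B => l ∉ B).card = N
  even : ∀ B ∈ C, ∀ B' ∈ C, l ∉ B → l ∉ B' → Even (B ∩ B').card
  node : ∀ v, Vec C v → v l = 0 → ∃ (c : Chart Om p L) (b : c.I → ℤ), At c (Y v) (Y (-v)) True b
  plane : ∀ v v', Vec C v → Vec C v' → v l = 0 → v' l = 0 → ∑ i, v i * v' i = -2 →
    ∃ (c : Chart Om p L) (b b' : c.I → ℤ), At c (Y v) (Y (-v)) True b ∧ At c (Y v') (Y (-v')) True b' ∧
      cpr c.cs c.h b' b = -1 ∧ cpr c.cs c.h b b' = -1 ∧ ∀ i j, c.M i j ≠ 6
  comm : ∀ v v', Vec C v → Vec C v' → v l = 0 → v' l = 0 → ∑ i, v i * v' i = 0 →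
    ∀ a ∈ Y v ⊔ Y (-v), ∀ b ∈ Y v' ⊔ Y (-v'), a * b = b * a
  refl : ∀ v v' d : ι → ℤ, Vec C v → Vec C v' → v l = 0 → v' l = 0 →
    (∀ i, 2 * d i = 2 * v i - (∑ j, v j * v' j) * v' i) → Vec C d ∧ Y d ≤ Y v ⊔ (Y v' ⊔ Y (-v'))
  gen : L ≤ ⨆ v : {v : ι → ℤ // Vec C v ∧ v l = 0}, Y v
  pos : ∀ i, i ≠ l → Y (Pi.single i 2) = X i 1
  neg : ∀ i, i ≠ l → Y (Pi.single i (-2)) = X i (-1)

variable {K : ι → Subgroup G} {z : ι → G} {X Q : ι → SignType → Subgroup G} {Om : Set (Subgroup G)} {p : ℕ}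
  {L : Subgroup G} {c : Chart Om p L} {ell : ι → (c.I → ℤ) →+ ℤ} {g : ι → c.I → ℤ} {l : ι}

/-- A chart of `L = Δ_l` with a spanning frame, all roots classical. -/
structure SpanChart (K : ι → Subgroup G) (X Q : ι → SignType → Subgroup G) (l : ι) (c : Chart Om p L)
    (ell : ι → (c.I → ℤ) →+ ℤ) (g : ι → c.I → ℤ) : Prop where
  fr : FrChart K X Q {i | i ≠ l} L c.cs c.h p c.T c.n c.X ell g
  card : Fintype.card c.I + 1 = Fintype.card ι
  h4 : ∀ i j, c.M i j ≠ 4
  h6 : ∀ i j, c.M i j ≠ 6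
  all : ∀ x, IsRoot c.cs c.h x → x ∈ c.R
  ZX : ∀ r ∈ c.R, c.Z r = c.X r

namespace SpanChart

variable (S : SpanChart K X Q l c ell g)

include S

theorem span : Span c.cs c.h l g where
  root i hi := S.fr.root i hi
  orth i j hi hj hij := (cpr_zero_iff c.cs c.h _ (S.fr.root j hj)).1 (S.fr.gorth i hi j hj hij)
  card := S.card
  len := len_of_irr c.cs c.h S.h4 S.h6 c.irr

theorem sign_eq {x : c.I → ℤ} (hx : IsRoot c.cs c.h x) {i : ι} (hi : i ≠ l) :
    SignType.sign (ell i x) = SignType.sign (cv c.cs c.h l g x i) := by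
  rw [cv_ne _ hi]
  exact S.fr.sgn i hi x hx

/-- roots with the same signs are equal -/
theorem eq_of_sign {x y : c.I → ℤ} (hx : IsRoot c.cs c.h x) (hy : IsRoot c.cs c.h y)
    (hs : ∀ i, SignType.sign (cv c.cs c.h l g x i) = SignType.sign (cv c.cs c.h l g y i)) : x = y := by
  have h0 : ∀ i, cv c.cs c.h l g x i = 0 ↔ cv c.cs c.h l g y i = 0 := fun i => by
    rw [← sign_eq_zero_iff, ← sign_eq_zero_iff (a := cv c.cs c.h l g y i), hs i]
  have hp : ∀ i, 0 < cv c.cs c.h l g x i ↔ 0 < cv c.cs c.h l g y i := fun i => by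
    rw [← sign_eq_one_iff, ← sign_eq_one_iff (a := cv c.cs c.h l g y i), hs i]
  have key : ∀ {u v : c.I → ℤ}, IsRoot c.cs c.h u → IsRoot c.cs c.h v →
      (∀ i, cv c.cs c.h l g u i = 0 ↔ cv c.cs c.h l g v i = 0) →
      (∀ i, 0 < cv c.cs c.h l g u i ↔ 0 < cv c.cs c.h l g v i) →
      ∀ i, i ≠ l → (u = g i ∨ u = -g i) → v = u := by
    intro u v hu hv h0 hp i hi hui
    have h1 : ∀ j, j ≠ i → cv c.cs c.h l g v j = 0 := by
      intro j hj
      rw [← h0 j]
      rcases hui with rfl | rfl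
      · rw [S.span.cv_g hi, if_neg hj]
      · rw [S.span.cv_neg, S.span.cv_g hi, if_neg hj, neg_zero]
    rcases S.span.cv_cases hv with ⟨k, hk, h2⟩ | ⟨-, h2⟩
    · have hki : k = i := by
        by_contra hne
        have h3 := h1 k hne
        rcases h2 with rfl | rfl
        · rw [S.span.cv_g hk, if_pos rfl] at h3; omega
        · rw [S.span.cv_neg, S.span.cv_g hk, if_pos rfl] at h3; omega
      subst hki
      have h3 := hp k
      rcases hui with rfl | rfl <;> rcases h2 with rfl | rfl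
      · rfl
      · rw [S.span.cv_neg, S.span.cv_g hk, if_pos rfl] at h3; omega
      · rw [S.span.cv_neg, S.span.cv_g hk, if_pos rfl] at h3; omega
      · rfl
    · have h3 : (Finset.univ.filter fun i => cv c.cs c.h l g v i ≠ 0) ⊆ {i} := by
        intro j hj
        rw [Finset.mem_singleton]
        by_contra hne
        exact (Finset.mem_filter.1 hj).2 (h1 j hne)
      have h4 := Finset.card_le_card h3
      rw [h2, Finset.card_singleton] at h4
      omega
  rcases S.span.cv_cases hx with ⟨i, hi, h1⟩ | ⟨h1, -⟩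
  · exact (key hx hy h0 hp i hi h1).symm
  rcases S.span.cv_cases hy with ⟨i, hi, h2⟩ | ⟨h2, -⟩
  · exact key hy hx (fun i => (h0 i).symm) (fun i => (hp i).symm) i hi h2
  refine S.span.cv_injective fun i => ?_
  have h3 := h0 i
  have h4 := hp i
  rcases h1 i with e1 | e1 | e1 <;> rcases h2 i with e2 | e2 | e2 <;> rw [e1, e2] at h3 h4 ⊢ <;> omega

variable [Finite G] (F : Frame K z X Q)
  (hN : Subgroup.centralizer (K l : Set G) ≤ Subgroup.normalizer (L : Set G))

include F hN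

theorem XX_le' {e : ι → SignType} (hl : e l = 0) (h0 : e ≠ 0) : XX Q e ≤ L := by
  obtain ⟨i, hi⟩ : ∃ i, e i ≠ 0 := by
    by_contra hcon
    push Not at hcon
    exact h0 (funext hcon)
  have hil : i ≠ l := by rintro rfl; exact hi hl
  have hK : ∀ s : SignType, s ≠ 0 → X i s ≤ L := by
    intro s hs
    rcases s with _ | _ | _
    · exact absurd rfl hs
    · rw [show SignType.neg = (-1 : SignType) from rfl, ← S.fr.neg i hil]
      exact S.fr.X_le _ (S.fr.root i hil).neg
    · rw [show SignType.pos = (1 : SignType) from rfl, ← S.fr.pos i hil]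
      exact S.fr.X_le _ (S.fr.root i hil)
  refine XX_le F hl hi hN ?_ (hK _ hi)
  have h1 : K i ≤ L := by
    rw [F.K_eq i]
    exact sup_le (hK 1 (by decide)) (hK (-1) (by decide))
  exact h1 (F.z_mem i)

theorem exists_sign_ne {x : c.I → ℤ} (hx : IsRoot c.cs c.h x) : ∃ i, i ≠ l ∧ cv c.cs c.h l g x i ≠ 0 := by
  by_contra hcon
  push Not at hcon
  have h1 := S.span.sum_sq hx
  have h2 : ∑ i, cv c.cs c.h l g x i * cv c.cs c.h l g x i = 0 := by
    refine Finset.sum_eq_zero fun i _ => ?_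
    by_cases hi : i = l
    · rw [hi, cv_self, zero_mul]
    · rw [hcon i hi, zero_mul]
  rw [h2] at h1
  omega

/-- The sign group of a root is the root group. -/
theorem XX_root {e : ι → SignType} {x : c.I → ℤ} (hx : IsRoot c.cs c.h x)
    (he : ∀ i, e i = SignType.sign (cv c.cs c.h l g x i)) : XX Q e = c.X x := by
  obtain ⟨i, hi, h1⟩ := S.exists_sign_ne F hN hx
  have hl : e l = 0 := by rw [he l, cv_self, sign_zero]
  have hei : e i ≠ 0 := by rw [he i]; exact sign_ne_zero.2 h1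
  refine S.fr.toChartOn.XX_eq_X F (fun j hj => ?_) (S.XX_le' F hN hl fun h0 => hei (congrFun h0 i)) hi hei hx
    (fun j hj => ?_) (fun y hy hye => ?_)
  · have : j = l := by by_contra hne; exact hj hne
    rw [this, hl]
  · rw [he j]; exact S.sign_eq hx hj
  · refine S.eq_of_sign hy hx fun j => ?_
    by_cases hj : j = l
    · rw [hj, cv_self, cv_self]
    · rw [← S.sign_eq hy hj, hye j hj, he j]

theorem YV_eq {v : ι → ℤ} {x : c.I → ℤ} (hx : IsRoot c.cs c.h x) (hv : ∀ i, cv c.cs c.h l g x i = v i) :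
    YV Q v = c.X x :=
  S.XX_root F hN hx fun i => by rw [hv i]

theorem YV_neg_eq {v : ι → ℤ} {x : c.I → ℤ} (hx : IsRoot c.cs c.h x) (hv : ∀ i, cv c.cs c.h l g x i = v i) :
    YV Q (-v) = c.X (-x) :=
  S.YV_eq F hN hx.neg fun i => by rw [S.span.cv_neg, hv i, Pi.neg_apply]

/-- The supports in the chart are the quadruples missing `l`. -/
theorem mem_Supp_iff {B : Finset ι} : B ∈ Supp c.cs c.h l g ↔ B ∈ CC Q ∧ l ∉ B := by
  constructor
  · intro hB
    refine ⟨mem_CC.2 ⟨(mem_Supp.1 hB).1, ?_⟩, not_mem_of_mem_Supp hB⟩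
    obtain ⟨x, hx, hxB⟩ := S.span.exists_of_mem_Supp hB (e := fun i => if i ∈ B then 1 else 0)
      (fun i hi => Or.inl (if_pos hi)) (fun i hi => if_neg hi)
    rw [S.XX_root F hN hx (e := fun i => if i ∈ B then 1 else 0) (fun i => by
      rw [hxB i]
      by_cases hi : i ∈ B
      · simp only [if_pos hi]; rfl
      · simp only [if_neg hi]; rfl)]
    exact Nodes.Bruhat.X_ne_bot c.cls.rgd hx
  · rintro ⟨hB, hl⟩
    obtain ⟨hc, hne⟩ := mem_CC.1 hB
    by_contra hcon
    apply hne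
    obtain ⟨i, hi⟩ : B.Nonempty := by
      rw [← Finset.card_pos, hc]; omega
    have hil : i ≠ l := by rintro rfl; exact hl hi
    have he : (fun i => if i ∈ B then (1 : SignType) else 0) i ≠ 0 := by
      simp only [if_pos hi]; decide
    refine S.fr.toChartOn.XX_eq_bot F (fun j hj => ?_)
      (S.XX_le' F hN (if_neg hl) fun h0 => he (congrFun h0 i)) hil he (fun y hy hye => hcon ?_)
    · have : j = l := by by_contra hne; exact hj hne
      rw [this]; exact if_neg hl
    · refine mem_Supp.2 ⟨hc, y, hy, fun j => ?_⟩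
      by_cases hj : j = l
      · rw [hj, cv_self]
        exact ⟨fun h => absurd h hl, fun h => absurd rfl h⟩
      · have h1 := hye j hj
        rw [S.sign_eq hy hj] at h1
        rw [← sign_ne_zero, h1]
        by_cases hjB : j ∈ B
        · simp only [if_pos hjB]
          exact ⟨fun _ => by decide, fun _ => hjB⟩
        · simp only [if_neg hjB]
          exact ⟨fun h => absurd h hjB, fun h => absurd rfl h⟩

/-- The coordinate vectors are those of the roots of the chart. -/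
theorem vec_iff {v : ι → ℤ} : (Vec (CC Q) v ∧ v l = 0) ↔
    ∃ x, IsRoot c.cs c.h x ∧ ∀ i, cv c.cs c.h l g x i = v i := by
  constructor
  · rintro ⟨⟨i, h1, h2⟩ | ⟨B, hB, h1, h2⟩, hl⟩
    · have hil : i ≠ l := by rintro rfl; omega
      rcases h1 with h1 | h1
      · refine ⟨g i, S.fr.root i hil, fun j => ?_⟩
        rw [S.span.cv_g hil]
        by_cases hj : j = i
        · rw [if_pos hj, hj, h1]
        · rw [if_neg hj, h2 j hj]
      · refine ⟨-g i, (S.fr.root i hil).neg, fun j => ?_⟩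
        rw [S.span.cv_neg, S.span.cv_g hil]
        by_cases hj : j = i
        · rw [if_pos hj, hj, h1]
        · rw [if_neg hj, h2 j hj, neg_zero]
    · have hlB : l ∉ B := fun h => by have := h1 l h; omega
      exact S.span.exists_of_mem_Supp ((S.mem_Supp_iff F hN).2 ⟨hB, hlB⟩) h1 h2
  · rintro ⟨x, hx, hv⟩
    refine ⟨?_, by rw [← hv l, cv_self]⟩
    rcases S.span.cv_cases hx with ⟨i, hi, h1⟩ | ⟨h1, h2⟩
    · left
      refine ⟨i, ?_, fun j hj => ?_⟩
      · rw [← hv i]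
        rcases h1 with rfl | rfl
        · rw [S.span.cv_g hi, if_pos rfl]; exact Or.inl rfl
        · rw [S.span.cv_neg, S.span.cv_g hi, if_pos rfl]; exact Or.inr rfl
      · rw [← hv j]
        rcases h1 with rfl | rfl
        · rw [S.span.cv_g hi, if_neg hj]
        · rw [S.span.cv_neg, S.span.cv_g hi, if_neg hj, neg_zero]
    · right
      have h3 : (Finset.univ.filter fun i => cv c.cs c.h l g x i ≠ 0) ∈ Supp c.cs c.h l g :=
        mem_Supp.2 ⟨h2, x, hx, fun i => by simp⟩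
      refine ⟨_, ((S.mem_Supp_iff F hN).1 h3).1, fun i hi => ?_, fun i hi => ?_⟩
      · rw [← hv i]
        exact (h1 i).resolve_left (Finset.mem_filter.1 hi).2
      · rw [← hv i]
        by_contra h4
        exact hi (Finset.mem_filter.2 ⟨Finset.mem_univ i, h4⟩)

theorem at_ {v : ι → ℤ} {x : c.I → ℤ} (hx : IsRoot c.cs c.h x) (hv : ∀ i, cv c.cs c.h l g x i = v i) :
    At c (YV Q v) (YV Q (-v)) True x where
  root := hx
  pos := S.YV_eq F hN hx hv
  neg := S.YV_neg_eq F hN hx hv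
  long _ := ⟨S.all x hx, S.ZX x (S.all x hx)⟩

/-- **The facts at `l`.** -/
theorem loc {N : ℕ} (hcount : Set.ncard {x | IsRoot c.cs c.h x} = 2 * (Fintype.card ι - 1) + 16 * N) :
    Loc Om p (YV Q) X (CC Q) L N l where
  num := by
    have h1 := S.span.card_supports
    rw [hcount] at h1
    have h2 : (CC Q).filter (fun B => l ∉ B) = Supp c.cs c.h l g := by
      ext B
      rw [Finset.mem_filter]
      exact (S.mem_Supp_iff F hN).symm
    rw [h2]
    omega
  even B hB B' hB' h1 h2 :=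
    S.span.even_inter ((S.mem_Supp_iff F hN).2 ⟨hB, h1⟩) ((S.mem_Supp_iff F hN).2 ⟨hB', h2⟩)
  node v hv hl := by
    obtain ⟨x, hx, h1⟩ := (S.vec_iff F hN).1 ⟨hv, hl⟩
    exact ⟨c, x, S.at_ F hN hx h1⟩
  plane v v' hv hv' hl hl' hs := by
    obtain ⟨x, hx, h1⟩ := (S.vec_iff F hN).1 ⟨hv, hl⟩
    obtain ⟨y, hy, h2⟩ := (S.vec_iff F hN).1 ⟨hv', hl'⟩
    refine ⟨c, x, y, S.at_ F hN hx h1, S.at_ F hN hy h2, ?_, ?_, S.h6⟩
    · have h3 := S.span.two_cpr y hx
      have h4 : ∑ i, cv c.cs c.h l g y i * cv c.cs c.h l g x i = ∑ i, v i * v' i :=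
        Finset.sum_congr rfl fun i _ => by rw [h1 i, h2 i, mul_comm]
      rw [h4, hs] at h3
      omega
    · have h3 := S.span.two_cpr x hy
      have h4 : ∑ i, cv c.cs c.h l g x i * cv c.cs c.h l g y i = ∑ i, v i * v' i :=
        Finset.sum_congr rfl fun i _ => by rw [h1 i, h2 i]
      rw [h4, hs] at h3
      omega
  comm v v' hv hv' hl hl' hs := by
    obtain ⟨x, hx, h1⟩ := (S.vec_iff F hN).1 ⟨hv, hl⟩
    obtain ⟨y, hy, h2⟩ := (S.vec_iff F hN).1 ⟨hv', hl'⟩
    have h0 : cpr c.cs c.h x y = 0 := by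
      have h3 := S.span.two_cpr x hy
      have h4 : ∑ i, cv c.cs c.h l g x i * cv c.cs c.h l g y i = ∑ i, v i * v' i :=
        Finset.sum_congr rfl fun i _ => by rw [h1 i, h2 i]
      rw [h4, hs] at h3
      omega
    rw [S.YV_eq F hN hx h1, S.YV_neg_eq F hN hx h1, S.YV_eq F hN hy h2, S.YV_neg_eq F hN hy h2]
    have key : ∀ {u w : c.I → ℤ}, IsRoot c.cs c.h u → IsRoot c.cs c.h w → cpr c.cs c.h u w = 0 →
        ∀ a ∈ c.X u, ∀ b ∈ c.X w, a * b = b * a := by
      intro u w hu hw h0 a ha b hb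
      have h1 := comm_of_orth' c.cls.rgd S.h4 S.h6 hu hw ((cpr_zero_comm c.cs c.h hu hw).1 h0) a ha b hb
      exact commutatorElement_eq_one_iff_mul_comm.1 h1
    have e1 : cpr c.cs c.h (-x) y = 0 := by rw [cpr_neg c.cs c.h _ hy, h0, neg_zero]
    have e2 : cpr c.cs c.h x (-y) = 0 := by rw [cpr_neg_right c.cs c.h _ hy, h0, neg_zero]
    have e3 : cpr c.cs c.h (-x) (-y) = 0 := by rw [cpr_neg c.cs c.h _ hy.neg, e2, neg_zero]
    exact commute_sup (key hx hy h0) (key hx hy.neg e2) (key hx.neg hy e1) (key hx.neg hy.neg e3)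
  refl v v' d hv hv' hl hl' hd := by
    obtain ⟨x, hx, h1⟩ := (S.vec_iff F hN).1 ⟨hv, hl⟩
    obtain ⟨y, hy, h2⟩ := (S.vec_iff F hN).1 ⟨hv', hl'⟩
    have hs : 2 * cpr c.cs c.h x y = ∑ i, v i * v' i := by
      rw [S.span.two_cpr x hy]
      exact Finset.sum_congr rfl fun i _ => by rw [h1 i, h2 i]
    have hr := isRoot_refl c.cs c.h hx hy
    have hrv : ∀ i, cv c.cs c.h l g (x - cpr c.cs c.h x y • y) i = d i := by
      intro i
      have e1 : cv c.cs c.h l g (x - cpr c.cs c.h x y • y) i =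
          cv c.cs c.h l g x i - cpr c.cs c.h x y * cv c.cs c.h l g y i := by
        by_cases hi : i = l
        · rw [hi, cv_self, cv_self, cv_self]; ring
        · have hgi := S.fr.root i hi
          rw [cv_ne _ hi, cv_ne _ hi, cv_ne _ hi, sub_eq_add_neg, ← neg_smul, cpr_add c.cs c.h _ _ hgi,
            cpr_smul c.cs c.h _ _ hgi]
          ring
      rw [e1, h1 i, h2 i]
      have := hd i
      rw [← hs] at this
      linarith
    refine ⟨((S.vec_iff F hN).2 ⟨_, hr, hrv⟩).1, ?_⟩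
    rw [S.YV_eq F hN hr hrv, S.YV_eq F hN hx h1, S.YV_eq F hN hy h2, S.YV_neg_eq F hN hy h2]
    obtain ⟨a, ha, ha1⟩ : ∃ a ∈ c.X (-y), a ≠ 1 := by
      by_contra hcon
      push Not at hcon
      exact Nodes.Bruhat.X_ne_bot c.cls.rgd hy.neg ((Subgroup.eq_bot_iff_forall _).2 hcon)
    obtain ⟨u, hu, w, hw, h3⟩ := exists_mu c.cls.rgd hy ha ha1
    rw [← h3 x hx]
    set P : Subgroup G := c.X x ⊔ (c.X y ⊔ c.X (-y)) with hP
    have hyP : c.X y ≤ P := le_sup_left.trans le_sup_right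
    have hyP' : c.X (-y) ≤ P := le_sup_right.trans le_sup_right
    have hm : u * a * w ∈ P := mul_mem (mul_mem (hyP hu) (hyP' ha)) (hyP hw)
    intro b hb
    rw [Nodes.Reps.mem_cj] at hb
    have h5 : (u * a * w) * ((u * a * w)⁻¹ * b * (u * a * w)) * (u * a * w)⁻¹ ∈ P :=
      mul_mem (mul_mem hm ((le_sup_left : c.X x ≤ P) hb)) (inv_mem hm)
    have e : (u * a * w) * ((u * a * w)⁻¹ * b * (u * a * w)) * (u * a * w)⁻¹ = b := by group
    rwa [e] at h5
  gen := by
    have h1 : L ≤ Nodes.RGDLib.G1 c.cs c.h c.X := c.gen.ge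
    refine h1.trans (RGD.Sup_le fun x hx => ?_)
    have h2 := (S.vec_iff F hN).2 ⟨x, hx, fun i => rfl⟩
    rw [← S.YV_eq F hN (v := fun i => cv c.cs c.h l g x i) hx (fun i => rfl)]
    exact le_iSup (fun v : {v : ι → ℤ // Vec (CC Q) v ∧ v l = 0} => YV Q v.1)
      ⟨fun i => cv c.cs c.h l g x i, h2⟩
  pos i hi := by
    rw [← S.fr.pos i hi]
    refine S.YV_eq F hN (S.fr.root i hi) fun j => ?_
    rw [S.span.cv_g hi, Pi.single_apply]
  neg i hi := by
    rw [← S.fr.neg i hi]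
    refine S.YV_eq F hN (S.fr.root i hi).neg fun j => ?_
    rw [S.span.cv_neg, S.span.cv_g hi, Pi.single_apply]
    by_cases hj : j = i
    · rw [if_pos hj, if_pos hj]
    · rw [if_neg hj, if_neg hj, neg_zero]

end SpanChart

end Loc

end Cfsg.Agent.Cit.SpanSys
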