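import Mathlib
import Cfsg.Agent.Cit.SpanSys

/-!
Generation and relabelling for spanning frames (project CIT, types `E₇`, `E₈`).

* `Loc.reindex` : the facts at `l` after a relabelling of the frame;
* `Gd C Y H v` : `v` is a coordinate vector and `Y v`, `Y (-v)` lie in `H`; `Gd.step` (reflections), `Gd.signs`;
* `all_gd` : if the vectors `2 e_i` and one vector for each quadruple are good then all vectors are good.
-/

set_option autoImplicit false
set_option linter.unusedSectionVars false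

namespace Cfsg.Agent.Cit.SpanGen

open CoxeterSystem Cfsg.Agent.ChevalleyStructure.CoxeterGeom Cfsg.Agent.Tits.Roots Cfsg.Agent.Tits.Core
  Cfsg.Agent.Cit.FrameSign Cfsg.Agent.Cit.SpanSys Cfsg.Agent.Nodes.Chart Cfsg.Agent.Nodes.ChartOfCls

universe u

variable {G : Type u} [Group G] {ι κ : Type*} [Fintype ι] [DecidableEq ι] [Fintype κ] [DecidableEq κ]

/-! ### Relabelling -/

theorem vec_reindex (σ : κ ≃ ι) {C : Finset (Finset ι)} {v : κ → ℤ} :
    Vec (Finset.univ.filter fun B : Finset κ => B.map σ.toEmbedding ∈ C) v ↔ Vec C (v ∘ σ.symm) := by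
  constructor
  · rintro (⟨i, h1, h2⟩ | ⟨B, hB, h1, h2⟩)
    · left
      refine ⟨σ i, by simpa using h1, fun j hj => ?_⟩
      exact h2 _ fun h => hj (by rw [← h, Equiv.apply_symm_apply])
    · right
      refine ⟨B.map σ.toEmbedding, (Finset.mem_filter.1 hB).2, fun i hi => ?_, fun i hi => ?_⟩
      · obtain ⟨j, hj, rfl⟩ := Finset.mem_map.1 hi
        simpa using h1 j hj
      · refine h2 _ fun h => hi ?_
        exact Finset.mem_map.2 ⟨_, h, by simp⟩
  · rintro (⟨i, h1, h2⟩ | ⟨B, hB, h1, h2⟩)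
    · left
      refine ⟨σ.symm i, h1, fun j hj => ?_⟩
      have := h2 (σ j) fun h => hj (by rw [← h, Equiv.symm_apply_apply])
      simpa using this
    · right
      have hmap : (B.map σ.symm.toEmbedding).map σ.toEmbedding = B := by
        ext i
        simp [Finset.mem_map]
      refine ⟨B.map σ.symm.toEmbedding, Finset.mem_filter.2 ⟨Finset.mem_univ _, by rw [hmap]; exact hB⟩,
        fun i hi => ?_, fun i hi => ?_⟩
      · obtain ⟨j, hj, rfl⟩ := Finset.mem_map.1 hi
        exact h1 j hj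
      · have := h2 (σ i) fun h => hi (Finset.mem_map.2 ⟨_, h, by simp⟩)
        simpa using this

theorem sum_reindex (σ : κ ≃ ι) (v v' : κ → ℤ) :
    ∑ i, (v ∘ σ.symm) i * (v' ∘ σ.symm) i = ∑ i, v i * v' i :=
  Equiv.sum_comp σ.symm fun i => v i * v' i

/-- Relabelling of the frame. -/
theorem Loc.reindex (σ : κ ≃ ι) {Om : Set (Subgroup G)} {p : ℕ} {Y : (ι → ℤ) → Subgroup G}
    {X : ι → SignType → Subgroup G} {C : Finset (Finset ι)} {L : Subgroup G} {N : ℕ} {l : κ}
    (H : Loc Om p Y X C L N (σ l)) :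
    Loc Om p (fun v => Y (v ∘ σ.symm)) (fun i => X (σ i))
      (Finset.univ.filter fun B : Finset κ => B.map σ.toEmbedding ∈ C) L N l where
  num := by
    rw [← H.num]
    refine Finset.card_bij (fun B _ => B.map σ.toEmbedding) ?_ ?_ ?_
    · intro B hB
      obtain ⟨h1, h2⟩ := Finset.mem_filter.1 hB
      refine Finset.mem_filter.2 ⟨(Finset.mem_filter.1 h1).2, fun h3 => h2 ?_⟩
      obtain ⟨j, hj, hjl⟩ := Finset.mem_map.1 h3
      have : j = l := σ.injective hjl
      rwa [← this]
    · intro B _ B' _ h1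
      exact Finset.map_injective _ h1
    · intro B hB
      obtain ⟨h1, h2⟩ := Finset.mem_filter.1 hB
      have hmap : (B.map σ.symm.toEmbedding).map σ.toEmbedding = B := by
        ext i
        simp [Finset.mem_map]
      refine ⟨B.map σ.symm.toEmbedding, Finset.mem_filter.2 ⟨Finset.mem_filter.2 ⟨Finset.mem_univ _, by
        rw [hmap]; exact h1⟩, fun h3 => h2 ?_⟩, hmap⟩
      obtain ⟨j, hj, hjl⟩ := Finset.mem_map.1 h3
      have : j = σ l := by rw [← hjl]; simp
      rwa [← this]
  even B hB B' hB' h1 h2 := by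
    have e1 : ∀ {D : Finset κ}, l ∉ D → σ l ∉ D.map σ.toEmbedding := by
      intro D hD h3
      obtain ⟨j, hj, hjl⟩ := Finset.mem_map.1 h3
      have : j = l := σ.injective hjl
      exact hD (by rwa [← this])
    have := H.even _ (Finset.mem_filter.1 hB).2 _ (Finset.mem_filter.1 hB').2 (e1 h1) (e1 h2)
    rwa [← Finset.map_inter, Finset.card_map] at this
  node v hv hl := H.node _ ((vec_reindex σ).1 hv) (by simpa using hl)
  plane v v' hv hv' hl hl' hs := H.plane _ _ ((vec_reindex σ).1 hv) ((vec_reindex σ).1 hv') (by simpa using hl)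
    (by simpa using hl') (by rw [sum_reindex]; exact hs)
  comm v v' hv hv' hl hl' hs := H.comm _ _ ((vec_reindex σ).1 hv) ((vec_reindex σ).1 hv') (by simpa using hl)
    (by simpa using hl') (by rw [sum_reindex]; exact hs)
  refl v v' d hv hv' hl hl' hd := by
    have := H.refl (v ∘ σ.symm) (v' ∘ σ.symm) (d ∘ σ.symm) ((vec_reindex σ).1 hv) ((vec_reindex σ).1 hv')
      (by simpa using hl) (by simpa using hl') (fun i => by rw [sum_reindex]; exact hd (σ.symm i))
    exact ⟨(vec_reindex σ).2 this.1, this.2⟩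
  gen := by
    refine H.gen.trans (iSup_le ?_)
    rintro ⟨v, hv, hl⟩
    have e : (v ∘ σ) ∘ σ.symm = v := by
      funext i
      simp
    have h1 : Vec (Finset.univ.filter fun B : Finset κ => B.map σ.toEmbedding ∈ C) (v ∘ σ) := by
      rw [vec_reindex, e]; exact hv
    refine le_trans ?_ (le_iSup (fun v : {v : κ → ℤ // Vec (Finset.univ.filter fun B : Finset κ =>
      B.map σ.toEmbedding ∈ C) v ∧ v l = 0} => Y (v.1 ∘ σ.symm)) ⟨v ∘ σ, h1, hl⟩)
    change Y v ≤ Y ((v ∘ σ) ∘ σ.symm)
    rw [e]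
  pos i hi := by
    rw [← H.pos (σ i) fun h => hi (σ.injective h)]
    congr 1
    funext j
    simp only [Function.comp_apply, Pi.single_apply]
    by_cases hj : σ.symm j = i
    · rw [if_pos hj, if_pos (by rw [← hj, Equiv.apply_symm_apply])]
    · rw [if_neg hj, if_neg (fun h => hj (by rw [h, Equiv.symm_apply_apply]))]
  neg i hi := by
    rw [← H.neg (σ i) fun h => hi (σ.injective h)]
    congr 1
    funext j
    simp only [Function.comp_apply, Pi.single_apply]
    by_cases hj : σ.symm j = i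
    · rw [if_pos hj, if_pos (by rw [← hj, Equiv.apply_symm_apply])]
    · rw [if_neg hj, if_neg (fun h => hj (by rw [h, Equiv.symm_apply_apply]))]

/-! ### Generation -/

/-- `v` is a coordinate vector and `Y v`, `Y (-v)` lie in `H`. -/
structure Gd (C : Finset (Finset ι)) (Y : (ι → ℤ) → Subgroup G) (H : Subgroup G) (v : ι → ℤ) : Prop where
  vec : Vec C v
  le : Y v ≤ H
  le' : Y (-v) ≤ H

variable {Om : Set (Subgroup G)} {p : ℕ} {Y : (ι → ℤ) → Subgroup G} {X : ι → SignType → Subgroup G}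
  {C : Finset (Finset ι)} {L : ι → Subgroup G} {N : ℕ} {H : Subgroup G}

theorem Gd.neg {v : ι → ℤ} (h : Gd C Y H v) : Gd C Y H (-v) := ⟨h.vec.neg, h.le', by rw [neg_neg]; exact h.le⟩

section

variable (Lc : ∀ l, Loc Om p Y X C (L l) N l)

include Lc

/-- reflections -/
theorem Gd.step {v v' : ι → ℤ} (d : ι → ℤ) (h : Gd C Y H v) (h' : Gd C Y H v') (l : ι) (hl : v l = 0)
    (hl' : v' l = 0) (hd : ∀ i, 2 * d i = 2 * v i - (∑ j, v j * v' j) * v' i) : Gd C Y H d := by
  have h1 := (Lc l).refl v v' d h.vec h'.vec hl hl' hd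
  have h2 := (Lc l).refl (-v) v' (-d) h.vec.neg h'.vec (by rw [Pi.neg_apply, hl, neg_zero]) hl' (fun i => by
    have e : ∑ j, (-v) j * v' j = - ∑ j, v j * v' j := by
      rw [← Finset.sum_neg_distrib]
      exact Finset.sum_congr rfl fun j _ => by rw [Pi.neg_apply]; ring
    rw [e, Pi.neg_apply, Pi.neg_apply]
    linear_combination -hd i)
  refine ⟨h1.1, h1.2.trans ?_, h2.2.trans ?_⟩
  · exact sup_le h.le (sup_le h'.le h'.le')
  · exact sup_le h.le' (sup_le h'.le h'.le')

/-- sums of vectors with product `-2` -/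
theorem Gd.add {v v' : ι → ℤ} (h : Gd C Y H v) (h' : Gd C Y H v') (l : ι) (hl : v l = 0)
    (hl' : v' l = 0) (hs : ∑ j, v j * v' j = -2) : Gd C Y H (v + v') :=
  h.step Lc (v + v') h' l hl hl' fun i => by rw [hs, Pi.add_apply]; ring

/-- sign changes -/
theorem Gd.signs {B T : Finset ι} {v : ι → ℤ} (h : Gd C Y H v) (hB : ∀ i, i ∉ B → v i = 0) (l : ι) (hl : l ∉ B)
    (hT : ∀ i, i ∈ T → Gd C Y H (Pi.single i 2)) (hTB : T ⊆ B) :
    Gd C Y H fun i => if i ∈ T then - v i else v i := by
  classical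
  revert hT hTB
  induction T using Finset.induction_on with
  | empty => intro _ _; simpa using h
  | insert j T hj ih =>
    intro hT hTB
    have h1 := ih (fun i hi => hT i (Finset.mem_insert_of_mem hi)) (fun i hi => hTB (Finset.mem_insert_of_mem hi))
    have hlT : l ∉ T := fun h => hl (hTB (Finset.mem_insert_of_mem h))
    have hlj : l ≠ j := by rintro rfl; exact hl (hTB (Finset.mem_insert_self _ _))
    refine h1.step Lc _ (hT j (Finset.mem_insert_self _ _)) l (by simp only [if_neg hlT]; exact hB l hl)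
      (by rw [Pi.single_apply, if_neg hlj]) (fun i => ?_)
    have hs : ∑ k, (if k ∈ T then - v k else v k) * (Pi.single j (2 : ℤ) : ι → ℤ) k = 2 * v j := by
      rw [Finset.sum_eq_single j]
      · rw [if_neg hj, Pi.single_eq_same]; ring
      · intro k _ hk
        rw [Pi.single_eq_of_ne hk, mul_zero]
      · exact fun h => absurd (Finset.mem_univ j) h
    rw [hs]
    by_cases hi : i = j
    · subst hi
      rw [if_pos (Finset.mem_insert_self _ _), if_neg hj, Pi.single_eq_same]
      ring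
    · rw [Pi.single_eq_of_ne hi]
      by_cases hiT : i ∈ T
      · rw [if_pos (Finset.mem_insert_of_mem hiT), if_pos hiT]; ring
      · rw [if_neg (fun h => (Finset.mem_insert.1 h).elim hi hiT), if_neg hiT]; ring

/-- all signs -/
theorem Gd.all_signs {B : Finset ι} {v w : ι → ℤ} (h : Gd C Y H v) (hK : ∀ i, i ∈ B → Gd C Y H (Pi.single i 2))
    (l : ι) (hl : l ∉ B) (hv : ∀ i, i ∈ B → v i = 1 ∨ v i = -1) (hv0 : ∀ i, i ∉ B → v i = 0)
    (hw : ∀ i, i ∈ B → w i = 1 ∨ w i = -1) (hw0 : ∀ i, i ∉ B → w i = 0) : Gd C Y H w := by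
  have h1 := h.signs Lc (B := B) (T := B.filter fun i => w i ≠ v i) hv0 l hl
    (fun i hi => hK i (Finset.mem_filter.1 hi).1) (Finset.filter_subset _ _)
  have h2 : (fun i => if i ∈ B.filter (fun i => w i ≠ v i) then - v i else v i) = w := by
    funext i
    by_cases hi : i ∈ B
    · by_cases hne : w i = v i
      · rw [if_neg (by simp [hne]), hne]
      · rw [if_pos (Finset.mem_filter.2 ⟨hi, hne⟩)]
        have := hv i hi
        have := hw i hi
        omega
    · rw [if_neg (fun h => hi (Finset.mem_filter.1 h).1), hv0 i hi, hw0 i hi]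
  rwa [h2] at h1

end

theorem Gd.supp {B : Finset ι} {v : ι → ℤ} (hv : Vec C v) (hB : ∀ i, i ∈ B → v i = 1 ∨ v i = -1)
    (hB0 : ∀ i, i ∉ B → v i = 0) (hne : B.Nonempty) : B ∈ C := by
  rcases hv with ⟨i, h1, h2⟩ | ⟨D, hD, h1, h2⟩
  · exfalso
    have h3 : i ∉ B := fun h => by have := hB i h; omega
    have := hB0 i h3
    omega
  · have : B = D := by
      ext i
      constructor
      · intro hi
        by_contra h3
        have := h2 i h3
        have := hB i hi
        omega
      · intro hi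
        by_contra h3
        have := hB0 i h3
        have := h1 i hi
        omega
    rw [this]; exact hD

/-- **All vectors are good.** -/
theorem all_gd (Lc : ∀ l, Loc Om p Y X C (L l) N l) (hC : ∀ B ∈ C, ∃ l, l ∉ B)
    (hK : ∀ i, Gd C Y H (Pi.single i 2)) (quads : Finset (Finset ι))
    (hq : ∀ B ∈ quads, B.Nonempty ∧ ∃ v, Gd C Y H v ∧ (∀ i, i ∈ B → v i = 1 ∨ v i = -1) ∧ ∀ i, i ∉ B → v i = 0)
    (hc : ∀ l, N ≤ (quads.filter fun B => l ∉ B).card) : ∀ v, Vec C v → Gd C Y H v := by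
  intro v hv
  rcases hv with ⟨i, h1, h2⟩ | ⟨B, hB, h1, h2⟩
  · rcases h1 with h1 | h1
    · have : v = Pi.single i 2 := by
        funext j
        by_cases hj : j = i
        · subst hj; rw [h1, Pi.single_eq_same]
        · rw [h2 j hj, Pi.single_eq_of_ne hj]
      rw [this]; exact hK i
    · have : v = -(Pi.single i 2) := by
        funext j
        rw [Pi.neg_apply]
        by_cases hj : j = i
        · subst hj; rw [h1, Pi.single_eq_same]
        · rw [h2 j hj, Pi.single_eq_of_ne hj, neg_zero]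
      rw [this]; exact (hK i).neg
  · obtain ⟨l, hl⟩ := hC B hB
    have hBq : B ∈ quads := by
      have h3 : quads.filter (fun B => l ∉ B) ⊆ C.filter (fun B => l ∉ B) := by
        intro D hD
        obtain ⟨hD1, hD2⟩ := Finset.mem_filter.1 hD
        obtain ⟨hne, w, hw, hw1, hw2⟩ := hq D hD1
        exact Finset.mem_filter.2 ⟨Gd.supp hw.vec hw1 hw2 hne, hD2⟩
      have h4 := Finset.eq_of_subset_of_card_le h3 (by rw [(Lc l).num]; exact hc l)
      have h5 : B ∈ C.filter (fun B => l ∉ B) := Finset.mem_filter.2 ⟨hB, hl⟩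
      rw [← h4] at h5
      exact (Finset.mem_filter.1 h5).1
    obtain ⟨-, w, hw, hw1, hw2⟩ := hq B hBq
    exact hw.all_signs Lc (fun i _ => hK i) l hl hw1 hw2 h1 h2

/-- the fourth frame member of a quadruple -/
theorem Gd.fourth (Lc : ∀ l, Loc Om p Y X C (L l) N l) {v : ι → ℤ} (h : Gd C Y H v) (B T : Finset ι)
    (hT : ∀ i, i ∈ T → Gd C Y H (Pi.single i 2)) (l : ι) {u : ι}
    (hB : ∀ i, i ∉ B → v i = 0) (hl : l ∉ B) (hTB : T ⊆ B)
    (hs : ∑ j, v j * (if j ∈ T then - v j else v j) = -2)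
    (hu : ∀ i, v i + (if i ∈ T then - v i else v i) = (Pi.single u 2 : ι → ℤ) i) : Gd C Y H (Pi.single u 2) := by
  have h1 := h.signs Lc (B := B) (T := T) hB l hl hT hTB
  have h2 := h.add Lc h1 l (hB l hl) (by simp only [hB l hl]; split_ifs <;> rfl) hs
  have h3 : (v + fun i => if i ∈ T then - v i else v i) = Pi.single u 2 := funext hu
  rwa [h3] at h2

/-- sums with changed signs -/
theorem Gd.add_signs (Lc : ∀ l, Loc Om p Y X C (L l) N l) {v v' : ι → ℤ} (h : Gd C Y H v) (h' : Gd C Y H v')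
    (hK : ∀ i, Gd C Y H (Pi.single i 2)) (B : Finset ι) (w : ι → ℤ) (l : ι) (d : ι → ℤ)
    (hv : ∀ i, i ∈ B → v' i = 1 ∨ v' i = -1) (hv0 : ∀ i, i ∉ B → v' i = 0)
    (hw : ∀ i, i ∈ B → w i = 1 ∨ w i = -1) (hw0 : ∀ i, i ∉ B → w i = 0) (hl : l ∉ B) (hl' : v l = 0)
    (hs : ∑ j, v j * w j = -2) (hd : ∀ i, v i + w i = d i) : Gd C Y H d := by
  have h1 := h'.all_signs Lc (fun i _ => hK i) l hl hv hv0 hw hw0
  have h2 := h.add Lc h1 l hl' (hw0 l hl) hs
  have h3 : v + w = d := funext hd
  rwa [h3] at h2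

end Cfsg.Agent.Cit.SpanGen
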