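import Mathlib
import Cfsg.Agent.Cit.SpanGen
import Cfsg.Agent.Cit.SpanComb
import Cfsg.Agent.Nodes.TyChart

/-!
Type `E₇` (project CIT, (3b), helper82's frame method #5999).

Frame `K 0, …, K 6`; the charts of all `Δ_l` are of type `D₆`; the complements of the seven quadruples are the lines
of the Fano plane.  Nodes (Bourbaki order) in the coordinates of the frame: `a7`.
-/

set_option autoImplicit false
set_option linter.unusedSectionVars false

namespace Cfsg.Agent.Cit.TypeESeven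

open CoxeterSystem Cfsg.Agent.ChevalleyStructure.CoxeterGeom Cfsg.Agent.Tits.Roots Cfsg.Agent.Tits.Core
  Cfsg.Agent.Cit.FrameSign Cfsg.Agent.Cit.SpanSys Cfsg.Agent.Cit.SpanGen Cfsg.Agent.Nodes.Chart
  Cfsg.Agent.Nodes.ChartOfCls Cfsg.Agent.Nodes.Coroot

theorem at_mono {G : Type*} [Group G] {Og : Set (Subgroup G)} {p : ℕ}
    {D : Subgroup G} {c : Chart Og p D} {P P' : Subgroup G} {long : Prop} {b : c.I → ℤ} (h : At c P P' True b) :
    At c P P' long b := ⟨h.root, h.pos, h.neg, fun _ => h.long trivial⟩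

/-- The simple roots of `E₇` in frame coordinates. -/
def a7 : Fin 7 → Fin 7 → ℤ :=
  ![![0, -1, 0, -1, 0, 1, 1], ![2, 0, 0, 0, 0, 0, 0], ![0, 2, 0, 0, 0, 0, 0], ![-1, -1, -1, 1, 0, 0, 0],
    ![0, 0, 2, 0, 0, 0, 0], ![0, 0, -1, -1, -1, -1, 0], ![0, 0, 0, 0, 2, 0, 0]]

/-- The seven quadruples. -/
def quads : Finset (Finset (Fin 7)) :=
  {{0, 1, 2, 3}, {1, 3, 5, 6}, {2, 3, 4, 5}, {0, 2, 5, 6}, {0, 1, 4, 5}, {1, 2, 4, 6}, {0, 3, 4, 6}}

set_option backward.isDefEq.respectTransparency false in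
theorem dot_zero : ∀ k k' : Fin 7, k ≠ k' → CoxeterMatrix.E₇ k k' = 2 →
    (∃ l, a7 k l = 0 ∧ a7 k' l = 0) ∧ ∑ i, a7 k i * a7 k' i = 0 := by decide +kernel

set_option backward.isDefEq.respectTransparency false in
theorem dot_two : ∀ k k' : Fin 7, k ≠ k' → CoxeterMatrix.E₇ k k' ≠ 2 →
    (∃ l, a7 k l = 0 ∧ a7 k' l = 0) ∧ ∑ i, a7 k i * a7 k' i = -2 ∧
      ChevalleyStructure.CoxeterGeomTypes.cartanOf Cfsg.Lie.chevE7 7 k k' = -1 ∧
      ChevalleyStructure.CoxeterGeomTypes.cartanOf Cfsg.Lie.chevE7 7 k' k = -1 := by decide +kernel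

universe u

variable {G : Type u} [Group G] {Om : Set (Subgroup G)} {p : ℕ} {Y : (Fin 7 → ℤ) → Subgroup G}
  {X : Fin 7 → SignType → Subgroup G} {C : Finset (Finset (Fin 7))} {L : Fin 7 → Subgroup G}

theorem vec_a7 (q1 : {0, 1, 2, 3} ∈ C) (q2 : {1, 3, 5, 6} ∈ C) (q3 : {2, 3, 4, 5} ∈ C) : ∀ k, Vec C (a7 k) := by
  intro k
  fin_cases k
  · exact Or.inr ⟨_, q2, by decide, by decide⟩
  · exact Or.inl ⟨0, by decide, by decide⟩
  · exact Or.inl ⟨1, by decide, by decide⟩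
  · exact Or.inr ⟨_, q1, by decide, by decide⟩
  · exact Or.inl ⟨2, by decide, by decide⟩
  · exact Or.inr ⟨_, q3, by decide, by decide⟩
  · exact Or.inl ⟨4, by decide, by decide⟩

/-- **All sign groups are generated by the nodes.** -/
theorem gen (Lc : ∀ l, Loc Om p Y X C (L l) 3 l) (h4 : ∀ B ∈ C, B.card = 4) (q1 : {0, 1, 2, 3} ∈ C)
    (q2 : {1, 3, 5, 6} ∈ C) (q3 : {2, 3, 4, 5} ∈ C) {H : Subgroup G}
    (hH : ∀ k, Y (a7 k) ⊔ Y (-(a7 k)) ≤ H) : ∀ v, Vec C v → Gd C Y H v := by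
  have g : ∀ k, Gd C Y H (a7 k) := fun k =>
    ⟨vec_a7 q1 q2 q3 k, le_sup_left.trans (hH k), le_sup_right.trans (hH k)⟩
  have S0 : Gd C Y H (Pi.single 0 2) := by
    have := g 1
    rwa [show a7 1 = Pi.single 0 2 by decide] at this
  have S1 : Gd C Y H (Pi.single 1 2) := by
    have := g 2
    rwa [show a7 2 = Pi.single 1 2 by decide] at this
  have S2 : Gd C Y H (Pi.single 2 2) := by
    have := g 4
    rwa [show a7 4 = Pi.single 2 2 by decide] at this
  have S4 : Gd C Y H (Pi.single 4 2) := by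
    have := g 6
    rwa [show a7 6 = Pi.single 4 2 by decide] at this
  have S3 : Gd C Y H (Pi.single 3 2) := (g 3).fourth Lc {0, 1, 2, 3} {0, 1, 2} (by
    intro i hi
    simp only [Finset.mem_insert, Finset.mem_singleton] at hi
    rcases hi with rfl | rfl | rfl <;> assumption) 6 (by decide) (by decide) (by decide) (by decide) (by decide)
  have S5 : Gd C Y H (Pi.single 5 2) := (g 5).neg.fourth Lc {2, 3, 4, 5} {2, 3, 4} (by
    intro i hi
    simp only [Finset.mem_insert, Finset.mem_singleton] at hi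
    rcases hi with rfl | rfl | rfl <;> assumption) 6 (by decide) (by decide) (by decide) (by decide) (by decide)
  have S6 : Gd C Y H (Pi.single 6 2) := (g 0).fourth Lc {1, 3, 5, 6} {1, 3, 5} (by
    intro i hi
    simp only [Finset.mem_insert, Finset.mem_singleton] at hi
    rcases hi with rfl | rfl | rfl <;> assumption) 4 (by decide) (by decide) (by decide) (by decide) (by decide)
  have hK : ∀ i, Gd C Y H (Pi.single i 2) := by
    intro i
    fin_cases i
    · exact S0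
    · exact S1
    · exact S2
    · exact S3
    · exact S4
    · exact S5
    · exact S6
  have v4 : Gd C Y H ![-1, 0, -1, 0, 0, 1, 1] := (g 3).add_signs Lc (g 0) hK {1, 3, 5, 6}
    ![0, 1, 0, -1, 0, 1, 1] 4 _ (by decide) (by decide) (by decide) (by decide) (by decide) (by decide)
    (by decide) (by decide)
  have v5 : Gd C Y H ![-1, -1, 0, 0, -1, -1, 0] := (g 3).add_signs Lc (g 5) hK {2, 3, 4, 5}
    ![0, 0, 1, -1, -1, -1, 0] 6 _ (by decide) (by decide) (by decide) (by decide) (by decide) (by decide)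
    (by decide) (by decide)
  have v6 : Gd C Y H ![0, -1, -1, 0, -1, 0, 1] := (g 0).add_signs Lc (g 5) hK {2, 3, 4, 5}
    ![0, 0, -1, 1, -1, -1, 0] 0 _ (by decide) (by decide) (by decide) (by decide) (by decide) (by decide)
    (by decide) (by decide)
  have v7 : Gd C Y H ![-1, 0, 0, -1, -1, 0, 1] := v4.add_signs Lc (g 5) hK {2, 3, 4, 5}
    ![0, 0, 1, -1, -1, -1, 0] 1 _ (by decide) (by decide) (by decide) (by decide) (by decide) (by decide)
    (by decide) (by decide)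
  refine all_gd Lc (fun B hB => ?_) hK quads (fun B hB => ?_) (by decide)
  · by_contra hcon
    push Not at hcon
    have h1 : (Finset.univ : Finset (Fin 7)) ⊆ B := fun x _ => hcon x
    have h2 := Finset.card_le_card h1
    rw [h4 B hB, Finset.card_univ, Fintype.card_fin] at h2
    omega
  · simp only [quads, Finset.mem_insert, Finset.mem_singleton] at hB
    rcases hB with rfl | rfl | rfl | rfl | rfl | rfl | rfl
    · exact ⟨by decide, _, g 3, by decide, by decide⟩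
    · exact ⟨by decide, _, g 0, by decide, by decide⟩
    · exact ⟨by decide, _, g 5, by decide, by decide⟩
    · exact ⟨by decide, _, v4, by decide, by decide⟩
    · exact ⟨by decide, _, v5, by decide, by decide⟩
    · exact ⟨by decide, _, v6, by decide, by decide⟩
    · exact ⟨by decide, _, v7, by decide, by decide⟩

/-- **The chart of type `E₇`.** -/
theorem exists_chart {W : Type} [Group W] [Fintype W] [Finite G] (cs : CoxeterSystem CoxeterMatrix.E₇ W)
    (hp : p.Prime) (hp2 : p ≠ 2) (hyp : Cit.Hyp Om) (S : Sylow 2 G)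
    (Lc : ∀ l, Loc Om p Y X C (L l) 3 l) (h4 : ∀ B ∈ C, B.card = 4) (q1 : {0, 1, 2, 3} ∈ C)
    (q2 : {1, 3, 5, 6} ∈ C) (q3 : {2, 3, 4, 5} ∈ C)
    (hF : ∀ K ∈ Cit.OmS Om (S : Subgroup G), ∃ l, K ≤ L l) :
    ∃ (G0 : Subgroup G) (c : Chart Om p G0), c.IsTy Ty.E7 ∧ (∀ r ∈ c.R, c.Z r = c.X r) ∧ (∀ l, L l ≤ G0) ∧
      (∀ v, Vec C v → Y v ≤ G0) ∧ G0 ≤ ⨆ v : {v : Fin 7 → ℤ // Vec C v}, Y v := by
  set G0 : Subgroup G := ⨆ k : Fin 7, (Y (a7 k) ⊔ Y (-(a7 k))) with hG0
  have hv := vec_a7 q1 q2 q3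
  have hgen := gen (H := G0) Lc h4 q1 q2 q3 (fun k => le_iSup (fun k : Fin 7 => (Y (a7 k) ⊔ Y (-(a7 k)))) k)
  have hL : ∀ l, L l ≤ G0 := fun l => (Lc l).gen.trans (iSup_le fun v => (hgen v.1 v.2.1).le)
  have hnode : ∀ l, ∃ (c : Chart Om p (L l)) (k : Fin 7) (b : c.I → ℤ), At c (Y (a7 k)) (Y (-(a7 k))) True b := by
    intro l
    obtain ⟨k, hk⟩ : ∃ k, a7 k l = 0 := by
      revert l
      decide
    obtain ⟨c, b, hb⟩ := (Lc l).node _ (hv k) hk
    exact ⟨c, k, b, hb⟩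
  obtain ⟨c, -, -, -, hc, -, -, hZX⟩ := exists_isTy (τ := Ty.E7) trivial (by decide) cs hp hp2 hyp S
    (fun k : Fin 7 => Y (a7 k)) (fun k : Fin 7 => Y (-(a7 k)))
    (fun i j hij h2 => by
      obtain ⟨⟨l, hl, hl'⟩, hs⟩ := dot_zero i j hij h2
      exact (Lc l).comm _ _ (hv i) (hv j) hl hl' hs)
    (fun i j hij h2 => by
      obtain ⟨⟨l, hl, hl'⟩, hs, e1, e2⟩ := dot_two i j hij h2
      obtain ⟨c, b, b', hb, hb', e3, e4, h6⟩ := (Lc l).plane _ _ (hv i) (hv j) hl hl' hs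
      exact Or.inl ⟨L l, c, b, b', at_mono hb, at_mono hb', e3.trans e1.symm, e4.trans e2.symm, fun _ => h6⟩)
    (fun K hK => by
      obtain ⟨l, hl⟩ := hF K hK
      obtain ⟨c, k, b, hb⟩ := hnode l
      exact ⟨L l, c, k, b, trivial, hb, hL l, hl⟩)
  exact ⟨G0, c, hc, hZX, hL, fun v hv => (hgen v hv).le, iSup_le fun k =>
    sup_le (le_iSup (fun v : {v : Fin 7 → ℤ // Vec C v} => Y v) ⟨_, hv k⟩)
      (le_iSup (fun v : {v : Fin 7 → ℤ // Vec C v} => Y v) ⟨_, (hv k).neg⟩)⟩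

end Cfsg.Agent.Cit.TypeESeven
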