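import Mathlib
import Cfsg.Agent.Cit.TypeESeven

/-!
Type `E₈` (project CIT, (3b), helper82's frame method #5999).

Frame `K 0, …, K 7`; the charts of all `Δ_l` are of type `E₇`; the fourteen quadruples are the words of weight `4` of
the extended Hamming code.  Nodes (Bourbaki order) in the coordinates of the frame: `a8`.
-/

set_option autoImplicit false
set_option linter.unusedSectionVars false

namespace Cfsg.Agent.Cit.TypeEEight

open CoxeterSystem Cfsg.Agent.ChevalleyStructure.CoxeterGeom Cfsg.Agent.Tits.Roots Cfsg.Agent.Tits.Core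
  Cfsg.Agent.Cit.FrameSign Cfsg.Agent.Cit.SpanSys Cfsg.Agent.Cit.SpanGen Cfsg.Agent.Nodes.Chart
  Cfsg.Agent.Nodes.ChartOfCls Cfsg.Agent.Nodes.Coroot Cfsg.Agent.Cit.TypeESeven

/-- The simple roots of `E₈` in frame coordinates. -/
def a8 : Fin 8 → Fin 8 → ℤ :=
  ![![0, 0, 0, 0, 2, 0, 0, 0], ![0, 0, 0, 0, 0, 0, 0, 2], ![0, -1, 0, 1, -1, 0, 1, 0],
    ![0, 1, 0, -1, 0, -1, 0, -1], ![0, 0, 0, 0, 0, 2, 0, 0], ![0, -1, 1, 0, 0, -1, -1, 0],
    ![-1, 1, -1, 1, 0, 0, 0, 0], ![2, 0, 0, 0, 0, 0, 0, 0]]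

/-- The fourteen quadruples. -/
def quads8 : Finset (Finset (Fin 8)) :=
  {{0, 1, 2, 3}, {1, 2, 5, 6}, {1, 3, 4, 6}, {1, 3, 5, 7}, {0, 3, 5, 6}, {4, 5, 6, 7}, {0, 2, 4, 6}, {0, 2, 5, 7},
    {2, 3, 4, 5}, {2, 3, 6, 7}, {0, 1, 4, 5}, {0, 1, 6, 7}, {1, 2, 4, 7}, {0, 3, 4, 7}}

set_option backward.isDefEq.respectTransparency false in
theorem dot_zero8 : ∀ k k' : Fin 8, k ≠ k' → CoxeterMatrix.E₈ k k' = 2 →
    (∃ l, a8 k l = 0 ∧ a8 k' l = 0) ∧ ∑ i, a8 k i * a8 k' i = 0 := by decide +kernel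

set_option backward.isDefEq.respectTransparency false in
theorem dot_two8 : ∀ k k' : Fin 8, k ≠ k' → CoxeterMatrix.E₈ k k' ≠ 2 →
    (∃ l, a8 k l = 0 ∧ a8 k' l = 0) ∧ ∑ i, a8 k i * a8 k' i = -2 ∧
      ChevalleyStructure.CoxeterGeomTypes.cartanOf Cfsg.Lie.chevE8 8 k k' = -1 ∧
      ChevalleyStructure.CoxeterGeomTypes.cartanOf Cfsg.Lie.chevE8 8 k' k = -1 := by decide +kernel

universe u

variable {G : Type u} [Group G] {Om : Set (Subgroup G)} {p : ℕ} {Y : (Fin 8 → ℤ) → Subgroup G}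
  {X : Fin 8 → SignType → Subgroup G} {C : Finset (Finset (Fin 8))} {L : Fin 8 → Subgroup G}

theorem vec_a8 (q1 : {0, 1, 2, 3} ∈ C) (q2 : {1, 2, 5, 6} ∈ C) (q3 : {1, 3, 4, 6} ∈ C)
    (q4 : {1, 3, 5, 7} ∈ C) : ∀ k, Vec C (a8 k) := by
  intro k
  fin_cases k
  · exact Or.inl ⟨4, by decide, by decide⟩
  · exact Or.inl ⟨7, by decide, by decide⟩
  · exact Or.inr ⟨_, q3, by decide, by decide⟩
  · exact Or.inr ⟨_, q4, by decide, by decide⟩
  · exact Or.inl ⟨5, by decide, by decide⟩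
  · exact Or.inr ⟨_, q2, by decide, by decide⟩
  · exact Or.inr ⟨_, q1, by decide, by decide⟩
  · exact Or.inl ⟨0, by decide, by decide⟩

/-- **All sign groups are generated by the nodes.** -/
theorem gen8 (Lc : ∀ l, Loc Om p Y X C (L l) 7 l) (h4 : ∀ B ∈ C, B.card = 4) (q1 : {0, 1, 2, 3} ∈ C)
    (q2 : {1, 2, 5, 6} ∈ C) (q3 : {1, 3, 4, 6} ∈ C) (q4 : {1, 3, 5, 7} ∈ C) {H : Subgroup G}
    (hH : ∀ k, Y (a8 k) ⊔ Y (-(a8 k)) ≤ H) : ∀ v, Vec C v → Gd C Y H v := by
  have g : ∀ k, Gd C Y H (a8 k) := fun k =>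
    ⟨vec_a8 q1 q2 q3 q4 k, le_sup_left.trans (hH k), le_sup_right.trans (hH k)⟩
  have S4 : Gd C Y H (Pi.single 4 2) := by
    have := g 0
    rwa [show a8 0 = Pi.single 4 2 by decide] at this
  have S7 : Gd C Y H (Pi.single 7 2) := by
    have := g 1
    rwa [show a8 1 = Pi.single 7 2 by decide] at this
  have S5 : Gd C Y H (Pi.single 5 2) := by
    have := g 4
    rwa [show a8 4 = Pi.single 5 2 by decide] at this
  have S0 : Gd C Y H (Pi.single 0 2) := by
    have := g 7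
    rwa [show a8 7 = Pi.single 0 2 by decide] at this
  have x : Gd C Y H ![0, 0, 0, 0, -1, -1, 1, -1] := by
    have h1 := (g 2).add Lc (g 3) 0 (by decide) (by decide) (by decide)
    rwa [show a8 2 + a8 3 = ![0, 0, 0, 0, -1, -1, 1, -1] by decide] at h1
  have y : Gd C Y H ![-1, 0, 0, 1, 0, -1, -1, 0] := by
    have h1 := (g 5).add Lc (g 6) 4 (by decide) (by decide) (by decide)
    rwa [show a8 5 + a8 6 = ![-1, 0, 0, 1, 0, -1, -1, 0] by decide] at h1
  have S6 : Gd C Y H (Pi.single 6 2) := x.fourth Lc {4, 5, 6, 7} {4, 5, 7} (by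
    intro i hi
    simp only [Finset.mem_insert, Finset.mem_singleton] at hi
    rcases hi with rfl | rfl | rfl <;> assumption) 0 (by decide) (by decide) (by decide) (by decide) (by decide)
  have S3 : Gd C Y H (Pi.single 3 2) := y.fourth Lc {0, 3, 5, 6} {0, 5, 6} (by
    intro i hi
    simp only [Finset.mem_insert, Finset.mem_singleton] at hi
    rcases hi with rfl | rfl | rfl <;> assumption) 1 (by decide) (by decide) (by decide) (by decide) (by decide)
  have S1 : Gd C Y H (Pi.single 1 2) := (g 2).neg.fourth Lc {1, 3, 4, 6} {3, 4, 6} (by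
    intro i hi
    simp only [Finset.mem_insert, Finset.mem_singleton] at hi
    rcases hi with rfl | rfl | rfl <;> assumption) 0 (by decide) (by decide) (by decide) (by decide) (by decide)
  have S2 : Gd C Y H (Pi.single 2 2) := (g 5).fourth Lc {1, 2, 5, 6} {1, 5, 6} (by
    intro i hi
    simp only [Finset.mem_insert, Finset.mem_singleton] at hi
    rcases hi with rfl | rfl | rfl <;> assumption) 0 (by decide) (by decide) (by decide) (by decide) (by decide)
  have hK : ∀ i, Gd C Y H (Pi.single i 2) := by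
    intro i
    fin_cases i
    · exact S0
    · exact S1
    · exact S2
    · exact S3
    · exact S4
    · exact S5
    · exact S6
    · exact S7
  have v7 : Gd C Y H ![-1, 0, -1, 0, -1, 0, 1, 0] := (g 6).add_signs Lc (g 2) hK {1, 3, 4, 6}
    ![0, -1, 0, -1, -1, 0, 1, 0] 5 _ (by decide) (by decide) (by decide) (by decide) (by decide) (by decide)
    (by decide) (by decide)
  have v8 : Gd C Y H ![-1, 0, -1, 0, 0, -1, 0, -1] := (g 6).add_signs Lc (g 3) hK {1, 3, 5, 7}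
    ![0, -1, 0, -1, 0, -1, 0, -1] 4 _ (by decide) (by decide) (by decide) (by decide) (by decide) (by decide)
    (by decide) (by decide)
  have v9 : Gd C Y H ![0, 0, 1, 1, -1, -1, 0, 0] := (g 5).add_signs Lc (g 2) hK {1, 3, 4, 6}
    ![0, 1, 0, 1, -1, 0, 1, 0] 0 _ (by decide) (by decide) (by decide) (by decide) (by decide) (by decide)
    (by decide) (by decide)
  have v10 : Gd C Y H ![0, 0, 1, -1, 0, 0, -1, -1] := (g 5).add_signs Lc (g 3) hK {1, 3, 5, 7}
    ![0, 1, 0, -1, 0, 1, 0, -1] 0 _ (by decide) (by decide) (by decide) (by decide) (by decide) (by decide)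
    (by decide) (by decide)
  have v11 : Gd C Y H ![-1, -1, 0, 0, -1, -1, 0, 0] := y.add_signs Lc (g 2) hK {1, 3, 4, 6}
    ![0, -1, 0, -1, -1, 0, 1, 0] 2 _ (by decide) (by decide) (by decide) (by decide) (by decide) (by decide)
    (by decide) (by decide)
  have v12 : Gd C Y H ![-1, 1, 0, 0, 0, 0, -1, -1] := y.add_signs Lc (g 3) hK {1, 3, 5, 7}
    ![0, 1, 0, -1, 0, 1, 0, -1] 2 _ (by decide) (by decide) (by decide) (by decide) (by decide) (by decide)
    (by decide) (by decide)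
  have v13 : Gd C Y H ![0, 1, 1, 0, -1, 0, 0, -1] := v9.add_signs Lc (g 3) hK {1, 3, 5, 7}
    ![0, 1, 0, -1, 0, 1, 0, -1] 0 _ (by decide) (by decide) (by decide) (by decide) (by decide) (by decide)
    (by decide) (by decide)
  have v14 : Gd C Y H ![-1, 0, 0, -1, -1, 0, 0, -1] := v11.add_signs Lc (g 3) hK {1, 3, 5, 7}
    ![0, 1, 0, -1, 0, 1, 0, -1] 2 _ (by decide) (by decide) (by decide) (by decide) (by decide) (by decide)
    (by decide) (by decide)
  refine all_gd Lc (fun B hB => ?_) hK quads8 (fun B hB => ?_) (by decide +kernel)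
  · by_contra hcon
    push Not at hcon
    have h1 : (Finset.univ : Finset (Fin 8)) ⊆ B := fun x _ => hcon x
    have h2 := Finset.card_le_card h1
    rw [h4 B hB, Finset.card_univ, Fintype.card_fin] at h2
    omega
  · simp only [quads8, Finset.mem_insert, Finset.mem_singleton] at hB
    rcases hB with rfl | rfl | rfl | rfl | rfl | rfl | rfl | rfl | rfl | rfl | rfl | rfl | rfl | rfl
    · exact ⟨by decide, _, g 6, by decide, by decide⟩
    · exact ⟨by decide, _, g 5, by decide, by decide⟩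
    · exact ⟨by decide, _, g 2, by decide, by decide⟩
    · exact ⟨by decide, _, g 3, by decide, by decide⟩
    · exact ⟨by decide, _, y, by decide, by decide⟩
    · exact ⟨by decide, _, x, by decide, by decide⟩
    · exact ⟨by decide, _, v7, by decide, by decide⟩
    · exact ⟨by decide, _, v8, by decide, by decide⟩
    · exact ⟨by decide, _, v9, by decide, by decide⟩
    · exact ⟨by decide, _, v10, by decide, by decide⟩
    · exact ⟨by decide, _, v11, by decide, by decide⟩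
    · exact ⟨by decide, _, v12, by decide, by decide⟩
    · exact ⟨by decide, _, v13, by decide, by decide⟩
    · exact ⟨by decide, _, v14, by decide, by decide⟩

/-- **The chart of type `E₈`.** -/
theorem exists_chart8 {W : Type} [Group W] [Fintype W] [Finite G] (cs : CoxeterSystem CoxeterMatrix.E₈ W)
    (hp : p.Prime) (hp2 : p ≠ 2) (hyp : Cit.Hyp Om) (S : Sylow 2 G)
    (Lc : ∀ l, Loc Om p Y X C (L l) 7 l) (h4 : ∀ B ∈ C, B.card = 4) (q1 : {0, 1, 2, 3} ∈ C)
    (q2 : {1, 2, 5, 6} ∈ C) (q3 : {1, 3, 4, 6} ∈ C) (q4 : {1, 3, 5, 7} ∈ C)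
    (hF : ∀ K ∈ Cit.OmS Om (S : Subgroup G), ∃ l, K ≤ L l) :
    ∃ (G0 : Subgroup G) (c : Chart Om p G0), c.IsTy Ty.E8 ∧ (∀ r ∈ c.R, c.Z r = c.X r) ∧ (∀ l, L l ≤ G0) ∧
      (∀ v, Vec C v → Y v ≤ G0) ∧ G0 ≤ ⨆ v : {v : Fin 8 → ℤ // Vec C v}, Y v := by
  set G0 : Subgroup G := ⨆ k : Fin 8, (Y (a8 k) ⊔ Y (-(a8 k))) with hG0
  have hv := vec_a8 q1 q2 q3 q4
  have hgen := gen8 (H := G0) Lc h4 q1 q2 q3 q4
    (fun k => le_iSup (fun k : Fin 8 => (Y (a8 k) ⊔ Y (-(a8 k)))) k)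
  have hL : ∀ l, L l ≤ G0 := fun l => (Lc l).gen.trans (iSup_le fun v => (hgen v.1 v.2.1).le)
  have hnode : ∀ l, ∃ (c : Chart Om p (L l)) (k : Fin 8) (b : c.I → ℤ), At c (Y (a8 k)) (Y (-(a8 k))) True b := by
    intro l
    obtain ⟨k, hk⟩ : ∃ k, a8 k l = 0 := by
      revert l
      decide
    obtain ⟨c, b, hb⟩ := (Lc l).node _ (hv k) hk
    exact ⟨c, k, b, hb⟩
  obtain ⟨c, -, -, -, hc, -, -, hZX⟩ := exists_isTy (τ := Ty.E8) trivial (by decide) cs hp hp2 hyp S
    (fun k : Fin 8 => Y (a8 k)) (fun k : Fin 8 => Y (-(a8 k)))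
    (fun i j hij h2 => by
      obtain ⟨⟨l, hl, hl'⟩, hs⟩ := dot_zero8 i j hij h2
      exact (Lc l).comm _ _ (hv i) (hv j) hl hl' hs)
    (fun i j hij h2 => by
      obtain ⟨⟨l, hl, hl'⟩, hs, e1, e2⟩ := dot_two8 i j hij h2
      obtain ⟨c, b, b', hb, hb', e3, e4, h6⟩ := (Lc l).plane _ _ (hv i) (hv j) hl hl' hs
      exact Or.inl ⟨L l, c, b, b', at_mono hb, at_mono hb', e3.trans e1.symm, e4.trans e2.symm, fun _ => h6⟩)
    (fun K hK => by
      obtain ⟨l, hl⟩ := hF K hK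
      obtain ⟨c, k, b, hb⟩ := hnode l
      exact ⟨L l, c, k, b, trivial, hb, hL l, hl⟩)
  exact ⟨G0, c, hc, hZX, hL, fun v hv => (hgen v hv).le, iSup_le fun k =>
    sup_le (le_iSup (fun v : {v : Fin 8 → ℤ // Vec C v} => Y v) ⟨_, hv k⟩)
      (le_iSup (fun v : {v : Fin 8 → ℤ // Vec C v} => Y v) ⟨_, (hv k).neg⟩)⟩

end Cfsg.Agent.Cit.TypeEEight
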