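import Mathlib
import Cfsg.Agent.Cit.TypeEEight
import Cfsg.Agent.Cit.FrameOfFr
import Cfsg.Agent.Cit.FrameClose
import Cfsg.Agent.Nodes.TyStd
import Cfsg.Agent.Nodes.KindD
import Cfsg.Agent.Nodes.KindE

/-!
Types `E₇`, `E₈`: the output (project CIT, (3b)).

* `ncard_of_isTy`, `label_ne`, `all_mem` : roots of a typed chart;
* `seven`, `eight` : relabelling, from the facts at all `l` to the chart of type `E₇`, `E₈`;
* `exists_spanChart` : the chart of `Δ_l` adapted to the frame;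
* `typeE7`, `typeE8` : **the output sentence**.
-/

set_option autoImplicit false
set_option linter.unusedSectionVars false

namespace Cfsg.Agent.Cit.TypeEOut

open CoxeterSystem Cfsg.Agent.ChevalleyStructure.CoxeterGeom Cfsg.Agent.Tits.Roots Cfsg.Agent.Tits.Core
  Cfsg.Agent.Cit.FrameSign Cfsg.Agent.Cit.SpanSys Cfsg.Agent.Cit.SpanGen Cfsg.Agent.Nodes.Chart
  Cfsg.Agent.Nodes.ChartOfCls Cfsg.Agent.Nodes.Coroot Cfsg.Agent.Cit.FrameOf Cfsg.Agent.Cit.FrameClose

section Typed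

variable {G : Type*} [Group G] {Om : Set (Subgroup G)} {p : ℕ} {L : Subgroup G}

/-- The number of roots of a typed chart. -/
theorem ncard_of_isTy (c : Chart Om p L) {τ : Ty} (hτ : c.IsTy τ) {W' : Type*} [Group W'] [Finite W']
    (cs' : CoxeterSystem τ.M W') :
    Set.ncard {x | IsRoot c.cs c.h x} = Set.ncard {x | IsRoot cs' τ.isCartan x} := by
  obtain ⟨e, hA, -⟩ := hτ
  have h1 : ∀ x : Fin τ.rk → ℤ, IsRoot c.cs c.h (fun i => x (e i)) ↔ IsRoot cs' τ.isCartan x := fun x =>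
    Nodes.TyStd.isRoot_comp_iff e (fun i j => c.M_apply hA i j) hA cs' τ.isCartan
  have hinj : Function.Injective fun (x : Fin τ.rk → ℤ) (i : c.I) => x (e i) := by
    intro x y hxy
    funext j
    have := congrFun hxy (e.symm j)
    simpa using this
  have h2 : {x | IsRoot c.cs c.h x} = (fun (x : Fin τ.rk → ℤ) (i : c.I) => x (e i)) '' {x | IsRoot cs' τ.isCartan x} := by
    ext x
    constructor
    · intro hx
      refine ⟨fun j => x (e.symm j), (h1 _).1 ?_, ?_⟩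
      · have : (fun i => x (e.symm (e i))) = x := by funext i; simp
        rw [this]; exact hx
      · funext i
        simp
    · rintro ⟨y, hy, rfl⟩
      exact (h1 y).2 hy
  rw [h2, Set.ncard_image_of_injective _ hinj]

theorem label_ne (c : Chart Om p L) {τ : Ty} (hτ : c.IsTy τ) {m : ℕ} (hm : ∀ i j, τ.M i j ≠ m) :
    ∀ i j, c.M i j ≠ m := by
  obtain ⟨e, hA, -⟩ := hτ
  intro i j
  rw [c.M_apply hA]
  exact hm _ _

/-- All roots are classical. -/
theorem all_mem (c : Chart Om p L) {τ : Ty} (hτ : c.IsTy τ) (hl : ∀ i, τ.long i) :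
    ∀ x, IsRoot c.cs c.h x → x ∈ c.R := by
  obtain ⟨e, -, hR⟩ := hτ
  rintro x ⟨w, i, rfl⟩
  exact c.cls.act _ ((hR i).2 (hl _)) w

end Typed

universe u

section Relabel

variable {G : Type u} [Group G] [Finite G] {Om : Set (Subgroup G)} {p : ℕ} {ι : Type*} [Fintype ι] [DecidableEq ι]
  {Y : (ι → ℤ) → Subgroup G} {X : ι → SignType → Subgroup G} {C : Finset (Finset ι)} {L : ι → Subgroup G}

/-- **Type `E₇`, any labelling.** -/
theorem seven (hι : Fintype.card ι = 7) (hp : p.Prime) (hp2 : p ≠ 2) (hyp : Cit.Hyp Om) (S : Sylow 2 G)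
    (Lc : ∀ l, Loc Om p Y X C (L l) 3 l) (h4 : ∀ B ∈ C, B.card = 4)
    (hF : ∀ K ∈ Cit.OmS Om (S : Subgroup G), ∃ l, K ≤ L l) :
    ∃ (G0 : Subgroup G) (c : Chart Om p G0), c.IsTy Ty.E7 ∧ (∀ r ∈ c.R, c.Z r = c.X r) ∧ (∀ l, L l ≤ G0) ∧
      (∀ v, Vec C v → Y v ≤ G0) ∧ G0 ≤ ⨆ v : {v : ι → ℤ // Vec C v}, Y v := by
  obtain ⟨σ, q1, q2, q3⟩ := SpanComb.exists_seven hι h4 (fun l => (Lc l).num) (fun l => (Lc l).even)
  have hfin : Finite CoxeterMatrix.E₇.Group :=
    Nodes.RGDChev.finite_W Nodes.KindE.isType7 CoxeterMatrix.E₇.toCoxeterSystem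
  let _ : Fintype CoxeterMatrix.E₇.Group := Fintype.ofFinite _
  have hmem : ∀ {B : Finset (Fin 7)}, B.map σ.toEmbedding ∈ C →
      B ∈ (Finset.univ.filter fun B : Finset (Fin 7) => B.map σ.toEmbedding ∈ C) :=
    fun h => Finset.mem_filter.2 ⟨Finset.mem_univ _, h⟩
  obtain ⟨G0, c, hc, hZX, hL, hV, hG⟩ := TypeESeven.exists_chart CoxeterMatrix.E₇.toCoxeterSystem hp hp2 hyp S
    (fun l => SpanGen.Loc.reindex σ (Lc (σ l))) (fun B hB => by
      have := h4 _ (Finset.mem_filter.1 hB).2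
      rwa [Finset.card_map] at this) (hmem q1) (hmem q2) (hmem q3) (fun K hK => by
      obtain ⟨l, hl⟩ := hF K hK
      exact ⟨σ.symm l, by rw [Equiv.apply_symm_apply]; exact hl⟩)
  have key : ∀ v : ι → ℤ, (v ∘ σ) ∘ σ.symm = v := fun v => by funext i; simp
  refine ⟨G0, c, hc, hZX, fun l => ?_, fun v hv => ?_, hG.trans (iSup_le ?_)⟩
  · have := hL (σ.symm l)
    rwa [Equiv.apply_symm_apply] at this
  · have := hV (v ∘ σ) ((vec_reindex σ).2 (by rw [key]; exact hv))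
    simp only [key] at this
    exact this
  · rintro ⟨v, hv⟩
    exact le_iSup (fun v : {v : ι → ℤ // Vec C v} => Y v) ⟨v ∘ σ.symm, (vec_reindex σ).1 hv⟩

/-- **Type `E₈`, any labelling.** -/
theorem eight (hι : Fintype.card ι = 8) (hp : p.Prime) (hp2 : p ≠ 2) (hyp : Cit.Hyp Om) (S : Sylow 2 G)
    (Lc : ∀ l, Loc Om p Y X C (L l) 7 l) (h4 : ∀ B ∈ C, B.card = 4)
    (hF : ∀ K ∈ Cit.OmS Om (S : Subgroup G), ∃ l, K ≤ L l) :
    ∃ (G0 : Subgroup G) (c : Chart Om p G0), c.IsTy Ty.E8 ∧ (∀ r ∈ c.R, c.Z r = c.X r) ∧ (∀ l, L l ≤ G0) ∧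
      (∀ v, Vec C v → Y v ≤ G0) ∧ G0 ≤ ⨆ v : {v : ι → ℤ // Vec C v}, Y v := by
  obtain ⟨σ, q1, q2, q3, q4⟩ := SpanComb.exists_eight hι h4 (fun l => (Lc l).num) (fun l => (Lc l).even)
  have hfin : Finite CoxeterMatrix.E₈.Group :=
    Nodes.RGDChev.finite_W Nodes.KindE.isType8 CoxeterMatrix.E₈.toCoxeterSystem
  let _ : Fintype CoxeterMatrix.E₈.Group := Fintype.ofFinite _
  have hmem : ∀ {B : Finset (Fin 8)}, B.map σ.toEmbedding ∈ C →
      B ∈ (Finset.univ.filter fun B : Finset (Fin 8) => B.map σ.toEmbedding ∈ C) :=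
    fun h => Finset.mem_filter.2 ⟨Finset.mem_univ _, h⟩
  obtain ⟨G0, c, hc, hZX, hL, hV, hG⟩ := TypeEEight.exists_chart8 CoxeterMatrix.E₈.toCoxeterSystem hp hp2 hyp S
    (fun l => SpanGen.Loc.reindex σ (Lc (σ l))) (fun B hB => by
      have := h4 _ (Finset.mem_filter.1 hB).2
      rwa [Finset.card_map] at this) (hmem q1) (hmem q2) (hmem q3) (hmem q4) (fun K hK => by
      obtain ⟨l, hl⟩ := hF K hK
      exact ⟨σ.symm l, by rw [Equiv.apply_symm_apply]; exact hl⟩)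
  have key : ∀ v : ι → ℤ, (v ∘ σ) ∘ σ.symm = v := fun v => by funext i; simp
  refine ⟨G0, c, hc, hZX, fun l => ?_, fun v hv => ?_, hG.trans (iSup_le ?_)⟩
  · have := hL (σ.symm l)
    rwa [Equiv.apply_symm_apply] at this
  · have := hV (v ∘ σ) ((vec_reindex σ).2 (by rw [key]; exact hv))
    simp only [key] at this
    exact this
  · rintro ⟨v, hv⟩
    exact le_iSup (fun v : {v : ι → ℤ // Vec C v} => Y v) ⟨v ∘ σ.symm, (vec_reindex σ).1 hv⟩

end Relabel

/-! ### The adapted charts of the `Δ_l` -/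

section Provider

variable {G : Type u} [Group G] [Finite G] {Om : Set (Subgroup G)} {p : ℕ} {ι : Type*} [Fintype ι] [DecidableEq ι]
  {F : Type*} [Field F] [Fintype F] [CharP F p] {K : ι → Subgroup G} {X : ι → SignType → Subgroup G}

/-- `C(K)` normalises `Δ_K`. -/
theorem centralizer_le (hyp : Cit.Hyp Om) (K : Subgroup G) :
    Subgroup.centralizer (K : Set G) ≤ Subgroup.normalizer (delta Om K : Set G) := by
  intro a ha
  rw [Cit.mem_normalizer_iff_cj, cj_delta hyp.conj]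
  congr 1
  exact Cit.mem_normalizer_iff_cj.1 (Subgroup.centralizer_le_normalizer _ ha)

/-- `K l` is not contained in `Δ_l`. -/
theorem not_le_delta (D : Dat Om F K X) (l : ι) : ¬ K l ≤ delta Om (K l) := by
  intro h
  have h1 : ∀ a ∈ X l 1, a = 1 := fun a ha => D.X_center l one_ne_zero ha fun b hb =>
    delta_comm a (h (D.X_le l one_ne_zero ha)) b hb
  have h2 : X l 1 = ⊥ := (Subgroup.eq_bot_iff_forall _).2 h1
  have h3 := D.card_X l (s := 1) one_ne_zero
  rw [h2, Subgroup.card_bot] at h3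
  exact (Fintype.one_lt_card (α := F)).ne h3

/-- **The adapted chart of `Δ_l`.** -/
theorem exists_spanChart (D : Dat Om F K X) (hinj : Function.Injective K) (hF : Odd (Fintype.card F))
    (hg : ∀ i, Good p (X i 1) (zz (K i))) {l : ι} {τ : Ty} (hl : ∀ i, τ.long i) (h4 : ∀ i j, τ.M i j ≠ 4)
    (h6 : ∀ i j, τ.M i j ≠ 6) (hrk : 2 ≤ τ.rk) (hcard : τ.rk + 1 = Fintype.card ι)
    (c : Chart Om p (delta Om (K l))) (hτ : c.IsTy τ) (hZ : ∀ r ∈ c.R, c.Z r = c.X r) :
    ∃ (c' : Chart Om p (delta Om (K l))) (ell : ι → (c'.I → ℤ) →+ ℤ) (g : ι → c'.I → ℤ),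
      SpanChart K X (QF K X) l c' ell g ∧ c'.IsTy τ := by
  have hnt : Nontrivial c.I := by
    rw [← Fintype.one_lt_card_iff_nontrivial, hτ.card]; omega
  have hz1 : ∀ r ∈ c.R, c.z r ≠ 1 := by
    intro r hr
    obtain ⟨y, hy, h1, h2, h3⟩ := FrameOfFr.exists_not_orth c hnt (c.cls.root r hr)
    exact Nodes.StdConn.z_ne_one c.cls c.prime c.odd hr hy h1 h2 h3
  obtain ⟨y, hy, g, hA⟩ := exists_adapted c hz1 D
  have hZ' : ∀ r ∈ (conjChart c hy D.hyp.conj).R, (conjChart c hy D.hyp.conj).Z r =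
      (conjChart c hy D.hyp.conj).X r := fun r hr => congrArg (Cit.cj y) (hZ r hr)
  have hset : {i | K i ≤ delta Om (K l)} = {i | i ≠ l} := by
    ext i
    constructor
    · rintro h rfl
      exact not_le_delta D i h
    · intro h
      exact le_delta (D.mem i) (fun h1 => h (hinj h1)) (D.comm i l h)
  have hout : ∀ i, ¬ K i ≤ delta Om (K l) → ∀ a ∈ delta Om (K l), ∀ b ∈ K i, a * b = b * a := by
    intro i hi
    have : i = l := by
      by_contra hne
      exact hi (le_delta (D.mem i) (fun h1 => hne (hinj h1)) (D.comm i l hne))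
    rw [this]
    exact delta_comm
  have hfr := FrameOfFr.frChart_of_adapted (conjChart c hy D.hyp.conj) D hF hg hA hZ' hout
  rw [hset] at hfr
  have hτ' : (conjChart c hy D.hyp.conj).IsTy τ := hτ
  refine ⟨conjChart c hy D.hyp.conj, _, g, ⟨hfr, ?_, label_ne _ hτ' h4, label_ne _ hτ' h6, all_mem _ hτ' hl, hZ'⟩,
    hτ'⟩
  rw [hτ'.card, hcard]

/-- The facts at `l`. -/
theorem exists_loc (D : Dat Om F K X) (hinj : Function.Injective K) (hF : Odd (Fintype.card F))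
    (hg : ∀ i, Good p (X i 1) (zz (K i))) {l : ι} {τ : Ty} (hl : ∀ i, τ.long i) (h4 : ∀ i j, τ.M i j ≠ 4)
    (h6 : ∀ i j, τ.M i j ≠ 6) (hrk : 2 ≤ τ.rk) (hcard : τ.rk + 1 = Fintype.card ι) {N : ℕ}
    (hN : ∀ {W' : Type} [Group W'] [Finite W'] (cs' : CoxeterSystem τ.M W'),
      Set.ncard {x | IsRoot cs' τ.isCartan x} = 2 * (Fintype.card ι - 1) + 16 * N)
    (c : Chart Om p (delta Om (K l))) (hτ : c.IsTy τ) (hZ : ∀ r ∈ c.R, c.Z r = c.X r) :
    Loc Om p (YV (QF K X)) X (CC (QF K X)) (delta Om (K l)) N l := by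
  obtain ⟨c', ell, g, hS, hτ'⟩ := exists_spanChart D hinj hF hg hl h4 h6 hrk hcard c hτ hZ
  have hfin : Finite τ.M.Group := Nodes.TyStd.finite_of_isTy c hτ τ.M.toCoxeterSystem
  refine hS.loc (frame_of D hF hg) (centralizer_le D.hyp (K l)) ?_
  rw [ncard_of_isTy c' hτ' τ.M.toCoxeterSystem]
  exact hN _

end Provider

/-! ### The output sentence -/

theorem D6_ne {m : ℕ} (h1 : m ≠ 1) (h2 : m ≠ 2) (h3 : m ≠ 3) : ∀ i j : Fin (4 + 2), Nodes.TypeD.M 4 i j ≠ m := by
  intro i j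
  rw [Nodes.TypeD.M_apply]
  split_ifs <;> omega

set_option backward.isDefEq.respectTransparency false in
theorem E7_ne_four : ∀ i j : Fin 7, CoxeterMatrix.E₇ i j ≠ 4 := by decide +kernel

set_option backward.isDefEq.respectTransparency false in
theorem E7_ne_six : ∀ i j : Fin 7, CoxeterMatrix.E₇ i j ≠ 6 := by decide +kernel

section Out

variable {G : Type u} [Group G] [Finite G] {Om : Set (Subgroup G)} {p : ℕ} {ι : Type*} [Fintype ι] [DecidableEq ι]
  {F : Type} [Field F] [Fintype F] [CharP F p] {K : ι → Subgroup G} {X : ι → SignType → Subgroup G}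

/-- The closing statements, common to `E₇` and `E₈`. -/
theorem out_of {N : ℕ} (hcard : 5 ≤ Fintype.card ι) (D : Dat Om F K X) (hinj : Function.Injective K)
    (hF : Odd (Fintype.card F)) (hg : ∀ i, Good p (X i 1) (zz (K i))) (S : Sylow 2 G)
    (hS : Set.range K = Cit.OmS Om (S : Subgroup G))
    (Lc : ∀ l, Loc Om p (YV (QF K X)) X (CC (QF K X)) (delta Om (K l)) N l) {G0 : Subgroup G}
    (hL : ∀ l, delta Om (K l) ≤ G0)
    (hG : G0 ≤ ⨆ v : {v : ι → ℤ // Vec (CC (QF K X)) v}, YV (QF K X) v) :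
    (∀ i, K i ≤ G0) ∧ ∀ J ∈ Om, J ≤ G0 → Subgroup.normalizer (J : Set G) ≤ Subgroup.normalizer (G0 : Set G) := by
  have hne : Nonempty ι := Fintype.card_pos_iff.1 (by omega)
  have hnt : Nontrivial ι := Fintype.one_lt_card_iff_nontrivial.1 (by omega)
  have hK : ∀ i, K i ≤ G0 := by
    intro i
    obtain ⟨l, hl⟩ := exists_ne i
    exact (le_delta (D.mem i) (fun h1 => hl (hinj h1).symm) (D.comm i l hl.symm)).trans (hL l)
  have Fr := frame_of D hF hg
  have hG0 : G0 = ⨆ e : {e : ι → SignType // e ≠ 0 ∧ ∃ i, e i = 0}, XX (QF K X) e.1 := by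
    apply le_antisymm
    · refine hG.trans (iSup_le ?_)
      rintro ⟨v, hv⟩
      refine le_iSup (fun e : {e : ι → SignType // e ≠ 0 ∧ ∃ i, e i = 0} => XX (QF K X) e.1)
        ⟨fun i => SignType.sign (v i), ?_, ?_⟩
      · intro h0
        rcases hv with ⟨i, h1, -⟩ | ⟨B, hB, h1, -⟩
        · have := congrFun h0 i
          simp only [Pi.zero_apply, sign_eq_zero_iff] at this
          omega
        · obtain ⟨i, hi⟩ : B.Nonempty := by
            rw [← Finset.card_pos, (mem_CC.1 hB).1]; omega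
          have := congrFun h0 i
          simp only [Pi.zero_apply, sign_eq_zero_iff] at this
          have := h1 i hi
          omega
      · rcases hv with ⟨i, -, h2⟩ | ⟨B, hB, -, h2⟩
        · obtain ⟨j, hj⟩ := exists_ne i
          exact ⟨j, by simp only [h2 j hj, sign_zero]⟩
        · obtain ⟨j, hj⟩ : ∃ j, j ∉ B := by
            by_contra hcon
            push Not at hcon
            have h3 : (Finset.univ : Finset ι) ⊆ B := fun x _ => hcon x
            have h4 := Finset.card_le_card h3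
            rw [(mem_CC.1 hB).1, Finset.card_univ] at h4
            omega
          exact ⟨j, by simp only [h2 j hj, sign_zero]⟩
    · refine iSup_le ?_
      rintro ⟨e, he0, l, hl⟩
      obtain ⟨i, hi⟩ : ∃ i, e i ≠ 0 := by
        by_contra hcon
        push Not at hcon
        exact he0 (funext hcon)
      have hil : i ≠ l := by rintro rfl; exact hi hl
      have hKi : K i ≤ delta Om (K l) := le_delta (D.mem i) (fun h1 => hil (hinj h1)) (D.comm i l hil)
      exact (XX_le Fr hl hi (centralizer_le D.hyp (K l)) (hKi (Fr.z_mem i)) ((D.X_le i hi).trans hKi)).trans (hL l)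
  refine ⟨hK, frame_close_partial D.hyp S Fr hS hinj (fun i => rfl) (q := Fintype.card F)
    (fun i => ⟨F, inferInstance, inferInstance, rfl, ?_⟩) (fun i s hs => D.card_X i hs) (fun i s hs => ?_) hG0 hK hL⟩
  · obtain ⟨e, -, -⟩ := D.sl i
    exact ⟨e⟩
  · rw [QF_of_ne K X i hs]
    rfl

/-- **TYPE `E₇`**: seven frame members, all `Δ_l` of type `D₆`. -/
theorem typeE7 (hι : Fintype.card ι = 7) (hp2 : p ≠ 2) (D : Dat Om F K X) (hinj : Function.Injective K)
    (hF : Odd (Fintype.card F)) (hg : ∀ i, Good p (X i 1) (zz (K i))) (S : Sylow 2 G)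
    (hS : Set.range K = Cit.OmS Om (S : Subgroup G))
    (ch : ∀ l, ∃ c : Chart Om p (delta Om (K l)), c.IsTy (Ty.D 6) ∧ ∀ r ∈ c.R, c.Z r = c.X r) :
    ∃ (G0 : Subgroup G) (c : Chart Om p G0), c.IsTy Ty.E7 ∧ (∀ r ∈ c.R, c.Z r = c.X r) ∧ (∀ i, K i ≤ G0) ∧
      (∀ i, delta Om (K i) ≤ G0) ∧ ∀ J ∈ Om, J ≤ G0 → Subgroup.normalizer (J : Set G) ≤ Subgroup.normalizer (G0 : Set G) := by
  have hne : Nontrivial ι := Fintype.one_lt_card_iff_nontrivial.1 (by omega)
  have Lc : ∀ l, Loc Om p (YV (QF K X)) X (CC (QF K X)) (delta Om (K l)) 3 l := by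
    intro l
    obtain ⟨c, hτ, hZ⟩ := ch l
    refine exists_loc D hinj hF hg (τ := Ty.D 6) (fun _ => trivial) ?_ ?_ (by decide) (by rw [hι]; rfl) ?_ c hτ hZ
    · exact D6_ne (by decide) (by decide) (by decide)
    · exact D6_ne (by decide) (by decide) (by decide)
    · intro W' _ _ cs'
      rw [hι]
      exact Nodes.KindD.ncard_roots (n := 4) cs'
  obtain ⟨l0⟩ : Nonempty ι := inferInstance
  obtain ⟨c0, -, -⟩ := ch l0
  obtain ⟨G0, c, hc, hZX, hL, -, hG⟩ := seven hι c0.prime hp2 D.hyp S Lc (fun B hB => (mem_CC.1 hB).1) (fun J hJ => by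
    rw [← hS] at hJ
    obtain ⟨i, rfl⟩ := hJ
    obtain ⟨l, hl⟩ := exists_ne i
    exact ⟨l, le_delta (D.mem i) (fun h1 => hl (hinj h1).symm) (D.comm i l hl.symm)⟩)
  obtain ⟨h1, h2⟩ := out_of (by omega) D hinj hF hg S hS Lc hL hG
  exact ⟨G0, c, hc, hZX, h1, hL, h2⟩

/-- **TYPE `E₈`**: eight frame members, all `Δ_l` of type `E₇`. -/
theorem typeE8 (hι : Fintype.card ι = 8) (hp2 : p ≠ 2) (D : Dat Om F K X) (hinj : Function.Injective K)
    (hF : Odd (Fintype.card F)) (hg : ∀ i, Good p (X i 1) (zz (K i))) (S : Sylow 2 G)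
    (hS : Set.range K = Cit.OmS Om (S : Subgroup G))
    (ch : ∀ l, ∃ c : Chart Om p (delta Om (K l)), c.IsTy Ty.E7 ∧ ∀ r ∈ c.R, c.Z r = c.X r) :
    ∃ (G0 : Subgroup G) (c : Chart Om p G0), c.IsTy Ty.E8 ∧ (∀ r ∈ c.R, c.Z r = c.X r) ∧ (∀ i, K i ≤ G0) ∧
      (∀ i, delta Om (K i) ≤ G0) ∧ ∀ J ∈ Om, J ≤ G0 → Subgroup.normalizer (J : Set G) ≤ Subgroup.normalizer (G0 : Set G) := by
  have hne : Nontrivial ι := Fintype.one_lt_card_iff_nontrivial.1 (by omega)
  have Lc : ∀ l, Loc Om p (YV (QF K X)) X (CC (QF K X)) (delta Om (K l)) 7 l := by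
    intro l
    obtain ⟨c, hτ, hZ⟩ := ch l
    refine exists_loc D hinj hF hg (τ := Ty.E7) (fun _ => trivial) ?_ ?_ (by decide) (by rw [hι]; rfl) ?_ c hτ hZ
    · exact E7_ne_four
    · exact E7_ne_six
    · intro W' _ _ cs'
      rw [hι]
      exact Nodes.KindE.ncard7 cs' _
  obtain ⟨l0⟩ : Nonempty ι := inferInstance
  obtain ⟨c0, -, -⟩ := ch l0
  obtain ⟨G0, c, hc, hZX, hL, -, hG⟩ := eight hι c0.prime hp2 D.hyp S Lc (fun B hB => (mem_CC.1 hB).1) (fun J hJ => by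
    rw [← hS] at hJ
    obtain ⟨i, rfl⟩ := hJ
    obtain ⟨l, hl⟩ := exists_ne i
    exact ⟨l, le_delta (D.mem i) (fun h1 => hl (hinj h1).symm) (D.comm i l hl.symm)⟩)
  obtain ⟨h1, h2⟩ := out_of (by omega) D hinj hF hg S hS Lc hL hG
  exact ⟨G0, c, hc, hZX, h1, hL, h2⟩

end Out

end Cfsg.Agent.Cit.TypeEOut
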