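import Mathlib
import Cfsg.Agent.Cit.TypeDet.OutE
import Cfsg.Agent.Cit.TypeDet.LemLoc
import Cfsg.Agent.Cit.DispGen
import Cfsg.Agent.Cit.TypeCFin
import Cfsg.Agent.Cit.TypeEOut

/-!
# The dispatcher, `|Om(S)| ≥ 5` (project CIT)

* `In` : the members `K i` of `Om(S)` form a maximal frame, `K ≅ SL(2, F)` for all `K ∈ Om`, `Good`;
* `exists_dat` : root groups for the frame;
* `delta_eq_YA` : `Δ_k = Y_{F - k}`; `piece_delta` : `Δ_k` is a piece of `C(z_k)` if `F - k` is connected;
* `chart_of_tyPcE` : a chart for the characteristic of `F` from `TyPcE`;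
* `Res` : the output;
* `res_C`, `res_E7`, `res_E8` : the branches `C n`, `E₇`, `E₈` of `OutE`.
-/

set_option autoImplicit false
set_option linter.unusedSectionVars false
set_option linter.dupNamespace false

namespace Cfsg.Agent.Cit.DispMany

open Subgroup Finset Classical Cfsg Cfsg.Agent.Cit.TypeDet Cfsg.Agent.Cit.FrameOf Cfsg.Agent.Cit.FrameClose
  Cfsg.Agent.Nodes.Chart Cfsg.Agent.Cit.ExactChart

universe u

variable {G : Type u} [Group G] [Finite G] {Om : Set (Subgroup G)}

/-- The input of the dispatcher. -/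
structure In (Om : Set (Subgroup G)) (F : Type) [Field F] [Fintype F] (p : ℕ) {ι : Type u} [Fintype ι]
    (K : ι → Subgroup G) (S : Sylow 2 G) : Prop where
  hyp : Hyp Om
  cls : ∀ J ∈ Om, ∀ L ∈ Om, ∃ g, Cit.cj g J = L
  lem : Lem Om
  frame : IFrm Om K
  range : Set.range K = OmS Om (S : Subgroup G)
  odd : Odd (Fintype.card F)
  sl : ∀ J ∈ Om, Nonempty (Matrix.SpecialLinearGroup (Fin 2) F ≃* J)
  good : ∀ J ∈ Om, ∀ X ≤ J, Nat.card X = Fintype.card F → Good p X (zz J)

/-- The output of the dispatcher. -/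
def Res (Om : Set (Subgroup G)) (p : ℕ) {ι : Type*} (K : ι → Subgroup G) : Prop :=
  ∃ (G0 : Subgroup G) (τ : Nodes.Chart.Ty) (c : Chart Om p G0), c.IsTy τ ∧ KindOk τ ∧ 3 ≤ τ.rk ∧
    ((∀ r ∈ c.R, c.Z r = c.X r) ∨ ∃ n, τ = .C n) ∧ (∀ i, K i ≤ G0) ∧ (∀ i, delta Om (K i) ≤ G0) ∧
    ∀ J ∈ Om, J ≤ G0 → Subgroup.normalizer (J : Set G) ≤ Subgroup.normalizer (G0 : Set G)

/-! ### The groups `Δ_k` -/

section Delta

variable {ι : Type u} [Fintype ι] {K : ι → Subgroup G}

theorem delta_eq_YA (hyp : Hyp Om) (hK : ∀ i, K i ∈ Om) (k : ι) :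
    delta Om (K k) = YA Om K (univ.erase k) := by
  have e : YA Om K (univ.erase k) = sSup (TypeDet.OmIn Om (centralizer (K k : Set G))) := by
    rw [YA, OmA_erase]
  rw [e]
  apply le_antisymm
  · refine iSup₂_le fun L hL => le_sSup ⟨hL.1, cm_iff_le_centralizer.1 hL.2.2⟩
  · refine sSup_le fun L hL => le_delta hL.1 ?_ (cm_iff_le_centralizer.2 hL.2)
    rintro rfl
    exact not_cm_self hyp (hK k) (cm_iff_le_centralizer.2 hL.2)

/-- `F - k` connected: `Δ_k` is the piece of `K j` in `C(z_k)`. -/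
theorem delta_eq_piece (f : IFrm Om K) (hyp : Hyp Om) (lem : Lem Om) {k j : ι} (hj : j ≠ k)
    (hc : f.data.Conn (univ.erase k)) :
    delta Om (K k) = piece (TypeDet.OmIn Om (centralizer {zz (K k)})) (K j) := by
  have hjB : j ∈ (univ : Finset ι).erase k := mem_erase.2 ⟨hj, mem_univ _⟩
  have h1 : f.data.blk (univ.erase k) j = univ.erase k := by
    ext x
    rw [Sys.mem_blk]
    exact ⟨fun h => f.data.memR h, fun h => hc j hjB x h⟩
  have h2 : YA Om K (f.data.blk (univ.erase k) j) = piece (OmA Om K (univ.erase k)) (K j) :=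
    YA_blk f.mem f.comm f.max hjB
  rw [h1] at h2
  rw [delta_eq_YA hyp f.mem, h2, OmA_erase]
  exact lem.piece_centralizer_eq hyp (f.mem k) ⟨f.mem j, cm_iff_le_centralizer.1 (f.comm j k hj)⟩

/-- `F - k` connected: `Δ_k` is a piece of `C(z_k)`. -/
theorem piece_delta (f : IFrm Om K) (hyp : Hyp Om) (lem : Lem Om) (h2 : 2 ≤ Fintype.card ι) {k : ι}
    (hc : f.data.Conn (univ.erase k)) : FrameOf.Piece Om (zz (K k)) (delta Om (K k)) := by
  have : Nontrivial ι := Fintype.one_lt_card_iff_nontrivial.1 (by omega)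
  obtain ⟨j, hj⟩ := exists_ne k
  rw [delta_eq_piece f hyp lem hj hc]
  exact DispGen.piece_isPiece hyp.conj

end Delta

/-! ### Connectedness of `F - k` -/

section Conn

variable {F : Type*} [Fintype F] (S : Data F G)

theorem conn_of_KL {B : Finset F} (hB : B ≠ univ) (h : S.KL B) : S.Conn B := by
  intro i hi j hj
  by_cases hij : i = j
  · rw [hij]; exact S.refl hB hj
  · refine S.mono (A := {i, j}) ?_ hB (h.2.2 i hi j hj hij i (by simp) j (by simp))
    intro x hx
    simp only [mem_insert, mem_singleton] at hx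
    rcases hx with rfl | rfl
    · exact hi
    · exact hj

theorem conn_of_erase {B : Finset F} (hB : B ≠ univ) (h3 : 3 ≤ B.card) (h : ∀ l ∈ B, S.Conn (B.erase l)) :
    S.Conn B := by
  intro i hi j hj
  obtain ⟨l, hl, hl'⟩ := exists_mem_four h3 {i, j} (lt_of_le_of_lt Finset.card_le_two (by omega))
  simp only [mem_insert, mem_singleton, not_or] at hl'
  exact S.mono (erase_subset l B) hB (h l hl i (mem_erase.2 ⟨fun e => hl'.1 e.symm, hi⟩) j
    (mem_erase.2 ⟨fun e => hl'.2 e.symm, hj⟩))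

theorem conn_of_KD {B : Finset F} (hB : B ≠ univ) {q : F → F} (h : S.KD B q) : S.Conn B := by
  obtain ⟨h6, hp, -, hA, -⟩ := h
  have key : ∀ i ∈ B, ∀ j ∈ B, i ≠ j → j ≠ q i → S.rel B i j ∧ S.rel B i (q i) := by
    intro i hi j hj hij hjq
    obtain ⟨a1, a2, a3⟩ := hp i hi
    obtain ⟨b1, b2, b3⟩ := hp j hj
    have hne1 : q j ≠ i := fun e => hjq (by rw [← e, b3])
    have hne2 : q j ≠ q i := fun e => hij (by rw [← a3, ← e, b3])
    have hsub : ({i, q i, j, q j} : Finset F) ⊆ B := by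
      intro x hx
      simp only [mem_insert, mem_singleton] at hx
      rcases hx with rfl | rfl | rfl | rfl
      · exact hi
      · exact a1
      · exact hj
      · exact b1
    have hcard : ({i, q i, j, q j} : Finset F).card = 4 := by
      rw [card_insert_of_notMem, card_insert_of_notMem, card_insert_of_notMem, card_singleton]
      · simpa using b2.symm
      · simp only [mem_insert, mem_singleton, not_or]
        exact ⟨hjq.symm, hne2.symm⟩
      · simp only [mem_insert, mem_singleton, not_or]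
        exact ⟨a2.symm, hij, hne1.symm⟩
    have hc := (hA _ hsub hcard).2 (by
      intro a ha
      simp only [mem_insert, mem_singleton] at ha ⊢
      rcases ha with rfl | rfl | rfl | rfl
      · exact Or.inr (Or.inl rfl)
      · exact Or.inl a3
      · exact Or.inr (Or.inr (Or.inr rfl))
      · exact Or.inr (Or.inr (Or.inl b3)))
    exact ⟨S.mono hsub hB (hc i (by simp) j (by simp)), S.mono hsub hB (hc i (by simp) (q i) (by simp))⟩
  intro i hi j hj
  by_cases hij : i = j
  · rw [hij]; exact S.refl hB hj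
  by_cases hjq : j = q i
  · obtain ⟨l, hl, hl'⟩ := exists_mem_four (n := 3) (B := B) (by omega) {i, q i}
      (lt_of_le_of_lt Finset.card_le_two (by omega))
    simp only [mem_insert, mem_singleton, not_or] at hl'
    rw [hjq]
    exact (key i hi l hl (fun e => hl'.1 e.symm) hl'.2).2
  · exact (key i hi j hj hij hjq).1

end Conn

/-! ### The involutions -/

/-- In the branch (L) the involutions of the frame are different. -/
theorem zz_injective {ι : Type u} [Fintype ι] {K : ι → Subgroup G} (f : IFrm Om K) (lem : Lem Om)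
    (h3 : 3 ≤ Fintype.card ι) (h : ∀ k, f.data.KL (univ.erase k)) : Function.Injective fun i => zz (K i) := by
  intro i j hij
  by_contra hne
  obtain ⟨k, -, hk⟩ := exists_mem_four (B := (univ : Finset ι)) (n := 3) (by rw [card_univ]; exact h3) {i, j}
    (lt_of_le_of_lt Finset.card_le_two (by omega))
  simp only [mem_insert, mem_singleton, not_or] at hk
  have h1 := (h j).2.2 i (mem_erase.2 ⟨hne, mem_univ _⟩) k (mem_erase.2 ⟨hk.2, mem_univ _⟩)
    (fun e => hk.1 e.symm) i (by simp) k (by simp)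
  obtain ⟨-, -, h2⟩ : frel Om K {i, k} i k := h1
  have hz : zz (K i) = zz (K j) := hij
  have h4 : chn (TypeDet.OmIn Om (centralizer {zz (K i)})) (K i) (K k) := by
    refine chn_mono (T' := TypeDet.OmIn Om (centralizer {zz (K i)}))
      (fun L hL => ⟨hL.1, fun x hx => mem_centralizer_singleton_iff.2 ?_⟩) h2
    have h5 : cm L (K j) := hL.2 j (by
      simp only [mem_insert, mem_singleton, not_or]
      exact ⟨fun e => hne e.symm, fun e => hk.2 e.symm⟩)
    rw [hz]
    exact h5 x hx _ (zz_mem' _)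
  have h5 : K k = K i := lem.single (f.mem i) h4
  exact hk.1 (f.inj h5)

/-! ### Root groups and charts -/

section Dat

variable {F : Type} [Field F] [Fintype F] {p : ℕ} {ι : Type u} [Fintype ι] {K : ι → Subgroup G} {S : Sylow 2 G}

/-- Root groups for the frame. -/
theorem In.exists_dat (h : In Om F p K S) :
    ∃ X : ι → SignType → Subgroup G, Dat Om F K X ∧ ∀ i, Good p (X i 1) (zz (K i)) := by
  let e := fun i => (h.sl (K i) (h.frame.mem i)).some
  have hd : Dat Om F K (fun i s => if s = 1 then ParabSL2.root (e i) else ParabSL2.rootOp (e i)) := by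
    refine ⟨h.hyp, h.frame.mem, h.frame.comm, fun i => ⟨e i, if_pos rfl, if_neg (by decide)⟩⟩
  refine ⟨_, hd, fun i => h.good _ (h.frame.mem i) _ (hd.X_le i one_ne_zero) (hd.card_X i one_ne_zero)⟩

/-- An exact (T1)-piece containing a member of the frame has a chart for the characteristic of the frame. -/
theorem chart_of_tyPcE [CharP F p] {J : Subgroup G} (hJ : J ∈ Om)
    (e3 : Matrix.SpecialLinearGroup (Fin 2) F ≃* J) {τ : Nodes.Chart.Ty} {L : Subgroup G} (h : TyPcE Om τ L) (hi : J ≤ L) :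
    ∃ c : Chart Om p L, c.IsTy τ ∧ ((∀ r ∈ c.R, c.Z r = c.X r) ∨ ∃ n, τ = .C n) := by
  obtain ⟨-, -, -, p', c, kind, -, ⟨F', _, _, _, hsl⟩, zx⟩ := h
  obtain ⟨r, hr, g, hg, e1⟩ := c.om_conj J hJ hi
  obtain ⟨e2⟩ := hsl r hr
  have e4 : ↥(c.Z r ⊔ c.Z (-r)) ≃* ↥J :=
    ((c.Z r ⊔ c.Z (-r)).equivMapOfInjective (MulAut.conj g).toMonoidHom (MulAut.conj g).injective).trans
      (MulEquiv.subgroupCongr e1.symm)
  have hpp : p = p' := DispGen.char_eq (e3.trans (e4.symm.trans e2.symm))
  subst hpp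
  exact ⟨c, kind, zx⟩

theorem In.le_delta (h : In Om F p K S) {j k : ι} (hj : j ≠ k) : K j ≤ delta Om (K k) :=
  FrameClose.le_delta (h.frame.mem j) (h.frame.ne.2 hj) (h.frame.comm j k hj)

/-- Charts of the `Δ_k`. -/
theorem In.chart (h : In Om F p K S) [CharP F p] (h2 : 2 ≤ Fintype.card ι) {τ : Nodes.Chart.Ty} {k : ι}
    (ht : TyPcE Om τ (YA Om K (univ.erase k))) :
    ∃ c : Chart Om p (delta Om (K k)), c.IsTy τ ∧ ((∀ r ∈ c.R, c.Z r = c.X r) ∨ ∃ n, τ = .C n) := by
  have : Nontrivial ι := Fintype.one_lt_card_iff_nontrivial.1 (by omega)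
  obtain ⟨j, hj⟩ := exists_ne k
  rw [← delta_eq_YA h.hyp h.frame.mem] at ht
  obtain ⟨e⟩ := h.sl _ (h.frame.mem j)
  exact chart_of_tyPcE (h.frame.mem j) e ht (h.le_delta hj)

end Dat

/-! ### The branches -/

section Branches

variable {F : Type} [Field F] [Fintype F] {p : ℕ} [CharP F p] {ι : Type u} [Fintype ι] {K : ι → Subgroup G}
  {S : Sylow 2 G}

theorem In.prime (_h : In Om F p K S) : p.Prime := by
  obtain ⟨n, hp, -⟩ := FiniteField.card F p
  exact hp

theorem In.ne_two (h : In Om F p K S) : p ≠ 2 := by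
  obtain ⟨n, -, hn⟩ := FiniteField.card F p
  rintro rfl
  have h1 := h.odd
  rw [hn] at h1
  exact absurd h1 (by
    rw [Nat.not_odd_iff_even]
    exact (Nat.even_pow.2 ⟨even_two, n.2.ne'⟩))

/-- **Type `C_n`.** -/
theorem res_C (h : In Om F p K S) (h5 : 5 ≤ Fintype.card ι) (hL : ∀ k, h.frame.data.KL (univ.erase k)) {n : ℕ}
    (hn : n + 1 = Fintype.card ι) (ht : ∀ k, TyPcE Om (.C n) (YA Om K (univ.erase k))) : Res Om p K := by
  obtain ⟨X, D, hg⟩ := h.exists_dat
  have hz := zz_injective h.frame h.lem (by omega) hL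
  let σ : Fin (n + 1) ≃ ι := (finCongr hn).trans (Fintype.equivFin ι).symm
  have D' : Dat Om F (fun i => K (σ i)) (fun i => X (σ i)) :=
    ⟨D.hyp, fun i => D.mem _, fun i j hij => D.comm _ _ fun e => hij (σ.injective e), fun i => D.sl _⟩
  have hS : Set.range (fun i => K (σ i)) = OmS Om (S : Subgroup G) := by
    rw [← h.range]
    exact σ.surjective.range_comp K
  have hz' : Function.Injective fun i => zz (K (σ i)) := hz.comp σ.injective
  have hc : ∀ k, ∃ c : Chart Om p (delta Om (K (σ k))), c.IsTy (Nodes.Chart.Ty.C n) := fun k => by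
    obtain ⟨c, hc, -⟩ := h.chart (by omega) (ht (σ k))
    exact ⟨c, hc⟩
  have hp := h.prime
  have P := TypeCFin.par_of S D' h.odd (fun i => hg (σ i)) hS hz' hp h.ne_two (by omega) hc
    (Or.inl (by omega))
  obtain ⟨c, h1, h2, h3, h4⟩ := TypeCFin.output S D' h.odd (fun i => hg (σ i)) hS hz' hp h.ne_two (by omega)
    (fun i j => h.cls _ (D.mem _) _ (D.mem _)) hc P
  refine ⟨_, .C (n + 1), c, h1, ?_, ?_, Or.inr ⟨_, rfl⟩, fun i => ?_, fun i => ?_, h4⟩
  · exact (show 1 ≤ n + 1 by omega)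
  · exact (show 3 ≤ n + 1 by omega)
  · have := h2 (σ.symm i)
    rwa [Equiv.apply_symm_apply] at this
  · have := h3 (σ.symm i)
    rwa [Equiv.apply_symm_apply] at this

/-- **Type `E₇`.** -/
theorem res_E7 (h : In Om F p K S) (hι : Fintype.card ι = 7)
    (ht : ∀ k, TyPcE Om (.D 6) (YA Om K (univ.erase k))) : Res Om p K := by
  obtain ⟨X, D, hg⟩ := h.exists_dat
  obtain ⟨G0, c, h1, h2, h3, h4, h5⟩ := TypeEOut.typeE7 hι h.ne_two D h.frame.inj h.odd hg S h.range (fun l => by
    obtain ⟨c, hc, hc'⟩ := h.chart (by omega) (ht l)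
    refine ⟨c, hc, hc'.resolve_right ?_⟩
    rintro ⟨n, hn⟩
    exact absurd hn (by simp))
  exact ⟨G0, .E7, c, h1, trivial, by decide, Or.inl h2, h3, h4, h5⟩

/-- **Type `E₈`.** -/
theorem res_E8 (h : In Om F p K S) (hι : Fintype.card ι = 8)
    (ht : ∀ k, TyPcE Om .E7 (YA Om K (univ.erase k))) : Res Om p K := by
  obtain ⟨X, D, hg⟩ := h.exists_dat
  obtain ⟨G0, c, h1, h2, h3, h4, h5⟩ := TypeEOut.typeE8 hι h.ne_two D h.frame.inj h.odd hg S h.range (fun l => by
    obtain ⟨c, hc, hc'⟩ := h.chart (by omega) (ht l)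
    refine ⟨c, hc, hc'.resolve_right ?_⟩
    rintro ⟨n, hn⟩
    exact absurd hn (by simp))
  exact ⟨G0, .E8, c, h1, trivial, by decide, Or.inl h2, h3, h4, h5⟩

end Branches

end Cfsg.Agent.Cit.DispMany
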