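import Cfsg.Agent.Cit.CoreManyB
import Cfsg.Agent.Cit.DispMany
import Cfsg.Agent.Cit.CloseOut

/-!
# The identification for `|Om(S)| ≥ 5`: `CoreManyB.DispStmt` from the dispatcher

* `in_of_ex` : `DispMany.In`;
* `hasPieces_of_res` : `DispMany.Res` implies `HasPieces` (connected commuting graph);
* `dispStmt_of` : `DispStmt` from the branches `A n` (`ResA`) and `O` (`ResO`).
-/

set_option autoImplicit false
set_option linter.style.haveILetI false

namespace Cfsg.Agent.Cit.DispEnd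

open Subgroup Finset Classical Cfsg Cfsg.Agent.Cit Cfsg.Agent.Cit.TypeDet Cfsg.Agent.Cit.PieceG
open Cfsg.Agent.Cit.ExLocal Cfsg.Agent.Cit.ExOut Cfsg.Agent.Cit.ExactChart Cfsg.Agent.Cit.CoreManyB
open Cfsg.Agent.Cit.DispMany

universe u

/-- the branch of type `A n` -/
def ResA : Prop := ∀ (G : Type u) [Group G] [Finite G] (Om : Set (Subgroup G)), MinS Om → LB Om → CorTwo Om →
  ∀ (p : ℕ) (F : Type) [Field F] [Fintype F], CharP F p →
  ∀ (S : Sylow 2 G) (ι : Type u) [Fintype ι] (K : ι → Subgroup G) (h : DispMany.In Om F p K S),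
    5 ≤ Fintype.card ι → (∀ k, h.frame.data.KL (univ.erase k)) → ∀ n, (n + 1) / 2 + 1 = Fintype.card ι →
    (∀ k, TyPcE Om (.A n) (YA Om K (univ.erase k))) → Res Om p K

/-- the branch `O` (types `B n`, `D n`) -/
def ResO : Prop := ∀ (G : Type u) [Group G] [Finite G] (Om : Set (Subgroup G)), MinS Om → LB Om → CorTwo Om →
  ∀ (p : ℕ) (F : Type) [Field F] [Fintype F], CharP F p →
  ∀ (S : Sylow 2 G) (ι : Type u) [Fintype ι] (K : ι → Subgroup G) (h : DispMany.In Om F p K S),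
    5 ≤ Fintype.card ι → Even (Fintype.card ι) → ∀ q : ι → ι, h.frame.data.OutO q →
    ((∃ n, 2 * (n / 2) + 2 = Fintype.card ι ∧ ∀ k, TyPcE Om (.B n) (YA Om K ((univ.erase k).erase (q k)))) ∨
      ∃ n, 2 * (n / 2) + 2 = Fintype.card ι ∧ ∀ k, TyPcE Om (.D n) (YA Om K ((univ.erase k).erase (q k)))) →
    Res Om p K

variable {G : Type u} [Group G] [Finite G] {Om : Set (Subgroup G)} {p : ℕ} {F : Type} [Field F] [Fintype F]
  {ι : Type u} [Fintype ι] {K : ι → Subgroup G} {S : Sylow 2 G}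

theorem in_of_ex (ms : MinS Om) (b : LB Om) (x : EX Om p F) (f : IFrm Om K)
    (hr : Set.range K = OmS Om (S : Subgroup G)) : DispMany.In Om F p K S where
  hyp := ms.hyp
  cls J hJ L hL := by
    obtain ⟨g, hg⟩ := ms.cls J hJ L hL
    exact ⟨g, hg.symm⟩
  lem := ManyGlue.lem_of_lb b
  frame := f
  range := hr
  odd := x.odd
  sl := x.sl
  good := x.good

/-- **`HasPieces` from the output of the dispatcher** -/
theorem hasPieces_of_res (ms : MinS Om) (b : LB Om) (hC : Conn Om) (x : EX Om p F) (f : IFrm Om K)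
    (hne : Nonempty ι) (h : Res Om p K) : HasPieces Om := by
  obtain ⟨G0, τ, c, h1, h2, h3, h4, h5, h6, -⟩ := h
  obtain ⟨i⟩ := hne
  exact CloseOut.hasPieces_of_conn ms b.core c τ h1 h2 h3 ⟨F, inferInstance, inferInstance, x.char, x.sl⟩ h4
    (f.mem i) (h5 i) (h6 i) hC

/-- **`DispStmt` from the branches** -/
theorem dispStmt_of (hA : ResA.{u}) (hO : ResO.{u}) : DispStmt.{u} := by
  intro G _ _ Om ms b c2 hC p F _ _ x S ι _ K f hr h5 ho X _ _
  haveI := x.char
  have h := in_of_ex (S := S) ms b x f hr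
  refine hasPieces_of_res ms b hC x f (Fintype.card_pos_iff.1 (by omega)) ?_
  rcases ho with ⟨hL, ⟨n, hn, ht⟩ | ⟨n, hn, ht⟩⟩ | ⟨h8, ht⟩ | ⟨h7, ht⟩ | ⟨hev, q, hq, ht⟩
  · exact hA G Om ms b c2 p F x.char S ι K h h5 hL n hn ht
  · exact res_C h h5 hL hn ht
  · exact res_E8 h h8 fun k => (ht k).2
  · exact res_E7 h h7 fun k => (ht k).2
  · exact hO G Om ms b c2 p F x.char S ι K h h5 hev q hq ht

end Cfsg.Agent.Cit.DispEnd
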