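import Mathlib
import Cfsg.Agent.Cit.FrameProv
import Cfsg.Agent.Cit.FrameOfFr
import Cfsg.Agent.Cit.NodeGlue
import Cfsg.Agent.Nodes.OppDec
import Cfsg.Agent.Nodes.ZRel

/-!
# Comparison of two charts with a common frame: group level

`c₁ : Chart Om p L₁`, `c₂ : Chart Om p L₂` adapted to the same frame, `e` a sign vector with
`XX e`, `XX (-e)` contained in `L₁` and `L₂`.

* `false_of_one_two` : at most one root of `c₁` with signs `e`, two orthogonal classical roots of `c₂` with signs `e`;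
* `false_of_two_three` : at most two roots of `c₁` with signs `e`, root groups of order `q`; three roots `x, y, w` of `c₂`
  with signs `e`, `x ⊥ y` classical.
-/

set_option autoImplicit false
set_option linter.unusedSectionVars false

namespace Cfsg.Agent.Cit.FourCmp

open CoxeterSystem Cfsg.Agent.ChevalleyStructure.CoxeterGeom Cfsg.Agent.Tits.Roots Cfsg.Agent.Tits.Core
  Cfsg.Agent.Nodes.BNOf Cfsg.Agent.Nodes.Coroot Cfsg.Agent.Nodes.Chart
  Cfsg.Agent.Cit.FrameSign Cfsg.Agent.Cit.NodeGlue Cfsg.Agent.Cit.FrameOf Cfsg.Agent.Cit.FrameProv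
open Subgroup

section RankOne

variable {G : Type*} [Group G] {p : ℕ}

/-- opposite root elements do not commute -/
theorem eq_one_of_comm {X Xn : Subgroup G} (r : RankOne p X Xn) (h0 : X ⊓ Xn = ⊥) {u a : G} (hu : u ∈ X)
    (ha : a ∈ Xn) (hc : u * a = a * u) (ha1 : a ≠ 1) : u = 1 := by
  obtain ⟨x, hx, y, hy, h1, -⟩ := r.mu a ha ha1
  rw [onto_iff_cj] at h1
  have h2 : x * a * y * (y⁻¹ * u * y) * (x * a * y)⁻¹ ∈ Nodes.Reps.cj (x * a * y) X :=
    Nodes.Reps.conj_mem_cj.2 (X.mul_mem (X.mul_mem (X.inv_mem hy) hu) hy)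
  have e : x * a * y * (y⁻¹ * u * y) * (x * a * y)⁻¹ = x * u * x⁻¹ := by
    calc x * a * y * (y⁻¹ * u * y) * (x * a * y)⁻¹ = x * (a * u) * a⁻¹ * x⁻¹ := by group
      _ = x * (u * a) * a⁻¹ * x⁻¹ := by rw [hc]
      _ = x * u * x⁻¹ := by group
  rw [e, h1] at h2
  have h3 : x * u * x⁻¹ ∈ X ⊓ Xn := ⟨X.mul_mem (X.mul_mem hx hu) (X.inv_mem hx), h2⟩
  rw [h0, mem_bot] at h3
  exact conj_eq_one_iff.1 h3

end RankOne

theorem ne_neg {I W : Type*} [Fintype I] [DecidableEq I] [Group W] {M : CoxeterMatrix I} {cs : CoxeterSystem M W}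
    {A : I → I → ℤ} {h : IsCartan M A} {x : I → ℤ} (hx : IsRoot cs h x) : x ≠ -x := by
  intro h0
  apply hx.ne_zero
  funext i
  have := congrFun h0 i
  rw [Pi.neg_apply] at this
  rw [Pi.zero_apply]
  omega

section Main

variable {G : Type*} [Group G] [Finite G] {Om : Set (Subgroup G)} {ι : Type*} {F : Type*} [Field F] [Fintype F]
  {p : ℕ} {K : ι → Subgroup G} {X : ι → SignType → Subgroup G}

/-- the roots of an adapted chart with the signs `e` -/
def SR {L : Subgroup G} (K : ι → Subgroup G) (c : Chart Om p L) (g : ι → c.I → ℤ) (e : ι → SignType) :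
    Set (c.I → ℤ) := {x | IsRoot c.cs c.h x ∧ ∀ i, K i ≤ L → SignType.sign (cpr c.cs c.h x (g i)) = e i}

/-- an adapted chart of `L` with everything needed for the comparison -/
structure Ad (X : ι → SignType → Subgroup G) (K : ι → Subgroup G) (L : Subgroup G) (c : Chart Om p L)
    (g : ι → c.I → ℤ) (e : ι → SignType) : Prop where
  adapted : Adapted K X c g
  out : ∀ i, ¬ K i ≤ L → ∀ a ∈ L, ∀ b ∈ K i, a * b = b * a
  zero : ∀ i, ¬ K i ≤ L → e i = 0
  le : XX (QF K X) e ≤ L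
  le' : XX (QF K X) (-e) ≤ L
  ex : ∃ k, K k ≤ L ∧ e k ≠ 0

variable {L : Subgroup G} {c : Chart Om p L} {g : ι → c.I → ℤ} {e : ι → SignType}

theorem Ad.neg (A : Ad X K L c g e) : Ad X K L c g (-e) where
  adapted := A.adapted
  out := A.out
  zero i hi := by rw [Pi.neg_apply, A.zero i hi, neg_zero]
  le := A.le'
  le' := by rw [neg_neg]; exact A.le
  ex := by
    obtain ⟨k, h1, h2⟩ := A.ex
    refine ⟨k, h1, ?_⟩
    rw [Pi.neg_apply]
    intro h
    apply h2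
    rw [← neg_neg (e k), h]
    decide

theorem neg_mem_SR (A : Ad X K L c g e) {x : c.I → ℤ} (hx : x ∈ SR K c g e) : -x ∈ SR K c g (-e) := by
  refine ⟨hx.1.neg, fun i hi => ?_⟩
  rw [cpr_neg c.cs c.h _ (c.cls.root _ (A.adapted.mem i hi)), Left.sign_neg, hx.2 i hi, Pi.neg_apply]

theorem mem_SR_neg (A : Ad X K L c g e) {x : c.I → ℤ} (hx : x ∈ SR K c g (-e)) : -x ∈ SR K c g e := by
  have h1 := neg_mem_SR A.neg hx
  rwa [neg_neg] at h1

/-- the sign group is generated by the root groups with the given signs -/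
theorem Ad.XX_eq [CharP F p] [Finite ι] (D : Dat Om F K X) (hF : Odd (Fintype.card F))
    (hg : ∀ i, Good p (X i 1) (zz (K i))) (A : Ad X K L c g e) :
    XX (QF K X) e = RGD.Sup c.X (SR K c g e) := by
  have Fr := frame_of D hF hg
  have C := chartOn_of_adapted c D hF hg A.adapted A.out
  obtain ⟨k, hk, hk'⟩ := A.ex
  have h1 := C.XX_eq Fr (e := e) (fun i hi => A.zero i hi) A.le (i₀ := k) hk hk'
  rw [h1]
  congr 1
  ext x
  constructor
  · rintro ⟨h2, h3⟩
    refine ⟨h2, fun i hi => ?_⟩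
    rw [← ellOf_apply c.cs c.h (c.cls.root _ (A.adapted.mem i hi))]
    exact h3 i hi
  · rintro ⟨h2, h3⟩
    refine ⟨h2, fun i hi => ?_⟩
    rw [ellOf_apply c.cs c.h (c.cls.root _ (A.adapted.mem i hi))]
    exact h3 i hi

theorem Ad.X_le_XX [CharP F p] [Finite ι] (D : Dat Om F K X) (hF : Odd (Fintype.card F))
    (hg : ∀ i, Good p (X i 1) (zz (K i))) (A : Ad X K L c g e) {x : c.I → ℤ} (hx : x ∈ SR K c g e) :
    c.X x ≤ XX (QF K X) e := by
  rw [A.XX_eq D hF hg]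
  exact RGD.le_Sup hx

variable {L₁ : Subgroup G} {c₁ : Chart Om p L₁} {g₁ : ι → c₁.I → ℤ}
  {L₂ : Subgroup G} {c₂ : Chart Om p L₂} {g₂ : ι → c₂.I → ℤ}

/-- **one root against two orthogonal classical roots** -/
theorem false_of_one_two [CharP F p] [Finite ι] (D : Dat Om F K X) (hF : Odd (Fintype.card F))
    (hg : ∀ i, Good p (X i 1) (zz (K i))) (A₁ : Ad X K L₁ c₁ g₁ e) (A₂ : Ad X K L₂ c₂ g₂ e) {s : c₁.I → ℤ}
    (hs : IsRoot c₁.cs c₁.h s) (h1 : ∀ x ∈ SR K c₁ g₁ e, x = s) {x y : c₂.I → ℤ} (hx : x ∈ c₂.R) (hy : y ∈ c₂.R)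
    (hxe : x ∈ SR K c₂ g₂ e) (hye : y ∈ SR K c₂ g₂ e) (ho : form c₂.cs c₂.h y x = 0) : False := by
  have e1 : XX (QF K X) e ≤ c₁.X s := by
    rw [A₁.XX_eq D hF hg]
    exact RGD.Sup_le fun z hz => by rw [h1 z hz]
  have e2 : XX (QF K X) (-e) ≤ c₁.X (-s) := by
    rw [A₁.neg.XX_eq D hF hg]
    refine RGD.Sup_le fun z hz => ?_
    have h2 := h1 _ (mem_SR_neg A₁ hz)
    rw [← h2, neg_neg]
  have hyn := Nodes.ClsNorm.neg_mem c₂.cls hy
  obtain ⟨a, ha, ha1⟩ := Nodes.Perp.Z_ne_bot' c₂.cls hx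
  obtain ⟨b, hb, hb1⟩ := Nodes.Perp.Z_ne_bot' c₂.cls hyn
  have hb2 := c₂.cls.le _ hyn hb
  have ha' : a ∈ c₁.X s := e1 (A₂.X_le_XX D hF hg hxe (c₂.cls.le x hx ha))
  have hb' : b ∈ c₁.X (-s) := e2 (A₂.neg.X_le_XX D hF hg (neg_mem_SR A₂ hye) hb2)
  have hc : b * a = a * b := c₂.cls.cent x hx (-y) (c₂.cls.root _ hyn) (by rw [form_neg_left, ho, neg_zero]) b hb2 a ha
  exact ha1 (eq_one_of_comm (rankOne_of_rgd c₁.cls.rgd hs)
    (Nodes.OppDec.X_inf_X c₁.cls.rgd hs hs.neg (ne_neg hs)) ha' hb' hc.symm hb1)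

/-- all classical root groups of an adapted chart have order `|F|` -/
theorem card_Z (D : Dat Om F K X) (hA : Adapted K X c g) {k : ι} (hk : K k ≤ L) {r : c.I → ℤ} (hr : r ∈ c.R) :
    Nat.card (c.Z r) = Fintype.card F := by
  obtain ⟨w, hw⟩ := c.trans (g k) (hA.mem k hk) r hr
  obtain ⟨n, hn⟩ := Nodes.Reps.exists_rp c.cs c.cls.rgd.nsys w
  have h1 := Nodes.ClsNorm.conj_Z c.cls hn (hA.mem k hk)
  rw [hw, ← h1, hA.pos k hk, ← D.card_X k one_ne_zero]
  exact Nat.card_congr ((X k 1).equivMapOfInjective (MulAut.conj n).toMonoidHom (MulAut.conj n).injective).toEquiv.symm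

/-- **two roots against three** -/
theorem false_of_two_three [CharP F p] [Finite ι] (D : Dat Om F K X) (hF : Odd (Fintype.card F))
    (hg : ∀ i, Good p (X i 1) (zz (K i))) (A₁ : Ad X K L₁ c₁ g₁ e) (A₂ : Ad X K L₂ c₂ g₂ e)
    {s t : c₁.I → ℤ} (h1 : ∀ x ∈ SR K c₁ g₁ e, x = s ∨ x = t)
    (hs : Nat.card (c₁.X s) ≤ Fintype.card F) (ht : Nat.card (c₁.X t) ≤ Fintype.card F)
    (hcm : ∀ a ∈ XX (QF K X) e, ∀ b ∈ XX (QF K X) e, a * b = b * a)
    {x y w r : c₂.I → ℤ} (hx : x ∈ c₂.R) (hy : y ∈ c₂.R) (hxe : x ∈ SR K c₂ g₂ e) (hye : y ∈ SR K c₂ g₂ e)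
    (hwe : w ∈ SR K c₂ g₂ e) (hxy : x ≠ y) (hr : r ∈ c₂.R) (hrw : form c₂.cs c₂.h w r = 0)
    (hrx : form c₂.cs c₂.h x r ≠ 0) (hry : form c₂.cs c₂.h y r ≠ 0) (hx1 : x ≠ r) (hx2 : x ≠ -r) (hy1 : y ≠ r)
    (hy2 : y ≠ -r) : False := by
  have hxX := A₂.X_le_XX D hF hg hxe
  have hyX := A₂.X_le_XX D hF hg hye
  have hwX := A₂.X_le_XX D hF hg hwe
  have hZx : c₂.Z x ≤ XX (QF K X) e := (c₂.cls.le x hx).trans hxX
  have hZy : c₂.Z y ≤ XX (QF K X) e := (c₂.cls.le y hy).trans hyX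
  -- upper bound
  have hup : Nat.card (XX (QF K X) e) ≤ Fintype.card F * Fintype.card F := by
    by_cases hcase : c₁.X s ≤ XX (QF K X) e ∧ c₁.X t ≤ XX (QF K X) e
    · obtain ⟨hs', ht'⟩ := hcase
      let f := MonoidHom.noncommCoprod (c₁.X s).subtype (c₁.X t).subtype
        (fun a b => hcm a (hs' a.2) b (ht' b.2))
      have hrg : f.range = c₁.X s ⊔ c₁.X t := by
        have h3 := MonoidHom.noncommCoprod_range (c₁.X s).subtype (c₁.X t).subtype
          (fun a b => hcm a (hs' a.2) b (ht' b.2))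
        rw [Subgroup.range_subtype, Subgroup.range_subtype] at h3
        exact h3
      have h2 : XX (QF K X) e ≤ f.range := by
        rw [A₁.XX_eq D hF hg, hrg]
        refine RGD.Sup_le fun z hz => ?_
        rcases h1 z hz with rfl | rfl
        · exact le_sup_left
        · exact le_sup_right
      calc Nat.card (XX (QF K X) e) ≤ Nat.card f.range := Subgroup.card_le_of_le h2
        _ ≤ Nat.card (c₁.X s × c₁.X t) := Nat.card_le_card_of_surjective f.rangeRestrict f.rangeRestrict_surjective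
        _ = Nat.card (c₁.X s) * Nat.card (c₁.X t) := Nat.card_prod _ _
        _ ≤ _ := Nat.mul_le_mul hs ht
    · have hbd : ∀ v : c₁.I → ℤ, (∀ x ∈ SR K c₁ g₁ e, x = v) → Nat.card (c₁.X v) ≤ Fintype.card F →
          Nat.card (XX (QF K X) e) ≤ Fintype.card F * Fintype.card F := by
        intro v hv hvc
        have h2 : XX (QF K X) e ≤ c₁.X v := by
          rw [A₁.XX_eq D hF hg]
          exact RGD.Sup_le fun z hz => by rw [hv z hz]
        refine (Subgroup.card_le_of_le h2).trans (hvc.trans ?_)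
        exact Nat.le_mul_of_pos_left _ Fintype.card_pos
      by_cases hsS : s ∈ SR K c₁ g₁ e
      · by_cases htS : t ∈ SR K c₁ g₁ e
        · exact absurd ⟨A₁.X_le_XX D hF hg hsS, A₁.X_le_XX D hF hg htS⟩ hcase
        · refine hbd s (fun x hx => (h1 x hx).resolve_right ?_) hs
          rintro rfl; exact htS hx
      · refine hbd t (fun x hx => (h1 x hx).resolve_left ?_) ht
        rintro rfl; exact hsS hx
  -- lower bound
  let f := MonoidHom.noncommCoprod (c₂.Z x).subtype (c₂.Z y).subtype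
    (fun a b => hcm a (hZx a.2) b (hZy b.2))
  have hinj : Function.Injective f := by
    rw [injective_iff_map_eq_one]
    rintro ⟨a, b⟩ hab
    have h2 : (a : G) * b = 1 := hab
    have h3 : (a : G) ∈ c₂.X x ⊓ c₂.X y := by
      refine ⟨c₂.cls.le x hx a.2, ?_⟩
      rw [eq_inv_of_mul_eq_one_left h2]
      exact (c₂.X y).inv_mem (c₂.cls.le y hy b.2)
    rw [Nodes.OppDec.X_inf_X c₂.cls.rgd (c₂.cls.root x hx) (c₂.cls.root y hy) hxy, mem_bot] at h3
    rw [h3, one_mul] at h2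
    ext
    · exact h3
    · exact h2
  have hle : f.range ≤ XX (QF K X) e := by
    have h3 := MonoidHom.noncommCoprod_range (c₂.Z x).subtype (c₂.Z y).subtype
      (fun a b => hcm a (hZx a.2) b (hZy b.2))
    rw [Subgroup.range_subtype, Subgroup.range_subtype] at h3
    have h4 : f.range = c₂.Z x ⊔ c₂.Z y := h3
    rw [h4]
    exact sup_le hZx hZy
  obtain ⟨k, hk, -⟩ := A₂.ex
  have hcard : Nat.card f.range = Fintype.card F * Fintype.card F := by
    rw [← Nat.card_congr (MonoidHom.ofInjective hinj).toEquiv, Nat.card_prod, card_Z D A₂.adapted hk hx,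
      card_Z D A₂.adapted hk hy]
  have hr1 : f.range = XX (QF K X) e := Subgroup.eq_of_le_of_card_ge hle (by rw [hcard]; exact hup)
  -- the third root
  apply Nodes.StdConn.X_ne_bot c₂.cls hwe.1
  rw [Subgroup.eq_bot_iff_forall]
  intro v hv
  have hv1 : v ∈ f.range := by rw [hr1]; exact hwX hv
  obtain ⟨⟨a, b⟩, hab⟩ := hv1
  have hab' : (a : G) * b = v := hab
  have i1 := c₂.cls.z_inv r hr x (c₂.cls.root x hx) hx1 hx2 hrx a (c₂.cls.le x hx a.2)
  have i2 := c₂.cls.z_inv r hr y (c₂.cls.root y hy) hy1 hy2 hry b (c₂.cls.le y hy b.2)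
  have i3 := Nodes.ZRel.z_cent_of_orth c₂.cls hr hwe.1 hrw hv
  have i4 := c₂.cls.z_sq r hr
  apply Nodes.ZRel.eq_one_of_inv c₂.cls c₂.prime c₂.odd hwe.1 hv
  have h5 : c₂.z r * v * c₂.z r = v := by rw [← i3, mul_assoc, i4, mul_one]
  calc v = c₂.z r * v * c₂.z r := h5.symm
    _ = c₂.z r * a * (c₂.z r * c₂.z r) * b * c₂.z r := by rw [i4, mul_one, ← hab']; group
    _ = (c₂.z r * a * c₂.z r) * (c₂.z r * b * c₂.z r) := by group
    _ = (a : G)⁻¹ * (b : G)⁻¹ := by rw [i1, i2]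
    _ = ((a : G) * b)⁻¹ := by rw [hcm a (hZx a.2) b (hZy b.2), mul_inv_rev]
    _ = v⁻¹ := by rw [hab']

end Main

end Cfsg.Agent.Cit.FourCmp
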