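import Mathlib
import Cfsg.Agent.Nodes.KindA
import Cfsg.Agent.Nodes.KindB
import Cfsg.Agent.Nodes.KindC
import Cfsg.Agent.Nodes.SimplyLaced

/-!
# Roots with given signs on three or four orthogonal classical roots (project CIT, `|Om(S)| = 4`)

`SS cs h P g e` : the roots `x` with `sign ⟨x, (g i)^∨⟩ = e i` for all `i` with `P i`.

* `two_of_slaced` : simply laced, `e` positive on two of the `g i`, zero on the others: if there is a root there are two
  orthogonal ones;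
* `A5` : type `A 5`: there is one, at most two; `C3` : type `C 3`: exactly one; `B4` : type `B 4`: at most one;
  `B5` : type `B 5`: none or three special ones.
-/

set_option autoImplicit false
set_option linter.unusedSectionVars false

namespace Cfsg.Agent.Cit.FourRoots

open CoxeterSystem Cfsg.Agent.ChevalleyStructure.CoxeterGeom Cfsg.Agent.Tits.Roots Cfsg.Agent.Tits.Core
  Cfsg.Agent.Nodes.Coroot

/-- the sign vector -/
def ev (i : Fin 4) : SignType := if i = 2 ∨ i = 3 then 1 else 0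

section General

variable {I W : Type*} [Fintype I] [DecidableEq I] [Group W] {M : CoxeterMatrix I}
  (cs : CoxeterSystem M W) {A : I → I → ℤ} (h : IsCartan M A) {ι : Type*}

/-- the roots with given signs on a family of roots -/
def SS (P : ι → Prop) (g : ι → I → ℤ) (e : ι → SignType) : Set (I → ℤ) :=
  {x | IsRoot cs h x ∧ ∀ i, P i → SignType.sign (cpr cs h x (g i)) = e i}

/-- at most one root -/
def Am1 (S : Set (I → ℤ)) : Prop := ∃ s, IsRoot cs h s ∧ ∀ x ∈ S, x = s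

/-- at most two roots -/
def Am2 (S : Set (I → ℤ)) : Prop := ∃ s t, IsRoot cs h s ∧ IsRoot cs h t ∧ ∀ x ∈ S, x = s ∨ x = t

/-- two orthogonal classical roots -/
def Two [Fintype W] (R S : Set (I → ℤ)) : Prop := ∃ x ∈ R, ∃ y ∈ R, x ∈ S ∧ y ∈ S ∧ form cs h y x = 0

/-- three roots -/
def Three [Fintype W] (R S : Set (I → ℤ)) : Prop := ∃ x ∈ R, ∃ y ∈ R, ∃ w ∈ S, ∃ r ∈ R, x ∈ S ∧ y ∈ S ∧ x ≠ y ∧
  form cs h w r = 0 ∧ form cs h x r ≠ 0 ∧ form cs h y r ≠ 0 ∧ x ≠ r ∧ x ≠ -r ∧ y ≠ r ∧ y ≠ -r ∧ form cs h y x = 0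

variable {cs h}

theorem Three.two [Fintype W] {R S : Set (I → ℤ)} (H : Three cs h R S) : Two cs h R S := by
  obtain ⟨x, hx, y, hy, w, -, r, -, h1, h2, -, -, -, -, -, -, -, -, h3⟩ := H
  exact ⟨x, hx, y, hy, h1, h2, h3⟩

theorem isRoot_rep (w : W) {x : I → ℤ} (hx : IsRoot cs h x) : IsRoot cs h (rep cs h w x) := by
  obtain ⟨u, i, rfl⟩ := hx
  exact ⟨w * u, i, by rw [rep_mul_apply]⟩

theorem rep_rep_inv (u : W) (x : I → ℤ) : rep cs h u (rep cs h u⁻¹ x) = x := by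
  have := rep_inv_apply cs h u⁻¹ x
  rwa [inv_inv] at this

theorem mem_SS_rep [Finite W] {P : ι → Prop} {g : ι → I → ℤ} {e : ι → SignType} (hg : ∀ i, P i → IsRoot cs h (g i))
    (w : W) {x : I → ℤ} :
    rep cs h w x ∈ SS cs h P (fun i => rep cs h w (g i)) e ↔ x ∈ SS cs h P g e := by
  constructor
  · rintro ⟨h1, h2⟩
    refine ⟨?_, fun i hi => ?_⟩
    · have := isRoot_rep w⁻¹ h1
      rwa [rep_inv_apply] at this
    · rw [← h2 i hi]
      simp only
      rw [cpr_rep cs h w x (hg i hi)]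
  · rintro ⟨h1, h2⟩
    refine ⟨isRoot_rep w h1, fun i hi => ?_⟩
    rw [← h2 i hi]
    simp only
    rw [cpr_rep cs h w x (hg i hi)]

/-- simply laced: with `x` also the orthogonal root `g k + g l - x` has the signs -/
theorem two_of_slaced [Fintype W] (h4 : ∀ i j, M i j ≠ 4) (h6 : ∀ i j, M i j ≠ 6) {P : Fin 4 → Prop}
    {g : Fin 4 → I → ℤ} (h2 : P 2) (h3 : P 3) (hg : ∀ i, P i → IsRoot cs h (g i))
    (ho : ∀ i, P i → ∀ j, P j → i ≠ j → form cs h (g i) (g j) = 0) (hne : (SS cs h P g ev).Nonempty) {R : Set (I → ℤ)}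
    (hR : ∀ x, IsRoot cs h x → x ∈ R) : Two cs h R (SS cs h P g ev) := by
  obtain ⟨x, hx, hxs⟩ := hne
  have n2 : (1 : SignType) ≠ 0 := by decide
  have key : ∀ i j, P i → P j → i ≠ j → ev i = 1 → ev j = 1 → cpr cs h x (g i) = 1 := by
    intro i j hi hj hij e1 e2
    have s1 := hxs i hi
    rw [e1] at s1
    have s2 := hxs j hj
    rw [e2] at s2
    rw [sign_eq_one_iff] at s1 s2
    have o : cpr cs h (g i) (g j) = 0 := (cpr_zero_iff cs h _ (hg j hj)).2 (ho i hi j hj hij)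
    have a1 : x ≠ g i := by
      rintro rfl
      omega
    have a2 : x ≠ -g i := by
      rintro rfl
      rw [cpr_neg cs h _ (hg j hj), o] at s2
      omega
    have := Nodes.SimplyLaced.abs_cpr_le_one cs h h4 h6 hx (hg i hi) a1 a2
    rw [abs_le] at this
    omega
  have c2 : cpr cs h x (g 2) = 1 := key 2 3 h2 h3 (by decide) (by decide) (by decide)
  have c3 : cpr cs h x (g 3) = 1 := key 3 2 h3 h2 (by decide) (by decide) (by decide)
  have hy : IsRoot cs h (g 2 + g 3 - x) := by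
    have h7 := isRoot_refl cs h hx (hg 2 h2)
    have h8 := isRoot_refl cs h h7 (hg 3 h3)
    rw [Nodes.KindBase.cpr_sub cs h _ _ (hg 3 h3), cpr_smul cs h _ _ (hg 3 h3), c2, c3,
      (cpr_zero_iff cs h (g 2) (hg 3 h3)).2 (ho 2 h2 3 h3 (by decide))] at h8
    have h9 := h8.neg
    have e : -(x - (1 : ℤ) • g 2 - (1 - 1 * 0 : ℤ) • g 3) = g 2 + g 3 - x := by module
    rwa [e] at h9
  have hyc : ∀ i, P i → cpr cs h (g 2 + g 3 - x) (g i) = cpr cs h (g 2) (g i) + cpr cs h (g 3) (g i) - cpr cs h x (g i) := by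
    intro i hi
    rw [Nodes.KindBase.cpr_sub cs h _ _ (hg i hi), cpr_add cs h _ _ (hg i hi)]
  refine ⟨x, hR x hx, g 2 + g 3 - x, hR _ hy, ⟨hx, hxs⟩, ⟨hy, fun i hi => ?_⟩, ?_⟩
  · rw [hyc i hi]
    by_cases i2 : i = 2
    · subst i2
      rw [cpr_self cs h (hg 2 h2), (cpr_zero_iff cs h (g 3) (hg 2 h2)).2 (ho 3 h3 2 h2 (by decide)), c2]
      decide
    by_cases i3 : i = 3
    · subst i3
      rw [cpr_self cs h (hg 3 h3), (cpr_zero_iff cs h (g 2) (hg 3 h3)).2 (ho 2 h2 3 h3 (by decide)), c3]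
      decide
    · have e0 : ev i = 0 := if_neg (by rintro (e | e); exacts [i2 e, i3 e])
      have s0 := hxs i hi
      rw [e0, sign_eq_zero_iff] at s0
      rw [e0, s0, (cpr_zero_iff cs h (g 3) (hg i hi)).2 (ho 3 h3 i hi (Ne.symm i3)),
        (cpr_zero_iff cs h (g 2) (hg i hi)).2 (ho 2 h2 i hi (Ne.symm i2))]
      decide
  · rw [← cpr_zero_iff cs h _ hx, Nodes.KindBase.cpr_sub cs h _ _ hx, cpr_add cs h _ _ hx, cpr_self cs h hx,
      Nodes.SimplyLaced.cpr_symm cs h h4 h6 (hg 2 h2) hx, Nodes.SimplyLaced.cpr_symm cs h h4 h6 (hg 3 h3) hx, c2, c3]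
    norm_num

end General

/-! ### Type `A 5` -/

section A

open Nodes.RootsA Nodes.KindA
open Cfsg.Agent.LieRecognition.BNCox (cA cA_apply)

variable {n : ℕ} {W : Type*} [Group W] [Finite W] {cs : CoxeterSystem (cA n) W} {A : Fin n → Fin n → ℤ}
  {h : IsCartan (cA n) A}

/-- type `A n`: there are exactly two roots -/
theorem typeA {P : Fin 4 → Prop} {g : Fin 4 → Fin n → ℤ} (h2 : P 2) (h3 : P 3) (hg : ∀ i, P i → IsRoot cs h (g i))
    (ho : ∀ i, P i → ∀ j, P j → i ≠ j → cpr cs h (g i) (g j) = 0) :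
    (SS cs h P g ev).Nonempty ∧ Am2 cs h (SS cs h P g ev) := by
  obtain ⟨a, b, hab, e2⟩ := exists_of_isRoot cs h (hg 2 h2)
  obtain ⟨c, d, hcd, e3⟩ := exists_of_isRoot cs h (hg 3 h3)
  have o := ho 2 h2 3 h3 (by decide)
  rw [e2, e3, cpr_eq_zero_iff cs h hab hcd] at o
  obtain ⟨o1, o2, o3, o4⟩ := o
  constructor
  · refine ⟨rtA a d, isRoot_rtA cs h o2, fun i hi => ?_⟩
    by_cases i2 : i = 2
    · subst i2
      rw [e2, cpr_rtA cs h _ _ hab, if_pos rfl, if_neg hab, if_neg o2.symm, if_neg o4.symm]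
      decide
    by_cases i3 : i = 3
    · subst i3
      rw [e3, cpr_rtA cs h _ _ hcd, if_neg o1, if_neg o2, if_neg hcd.symm, if_pos rfl]
      decide
    · have e0 : ev i = 0 := if_neg (by rintro (e | e); exacts [i2 e, i3 e])
      obtain ⟨s, t, hst, e⟩ := exists_of_isRoot cs h (hg i hi)
      have p1 := ho 2 h2 i hi (Ne.symm i2)
      have p2 := ho 3 h3 i hi (Ne.symm i3)
      rw [e2, e, cpr_eq_zero_iff cs h hab hst] at p1
      rw [e3, e, cpr_eq_zero_iff cs h hcd hst] at p2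
      rw [e0, e, sign_eq_zero_iff, cpr_eq_zero_iff cs h o2 hst]
      exact ⟨p1.1, p1.2.1, p2.2.2.1, p2.2.2.2⟩
  · refine ⟨rtA a d, rtA c b, isRoot_rtA cs h o2, isRoot_rtA cs h o3.symm, ?_⟩
    rintro x ⟨hx, hxs⟩
    obtain ⟨u, v, huv, rfl⟩ := exists_of_isRoot cs h hx
    have s2 := hxs 2 h2
    have s3 := hxs 3 h3
    have v2 : ev 2 = 1 := by decide
    have v3 : ev 3 = 1 := by decide
    rw [e2, cpr_rtA cs h _ _ hab, v2, sign_eq_one_iff] at s2
    rw [e3, cpr_rtA cs h _ _ hcd, v3, sign_eq_one_iff] at s3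
    have t2 : u = a ∨ v = b := by
      by_contra hcon
      push Not at hcon
      rw [if_neg hcon.1, if_neg hcon.2] at s2
      split_ifs at s2 <;> omega
    have t3 : u = c ∨ v = d := by
      by_contra hcon
      push Not at hcon
      rw [if_neg hcon.1, if_neg hcon.2] at s3
      split_ifs at s3 <;> omega
    rcases t2 with rfl | rfl
    · rcases t3 with rfl | rfl
      · exact absurd rfl o1
      · exact Or.inl rfl
    · rcases t3 with rfl | rfl
      · exact Or.inr rfl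
      · exact absurd rfl o4

end A

/-! ### Types `B` and `C` -/

section BC

open Nodes.TypeC Nodes.TypeCForm Nodes.KindBC

theorem c3_aux : ∀ a b u v : Fin 3 × Bool, a.1 ≠ b.1 → SignType.sign ((wt u + wt v) a.1 * sn a) = 1 →
    SignType.sign ((wt u + wt v) b.1 * sn b) = 1 → ∀ k, (wt u + wt v) k = (wt a + wt b) k := by
  decide

theorem c3_aux2 : ∀ a b : Fin 3 × Bool, a.1 ≠ b.1 →
    SignType.sign ((wt a + wt b) a.1 * sn a) = 1 ∧ SignType.sign ((wt a + wt b) b.1 * sn b) = 1 := by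
  decide

theorem c3_aux3 : ∀ a b c : Fin 3 × Bool, a.1 ≠ b.1 → c.1 ≠ a.1 → c.1 ≠ b.1 →
    SignType.sign ((wt a + wt b) c.1 * sn c) = 0 := by
  decide

section C

variable {W : Type*} [Group W] [Finite W] {cs : CoxeterSystem (CoxeterMatrix.B 3) W}

/-- type `C 3`: there is exactly one root -/
theorem typeC {P : Fin 4 → Prop} {g : Fin 4 → Fin 3 → ℤ} (h2 : P 2) (h3 : P 3) (hg : ∀ i, P i → g i ∈ RC 3)
    (ho : ∀ i, P i → ∀ j, P j → i ≠ j → cpr cs (isCartan 3) (g i) (g j) = 0) :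
    (SS cs (isCartan 3) P g ev).Nonempty ∧ Am1 cs (isCartan 3) (SS cs (isCartan 3) P g ev) := by
  choose f hf using fun i hi => mem_RC.1 (hg i hi)
  have hne : ∀ i j (hi : P i) (hj : P j), i ≠ j → (f i hi).1 ≠ (f j hj).1 := by
    intro i j hi hj hij he
    have o := ho i hi j hj hij
    rw [hf i hi, hf j hj, cpr_rt_self, ee_rt, Pi.add_apply, ← he, wt_apply_self] at o
    rcases sn_eq_one_or (f i hi) with e1 | e1 <;> rcases sn_eq_one_or (f j hj) with e2 | e2 <;> rw [e1, e2] at o <;>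
      norm_num at o
  have hab := hne 2 3 h2 h3 (by decide)
  constructor
  · refine ⟨rt (f 2 h2) (f 3 h3), isRoot_rt cs (Or.inl hab), fun i hi => ?_⟩
    rw [hf i hi, cpr_rt_self, ee_rt]
    by_cases i2 : i = 2
    · subst i2
      exact (c3_aux2 _ _ hab).1
    by_cases i3 : i = 3
    · subst i3
      exact (c3_aux2 _ _ hab).2
    · have e0 : ev i = 0 := if_neg (by rintro (e | e); exacts [i2 e, i3 e])
      rw [e0]
      exact c3_aux3 _ _ _ hab (hne i 2 hi h2 i2) (hne i 3 hi h3 i3)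
  · refine ⟨rt (f 2 h2) (f 3 h3), isRoot_rt cs (Or.inl hab), ?_⟩
    rintro x ⟨hx, hxs⟩
    obtain ⟨u, v, -, rfl⟩ := exists_rt hx
    have s2 := hxs 2 h2
    have s3 := hxs 3 h3
    rw [hf 2 h2, cpr_rt_self, ee_rt] at s2
    rw [hf 3 h3, cpr_rt_self, ee_rt] at s3
    apply eq_rt
    rw [ee_rt]
    funext k
    exact c3_aux _ _ u v hab s2 s3 k

end C

open Nodes.KindB

set_option maxRecDepth 100000 in
set_option maxHeartbeats 4000000 in
theorem b4_aux : ∀ k l : Fin (2 * (4 / 2)), k ≠ l → ∀ a b : Fin 4 × Bool,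
    (∀ j : Fin (2 * (4 / 2)), SignType.sign ((wt a + wt b) (i0 (n := 4) j) + sgn (n := 4) j *
      (wt a + wt b) (i1 (n := 4) j)) = if j = k ∨ j = l then 1 else 0) →
    ∀ m : Fin 4, (wt a + wt b) m = (wt (i0 (n := 4) k, true) + wt (i0 (n := 4) k, true)) m := by
  decide

set_option maxRecDepth 100000 in
set_option maxHeartbeats 4000000 in
theorem b5_aux : ∀ k l : Fin (2 * (5 / 2)), k ≠ l → ∀ a b : Fin 5 × Bool,
    (∀ j : Fin (2 * (5 / 2)), SignType.sign ((wt a + wt b) (i0 (n := 5) j) + sgn (n := 5) j *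
      (wt a + wt b) (i1 (n := 5) j)) = if j = k ∨ j = l then 1 else 0) →
    i0 (n := 5) k = i0 (n := 5) l := by
  decide

/-- the three roots of type `B 5` -/
def b5v (k : Fin (2 * (5 / 2))) (m : Fin 3) : Fin 5 → ℤ :=
  match m with
  | 0 => wt (i0 (n := 5) k, true) + wt ((4 : Fin 5), true)
  | 1 => wt (i0 (n := 5) k, true) + wt ((4 : Fin 5), false)
  | 2 => wt (i0 (n := 5) k, true) + wt (i0 (n := 5) k, true)

set_option maxRecDepth 100000 in
set_option maxHeartbeats 4000000 in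
theorem b5_aux2 : ∀ k l : Fin (2 * (5 / 2)), k ≠ l → i0 (n := 5) k = i0 (n := 5) l →
    ∀ (m : Fin 3) (j : Fin (2 * (5 / 2))), SignType.sign (b5v k m (i0 (n := 5) j) + sgn (n := 5) j *
      b5v k m (i1 (n := 5) j)) = if j = k ∨ j = l then 1 else 0 := by
  decide

theorem b5_aux3 : ∀ k : Fin (2 * (5 / 2)), i0 (n := 5) k ≠ 4 ∧
    ∃ m : Fin (2 * (5 / 2)), i0 (n := 5) m ≠ i0 (n := 5) k := by
  decide

theorem b5_aux4 : ∀ i m : Fin 5, i ≠ 4 → m ≠ 4 → m ≠ i →
    ((wt (i, true) + wt ((4 : Fin 5), true)) 4 = 1 ∧ (wt (i, true) + wt ((4 : Fin 5), true)) m = 0 ∧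
      (wt (i, true) + wt ((4 : Fin 5), true)) i = 1) ∧
    ((wt (i, true) + wt ((4 : Fin 5), false)) 4 = -1 ∧ (wt (i, true) + wt ((4 : Fin 5), false)) m = 0 ∧
      (wt (i, true) + wt ((4 : Fin 5), false)) i = 1) ∧
    ((wt (i, true) + wt (i, true)) 4 = 0 ∧ (wt (i, true) + wt (i, true)) m = 0) ∧
    (wt ((4 : Fin 5), true) + wt (m, true)) i = 0 := by
  decide

section B

variable {n : ℕ} {W : Type*} [Group W] [Finite W] {cs : CoxeterSystem (CoxeterMatrix.B n) W}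

/-- moving the frame into standard position -/
theorem exists_std (hn : 2 * (n / 2) = 4) {P : Fin 4 → Prop} {g : Fin 4 → Fin n → ℤ} (hP : ∀ i, P i)
    (hg : ∀ i, g i ∈ RB n) (ho : ∀ i j, i ≠ j → cpr cs (isCartan n) (g i) (g j) = 0) :
    ∃ (w : W) (k l : Fin (2 * (n / 2))), k ≠ l ∧ ∀ x, x ∈ SS cs (isCartan n) P g ev ↔
      IsRoot cs (isCartan n) (rep cs (isCartan n) w x) ∧ ∀ j : Fin (2 * (n / 2)),
        SignType.sign (ee (rep cs (isCartan n) w x) (i0 j) + sgn j * ee (rep cs (isCartan n) w x) (i1 j)) =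
          if j = k ∨ j = l then 1 else 0 := by
  obtain ⟨w, f, hf⟩ := (frameSys cs (n := n)).exists_move g hg ho
  have hinj : Function.Injective f := by
    intro i j hij
    by_contra hne
    have o := ho i j hne
    rw [← cpr_rep cs _ w _ (root_RB cs (hg j)), hf i, hf j, hij, cpr_self cs _ (isRoot_fr cs _)] at o
    norm_num at o
  have hsurj : Function.Surjective f := by
    have hc : Fintype.card (Fin 4) = Fintype.card (Fin (2 * (n / 2))) := by
      rw [Fintype.card_fin, Fintype.card_fin, hn]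
    exact ((Fintype.bijective_iff_injective_and_card f).2 ⟨hinj, hc⟩).2
  refine ⟨w, f 2, f 3, fun e => absurd (hinj e) (by decide), fun x => ?_⟩
  rw [← mem_SS_rep (fun i _ => root_RB cs (hg i)) w]
  refine and_congr Iff.rfl ⟨fun H j => ?_, fun H i _ => ?_⟩
  · obtain ⟨i, rfl⟩ := hsurj j
    have h5 := H i (hP i)
    beta_reduce at h5
    rw [hf i, cpr_fr] at h5
    rw [h5]
    unfold ev
    simp only [hinj.eq_iff]
  · have h5 := H (f i)
    simp only [hinj.eq_iff] at h5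
    simp only
    rw [hf i, cpr_fr, h5]
    rfl

end B

/-- type `B 4`: there is at most one root -/
theorem typeB4 {W : Type*} [Group W] [Finite W] {cs : CoxeterSystem (CoxeterMatrix.B 4) W} {P : Fin 4 → Prop}
    {g : Fin 4 → Fin 4 → ℤ} (hP : ∀ i, P i) (hg : ∀ i, g i ∈ RB 4)
    (ho : ∀ i j, i ≠ j → cpr cs (isCartan 4) (g i) (g j) = 0) :
    Am1 cs (isCartan 4) (SS cs (isCartan 4) P g ev) := by
  obtain ⟨w, k, l, hkl, H⟩ := exists_std (n := 4) rfl hP hg ho
  refine ⟨rep cs (isCartan 4) w⁻¹ (rt (i0 k, true) (i0 k, true)), isRoot_rep _ (isRoot_rt cs (Or.inr rfl)), ?_⟩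
  intro x hx
  obtain ⟨h1, h2⟩ := (H x).1 hx
  obtain ⟨a, b, -, e⟩ := exists_rt h1
  have h3 : rep cs (isCartan 4) w x = rt (i0 k, true) (i0 k, true) := by
    rw [e]
    apply eq_rt
    rw [ee_rt]
    funext m
    refine b4_aux k l hkl a b (fun j => ?_) m
    rw [← h2 j, e, ee_rt]
  rw [← h3, rep_inv_apply]

/-- type `B 5`: none or three roots -/
theorem typeB5 {W : Type*} [Group W] [Fintype W] {cs : CoxeterSystem (CoxeterMatrix.B 5) W} {P : Fin 4 → Prop}
    {g : Fin 4 → Fin 5 → ℤ} (hP : ∀ i, P i) (hg : ∀ i, g i ∈ RB 5)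
    (ho : ∀ i j, i ≠ j → cpr cs (isCartan 5) (g i) (g j) = 0) (hne : (SS cs (isCartan 5) P g ev).Nonempty) :
    Three cs (isCartan 5) (RB 5) (SS cs (isCartan 5) P g ev) := by
  obtain ⟨w, k, l, hkl, H⟩ := exists_std (n := 5) rfl hP hg ho
  obtain ⟨x, hx⟩ := hne
  obtain ⟨h1, h2⟩ := (H x).1 hx
  obtain ⟨a, b, -, e⟩ := exists_rt h1
  have hi : i0 k = i0 l := by
    refine b5_aux k l hkl a b (fun j => ?_)
    rw [← h2 j, e, ee_rt]
  obtain ⟨hk4, m, hm⟩ := b5_aux3 k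
  have hS : ∀ (v : Fin 3) (a b : Fin 5 × Bool), Ok a b → wt a + wt b = b5v k v →
      rep cs (isCartan 5) w⁻¹ (rt a b) ∈ SS cs (isCartan 5) P g ev := by
    intro v a b hab e1
    rw [H, rep_rep_inv, ee_rt, e1]
    exact ⟨isRoot_rt cs hab, b5_aux2 k l hkl hi v⟩
  have hR : ∀ a b : Fin 5 × Bool, a.1 ≠ b.1 → rep cs (isCartan 5) w⁻¹ (rt a b) ∈ RB 5 := fun a b hab =>
    act_RB cs (rt_mem_RB hab) _
  have hrr : ∀ a b : Fin 5 × Bool, a.1 ≠ b.1 → IsRoot cs (isCartan 5) (rt a b) := fun a b hab =>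
    isRoot_rt cs (Or.inl hab)
  obtain ⟨hm4, -⟩ := b5_aux3 m
  obtain ⟨⟨x4, xm, xi⟩, ⟨y4, ym, yi⟩, ⟨w4, wm⟩, ri⟩ := b5_aux4 (i0 k) (i0 m) hk4 hm4 hm
  have hr : IsRoot cs (isCartan 5) (rt ((4 : Fin 5), true) (i0 m, true)) := hrr _ _ (Ne.symm hm4)
  have hx' : IsRoot cs (isCartan 5) (rt (i0 k, true) ((4 : Fin 5), true)) := hrr _ _ hk4
  have hs : ∀ (i : Fin 5), sn (i, true) = 1 := fun i => rfl
  -- not equal to `± r`
  have hn : ∀ a b : Fin 5 × Bool, (wt a + wt b) (i0 k) = 1 → rt a b ≠ rt ((4 : Fin 5), true) (i0 m, true) ∧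
      rt a b ≠ -rt ((4 : Fin 5), true) (i0 m, true) := by
    intro a b hab
    constructor
    · intro e5
      have h6 := congrFun (congrArg ee e5) (i0 k)
      rw [ee_rt, ee_rt, hab, ri] at h6
      norm_num at h6
    · intro e5
      have h6 := congrFun (congrArg ee e5) (i0 k)
      rw [ee_neg, ee_rt, ee_rt, hab, Pi.neg_apply, ri] at h6
      norm_num at h6
  have hcr : ∀ a b : Fin 5 × Bool, cpr cs (isCartan 5) (rt a b) (rt ((4 : Fin 5), true) (i0 m, true)) =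
      (wt a + wt b) 4 + (wt a + wt b) (i0 m) := by
    intro a b
    rw [cpr_rt cs _ (a := ((4 : Fin 5), true)) (b := (i0 m, true)) (Ne.symm hm4), ee_rt, hs, hs, mul_one, mul_one]
  refine ⟨_, hR _ _ hk4, _, hR (i0 k, true) ((4 : Fin 5), false) hk4, _, hS 2 _ _ (Or.inr rfl) rfl, _,
    hR ((4 : Fin 5), true) (i0 m, true) (Ne.symm hm4), hS 0 _ _ (Or.inl hk4) rfl, hS 1 _ _ (Or.inl hk4) rfl,
    ?_, ?_, ?_, ?_, ?_, ?_, ?_, ?_, ?_⟩
  · intro e5
    have h6 := congrFun (congrArg ee (rep_injective_apply cs (isCartan 5) w⁻¹ e5)) 4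
    rw [ee_rt, ee_rt, x4, y4] at h6
    norm_num at h6
  · rw [form_rep, ← cpr_zero_iff cs _ _ hr, hcr, w4, wm, add_zero]
  · rw [form_rep, Ne, ← cpr_zero_iff cs _ _ hr, hcr, x4, xm]
    norm_num
  · rw [form_rep, Ne, ← cpr_zero_iff cs _ _ hr, hcr, y4, ym]
    norm_num
  · exact fun e5 => (hn _ _ xi).1 (rep_injective_apply cs (isCartan 5) w⁻¹ e5)
  · intro e5
    rw [← map_neg] at e5
    exact (hn _ _ xi).2 (rep_injective_apply cs (isCartan 5) w⁻¹ e5)
  · exact fun e5 => (hn _ _ yi).1 (rep_injective_apply cs (isCartan 5) w⁻¹ e5)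
  · intro e5
    rw [← map_neg] at e5
    exact (hn _ _ yi).2 (rep_injective_apply cs (isCartan 5) w⁻¹ e5)
  · rw [form_rep, ← cpr_zero_iff cs _ _ hx', cpr_rt cs _ (a := (i0 k, true)) (b := ((4 : Fin 5), true)) hk4, ee_rt,
      hs, hs, yi, y4]
    norm_num

end BC

end Cfsg.Agent.Cit.FourRoots
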