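import Mathlib
import Cfsg.Agent.Cit.TypeESix

/-!
Type `F₄` (project CIT, (3b), helper82's frame method #5999): `F₄(q)` and `²E₆(q)`.

Frame `K 0, …, K 3`; chart of `Δ_0` of type `C₃` containing the frame roots `g 1, g 2, g 3` (long) and the short roots
`x₃ = (g₂ - g₃)/2`, `x₄ = (g₁ - g₂)/2`; chart of `Γ_01` of type `B₄` containing all frame roots and the root
`y = (g₀ - g₁ - g₂ - g₃)/2`.  Nodes (in the order `0, 1, 2, 3` of `CoxeterMatrix.F₄`): `x₄, x₃, g₃, y`.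

* `Inp` : the input; `Inp.comm_y`, `Inp.comm_Kk` : the commutator relations.
-/

set_option autoImplicit false
set_option linter.unusedSectionVars false

namespace Cfsg.Agent.Cit.TypeF4

open CoxeterSystem Cfsg.Agent.ChevalleyStructure.CoxeterGeom Cfsg.Agent.Tits.Roots Cfsg.Agent.Tits.Core
  Cfsg.Agent.Nodes.Reps Cfsg.Agent.Nodes.BNOf Cfsg.Agent.Nodes.Coroot
  Cfsg.Agent.Cit.FrameSign Cfsg.Agent.Cit.NodeGlue Cfsg.Agent.Cit.TypeESix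

universe u

variable {G : Type u} [Group G] {K : Fin 4 → Subgroup G} {z : Fin 4 → G} {X Q : Fin 4 → SignType → Subgroup G}
  {p : ℕ}
  {I₁ W₁ : Type*} [Fintype I₁] [DecidableEq I₁] [Group W₁] {M₁ : CoxeterMatrix I₁} {cs₁ : CoxeterSystem M₁ W₁}
  {A₁ : I₁ → I₁ → ℤ} {h₁ : IsCartan M₁ A₁} {L₁ T₁ : Subgroup G} {n₁ : I₁ → G} {X₁ : (I₁ → ℤ) → Subgroup G}
  {ell₁ : Fin 4 → (I₁ → ℤ) →+ ℤ} {g₁ : Fin 4 → I₁ → ℤ}
  {I₂ W₂ : Type*} [Fintype I₂] [DecidableEq I₂] [Group W₂] {M₂ : CoxeterMatrix I₂} {cs₂ : CoxeterSystem M₂ W₂}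
  {A₂ : I₂ → I₂ → ℤ} {h₂ : IsCartan M₂ A₂} {L₂ T₂ : Subgroup G} {n₂ : I₂ → G} {X₂ : (I₂ → ℤ) → Subgroup G}
  {ell₂ : Fin 4 → (I₂ → ℤ) →+ ℤ} {g₂ : Fin 4 → I₂ → ℤ}

/-- The input for type `F₄`. -/
structure Inp (K : Fin 4 → Subgroup G) (z : Fin 4 → G) (X Q : Fin 4 → SignType → Subgroup G) (p : ℕ)
    (cs₁ : CoxeterSystem M₁ W₁) (h₁ : IsCartan M₁ A₁) (L₁ T₁ : Subgroup G) (n₁ : I₁ → G)
    (X₁ : (I₁ → ℤ) → Subgroup G) (ell₁ : Fin 4 → (I₁ → ℤ) →+ ℤ) (g₁ : Fin 4 → I₁ → ℤ)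
    (cs₂ : CoxeterSystem M₂ W₂) (h₂ : IsCartan M₂ A₂) (L₂ T₂ : Subgroup G) (n₂ : I₂ → G)
    (X₂ : (I₂ → ℤ) → Subgroup G) (ell₂ : Fin 4 → (I₂ → ℤ) →+ ℤ) (g₂ : Fin 4 → I₂ → ℤ)
    (x₃ x₄ : I₁ → ℤ) (y : I₂ → ℤ) : Prop where
  F : Frame K z X Q
  C₁ : FrChart K X Q {i | i ≠ 0} L₁ cs₁ h₁ p T₁ n₁ X₁ ell₁ g₁
  C₂ : FrChart K X Q Set.univ L₂ cs₂ h₂ p T₂ n₂ X₂ ell₂ g₂
  r3 : IsRoot cs₁ h₁ x₃
  r4 : IsRoot cs₁ h₁ x₄
  ry : IsRoot cs₂ h₂ y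
  p31 : cpr cs₁ h₁ x₃ (g₁ 1) = 0
  p32 : cpr cs₁ h₁ x₃ (g₁ 2) = 1
  p33 : cpr cs₁ h₁ x₃ (g₁ 3) = -1
  p41 : cpr cs₁ h₁ x₄ (g₁ 1) = 1
  p42 : cpr cs₁ h₁ x₄ (g₁ 2) = -1
  p43 : cpr cs₁ h₁ x₄ (g₁ 3) = 0
  y0 : cpr cs₂ h₂ y (g₂ 0) = 1
  y1 : cpr cs₂ h₂ y (g₂ 1) = -1
  y2 : cpr cs₂ h₂ y (g₂ 2) = -1
  y3 : cpr cs₂ h₂ y (g₂ 3) = -1

/-- the signs of the last node -/
def e3 : Fin 4 → SignType := ![1, -1, -1, -1]

namespace Inp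

variable {x₃ x₄ : I₁ → ℤ} {y : I₂ → ℤ}
  (S : Inp K z X Q p cs₁ h₁ L₁ T₁ n₁ X₁ ell₁ g₁ cs₂ h₂ L₂ T₂ n₂ X₂ ell₂ g₂ x₃ x₄ y)

include S

theorem sign_y [Finite W₂] (i : Fin 4) : SignType.sign (cpr cs₂ h₂ y (g₂ i)) = e3 i := by
  match i with
  | 0 => rw [S.y0]; rfl
  | 1 => rw [S.y1]; rfl
  | 2 => rw [S.y2]; rfl
  | 3 => rw [S.y3]; rfl

theorem comm12 [Finite G] [Finite W₁] [Finite W₂] {e e' : Fin 4 → SignType} (he : ∀ i, e i ≠ 0)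
    {x : I₁ → ℤ} (hx : IsRoot cs₁ h₁ x) (he1 : e' 0 = 0)
    (hx' : ∀ i, i ≠ 0 → SignType.sign (cpr cs₁ h₁ x (g₁ i)) = e' i)
    {v : I₂ → ℤ} (hv : IsRoot cs₂ h₂ v) (hve : ∀ i, SignType.sign (cpr cs₂ h₂ v (g₂ i)) = e i)
    {i : Fin 4} (hi : e' i = e i) :
    ∀ a ∈ X₁ x, ∀ b ∈ X₂ v, a * b = b * a := by
  intro a ha b hb
  have h1 : a ∈ XX Q e' := S.C₁.le_XX S.F (fun j hj => by
    have : j = 0 := by by_contra hne; exact hj hne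
    rw [this, he1]) hx (fun j hj => hx' j hj) ha
  have h2 : b ∈ XX Q e := S.C₂.le_XX S.F (fun j hj => absurd (Set.mem_univ j) hj) hv (fun j _ => hve j) hb
  exact (S.F.commute_of_zero (i := i) (j := 0) (he i) hi (he 0) he1 h2 h1).symm

/-- the four commutator relations between a node of the first chart and the last node -/
theorem comm_y [Finite G] [Finite W₁] [Finite W₂] {x : I₁ → ℤ} (hx : IsRoot cs₁ h₁ x) {k l : Fin 4}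
    (hk0 : k ≠ 0) (hl0 : l ≠ 0) (hkl : k ≠ l) (hxk : cpr cs₁ h₁ x (g₁ k) = 1) (hxl : cpr cs₁ h₁ x (g₁ l) = -1)
    (hxo : ∀ i, i ≠ 0 → i ≠ k → i ≠ l → cpr cs₁ h₁ x (g₁ i) = 0) :
    ∀ a ∈ X₁ x ⊔ X₁ (-x), ∀ b ∈ X₂ y ⊔ X₂ (-y), a * b = b * a := by
  have hr1 : ∀ i, i ≠ 0 → IsRoot cs₁ h₁ (g₁ i) := fun i hi => S.C₁.root i hi
  have hr2 : ∀ i, IsRoot cs₂ h₂ (g₂ i) := fun i => S.C₂.root i (Set.mem_univ i)
  -- the signs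
  let e : Fin 4 → SignType := fun i => if i = k then 1 else if i = l then -1 else 0
  have e0 : e 0 = 0 := by simp [e, hk0.symm, hl0.symm]
  have ek : e k = 1 := if_pos rfl
  have el : e l = -1 := by simp [e, hkl.symm]
  have hxe : ∀ i, i ≠ 0 → SignType.sign (cpr cs₁ h₁ x (g₁ i)) = e i := by
    intro i hi
    by_cases h0 : i = k
    · rw [h0, hxk, ek]; rfl
    · by_cases h1 : i = l
      · rw [h1, hxl, el]; rfl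
      · rw [hxo i hi h0 h1, sign_zero]
        simp only [e]
        rw [if_neg h0, if_neg h1]
  have hxe' : ∀ i, i ≠ 0 → SignType.sign (cpr cs₁ h₁ (-x) (g₁ i)) = (fun i => -(e i)) i := by
    intro i hi
    rw [cpr_neg cs₁ h₁ x (hr1 i hi)]
    have := hxe i hi
    rw [Left.sign_neg, this]
  have hf : ∀ i, e3 i ≠ 0 := by decide
  have hf' : ∀ i, (fun i => -(e3 i)) i ≠ 0 := by decide
  have hy := S.sign_y
  have hy' : ∀ i, SignType.sign (cpr cs₂ h₂ (-y) (g₂ i)) = (fun i => -(e3 i)) i := by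
    intro i
    rw [cpr_neg cs₂ h₂ y (hr2 i), Left.sign_neg, hy i]
  have h3 : ∀ i : Fin 4, i ≠ 0 → e3 i = -1 := by decide
  refine commute_sup ?_ ?_ ?_ ?_
  · exact S.comm12 hf hx e0 hxe S.ry hy (i := l) (by rw [el, h3 l hl0])
  · refine S.comm12 hf' hx e0 hxe S.ry.neg hy' (i := k) ?_
    rw [ek, h3 k hk0, neg_neg]
  · refine S.comm12 (e' := fun i => -(e i)) hf hx.neg (by simp [e0]) hxe' S.ry hy (i := k) ?_
    rw [ek, h3 k hk0]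
  · refine S.comm12 (e' := fun i => -(e i)) hf' hx.neg (by simp [e0]) hxe' S.ry.neg hy' (i := l) ?_
    rw [el, h3 l hl0]

theorem comm_y3 [Finite G] [Finite W₁] [Finite W₂] :
    ∀ a ∈ X₁ x₃ ⊔ X₁ (-x₃), ∀ b ∈ X₂ y ⊔ X₂ (-y), a * b = b * a :=
  S.comm_y S.r3 (k := 2) (l := 3) (by decide) (by decide) (by decide) S.p32 S.p33
    (fun i h0 h1 h2 => by
      have : i = 1 := by omega
      rw [this]; exact S.p31)

theorem comm_y4 [Finite G] [Finite W₁] [Finite W₂] :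
    ∀ a ∈ X₁ x₄ ⊔ X₁ (-x₄), ∀ b ∈ X₂ y ⊔ X₂ (-y), a * b = b * a :=
  S.comm_y S.r4 (k := 1) (l := 2) (by decide) (by decide) (by decide) S.p41 S.p42
    (fun i h0 h1 h2 => by
      have : i = 3 := by omega
      rw [this]; exact S.p43)

/-- nodes of the first chart commute with orthogonal frame members -/
theorem comm_Kk {x : I₁ → ℤ} (hx : IsRoot cs₁ h₁ x) {k : Fin 4} (hk : k ≠ 0) [Finite W₁]
    (h0 : cpr cs₁ h₁ x (g₁ k) = 0) :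
    ∀ a ∈ X₁ x ⊔ X₁ (-x), ∀ b ∈ X k 1 ⊔ X k (-1), a * b = b * a := by
  rw [← S.F.K_eq k]
  exact comm_of_le (S.C₁.le_K_centralizer hk hx h0)
    (S.C₁.le_K_centralizer hk hx.neg (by rw [cpr_neg cs₁ h₁ x (S.C₁.root k hk), h0, neg_zero]))

end Inp

end Cfsg.Agent.Cit.TypeF4
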