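import Mathlib
import Cfsg.Agent.Nodes.KindB
import Cfsg.Agent.Nodes.KindC

/-!
Root level part of the type `F₄` (project CIT, (3b)).

* `exists_C3` : `g 1, g 2, g 3` pairwise orthogonal long roots of `C₃`: the roots `x₃ = (g₂ - g₃)/2`, `x₄ = (g₁ - g₂)/2`,
  and `x₄, x₃, g 3` is a base;
* `exists_B4` : `g 0, …, g 3` a frame of `B₄` with `g 0`, `g 1` partners: the roots `y = (g₀ - g₁ - g₂ - g₃)/2` and
  `s = g₂ - g₃` (a short root of `B₄`), and `g 1, y, g 3, s` is a base.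
-/

set_option autoImplicit false
set_option linter.unusedSectionVars false

namespace Cfsg.Agent.Cit.TypeF4Roots

open CoxeterSystem Cfsg.Agent.ChevalleyStructure.CoxeterGeom Cfsg.Agent.Tits.Roots Cfsg.Agent.Tits.Core
  Cfsg.Agent.Nodes.Comb Cfsg.Agent.Nodes.SubComb Cfsg.Agent.Nodes.PosPair
  Cfsg.Agent.Nodes.Coroot Cfsg.Agent.Nodes.TypeC Cfsg.Agent.Nodes.TypeCForm Cfsg.Agent.Nodes.KindBC
  Cfsg.Agent.Nodes.KindBase

theorem wt_at {n : ℕ} (a : Fin n × Bool) (k : Fin n) : wt a k = if k = a.1 then sn a else 0 := by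
  rw [wt_apply, sn]

/-- The base of `C₃` attached to an orthogonal frame. -/
theorem exists_C3 {W : Type*} [Group W] [Finite W] (cs : CoxeterSystem (CoxeterMatrix.B 3) W)
    {g : Fin 4 → Fin 3 → ℤ} (hg : ∀ i, i ≠ 0 → g i ∈ RC 3)
    (ho : ∀ i j, i ≠ 0 → j ≠ 0 → i ≠ j → cpr cs (isCartan 3) (g i) (g j) = 0) :
    ∃ x₃ x₄ : Fin 3 → ℤ, IsRoot cs (isCartan 3) x₃ ∧ IsRoot cs (isCartan 3) x₄ ∧
      cpr cs (isCartan 3) x₃ (g 1) = 0 ∧ cpr cs (isCartan 3) x₃ (g 2) = 1 ∧ cpr cs (isCartan 3) x₃ (g 3) = -1 ∧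
      cpr cs (isCartan 3) x₄ (g 1) = 1 ∧ cpr cs (isCartan 3) x₄ (g 2) = -1 ∧ cpr cs (isCartan 3) x₄ (g 3) = 0 ∧
      ∀ i j : Fin 3, cpr cs (isCartan 3) ((![x₄, x₃, g 3] : Fin 3 → Fin 3 → ℤ) j)
        ((![x₄, x₃, g 3] : Fin 3 → Fin 3 → ℤ) i) = Nodes.TypeC.A 3 i j := by
  obtain ⟨a, ha⟩ := mem_RC.1 (hg 1 (by decide))
  obtain ⟨b, hb⟩ := mem_RC.1 (hg 2 (by decide))
  obtain ⟨c, hc⟩ := mem_RC.1 (hg 3 (by decide))
  have key : ∀ a b : Fin 3 × Bool, cpr cs (isCartan 3) (rt a a) (rt b b) = 0 → a.1 ≠ b.1 := by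
    intro a b h0 h1
    rw [cpr_rt_self, ee_rt, Pi.add_apply, wt_at, if_pos h1.symm] at h0
    rcases sn_eq_one_or a with h2 | h2 <;> rcases sn_eq_one_or b with h3 | h3 <;> rw [h2, h3] at h0 <;>
      norm_num at h0
  have hab : a.1 ≠ b.1 := key a b (by rw [← ha, ← hb]; exact ho 1 2 (by decide) (by decide) (by decide))
  have hac : a.1 ≠ c.1 := key a c (by rw [← ha, ← hc]; exact ho 1 3 (by decide) (by decide) (by decide))
  have hbc : b.1 ≠ c.1 := key b c (by rw [← hb, ← hc]; exact ho 2 3 (by decide) (by decide) (by decide))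
  have sa := sn_mul_self a
  have sb := sn_mul_self b
  have sc := sn_mul_self c
  have hbc' : b.1 ≠ (ng c).1 := hbc
  have hab' : a.1 ≠ (ng b).1 := hab
  have e31 : cpr cs (isCartan 3) (rt b (ng c)) (rt a a) = 0 := by
    rw [cpr_rt_self, ee_rt, Pi.add_apply, wt_at, wt_at, if_neg hab, if_neg (show a.1 ≠ (ng c).1 from hac)]; ring
  have e32 : cpr cs (isCartan 3) (rt b (ng c)) (rt b b) = 1 := by
    rw [cpr_rt_self, ee_rt, Pi.add_apply, wt_at, wt_at, if_pos rfl, if_neg hbc']; linarith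
  have e33 : cpr cs (isCartan 3) (rt b (ng c)) (rt c c) = -1 := by
    rw [cpr_rt_self, ee_rt, Pi.add_apply, wt_at, wt_at, if_neg hbc.symm, if_pos (show c.1 = (ng c).1 from rfl), sn_ng]
    linarith
  have e41 : cpr cs (isCartan 3) (rt a (ng b)) (rt a a) = 1 := by
    rw [cpr_rt_self, ee_rt, Pi.add_apply, wt_at, wt_at, if_pos rfl, if_neg hab']; linarith
  have e42 : cpr cs (isCartan 3) (rt a (ng b)) (rt b b) = -1 := by
    rw [cpr_rt_self, ee_rt, Pi.add_apply, wt_at, wt_at, if_neg hab.symm, if_pos (show b.1 = (ng b).1 from rfl), sn_ng]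
    linarith
  have e43 : cpr cs (isCartan 3) (rt a (ng b)) (rt c c) = 0 := by
    rw [cpr_rt_self, ee_rt, Pi.add_apply, wt_at, wt_at, if_neg hac.symm, if_neg (show c.1 ≠ (ng b).1 from hbc.symm)]
    ring
  have f33 : cpr cs (isCartan 3) (rt c c) (rt b (ng c)) = -2 := by
    rw [cpr_rt cs _ hbc', ee_rt, Pi.add_apply, Pi.add_apply, wt_at, wt_at, if_neg hbc,
      if_pos (show (ng c).1 = c.1 from rfl), sn_ng]
    linarith
  have f43 : cpr cs (isCartan 3) (rt c c) (rt a (ng b)) = 0 := by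
    rw [cpr_rt cs _ hab', ee_rt, Pi.add_apply, Pi.add_apply, wt_at, wt_at, if_neg hac,
      if_neg (show (ng b).1 ≠ c.1 from hbc)]
    ring
  have f34 : cpr cs (isCartan 3) (rt b (ng c)) (rt a (ng b)) = -1 := by
    rw [cpr_rt cs _ hab', ee_rt, Pi.add_apply, Pi.add_apply, wt_at, wt_at, wt_at, wt_at, if_neg hab,
      if_neg (show a.1 ≠ (ng c).1 from hac), if_pos (show (ng b).1 = b.1 from rfl),
      if_neg (show (ng b).1 ≠ (ng c).1 from hbc), sn_ng]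
    linarith
  have f34' : cpr cs (isCartan 3) (rt a (ng b)) (rt b (ng c)) = -1 := by
    rw [cpr_rt cs _ hbc', ee_rt, Pi.add_apply, Pi.add_apply, wt_at, wt_at, wt_at, wt_at, if_neg hab.symm,
      if_pos (show b.1 = (ng b).1 from rfl), if_neg (show (ng c).1 ≠ a.1 from hac.symm),
      if_neg (show (ng c).1 ≠ (ng b).1 from hbc.symm), sn_ng]
    linarith
  have r3 : IsRoot cs (isCartan 3) (rt b (ng c)) := isRoot_rt cs (Or.inl hbc')
  have r4 : IsRoot cs (isCartan 3) (rt a (ng b)) := isRoot_rt cs (Or.inl hab')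
  have rg : IsRoot cs (isCartan 3) (rt c c) := isRoot_rt cs (Or.inr rfl)
  refine ⟨rt b (ng c), rt a (ng b), r3, r4, ?_, ?_, ?_, ?_, ?_, ?_, ?_⟩
  · rw [ha]; exact e31
  · rw [hb]; exact e32
  · rw [hc]; exact e33
  · rw [ha]; exact e41
  · rw [hb]; exact e42
  · rw [hc]; exact e43
  · rw [hc]
    intro i j
    match i, j with
    | 0, 0 => exact cpr_self cs _ r4
    | 0, 1 => exact f34
    | 0, 2 => exact f43
    | 1, 0 => exact f34'
    | 1, 1 => exact cpr_self cs _ r3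
    | 1, 2 => exact f33
    | 2, 0 => exact e43
    | 2, 1 => exact e33
    | 2, 2 => exact cpr_self cs _ rg

theorem sn_or {n : ℕ} (a : Fin n × Bool) : sn a = 1 ∨ sn a = -1 := sn_eq_one_or a

theorem eq_or_ng {n : ℕ} {a b : Fin n × Bool} (h : a.1 = b.1) : a = b ∨ a = ng b := Nodes.KindB.eq_or_eq_ng h

theorem rt_ng_left {n : ℕ} (a b : Fin n × Bool) : rt (ng a) b = rt b (ng a) := rt_comm _ _

/-- Two orthogonal roots of `B_n` with the same support. -/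
theorem exists_common {n : ℕ} {W : Type*} [Group W] [Finite W] (cs : CoxeterSystem (CoxeterMatrix.B n) W)
    {a b a' b' : Fin n × Bool} (hab : a.1 ≠ b.1)
    (hs : (a'.1 = a.1 ∧ b'.1 = b.1) ∨ (a'.1 = b.1 ∧ b'.1 = a.1))
    (h0 : cpr cs (isCartan n) (rt a' b') (rt a b) = 0) :
    ∃ c d : Fin n × Bool, ((c.1 = a.1 ∧ d.1 = b.1) ∨ (c.1 = b.1 ∧ d.1 = a.1)) ∧ rt a b = rt c d ∧
      rt a' b' = rt c (ng d) := by
  have key : ∀ a' b' : Fin n × Bool, a'.1 = a.1 → b'.1 = b.1 → cpr cs (isCartan n) (rt a' b') (rt a b) = 0 →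
      ∃ c d : Fin n × Bool, ((c.1 = a.1 ∧ d.1 = b.1) ∨ (c.1 = b.1 ∧ d.1 = a.1)) ∧ rt a b = rt c d ∧
      rt a' b' = rt c (ng d) := by
    intro a' b' h1 h2 h0
    rw [cpr_rt cs _ hab, ee_rt, Pi.add_apply, Pi.add_apply] at h0
    have sa := sn_mul_self a
    have sb := sn_mul_self b
    rcases eq_or_ng h1 with rfl | rfl <;> rcases eq_or_ng h2 with rfl | rfl
    · exfalso
      rw [wt_apply_self, wt_apply_self, wt_apply_ne hab, wt_apply_ne hab.symm] at h0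
      linarith
    · exact ⟨a', b, Or.inl ⟨rfl, rfl⟩, rfl, rfl⟩
    · exact ⟨b', a, Or.inr ⟨rfl, rfl⟩, rt_comm _ _, rt_comm _ _⟩
    · exfalso
      rw [wt_ng, wt_ng, Pi.neg_apply, Pi.neg_apply, Pi.neg_apply, Pi.neg_apply, wt_apply_self, wt_apply_self,
        wt_apply_ne hab, wt_apply_ne hab.symm] at h0
      linarith
  rcases hs with ⟨h1, h2⟩ | ⟨h1, h2⟩
  · exact key a' b' h1 h2 h0
  · obtain ⟨c, d, h3, h4, h5⟩ := key b' a' h2 h1 (by rw [rt_comm b' a']; exact h0)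
    exact ⟨c, d, h3, h4, by rw [rt_comm a' b']; exact h5⟩

theorem sn_ne_zero {n : ℕ} (a : Fin n × Bool) : sn a ≠ 0 := by
  rcases sn_eq_one_or a with h | h <;> rw [h] <;> norm_num

/-- The roots attached to the frame `a + b, a - b, c + d, c - d` of `B₄`. -/
theorem B4_std {W : Type*} [Group W] [Finite W] (cs : CoxeterSystem (CoxeterMatrix.B 4) W)
    {g : Fin 4 → Fin 4 → ℤ} {a b c d : Fin 4 × Bool} (hab : a.1 ≠ b.1) (hac : a.1 ≠ c.1) (had : a.1 ≠ d.1)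
    (hbc : b.1 ≠ c.1) (hbd : b.1 ≠ d.1) (hcd : c.1 ≠ d.1) (h0 : g 0 = rt a b) (h1 : g 1 = rt a (ng b))
    (h2 : g 2 = rt c d) (h3 : g 3 = rt c (ng d)) :
    ∃ y s : Fin 4 → ℤ, y ∈ RB 4 ∧ IsRoot cs (isCartan 4) s ∧
      cpr cs (isCartan 4) y (g 0) = 1 ∧ cpr cs (isCartan 4) y (g 1) = -1 ∧ cpr cs (isCartan 4) y (g 2) = -1 ∧
      cpr cs (isCartan 4) y (g 3) = -1 ∧ cpr cs (isCartan 4) (g 1) y = -1 ∧ cpr cs (isCartan 4) (g 2) y = -1 ∧
      cpr cs (isCartan 4) (g 3) y = -1 ∧ (2 : ℤ) • y = g 0 - g 1 - g 2 - g 3 ∧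
      cpr cs (isCartan 4) s (g 0) = 0 ∧ cpr cs (isCartan 4) s (g 1) = 0 ∧ cpr cs (isCartan 4) s (g 2) = 2 ∧
      cpr cs (isCartan 4) s (g 3) = -2 ∧
      (∀ x, IsRoot cs (isCartan 4) x → cpr cs (isCartan 4) x (g 0) = 0 → cpr cs (isCartan 4) x (g 1) = 0 →
        cpr cs (isCartan 4) x (g 2) = 0 → 0 < cpr cs (isCartan 4) x (g 3) → x = g 3) ∧
      ∀ i j : Fin 4, cpr cs (isCartan 4) ((![g 1, y, g 3, s] : Fin 4 → Fin 4 → ℤ) j)
        ((![g 1, y, g 3, s] : Fin 4 → Fin 4 → ℤ) i) = Nodes.TypeC.A 4 i j := by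
  have sa := sn_mul_self a
  have sb := sn_mul_self b
  have sc := sn_mul_self c
  have sd := sn_mul_self d
  have hab' : a.1 ≠ (ng b).1 := hab
  have hcd' : c.1 ≠ (ng d).1 := hcd
  have hbc' : b.1 ≠ (ng c).1 := hbc
  -- the sixteen values
  have w : ∀ (u v : Fin 4 × Bool) (k : Fin 4), ee (rt u v) k = wt u k + wt v k := fun u v k => by
    rw [ee_rt, Pi.add_apply]
  have wn : ∀ (u : Fin 4 × Bool) (k : Fin 4), wt (ng u) k = -wt u k := fun u k => by rw [wt_ng, Pi.neg_apply]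
  have r0 : IsRoot cs (isCartan 4) (rt a b) := isRoot_rt cs (Or.inl hab)
  have r1 : IsRoot cs (isCartan 4) (rt a (ng b)) := isRoot_rt cs (Or.inl hab')
  have r2 : IsRoot cs (isCartan 4) (rt c d) := isRoot_rt cs (Or.inl hcd)
  have r3 : IsRoot cs (isCartan 4) (rt c (ng d)) := isRoot_rt cs (Or.inl hcd')
  have ry : IsRoot cs (isCartan 4) (rt b (ng c)) := isRoot_rt cs (Or.inl hbc')
  have rs : IsRoot cs (isCartan 4) (rt d d) := isRoot_rt cs (Or.inr rfl)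
  have c0 : ∀ x, cpr cs (isCartan 4) x (rt a b) = ee x a.1 * sn a + ee x b.1 * sn b := fun x => cpr_rt cs x hab
  have c1 : ∀ x, cpr cs (isCartan 4) x (rt a (ng b)) = ee x a.1 * sn a - ee x b.1 * sn b := fun x => by
    rw [cpr_rt cs x hab', sn_ng]
    change ee x a.1 * sn a + ee x b.1 * -sn b = _
    ring
  have c2 : ∀ x, cpr cs (isCartan 4) x (rt c d) = ee x c.1 * sn c + ee x d.1 * sn d := fun x => cpr_rt cs x hcd
  have c3 : ∀ x, cpr cs (isCartan 4) x (rt c (ng d)) = ee x c.1 * sn c - ee x d.1 * sn d := fun x => by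
    rw [cpr_rt cs x hcd', sn_ng]
    change ee x c.1 * sn c + ee x d.1 * -sn d = _
    ring
  have cy : ∀ x, cpr cs (isCartan 4) x (rt b (ng c)) = ee x b.1 * sn b - ee x c.1 * sn c := fun x => by
    rw [cpr_rt cs x hbc', sn_ng]
    change ee x b.1 * sn b + ee x c.1 * -sn c = _
    ring
  have cs' : ∀ x, cpr cs (isCartan 4) x (rt d d) = ee x d.1 * sn d := fun x => cpr_rt_self cs x d
  have ya : ee (rt b (ng c)) a.1 = 0 := by rw [w, wn, wt_apply_ne hab, wt_apply_ne hac]; ring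
  have yb : ee (rt b (ng c)) b.1 = sn b := by rw [w, wn, wt_apply_self, wt_apply_ne hbc]; ring
  have yc : ee (rt b (ng c)) c.1 = -sn c := by rw [w, wn, wt_apply_self, wt_apply_ne hbc.symm]; ring
  have yd : ee (rt b (ng c)) d.1 = 0 := by rw [w, wn, wt_apply_ne hbd.symm, wt_apply_ne hcd.symm]; ring
  have sA : ee (rt d d) a.1 = 0 := by rw [w, wt_apply_ne had]; ring
  have sB : ee (rt d d) b.1 = 0 := by rw [w, wt_apply_ne hbd]; ring
  have sC : ee (rt d d) c.1 = 0 := by rw [w, wt_apply_ne hcd]; ring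
  have sD : ee (rt d d) d.1 = 2 * sn d := by rw [w, wt_apply_self]; ring
  have a1 : ee (rt a (ng b)) a.1 = sn a := by rw [w, wn, wt_apply_self, wt_apply_ne hab]; ring
  have b1 : ee (rt a (ng b)) b.1 = -sn b := by rw [w, wn, wt_apply_self, wt_apply_ne hab.symm]; ring
  have c1' : ee (rt a (ng b)) c.1 = 0 := by rw [w, wn, wt_apply_ne hac.symm, wt_apply_ne hbc.symm]; ring
  have d1 : ee (rt a (ng b)) d.1 = 0 := by rw [w, wn, wt_apply_ne had.symm, wt_apply_ne hbd.symm]; ring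
  have a3 : ee (rt c (ng d)) a.1 = 0 := by rw [w, wn, wt_apply_ne hac, wt_apply_ne had]; ring
  have b3 : ee (rt c (ng d)) b.1 = 0 := by rw [w, wn, wt_apply_ne hbc, wt_apply_ne hbd]; ring
  have c3' : ee (rt c (ng d)) c.1 = sn c := by rw [w, wn, wt_apply_self, wt_apply_ne hcd]; ring
  have d3 : ee (rt c (ng d)) d.1 = -sn d := by rw [w, wn, wt_apply_self, wt_apply_ne hcd.symm]; ring
  have b2 : ee (rt c d) b.1 = 0 := by rw [w, wt_apply_ne hbc, wt_apply_ne hbd]; ring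
  have c2' : ee (rt c d) c.1 = sn c := by rw [w, wt_apply_self, wt_apply_ne hcd]; ring
  have k01 : cpr cs (isCartan 4) (rt b (ng c)) (rt a (ng b)) = -1 := by rw [c1, ya, yb]; linarith
  have k02 : cpr cs (isCartan 4) (rt c (ng d)) (rt a (ng b)) = 0 := by rw [c1, a3, b3]; ring
  have k03 : cpr cs (isCartan 4) (rt d d) (rt a (ng b)) = 0 := by rw [c1, sA, sB]; ring
  have k10 : cpr cs (isCartan 4) (rt a (ng b)) (rt b (ng c)) = -1 := by rw [cy, b1, c1']; linarith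
  have k12 : cpr cs (isCartan 4) (rt c (ng d)) (rt b (ng c)) = -1 := by rw [cy, b3, c3']; linarith
  have k13 : cpr cs (isCartan 4) (rt d d) (rt b (ng c)) = 0 := by rw [cy, sB, sC]; ring
  have k20 : cpr cs (isCartan 4) (rt a (ng b)) (rt c (ng d)) = 0 := by rw [c3, c1', d1]; ring
  have k21 : cpr cs (isCartan 4) (rt b (ng c)) (rt c (ng d)) = -1 := by rw [c3, yc, yd]; linarith
  have k23 : cpr cs (isCartan 4) (rt d d) (rt c (ng d)) = -2 := by rw [c3, sC, sD]; linarith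
  have k30 : cpr cs (isCartan 4) (rt a (ng b)) (rt d d) = 0 := by rw [cs', d1]; ring
  have k31 : cpr cs (isCartan 4) (rt b (ng c)) (rt d d) = 0 := by rw [cs', yd]; ring
  have k32 : cpr cs (isCartan 4) (rt c (ng d)) (rt d d) = -1 := by rw [cs', d3]; linarith
  refine ⟨rt b (ng c), rt d d, rt_mem_RB hbc', rs, ?_, ?_, ?_, ?_, ?_, ?_, ?_, ?_, ?_, ?_, ?_, ?_, ?_, ?_⟩
  · rw [h0, c0, ya, yb]; linarith
  · rw [h1, c1, ya, yb]; linarith
  · rw [h2, c2, yc, yd]; linarith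
  · rw [h3, c3, yc, yd]; linarith
  · rw [h1, cy, b1, c1']; linarith
  · rw [h2, cy, b2, c2']; linarith
  · rw [h3, cy, b3, c3']; linarith
  · apply ee_injective
    rw [h0, h1, h2, h3, ee_smul, ee_rt, sub_eq_add_neg, sub_eq_add_neg,
      sub_eq_add_neg, ee_add, ee_add, ee_add, ee_neg, ee_neg, ee_neg, ee_rt, ee_rt, ee_rt, ee_rt, wt_ng, wt_ng, wt_ng,
      two_smul]
    abel
  · rw [h0, c0, sA, sB]; ring
  · rw [h1, c1, sA, sB]; ring
  · rw [h2, c2, sC, sD]; linarith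
  · rw [h3, c3, sC, sD]; linarith
  · intro x hx e0 e1 e2 e3
    rw [h0, c0] at e0
    rw [h1, c1] at e1
    rw [h2, c2] at e2
    rw [h3, c3] at e3
    have xa : ee x a.1 = 0 := (mul_eq_zero.1 (show ee x a.1 * sn a = 0 by linarith)).resolve_right (sn_ne_zero _)
    have xb : ee x b.1 = 0 := (mul_eq_zero.1 (show ee x b.1 * sn b = 0 by linarith)).resolve_right (sn_ne_zero _)
    have xc : 0 < ee x c.1 * sn c := by linarith
    have xd : ee x d.1 * sn d < 0 := by linarith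
    have xc0 : ee x c.1 ≠ 0 := fun h => by rw [h, zero_mul] at xc; exact lt_irrefl _ xc
    have xd0 : ee x d.1 ≠ 0 := fun h => by rw [h, zero_mul] at xd; exact lt_irrefl _ xd
    obtain ⟨u, v, huv, rfl⟩ := exists_rt hx
    -- the support of `x`
    have hne : ∀ k, ee (rt u v) k ≠ 0 → k = u.1 ∨ k = v.1 := by
      intro k hk
      by_contra hcon
      push Not at hcon
      apply hk
      rw [w, wt_apply_ne hcon.1, wt_apply_ne hcon.2, add_zero]
    have key : ∀ u v : Fin 4 × Bool, c.1 = u.1 → d.1 = v.1 → 0 < ee (rt u v) c.1 * sn c → ee (rt u v) d.1 * sn d < 0 →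
        rt u v = rt c (ng d) := by
      intro u v hu hv k1 k2
      have huv' : u.1 ≠ v.1 := by rw [← hu, ← hv]; exact hcd
      rw [w, hu, wt_apply_self, wt_apply_ne huv', add_zero] at k1
      rw [w, hv, wt_apply_self, wt_apply_ne huv'.symm, zero_add] at k2
      rcases eq_or_ng hu.symm with f1 | f1
      · rcases eq_or_ng hv.symm with f2 | f2
        · rw [f2] at k2
          exfalso
          linarith
        · rw [f1, f2]
      · rw [f1, sn_ng] at k1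
        exfalso
        linarith
    rw [h3]
    rcases hne _ xc0 with k1 | k1 <;> rcases hne _ xd0 with k2 | k2
    · exact absurd (k1.trans k2.symm) hcd
    · exact key u v k1 k2 xc xd
    · rw [rt_comm u v] at xc xd ⊢
      exact key v u k1 k2 xc xd
    · exact absurd (k1.trans k2.symm) hcd
  · rw [h1, h3]
    intro i j
    match i, j with
    | 0, 0 => exact cpr_self cs _ r1
    | 0, 1 => exact k01
    | 0, 2 => exact k02
    | 0, 3 => exact k03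
    | 1, 0 => exact k10
    | 1, 1 => exact cpr_self cs _ ry
    | 1, 2 => exact k12
    | 1, 3 => exact k13
    | 2, 0 => exact k20
    | 2, 1 => exact k21
    | 2, 2 => exact cpr_self cs _ r3
    | 2, 3 => exact k23
    | 3, 0 => exact k30
    | 3, 1 => exact k31
    | 3, 2 => exact k32
    | 3, 3 => exact cpr_self cs _ rs

theorem ne_of_ee_zero {n : ℕ} {c d : Fin n × Bool} (hcd : c.1 ≠ d.1) {k : Fin n} (h : ee (rt c d) k = 0) :
    k ≠ c.1 ∧ k ≠ d.1 := by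
  rw [ee_rt, Pi.add_apply] at h
  constructor
  · rintro rfl
    rw [wt_apply_self, wt_apply_ne hcd, add_zero] at h
    exact sn_ne_zero c h
  · rintro rfl
    rw [wt_apply_self, wt_apply_ne hcd.symm, zero_add] at h
    exact sn_ne_zero d h

/-- **The base of `B₄` attached to a frame**; `hp` : `g 0` and `g 1` are partners. -/
theorem exists_B4 {W : Type*} [Group W] [Finite W] (cs : CoxeterSystem (CoxeterMatrix.B 4) W)
    {g : Fin 4 → Fin 4 → ℤ} (hg : ∀ i, g i ∈ RB 4) (ho : ∀ i j, i ≠ j → cpr cs (isCartan 4) (g i) (g j) = 0)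
    (hp : ∀ x, IsRoot cs (isCartan 4) x → cpr cs (isCartan 4) x (g 0) ≠ 0 → cpr cs (isCartan 4) x (g 1) = 0 →
      x = g 0 ∨ x = -g 0) :
    ∃ y s : Fin 4 → ℤ, y ∈ RB 4 ∧ IsRoot cs (isCartan 4) s ∧
      cpr cs (isCartan 4) y (g 0) = 1 ∧ cpr cs (isCartan 4) y (g 1) = -1 ∧ cpr cs (isCartan 4) y (g 2) = -1 ∧
      cpr cs (isCartan 4) y (g 3) = -1 ∧ cpr cs (isCartan 4) (g 1) y = -1 ∧ cpr cs (isCartan 4) (g 2) y = -1 ∧
      cpr cs (isCartan 4) (g 3) y = -1 ∧ (2 : ℤ) • y = g 0 - g 1 - g 2 - g 3 ∧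
      cpr cs (isCartan 4) s (g 0) = 0 ∧ cpr cs (isCartan 4) s (g 1) = 0 ∧ cpr cs (isCartan 4) s (g 2) = 2 ∧
      cpr cs (isCartan 4) s (g 3) = -2 ∧
      (∀ x, IsRoot cs (isCartan 4) x → cpr cs (isCartan 4) x (g 0) = 0 → cpr cs (isCartan 4) x (g 1) = 0 →
        cpr cs (isCartan 4) x (g 2) = 0 → 0 < cpr cs (isCartan 4) x (g 3) → x = g 3) ∧
      ∀ i j : Fin 4, cpr cs (isCartan 4) ((![g 1, y, g 3, s] : Fin 4 → Fin 4 → ℤ) j)
        ((![g 1, y, g 3, s] : Fin 4 → Fin 4 → ℤ) i) = Nodes.TypeC.A 4 i j := by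
  obtain ⟨a, b, hab, e0⟩ := mem_RB.1 (hg 0)
  obtain ⟨a', b', hab', e1⟩ := mem_RB.1 (hg 1)
  obtain ⟨c, d, hcd, e2⟩ := mem_RB.1 (hg 2)
  obtain ⟨c', d', hcd', e3⟩ := mem_RB.1 (hg 3)
  -- the support of `g 1` is that of `g 0`
  have key : ∀ u v : Fin 4 × Bool, u.1 ≠ v.1 → g 0 = rt u v → u.1 = a'.1 ∨ u.1 = b'.1 := by
    intro u v huv e
    by_contra hcon
    push Not at hcon
    have hsu := sn_mul_self u
    have h1 : cpr cs (isCartan 4) (rt u u) (g 0) ≠ 0 := by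
      rw [e, cpr_rt cs _ huv, ee_rt, Pi.add_apply, Pi.add_apply, wt_apply_self, wt_apply_ne huv.symm]
      intro h
      linarith
    have h2 : cpr cs (isCartan 4) (rt u u) (g 1) = 0 := by
      rw [e1, cpr_rt cs _ hab', ee_rt, Pi.add_apply, Pi.add_apply, wt_apply_ne hcon.1.symm,
        wt_apply_ne hcon.2.symm]
      ring
    have h3 : ee (rt u u) v.1 = 0 := by rw [ee_rt, Pi.add_apply, wt_apply_ne huv.symm]; ring
    have h4 : ee (rt u v) v.1 = sn v := by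
      rw [ee_rt, Pi.add_apply, wt_apply_ne huv.symm, wt_apply_self, zero_add]
    rcases hp _ (isRoot_rt cs (Or.inr rfl)) h1 h2 with h5 | h5
    · rw [h5, e, h4] at h3
      exact sn_ne_zero v h3
    · rw [h5, e, ee_neg, Pi.neg_apply, h4] at h3
      exact sn_ne_zero v (by linarith)
  have ha := key a b hab e0
  have hb := key b a hab.symm (by rw [e0, rt_comm])
  have hs : (a'.1 = a.1 ∧ b'.1 = b.1) ∨ (a'.1 = b.1 ∧ b'.1 = a.1) := by
    rcases ha with ha | ha <;> rcases hb with hb | hb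
    · exact absurd (ha.trans hb.symm) hab
    · exact Or.inl ⟨ha.symm, hb.symm⟩
    · exact Or.inr ⟨hb.symm, ha.symm⟩
    · exact absurd (ha.trans hb.symm) hab
  obtain ⟨a₀, b₀, hs₀, f0, f1⟩ := exists_common cs hab hs (by rw [← e0, ← e1]; exact ho 1 0 (by decide))
  rw [← e0] at f0
  rw [← e1] at f1
  have hab₀ : a₀.1 ≠ b₀.1 := by
    rcases hs₀ with ⟨h1, h2⟩ | ⟨h1, h2⟩ <;> rw [h1, h2]
    · exact hab
    · exact hab.symm
  have hab₀' : a₀.1 ≠ (ng b₀).1 := hab₀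
  -- the other supports
  have key2 : ∀ (u v : Fin 4 × Bool) (i : Fin 4), u.1 ≠ v.1 → i ≠ 0 → i ≠ 1 → g i = rt u v →
      a₀.1 ≠ u.1 ∧ a₀.1 ≠ v.1 ∧ b₀.1 ≠ u.1 ∧ b₀.1 ≠ v.1 := by
    intro u v i huv h0 h1 e
    have k0 := ho i 0 h0
    have k1 := ho i 1 h1
    rw [f0, e, cpr_rt cs _ hab₀] at k0
    rw [f1, e, cpr_rt cs _ hab₀', sn_ng] at k1
    change ee (rt u v) a₀.1 * sn a₀ + ee (rt u v) b₀.1 * -sn b₀ = 0 at k1
    have k2 : ee (rt u v) a₀.1 * sn a₀ = 0 := by linarith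
    have k3 : ee (rt u v) b₀.1 * sn b₀ = 0 := by linarith
    have k4 := ne_of_ee_zero huv ((mul_eq_zero.1 k2).resolve_right (sn_ne_zero _))
    have k5 := ne_of_ee_zero huv ((mul_eq_zero.1 k3).resolve_right (sn_ne_zero _))
    exact ⟨k4.1, k4.2, k5.1, k5.2⟩
  obtain ⟨m1, m2, m3, m4⟩ := key2 c d 2 hcd (by decide) (by decide) e2
  obtain ⟨l1, l2, l3, l4⟩ := key2 c' d' 3 hcd' (by decide) (by decide) e3
  have hs' : (c'.1 = c.1 ∧ d'.1 = d.1) ∨ (c'.1 = d.1 ∧ d'.1 = c.1) := by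
    generalize a₀.1 = x0 at *
    generalize b₀.1 = x1 at *
    generalize c.1 = x2 at *
    generalize d.1 = x3 at *
    generalize c'.1 = x4 at *
    generalize d'.1 = x5 at *
    simp only [ne_eq, Fin.ext_iff] at *
    omega
  obtain ⟨c₀, d₀, hs₁, f2, f3⟩ := exists_common cs hcd hs' (by rw [← e2, ← e3]; exact ho 3 2 (by decide))
  rw [← e2] at f2
  rw [← e3] at f3
  have hall : a₀.1 ≠ c₀.1 ∧ a₀.1 ≠ d₀.1 ∧ b₀.1 ≠ c₀.1 ∧ b₀.1 ≠ d₀.1 ∧ c₀.1 ≠ d₀.1 := by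
    rcases hs₁ with ⟨h1, h2⟩ | ⟨h1, h2⟩ <;> rw [h1, h2]
    · exact ⟨m1, m2, m3, m4, hcd⟩
    · exact ⟨m2, m1, m4, m3, hcd.symm⟩
  exact B4_std cs hab₀ hall.1 hall.2.1 hall.2.2.1 hall.2.2.2.1 hall.2.2.2.2 f0 f1 f2 f3

end Cfsg.Agent.Cit.TypeF4Roots
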