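import Mathlib
import Cfsg.Agent.Cit.TypeF4Roots
import Cfsg.Agent.Nodes.Reindex
import Cfsg.Agent.Nodes.RKindsBC
import Cfsg.Agent.Nodes.GenBase

/-!
The roots of `Cit/TypeF4Roots.lean` in charts of type `C₃` and `B₄` (project CIT, type `F₄`).

* `mem_std` : a classical root in standard labels;
* `exists_C3_chart`, `exists_B4_chart` : the roots, and `X x ≤ P` for all roots if it holds for the base.
-/

set_option autoImplicit false
set_option linter.unusedSectionVars false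

namespace Cfsg.Agent.Cit.TypeF4Ch

open CoxeterSystem Cfsg.Agent.ChevalleyStructure.CoxeterGeom Cfsg.Agent.Tits.Roots Cfsg.Agent.Tits.Core
  Cfsg.Agent.Nodes.Comb Cfsg.Agent.Nodes.Coroot Cfsg.Agent.Nodes.Chart Cfsg.Agent.Nodes.Reindex
  Cfsg.Agent.Nodes.KindBC

variable {G : Type*} [Group G] {Om : Set (Subgroup G)} {p : ℕ} {L : Subgroup G}

/-- A classical root in other labels. -/
theorem mem_std (c : Chart Om p L) {J : Type*} [Fintype J] [DecidableEq J] {M' : CoxeterMatrix J}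
    {A' : J → J → ℤ} (h' : IsCartan M' A') (e : c.I ≃ J) (hA : ∀ i j, c.A i j = A' (e i) (e j))
    (cs' : CoxeterSystem M' c.W) (hs : ∀ i, cs'.simple (e i) = c.cs.simple i) {R' : Set (J → ℤ)}
    (hact : ∀ r ∈ R', ∀ w, rep cs' h' w r ∈ R') (hR : ∀ i, sr i ∈ c.R → sr (e i) ∈ R') {x : c.I → ℤ}
    (hx : x ∈ c.R) : x ∘ e.symm ∈ R' := by
  obtain ⟨w, i, rfl⟩ := c.cls.root x hx
  have h1 : sr i ∈ c.R := by
    have h2 := c.cls.act _ hx w⁻¹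
    rwa [rep_inv_apply] at h2
  rw [← rep_reindex (cs' := cs') (h' := h') hA hs, ← sr_reindex]
  exact hact _ (hR i h1) w

/-- The roots in a chart of type `C₃`. -/
theorem exists_C3_chart (c : Chart Om p L) (hc : c.IsTy (Ty.C 3)) {g : Fin 4 → c.I → ℤ}
    (hg : ∀ i, i ≠ 0 → g i ∈ c.R) (ho : ∀ i j, i ≠ 0 → j ≠ 0 → i ≠ j → cpr c.cs c.h (g i) (g j) = 0) :
    ∃ x₃ x₄ : c.I → ℤ, IsRoot c.cs c.h x₃ ∧ IsRoot c.cs c.h x₄ ∧
      cpr c.cs c.h x₃ (g 1) = 0 ∧ cpr c.cs c.h x₃ (g 2) = 1 ∧ cpr c.cs c.h x₃ (g 3) = -1 ∧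
      cpr c.cs c.h x₄ (g 1) = 1 ∧ cpr c.cs c.h x₄ (g 2) = -1 ∧ cpr c.cs c.h x₄ (g 3) = 0 ∧
      cpr c.cs c.h x₃ x₄ = -1 ∧ cpr c.cs c.h x₄ x₃ = -1 ∧ cpr c.cs c.h (g 3) x₃ = -2 ∧
      ∀ P : Subgroup G, c.X x₄ ≤ P → c.X (-x₄) ≤ P → c.X x₃ ≤ P → c.X (-x₃) ≤ P → c.X (g 3) ≤ P →
        c.X (-g 3) ≤ P → L ≤ P := by
  obtain ⟨e, hA, hl⟩ : ∃ e : c.I ≃ Fin 3, (∀ i j, c.A i j = Nodes.TypeC.A 3 (e i) (e j)) ∧
    ∀ i, sr i ∈ c.R ↔ (e i : ℕ) + 1 = 3 := hc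
  obtain ⟨cs', hs⟩ := exists_reindex (M' := CoxeterMatrix.B 3) c.cs e
    (fun i j => c.M_apply (τ := Ty.C 3) hA i j)
  have hst : ∀ {x : c.I → ℤ}, x ∈ c.R → x ∘ e.symm ∈ RC 3 := fun hx =>
    mem_std c (Nodes.TypeC.isCartan 3) e hA cs' hs (fun r hr w => act_RC cs' hr w)
      (fun i hi => Nodes.RKindsBC.sr_mem_RC.2 ((hl i).1 hi)) hx
  obtain ⟨x₃, x₄, r3, r4, p31, p32, p33, p41, p42, p43, hβ⟩ := TypeF4Roots.exists_C3 cs'
    (g := fun i => g i ∘ e.symm) (fun i hi => hst (hg i hi)) (fun i j hi hj hij => by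
      rw [cpr_reindex (h' := Nodes.TypeC.isCartan 3) hA hs _ (c.cls.root _ (hg j hj))]
      exact ho i j hi hj hij)
  have key : ∀ (x y : Fin 3 → ℤ), IsRoot cs' (Nodes.TypeC.isCartan 3) y →
      cpr c.cs c.h (x ∘ e) (y ∘ e) = cpr cs' (Nodes.TypeC.isCartan 3) x y := by
    intro x y hy
    have h1 : IsRoot c.cs c.h (y ∘ e) := by
      rw [← isRoot_reindex (cs' := cs') (h' := Nodes.TypeC.isCartan 3) hA hs, comp_symm]
      exact hy
    have h2 := cpr_reindex (cs' := cs') (h' := Nodes.TypeC.isCartan 3) hA hs (x ∘ e) h1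
    rw [comp_symm, comp_symm] at h2
    exact h2.symm
  have keyr : ∀ x : Fin 3 → ℤ, IsRoot cs' (Nodes.TypeC.isCartan 3) x → IsRoot c.cs c.h (x ∘ e) := by
    intro x hx
    rw [← isRoot_reindex (cs' := cs') (h' := Nodes.TypeC.isCartan 3) hA hs, comp_symm]
    exact hx
  have hgr : ∀ i, i ≠ 0 → IsRoot cs' (Nodes.TypeC.isCartan 3) (g i ∘ e.symm) := fun i hi =>
    root_RC cs' (hst (hg i hi))
  have keyg : ∀ (x : Fin 3 → ℤ) (i : Fin 4), i ≠ 0 → cpr c.cs c.h (x ∘ e) (g i) =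
      cpr cs' (Nodes.TypeC.isCartan 3) x (g i ∘ e.symm) := by
    intro x i hi
    rw [← key x _ (hgr i hi), comp_symm']
  have h3 : (3 : Fin 4) ≠ 0 := by decide
  refine ⟨x₃ ∘ e, x₄ ∘ e, keyr _ r3, keyr _ r4, ?_, ?_, ?_, ?_, ?_, ?_, ?_, ?_, ?_, ?_⟩
  · rw [keyg _ 1 (by decide)]; exact p31
  · rw [keyg _ 2 (by decide)]; exact p32
  · rw [keyg _ 3 (by decide)]; exact p33
  · rw [keyg _ 1 (by decide)]; exact p41
  · rw [keyg _ 2 (by decide)]; exact p42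
  · rw [keyg _ 3 (by decide)]; exact p43
  · rw [key _ _ r4]; exact hβ 0 1
  · rw [key _ _ r3]; exact hβ 1 0
  · have h4 := key (g 3 ∘ e.symm) x₃ r3
    rw [comp_symm'] at h4
    rw [h4]; exact hβ 1 2
  · intro P P1 P2 P3 P4 P5 P6
    have hb : ∀ i : Fin 3, IsRoot cs' (Nodes.TypeC.isCartan 3)
        ((![x₄, x₃, g 3 ∘ e.symm] : Fin 3 → Fin 3 → ℤ) i) := by
      intro i
      match i with
      | 0 => exact r4
      | 1 => exact r3
      | 2 => exact hgr 3 h3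
    rw [← c.gen]
    unfold Nodes.RGDLib.G1
    refine Nodes.BNOf.RGD.Sup_le fun x hx => ?_
    refine Nodes.GenBase.gen_of_cartan c.cs c.h
      (β := fun i => ((![x₄, x₃, g 3 ∘ e.symm] : Fin 3 → Fin 3 → ℤ) (e i)) ∘ e)
      (fun i => keyr _ (hb (e i))) (fun i j => ?_) c.cls.rgd ?_ x hx
    · rw [key _ _ (hb (e i)), hβ, hA]
    · intro j
      have h5 : ∀ k : Fin 3, c.X ((![x₄, x₃, g 3 ∘ e.symm] : Fin 3 → Fin 3 → ℤ) k ∘ e) ≤ P ∧
          c.X (-((![x₄, x₃, g 3 ∘ e.symm] : Fin 3 → Fin 3 → ℤ) k ∘ e)) ≤ P := by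
        intro k
        match k with
        | 0 => exact ⟨P1, P2⟩
        | 1 => exact ⟨P3, P4⟩
        | 2 =>
          change c.X ((g 3 ∘ e.symm) ∘ e) ≤ P ∧ c.X (-((g 3 ∘ e.symm) ∘ e)) ≤ P
          rw [comp_symm']
          exact ⟨P5, P6⟩
      exact h5 (e j)

/-- The roots in a chart of type `B₄`, `g 0`, `g 1` partners. -/
theorem exists_B4_chart (c : Chart Om p L) (hc : c.IsTy (Ty.B 4)) {g : Fin 4 → c.I → ℤ}
    (hg : ∀ i, g i ∈ c.R) (ho : ∀ i j, i ≠ j → cpr c.cs c.h (g i) (g j) = 0)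
    (hp : ∀ x, IsRoot c.cs c.h x → cpr c.cs c.h x (g 0) ≠ 0 → cpr c.cs c.h x (g 1) = 0 → x = g 0 ∨ x = -g 0) :
    ∃ y s : c.I → ℤ, y ∈ c.R ∧ IsRoot c.cs c.h s ∧
      cpr c.cs c.h y (g 0) = 1 ∧ cpr c.cs c.h y (g 1) = -1 ∧ cpr c.cs c.h y (g 2) = -1 ∧
      cpr c.cs c.h y (g 3) = -1 ∧ cpr c.cs c.h (g 3) y = -1 ∧
      cpr c.cs c.h s (g 0) = 0 ∧ cpr c.cs c.h s (g 1) = 0 ∧ cpr c.cs c.h s (g 2) = 2 ∧
      cpr c.cs c.h s (g 3) = -2 ∧
      (∀ x, IsRoot c.cs c.h x → cpr c.cs c.h x (g 0) = 0 → cpr c.cs c.h x (g 1) = 0 →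
        cpr c.cs c.h x (g 2) = 0 → 0 < cpr c.cs c.h x (g 3) → x = g 3) ∧
      ∀ P : Subgroup G, c.X (g 1) ≤ P → c.X (-g 1) ≤ P → c.X y ≤ P → c.X (-y) ≤ P → c.X (g 3) ≤ P →
        c.X (-g 3) ≤ P → c.X s ≤ P → c.X (-s) ≤ P → L ≤ P := by
  obtain ⟨e, hA, hl⟩ : ∃ e : c.I ≃ Fin 4, (∀ i j, c.A i j = Nodes.TypeC.A 4 (e i) (e j)) ∧
    ∀ i, sr i ∈ c.R ↔ (e i : ℕ) + 1 < 4 := hc
  obtain ⟨cs', hs⟩ := exists_reindex (M' := CoxeterMatrix.B 4) c.cs e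
    (fun i j => c.M_apply (τ := Ty.B 4) hA i j)
  have hst : ∀ {x : c.I → ℤ}, x ∈ c.R → x ∘ e.symm ∈ RB 4 := fun hx =>
    mem_std c (Nodes.TypeC.isCartan 4) e hA cs' hs (fun r hr w => act_RB cs' hr w)
      (fun i hi => Nodes.RKindsBC.sr_mem_RB.2 ((hl i).1 hi)) hx
  have key : ∀ (x y : Fin 4 → ℤ), IsRoot cs' (Nodes.TypeC.isCartan 4) y →
      cpr c.cs c.h (x ∘ e) (y ∘ e) = cpr cs' (Nodes.TypeC.isCartan 4) x y := by
    intro x y hy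
    have h1 : IsRoot c.cs c.h (y ∘ e) := by
      rw [← isRoot_reindex (cs' := cs') (h' := Nodes.TypeC.isCartan 4) hA hs, comp_symm]
      exact hy
    have h2 := cpr_reindex (cs' := cs') (h' := Nodes.TypeC.isCartan 4) hA hs (x ∘ e) h1
    rw [comp_symm, comp_symm] at h2
    exact h2.symm
  have keyr : ∀ x : Fin 4 → ℤ, IsRoot cs' (Nodes.TypeC.isCartan 4) x → IsRoot c.cs c.h (x ∘ e) := by
    intro x hx
    rw [← isRoot_reindex (cs' := cs') (h' := Nodes.TypeC.isCartan 4) hA hs, comp_symm]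
    exact hx
  have hgr : ∀ i, IsRoot cs' (Nodes.TypeC.isCartan 4) (g i ∘ e.symm) := fun i => root_RB cs' (hst (hg i))
  have keyg : ∀ (x : Fin 4 → ℤ) (i : Fin 4), cpr c.cs c.h (x ∘ e) (g i) =
      cpr cs' (Nodes.TypeC.isCartan 4) x (g i ∘ e.symm) := by
    intro x i
    rw [← key x _ (hgr i), comp_symm']
  obtain ⟨y, s, hy, hsr, y0, y1, y2, y3, -, -, y3', -, s0, s1, s2, s3, hun, hβ⟩ := TypeF4Roots.exists_B4 cs'
    (g := fun i => g i ∘ e.symm) (fun i => hst (hg i)) (fun i j hij => by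
      rw [cpr_reindex (h' := Nodes.TypeC.isCartan 4) hA hs _ (c.cls.root _ (hg j))]
      exact ho i j hij) (fun x hx h0 h1 => by
        rcases hp (x ∘ e) (keyr x hx) (by rw [keyg]; exact h0) (by rw [keyg]; exact h1) with h2 | h2
        · left
          rw [← h2, comp_symm]
        · right
          have h3 : x = (-g 0) ∘ e.symm := by rw [← h2, comp_symm]
          rw [h3]
          rfl)
  have hyR : y ∘ e ∈ c.R := by
    obtain ⟨w, hw⟩ := trans_RB cs' _ (hst (hg 0)) _ hy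
    have h1 := c.cls.act _ (hg 0) w
    have h2 := rep_reindex (cs' := cs') (h' := Nodes.TypeC.isCartan 4) (cs := c.cs) (h := c.h) hA hs w (g 0)
    rw [← hw] at h2
    have h3 : y ∘ e = rep c.cs c.h w (g 0) := by
      have h4 : y ∘ e = ((rep c.cs c.h w (g 0)) ∘ e.symm) ∘ e := by rw [← h2]
      rw [h4, comp_symm']
    rw [h3]; exact h1
  refine ⟨y ∘ e, s ∘ e, hyR, keyr _ hsr, ?_, ?_, ?_, ?_, ?_, ?_, ?_, ?_, ?_, ?_, ?_⟩
  · rw [keyg]; exact y0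
  · rw [keyg]; exact y1
  · rw [keyg]; exact y2
  · rw [keyg]; exact y3
  · have h4 := key (g 3 ∘ e.symm) y (root_RB cs' hy)
    rw [comp_symm'] at h4
    rw [h4]; exact y3'
  · rw [keyg]; exact s0
  · rw [keyg]; exact s1
  · rw [keyg]; exact s2
  · rw [keyg]; exact s3
  · intro x hx e0 e1 e2 e3
    have h1 : ∀ i, cpr c.cs c.h x (g i) = cpr cs' (Nodes.TypeC.isCartan 4) (x ∘ e.symm) (g i ∘ e.symm) := by
      intro i
      rw [cpr_reindex (h' := Nodes.TypeC.isCartan 4) hA hs _ (c.cls.root _ (hg i))]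
    have h2 := hun (x ∘ e.symm) ((isRoot_reindex hA hs).2 hx) ((h1 0).symm.trans e0) ((h1 1).symm.trans e1)
      ((h1 2).symm.trans e2) (by rw [← h1 3]; exact e3)
    exact comp_inj h2
  · intro P P1 P2 P3 P4 P5 P6 P7 P8
    have hb : ∀ i : Fin 4, IsRoot cs' (Nodes.TypeC.isCartan 4)
        ((![g 1 ∘ e.symm, y, g 3 ∘ e.symm, s] : Fin 4 → Fin 4 → ℤ) i) := by
      intro i
      match i with
      | 0 => exact hgr 1
      | 1 => exact root_RB cs' hy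
      | 2 => exact hgr 3
      | 3 => exact hsr
    rw [← c.gen]
    unfold Nodes.RGDLib.G1
    refine Nodes.BNOf.RGD.Sup_le fun x hx => ?_
    refine Nodes.GenBase.gen_of_cartan c.cs c.h
      (β := fun i => ((![g 1 ∘ e.symm, y, g 3 ∘ e.symm, s] : Fin 4 → Fin 4 → ℤ) (e i)) ∘ e)
      (fun i => keyr _ (hb (e i))) (fun i j => ?_) c.cls.rgd ?_ x hx
    · rw [key _ _ (hb (e i)), hβ, hA]
    · intro j
      have h5 : ∀ k : Fin 4, c.X ((![g 1 ∘ e.symm, y, g 3 ∘ e.symm, s] : Fin 4 → Fin 4 → ℤ) k ∘ e) ≤ P ∧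
          c.X (-((![g 1 ∘ e.symm, y, g 3 ∘ e.symm, s] : Fin 4 → Fin 4 → ℤ) k ∘ e)) ≤ P := by
        intro k
        match k with
        | 0 =>
          change c.X ((g 1 ∘ e.symm) ∘ e) ≤ P ∧ c.X (-((g 1 ∘ e.symm) ∘ e)) ≤ P
          rw [comp_symm']
          exact ⟨P1, P2⟩
        | 1 => exact ⟨P3, P4⟩
        | 2 =>
          change c.X ((g 3 ∘ e.symm) ∘ e) ≤ P ∧ c.X (-((g 3 ∘ e.symm) ∘ e)) ≤ P
          rw [comp_symm']
          exact ⟨P5, P6⟩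
        | 3 => exact ⟨P7, P8⟩
      exact h5 (e j)

end Cfsg.Agent.Cit.TypeF4Ch
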