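import Mathlib
import Cfsg.Agent.Cit.TypeF4
import Cfsg.Agent.Cit.TypeF4Ch
import Cfsg.Agent.Cit.TypeCFrm
import Cfsg.Agent.Cit.FrameOfFr
import Cfsg.Agent.Cit.FrameClose
import Cfsg.Agent.Nodes.TyChart
import Cfsg.Agent.Nodes.ZRel
import Cfsg.Agent.Nodes.KindF

/-!
Type `F₄` (project CIT, (3b)), main theorem: `Δ_0` of type `C₃`, `Γ_01` of type `B₄` ⟹ a chart of type `F₄`.
-/

set_option autoImplicit false
set_option linter.unusedSectionVars false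

namespace Cfsg.Agent.Cit.TypeF4Main

open CoxeterSystem Cfsg.Agent.ChevalleyStructure.CoxeterGeom Cfsg.Agent.Tits.Roots Cfsg.Agent.Tits.Core
  Cfsg.Agent.Tits.RootComb Cfsg.Agent.Nodes.Comb Cfsg.Agent.Nodes.Reps Cfsg.Agent.Nodes.BNOf
  Cfsg.Agent.Nodes.RGDLib Cfsg.Agent.Nodes.Chart Cfsg.Agent.Nodes.Coroot Cfsg.Agent.Nodes.ChartOfCls
  Cfsg.Agent.Cit.FrameOf Cfsg.Agent.Cit.FrameSign Cfsg.Agent.Cit.FrameClose Cfsg.Agent.Cit.TypeESix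

universe u

variable {G : Type u} [Group G] {Om : Set (Subgroup G)} {p : ℕ} {L : Subgroup G}

/-! ### Charts -/

theorem nontrivial_I (c : Chart Om p L) {τ : Nodes.Chart.Ty} (t : c.IsTy τ) (h2 : 2 ≤ τ.rk) : Nontrivial c.I :=
  Fintype.one_lt_card_iff_nontrivial.1 (by rw [t.card]; omega)

theorem Z_eq_of_one (c : Chart Om p L) {r : c.I → ℤ} (hr : r ∈ c.R) (e : c.Z r = c.X r) :
    ∀ s ∈ c.R, c.Z s = c.X s := by
  intro s hs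
  obtain ⟨w, rfl⟩ := c.trans r hr s hs
  obtain ⟨n, hn⟩ := exists_rp c.cs c.cls.rgd.nsys w
  rw [← Nodes.ClsNorm.conj_Z c.cls hn hr, ← c.cls.rgd.conj_rp hn (c.cls.root r hr), e]

theorem comm_cj {A B : Subgroup G} (g : G) (h : ∀ a ∈ A, ∀ b ∈ B, a * b = b * a) :
    ∀ a ∈ cj g A, ∀ b ∈ cj g B, a * b = b * a := by
  intro a ha b hb
  rw [mem_cj] at ha hb
  have h1 := congrArg (fun t => g * t * g⁻¹) (h _ ha _ hb)
  have h2 : g * (g⁻¹ * a * g * (g⁻¹ * b * g)) * g⁻¹ = a * b := by group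
  have h3 : g * (g⁻¹ * b * g * (g⁻¹ * a * g)) * g⁻¹ = b * a := by group
  simp only [h2, h3] at h1
  exact h1

theorem comm_cj_inv {A B : Subgroup G} (g : G) (h : ∀ a ∈ cj g A, ∀ b ∈ cj g B, a * b = b * a) :
    ∀ a ∈ A, ∀ b ∈ B, a * b = b * a := by
  have h1 := comm_cj g⁻¹ h
  rwa [cj_inv_cj, cj_inv_cj] at h1

/-- Conjugates of pieces. -/
theorem piece_cj {u : G} (hO : ∀ K ∈ Om, ∀ g, cj g K ∈ Om) (P : FrameOf.Piece Om u L) (g : G) :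
    FrameOf.Piece Om (g * u * g⁻¹) (cj g L) where
  le a ha := by
    rw [mem_cj] at ha
    have h1 := congrArg (fun t => g * t * g⁻¹) (P.le _ ha)
    have h2 : g * (g⁻¹ * a * g * u) * g⁻¹ = a * (g * u * g⁻¹) := by group
    have h3 : g * (u * (g⁻¹ * a * g)) * g⁻¹ = g * u * g⁻¹ * a := by group
    simp only [h2, h3] at h1
    exact h1
  norm b hb := by
    have h1 : (g⁻¹ * b * g) * u = u * (g⁻¹ * b * g) := by
      have h4 := congrArg (fun t => g⁻¹ * t * g) hb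
      have h2 : g⁻¹ * (b * (g * u * g⁻¹)) * g = g⁻¹ * b * g * u := by group
      have h3 : g⁻¹ * (g * u * g⁻¹ * b) * g = u * (g⁻¹ * b * g) := by group
      simp only [h2, h3] at h4
      exact h4
    have h2 : cj b (cj g L) = cj g (cj (g⁻¹ * b * g) L) := by
      rw [← cj_mul, ← cj_mul]
      congr 1
      group
    rw [h2]
    rcases P.norm _ h1 with h3 | h3
    · left; rw [h3]
    · right; exact comm_cj g h3
  mem J hJ h := by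
    have h1 : cj g (cj g⁻¹ J) = J := cj_cj_inv g J
    rcases P.mem (cj g⁻¹ J) (hO J hJ g⁻¹) (by
      intro a ha
      rw [mem_cj, inv_inv] at ha
      have h4 := congrArg (fun t => g⁻¹ * t * g) (h _ ha)
      have h2 : g⁻¹ * (g * a * g⁻¹ * (g * u * g⁻¹)) * g = a * u := by group
      have h3 : g⁻¹ * (g * u * g⁻¹ * (g * a * g⁻¹)) * g = u * a := by group
      simp only [h2, h3] at h4
      exact h4) with h2 | h2
    · left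
      rw [← h1]
      exact cj_mono g h2
    · right
      have h3 := comm_cj g h2
      rwa [h1] at h3

section Fin

variable [Finite G]

/-- The involutions of a chart of rank at least two are not trivial. -/
theorem z_ne_one (c : Chart Om p L) (hnt : Nontrivial c.I) : ∀ r ∈ c.R, c.z r ≠ 1 := by
  intro r hr
  obtain ⟨y, hy, h1, h2, h3⟩ := FrameOfFr.exists_not_orth c hnt (c.cls.root r hr)
  exact Nodes.StdConn.z_ne_one c.cls c.prime c.odd hr hy h1 h2 h3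

variable {ι : Type*} {F : Type} [Field F] [Fintype F] {K : ι → Subgroup G} {X : ι → SignType → Subgroup G}

/-- Adapted typed charts. -/
theorem exists_ad [Finite ι] [CharP F p] (D : Dat Om F K X) (c : Chart Om p L) {τ : Nodes.Chart.Ty}
    (t : c.IsTy τ) (h2 : 2 ≤ τ.rk) :
    ∃ (c' : Chart Om p L) (g : ι → c'.I → ℤ), c'.IsTy τ ∧ Adapted K X c' g := by
  obtain ⟨y, hy, g, hA⟩ := exists_adapted c (z_ne_one c (nontrivial_I c t h2)) D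
  exact ⟨conjChart c hy D.hyp.conj, g, t, hA⟩

theorem cpr_zero {c : Chart Om p L} {g : ι → c.I → ℤ} (A : Adapted K X c g) {i j : ι} (hi : K i ≤ L)
    (hj : K j ≤ L) (hij : i ≠ j) : cpr c.cs c.h (g i) (g j) = 0 := by
  rw [cpr_zero_iff _ _ _ (c.cls.root _ (A.mem j hj))]
  exact A.orth i hi j hj hij

/-- `g i`, `g j` are partners if `z i * z j` centralises `L`. -/
theorem partner {c : Chart Om p L} {g : ι → c.I → ℤ} (A : Adapted K X c g) {i j : ι} (hi : K i ≤ L)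
    (hj : K j ≤ L) (hz : ∀ a ∈ L, a * (zz (K i) * zz (K j)) = zz (K i) * zz (K j) * a) {x : c.I → ℤ}
    (hx : IsRoot c.cs c.h x) (h0 : cpr c.cs c.h x (g i) ≠ 0) (h1 : cpr c.cs c.h x (g j) = 0) :
    x = g i ∨ x = -g i := by
  by_contra hcon
  push Not at hcon
  apply Nodes.StdConn.X_ne_bot c.cls hx
  rw [Subgroup.eq_bot_iff_forall]
  intro a ha
  apply Nodes.ZRel.eq_one_of_inv c.cls c.prime c.odd hx ha
  have hgi := A.mem i hi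
  have hgj := A.mem j hj
  have h2 : form c.cs c.h x (g i) ≠ 0 := fun h => h0 ((cpr_zero_iff _ _ x (c.cls.root _ hgi)).2 h)
  have h3 : form c.cs c.h x (g j) = 0 := (cpr_zero_iff _ _ x (c.cls.root _ hgj)).1 h1
  have h4 := c.cls.z_inv _ hgi x hx hcon.1 hcon.2 h2 a ha
  have h5 := Nodes.ZRel.z_cent_of_orth c.cls hgj hx h3 ha
  rw [A.zz i hi] at h4
  rw [A.zz j hj] at h5
  have h6 := hz a (FrameOf.X_le c hx ha)
  have h7 : a * zz (K i) = zz (K i) * a := by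
    apply mul_right_cancel (b := zz (K j))
    rw [mul_assoc, h6, mul_assoc, ← h5, mul_assoc]
  have h8 : zz (K i) * zz (K i) = 1 := by rw [← A.zz i hi]; exact c.cls.z_sq _ hgi
  rw [← h7, mul_assoc, h8, mul_one] at h4
  exact h4

/-- `Z r = X r` in a chart with two linked classical roots. -/
theorem Z_eq_X (hyp : Hyp Om) (c : Chart Om p L) (hnt : Nontrivial c.I) {r s : c.I → ℤ} (hr : r ∈ c.R)
    (hs : s ∈ c.R) (h1 : cpr c.cs c.h s r = -1) (h2 : cpr c.cs c.h r s = -1) : ∀ r ∈ c.R, c.Z r = c.X r := by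
  refine Z_eq_of_one c hr (Nodes.ZRel.X_eq_Z c.cls c.prime c.odd ?_ hr hs ?_ ?_ (by rw [h1, h2]; norm_num)).symm
  · intro r hr x hx h2 h3
    rw [hyp.eq_zz (c.om r hr) hx h2 h3, Nodes.StdConn.zz_eq hyp c hr (z_ne_one c hnt r hr)]
  · rintro rfl
    rw [cpr_self c.cs c.h (c.cls.root _ hs)] at h1
    norm_num at h1
  · rintro rfl
    rw [cpr_neg c.cs c.h _ (c.cls.root _ hr), cpr_self c.cs c.h (c.cls.root _ hr)] at h1
    norm_num at h1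

/-- The members of the frame are not abelian. -/
theorem not_comm (D : Dat Om F K X) (i : ι) (h : ∀ a ∈ K i, ∀ b ∈ K i, a * b = b * a) : False := by
  have h1 := D.card_X i (one_ne_zero (α := SignType))
  have h2 : X i 1 = ⊥ := by
    rw [Subgroup.eq_bot_iff_forall]
    intro a ha
    exact D.X_center i one_ne_zero ha fun b hb => h a (D.X_le i one_ne_zero ha) b hb
  rw [h2, Subgroup.card_bot] at h1
  exact (Fintype.one_lt_card (α := F)).ne h1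

theorem injective (D : Dat Om F K X) : Function.Injective K := by
  intro i j hij
  by_contra hne
  exact not_comm D i fun a ha b hb => D.comm i j hne a ha b (hij ▸ hb)

end Fin

/-! ### The input -/

/-- **The input for type `F₄`**: the frame, the chart of `Δ_0` (type `C₃`), the chart of `Γ_01` (type `B₄`). -/
structure In {F : Type} [Field F] [Fintype F] (K : Fin 4 → Subgroup G) (X : Fin 4 → SignType → Subgroup G)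
    {L₁ L₂ : Subgroup G} (c₁ : Chart Om p L₁) (c₂ : Chart Om p L₂) : Prop where
  D : Dat Om F K X
  hF : Odd (Fintype.card F)
  good : ∀ i, Good p (X i 1) (zz (K i))
  t₁ : c₁.IsTy (.C 3)
  t₂ : c₂.IsTy (.B 4)
  k₁ : ∀ i, i ≠ 0 → K i ≤ L₁
  z₁ : ∀ a ∈ L₁, ∀ b ∈ K 0, a * b = b * a
  P₁ : FrameOf.Piece Om (zz (K 0)) L₁
  d₁ : delta Om (K 0) ≤ L₁
  k₂ : ∀ i, K i ≤ L₂
  P₂ : FrameOf.Piece Om (zz (K 0) * zz (K 1)) L₂

section Main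

variable [Finite G] {F : Type} [Field F] [Fintype F] [CharP F p] {K : Fin 4 → Subgroup G}
  {X : Fin 4 → SignType → Subgroup G} {L₁ L₂ : Subgroup G} {c₁ : Chart Om p L₁} {c₂ : Chart Om p L₂}
  (H : In (F := F) K X c₁ c₂)

include H

theorem In.frame : Frame K (fun i => zz (K i)) X (QF K X) := frame_of H.D H.hF H.good

theorem In.not_le : ¬ K 0 ≤ L₁ := fun h => not_comm H.D 0 fun a ha b hb => H.z₁ a (h ha) b hb

theorem In.le_iff (i : Fin 4) : K i ≤ L₁ ↔ i ≠ 0 :=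
  ⟨fun h h0 => H.not_le (h0 ▸ h), H.k₁ i⟩

theorem In.set_eq : {i | K i ≤ L₁} = {i | i ≠ 0} := Set.ext fun i => H.le_iff i

theorem In.out₁ (i : Fin 4) (hi : ¬ K i ≤ L₁) : ∀ a ∈ L₁, ∀ b ∈ K i, a * b = b * a := by
  have h0 : i = 0 := by
    by_contra h
    exact hi (H.k₁ i h)
  rw [h0]
  exact H.z₁

theorem In.set_eq₂ : {i | K i ≤ L₂} = Set.univ := Set.eq_univ_iff_forall.2 H.k₂

theorem In.out₂ (i : Fin 4) (hi : ¬ K i ≤ L₂) : ∀ a ∈ L₂, ∀ b ∈ K i, a * b = b * a := absurd (H.k₂ i) hi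

theorem In.nt₁ : Nontrivial c₁.I := nontrivial_I c₁ H.t₁ (show 2 ≤ 3 by norm_num)

theorem In.nt₂ : Nontrivial c₂.I := nontrivial_I c₂ H.t₂ (show 2 ≤ 4 by norm_num)

variable {g₁ : Fin 4 → c₁.I → ℤ} {g₂ : Fin 4 → c₂.I → ℤ} (A₁ : Adapted K X c₁ g₁) (A₂ : Adapted K X c₂ g₂)

include A₁ in
theorem In.on₁ : ChartOn K (QF K X) {i | i ≠ 0} L₁ c₁.cs c₁.h p c₁.T c₁.n c₁.X
    (fun i => ellOf c₁.cs c₁.h (g₁ i)) := by
  rw [← H.set_eq]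
  exact chartOn_of_adapted c₁ H.D H.hF H.good A₁ H.out₁

include A₂ in
theorem In.on₂ : ChartOn K (QF K X) Set.univ L₂ c₂.cs c₂.h p c₂.T c₂.n c₂.X
    (fun i => ellOf c₂.cs c₂.h (g₂ i)) := by
  rw [← H.set_eq₂]
  exact chartOn_of_adapted c₂ H.D H.hF H.good A₂ H.out₂

/-- the roots in the chart of type `B₄` -/
theorem In.exists_B4 (A₂ : Adapted K X c₂ g₂) :
    ∃ y s : c₂.I → ℤ, y ∈ c₂.R ∧ IsRoot c₂.cs c₂.h s ∧
      cpr c₂.cs c₂.h y (g₂ 0) = 1 ∧ cpr c₂.cs c₂.h y (g₂ 1) = -1 ∧ cpr c₂.cs c₂.h y (g₂ 2) = -1 ∧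
      cpr c₂.cs c₂.h y (g₂ 3) = -1 ∧ cpr c₂.cs c₂.h (g₂ 3) y = -1 ∧
      cpr c₂.cs c₂.h s (g₂ 0) = 0 ∧ cpr c₂.cs c₂.h s (g₂ 1) = 0 ∧ cpr c₂.cs c₂.h s (g₂ 2) = 2 ∧
      cpr c₂.cs c₂.h s (g₂ 3) = -2 ∧
      (∀ x, IsRoot c₂.cs c₂.h x → cpr c₂.cs c₂.h x (g₂ 0) = 0 → cpr c₂.cs c₂.h x (g₂ 1) = 0 →
        cpr c₂.cs c₂.h x (g₂ 2) = 0 → 0 < cpr c₂.cs c₂.h x (g₂ 3) → x = g₂ 3) ∧
      ∀ P : Subgroup G, c₂.X (g₂ 1) ≤ P → c₂.X (-g₂ 1) ≤ P → c₂.X y ≤ P → c₂.X (-y) ≤ P → c₂.X (g₂ 3) ≤ P →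
        c₂.X (-g₂ 3) ≤ P → c₂.X s ≤ P → c₂.X (-s) ≤ P → L₂ ≤ P :=
  TypeF4Ch.exists_B4_chart c₂ H.t₂ (fun i => A₂.mem i (H.k₂ i))
    (fun i j hij => cpr_zero A₂ (H.k₂ i) (H.k₂ j) hij)
    (fun _ hx h0 h1 => partner A₂ (H.k₂ 0) (H.k₂ 1) H.P₂.le hx h0 h1)

theorem In.Z₂ (A₂ : Adapted K X c₂ g₂) : ∀ r ∈ c₂.R, c₂.Z r = c₂.X r := by
  obtain ⟨y, s, hy, -, -, -, -, y3, y3', -⟩ := H.exists_B4 A₂
  exact Z_eq_X H.D.hyp c₂ H.nt₂ (A₂.mem 3 (H.k₂ 3)) hy y3 y3'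

/-- the sign group `(0, 0, 0, +)` -/
theorem In.XX_le_X (A₂ : Adapted K X c₂ g₂) : XX (QF K X) (![0, 0, 0, 1] : Fin 4 → SignType) ≤ X 3 1 := by
  have Fr := H.frame
  have hle : XX (QF K X) (![0, 0, 0, 1] : Fin 4 → SignType) ≤ L₂ := by
    refine TypeCFrm.XX_le Fr (i := 3) (show (1 : SignType) ≠ 0 by decide) (H.k₂ 3) fun a ha => ?_
    rw [mem_normalizer_iff_cj]
    refine mem_normalizer_piece H.D Fr H.P₂ (H.k₂ 0) (s := 1) (by decide)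
      (XX_comm_zz' Fr (e := ![0, 0, 0, 1]) (k := 0) (l := 1) rfl rfl a ha) fun x hx => ?_
    have h1 := mem_XX.1 ha 0
    exact Fr.mem_Q_zero.1 h1 x (H.D.X_le 0 (by decide) hx)
  obtain ⟨y, s, -, -, -, -, -, -, -, -, -, -, -, hun, -⟩ := H.exists_B4 A₂
  have hroot : ∀ i, IsRoot c₂.cs c₂.h (g₂ i) := fun i => c₂.cls.root _ (A₂.mem i (H.k₂ i))
  rw [(H.on₂ A₂).XX_eq Fr (i₀ := 3) (fun i hi => absurd (Set.mem_univ i) hi) hle (Set.mem_univ 3)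
    (show (1 : SignType) ≠ 0 by decide)]
  refine RGD.Sup_le fun v hv => ?_
  have h1 : ∀ i, SignType.sign (cpr c₂.cs c₂.h v (g₂ i)) = (![0, 0, 0, 1] : Fin 4 → SignType) i := by
    intro i
    have h2 := hv.2 i (Set.mem_univ i)
    rwa [ellOf_apply _ _ (hroot i)] at h2
  have h2 : v = g₂ 3 := hun v hv.1 (sign_eq_zero_iff.1 (h1 0)) (sign_eq_zero_iff.1 (h1 1))
    (sign_eq_zero_iff.1 (h1 2)) (sign_eq_one_iff.1 (h1 3))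
  rw [h2, ← H.Z₂ A₂ _ (A₂.mem 3 (H.k₂ 3)), A₂.pos 3 (H.k₂ 3)]

theorem In.Z₁ (A₁ : Adapted K X c₁ g₁) (A₂ : Adapted K X c₂ g₂) : ∀ r ∈ c₁.R, c₁.Z r = c₁.X r := by
  have h3 : K 3 ≤ L₁ := H.k₁ 3 (by decide)
  have hm := A₁.mem 3 h3
  refine Z_eq_of_one c₁ hm (le_antisymm (c₁.cls.le _ hm) ?_)
  rw [A₁.pos 3 h3]
  refine le_trans ?_ (H.XX_le_X A₂)
  refine le_trans (RGD.le_Sup (S := RS c₁.cs c₁.h (fun i => ellOf c₁.cs c₁.h (g₁ i)) {i | i ≠ 0}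
    (![0, 0, 0, 1] : Fin 4 → SignType)) ⟨c₁.cls.root _ hm, fun i hi => ?_⟩)
    ((H.on₁ A₁).Sup_le_XX H.frame (fun i hi => ?_))
  · have hi' : i ≠ 0 := hi
    have hKi := H.k₁ i hi'
    rw [ellOf_apply _ _ (c₁.cls.root _ (A₁.mem i hKi))]
    by_cases h : i = 3
    · subst h
      rw [cpr_self _ _ (c₁.cls.root _ hm)]
      rfl
    · rw [cpr_zero A₁ h3 hKi (Ne.symm h), sign_zero]
      match i with
      | 0 => rfl
      | 1 => rfl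
      | 2 => rfl
      | 3 => exact absurd rfl h
  · have : i = 0 := by
      by_contra h
      exact hi h
    rw [this]
    rfl

theorem In.fr₁ (A₁ : Adapted K X c₁ g₁) (A₂ : Adapted K X c₂ g₂) :
    FrChart K X (QF K X) {i | i ≠ 0} L₁ c₁.cs c₁.h p c₁.T c₁.n c₁.X (fun i => ellOf c₁.cs c₁.h (g₁ i)) g₁ := by
  rw [← H.set_eq]
  exact FrameOfFr.frChart_of_adapted c₁ H.D H.hF H.good A₁ (H.Z₁ A₁ A₂) H.out₁

theorem In.fr₂ (A₂ : Adapted K X c₂ g₂) :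
    FrChart K X (QF K X) Set.univ L₂ c₂.cs c₂.h p c₂.T c₂.n c₂.X (fun i => ellOf c₂.cs c₂.h (g₂ i)) g₂ := by
  rw [← H.set_eq₂]
  exact FrameOfFr.frChart_of_adapted c₂ H.D H.hF H.good A₂ (H.Z₂ A₂) H.out₂

end Main

/-! ### Nodes and planes -/

/-- The roots of the nodes, and the root `s`. -/
structure Rts {L₁ L₂ : Subgroup G} (c₁ : Chart Om p L₁) (c₂ : Chart Om p L₂) (g₁ : Fin 4 → c₁.I → ℤ)
    (g₂ : Fin 4 → c₂.I → ℤ) (x₃ x₄ : c₁.I → ℤ) (y s : c₂.I → ℤ) : Prop where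
  r3 : IsRoot c₁.cs c₁.h x₃
  r4 : IsRoot c₁.cs c₁.h x₄
  p31 : cpr c₁.cs c₁.h x₃ (g₁ 1) = 0
  p32 : cpr c₁.cs c₁.h x₃ (g₁ 2) = 1
  p33 : cpr c₁.cs c₁.h x₃ (g₁ 3) = -1
  p41 : cpr c₁.cs c₁.h x₄ (g₁ 1) = 1
  p42 : cpr c₁.cs c₁.h x₄ (g₁ 2) = -1
  p43 : cpr c₁.cs c₁.h x₄ (g₁ 3) = 0
  p34 : cpr c₁.cs c₁.h x₃ x₄ = -1
  q34 : cpr c₁.cs c₁.h x₄ x₃ = -1
  q33 : cpr c₁.cs c₁.h (g₁ 3) x₃ = -2
  gen₁ : ∀ P : Subgroup G, c₁.X x₄ ≤ P → c₁.X (-x₄) ≤ P → c₁.X x₃ ≤ P → c₁.X (-x₃) ≤ P → c₁.X (g₁ 3) ≤ P →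
    c₁.X (-g₁ 3) ≤ P → L₁ ≤ P
  yR : y ∈ c₂.R
  rs : IsRoot c₂.cs c₂.h s
  y0 : cpr c₂.cs c₂.h y (g₂ 0) = 1
  y1 : cpr c₂.cs c₂.h y (g₂ 1) = -1
  y2 : cpr c₂.cs c₂.h y (g₂ 2) = -1
  y3 : cpr c₂.cs c₂.h y (g₂ 3) = -1
  y3' : cpr c₂.cs c₂.h (g₂ 3) y = -1
  s0 : cpr c₂.cs c₂.h s (g₂ 0) = 0
  s1 : cpr c₂.cs c₂.h s (g₂ 1) = 0
  s2 : cpr c₂.cs c₂.h s (g₂ 2) = 2
  s3 : cpr c₂.cs c₂.h s (g₂ 3) = -2
  gen₂ : ∀ P : Subgroup G, c₂.X (g₂ 1) ≤ P → c₂.X (-g₂ 1) ≤ P → c₂.X y ≤ P → c₂.X (-y) ≤ P → c₂.X (g₂ 3) ≤ P →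
    c₂.X (-g₂ 3) ≤ P → c₂.X s ≤ P → c₂.X (-s) ≤ P → L₂ ≤ P

/-- the simple root groups -/
def Xs {L₁ L₂ : Subgroup G} (X : Fin 4 → SignType → Subgroup G) (c₁ : Chart Om p L₁) (c₂ : Chart Om p L₂)
    (x₃ x₄ : c₁.I → ℤ) (y : c₂.I → ℤ) : Fin 4 → Subgroup G := ![c₁.X x₄, c₁.X x₃, X 3 1, c₂.X y]

/-- the opposite root groups -/
def Xn {L₁ L₂ : Subgroup G} (X : Fin 4 → SignType → Subgroup G) (c₁ : Chart Om p L₁) (c₂ : Chart Om p L₂)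
    (x₃ x₄ : c₁.I → ℤ) (y : c₂.I → ℤ) : Fin 4 → Subgroup G := ![c₁.X (-x₄), c₁.X (-x₃), X 3 (-1), c₂.X (-y)]

/-- the group generated by the nodes -/
def G0 {L₁ L₂ : Subgroup G} (X : Fin 4 → SignType → Subgroup G) (c₁ : Chart Om p L₁) (c₂ : Chart Om p L₂)
    (x₃ x₄ : c₁.I → ℤ) (y : c₂.I → ℤ) : Subgroup G := ⨆ i, (Xs X c₁ c₂ x₃ x₄ y i ⊔ Xn X c₁ c₂ x₃ x₄ y i)

/-- the Cartan matrix -/
abbrev A4 : Fin 4 → Fin 4 → ℤ := ChevalleyStructure.CoxeterGeomTypes.cartanOf Cfsg.Lie.chevF4 4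

theorem a01 : A4 0 1 = -1 := by decide +kernel
theorem a10 : A4 1 0 = -1 := by decide +kernel
theorem a12 : A4 1 2 = -2 := by decide +kernel
theorem a21 : A4 2 1 = -1 := by decide +kernel
theorem a23 : A4 2 3 = -1 := by decide +kernel
theorem a32 : A4 3 2 = -1 := by decide +kernel

theorem m01 : CoxeterMatrix.F₄ 0 1 = 3 := show CoxeterMatrix.F₄.M 0 1 = 3 by decide
theorem m02 : CoxeterMatrix.F₄ 0 2 = 2 := show CoxeterMatrix.F₄.M 0 2 = 2 by decide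
theorem m03 : CoxeterMatrix.F₄ 0 3 = 2 := show CoxeterMatrix.F₄.M 0 3 = 2 by decide
theorem m12 : CoxeterMatrix.F₄ 1 2 = 4 := show CoxeterMatrix.F₄.M 1 2 = 4 by decide
theorem m13 : CoxeterMatrix.F₄ 1 3 = 2 := show CoxeterMatrix.F₄.M 1 3 = 2 by decide
theorem m23 : CoxeterMatrix.F₄ 2 3 = 3 := show CoxeterMatrix.F₄.M 2 3 = 3 by decide

theorem ne_six {n : ℕ} (i j : Fin n) : CoxeterMatrix.B n i j ≠ 6 := by
  show (if i = j then 1 else _) ≠ 6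
  split_ifs <;> decide

section Core

variable [Finite G] {F : Type} [Field F] [Fintype F] [CharP F p] {K : Fin 4 → Subgroup G}
  {X : Fin 4 → SignType → Subgroup G} {L₁ L₂ : Subgroup G} {c₁ : Chart Om p L₁} {c₂ : Chart Om p L₂}
  {g₁ : Fin 4 → c₁.I → ℤ} {g₂ : Fin 4 → c₂.I → ℤ}

theorem exists_rts (H : In (F := F) K X c₁ c₂) (A₁ : Adapted K X c₁ g₁) (A₂ : Adapted K X c₂ g₂) :
    ∃ (x₃ x₄ : c₁.I → ℤ) (y s : c₂.I → ℤ), Rts c₁ c₂ g₁ g₂ x₃ x₄ y s := by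
  obtain ⟨y, s, yR, rs, y0, y1, y2, y3, y3', s0, s1, s2, s3, -, gen₂⟩ := H.exists_B4 A₂
  obtain ⟨x₃, x₄, r3, r4, p31, p32, p33, p41, p42, p43, p34, q34, q33, gen₁⟩ :=
    TypeF4Ch.exists_C3_chart c₁ H.t₁ (g := g₁) (fun i hi => A₁.mem i (H.k₁ i hi))
      (fun i j hi hj hij => cpr_zero A₁ (H.k₁ i hi) (H.k₁ j hj) hij)
  exact ⟨x₃, x₄, y, s, ⟨r3, r4, p31, p32, p33, p41, p42, p43, p34, q34, q33, gen₁, yR, rs, y0, y1, y2, y3, y3',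
    s0, s1, s2, s3, gen₂⟩⟩

variable (H : In (F := F) K X c₁ c₂) (A₁ : Adapted K X c₁ g₁) (A₂ : Adapted K X c₂ g₂)
  {x₃ x₄ : c₁.I → ℤ} {y s : c₂.I → ℤ} (R : Rts c₁ c₂ g₁ g₂ x₃ x₄ y s)

include H A₁ A₂ R

theorem inp : TypeF4.Inp K (fun i => zz (K i)) X (QF K X) p c₁.cs c₁.h L₁ c₁.T c₁.n c₁.X
    (fun i => ellOf c₁.cs c₁.h (g₁ i)) g₁ c₂.cs c₂.h L₂ c₂.T c₂.n c₂.X (fun i => ellOf c₂.cs c₂.h (g₂ i)) g₂
    x₃ x₄ y where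
  F := H.frame
  C₁ := H.fr₁ A₁ A₂
  C₂ := H.fr₂ A₂
  r3 := R.r3
  r4 := R.r4
  ry := c₂.cls.root _ R.yR
  p31 := R.p31
  p32 := R.p32
  p33 := R.p33
  p41 := R.p41
  p42 := R.p42
  p43 := R.p43
  y0 := R.y0
  y1 := R.y1
  y2 := R.y2
  y3 := R.y3

theorem comm_lt (i j : Fin 4) (hij : i < j) (hm : CoxeterMatrix.F₄ i j = 2) :
    ∀ a ∈ Xs X c₁ c₂ x₃ x₄ y i ⊔ Xn X c₁ c₂ x₃ x₄ y i, ∀ b ∈ Xs X c₁ c₂ x₃ x₄ y j ⊔ Xn X c₁ c₂ x₃ x₄ y j,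
      a * b = b * a := by
  have S := inp H A₁ A₂ R
  match i, j, hij, hm with
  | 0, 1, _, hm => rw [m01] at hm; exact absurd hm (by decide)
  | 0, 2, _, _ => exact S.comm_Kk S.r4 (k := 3) (by decide) S.p43
  | 0, 3, _, _ => exact S.comm_y4
  | 1, 2, _, hm => rw [m12] at hm; exact absurd hm (by decide)
  | 1, 3, _, _ => exact S.comm_y3
  | 2, 3, _, hm => rw [m23] at hm; exact absurd hm (by decide)
  | 3, j, h3, _ => exact absurd h3 (by omega)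

theorem comm_ne (i j : Fin 4) (hij : i ≠ j) (hm : CoxeterMatrix.F₄ i j = 2) :
    ∀ a ∈ Xs X c₁ c₂ x₃ x₄ y i ⊔ Xn X c₁ c₂ x₃ x₄ y i, ∀ b ∈ Xs X c₁ c₂ x₃ x₄ y j ⊔ Xn X c₁ c₂ x₃ x₄ y j,
      a * b = b * a := by
  rcases lt_or_gt_of_ne hij with h | h
  · exact comm_lt H A₁ A₂ R i j h hm
  · intro a ha b hb
    exact (comm_lt H A₁ A₂ R j i h (by rw [CoxeterMatrix.F₄.symmetric]; exact hm) b hb a ha).symm

/-- the long node of the frame in the first chart -/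
theorem at1 (l : Prop) : At c₁ (X 3 1) (X 3 (-1)) l (g₁ 3) := by
  have h3 : K 3 ≤ L₁ := H.k₁ 3 (by decide)
  have hm := A₁.mem 3 h3
  refine ⟨c₁.cls.root _ hm, ?_, ?_, fun _ => ⟨hm, H.Z₁ A₁ A₂ _ hm⟩⟩
  · rw [← H.Z₁ A₁ A₂ _ hm, A₁.pos 3 h3]
  · rw [← H.Z₁ A₁ A₂ _ (Nodes.ClsNorm.neg_mem c₁.cls hm), A₁.neg 3 h3]

theorem at2 (l : Prop) : At c₂ (X 3 1) (X 3 (-1)) l (g₂ 3) := by
  have h3 : K 3 ≤ L₂ := H.k₂ 3
  have hm := A₂.mem 3 h3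
  refine ⟨c₂.cls.root _ hm, ?_, ?_, fun _ => ⟨hm, H.Z₂ A₂ _ hm⟩⟩
  · rw [← H.Z₂ A₂ _ hm, A₂.pos 3 h3]
  · rw [← H.Z₂ A₂ _ (Nodes.ClsNorm.neg_mem c₂.cls hm), A₂.neg 3 h3]

theorem M_ne_six₂ : ∀ a b, c₂.M a b ≠ 6 := by
  obtain ⟨e, he, -⟩ := H.t₂
  intro a b
  rw [c₂.M_apply he]
  exact ne_six (n := 4) _ _

theorem M_ne_six₁ : ∀ a b, c₁.M a b ≠ 6 := by
  obtain ⟨e, he, -⟩ := H.t₁
  intro a b
  rw [c₁.M_apply he]
  exact ne_six (n := 3) _ _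

theorem plane_lt (i j : Fin 4) (hij : i < j) (hm : CoxeterMatrix.F₄ i j ≠ 2) :
    Plane CoxeterMatrix.F₄ A4 Om p (Xs X c₁ c₂ x₃ x₄ y) (Xn X c₁ c₂ x₃ x₄ y) (fun i => 2 ≤ (i : ℕ)) i j := by
  match i, j, hij, hm with
  | 0, 1, _, _ =>
    refine ⟨L₁, c₁, x₄, x₃, ⟨R.r4, rfl, rfl, fun h => absurd h (by decide)⟩,
      ⟨R.r3, rfl, rfl, fun h => absurd h (by decide)⟩, ?_, ?_, fun _ => M_ne_six₁ H A₁ A₂ R⟩
    · rw [a01]; exact R.p34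
    · rw [a10]; exact R.q34
  | 0, 2, _, hm => exact absurd m02 hm
  | 0, 3, _, hm => exact absurd m03 hm
  | 1, 2, _, _ =>
    refine ⟨L₁, c₁, x₃, g₁ 3, ⟨R.r3, rfl, rfl, fun h => absurd h (by decide)⟩, at1 H A₁ A₂ R _, ?_, ?_,
      fun _ => M_ne_six₁ H A₁ A₂ R⟩
    · rw [a12]; exact R.q33
    · rw [a21]; exact R.p33
  | 1, 3, _, hm => exact absurd m13 hm
  | 2, 3, _, _ =>
    refine ⟨L₂, c₂, g₂ 3, y, at2 H A₁ A₂ R _, ⟨c₂.cls.root _ R.yR, rfl, rfl, fun _ => ⟨R.yR, H.Z₂ A₂ _ R.yR⟩⟩,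
      ?_, ?_, fun _ => M_ne_six₂ H A₁ A₂ R⟩
    · rw [a23]; exact R.y3
    · rw [a32]; exact R.y3'
  | 3, j, h3, _ => exact absurd h3 (by omega)

theorem le_G0 (i : Fin 4) : Xs X c₁ c₂ x₃ x₄ y i ≤ G0 X c₁ c₂ x₃ x₄ y ∧ Xn X c₁ c₂ x₃ x₄ y i ≤ G0 X c₁ c₂ x₃ x₄ y :=
  ⟨le_sup_left.trans (le_iSup (fun i => Xs X c₁ c₂ x₃ x₄ y i ⊔ Xn X c₁ c₂ x₃ x₄ y i) i),
    le_sup_right.trans (le_iSup (fun i => Xs X c₁ c₂ x₃ x₄ y i ⊔ Xn X c₁ c₂ x₃ x₄ y i) i)⟩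

theorem L₁_le : L₁ ≤ G0 X c₁ c₂ x₃ x₄ y := by
  have h := at1 H A₁ A₂ R True
  have l0 := le_G0 H A₁ A₂ R 0
  have l1 := le_G0 H A₁ A₂ R 1
  have l2 := le_G0 H A₁ A₂ R 2
  exact R.gen₁ _ l0.1 l0.2 l1.1 l1.2 (h.pos ▸ l2.1) (h.neg ▸ l2.2)

/-- the root group of `s` lies in `L₁` -/
theorem X_s_le {v : c₂.I → ℤ} (hv : IsRoot c₂.cs c₂.h v) (h0 : cpr c₂.cs c₂.h v (g₂ 0) = 0)
    (h2 : cpr c₂.cs c₂.h v (g₂ 2) ≠ 0) (h3 : cpr c₂.cs c₂.h v (g₂ 3) ≠ 0) : c₂.X v ≤ L₁ := by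
  have Fr := H.frame
  refine ((H.fr₂ A₂).le_XX Fr (e := fun i => SignType.sign (cpr c₂.cs c₂.h v (g₂ i)))
    (fun i hi => absurd (Set.mem_univ i) hi) hv (fun i _ => rfl)).trans ?_
  exact FrameOf.XX_le H.D Fr H.P₁ (i := 2) (j := 3) (by decide) (sign_ne_zero.2 h2) (sign_ne_zero.2 h3)
    (H.k₁ 2 (by decide)) (XX_comm_z Fr (l := 0) (show SignType.sign (cpr c₂.cs c₂.h v (g₂ 0)) = 0 by
      rw [h0, sign_zero]))

theorem L₂_le : L₂ ≤ G0 X c₁ c₂ x₃ x₄ y := by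
  have hL := L₁_le H A₁ A₂ R
  have h := at2 H A₁ A₂ R True
  have l2 := le_G0 H A₁ A₂ R 2
  have l3 := le_G0 H A₁ A₂ R 3
  have hm := A₂.mem 1 (H.k₂ 1)
  have e1 : c₂.X (g₂ 1) = X 1 1 := by rw [← H.Z₂ A₂ _ hm, A₂.pos 1 (H.k₂ 1)]
  have e2 : c₂.X (-g₂ 1) = X 1 (-1) := by
    rw [← H.Z₂ A₂ _ (Nodes.ClsNorm.neg_mem c₂.cls hm), A₂.neg 1 (H.k₂ 1)]
  have hr : ∀ i, IsRoot c₂.cs c₂.h (g₂ i) := fun i => c₂.cls.root _ (A₂.mem i (H.k₂ i))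
  refine R.gen₂ _ ?_ ?_ l3.1 l3.2 (h.pos ▸ l2.1) (h.neg ▸ l2.2) ?_ ?_
  · rw [e1]; exact (H.D.X_le 1 (by decide)).trans ((H.k₁ 1 (by decide)).trans hL)
  · rw [e2]; exact (H.D.X_le 1 (by decide)).trans ((H.k₁ 1 (by decide)).trans hL)
  · exact (X_s_le H A₁ A₂ R R.rs R.s0 (by rw [R.s2]; decide) (by rw [R.s3]; decide)).trans hL
  · refine (X_s_le H A₁ A₂ R R.rs.neg ?_ ?_ ?_).trans hL
    · rw [cpr_neg _ _ _ (hr 0), R.s0, neg_zero]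
    · rw [cpr_neg _ _ _ (hr 2), R.s2]; decide
    · rw [cpr_neg _ _ _ (hr 3), R.s3]; decide

theorem K_le (i : Fin 4) : K i ≤ G0 X c₁ c₂ x₃ x₄ y := (H.k₂ i).trans (L₂_le H A₁ A₂ R)

/-- the frame members are conjugate in `L₂` -/
theorem exists_conj (l : Fin 4) : ∃ g ∈ L₂, cj g (K 0) = K l := by
  have h := at2 H A₁ A₂ R True
  have key : ∀ i, ∃ g ∈ L₂, K i = cj g (K 3) := by
    intro i
    obtain ⟨g, hg, e⟩ := h.exists_conj (H.D.mem i) (H.k₂ i)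
    exact ⟨g, hg, by rw [e, H.D.K_eq 3]; rfl⟩
  obtain ⟨a, ha, e0⟩ := key 0
  obtain ⟨b, hb, e1⟩ := key l
  refine ⟨b * a⁻¹, mul_mem hb (inv_mem ha), ?_⟩
  rw [cj_mul, e1, e0, cj_inv_cj]

/-- the conjugates of `L₁` -/
theorem exists_L (l : Fin 4) : ∃ L' : Subgroup G, L' ≤ G0 X c₁ c₂ x₃ x₄ y ∧ FrameOf.Piece Om (zz (K l)) L' ∧
    delta Om (K l) ≤ L' := by
  obtain ⟨g, hg, e⟩ := exists_conj H A₁ A₂ R l
  have hg' := L₂_le H A₁ A₂ R hg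
  refine ⟨cj g L₁, ?_, ?_, ?_⟩
  · have h1 := cj_mono g (L₁_le H A₁ A₂ R)
    have h2 : cj g (G0 X c₁ c₂ x₃ x₄ y) = G0 X c₁ c₂ x₃ x₄ y := cj_eq_of_mem hg'
    rwa [h2] at h1
  · have h1 := piece_cj H.D.hyp.conj H.P₁ g
    rwa [zz_cj H.D.hyp (H.D.mem 0), e] at h1
  · rw [← e, ← cj_delta H.D.hyp.conj]
    exact cj_mono g H.d₁

theorem delta_le (l : Fin 4) : delta Om (K l) ≤ G0 X c₁ c₂ x₃ x₄ y := by
  obtain ⟨L', h1, -, h2⟩ := exists_L H A₁ A₂ R l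
  exact h2.trans h1

/-- the sign groups lie in `G0` -/
theorem XX_le {e : Fin 4 → SignType} (he : e ≠ 0) : XX (QF K X) e ≤ G0 X c₁ c₂ x₃ x₄ y := by
  have Fr := H.frame
  obtain ⟨i, hi⟩ := Function.ne_iff.1 he
  rw [Pi.zero_apply] at hi
  by_cases h : ∃ l, e l = 0
  · obtain ⟨l, hl⟩ := h
    have hil : i ≠ l := fun h => hi (h ▸ hl)
    obtain ⟨L', h1, h2, h3⟩ := exists_L H A₁ A₂ R l
    have hK : K i ≤ L' := (le_delta (H.D.mem i) (fun h => hil (injective H.D h)) (H.D.comm i l hil)).trans h3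
    refine le_trans (TypeCFrm.XX_le Fr hi hK fun a ha => ?_) h1
    rw [mem_normalizer_iff_cj]
    refine mem_normalizer_piece H.D Fr h2 hK hi (XX_comm_z Fr hl a ha) fun x hx => ?_
    exact Fr.Q_cent i _ hi a (mem_XX.1 ha i) x hx
  · push Not at h
    refine (FrameOf.XX_le H.D Fr H.P₂ (i := 0) (j := 1) (by decide) (h 0) (h 1) (H.k₂ 0)
      (XX_comm_zz Fr (by decide) (h 0) (h 1))).trans (L₂_le H A₁ A₂ R)

/-- the nodes lie in the group generated by the sign groups -/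
theorem X₁_le {v : c₁.I → ℤ} (hv : IsRoot c₁.cs c₁.h v) {i : Fin 4} (hi : i ≠ 0)
    (h0 : cpr c₁.cs c₁.h v (g₁ i) ≠ 0) :
    c₁.X v ≤ ⨆ e : {e : Fin 4 → SignType // e ≠ 0}, XX (QF K X) e.1 := by
  have Fr := H.frame
  refine ((H.fr₁ A₁ A₂).le_XX Fr
    (e := fun i => if i = 0 then 0 else SignType.sign (cpr c₁.cs c₁.h v (g₁ i))) (fun j hj => ?_) hv
    (fun j hj => ?_)).trans (le_iSup_of_le
      (⟨fun i => if i = 0 then 0 else SignType.sign (cpr c₁.cs c₁.h v (g₁ i)), fun h => ?_⟩ :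
        {e : Fin 4 → SignType // e ≠ 0}) le_rfl)
  · have : j = 0 := by
      by_contra h
      exact hj h
    exact if_pos this
  · exact (if_neg (show j ≠ 0 from hj)).symm
  · have h1 := congrFun h i
    simp only [if_neg hi] at h1
    exact h0 (sign_eq_zero_iff.1 h1)

theorem X₂_le {v : c₂.I → ℤ} (hv : IsRoot c₂.cs c₂.h v) {i : Fin 4} (h0 : cpr c₂.cs c₂.h v (g₂ i) ≠ 0) :
    c₂.X v ≤ ⨆ e : {e : Fin 4 → SignType // e ≠ 0}, XX (QF K X) e.1 := by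
  have Fr := H.frame
  refine ((H.fr₂ A₂).le_XX Fr (e := fun i => SignType.sign (cpr c₂.cs c₂.h v (g₂ i)))
    (fun j hj => absurd (Set.mem_univ j) hj) hv
    (fun j _ => rfl)).trans (le_iSup_of_le
      (⟨fun i => SignType.sign (cpr c₂.cs c₂.h v (g₂ i)), fun h => ?_⟩ :
        {e : Fin 4 → SignType // e ≠ 0}) le_rfl)
  have h1 := congrFun h i
  exact h0 (sign_eq_zero_iff.1 h1)

theorem G0_eq : G0 X c₁ c₂ x₃ x₄ y = ⨆ e : {e : Fin 4 → SignType // e ≠ 0}, XX (QF K X) e.1 := by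
  apply le_antisymm
  · have hr : ∀ i, i ≠ 0 → IsRoot c₁.cs c₁.h (g₁ i) := fun i hi => c₁.cls.root _ (A₁.mem i (H.k₁ i hi))
    have hr₂ : ∀ i, IsRoot c₂.cs c₂.h (g₂ i) := fun i => c₂.cls.root _ (A₂.mem i (H.k₂ i))
    have h := at1 H A₁ A₂ R True
    have ry := c₂.cls.root _ R.yR
    refine iSup_le fun i => ?_
    match i with
    | 0 =>
      refine sup_le (X₁_le H A₁ A₂ R R.r4 (i := 1) (by decide) (by rw [R.p41]; decide))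
        (X₁_le H A₁ A₂ R R.r4.neg (i := 1) (by decide) ?_)
      rw [cpr_neg _ _ _ (hr 1 (by decide)), R.p41]; decide
    | 1 =>
      refine sup_le (X₁_le H A₁ A₂ R R.r3 (i := 2) (by decide) (by rw [R.p32]; decide))
        (X₁_le H A₁ A₂ R R.r3.neg (i := 2) (by decide) ?_)
      rw [cpr_neg _ _ _ (hr 2 (by decide)), R.p32]; decide
    | 2 =>
      change X 3 1 ⊔ X 3 (-1) ≤ _
      rw [h.pos, h.neg]
      have h3 := hr 3 (by decide)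
      refine sup_le (X₁_le H A₁ A₂ R h3 (i := 3) (by decide) (by rw [cpr_self _ _ h3]; decide))
        (X₁_le H A₁ A₂ R h3.neg (i := 3) (by decide) ?_)
      rw [cpr_neg _ _ _ h3, cpr_self _ _ h3]; decide
    | 3 =>
      refine sup_le (X₂_le H A₁ A₂ R ry (i := 0) (by rw [R.y0]; decide))
        (X₂_le H A₁ A₂ R ry.neg (i := 0) ?_)
      rw [cpr_neg _ _ _ (hr₂ 0), R.y0]; decide
  · exact iSup_le fun e => XX_le H A₁ A₂ R e.2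

/-- **The chart of type `F₄`.** -/
theorem exists_chart (S : Sylow 2 G) (hS : Set.range K = OmS Om (S : Subgroup G)) :
    ∃ c : Chart Om p (G0 X c₁ c₂ x₃ x₄ y), c.IsTy Nodes.Chart.Ty.F4 ∧ ∀ r ∈ c.R, c.Z r = c.X r := by
  have : Finite CoxeterMatrix.F₄.Group :=
    Nodes.RGDChev.finite_W Nodes.KindF.isType CoxeterMatrix.F₄.toCoxeterSystem
  have : Fintype CoxeterMatrix.F₄.Group := Fintype.ofFinite _
  obtain ⟨c, e, -, -, h1, -, -, h2⟩ := exists_isTy (p := p) Nodes.Chart.Ty.F4 trivial (show 2 ≤ 4 by norm_num)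
    CoxeterMatrix.F₄.toCoxeterSystem c₁.prime c₁.odd H.D.hyp S (Xs X c₁ c₂ x₃ x₄ y) (Xn X c₁ c₂ x₃ x₄ y)
    (fun i j hij hm => comm_ne H A₁ A₂ R i j hij hm)
    (fun i j hij hm => by
      rcases lt_or_gt_of_ne hij with h | h
      · exact Or.inl (plane_lt H A₁ A₂ R i j h hm)
      · refine Or.inr (plane_lt H A₁ A₂ R j i h fun h0 => hm ?_)
        exact (CoxeterMatrix.F₄.symmetric i j).trans h0)
    (fun J hJ => by
      rw [← hS] at hJ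
      obtain ⟨i, rfl⟩ := hJ
      exact ⟨L₂, c₂, (2 : Fin 4), g₂ 3, show 2 ≤ 2 from le_rfl, at2 H A₁ A₂ R True, L₂_le H A₁ A₂ R, H.k₂ i⟩)
  exact ⟨c, h1, h2⟩

/-- the closing property -/
theorem close (S : Sylow 2 G) (hS : Set.range K = OmS Om (S : Subgroup G)) :
    ∀ J ∈ Om, J ≤ G0 X c₁ c₂ x₃ x₄ y →
      Subgroup.normalizer (J : Set G) ≤ Subgroup.normalizer (G0 X c₁ c₂ x₃ x₄ y : Set G) := by
  refine frame_close H.D.hyp S H.frame hS (injective H.D) (fun i => rfl) (q := Fintype.card F) (fun i => ?_)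
    (fun i s hs => H.D.card_X i hs) (fun i s hs => QF_of_ne K X i hs) (G0_eq H A₁ A₂ R) (K_le H A₁ A₂ R)
    (delta_le H A₁ A₂ R)
  obtain ⟨e, -⟩ := H.D.sl i
  exact ⟨F, inferInstance, inferInstance, rfl, ⟨e⟩⟩

end Core

/-- **Type `F₄`.** -/
theorem exists_F4 [Finite G] {F : Type} [Field F] [Fintype F] [CharP F p] {K : Fin 4 → Subgroup G}
    {X : Fin 4 → SignType → Subgroup G} {L₁ L₂ : Subgroup G} {c₁ : Chart Om p L₁} {c₂ : Chart Om p L₂}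
    (H : In (F := F) K X c₁ c₂) (S : Sylow 2 G) (hS : Set.range K = OmS Om (S : Subgroup G)) :
    ∃ (G₀ : Subgroup G) (c : Chart Om p G₀), c.IsTy Nodes.Chart.Ty.F4 ∧ (∀ r ∈ c.R, c.Z r = c.X r) ∧ L₁ ≤ G₀ ∧
      L₂ ≤ G₀ ∧ (∀ i, K i ≤ G₀) ∧ (∀ i, delta Om (K i) ≤ G₀) ∧
      G₀ = (⨆ e : {e : Fin 4 → SignType // e ≠ 0}, XX (QF K X) e.1) ∧
      ∀ J ∈ Om, J ≤ G₀ → Subgroup.normalizer (J : Set G) ≤ Subgroup.normalizer (G₀ : Set G) := by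
  obtain ⟨c₁', g₁, t₁, A₁⟩ := exists_ad H.D c₁ H.t₁ (show 2 ≤ 3 by norm_num)
  obtain ⟨c₂', g₂, t₂, A₂⟩ := exists_ad H.D c₂ H.t₂ (show 2 ≤ 4 by norm_num)
  have H' : In (F := F) K X c₁' c₂' := ⟨H.D, H.hF, H.good, t₁, t₂, H.k₁, H.z₁, H.P₁, H.d₁, H.k₂, H.P₂⟩
  obtain ⟨x₃, x₄, y, s, R⟩ := exists_rts H' A₁ A₂
  obtain ⟨c, hc, hZ⟩ := exists_chart H' A₁ A₂ R S hS
  exact ⟨_, c, hc, hZ, L₁_le H' A₁ A₂ R, L₂_le H' A₁ A₂ R, K_le H' A₁ A₂ R, delta_le H' A₁ A₂ R,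
    G0_eq H' A₁ A₂ R, close H' A₁ A₂ R S hS⟩

end Cfsg.Agent.Cit.TypeF4Main
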