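import Mathlib
import Cfsg.Agent.Cit.TypeF4Main
import Cfsg.Agent.Cit.FrameProv

/-!
Type `F₄` (project CIT, (3b)), final form (the same form as `TypeESixEnd.exists_chart`).

* `not_le_of_comm` : a group with a chart of rank at least two containing `K ∈ Om` does not centralise `zz K`;
* `closed_of_delta` : a group containing all `K i` and all `Δ_i` is closed under commuting;
* `exists_chart` : **type `F₄`**, `Δ_0` of type `C₃` and `Γ_01` of type `B₄`.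
-/

set_option autoImplicit false
set_option linter.unusedSectionVars false

namespace Cfsg.Agent.Cit.TypeF4End

open CoxeterSystem Cfsg.Agent.ChevalleyStructure.CoxeterGeom Cfsg.Agent.Tits.Roots Cfsg.Agent.Tits.Core
  Cfsg.Agent.Nodes.Chart Cfsg.Agent.Cit.FrameOf Cfsg.Agent.Cit.FrameSign Cfsg.Agent.Cit.FrameClose

universe u

variable {G : Type u} [Group G] [Finite G] {Om : Set (Subgroup G)} {p : ℕ} {L : Subgroup G}

/-- A group with a chart of rank at least two containing a member `K` of `Om` does not centralise `zz K`. -/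
theorem not_le_of_comm (c : Chart Om p L) (hnt : Nontrivial c.I) (hyp : Hyp Om) {K : Subgroup G} (hK : K ∈ Om)
    (hc : ∀ a ∈ L, a * zz K = zz K * a) : ¬ K ≤ L := by
  intro hKL
  obtain ⟨r, hr, g, hg, h1⟩ := c.om_conj K hK hKL
  have hz := TypeF4Main.z_ne_one c hnt r hr
  obtain ⟨y, hy, h3, h4, h5⟩ := FrameOfFr.exists_not_orth c hnt (c.cls.root r hr)
  have h6 : zz K = g * c.z r * g⁻¹ := by
    symm
    refine hyp.eq_zz hK ?_ ?_ ?_
    · rw [h1]; exact conj_mem_cj (c.cls.z_mem r hr)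
    · have := c.cls.z_sq r hr
      calc g * c.z r * g⁻¹ * (g * c.z r * g⁻¹) = g * (c.z r * c.z r) * g⁻¹ := by group
        _ = 1 := by rw [this]; group
    · intro h0
      exact hz (conj_eq_one_iff.1 h0)
  have h7 : ∀ a ∈ L, a * c.z r = c.z r * a := by
    intro a ha
    have h8 := hc (g * a * g⁻¹) (mul_mem (mul_mem hg ha) (inv_mem hg))
    rw [h6] at h8
    calc a * c.z r = g⁻¹ * (g * a * g⁻¹ * (g * c.z r * g⁻¹)) * g := by group
      _ = g⁻¹ * (g * c.z r * g⁻¹ * (g * a * g⁻¹)) * g := by rw [h8]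
      _ = c.z r * a := by group
  apply Nodes.StdConn.X_ne_bot c.cls hy
  rw [Subgroup.eq_bot_iff_forall]
  intro a ha
  apply Nodes.ZRel.eq_one_of_inv c.cls c.prime c.odd hy ha
  have h8 := c.cls.z_inv r hr y hy h3 h4 h5 a ha
  rw [← h7 a (FrameOf.X_le c hy ha), mul_assoc, c.cls.z_sq r hr, mul_one] at h8
  exact h8

/-- A group `G₀` containing all `K i` and all `Δ_i` is closed under commuting. -/
theorem closed_of_delta {ι : Type*} {K : ι → Subgroup G} (hyp : Hyp Om) (S : Sylow 2 G)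
    (hS : Set.range K = OmS Om (S : Subgroup G)) {G₀ : Subgroup G} (hKG : ∀ i, K i ≤ G₀)
    (hΔ : ∀ i, delta Om (K i) ≤ G₀) : ∀ J ∈ Om, J ≤ G₀ → ∀ J' ∈ Om, (∀ a ∈ J, ∀ b ∈ J', a * b = b * a) →
      J' ≤ G₀ := by
  intro J hJ hJG J' hJ' hc
  obtain ⟨g, hg, h1⟩ := exists_cj_mem hyp S (H := G₀) (by
    intro M hM
    rw [← hS] at hM
    obtain ⟨j, rfl⟩ := hM
    exact hKG j) hJ hJG
  rw [← hS] at h1
  obtain ⟨i, hi⟩ := h1
  have h2 : cj g J' ≤ G₀ := by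
    by_cases hne : cj g J' = K i
    · rw [hne]; exact hKG i
    · refine (le_delta (K := K i) (hyp.conj J' hJ' g) hne ?_).trans (hΔ i)
      rw [hi]
      exact TypeF4Main.comm_cj g fun b hb a ha => (hc a ha b hb).symm
  have h3 : J' = cj g⁻¹ (cj g J') := (cj_inv_cj g J').symm
  rw [h3]
  have h4 := cj_mono g⁻¹ h2
  have h5 : cj g⁻¹ G₀ = G₀ := Parab.cj_eq_of_mem (inv_mem hg)
  rwa [h5] at h4

/-- **Type `F₄`, final form.**  `L₁ = Δ_0` of type `C₃`, `L₂ = Γ_01` of type `B₄`. -/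
theorem exists_chart {F : Type} [Field F] [Fintype F] [CharP F p] {K : Fin 4 → Subgroup G}
    {X : Fin 4 → SignType → Subgroup G} (D : Dat Om F K X) (hF : Odd (Fintype.card F))
    (hg : ∀ i, Good p (X i 1) (zz (K i))) (S : Sylow 2 G) (hS : Set.range K = OmS Om (S : Subgroup G))
    {L₁ L₂ : Subgroup G} (P₁ : FrameOf.Piece Om (zz (K 0)) L₁) (c₁ : Chart Om p L₁)
    (ht₁ : c₁.IsTy (Nodes.Chart.Ty.C 3)) (hK₁ : ∀ i, i ≠ 0 → K i ≤ L₁)
    (P₂ : FrameOf.Piece Om (zz (K 0) * zz (K 1)) L₂) (c₂ : Chart Om p L₂) (ht₂ : c₂.IsTy (Nodes.Chart.Ty.B 4))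
    (hK₂ : ∀ i, K i ≤ L₂) :
    ∃ (G₀ : Subgroup G) (c : Chart Om p G₀), c.IsTy Nodes.Chart.Ty.F4 ∧ (∀ r ∈ c.R, c.Z r = c.X r) ∧ L₁ ≤ G₀ ∧
      L₂ ≤ G₀ ∧ (∀ i, K i ≤ G₀) ∧ (∀ i, delta Om (K i) ≤ G₀) ∧
      (∀ J ∈ Om, J ≤ G₀ → ∀ J' ∈ Om, (∀ a ∈ J, ∀ b ∈ J', a * b = b * a) → J' ≤ G₀) ∧
      ∀ J ∈ Om, J ≤ G₀ → Subgroup.normalizer (J : Set G) ≤ Subgroup.normalizer (G₀ : Set G) := by
  have hn : ¬ K 0 ≤ L₁ := not_le_of_comm c₁ (TypeF4Main.nontrivial_I c₁ ht₁ (show 2 ≤ 3 by norm_num)) D.hyp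
    (D.mem 0) P₁.le
  have hz : ∀ a ∈ L₁, ∀ b ∈ K 0, a * b = b * a := by
    rcases P₁.mem (K 0) (D.mem 0) (fun a ha => (D.long hF 0 one_ne_zero).central ha) with h1 | h1
    · exact absurd h1 hn
    · exact h1
  have H : TypeF4Main.In (F := F) K X c₁ c₂ :=
    ⟨D, hF, hg, ht₁, ht₂, hK₁, hz, P₁, FrameProv.delta_le D.hyp S hS P₁ hK₁, hK₂, P₂⟩
  obtain ⟨G₀, c, h1, h2, h3, h4, h5, h6, -, h7⟩ := TypeF4Main.exists_F4 H S hS
  exact ⟨G₀, c, h1, h2, h3, h4, h5, h6, closed_of_delta D.hyp S hS h5 h6, h7⟩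

end Cfsg.Agent.Cit.TypeF4End
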