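import Mathlib
import Cfsg.Agent.Cit.FourCmp
import Cfsg.Agent.Cit.FourRoots
import Cfsg.Agent.Cit.TypeESixEnd
import Cfsg.Agent.Cit.TypeF4End
import Cfsg.Agent.Nodes.TyStd

/-!
# `|Om(S)| = 4`, all involutions different: the types of the pieces match (project CIT)

`L₁` the piece of `C(z_b)`, `b ∈ {0, 1}`, of type `C 3` or `A 5`, containing `K i`, `i ≠ b`; `L₂` the piece of `C(z_0 z_1)`
of type `B 4`, `B 5` or `D 5`, containing all `K i`.

* `match_types` : `(C 3, B 4)` or `(A 5, D 5)`.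
-/

set_option autoImplicit false
set_option linter.unusedSectionVars false

namespace Cfsg.Agent.Cit.FourMatch

open CoxeterSystem Cfsg.Agent.ChevalleyStructure.CoxeterGeom Cfsg.Agent.Tits.Roots Cfsg.Agent.Tits.Core
  Cfsg.Agent.Nodes.BNOf Cfsg.Agent.Nodes.Coroot Cfsg.Agent.Nodes.Chart Cfsg.Agent.Nodes.TyStd
  Cfsg.Agent.Cit.FrameSign Cfsg.Agent.Cit.NodeGlue Cfsg.Agent.Cit.FrameOf Cfsg.Agent.Cit.FrameProv
  Cfsg.Agent.Cit.FourCmp Cfsg.Agent.Cit.FourRoots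

variable {G : Type*} [Group G] [Finite G] {Om : Set (Subgroup G)} {F : Type*} [Field F] [Fintype F] {p : ℕ}
  [CharP F p] {K : Fin 4 → Subgroup G} {X : Fin 4 → SignType → Subgroup G} {L : Subgroup G}

/-- Adapted charts with the standard root system. -/
theorem exists_std_ad (D : Dat Om F K X) (c : Chart Om p L) {τ : Ty} (ht : c.IsTy τ) (h2 : 2 ≤ τ.rk)
    (Pr : ∀ (I W : Type) [Fintype I] [DecidableEq I] [Group W] [Fintype W] (M : CoxeterMatrix I)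
      (_ : CoxeterSystem M W) (A : I → I → ℤ) (_ : IsCartan M A) (_ : Set (I → ℤ)) (_ : Fin 4 → I → ℤ), Prop)
    (H : ∀ [Fintype τ.M.Group], ∃ R' : Set (Fin τ.rk → ℤ), (∀ i, sr i ∈ R' ↔ τ.long i) ∧
      (∀ r ∈ R', ∀ s ∈ R', ∃ w, s = rep τ.M.toCoxeterSystem τ.isCartan w r) ∧
      (∀ r ∈ R', IsRoot τ.M.toCoxeterSystem τ.isCartan r) ∧
      (∀ r ∈ R', ∀ w, rep τ.M.toCoxeterSystem τ.isCartan w r ∈ R') ∧
      ∀ g : Fin 4 → Fin τ.rk → ℤ, (∀ i, K i ≤ L → g i ∈ R') →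
        (∀ i, K i ≤ L → ∀ j, K j ≤ L → i ≠ j → cpr τ.M.toCoxeterSystem τ.isCartan (g i) (g j) = 0) →
        Pr (Fin τ.rk) τ.M.Group τ.M τ.M.toCoxeterSystem τ.cartan τ.isCartan R' g) :
    ∃ (c' : Chart Om p L) (g : Fin 4 → c'.I → ℤ), c'.IsTy τ ∧ Adapted K X c' g ∧
      Pr c'.I c'.W c'.M c'.cs c'.A c'.h c'.R g := by
  have hf : Finite τ.M.Group := finite_of_isTy c ht τ.M.toCoxeterSystem
  let _ : Fintype τ.M.Group := Fintype.ofFinite _
  obtain ⟨R', h1, h2', hroot, hact, HP⟩ := H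
  obtain ⟨e, hM, hA, hR, h4⟩ := exists_chart_of_isTy c ht (W' := τ.M.Group) τ.M.toCoxeterSystem (R' := R')
    hroot hact h1 h2'
  obtain ⟨y, hy, g, hAd⟩ := exists_adapted
    (reindex c e hM hA τ.M.toCoxeterSystem τ.isCartan hroot hact hR h2')
    (TypeF4Main.z_ne_one _ (TypeF4Main.nontrivial_I _ h4 h2)) D
  refine ⟨conjChart (reindex c e hM hA τ.M.toCoxeterSystem τ.isCartan hroot hact hR h2') hy D.hyp.conj, g, h4, hAd,
    HP g hAd.mem fun i hi j hj hij => ?_⟩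
  exact (cpr_zero_iff τ.M.toCoxeterSystem τ.isCartan (g i) (hroot _ (hAd.mem j hj))).2 (hAd.orth i hi j hj hij)

theorem SR_eq {c : Chart Om p L} {g : Fin 4 → c.I → ℤ} :
    SR K c g ev = SS c.cs c.h (fun i => K i ≤ L) g ev := rfl

/-- type `A 5` -/
theorem exists_A5 (D : Dat Om F K X) (c : Chart Om p L) (ht : c.IsTy (Ty.A 5)) (h2 : K 2 ≤ L) (h3 : K 3 ≤ L) :
    ∃ (c' : Chart Om p L) (g : Fin 4 → c'.I → ℤ), c'.IsTy (Ty.A 5) ∧ Adapted K X c' g ∧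
      (SR K c' g ev).Nonempty ∧ Am2 c'.cs c'.h (SR K c' g ev) ∧ Two c'.cs c'.h c'.R (SR K c' g ev) := by
  obtain ⟨c', g, h4, hA, h5, h6⟩ := exists_std_ad D c ht (by decide)
    (fun I W _ _ _ _ M cs A h R g => (SS cs h (fun i => K i ≤ L) g ev).Nonempty ∧
      Am2 cs h (SS cs h (fun i => K i ≤ L) g ev)) (by
    intro _
    refine ⟨{x | IsRoot (Ty.A 5).M.toCoxeterSystem (Ty.A 5).isCartan x}, fun i => ⟨fun _ => trivial,
      fun _ => isRoot_sr _ _ i⟩, fun r hr s hs => ?_, fun r hr => hr, fun r hr w => isRoot_rep w hr,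
      fun g hg ho => FourRoots.typeA h2 h3 hg ho⟩
    obtain ⟨w, hw⟩ := Nodes.KindA.trans (Ty.A 5).M.toCoxeterSystem (Ty.A 5).isCartan hr hs
    exact ⟨w, hw.symm⟩)
  refine ⟨c', g, h4, hA, h5, h6, ?_⟩
  exact two_of_slaced (fun i j => (TypeESixEnd.M_ne c' h4 (TypeESixEnd.slTy_A 5) i j).1)
    (fun i j => (TypeESixEnd.M_ne c' h4 (TypeESixEnd.slTy_A 5) i j).2) h2 h3
    (fun i hi => c'.cls.root _ (hA.mem i hi)) hA.orth h5
    (fun x hx => TypeESixEnd.mem_R_of_isTy c' h4 (TypeESixEnd.slTy_A 5) hx)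

/-- type `C 3` -/
theorem exists_C3 (D : Dat Om F K X) (c : Chart Om p L) (ht : c.IsTy (Ty.C 3)) (h2 : K 2 ≤ L) (h3 : K 3 ≤ L) :
    ∃ (c' : Chart Om p L) (g : Fin 4 → c'.I → ℤ), c'.IsTy (Ty.C 3) ∧ Adapted K X c' g ∧
      (SR K c' g ev).Nonempty ∧ Am1 c'.cs c'.h (SR K c' g ev) := by
  exact exists_std_ad D c ht (by decide)
    (fun I W _ _ _ _ M cs A h R g => (SS cs h (fun i => K i ≤ L) g ev).Nonempty ∧
      Am1 cs h (SS cs h (fun i => K i ≤ L) g ev)) (by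
    intro _
    exact ⟨_, fun i => Nodes.RKindsBC.sr_mem_RC, Nodes.KindBC.trans_RC _, fun r hr => Nodes.KindBC.root_RC _ hr,
      fun r hr w => Nodes.KindBC.act_RC _ hr w, fun g hg ho => typeC h2 h3 hg ho⟩)

/-- type `B 4` -/
theorem exists_B4 (D : Dat Om F K X) (c : Chart Om p L) (ht : c.IsTy (Ty.B 4)) (hK : ∀ i, K i ≤ L) :
    ∃ (c' : Chart Om p L) (g : Fin 4 → c'.I → ℤ), c'.IsTy (Ty.B 4) ∧ Adapted K X c' g ∧
      Am1 c'.cs c'.h (SR K c' g ev) := by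
  exact exists_std_ad D c ht (by decide)
    (fun I W _ _ _ _ M cs A h R g => Am1 cs h (SS cs h (fun i => K i ≤ L) g ev)) (by
    intro _
    exact ⟨_, fun i => Nodes.RKindsBC.sr_mem_RB, Nodes.KindBC.trans_RB _, fun r hr => Nodes.KindBC.root_RB _ hr,
      fun r hr w => Nodes.KindBC.act_RB _ hr w, fun g hg ho => typeB4 hK (fun i => hg i (hK i))
        fun i j hij => ho i (hK i) j (hK j) hij⟩)

/-- type `B 5` -/
theorem exists_B5 (D : Dat Om F K X) (c : Chart Om p L) (ht : c.IsTy (Ty.B 5)) (hK : ∀ i, K i ≤ L) :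
    ∃ (c' : Chart Om p L) (g : Fin 4 → c'.I → ℤ), c'.IsTy (Ty.B 5) ∧ Adapted K X c' g ∧
      ((SR K c' g ev).Nonempty → Three c'.cs c'.h c'.R (SR K c' g ev)) := by
  exact exists_std_ad D c ht (by decide)
    (fun I W _ _ _ _ M cs A h R g => (SS cs h (fun i => K i ≤ L) g ev).Nonempty →
      Three cs h R (SS cs h (fun i => K i ≤ L) g ev)) (by
    intro _
    exact ⟨_, fun i => Nodes.RKindsBC.sr_mem_RB, Nodes.KindBC.trans_RB _, fun r hr => Nodes.KindBC.root_RB _ hr,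
      fun r hr w => Nodes.KindBC.act_RB _ hr w, fun g hg ho => typeB5 hK (fun i => hg i (hK i))
        fun i j hij => ho i (hK i) j (hK j) hij⟩)

/-- type `D 5` -/
theorem exists_D5 (D : Dat Om F K X) (c : Chart Om p L) (ht : c.IsTy (Ty.D 5)) (hK : ∀ i, K i ≤ L) :
    ∃ (c' : Chart Om p L) (g : Fin 4 → c'.I → ℤ), c'.IsTy (Ty.D 5) ∧ Adapted K X c' g ∧
      ((SR K c' g ev).Nonempty → Two c'.cs c'.h c'.R (SR K c' g ev)) := by
  obtain ⟨y, hy, g, hA⟩ := exists_adapted c (TypeF4Main.z_ne_one c (TypeF4Main.nontrivial_I c ht (by decide))) D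
  refine ⟨conjChart c hy D.hyp.conj, g, ht, hA, fun hne => ?_⟩
  exact two_of_slaced (fun i j => (TypeESixEnd.M_ne (conjChart c hy D.hyp.conj) ht (TypeESixEnd.slTy_D 5) i j).1)
    (fun i j => (TypeESixEnd.M_ne (conjChart c hy D.hyp.conj) ht (TypeESixEnd.slTy_D 5) i j).2) (hK 2) (hK 3)
    (fun i hi => (conjChart c hy D.hyp.conj).cls.root _ (hA.mem i hi)) hA.orth hne
    (fun x hx => TypeESixEnd.mem_R_of_isTy (conjChart c hy D.hyp.conj) ht (TypeESixEnd.slTy_D 5) hx)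

/-! ### The comparison -/

/-- the piece of `C(z_b)` -/
theorem ad_delta (D : Dat Om F K X) (hF : Odd (Fintype.card F)) (hg : ∀ i, Good p (X i 1) (zz (K i))) {b : Fin 4}
    (hb : b = 0 ∨ b = 1) (P : Piece Om (zz (K b)) L) {c : Chart Om p L} {τ : Ty} (ht : c.IsTy τ) (h2 : 2 ≤ τ.rk)
    (hK : ∀ i, i ≠ b → K i ≤ L) {g : Fin 4 → c.I → ℤ} (hA : Adapted K X c g) : Ad X K L c g ev := by
  have Fr := frame_of D hF hg
  have hKb : ¬ K b ≤ L := TypeF4End.not_le_of_comm c (TypeF4Main.nontrivial_I c ht h2) D.hyp (D.mem b) P.le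
  have eb : ev b = 0 := by rcases hb with rfl | rfl <;> decide
  have b2 : (2 : Fin 4) ≠ b := by rcases hb with rfl | rfl <;> decide
  have e2 : ev 2 ≠ 0 := by decide
  refine ⟨hA, ?_, ?_, XX_le_zero D Fr P eb e2 (hK 2 b2), XX_le_zero D Fr P (e := -ev) ?_ (i := 2) ?_ (hK 2 b2),
    2, hK 2 b2, e2⟩
  · intro i hi
    have : i = b := by by_contra hne; exact hi (hK i hne)
    subst this
    rcases P.mem (K i) (D.mem i) (fun a ha => (Fr.z_cent i a ha).symm) with h1 | h1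
    · exact absurd h1 hKb
    · exact h1
  · intro i hi
    have : i = b := by by_contra hne; exact hi (hK i hne)
    rw [this, eb]
  · rw [Pi.neg_apply, eb, neg_zero]
  · decide

/-- the piece of `C(z_0 z_1)` -/
theorem ad_gamma (D : Dat Om F K X) (hF : Odd (Fintype.card F)) (hg : ∀ i, Good p (X i 1) (zz (K i)))
    (P : Piece Om (zz (K 0) * zz (K 1)) L) {c : Chart Om p L} (hK : ∀ i, K i ≤ L) {g : Fin 4 → c.I → ℤ}
    (hA : Adapted K X c g) : Ad X K L c g ev := by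
  have Fr := frame_of D hF hg
  have e0 : ev 0 = 0 := by decide
  have e1 : ev 1 = 0 := by decide
  refine ⟨hA, fun i hi => absurd (hK i) hi, fun i hi => absurd (hK i) hi,
    XX_le' D Fr P (i := 2) (by decide) (hK 2) (XX_comm_zz' Fr e0 e1),
    XX_le' D Fr P (i := 2) (e := -ev) (by decide) (hK 2) (XX_comm_zz' Fr ?_ ?_), 2, hK 2, by decide⟩
  · rw [Pi.neg_apply, e0, neg_zero]
  · rw [Pi.neg_apply, e1, neg_zero]

/-- **The types match.** -/
theorem match_types (D : Dat Om F K X) (hF : Odd (Fintype.card F)) (hg : ∀ i, Good p (X i 1) (zz (K i))) {b : Fin 4}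
    (hb : b = 0 ∨ b = 1) {L₁ L₂ : Subgroup G} (P₁ : Piece Om (zz (K b)) L₁) (c₁ : Chart Om p L₁)
    (hK₁ : ∀ i, i ≠ b → K i ≤ L₁) (P₂ : Piece Om (zz (K 0) * zz (K 1)) L₂) (c₂ : Chart Om p L₂)
    (hK₂ : ∀ i, K i ≤ L₂) (ht₁ : c₁.IsTy (Ty.C 3) ∨ c₁.IsTy (Ty.A 5))
    (ht₂ : c₂.IsTy (Ty.B 4) ∨ c₂.IsTy (Ty.B 5) ∨ c₂.IsTy (Ty.D 5)) :
    (c₁.IsTy (Ty.C 3) ∧ c₂.IsTy (Ty.B 4)) ∨ (c₁.IsTy (Ty.A 5) ∧ c₂.IsTy (Ty.D 5)) := by
  have b2 : (2 : Fin 4) ≠ b := by rcases hb with rfl | rfl <;> decide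
  have b3 : (3 : Fin 4) ≠ b := by rcases hb with rfl | rfl <;> decide
  -- non-empty sign sets
  have hne : ∀ (c : Chart Om p L₁) (g : Fin 4 → c.I → ℤ), Ad X K L₁ c g ev → (SR K c g ev).Nonempty →
      ∀ (c' : Chart Om p L₂) (g' : Fin 4 → c'.I → ℤ), Ad X K L₂ c' g' ev → (SR K c' g' ev).Nonempty := by
    intro c g A hs c' g' A'
    by_contra hcon
    rw [Set.not_nonempty_iff_eq_empty] at hcon
    obtain ⟨x, hx⟩ := hs
    have h1 := A.X_le_XX D hF hg hx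
    rw [A'.XX_eq D hF hg, hcon] at h1
    apply Nodes.StdConn.X_ne_bot c.cls hx.1
    rw [eq_bot_iff]
    exact h1.trans (RGD.Sup_le fun z hz => absurd hz (Set.notMem_empty z))
  rcases ht₁ with ht₁ | ht₁
  · obtain ⟨c, g, h4, hA, hn, s, hs, h1⟩ := exists_C3 D c₁ ht₁ (hK₁ 2 b2) (hK₁ 3 b3)
    have A₁ := ad_delta D hF hg hb P₁ h4 (by decide) hK₁ hA
    rcases ht₂ with ht₂ | ht₂ | ht₂
    · exact Or.inl ⟨ht₁, ht₂⟩
    · exfalso
      obtain ⟨c', g', h4', hA', h3⟩ := exists_B5 D c₂ ht₂ hK₂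
      have A₂ := ad_gamma D hF hg P₂ hK₂ hA'
      obtain ⟨x, hx, y, hy, hxe, hye, ho⟩ := (h3 (hne c g A₁ hn c' g' A₂)).two
      exact false_of_one_two D hF hg A₁ A₂ hs h1 hx hy hxe hye ho
    · exfalso
      obtain ⟨c', g', h4', hA', h3⟩ := exists_D5 D c₂ ht₂ hK₂
      have A₂ := ad_gamma D hF hg P₂ hK₂ hA'
      obtain ⟨x, hx, y, hy, hxe, hye, ho⟩ := h3 (hne c g A₁ hn c' g' A₂)
      exact false_of_one_two D hF hg A₁ A₂ hs h1 hx hy hxe hye ho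
  · obtain ⟨c, g, h4, hA, hn, ⟨s, t, hs, ht, h1⟩, x, hx, y, hy, hxe, hye, ho⟩ :=
      exists_A5 D c₁ ht₁ (hK₁ 2 b2) (hK₁ 3 b3)
    have A₁ := ad_delta D hF hg hb P₁ h4 (by decide) hK₁ hA
    rcases ht₂ with ht₂ | ht₂ | ht₂
    · exfalso
      obtain ⟨c', g', h4', hA', s', hs', h1'⟩ := exists_B4 D c₂ ht₂ hK₂
      have A₂ := ad_gamma D hF hg P₂ hK₂ hA'
      exact false_of_one_two D hF hg A₂ A₁ hs' h1' hx hy hxe hye ho
    · exfalso
      obtain ⟨c', g', h4', hA', h3⟩ := exists_B5 D c₂ ht₂ hK₂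
      have A₂ := ad_gamma D hF hg P₂ hK₂ hA'
      obtain ⟨x', hx', y', hy', w, hw, r, hr, hxe', hye', hxy, o1, o2, o3, n1, n2, n3, n4, -⟩ :=
        h3 (hne c g A₁ hn c' g' A₂)
      have hZ := TypeESixEnd.Z_eq_X c h4 (TypeESixEnd.slTy_A 5) D.hyp (by decide)
      have hcard : ∀ v, IsRoot c.cs c.h v → Nat.card (c.X v) ≤ Fintype.card F := by
        intro v hv
        have hvR := TypeESixEnd.mem_R_of_isTy c h4 (TypeESixEnd.slTy_A 5) hv
        rw [← hZ v hvR]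
        exact (card_Z D hA (hK₁ 2 b2) hvR).le
      exact false_of_two_three D hF hg A₁ A₂ h1 (hcard s hs) (hcard t ht)
        (fun a ha b hb => Frame.commute_self (frame_of D hF hg) (i := 2) (j := 3) (by decide) (by decide) (by decide) ha hb)
        hx' hy' hxe' hye' hw hxy hr o1 o2 o3 n1 n2 n3 n4
    · exact Or.inr ⟨ht₁, ht₂⟩

end Cfsg.Agent.Cit.FourMatch
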