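import Mathlib
import Cfsg.Agent.Cit.FrameSign

/-!
# Frames: elements of odd order and involutions (project CIT)

* `exists_split` : an element of a group of odd order invariant under an involution `u` is the product of an element
  centralised and an element inverted by `u`;
* `comm_of_inv` : `u` inverts `g`, `v` and `g v g⁻¹` ⟹ `g` and `v` commute;
* `inv2`, `comm2`, `mem_of_inv2` : the group `Q a s ⊓ Q b t`;
* `Env` : a frame with the groups `Δ i` (pieces of the centralisers of the involutions);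
* `Env.mem_delta` : `x ∈ Q a s` commuting with `z c`, `c ≠ a`, lies in `Δ c`;
* `Env.XX_le` : sign groups lie in `Δ l` if `e l = 0`.
-/

set_option autoImplicit false
set_option linter.unusedSectionVars false

namespace Cfsg.Agent.Cit.FrameOdd

open Cfsg.Agent.Cit.FrameSign

variable {G : Type*} [Group G]

/-! ### Involutions -/

theorem sqrt_of_odd {w : G} (hw : Odd (orderOf w)) : ∃ k : ℕ, w ^ k * w ^ k = w := by
  obtain ⟨k, hk⟩ := hw
  refine ⟨k + 1, ?_⟩
  rw [← pow_add]
  have h1 : w ^ (2 * k + 1) = 1 := by rw [← hk]; exact pow_orderOf_eq_one w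
  calc w ^ (k + 1 + (k + 1)) = w ^ (2 * k + 1) * w := by rw [← pow_succ]; congr 1; omega
    _ = w := by rw [h1, one_mul]

theorem eq_one_of_odd {w : G} (hw : Odd (orderOf w)) (h2 : w * w = 1) : w = 1 := by
  obtain ⟨k, hk⟩ := sqrt_of_odd hw
  have h3 : w ^ k * w ^ k = (w * w) ^ k := by rw [← pow_add, ← pow_two, ← pow_mul]; congr 1; omega
  rw [← hk, h3, h2, one_pow]

theorem comm_of_sq {g v : G} (hodd : Odd (orderOf g)) (h : g * g * v = v * (g * g)) : g * v = v * g := by
  obtain ⟨k, hk⟩ := sqrt_of_odd hodd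
  have h1 : Commute (g * g) v := h
  have h2 : Commute ((g * g) ^ k) v := h1.pow_left k
  have h3 : (g * g) ^ k = g := by
    rw [← pow_two, ← pow_mul, mul_comm, pow_mul, pow_two]; exact (by rw [← pow_add] at hk ⊢; exact hk)
  rw [h3] at h2
  exact h2

/-- the conjugate by an involution -/
theorem conj_pow' {u w : G} (hu : u * u = 1) (k : ℕ) : u * w ^ k * u = (u * w * u) ^ k := by
  have hui : u⁻¹ = u := inv_eq_of_mul_eq_one_left hu
  have h1 := conj_pow (i := k) (a := u) (b := w)
  rw [hui] at h1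
  exact h1.symm

theorem conj_mul' {u a b : G} (hu : u * u = 1) : u * (a * b) * u = (u * a * u) * (u * b * u) := by
  calc u * (a * b) * u = u * a * 1 * b * u := by group
    _ = u * a * (u * u) * b * u := by rw [hu]
    _ = _ := by group

theorem conj_inv' {u a : G} (hu : u * u = 1) : u * a⁻¹ * u = (u * a * u)⁻¹ := by
  have hui : u⁻¹ = u := inv_eq_of_mul_eq_one_left hu
  simp only [mul_inv_rev, hui]
  group

theorem conj_conj {u a : G} (hu : u * u = 1) : u * (u * a * u) * u = a := by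
  calc u * (u * a * u) * u = (u * u) * a * (u * u) := by group
    _ = a := by rw [hu, one_mul, mul_one]

theorem comm_iff {u a : G} (hu : u * u = 1) : u * a * u = a ↔ u * a = a * u := by
  constructor
  · intro h
    calc u * a = u * a * (u * u) := by rw [hu, mul_one]
      _ = (u * a * u) * u := by group
      _ = a * u := by rw [h]
  · intro h
    rw [h, mul_assoc, hu, mul_one]

/-- **Splitting.** -/
theorem exists_split {P : Subgroup G} (hodd : ∀ y ∈ P, Odd (orderOf y)) {u x : G} (hu : u * u = 1) (hx : x ∈ P)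
    (hux : u * x * u ∈ P) : ∃ f ∈ P, ∃ v ∈ P, x = f * v ∧ u * f * u = f ∧ u * v * u = v⁻¹ := by
  set w := (u * x * u)⁻¹ * x with hw
  have hwP : w ∈ P := mul_mem (inv_mem hux) hx
  have hw1 : u * w * u = w⁻¹ := by
    rw [hw, conj_mul' hu, conj_inv' hu, conj_conj hu]
    group
  obtain ⟨k, hk⟩ := sqrt_of_odd (hodd w hwP)
  have hv : u * w ^ k * u = (w ^ k)⁻¹ := by rw [conj_pow' hu, hw1, inv_pow]
  refine ⟨x * (w ^ k)⁻¹, mul_mem hx (inv_mem (pow_mem hwP k)), w ^ k, pow_mem hwP k, by group, ?_, hv⟩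
  rw [conj_mul' hu, conj_inv' hu, hv, inv_inv]
  have h1 : u * x * u = x * w⁻¹ := by rw [hw]; group
  rw [h1]
  nth_rewrite 1 [← hk]
  group

/-- **`u` inverts `g`, `v`, `g v g⁻¹`.** -/
theorem comm_of_inv {u g v : G} (hu : u * u = 1) (hg : u * g * u = g⁻¹) (hodd : Odd (orderOf g))
    (hv : u * v * u = v⁻¹) (hgv : u * (g * v * g⁻¹) * u = (g * v * g⁻¹)⁻¹) : g * v = v * g := by
  rw [conj_mul' hu, conj_mul' hu, conj_inv' hu, hg, hv, inv_inv] at hgv
  apply comm_of_sq hodd
  have h1 := congrArg (fun t => g * t⁻¹ * g) hgv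
  have e1 : g * (g⁻¹ * v⁻¹ * g)⁻¹ * g = v * (g * g) := by group
  simp only [e1, inv_inv] at h1
  have e2 : g * (g * v * g⁻¹) * g = g * g * v := by group
  rw [e2] at h1
  exact h1.symm

/-! ### Two members of a frame -/

variable {ι : Type*} {K : ι → Subgroup G} {z : ι → G} {X Q : ι → SignType → Subgroup G}

/-- restriction of a frame -/
theorem comap {κ : Type*} (F : Frame K z X Q) (f : κ → ι) (hf : Function.Injective f) :
    Frame (fun k => K (f k)) (fun k => z (f k)) (fun k => X (f k)) (fun k => Q (f k)) where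
  z_mem i := F.z_mem _
  z_sq i := F.z_sq _
  z_cent i := F.z_cent _
  comm i j hij := F.comm _ _ fun h => hij (hf h)
  K_eq i := F.K_eq _
  Q_zero i := F.Q_zero _
  X_le_Q i := F.X_le_Q _
  Q_cent i := F.Q_cent _
  Q_der i := F.Q_der _
  Q_fix i := F.Q_fix _
  Q_norm i := F.Q_norm _
  Q_odd i := F.Q_odd _
  X_center i := F.X_center _
  X_disj i j hij := F.X_disj _ _ fun h => hij (hf h)

theorem inj_pair {a b : ι} (hab : a ≠ b) : Function.Injective (![a, b] : Fin 2 → ι) := by
  intro i j hij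
  match i, j, hij with
  | 0, 0, _ => rfl
  | 0, 1, h => exact absurd h hab
  | 1, 0, h => exact absurd h.symm hab
  | 1, 1, _ => rfl

section Two

variable [Finite G] (F : Frame K z X Q) {a b : ι} (hab : a ≠ b) {s t : SignType} (hs : s ≠ 0) (ht : t ≠ 0)

include F hab hs ht

theorem mem_pair {x : G} (hx : x ∈ Q a s) (hx' : x ∈ Q b t) :
    x ∈ XX (fun k => Q ((![a, b] : Fin 2 → ι) k)) ![s, t] := by
  rw [mem_XX]
  intro i
  match i with
  | 0 => exact hx
  | 1 => exact hx'

theorem inv2 {x : G} (hx : x ∈ Q a s) (hx' : x ∈ Q b t) : z a * x * z a = x⁻¹ :=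
  (comap F _ (inj_pair hab)).inv (i := 0) (j := 1) (by decide) hs ht (mem_pair F hab hs ht hx hx')

theorem comm2 {x y : G} (hx : x ∈ Q a s) (hx' : x ∈ Q b t) (hy : y ∈ Q a s) (hy' : y ∈ Q b t) : x * y = y * x :=
  (comap F _ (inj_pair hab)).commute_self (i := 0) (j := 1) (by decide) hs ht (mem_pair F hab hs ht hx hx')
    (mem_pair F hab hs ht hy hy')

end Two

theorem mem_Q_of_comm [Finite G] (F : Frame K z X Q) {a : ι} {s : SignType} (hs : s ≠ 0) {g x : G}
    (hg : ∀ y ∈ X a s, g * y = y * g) (hx : x ∈ Q a s) : g * x * g⁻¹ ∈ Q a s := by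
  have h1 : g ∈ Subgroup.normalizer (X a s : Set G) := by
    rw [Subgroup.mem_normalizer_iff]
    intro y
    constructor
    · intro hy
      have : g * y * g⁻¹ = y := by rw [hg y hy]; group
      rw [this]; exact hy
    · intro hy
      have h2 := hg _ hy
      have h3 : y = g * y * g⁻¹ := by
        have h4 : g * (g * y * g⁻¹) = g * y := by rw [h2]; group
        exact (mul_left_cancel h4).symm
      rw [h3]; exact hy
  exact (Subgroup.mem_normalizer_iff.1 (F.Q_norm a s hs h1) x).1 hx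

theorem z_conj_mem [Finite G] (F : Frame K z X Q) {a c : ι} {s : SignType} (hs : s ≠ 0) {x : G}
    (hx : x ∈ Q a s) : z c * x * z c ∈ Q a s := by
  have h2 : z c * x * z c = z c * x * (z c)⁻¹ := by rw [F.z_inv]
  rw [h2]
  refine mem_Q_of_comm F hs (fun y hy => ?_) hx
  by_cases hca : c = a
  · subst hca; exact F.z_cent c y (F.X_le_K c hs hy)
  · exact F.comm c a hca _ (F.z_mem c) y (F.X_le_K a hs hy)

/-! ### The environment -/

variable {Δ : ι → Subgroup G}

/-- A frame with the groups `Δ i`. -/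
structure Env (K : ι → Subgroup G) (z : ι → G) (X Q : ι → SignType → Subgroup G) (Δ : ι → Subgroup G) (p : ℕ) :
    Prop where
  F : Frame K z X Q
  Kle : ∀ i j, i ≠ j → K i ≤ Δ j
  cent : ∀ j, Δ j ≤ Subgroup.centralizer (K j : Set G)
  norm : ∀ c a s, a ≠ c → s ≠ 0 → ∀ x, x * z c = z c * x → (∀ y ∈ X a s, x * y = y * x) →
    x ∈ Subgroup.normalizer (Δ c : Set G)
  inv_mem : ∀ i s, s ≠ 0 → ∀ x, (∀ y ∈ X i s, x * y = y * x) → z i * x * z i = x⁻¹ → Odd (orderOf x) → x ∈ Q i s
  pg : ∀ i s, s ≠ 0 → IsPGroup p (Q i s)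

namespace Env

variable {p : ℕ} (E : Env K z X Q Δ p)

include E

/-- an element of odd order inverted by `z a ∈ Δ c`, normalising `Δ c`, lies in `Δ c` -/
theorem mem_of_inv {a c : ι} (hac : a ≠ c) {x : G} (hodd : Odd (orderOf x)) (hx : z a * x * z a = x⁻¹)
    (hn : x ∈ Subgroup.normalizer (Δ c : Set G)) : x ∈ Δ c := by
  have hz : z a ∈ Δ c := E.Kle a c hac (E.F.z_mem a)
  have h2 : x * z a * x⁻¹ ∈ Δ c := (Subgroup.mem_normalizer_iff.1 hn _).1 hz
  have h3 : x * x = (x * z a * x⁻¹) * z a := by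
    rw [← hx]
    calc x * x = x * (z a * z a) * x * (z a * z a) := by rw [E.F.z_sq, mul_one, mul_one]
      _ = x * z a * (z a * x * z a) * z a := by group
  have h4 : x * x ∈ Δ c := by rw [h3]; exact mul_mem h2 hz
  obtain ⟨k, hk⟩ := sqrt_of_odd hodd
  have h5 : x = (x * x) ^ k := by
    conv_lhs => rw [← hk]
    rw [← pow_add, ← pow_two, ← pow_mul]; congr 1; omega
  rw [h5]
  exact pow_mem h4 k

/-- **`x ∈ Q a s` commuting with `z c` lies in `Δ c`.** -/
theorem mem_delta [Finite G] {a c : ι} (hac : a ≠ c) {s : SignType} (hs : s ≠ 0) {x : G} (hx : x ∈ Q a s)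
    (hc : x * z c = z c * x) : x ∈ Δ c := by
  have F := E.F
  set P : Subgroup G := Q a s ⊓ Subgroup.centralizer {z c} with hP
  have hmem : ∀ y, y ∈ P ↔ y ∈ Q a s ∧ y * z c = z c * y := fun y => by
    rw [hP, Subgroup.mem_inf, Subgroup.mem_centralizer_singleton_iff]
  have hzc : z a * z c = z c * z a := by
    by_cases h : a = c
    · rw [h]
    · exact F.comm a c h _ (F.z_mem a) _ (F.z_mem c)
  obtain ⟨f, hf, v, hv, hfv, h1, h2⟩ := exists_split (P := P) (fun y hy => F.odd_order hs ((hmem y).1 hy).1)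
    (F.z_sq a) ((hmem x).2 ⟨hx, hc⟩) ((hmem _).2 ⟨z_conj_mem F hs hx, by
      calc z a * x * z a * z c = z a * x * (z a * z c) := by group
        _ = z a * (x * z c) * z a := by rw [hzc]; group
        _ = (z a * z c) * x * z a := by rw [hc]; group
        _ = z c * (z a * x * z a) := by rw [hzc]; group⟩)
  obtain ⟨hf1, hf2⟩ := (hmem f).1 hf
  obtain ⟨hv1, hv2⟩ := (hmem v).1 hv
  rw [hfv]
  refine mul_mem ?_ ?_
  · exact E.Kle a c hac (F.X_le_K a hs (F.Q_fix a s hs f hf1 ((comm_iff (F.z_sq a)).1 h1)))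
  · refine E.mem_of_inv hac (F.odd_order hs hv1) h2 (E.norm c a s hac hs v hv2 fun y hy => ?_)
    exact F.Q_cent a s hs v hv1 y hy

/-- `x ∈ Q a s` commuting with `z c` commutes with `K c` -/
theorem comm_of_z [Finite G] {a c : ι} (hac : a ≠ c) {s : SignType} (hs : s ≠ 0) {x : G} (hx : x ∈ Q a s)
    (hc : x * z c = z c * x) : x ∈ Q c 0 := by
  rw [E.F.Q_zero]
  exact E.cent c (E.mem_delta hac hs hx hc)

/-- **sign groups lie in `Δ l`** -/
theorem XX_le [Finite G] {e : ι → SignType} {l : ι} (hl : e l = 0) {a : ι} (ha : e a ≠ 0) : XX Q e ≤ Δ l := by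
  intro x hx
  refine E.mem_delta (fun h => ha (by rw [h, hl])) ha (mem_XX.1 hx a) ?_
  exact (E.F.z_comm hl hx).symm

end Env

/-- A `p`-group normalising a nontrivial `p`-group has a nontrivial fixed point. -/
theorem exists_fixed_group [Finite G] {p : ℕ} [Fact p.Prime] {N P : Subgroup G} (hN : IsPGroup p N) (hne : N ≠ ⊥)
    (hP : IsPGroup p P) (hPN : ∀ g ∈ P, ∀ v ∈ N, g * v * g⁻¹ ∈ N) : ∃ v ∈ N, v ≠ 1 ∧ ∀ x ∈ P, x * v = v * x := by
  letI : MulAction P N :=
    { smul := fun g v => ⟨(g : G) * v * (g : G)⁻¹, hPN g g.2 v v.2⟩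
      one_smul := fun v => Subtype.ext (by change ((1 : P) : G) * v * ((1 : P) : G)⁻¹ = v; simp)
      mul_smul := fun g k v => Subtype.ext (by
        change ((g * k : P) : G) * v * ((g * k : P) : G)⁻¹ =
          (g : G) * ((k : G) * v * (k : G)⁻¹) * (g : G)⁻¹
        push_cast; group) }
  have hdvd : p ∣ Nat.card N := by
    have : Nontrivial N := (Subgroup.nontrivial_iff_ne_bot N).2 hne
    obtain ⟨k, hk⟩ := IsPGroup.iff_card.1 hN
    rcases Nat.eq_zero_or_pos k with rfl | h
    · rw [pow_zero] at hk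
      exact absurd (Nat.card_eq_one_iff_unique.1 hk).1 (not_subsingleton N)
    · rw [hk]; exact dvd_pow_self p h.ne'
  have hfix : (1 : N) ∈ MulAction.fixedPoints P N := by
    intro g
    apply Subtype.ext
    change (g : G) * ((1 : N) : G) * (g : G)⁻¹ = ((1 : N) : G)
    simp
  obtain ⟨v, hv, hv1⟩ := hP.exists_fixed_point_of_prime_dvd_card_of_fixed_point N hdvd hfix
  refine ⟨v, v.2, fun h => hv1 (Subtype.ext h.symm), fun x hx => ?_⟩
  have h1 := congrArg Subtype.val (hv ⟨x, hx⟩)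
  change x * (v : G) * x⁻¹ = v at h1
  calc x * (v : G) = x * v * x⁻¹ * x := by group
    _ = v * x := by rw [h1]

end Cfsg.Agent.Cit.FrameOdd
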