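import Mathlib
import Cfsg.Agent.Cit.FrameOfFr
import Cfsg.Agent.Nodes.TyStd
import Cfsg.Agent.Nodes.CommA
import Cfsg.Agent.Nodes.KindA
import Cfsg.Agent.Nodes.ChartOfCls
import Cfsg.Agent.Cit.FrameOdd

/-!
# Standard charts of type `A_ν` adapted to a frame (project CIT)

* `Z_eq_X` : in a chart of type `A_ν`, `ν ≥ 2`, the classical root groups are the root groups;
* `ACh` : a standard chart of type `A_ν` of `L` adapted to the frame;
* `exists_ach` : it exists for a chart `c` with `c.IsTy (Ty.A ν)`.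
-/

set_option autoImplicit false
set_option linter.unusedSectionVars false

namespace Cfsg.Agent.Cit.TypeAStd

open CoxeterSystem Cfsg.Agent.ChevalleyStructure.CoxeterGeom Cfsg.Agent.Tits.Roots Cfsg.Agent.Tits.Core
  Cfsg.Agent.Tits.RootComb Cfsg.Agent.Nodes.Comb Cfsg.Agent.Nodes.Reps Cfsg.Agent.Nodes.BNOf
  Cfsg.Agent.Nodes.RootsA Cfsg.Agent.Nodes.Coroot Cfsg.Agent.Nodes.PairOf
  Cfsg.Agent.Nodes.RGDLib Cfsg.Agent.Nodes.Chart Cfsg.Agent.Nodes.ClsNorm Cfsg.Agent.Cit.FrameOf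
  Cfsg.Agent.Cit.FrameSign Cfsg.Agent.Cit.FrameOdd Cfsg.Agent.Cit.TypeESix Cfsg.Agent.Nodes.ChartOfCls
open Cfsg.Agent.LieRecognition.BNCox (cA cA_apply)
open Cfsg.Agent.Nodes
open scoped commutatorElement

section ZX

variable {n : ℕ} {W : Type*} [Group W] [Fintype W] {cs : CoxeterSystem (cA n) W} {A : Fin n → Fin n → ℤ}
  {h : IsCartan (cA n) A} {Y : Type*} [Group Y] {p : ℕ} {T : Subgroup Y} {t : Fin n → Y}
  {X : (Fin n → ℤ) → Subgroup Y} {R : Set (Fin n → ℤ)} {Z : (Fin n → ℤ) → Subgroup Y} {z : (Fin n → ℤ) → Y}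

/-- In type `A_n`, `n ≥ 2`, the classical root groups are the root groups. -/
theorem Z_eq_X (hn : 2 ≤ n) (hp : p.Prime) (hp2 : p ≠ 2) (C : Cls cs h p T t X R Z z) {r : Fin n → ℤ} (hr : r ∈ R) :
    Z r = X r := by
  apply le_antisymm (C.le r hr)
  obtain ⟨a, c, hac, rfl⟩ := exists_of_isRoot cs h (C.root r hr)
  obtain ⟨b, hba, hbc⟩ : ∃ b : Fin (n + 1), b ≠ a ∧ b ≠ c := by
    have h1 : ({a, c} : Finset (Fin (n + 1))).card < Fintype.card (Fin (n + 1)) := by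
      rw [Fintype.card_fin]
      exact lt_of_le_of_lt (Finset.card_le_two) (by omega)
    obtain ⟨b, hb⟩ := Finset.exists_mem_notMem_of_card_lt_card (s := {a, c}) (t := Finset.univ) (by
      rw [Finset.card_univ]; exact h1)
    simp only [Finset.mem_insert, Finset.mem_singleton, not_or] at hb
    exact ⟨b, hb.2.1, hb.2.2⟩
  intro y hy
  obtain ⟨v0, hv0⟩ := Subgroup.ne_bot_iff_exists_ne_one.1 (Nodes.Bruhat.X_ne_bot C.rgd (isRoot_rtA cs h hbc))
  have hv1 : (v0 : Y) ≠ 1 := fun e => hv0 (Subtype.ext e)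
  obtain ⟨k, hk, hky⟩ := CommA.nd C.rgd hba.symm hbc hac v0.2 hv1 hy
  have hform : ∀ i j : Fin (n + 1), i ≠ j → cpr cs h (rtA i j) (rtA a c) ≠ 0 → form cs h (rtA i j) (rtA a c) ≠ 0 := by
    intro i j hij h0 h1
    exact h0 ((cpr_zero_iff cs h _ (isRoot_rtA cs h hac)).2 h1)
  have hne : ∀ i j : Fin (n + 1), i ≠ j → (i = b ∨ j = b) → rtA i j ≠ rtA a c ∧ rtA i j ≠ -rtA a c := by
    intro i j hij hb
    constructor
    · intro e
      obtain ⟨e1, e2⟩ := rtA_inj hij e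
      rcases hb with rfl | rfl
      · exact hba e1
      · exact hbc e2
    · rw [rtA_neg]
      intro e
      obtain ⟨e1, e2⟩ := rtA_inj hij e
      rcases hb with rfl | rfl
      · exact hbc e1
      · exact hba e2
  have i1 : z (rtA a c) * v0 * z (rtA a c) = (v0 : Y)⁻¹ := by
    refine C.z_inv _ hr _ (isRoot_rtA cs h hbc) (hne b c hbc (Or.inl rfl)).1 (hne b c hbc (Or.inl rfl)).2
      (hform b c hbc ?_) v0 v0.2
    rw [CommA.cpr_rtA cs h b c hac, if_neg hba, if_neg hbc, if_neg hac.symm, if_pos rfl]; norm_num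
  have i2 : z (rtA a c) * k * z (rtA a c) = k⁻¹ := by
    refine C.z_inv _ hr _ (isRoot_rtA cs h hba.symm) (hne a b hba.symm (Or.inr rfl)).1
      (hne a b hba.symm (Or.inr rfl)).2 (hform a b hba.symm ?_) k hk
    rw [CommA.cpr_rtA cs h a b hac, if_pos rfl, if_neg hac, if_neg hba, if_neg hbc]; norm_num
  have hzz := C.z_sq _ hr
  -- `y` commutes with `v0`, `k`
  have c1 : y * v0 = v0 * y :=
    CommA.comm_disj C.rgd hac hbc hbc.symm hac (fun e => hba e.1.symm) hy v0.2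
  have c2 : y * k = k * y :=
    CommA.comm_disj C.rgd hac hba.symm hac.symm hba.symm (fun e => hbc e.2.symm) hy hk
  have hzy : z (rtA a c) * y * z (rtA a c) = y := by
    rw [← hky, commutatorElement_def, conj_mul' hzz, conj_mul' hzz, conj_mul' hzz, conj_inv' hzz, conj_inv' hzz,
      i1, i2, inv_inv, inv_inv]
    rw [commutatorElement_def] at hky
    have e1 : (v0 : Y)⁻¹ * k⁻¹ * v0 * k = (v0 : Y)⁻¹ * k⁻¹ * (v0 * k * (v0 : Y)⁻¹ * k⁻¹) * (k * v0) := by group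
    rw [e1, hky]
    have e2 : (v0 : Y)⁻¹ * k⁻¹ * y * (k * v0) = (v0 : Y)⁻¹ * k⁻¹ * (y * k) * v0 := by group
    rw [e2, c2]
    have e3 : (v0 : Y)⁻¹ * k⁻¹ * (k * y) * v0 = (v0 : Y)⁻¹ * (y * v0) := by group
    rw [e3, c1]
    group
  have h2 := C.z_inv_self _ hr y hy
  rw [hzy] at h2
  obtain ⟨m, hm⟩ := (C.rgd.pgrp' (isRoot_rtA cs h hac)) ⟨y, hy⟩
  have hm' : y ^ p ^ m = 1 := by simpa [Subtype.ext_iff] using hm
  have hodd : Odd (orderOf y) := Odd.of_dvd_nat ((hp.odd_of_ne_two hp2).pow) (orderOf_dvd_of_pow_eq_one hm')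
  obtain ⟨j, hj⟩ := sqrt_of_odd hodd
  have h3 : y = (y * y) ^ j := by
    conv_lhs => rw [← hj]
    rw [← pow_add, ← pow_two, ← pow_mul]; congr 1; omega
  rw [h3]
  exact pow_mem h2 j

end ZX

/-! ### Standard adapted charts -/

section Std

variable {G : Type*} [Group G] {ι : Type*}

/-- A standard chart of type `A_ν` of `L` adapted to the part `D` of the frame. -/
structure ACh (Om : Set (Subgroup G)) (K : ι → Subgroup G) (X Q : ι → SignType → Subgroup G)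
    (D : Set ι) (L : Subgroup G) (p ν : ℕ) where
  W : Type
  [gW : Group W]
  [fW : Fintype W]
  cs : CoxeterSystem (cA ν) W
  T : Subgroup G
  n : Fin ν → G
  Xc : (Fin ν → ℤ) → Subgroup G
  g : ι → Fin ν → ℤ
  ell : ι → (Fin ν → ℤ) →+ ℤ
  fr : FrChart K X Q D L cs (RootsA.isCartan ν) p T n Xc ell g
  om : ∀ r, IsRoot cs (RootsA.isCartan ν) r → Xc r ⊔ Xc (-r) ∈ Om
  inv : ∀ r y, IsRoot cs (RootsA.isCartan ν) r → IsRoot cs (RootsA.isCartan ν) y → y ≠ r → y ≠ -r →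
    cpr cs (RootsA.isCartan ν) y r ≠ 0 → ∀ a ∈ Xc y, zz (Xc r ⊔ Xc (-r)) * a * zz (Xc r ⊔ Xc (-r)) = a⁻¹
  gen : G1 cs (RootsA.isCartan ν) Xc = L
  c : Chart Om p L
  lk : (Fin ν → ℤ) → c.I → ℤ
  at_ : ∀ x, IsRoot cs (RootsA.isCartan ν) x → At c (Xc x) (Xc (-x)) True (lk x)
  cpr_lk : ∀ x y, IsRoot cs (RootsA.isCartan ν) x → IsRoot cs (RootsA.isCartan ν) y →
    cpr c.cs c.h (lk x) (lk y) = cpr cs (RootsA.isCartan ν) x y
  no6 : ∀ a b, c.M a b ≠ 6

attribute [instance] ACh.gW ACh.fW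

theorem cA_ne_six (n : ℕ) (i j : Fin n) : cA n i j ≠ 6 := by
  rw [cA_apply]; unfold Cfsg.Agent.LieRecognition.CoxClass.mA; split_ifs <;> decide

theorem cA_ne_four (n : ℕ) (i j : Fin n) : cA n i j ≠ 4 := by
  rw [cA_apply]; unfold Cfsg.Agent.LieRecognition.CoxClass.mA; split_ifs <;> decide

/-- **Standard adapted charts exist.** -/
theorem exists_ach [Finite G] [Finite ι] {Om : Set (Subgroup G)} {p : ℕ} {L : Subgroup G}
    {F : Type*} [Field F] [Fintype F] [CharP F p] {K : ι → Subgroup G} {X : ι → SignType → Subgroup G}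
    (c : Chart Om p L) {ν : ℕ} (hτ : c.IsTy (Ty.A ν)) (hν : 2 ≤ ν) (hL : L ∉ Om) (D : Dat Om F K X)
    (hF : Odd (Fintype.card F)) (hg : ∀ i, Good p (X i 1) (zz (K i)))
    (hout : ∀ i, ¬ K i ≤ L → ∀ a ∈ L, ∀ b ∈ K i, a * b = b * a) :
    Nonempty (ACh Om K X (QF K X) {i | K i ≤ L} L p ν) := by
  classical
  let cs' : CoxeterSystem (cA ν) (cA ν).Group := (cA ν).toCoxeterSystem
  have hfin : Finite (cA ν).Group := finite_W cs' (RootsA.isCartan ν)
  letI : Fintype (cA ν).Group := Fintype.ofFinite _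
  obtain ⟨e, hM, hA, hR, -⟩ := TyStd.exists_chart_of_isTy c hτ (W' := (cA ν).Group) cs'
    (R' := {x | IsRoot cs' (RootsA.isCartan ν) x}) (fun r hr => hr) (fun r hr w => IsRoot.act hr w)
    (fun i => ⟨fun _ => trivial, fun _ => isRoot_sr _ _ i⟩)
    (fun r hr s hs => by
      obtain ⟨w, hw⟩ := KindA.trans cs' (RootsA.isCartan ν) hr hs
      exact ⟨w, hw.symm⟩)
  set c1 := TyStd.reindex c e hM hA cs' (RootsA.isCartan ν) (R' := {x | IsRoot cs' (RootsA.isCartan ν) x})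
    (fun r hr => hr) (fun r hr w => IsRoot.act hr w) hR (fun r hr s hs => by
      obtain ⟨w, hw⟩ := KindA.trans cs' (RootsA.isCartan ν) hr hs
      exact ⟨w, hw.symm⟩) with hc1
  obtain ⟨y, hy, g, hAd⟩ := FrameOfFr.exists_adapted' c1 hL D
  set c2 := conjChart c1 hy D.hyp.conj with hc2
  have C2 : Cls cs' (RootsA.isCartan ν) p c2.T c2.n c2.X {x | IsRoot cs' (RootsA.isCartan ν) x} c2.Z c2.z := c2.cls
  have hZ : ∀ r ∈ c2.R, c2.Z r = c2.X r := fun r hr => Z_eq_X hν c.prime c.odd C2 hr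
  have hz1 : ∀ r ∈ c2.R, c2.z r ≠ 1 := FrameOfFr.z_ne_one c2 hL
  have hzz : ∀ r, IsRoot cs' (RootsA.isCartan ν) r → c2.z r = zz (c2.X r ⊔ c2.X (-r)) := by
    intro r hr
    have h1 := z_eq_zf D.hyp C2 (r := r) hr (by unfold KK; exact c2.om r hr) (hz1 r hr)
    rw [h1]
    unfold zf KK
    rw [hZ r hr, hZ (-r) (IsRoot.neg hr)]
  exact ⟨{
    W := (cA ν).Group
    cs := cs'
    T := c2.T
    n := c2.n
    Xc := c2.X
    g := g
    ell := fun i => ellOf c2.cs c2.h (g i)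
    fr := FrameOfFr.frChart_of_adapted c2 D hF hg hAd hZ hout
    om := fun r hr => by
      rw [← hZ r hr, ← hZ (-r) (IsRoot.neg hr)]
      exact c2.om r hr
    inv := fun r y hr hy h1 h2 h3 a ha => by
      rw [← hzz r hr]
      exact C2.z_inv r hr y hy h1 h2 (fun h4 => h3 ((cpr_zero_iff cs' _ _ hr).2 h4)) a ha
    gen := c2.gen
    c := c2
    lk := id
    at_ := fun x hx => ⟨hx, rfl, rfl, fun _ => ⟨hx, hZ x hx⟩⟩
    cpr_lk := fun x y _ _ => rfl
    no6 := cA_ne_six ν }⟩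

end Std

end Cfsg.Agent.Cit.TypeAStd
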