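import Mathlib
import Cfsg.Agent.Cit.TypeAStd

/-!
# Type `A`: the parity statement (project CIT)

`E : Env K z X Q Δ p`, `C l` a standard chart of type `A_ν` of `Δ l`.

* `mem_zero` : `x ∈ Q a s ⊓ Q b t` commuting with `z c` (`c ≠ a, b`) commutes with all `K d`, `d ≠ a, b`;
* `par_of_full` : if the sign groups with full support are trivial then every `x ∈ Q a s ⊓ Q b t` commutes with all `K d`;
* `full_of_six` : this is so for `ν ≥ 6`; `full_of_three`, `full_of_four` : and for `ν = 3`, `ν = 4`.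
-/

set_option autoImplicit false
set_option linter.unusedSectionVars false

namespace Cfsg.Agent.Cit.TypeAPar

open CoxeterSystem Cfsg.Agent.ChevalleyStructure.CoxeterGeom Cfsg.Agent.Tits.Roots Cfsg.Agent.Tits.Core
  Cfsg.Agent.Tits.RootComb Cfsg.Agent.Nodes.Comb Cfsg.Agent.Nodes.Reps Cfsg.Agent.Nodes.BNOf
  Cfsg.Agent.Nodes.RootsA Cfsg.Agent.Nodes.Coroot Cfsg.Agent.Nodes.PairOf
  Cfsg.Agent.Nodes.RGDLib Cfsg.Agent.Nodes.Chart Cfsg.Agent.Nodes.ClsNorm
  Cfsg.Agent.Cit.FrameSign Cfsg.Agent.Cit.FrameOdd Cfsg.Agent.Cit.TypeESix Cfsg.Agent.Cit.TypeAStd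
open Cfsg.Agent.LieRecognition.BNCox (cA cA_apply)
open Cfsg.Agent.Nodes
open scoped commutatorElement

variable {G : Type*} [Group G] {ι : Type*} {Om : Set (Subgroup G)} {K : ι → Subgroup G}
  {X Q : ι → SignType → Subgroup G} {D : Set ι} {L : Subgroup G} {p ν : ℕ}

/-! ### The indices of the frame roots -/

/-- The frame roots are `ε_(al i) - ε_(be i)`. -/
structure Idx (C : ACh Om K X Q D L p ν) (al be : ι → Fin (ν + 1)) : Prop where
  ne : ∀ i ∈ D, al i ≠ be i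
  eq : ∀ i ∈ D, C.g i = rtA (al i) (be i)
  disj : ∀ i ∈ D, ∀ j ∈ D, i ≠ j → al i ≠ al j ∧ al i ≠ be j ∧ be i ≠ al j ∧ be i ≠ be j

theorem exists_idx (C : ACh Om K X Q D L p ν) : ∃ al be : ι → Fin (ν + 1), Idx C al be := by
  classical
  have h1 : ∀ i, ∃ a b : Fin (ν + 1), i ∈ D → a ≠ b ∧ C.g i = rtA a b := by
    intro i
    by_cases hi : i ∈ D
    · obtain ⟨a, b, hab, e⟩ := exists_of_isRoot C.cs (RootsA.isCartan ν) (C.fr.root i hi)
      exact ⟨a, b, fun _ => ⟨hab, e⟩⟩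
    · exact ⟨0, 0, fun h => absurd h hi⟩
  choose al be hab using h1
  refine ⟨al, be, fun i hi => (hab i hi).1, fun i hi => (hab i hi).2, fun i hi j hj hij => ?_⟩
  have h2 := C.fr.gorth i hi j hj hij
  rw [(hab i hi).2, (hab j hj).2, KindA.cpr_eq_zero_iff _ _ (hab i hi).1 (hab j hj).1] at h2
  exact h2

namespace Idx

variable {C : ACh Om K X Q D L p ν} {al be : ι → Fin (ν + 1)} (H : Idx C al be)

include H

theorem cpr_eq {i : ι} (hi : i ∈ D) (u v : Fin (ν + 1)) : cpr C.cs (RootsA.isCartan ν) (rtA u v) (C.g i) =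
    (if u = al i then 1 else 0) - (if u = be i then 1 else 0) -
      ((if v = al i then 1 else 0) - (if v = be i then 1 else 0)) := by
  rw [H.eq i hi, CommA.cpr_rtA _ _ _ _ (H.ne i hi)]

theorem zero_iff {i : ι} (hi : i ∈ D) {u v : Fin (ν + 1)} (huv : u ≠ v) :
    cpr C.cs (RootsA.isCartan ν) (rtA u v) (C.g i) = 0 ↔ u ≠ al i ∧ u ≠ be i ∧ v ≠ al i ∧ v ≠ be i := by
  rw [H.eq i hi]
  exact KindA.cpr_eq_zero_iff _ _ huv (H.ne i hi)

/-- a root is not orthogonal to at most two frame roots -/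
theorem supp_two {a b d : ι} (ha : a ∈ D) (hb : b ∈ D) (hd : d ∈ D) (hab : a ≠ b) (had : a ≠ d) (hbd : b ≠ d)
    {y : Fin ν → ℤ} (hy : IsRoot C.cs (RootsA.isCartan ν) y) (h1 : cpr C.cs (RootsA.isCartan ν) y (C.g a) ≠ 0)
    (h2 : cpr C.cs (RootsA.isCartan ν) y (C.g b) ≠ 0) : cpr C.cs (RootsA.isCartan ν) y (C.g d) = 0 := by
  obtain ⟨u, v, huv, rfl⟩ := exists_of_isRoot _ _ hy
  rw [Ne, H.zero_iff ha huv] at h1
  rw [Ne, H.zero_iff hb huv] at h2
  rw [H.zero_iff hd huv]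
  have d1 := H.disj a ha b hb hab
  have d2 := H.disj a ha d hd had
  have d3 := H.disj b hb d hd hbd
  grind

end Idx

/-! ### Elements of `Q a s ⊓ Q b t` -/

/-- In a chart containing `a`, `b`: an element of `Q a s ⊓ Q b t` lies in the product of the root groups with these
signs. -/
theorem mem_Sup_of_two (F : Frame K (fun i => zz (K i)) X Q) (C : ACh Om K X Q D L p ν) {a b : ι} (ha : a ∈ D) (hb : b ∈ D)
    (hab : a ≠ b) {s t : SignType} (hs : s ≠ 0) {x : G} (hx : x ∈ Q a s) (hx' : x ∈ Q b t) (hL : x ∈ L) :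
    x ∈ RGD.Sup C.Xc {y | IsRoot C.cs (RootsA.isCartan ν) y ∧
      SignType.sign (cpr C.cs (RootsA.isCartan ν) y (C.g a)) = s ∧
      SignType.sign (cpr C.cs (RootsA.isCartan ν) y (C.g b)) = t} := by
  classical
  have h1 : x ∈ Q a s ⊓ L := ⟨hx, hL⟩
  rw [C.fr.inter a ha s hs] at h1
  have h2 : x ∈ RGD.Sup C.Xc (RS C.cs (RootsA.isCartan ν) C.ell {a} (fun _ => s)) := by
    refine RGD.Sup_mono ?_ h1
    rintro y ⟨hy, hy1⟩
    refine ⟨hy, fun i hi => ?_⟩
    rw [Set.mem_singleton_iff] at hi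
    rw [hi]; exact hy1
  obtain ⟨lam, hlam⟩ : ∃ lam : (Fin ν → ℤ) →+ ℤ, ∀ x, SignType.sign (C.ell a x) = s → 0 < lam x := by
    rcases s with _ | _ | _
    · exact absurd rfl hs
    · exact ⟨-(C.ell a), fun x hx => by simpa using sign_eq_neg_one_iff.1 hx⟩
    · exact ⟨C.ell a, fun x hx => sign_eq_one_iff.1 hx⟩
  have h3 := C.fr.toChartOn.mem_step F (closed_RS C.ell {a} (fun _ => s)) lam
    (fun y hy => hlam y (hy.2 a (Set.mem_singleton a))) hb h2 hx' hL
  refine RGD.Sup_mono ?_ h3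
  rintro y ⟨⟨hy, hy1⟩, hy2⟩
  refine ⟨hy, ?_, ?_⟩
  · rw [← C.fr.sgn a ha y hy]; exact hy1 a (Set.mem_singleton a)
  · rw [← C.fr.sgn b hb y hy]; exact hy2

section Env

variable [Finite G] {Δ : ι → Subgroup G} (E : Env K (fun i => zz (K i)) X Q Δ p)

include E

/-- **`x ∈ Q a s ⊓ Q b t` commuting with `z c`** commutes with all `K d`, `d ≠ a, b`. -/
theorem mem_zero {c : ι} (C : ACh Om K X Q {i | i ≠ c} (Δ c) p ν) {a b : ι} (hab : a ≠ b) (hac : a ≠ c) (hbc : b ≠ c)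
    {s t : SignType} (hs : s ≠ 0) (ht : t ≠ 0) {x : G} (hx : x ∈ Q a s) (hx' : x ∈ Q b t)
    (hxc : x * zz (K c) = zz (K c) * x) {d : ι} (hda : d ≠ a) (hdb : d ≠ b) : x ∈ Q d 0 := by
  obtain ⟨al, be, H⟩ := exists_idx C
  have hL : x ∈ Δ c := E.mem_delta hac hs hx hxc
  by_cases hdc : d = c
  · rw [hdc, E.F.Q_zero]
    exact E.cent c hL
  have h1 := mem_Sup_of_two E.F C (a := a) (b := b) hac hbc hab hs hx hx' hL
  rw [E.F.Q_zero]
  refine (RGD.Sup_le fun y hy => ?_) h1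
  obtain ⟨hy, h2, h3⟩ := hy
  refine C.fr.le_K_centralizer (i := d) hdc hy (H.supp_two (a := a) (b := b) (d := d) hac hbc hdc hab hda.symm hdb.symm hy ?_ ?_)
  · intro h0
    rw [h0, sign_zero] at h2
    exact hs h2.symm
  · intro h0
    rw [h0, sign_zero] at h3
    exact ht h3.symm

/-- the elements of `Q a s ⊓ Q b t` inverted by all `z c`, `c ≠ a, b` -/
def Df (K : ι → Subgroup G) (Q : ι → SignType → Subgroup G) (a b : ι) (s t : SignType) (x : G) : Prop :=
  x ∈ Q a s ∧ x ∈ Q b t ∧ ∀ c, c ≠ a → c ≠ b → zz (K c) * x * zz (K c) = x⁻¹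

theorem df_fixed [Fact p.Prime] {a b : ι} (hab : a ≠ b) {s t : SignType} (hs : s ≠ 0) (ht : t ≠ 0) {x : G}
    (hx : Df K Q a b s t x) (hx1 : x ≠ 1) (J : Finset ι) : (∀ c ∈ J, c ≠ a ∧ c ≠ b) →
    ∃ v, Df K Q a b s t v ∧ v ≠ 1 ∧ ∀ c ∈ J, ∀ y ∈ X c 1, y * v = v * y := by
  classical
  have F := E.F
  induction J using Finset.induction_on with
  | empty => intro _; exact ⟨x, hx, hx1, fun c hc => absurd hc (Finset.notMem_empty c)⟩
  | insert c J hcJ ih =>
    intro hJ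
    obtain ⟨v, hv, hv1, hvJ⟩ := ih fun c hc => hJ c (Finset.mem_insert_of_mem hc)
    obtain ⟨hca, hcb⟩ := hJ c (Finset.mem_insert_self c J)
    let N : Subgroup G :=
      { carrier := {v | Df K Q a b s t v ∧ ∀ c ∈ J, ∀ y ∈ X c 1, y * v = v * y}
        one_mem' := ⟨⟨one_mem _, one_mem _, fun d _ _ => by
          rw [mul_one, inv_one]; exact F.z_sq d⟩, fun _ _ y _ => by rw [mul_one, one_mul]⟩
        mul_mem' := by
          rintro u v ⟨⟨h1, h2, h3⟩, h4⟩ ⟨⟨h5, h6, h7⟩, h8⟩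
          refine ⟨⟨mul_mem h1 h5, mul_mem h2 h6, fun d hda hdb => ?_⟩, fun d hd y hy => ?_⟩
          · rw [conj_mul' (F.z_sq d), h3 d hda hdb, h7 d hda hdb, comm2 F hab hs ht h1 h2 h5 h6, mul_inv_rev]
          · rw [← mul_assoc, h4 d hd y hy, mul_assoc, h8 d hd y hy, mul_assoc]
        inv_mem' := by
          rintro u ⟨⟨h1, h2, h3⟩, h4⟩
          refine ⟨⟨inv_mem h1, inv_mem h2, fun d hda hdb => ?_⟩, fun d hd y hy => ?_⟩
          · rw [conj_inv' (F.z_sq d), h3 d hda hdb]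
          · have h5 := h4 d hd y hy
            exact ((show Commute y u from h5).inv_right).eq }
    have hNne : N ≠ ⊥ := by
      intro h0
      apply hv1
      rw [← Subgroup.mem_bot, ← h0]
      exact ⟨hv, hvJ⟩
    have hNp : IsPGroup p N := (E.pg a s hs).to_le fun y hy => hy.1.1
    obtain ⟨w, hw, hw1, hwc⟩ := exists_fixed_group hNp hNne ((E.pg c 1 (by decide)).to_le (F.X_le_Q c 1 (by decide)))
      (by
        intro g hg u hu
        obtain ⟨⟨h1, h2, h3⟩, h4⟩ := hu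
        have hgK := F.X_le_K c (s := 1) (by decide) hg
        have hzg : ∀ d, zz (K d) * g = g * zz (K d) := by
          intro d
          by_cases hdc : d = c
          · rw [hdc]; exact F.z_cent c g hgK
          · exact (F.comm c d (Ne.symm hdc) g hgK _ (F.z_mem d)).symm
        refine ⟨⟨?_, ?_, fun d hda hdb => ?_⟩, fun d hd y hy => ?_⟩
        · exact mem_Q_of_comm F hs (fun y hy => F.comm c a hca g hgK y (F.X_le_K a hs hy)) h1
        · exact mem_Q_of_comm F ht (fun y hy => F.comm c b hcb g hgK y (F.X_le_K b ht hy)) h2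
        · rw [conj_mul' (F.z_sq d), conj_mul' (F.z_sq d), conj_inv' (F.z_sq d), h3 d hda hdb,
            (comm_iff (F.z_sq d)).2 (hzg d)]
          group
        · have hdc : d ≠ c := by rintro rfl; exact hcJ hd
          have h5 : Commute y g := (F.comm d c hdc y (F.X_le_K d (by decide) hy) g hgK)
          have h6 : Commute y u := h4 d hd y hy
          exact ((h5.mul_right h6).mul_right h5.inv_right).eq)
    refine ⟨w, hw.1, hw1, fun d hd y hy => ?_⟩
    rcases Finset.mem_insert.1 hd with rfl | hd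
    · exact hwc y hy
    · exact hw.2 d hd y hy

/-- if the sign groups with full support are trivial, so is `Df` -/
theorem df_eq_one [Fact p.Prime] [Finite ι] (full : ∀ e : ι → SignType, (∀ i, e i ≠ 0) → XX Q e = ⊥) {a b : ι}
    (hab : a ≠ b) {s t : SignType} (hs : s ≠ 0) (ht : t ≠ 0) {x : G} (hx : Df K Q a b s t x) : x = 1 := by
  classical
  by_contra hx1
  have := Fintype.ofFinite ι
  obtain ⟨v, hv, hv1, hvJ⟩ := df_fixed E hab hs ht hx hx1 (Finset.univ.filter fun c => c ≠ a ∧ c ≠ b)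
    fun c hc => (Finset.mem_filter.1 hc).2
  apply hv1
  let e : ι → SignType := fun i => if i = a then s else if i = b then t else 1
  have he : ∀ i, e i ≠ 0 := by
    intro i
    simp only [e]
    split_ifs
    · exact hs
    · exact ht
    · decide
  have h1 : v ∈ XX Q e := by
    rw [mem_XX]
    intro i
    by_cases hia : i = a
    · simp only [e]; rw [if_pos hia, hia]; exact hv.1
    · by_cases hib : i = b
      · simp only [e]; rw [if_neg hia, if_pos hib, hib]; exact hv.2.1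
      · simp only [e]; rw [if_neg hia, if_neg hib]
        refine E.inv_mem i 1 (by decide) v (fun y hy => ?_) (hv.2.2 i hia hib) (E.F.odd_order hs hv.1)
        exact (hvJ i (Finset.mem_filter.2 ⟨Finset.mem_univ i, hia, hib⟩) y hy).symm
  rw [full e he] at h1
  exact Subgroup.mem_bot.1 h1

/-- an element of `Q a s ⊓ Q b t` inverted by one `z d`, `d ≠ a, b`, is inverted by all of them -/
theorem df_of_inv {a b : ι} (hab : a ≠ b) {s t : SignType} (hs : s ≠ 0)
    (ht : t ≠ 0) (C : ∀ c, c ≠ a → c ≠ b → ACh Om K X Q {i | i ≠ c} (Δ c) p ν) {x : G} (hx : x ∈ Q a s)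
    (hx' : x ∈ Q b t) {d : ι} (hda : d ≠ a) (hdb : d ≠ b)
    (hxd : zz (K d) * x * zz (K d) = x⁻¹) : Df K Q a b s t x := by
  have F := E.F
  have hz2' : zz (K d) * zz (K d) = 1 := F.z_sq d
  refine ⟨hx, hx', fun c hca hcb => ?_⟩
  have hzc : zz (K c) * zz (K c) = 1 := F.z_sq c
  -- `v = x (z_c x z_c)` commutes with `z_c`
  have hv1 := z_conj_mem (c := c) F hs hx
  have hv2 := z_conj_mem (c := c) F ht hx'
  have hva := mul_mem hx hv1
  have hvb := mul_mem hx' hv2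
  have hvc : zz (K c) * (x * (zz (K c) * x * zz (K c))) * zz (K c) = x * (zz (K c) * x * zz (K c)) := by
    rw [conj_mul' hzc, conj_conj hzc]
    exact comm2 F hab hs ht hv1 hv2 hx hx'
  have hvd := mem_zero E (C c hca hcb) hab hca.symm hcb.symm hs ht hva hvb ((comm_iff hzc).1 hvc).symm hda hdb
  have hvd' : zz (K d) * (x * (zz (K c) * x * zz (K c))) * zz (K d) = x * (zz (K c) * x * zz (K c)) := by
    rw [comm_iff hz2']
    exact (F.mem_Q_zero.1 hvd _ (F.z_mem d)).symm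
  have hcd : zz (K c) * zz (K d) = zz (K d) * zz (K c) := by
    by_cases hcd : c = d
    · rw [hcd]
    · exact F.comm c d hcd _ (F.z_mem c) _ (F.z_mem d)
  have hvi : zz (K d) * (x * (zz (K c) * x * zz (K c))) * zz (K d) = (x * (zz (K c) * x * zz (K c)))⁻¹ := by
    have e1 : zz (K d) * (zz (K c) * x * zz (K c)) * zz (K d) = (zz (K c) * x * zz (K c))⁻¹ := by
      calc zz (K d) * (zz (K c) * x * zz (K c)) * zz (K d) =
          (zz (K d) * zz (K c)) * x * (zz (K c) * zz (K d)) := by group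
        _ = zz (K c) * (zz (K d) * x * zz (K d)) * zz (K c) := by rw [hcd]; nth_rewrite 1 [← hcd]; group
        _ = (zz (K c) * x * zz (K c))⁻¹ := by rw [hxd, conj_inv' hzc]
    rw [conj_mul' hz2', e1, hxd, ← mul_inv_rev, comm2 F hab hs ht hv1 hv2 hx hx']
  have hsq : (x * (zz (K c) * x * zz (K c))) * (x * (zz (K c) * x * zz (K c))) = 1 := by
    rw [hvd'] at hvi
    nth_rewrite 1 [hvi]
    exact inv_mul_cancel _
  have h1 := FrameOdd.eq_one_of_odd (F.odd_order hs hva) hsq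
  exact (eq_inv_of_mul_eq_one_right h1)

/-- **par**: if `Df` is trivial then every element of `Q a s ⊓ Q b t` commutes with the other `K d`. -/
theorem par_of_df (C : ∀ c, ACh Om K X Q {i | i ≠ c} (Δ c) p ν) {a b : ι} (hab : a ≠ b) {s t : SignType} (hs : s ≠ 0)
    (ht : t ≠ 0) (hdf : ∀ x, Df K Q a b s t x → x = 1) {x : G} (hx : x ∈ Q a s) (hx' : x ∈ Q b t) {d : ι} (hda : d ≠ a)
    (hdb : d ≠ b) : x ∈ Q d 0 := by
  have F := E.F
  have hz2' : zz (K d) * zz (K d) = 1 := F.z_sq d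
  set y := zz (K d) * x * zz (K d) with hy
  have hya : y ∈ Q a s := z_conj_mem F hs hx
  have hyb : y ∈ Q b t := z_conj_mem F ht hx'
  -- `w = x y⁻¹` is inverted by `z d`
  have hwd : zz (K d) * (x * y⁻¹) * zz (K d) = (x * y⁻¹)⁻¹ := by
    rw [conj_mul' hz2', conj_inv' hz2', hy, conj_conj hz2', mul_inv_rev, inv_inv]
  have h1 := hdf _ (df_of_inv E hab hs ht (fun c _ _ => C c) (mul_mem hx (inv_mem hya)) (mul_mem hx' (inv_mem hyb))
    hda hdb hwd)
  rw [mul_inv_eq_one] at h1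
  refine mem_zero E (C d) hab hda.symm hdb.symm hs ht hx hx' ?_ hda hdb
  exact ((comm_iff hz2').1 h1.symm).symm

omit E in
/-- commuting with `X_uk`, `X_kv` -/
theorem comm_of_two {W : Type*} [Group W] {cs : CoxeterSystem (cA ν) W} {A : Fin ν → Fin ν → ℤ} {h : IsCartan (cA ν) A}
    {T : Subgroup G} {t : Fin ν → G} {Xc : (Fin ν → ℤ) → Subgroup G} (R : RGD cs h p T t Xc) {u k v : Fin (ν + 1)}
    (huk : u ≠ k) (hkv : k ≠ v) (huv : u ≠ v) {x : G} (h1 : ∀ g ∈ Xc (rtA u k), g * x = x * g)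
    (h2 : ∀ g ∈ Xc (rtA k v), g * x = x * g) : ∀ g ∈ Xc (rtA u v), g * x = x * g := by
  intro g hg
  obtain ⟨v0, hv0⟩ := Subgroup.ne_bot_iff_exists_ne_one.1 (Nodes.Bruhat.X_ne_bot R (isRoot_rtA cs h hkv))
  obtain ⟨l, hl, e⟩ := CommA.nd R huk hkv huv v0.2 (fun e => hv0 (Subtype.ext e)) hg
  rw [← e]
  have c1 : Commute (v0 : G) x := h2 v0 v0.2
  have c2 : Commute l x := h1 l hl
  exact (((c1.mul_left c2).mul_left c1.inv_left).mul_left c2.inv_left).eq

/-- `X_r ≤ C(K i)`, so conjugation by elements of `X_r` preserves `Q i s`. -/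
theorem conj_mem_of_orth {c : ι} (C : ACh Om K X Q {i | i ≠ c} (Δ c) p ν) {r : Fin ν → ℤ}
    (hr : IsRoot C.cs (RootsA.isCartan ν) r) {i : ι} (hi : i ≠ c → cpr C.cs (RootsA.isCartan ν) r (C.g i) = 0)
    {g : G} (hg : g ∈ C.Xc r) : ∀ k ∈ K i, g * k = k * g := by
  intro k hk
  by_cases hic : i = c
  · have h1 := E.cent c (C.fr.X_le r hr hg)
    rw [Subgroup.mem_centralizer_iff] at h1
    rw [hic] at hk
    exact (h1 k hk).symm
  · have h1 := C.fr.le_K_centralizer (i := i) hic hr (hi hic) hg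
    rw [Subgroup.mem_centralizer_iff] at h1
    exact (h1 k hk).symm

omit E in
theorem odd_of_root [Fact p.Prime] (hp2 : p ≠ 2) (C : ACh Om K X Q D L p ν) {r : Fin ν → ℤ}
    (hr : IsRoot C.cs (RootsA.isCartan ν) r) {g : G} (hg : g ∈ C.Xc r) : Odd (orderOf g) := by
  obtain ⟨m, hm⟩ := (C.fr.rgd.pgrp' hr) ⟨g, hg⟩
  have hm' : g ^ p ^ m = 1 := by simpa [Subtype.ext_iff] using hm
  exact Odd.of_dvd_nat (((Fact.out : p.Prime).odd_of_ne_two hp2).pow) (orderOf_dvd_of_pow_eq_one hm')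

omit E in
theorem K_eq_chart (F : Frame K (fun i => zz (K i)) X Q) (C : ACh Om K X Q D L p ν) {i : ι} (hi : i ∈ D) :
    K i = C.Xc (C.g i) ⊔ C.Xc (-C.g i) := by
  rw [C.fr.pos i hi, C.fr.neg i hi]; exact F.K_eq i

/-- **(i)** `ν ≥ 6`: two more indices `c`, `d`. -/
theorem df_of_six [Fact p.Prime] (hp2 : p ≠ 2) (hν : 6 ≤ ν) (C : ∀ c, ACh Om K X Q {i | i ≠ c} (Δ c) p ν) {a b c d : ι}
    (hab : a ≠ b) (hca : c ≠ a) (hcb : c ≠ b) (hda : d ≠ a) (hdb : d ≠ b) (hcd : c ≠ d) {s t : SignType} (hs : s ≠ 0)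
    (ht : t ≠ 0) {x : G} (hx : Df K Q a b s t x) : x = 1 := by
  classical
  have F := E.F
  obtain ⟨al, be, H⟩ := exists_idx (C a)
  -- an index outside `g_b`, `g_c`, `g_d`
  obtain ⟨k, hk⟩ : ∃ k : Fin (ν + 1), k ∉ ({al b, be b, al c, be c, al d, be d} : Finset (Fin (ν + 1))) := by
    by_contra hcon
    push Not at hcon
    have h1 : (Finset.univ : Finset (Fin (ν + 1))).card ≤ ({al b, be b, al c, be c, al d, be d} : Finset _).card :=
      Finset.card_le_card fun k _ => hcon k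
    rw [Finset.card_univ, Fintype.card_fin] at h1
    have := h1.trans Finset.card_le_six
    omega
  simp only [Finset.mem_insert, Finset.mem_singleton, not_or] at hk
  obtain ⟨k1, k2, k3, k4, k5, k6⟩ := hk
  have dbc := H.disj b (Ne.symm hab) c hca (Ne.symm hcb)
  have ddc := H.disj d hda c hca (Ne.symm hcd)
  have nc := H.ne c hca
  -- a root with one index `k` and the other one in `g_c` centralises `x`
  have key : ∀ u v : Fin (ν + 1), u ≠ v → (u = k ∧ (v = al c ∨ v = be c) ∨ v = k ∧ (u = al c ∨ u = be c)) →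
      ∀ g ∈ (C a).Xc (rtA u v), g * x = x * g := by
    intro u v huv huk g hg
    have hr := isRoot_rtA (C a).cs (RootsA.isCartan ν) huv
    have hgb : ∀ i, i = b ∨ i = d → cpr (C a).cs (RootsA.isCartan ν) (rtA u v) ((C a).g i) = 0 := by
      intro i hi
      rcases hi with rfl | rfl
      · rw [H.zero_iff (Ne.symm hab) huv]
        rcases huk with ⟨rfl, rfl | rfl⟩ | ⟨rfl, rfl | rfl⟩
        · exact ⟨k1, k2, dbc.1.symm, dbc.2.2.1.symm⟩
        · exact ⟨k1, k2, dbc.2.1.symm, dbc.2.2.2.symm⟩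
        · exact ⟨dbc.1.symm, dbc.2.2.1.symm, k1, k2⟩
        · exact ⟨dbc.2.1.symm, dbc.2.2.2.symm, k1, k2⟩
      · rw [H.zero_iff hda huv]
        rcases huk with ⟨rfl, rfl | rfl⟩ | ⟨rfl, rfl | rfl⟩
        · exact ⟨k5, k6, ddc.1.symm, ddc.2.2.1.symm⟩
        · exact ⟨k5, k6, ddc.2.1.symm, ddc.2.2.2.symm⟩
        · exact ⟨ddc.1.symm, ddc.2.2.1.symm, k5, k6⟩
        · exact ⟨ddc.2.1.symm, ddc.2.2.2.symm, k5, k6⟩
    have cK : ∀ i, i = a ∨ i = b ∨ i = d → ∀ y ∈ K i, g * y = y * g := by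
      intro i hi
      refine conj_mem_of_orth E (C a) hr (fun hia => ?_) hg
      rcases hi with rfl | hi
      · exact absurd rfl hia
      · exact hgb i hi
    -- `g x g⁻¹` is inverted by `z_c`
    have hga : g * x * g⁻¹ ∈ Q a s := mem_Q_of_comm F hs (fun y hy => cK a (Or.inl rfl) y (F.X_le_K a hs hy)) hx.1
    have hgb' : g * x * g⁻¹ ∈ Q b t :=
      mem_Q_of_comm F ht (fun y hy => cK b (Or.inr (Or.inl rfl)) y (F.X_le_K b ht hy)) hx.2.1
    have hgd : zz (K d) * (g * x * g⁻¹) * zz (K d) = (g * x * g⁻¹)⁻¹ := by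
      have hz : zz (K d) * zz (K d) = 1 := F.z_sq d
      have h1 : zz (K d) * g * zz (K d) = g :=
        (comm_iff hz).2 (cK d (Or.inr (Or.inr rfl)) _ (F.z_mem d)).symm
      rw [conj_mul' hz, conj_mul' hz, conj_inv' hz, h1, hx.2.2 d hda hdb]
      group
    have hdf := df_of_inv E hab hs ht (fun c _ _ => C c) hga hgb' hda hdb hgd
    refine comm_of_inv (u := zz (K c)) (F.z_sq c) ?_ (odd_of_root hp2 (C a) hr hg) (hx.2.2 c hca hcb)
      (hdf.2.2 c hca hcb)
    -- `z_c` inverts `g`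
    have hi := (C a).inv ((C a).g c) (rtA u v) ((C a).fr.root c hca) hr ?_ ?_ ?_ g hg
    · rwa [← K_eq_chart F (C a) (i := c) hca] at hi
    · rw [H.eq c hca]
      intro e
      obtain ⟨e1, e2⟩ := rtA_inj huv e
      rcases huk with ⟨rfl, -⟩ | ⟨rfl, -⟩
      · exact k3 e1
      · exact k4 e2
    · rw [H.eq c hca, rtA_neg]
      intro e
      obtain ⟨e1, e2⟩ := rtA_inj huv e
      rcases huk with ⟨rfl, -⟩ | ⟨rfl, -⟩
      · exact k4 e1
      · exact k3 e2
    · rw [Ne, H.zero_iff hca huv]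
      rcases huk with ⟨rfl, rfl | rfl⟩ | ⟨rfl, rfl | rfl⟩
      · exact fun h => h.2.2.1 rfl
      · exact fun h => h.2.2.2 rfl
      · exact fun h => h.1 rfl
      · exact fun h => h.2.1 rfl
  have kc1 := key (al c) k (Ne.symm k3) (Or.inr ⟨rfl, Or.inl rfl⟩)
  have kc2 := key k (be c) k4 (Or.inl ⟨rfl, Or.inr rfl⟩)
  have kc3 := key (be c) k (Ne.symm k4) (Or.inr ⟨rfl, Or.inr rfl⟩)
  have kc4 := key k (al c) k3 (Or.inl ⟨rfl, Or.inl rfl⟩)
  have h1 := comm_of_two (C a).fr.rgd (Ne.symm k3) k4 nc kc1 kc2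
  have h2 := comm_of_two (C a).fr.rgd (Ne.symm k4) k3 nc.symm kc3 kc4
  have hK : K c ≤ Subgroup.centralizer {x} := by
    rw [K_eq_chart F (C a) (i := c) hca, H.eq c hca, rtA_neg]
    exact sup_le (fun g hg => Subgroup.mem_centralizer_singleton_iff.2 (h1 g hg))
      (fun g hg => Subgroup.mem_centralizer_singleton_iff.2 (h2 g hg))
  have hzx := Subgroup.mem_centralizer_singleton_iff.1 (hK (F.z_mem c))
  have h3 := hx.2.2 c hca hcb
  rw [(comm_iff (F.z_sq c)).2 hzx] at h3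
  refine FrameOdd.eq_one_of_odd (F.odd_order hs hx.1) ?_
  nth_rewrite 1 [h3]
  exact inv_mul_cancel x

/-! ### `ν = 3` -/

/-- the elements acting trivially on `P` modulo the subgroup `M` -/
def TR (P M : Subgroup G) : Subgroup G where
  carrier := {g | (∀ m ∈ M, g * m = m * g) ∧ ∀ e ∈ P, g * e * g⁻¹ * e⁻¹ ∈ M}
  one_mem' := ⟨fun m _ => by rw [one_mul, mul_one], fun e _ => by
    have : (1 : G) * e * 1⁻¹ * e⁻¹ = 1 := by group
    rw [this]; exact one_mem M⟩
  mul_mem' := by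
    rintro g k ⟨h1, h2⟩ ⟨h3, h4⟩
    refine ⟨fun m hm => by rw [mul_assoc, h3 m hm, ← mul_assoc, h1 m hm, mul_assoc], fun e he => ?_⟩
    have e1 : g * k * e * (g * k)⁻¹ * e⁻¹ = (g * (k * e * k⁻¹ * e⁻¹)) * g⁻¹ * (g * e * g⁻¹ * e⁻¹) := by group
    rw [e1, h1 _ (h4 e he)]
    have e2 : k * e * k⁻¹ * e⁻¹ * g * g⁻¹ * (g * e * g⁻¹ * e⁻¹) = (k * e * k⁻¹ * e⁻¹) * (g * e * g⁻¹ * e⁻¹) := by group
    rw [e2]
    exact mul_mem (h4 e he) (h2 e he)
  inv_mem' := by
    rintro g ⟨h1, h2⟩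
    have h3 : ∀ m ∈ M, g⁻¹ * m = m * g⁻¹ := fun m hm => ((show Commute g m from h1 m hm).inv_left).eq
    refine ⟨h3, fun e he => ?_⟩
    have h4 := h2 e he
    have e1 : g⁻¹ * e * g⁻¹⁻¹ * e⁻¹ = g⁻¹ * (g * e * g⁻¹ * e⁻¹)⁻¹ * g := by group
    rw [e1, h3 _ (inv_mem h4)]
    have e2 : (g * e * g⁻¹ * e⁻¹)⁻¹ * g⁻¹ * g = (g * e * g⁻¹ * e⁻¹)⁻¹ := by group
    rw [e2]
    exact inv_mem h4

/-- `f ∈ Q a s` commuting with `z b` and `z c` lies in `X a s` if `ν = 3` -/
theorem mem_X_of_three (hν : ν = 3) {a b c : ι} (Cb : ACh Om K X Q {i | i ≠ b} (Δ b) p ν)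
    (hab : a ≠ b) (hac : a ≠ c) (hbc : b ≠ c) {s : SignType} (hs : s ≠ 0) {f : G} (hf : f ∈ Q a s)
    (hfb : f * zz (K b) = zz (K b) * f) (hfc : f * zz (K c) = zz (K c) * f) : f ∈ X a s := by
  subst hν
  obtain ⟨al, be, H⟩ := exists_idx Cb
  have hcb : c ≠ b := hbc.symm
  have h1 := mem_Sup_of_two E.F Cb (a := a) (b := c) hab hcb hac hs hf (E.comm_of_z hac hs hf hfc)
    (E.mem_delta hab hs hf hfb)
  refine (RGD.Sup_le fun y hy => ?_) h1
  obtain ⟨hy, h2, h3⟩ := hy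
  obtain ⟨u, v, huv, rfl⟩ := exists_of_isRoot _ _ hy
  have h3' := (H.zero_iff (i := c) hcb huv).1 (sign_eq_zero_iff.1 h3)
  have h2' : ¬ (u ≠ al a ∧ u ≠ be a ∧ v ≠ al a ∧ v ≠ be a) := by
    rw [← H.zero_iff (i := a) hab huv]
    intro h0
    rw [h0, sign_zero] at h2
    exact hs h2.symm
  have d1 := H.disj a hab c hcb hac
  have na := H.ne a hab
  have nc := H.ne c hcb
  have key : (u = al a ∧ v = be a) ∨ (u = be a ∧ v = al a) := by
    have e1 : ∀ i j : Fin 4, (i : ℕ) = j → i = j := fun i j h => Fin.ext h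
    have := u.2
    have := v.2
    have := (al a).2
    have := (be a).2
    have := (al c).2
    have := (be c).2
    simp only [ne_eq, Fin.ext_iff] at *
    omega
  rcases key with ⟨rfl, rfl⟩ | ⟨rfl, rfl⟩
  · have e1 : SignType.sign (cpr Cb.cs (RootsA.isCartan 3) (rtA (al a) (be a)) (Cb.g a)) = 1 := by
      rw [← H.eq a hab, cpr_self _ _ (Cb.fr.root a hab)]; rfl
    rw [e1] at h2
    rw [← h2, ← Cb.fr.pos a hab, H.eq a hab]
  · have e1 : SignType.sign (cpr Cb.cs (RootsA.isCartan 3) (rtA (be a) (al a)) (Cb.g a)) = -1 := by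
      rw [← rtA_neg, ← H.eq a hab, cpr_neg _ _ _ (Cb.fr.root a hab), cpr_self _ _ (Cb.fr.root a hab)]; rfl
    rw [e1] at h2
    rw [← h2, ← Cb.fr.neg a hab, H.eq a hab, rtA_neg]

/-- **(ii)** `ν = 3`. -/
theorem df_of_three [Fact p.Prime] (hp2 : p ≠ 2) (hν : ν = 3) (C : ∀ c, ACh Om K X Q {i | i ≠ c} (Δ c) p ν) {a b c : ι}
    (hab : a ≠ b) (hac : a ≠ c) (hbc : b ≠ c) {s t : SignType} (hs : s ≠ 0)
    (ht : t ≠ 0) {x : G} (hx : Df K Q a b s t x) : x = 1 := by
  have F := E.F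
  have zb2 : zz (K b) * zz (K b) = 1 := F.z_sq b
  have zc2 : zz (K c) * zz (K c) = 1 := F.z_sq c
  have zbc : zz (K b) * zz (K c) = zz (K c) * zz (K b) := F.comm b c hbc _ (F.z_mem b) _ (F.z_mem c)
  set P : Subgroup G := Q a s ⊓ Subgroup.centralizer {zz (K b) * zz (K c)} with hP
  have hmem : ∀ y, y ∈ P ↔ y ∈ Q a s ∧ y * (zz (K b) * zz (K c)) = zz (K b) * zz (K c) * y := fun y => by
    rw [hP, Subgroup.mem_inf, Subgroup.mem_centralizer_singleton_iff]
  -- `z b` inverts `P` modulo `X a s`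
  have hinv : ∀ e ∈ P, zz (K b) * e * zz (K b) * e ∈ X a s := by
    intro e he
    obtain ⟨he1, he2⟩ := (hmem e).1 he
    obtain ⟨f, hf, v, hv, hfv, h1, h2⟩ := exists_split (P := P) (fun y hy => F.odd_order hs ((hmem y).1 hy).1)
      zb2 he ((hmem _).2 ⟨z_conj_mem F hs he1, by
        have c1 : Commute (zz (K b)) (zz (K b) * zz (K c)) := (Commute.refl _).mul_right zbc
        have c2 : Commute e (zz (K b) * zz (K c)) := he2
        exact ((c1.mul_left c2).mul_left c1).eq⟩)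
    obtain ⟨hf1, hf2⟩ := (hmem f).1 hf
    obtain ⟨hv1, -⟩ := (hmem v).1 hv
    have hfb := ((comm_iff zb2).1 h1).symm
    have hfc : f * zz (K c) = zz (K c) * f := by
      have h3 : zz (K b) * (f * zz (K c)) = zz (K b) * (zz (K c) * f) := by
        rw [← mul_assoc, ← hfb, mul_assoc, hf2, mul_assoc]
      exact mul_left_cancel h3
    have hfX := mem_X_of_three E hν (C b) hab hac hbc hs hf1 hfb hfc
    have hvf := F.Q_cent a s hs v hv1 f hfX
    have e1 : zz (K b) * e * zz (K b) * e = f * f := by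
      rw [hfv, conj_mul' zb2, h1, h2]
      have : v⁻¹ * f = f * v⁻¹ := ((show Commute v f from hvf).inv_left).eq
      calc f * v⁻¹ * (f * v) = f * (v⁻¹ * f) * v := by group
        _ = f * f := by rw [this]; group
    rw [e1]
    exact mul_mem hfX hfX
  obtain ⟨al, be, H⟩ := exists_idx (C a)
  have hba : b ≠ a := hab.symm
  have hca : c ≠ a := hac.symm
  have dbc := H.disj b hba c hca hbc
  have nb := H.ne b hba
  have nc := H.ne c hca
  -- the root groups between `g_b` and `g_c` act trivially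
  have key : ∀ u v : Fin (ν + 1), u ≠ v → ((u = al b ∨ u = be b) ∧ (v = al c ∨ v = be c) ∨
      (u = al c ∨ u = be c) ∧ (v = al b ∨ v = be b)) → (C a).Xc (rtA u v) ≤ TR P (X a s) := by
    intro u v huv huk g hg
    have hr := isRoot_rtA (C a).cs (RootsA.isCartan ν) huv
    have cKa : ∀ y ∈ K a, g * y = y * g := conj_mem_of_orth E (C a) hr (fun h => absurd rfl h) hg
    have cX : ∀ m ∈ X a s, g * m = m * g := fun m hm => cKa m (F.X_le_K a hs hm)
    have hib : zz (K b) * g * zz (K b) = g⁻¹ := by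
      have hi := (C a).inv ((C a).g b) (rtA u v) ((C a).fr.root b hba) hr ?_ ?_ ?_ g hg
      · rwa [← K_eq_chart F (C a) (i := b) hba] at hi
      · rw [H.eq b hba]
        intro e
        obtain ⟨e1, e2⟩ := rtA_inj huv e
        grind
      · rw [H.eq b hba, rtA_neg]
        intro e
        obtain ⟨e1, e2⟩ := rtA_inj huv e
        grind
      · rw [Ne, H.zero_iff hba huv]
        grind
    have hic : zz (K c) * g * zz (K c) = g⁻¹ := by
      have hi := (C a).inv ((C a).g c) (rtA u v) ((C a).fr.root c hca) hr ?_ ?_ ?_ g hg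
      · rwa [← K_eq_chart F (C a) (i := c) hca] at hi
      · rw [H.eq c hca]
        intro e
        obtain ⟨e1, e2⟩ := rtA_inj huv e
        grind
      · rw [H.eq c hca, rtA_neg]
        intro e
        obtain ⟨e1, e2⟩ := rtA_inj huv e
        grind
      · rw [Ne, H.zero_iff hca huv]
        grind
    have hgbc : g * (zz (K b) * zz (K c)) = zz (K b) * zz (K c) * g := by
      have h1 : g * zz (K b) = zz (K b) * g⁻¹ := by
        rw [← hib]
        calc g * zz (K b) = (zz (K b) * zz (K b)) * g * zz (K b) := by rw [zb2, one_mul]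
          _ = _ := by group
      have h2 : g⁻¹ * zz (K c) = zz (K c) * g := by
        rw [← hic]
        calc zz (K c) * g * zz (K c) * zz (K c) = zz (K c) * g * (zz (K c) * zz (K c)) := by group
          _ = _ := by rw [zc2, mul_one]
      rw [← mul_assoc, h1, mul_assoc, h2, mul_assoc]
    have hgP : ∀ e ∈ P, g * e * g⁻¹ ∈ P := by
      intro e he
      obtain ⟨he1, he2⟩ := (hmem e).1 he
      rw [hmem]
      refine ⟨mem_Q_of_comm F hs (fun y hy => cX y hy) he1, ?_⟩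
      have c1 : Commute g (zz (K b) * zz (K c)) := hgbc
      have c2 : Commute e (zz (K b) * zz (K c)) := he2
      exact ((c1.mul_left c2).mul_left c1.inv_left).eq
    -- `g ^ 2` acts trivially
    have hsq : g * g ∈ TR P (X a s) := by
      refine ⟨fun m hm => by rw [mul_assoc, cX m hm, ← mul_assoc, cX m hm, mul_assoc], fun e he => ?_⟩
      have h1 := hinv _ (hgP e⁻¹ (inv_mem he))
      have h2 := hinv _ (inv_mem he)
      set m := zz (K b) * e⁻¹ * zz (K b) * e⁻¹ with hm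
      have h3 : zz (K b) * (g * e⁻¹ * g⁻¹) * zz (K b) = m * (g⁻¹ * e * g) := by
        have h4 : zz (K b) * e⁻¹ * zz (K b) = m * e := by rw [hm]; group
        rw [conj_mul' zb2, conj_mul' zb2, h4, conj_inv' (a := g) zb2, hib, inv_inv]
        have h5 : g⁻¹ * m = m * g⁻¹ := ((show Commute g m from cX m h2).inv_left).eq
        calc g⁻¹ * (m * e) * g = (g⁻¹ * m) * e * g := by group
          _ = m * (g⁻¹ * e * g) := by rw [h5]; group
      rw [h3] at h1
      have h4 : g⁻¹ * e * g * (g * e⁻¹ * g⁻¹) ∈ X a s := by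
        have h5 := mul_mem (inv_mem h2) h1
        have h6 : m⁻¹ * (m * (g⁻¹ * e * g) * (g * e⁻¹ * g⁻¹)) = g⁻¹ * e * g * (g * e⁻¹ * g⁻¹) := by group
        rwa [h6] at h5
      have h5 := cX _ (inv_mem h4)
      have h6 : g * g * e * (g * g)⁻¹ * e⁻¹ = g * (g * e * g⁻¹ * g⁻¹ * e⁻¹ * g) * g⁻¹ := by group
      have h7 : (g⁻¹ * e * g * (g * e⁻¹ * g⁻¹))⁻¹ = g * e * g⁻¹ * g⁻¹ * e⁻¹ * g := by group
      rw [h6, ← h7, h5]
      have h8 : (g⁻¹ * e * g * (g * e⁻¹ * g⁻¹))⁻¹ * g * g⁻¹ = (g⁻¹ * e * g * (g * e⁻¹ * g⁻¹))⁻¹ := by group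
      rw [h8]
      exact inv_mem h4
    obtain ⟨j, hj⟩ := sqrt_of_odd (odd_of_root hp2 (C a) hr hg)
    have h3 : g = (g * g) ^ j := by
      conv_lhs => rw [← hj]
      rw [← pow_add, ← pow_two, ← pow_mul]; congr 1; omega
    rw [h3]
    exact pow_mem hsq j
  have hsup : ∀ u v k : Fin (ν + 1), u ≠ k → k ≠ v → u ≠ v → (C a).Xc (rtA u k) ≤ TR P (X a s) →
      (C a).Xc (rtA k v) ≤ TR P (X a s) → (C a).Xc (rtA u v) ≤ TR P (X a s) := by
    intro u v k huk hkv huv h1 h2 g hg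
    obtain ⟨v0, hv0⟩ := Subgroup.ne_bot_iff_exists_ne_one.1
      (Nodes.Bruhat.X_ne_bot (C a).fr.rgd (isRoot_rtA (C a).cs (RootsA.isCartan ν) hkv))
    obtain ⟨l, hl, e⟩ := CommA.nd (C a).fr.rgd huk hkv huv v0.2 (fun e => hv0 (Subtype.ext e)) hg
    rw [← e, commutatorElement_def]
    exact mul_mem (mul_mem (mul_mem (h2 v0.2) (h1 hl)) (inv_mem (h2 v0.2))) (inv_mem (h1 hl))
  have hK : K b ≤ TR P (X a s) := by
    rw [K_eq_chart F (C a) (i := b) hba, H.eq b hba, rtA_neg]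
    refine sup_le (hsup (al b) (be b) (al c) dbc.1 dbc.2.2.1.symm nb (key _ _ dbc.1 ?_) (key _ _ dbc.2.2.1.symm ?_))
      (hsup (be b) (al b) (al c) dbc.2.2.1 dbc.1.symm nb.symm (key _ _ dbc.2.2.1 ?_) (key _ _ dbc.1.symm ?_))
    · exact Or.inl ⟨Or.inl rfl, Or.inl rfl⟩
    · exact Or.inr ⟨Or.inl rfl, Or.inr rfl⟩
    · exact Or.inl ⟨Or.inr rfl, Or.inl rfl⟩
    · exact Or.inr ⟨Or.inl rfl, Or.inl rfl⟩
  have hxP : x ∈ P := by
    rw [hmem]
    refine ⟨hx.1, ?_⟩
    have h1 : zz (K b) * x * zz (K b) = x⁻¹ := inv2 F hba ht hs hx.2.1 hx.1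
    have h2 := hx.2.2 c hca hbc.symm
    have h3 : x * zz (K b) = zz (K b) * x⁻¹ := by
      rw [← h1]
      calc x * zz (K b) = (zz (K b) * zz (K b)) * x * zz (K b) := by rw [zb2, one_mul]
        _ = _ := by group
    have h4 : x⁻¹ * zz (K c) = zz (K c) * x := by
      rw [← h2]
      calc zz (K c) * x * zz (K c) * zz (K c) = zz (K c) * x * (zz (K c) * zz (K c)) := by group
        _ = _ := by rw [zc2, mul_one]
    rw [← mul_assoc, h3, mul_assoc, h4, mul_assoc]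
  have h1 := (hK (F.z_mem b)).2 x hxP
  have h2 := hinv x hxP
  have hzb : (zz (K b))⁻¹ = zz (K b) := inv_eq_of_mul_eq_one_left zb2
  have h3 : x * x ∈ X a s := by
    have h4 := mul_mem (inv_mem h1) h2
    have h5 : (zz (K b) * x * (zz (K b))⁻¹ * x⁻¹)⁻¹ * (zz (K b) * x * zz (K b) * x) = x * x := by
      rw [hzb]
      calc (zz (K b) * x * zz (K b) * x⁻¹)⁻¹ * (zz (K b) * x * zz (K b) * x) =
          x * (zz (K b) * x * zz (K b))⁻¹ * (zz (K b) * x * zz (K b)) * x := by group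
        _ = x * x := by group
    rwa [h5] at h4
  obtain ⟨j, hj⟩ := sqrt_of_odd (F.odd_order hs hx.1)
  have h4 : x ∈ X a s := by
    have h5 : x = (x * x) ^ j := by
      conv_lhs => rw [← hj]
      rw [← pow_add, ← pow_two, ← pow_mul]; congr 1; omega
    rw [h5]
    exact pow_mem h3 j
  exact F.eq_one_of_mem_X_Q hab hs ht h4 hx.2.1

end Env

end Cfsg.Agent.Cit.TypeAPar
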