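import Mathlib
import Cfsg.Agent.Cit.TypeAPar
import Cfsg.Agent.Cit.FrameClose
import Cfsg.Agent.Cit.TypeESixGen

/-!
# Type `A`: the parity statement for `ν = 4` (project CIT)

`Tau` : the involution `τ` of a second member `K'` of the group `SL₃` containing `K c` and centralising `K a`, `K b`.

* `Tau.alpha` : an element of `Q a s` centralising `K b`, `K c`, `τ` lies in `X a s`;
* `Tau.gamma` : `τ` centralises `Q a s ⊓ Q b t ⊓ C(K c)`;
* `Tau.delta` : `Df = 1`;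
* `exists_tau`, `df_of_four`.
-/

set_option autoImplicit false
set_option linter.unusedSectionVars false

namespace Cfsg.Agent.Cit.TypeAPar

open CoxeterSystem Cfsg.Agent.ChevalleyStructure.CoxeterGeom Cfsg.Agent.Tits.Roots Cfsg.Agent.Tits.Core
  Cfsg.Agent.Tits.RootComb Cfsg.Agent.Nodes.Comb Cfsg.Agent.Nodes.Reps Cfsg.Agent.Nodes.BNOf
  Cfsg.Agent.Nodes.RootsA Cfsg.Agent.Nodes.Coroot Cfsg.Agent.Nodes.PairOf Cfsg.Agent.Nodes.Slope
  Cfsg.Agent.Nodes.RGDLib Cfsg.Agent.Nodes.Chart Cfsg.Agent.Nodes.ClsNorm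
  Cfsg.Agent.Cit.FrameSign Cfsg.Agent.Cit.FrameOdd Cfsg.Agent.Cit.TypeESix Cfsg.Agent.Cit.TypeAStd
open Cfsg.Agent.LieRecognition.BNCox (cA cA_apply)
open Cfsg.Agent.Nodes
open scoped commutatorElement

variable {G : Type*} [Group G] {ι : Type*} {Om : Set (Subgroup G)} {K : ι → Subgroup G}
  {X Q : ι → SignType → Subgroup G} {p : ℕ}

section Lemmas

variable {D : Set ι} {L : Subgroup G} {ν : ℕ}

theorem fin5 {a b c d l : Fin 5} (h1 : a ≠ b) (h2 : c ≠ d) (h3 : a ≠ c ∧ a ≠ d ∧ b ≠ c ∧ b ≠ d) (h4 : l ≠ a) (h5 : l ≠ b)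
    (h6 : l ≠ c) (h7 : l ≠ d) (w : Fin 5) : w = a ∨ w = b ∨ w = c ∨ w = d ∨ w = l := by
  have := w.2
  have := a.2
  have := b.2
  have := c.2
  have := d.2
  have := l.2
  simp only [ne_eq, Fin.ext_iff] at *
  omega

theorem exists_fifth (a b c d : Fin 5) : ∃ l : Fin 5, l ≠ a ∧ l ≠ b ∧ l ≠ c ∧ l ≠ d := by
  obtain ⟨l, hl⟩ : ∃ l : Fin 5, l ∉ ({a, b, c, d} : Finset (Fin 5)) := by
    by_contra hcon
    push Not at hcon
    have h1 : (Finset.univ : Finset (Fin 5)).card ≤ ({a, b, c, d} : Finset _).card :=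
      Finset.card_le_card fun k _ => hcon k
    rw [Finset.card_univ, Fintype.card_fin] at h1
    have := h1.trans Finset.card_le_four
    omega
  simp only [Finset.mem_insert, Finset.mem_singleton, not_or] at hl
  exact ⟨l, hl⟩

theorem closed_two (C : ACh Om K X Q D L p ν) {a c : ι} (ha : a ∈ D) (hc : c ∈ D) (hac : a ≠ c) (s t : SignType) :
    Closed C.cs (RootsA.isCartan ν) {y | IsRoot C.cs (RootsA.isCartan ν) y ∧
      SignType.sign (cpr C.cs (RootsA.isCartan ν) y (C.g a)) = s ∧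
      SignType.sign (cpr C.cs (RootsA.isCartan ν) y (C.g c)) = t} := by
  classical
  have h1 := closed_RS (cs := C.cs) (h := RootsA.isCartan ν) C.ell {i | i = a ∨ i = c} (fun i => if i = a then s else t)
  have h2 : RS C.cs (RootsA.isCartan ν) C.ell {i | i = a ∨ i = c} (fun i => if i = a then s else t) =
      {y | IsRoot C.cs (RootsA.isCartan ν) y ∧ SignType.sign (cpr C.cs (RootsA.isCartan ν) y (C.g a)) = s ∧
        SignType.sign (cpr C.cs (RootsA.isCartan ν) y (C.g c)) = t} := by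
    ext y
    constructor
    · rintro ⟨h3, h4⟩
      have h5 := h4 a (Or.inl rfl)
      have h6 := h4 c (Or.inr rfl)
      rw [C.fr.sgn a ha y h3] at h5
      rw [C.fr.sgn c hc y h3] at h6
      simp only [if_true] at h5
      simp only [if_neg hac.symm] at h6
      exact ⟨h3, h5, h6⟩
    · rintro ⟨h3, h4, h5⟩
      refine ⟨h3, fun i hi => ?_⟩
      rcases hi with hi | hi
      · rw [hi, C.fr.sgn a ha y h3, h4]; simp
      · rw [hi, C.fr.sgn c hc y h3, h5]; simp only [if_neg hac.symm]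
  rwa [h2] at h1

theorem exists_pos (C : ACh Om K X Q D L p ν) (a : ι) {s : SignType} (hs : s ≠ 0) : ∃ lam : (Fin ν → ℤ) →+ ℤ,
    ∀ x, SignType.sign (C.ell a x) = s → 0 < lam x := by
  rcases s with _ | _ | _
  · exact absurd rfl hs
  · exact ⟨-(C.ell a), fun x hx => by simpa using sign_eq_neg_one_iff.1 hx⟩
  · exact ⟨C.ell a, fun x hx => sign_eq_one_iff.1 hx⟩

/-- the indices of the root of `X a s` -/
theorem exists_ij {C : ACh Om K X Q D L p ν} {al be : ι → Fin (ν + 1)} (H : Idx C al be) {a : ι} (ha : a ∈ D)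
    {s : SignType} (hs : s ≠ 0) : ∃ i j : Fin (ν + 1), ((i = al a ∧ j = be a) ∨ (i = be a ∧ j = al a)) ∧
      C.Xc (rtA i j) = X a s ∧ ∀ u v : Fin (ν + 1), u ≠ v →
        SignType.sign (cpr C.cs (RootsA.isCartan ν) (rtA u v) (C.g a)) = s → u = i ∨ v = j := by
  rcases (show s = 1 ∨ s = -1 by revert hs; cases s <;> decide) with rfl | rfl
  · refine ⟨al a, be a, Or.inl ⟨rfl, rfl⟩, by rw [← H.eq a ha, C.fr.pos a ha], fun u v huv h => ?_⟩
    rw [H.cpr_eq ha, sign_eq_one_iff] at h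
    by_contra hcon
    push Not at hcon
    rw [if_neg hcon.1, if_neg hcon.2] at h
    split_ifs at h <;> omega
  · refine ⟨be a, al a, Or.inr ⟨rfl, rfl⟩, by rw [← rtA_neg, ← H.eq a ha, C.fr.neg a ha], fun u v huv h => ?_⟩
    rw [H.cpr_eq ha, sign_eq_neg_one_iff] at h
    by_contra hcon
    push Not at hcon
    rw [if_neg hcon.1, if_neg hcon.2] at h
    split_ifs at h <;> omega

/-- decomposition of an element of a product of root groups `X_ij X_il X_lj` -/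
theorem decomp {W : Type*} [Group W] [Finite W] {cs : CoxeterSystem (cA ν) W} {A : Fin ν → Fin ν → ℤ}
    {h : IsCartan (cA ν) A} {T : Subgroup G} {t : Fin ν → G} {Xc : (Fin ν → ℤ) → Subgroup G} (R : RGD cs h p T t Xc)
    {S : Set (Fin ν → ℤ)} (hS : Closed cs h S) (lam : (Fin ν → ℤ) →+ ℤ) (hl : ∀ x ∈ S, 0 < lam x)
    {i j l m : Fin (ν + 1)} (hil : i ≠ l) (hjl : j ≠ l) (him : i ≠ m) (hjm : j ≠ m) (hlm : l ≠ m)
    (hroots : ∀ u v : Fin (ν + 1), u ≠ v → rtA u v ∈ S → (u = i ∧ v = j) ∨ (u = i ∧ v = l) ∨ (u = l ∧ v = j))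
    {y : G} (hy : y ∈ RGD.Sup Xc S) :
    ∃ A ∈ Xc (rtA i l), ∃ B ∈ Xc (rtA l j), ∃ C ∈ Xc (rtA i j), y = A * B * C := by
  obtain ⟨A, hA, B, hB, C', hC, hABC⟩ := split3 R hS lam (Coroot.ell cs h (isRoot_rtA cs h hlm.symm)) hl hy
  have key : ∀ x ∈ S, (x = rtA i j ∧ cpr cs h x (rtA m l) = 0) ∨ (x = rtA i l ∧ cpr cs h x (rtA m l) = 1) ∨
      (x = rtA l j ∧ cpr cs h x (rtA m l) = -1) := by
    intro x hx
    obtain ⟨u, v, huv, rfl⟩ := exists_of_isRoot _ _ (hS.root x hx)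
    rw [CommA.cpr_rtA _ _ _ _ hlm.symm]
    rcases hroots u v huv hx with ⟨rfl, rfl⟩ | ⟨rfl, rfl⟩ | ⟨rfl, rfl⟩
    · left
      rw [if_neg him, if_neg hil, if_neg hjm, if_neg hjl]
      exact ⟨rfl, by norm_num⟩
    · right; left
      rw [if_neg him, if_neg hil, if_neg hlm, if_pos rfl]
      exact ⟨rfl, by norm_num⟩
    · right; right
      rw [if_neg hlm, if_pos rfl, if_neg hjm, if_neg hjl]
      exact ⟨rfl, by norm_num⟩
  refine ⟨A, (RGD.Sup_le fun x hx => ?_) hA, B, (RGD.Sup_le fun x hx => ?_) hB, C', (RGD.Sup_le fun x hx => ?_) hC, hABC⟩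
  · have h1 := hx.2
    rw [Coroot.ell_apply] at h1
    rcases key x hx.1 with ⟨e, h2⟩ | ⟨e, h2⟩ | ⟨e, h2⟩
    · rw [h2] at h1; exact absurd h1 (by norm_num)
    · rw [e]
    · rw [h2] at h1; exact absurd h1 (by norm_num)
  · have h1 := hx.2
    rw [Coroot.ell_apply] at h1
    rcases key x hx.1 with ⟨e, h2⟩ | ⟨e, h2⟩ | ⟨e, h2⟩
    · rw [h2] at h1; exact absurd h1 (by norm_num)
    · rw [h2] at h1; exact absurd h1 (by norm_num)
    · rw [e]
  · have h1 := hx.2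
    rw [Coroot.ell_apply] at h1
    rcases key x hx.1 with ⟨e, h2⟩ | ⟨e, h2⟩ | ⟨e, h2⟩
    · rw [e]
    · rw [h2] at h1; exact absurd h1 (by norm_num)
    · rw [h2] at h1; exact absurd h1 (by norm_num)

/-- if `y = A B C` commutes with `X_lm`, `X_ml` then `A = B = 1` -/
theorem decomp_end {W : Type*} [Group W] [Finite W] {cs : CoxeterSystem (cA ν) W} {A : Fin ν → Fin ν → ℤ}
    {h : IsCartan (cA ν) A} {T : Subgroup G} {t : Fin ν → G} {Xc : (Fin ν → ℤ) → Subgroup G} (R : RGD cs h p T t Xc)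
    {i j l m : Fin (ν + 1)} (hij : i ≠ j) (hil : i ≠ l) (hjl : j ≠ l) (him : i ≠ m) (hjm : j ≠ m) (hlm : l ≠ m)
    {y A B C : G} (hA : A ∈ Xc (rtA i l)) (hB : B ∈ Xc (rtA l j)) (hC : C ∈ Xc (rtA i j)) (hABC : y = A * B * C)
    (h1 : ∀ w ∈ Xc (rtA l m), w * y = y * w) (h2 : ∀ w ∈ Xc (rtA m l), w * y = y * w) : y = C := by
  have hA1 : A = 1 := by
    refine CommA.eq_one_of_comm' R hil hlm him hA fun w hw => ?_
    have c1 : Commute w y := h1 w hw
    have c2 : Commute C w := CommA.comm_disj R hij hlm hjl him (fun e => hil e.1) hC hw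
    have c3 : Commute B w := CommA.comm_disj R hjl.symm hlm hjl hlm (fun e => hjm e.2) hB hw
    have h4 : A = y * C⁻¹ * B⁻¹ := by rw [hABC]; group
    rw [h4]
    exact ((c1.symm.mul_left c2.inv_left).mul_left c3.inv_left).eq
  rw [hA1, one_mul] at hABC
  have hB1 : B = 1 := by
    refine CommA.eq_one_of_comm R hlm.symm hjl.symm hjm.symm hB fun w hw => ?_
    have c1 : Commute w y := h2 w hw
    have c2 : Commute C w := CommA.comm_disj R hij hlm.symm hjm hil (fun e => him e.1) hC hw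
    have h4 : B = y * C⁻¹ := by rw [hABC]; group
    rw [h4]
    exact (c1.symm.mul_left c2.inv_left).eq
  rw [hABC, hB1, one_mul]

/-- the sign of a root group -/
theorem mem_Q_sign (C : ACh Om K X Q D L p ν) {i : ι} (hi : i ∈ D) {r : Fin ν → ℤ}
    (hr : IsRoot C.cs (RootsA.isCartan ν) r) (hs : SignType.sign (cpr C.cs (RootsA.isCartan ν) r (C.g i)) ≠ 0) {w : G}
    (hw : w ∈ C.Xc r) : w ∈ Q i (SignType.sign (cpr C.cs (RootsA.isCartan ν) r (C.g i))) := by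
  have h1 : w ∈ Q i (SignType.sign (cpr C.cs (RootsA.isCartan ν) r (C.g i))) ⊓ L := by
    rw [C.fr.inter i hi _ hs]
    exact RGD.le_Sup (S := {x | IsRoot C.cs (RootsA.isCartan ν) x ∧ SignType.sign (C.ell i x) =
      SignType.sign (cpr C.cs (RootsA.isCartan ν) r (C.g i))}) ⟨hr, C.fr.sgn i hi _ hr⟩ hw
  exact h1.1

end Lemmas

/-- The data of the second member `K'`. -/
structure Tau (Om : Set (Subgroup G)) (K : ι → Subgroup G) (Q : ι → SignType → Subgroup G) (a b c : ι) (k : G)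
    (K' P1 P2 : Subgroup G) : Prop where
  ka : ∀ y ∈ K a, k * y = y * k
  kb : ∀ y ∈ K b, k * y = y * k
  ck : ∀ g ∈ K', k⁻¹ * g * k ∈ K c
  conj1 : k * zz (K c) * k⁻¹ = zz K'
  conj2 : k * zz K' * k⁻¹ = zz (K c)
  om : K' ∈ Om
  ca : ∀ g ∈ K', ∀ y ∈ K a, g * y = y * g
  cb : ∀ g ∈ K', ∀ y ∈ K b, g * y = y * g
  norm : ∀ y ∈ K c, zz K' * y * zz K' ∈ K c
  sup : K' = P1 ⊔ P2
  inv1 : ∀ g ∈ P1, zz (K c) * g * zz (K c) = g⁻¹
  inv2 : ∀ g ∈ P2, zz (K c) * g * zz (K c) = g⁻¹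
  odd1 : ∀ g ∈ P1, Odd (orderOf g)
  odd2 : ∀ g ∈ P2, Odd (orderOf g)
  gen : ∀ y, (∀ g ∈ K c, g * y = y * g) → (∀ g ∈ K', g * y = y * g) → ∀ s, s ≠ 0 → ∀ w ∈ Q c s, w ∈ Q a 0 →
    w ∈ Q b 0 → w * y = y * w

namespace Tau

variable {a b c : ι} {k : G} {K' P1 P2 : Subgroup G} (T : Tau Om K Q a b c k K' P1 P2)

include T

theorem symm : Tau Om K Q b a c k K' P1 P2 :=
  { T with
    ka := T.kb
    kb := T.ka
    ca := T.cb
    cb := T.ca
    gen := fun y h1 h2 s hs w h3 h4 h5 => T.gen y h1 h2 s hs w h3 h5 h4 }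

variable [Finite G] {Δ : ι → Subgroup G} (E : Env K (fun i => zz (K i)) X Q Δ p) (hyp : Hyp Om) (hKc : K c ∈ Om)
  (hab : a ≠ b) (hac : a ≠ c) (hbc : b ≠ c)

theorem kinv_a : ∀ y ∈ K a, k⁻¹ * y = y * k⁻¹ := fun y hy => ((show Commute k y from T.ka y hy).inv_left).eq

theorem kinv_b : ∀ y ∈ K b, k⁻¹ * y = y * k⁻¹ := fun y hy => ((show Commute k y from T.kb y hy).inv_left).eq

include hyp in
theorem sq : zz K' * zz K' = 1 := hyp.zz_mul T.om

include hyp in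
theorem mem : zz K' ∈ K' := hyp.zz_mem T.om

include hyp in
theorem cent : ∀ g ∈ K', g * zz K' = zz K' * g := fun g hg =>
  Subgroup.mem_centralizer_singleton_iff.1 (hyp.le_centralizer T.om hg)

theorem k_zc : k * zz (K c) = zz K' * k := by
  rw [← T.conj1]; group

theorem kinv_tau : k⁻¹ * zz K' = zz (K c) * k⁻¹ := by
  rw [← T.conj1]; group

include hyp hKc in
/-- `τ` and `z c` commute -/
theorem comm : zz K' * zz (K c) = zz (K c) * zz K' := by
  have h1 := T.norm _ (hyp.zz_mem hKc)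
  have hsq := T.sq hyp
  have h2 : zz K' * zz (K c) * zz K' = zz (K c) := by
    refine hyp.eq_zz hKc h1 ?_ ?_
    · calc zz K' * zz (K c) * zz K' * (zz K' * zz (K c) * zz K') =
          zz K' * zz (K c) * (zz K' * zz K') * zz (K c) * zz K' := by group
        _ = zz K' * (zz (K c) * zz (K c)) * zz K' := by rw [hsq]; group
        _ = 1 := by rw [hyp.zz_mul hKc, mul_one, hsq]
    · intro h3
      have h4 : zz (K c) = 1 := by
        calc zz (K c) = (zz K' * zz K') * zz (K c) * (zz K' * zz K') := by rw [hsq]; group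
          _ = zz K' * (zz K' * zz (K c) * zz K') * zz K' := by group
          _ = 1 := by rw [h3, mul_one, hsq]
      have h5 := hyp.orderOf_zz hKc
      rw [h4, orderOf_one] at h5
      omega
  exact (comm_iff hsq).1 h2

include E hyp hac hab hbc in
/-- **(α)** -/
theorem alpha (Cb : ACh Om K X Q {i | i ≠ b} (Δ b) p 4) {s : SignType} (hs : s ≠ 0) {y : G}
    (hy : y ∈ Q a s) (hyb : y ∈ Q b 0) (hyc : y ∈ Q c 0) (hyt : zz K' * y = y * zz K') : y ∈ X a s := by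
  classical
  have F := E.F
  obtain ⟨al, be, H⟩ := exists_idx Cb
  have hcb : c ≠ b := hbc.symm
  have hyΔ : y ∈ Δ b := E.mem_delta hab hs hy (F.mem_Q_zero.1 hyb _ (F.z_mem b))
  -- `y` centralises `K'`
  have hy1 : k⁻¹ * y * k ∈ Q c 0 := by
    have h1 : k⁻¹ * y * k ∈ Q a s := by
      have h2 := mem_Q_of_comm (g := k⁻¹) F hs (fun z hz => T.kinv_a z (F.X_le_K a hs hz)) hy
      rwa [inv_inv] at h2
    refine E.comm_of_z hac hs h1 ?_
    calc k⁻¹ * y * k * zz (K c) = k⁻¹ * y * (k * zz (K c)) := by group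
      _ = k⁻¹ * (y * zz K') * k := by rw [T.k_zc]; group
      _ = (k⁻¹ * zz K') * y * k := by rw [← hyt]; group
      _ = zz (K c) * (k⁻¹ * y * k) := by rw [T.kinv_tau]; group
  have hyK : ∀ g ∈ K', g * y = y * g := by
    intro g hg
    have h1 := F.mem_Q_zero.1 hy1 _ (T.ck g hg)
    have h2 : k * (k⁻¹ * y * k * (k⁻¹ * g * k)) * k⁻¹ = k * (k⁻¹ * g * k * (k⁻¹ * y * k)) * k⁻¹ := by rw [h1]
    have e1 : k * (k⁻¹ * y * k * (k⁻¹ * g * k)) * k⁻¹ = y * g := by group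
    have e2 : k * (k⁻¹ * g * k * (k⁻¹ * y * k)) * k⁻¹ = g * y := by group
    rw [e1, e2] at h2
    exact h2.symm
  have hyw := T.gen y (fun g hg => (F.mem_Q_zero.1 hyc g hg).symm) hyK
  -- the indices
  have na := H.ne a hab
  have nc := H.ne c hcb
  have d1 := H.disj a hab c hcb hac
  obtain ⟨i, j, hij, hijX, hcpr⟩ := exists_ij H hab hs
  obtain ⟨l, hl1, hl2, hl3, hl4⟩ := exists_fifth (al a) (be a) (al c) (be c)
  have hfin := fin5 na nc d1 hl1 hl2 hl3 hl4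
  obtain ⟨d1, d2, d3, d4⟩ := d1
  have hil : i ≠ l := by rcases hij with ⟨rfl, rfl⟩ | ⟨rfl, rfl⟩; exacts [hl1.symm, hl2.symm]
  have hjl : j ≠ l := by rcases hij with ⟨rfl, rfl⟩ | ⟨rfl, rfl⟩; exacts [hl2.symm, hl1.symm]
  have him : i ≠ al c := by rcases hij with ⟨rfl, rfl⟩ | ⟨rfl, rfl⟩; exacts [d1, d3]
  have hjm : j ≠ al c := by rcases hij with ⟨rfl, rfl⟩ | ⟨rfl, rfl⟩; exacts [d3, d1]
  have hne : i ≠ j := by rcases hij with ⟨rfl, rfl⟩ | ⟨rfl, rfl⟩; exacts [na, na.symm]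
  have hfin' : ∀ w : Fin 5, w ≠ al c → w ≠ be c → w = i ∨ w = j ∨ w = l := by
    intro w h1 h2
    rcases hfin w with h | h | h | h | h
    · rcases hij with ⟨h3, h4⟩ | ⟨h3, h4⟩
      · exact Or.inl (h.trans h3.symm)
      · exact Or.inr (Or.inl (h.trans h4.symm))
    · rcases hij with ⟨h3, h4⟩ | ⟨h3, h4⟩
      · exact Or.inr (Or.inl (h.trans h4.symm))
      · exact Or.inl (h.trans h3.symm)
    · exact absurd h h1
    · exact absurd h h2
    · exact Or.inr (Or.inr h)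
  -- the element in the chart
  have hS := mem_Sup_of_two F Cb (a := a) (b := c) hab hcb hac hs hy hyc hyΔ
  obtain ⟨lam, hlam⟩ := exists_pos Cb a hs
  obtain ⟨A, hA, B, hB, C', hC, hABC⟩ := decomp (m := al c) Cb.fr.rgd (closed_two Cb hab hcb hac s 0) lam
    (fun x hx => hlam x ((Cb.fr.sgn a hab x hx.1).trans hx.2.1)) hil hjl him hjm hl3 (by
      rintro u v huv ⟨-, h1, h2⟩
      have h3 := (H.zero_iff (i := c) hcb huv).1 (sign_eq_zero_iff.1 h2)
      have h4 := hcpr u v huv h1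
      have h5 := hfin' u h3.1 h3.2.1
      have h6 := hfin' v h3.2.2.1 h3.2.2.2
      rcases h5 with rfl | rfl | rfl <;> rcases h6 with rfl | rfl | rfl
      · exact absurd rfl huv
      · exact Or.inl ⟨rfl, rfl⟩
      · exact Or.inr (Or.inl ⟨rfl, rfl⟩)
      · rcases h4 with h | h
        · exact absurd h.symm hne
        · exact absurd h hne
      · exact absurd rfl huv
      · rcases h4 with h | h
        · exact absurd h.symm hne
        · exact absurd h.symm hjl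
      · rcases h4 with h | h
        · exact absurd h.symm hil
        · exact absurd h hne
      · exact Or.inr (Or.inr ⟨rfl, rfl⟩)
      · exact absurd rfl huv) hS
  -- the root groups `X (l, m)`, `X (m, l)` commute with `y`
  have hw0 : ∀ w, ∀ u v : Fin 5, u ≠ v → (u = l ∧ v = al c ∨ u = al c ∧ v = l) → w ∈ Cb.Xc (rtA u v) → w * y = y * w := by
    intro w u v huv huv' hw
    have hr := isRoot_rtA Cb.cs (RootsA.isCartan 4) huv
    have hs' : SignType.sign (cpr Cb.cs (RootsA.isCartan 4) (rtA u v) (Cb.g c)) ≠ 0 := by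
      intro h0
      have h1 := (H.zero_iff (i := c) hcb huv).1 (sign_eq_zero_iff.1 h0)
      rcases huv' with ⟨-, h2⟩ | ⟨h2, -⟩
      · exact h1.2.2.1 h2
      · exact h1.1 h2
    refine hyw _ hs' w (mem_Q_sign Cb (i := c) hcb hr hs' hw) ?_ ?_
    · rw [F.Q_zero]
      refine Cb.fr.le_K_centralizer (i := a) hab hr ?_ hw
      rw [H.zero_iff (i := a) hab huv]
      rcases huv' with ⟨rfl, rfl⟩ | ⟨rfl, rfl⟩
      · exact ⟨hl1, hl2, d1.symm, d3.symm⟩
      · exact ⟨d1.symm, d3.symm, hl1, hl2⟩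
    · rw [F.Q_zero]
      exact E.cent b (Cb.fr.X_le _ hr hw)
  rw [decomp_end Cb.fr.rgd hne hil hjl him hjm hl3 hA hB hC hABC
    (fun w hw => hw0 w l (al c) hl3 (Or.inl ⟨rfl, rfl⟩) hw)
    (fun w hw => hw0 w (al c) l hl3.symm (Or.inr ⟨rfl, rfl⟩) hw), ← hijX]
  exact hC

include E hyp hKc hac hab hbc in
/-- `τ` inverts `Q a s ⊓ C(K b) ⊓ C(K c)` modulo `X a s` -/
theorem split (Cb : ACh Om K X Q {i | i ≠ b} (Δ b) p 4) {s : SignType} (hs : s ≠ 0) {y : G}
    (hy : y ∈ Q a s) (hyb : y ∈ Q b 0) (hyc : y ∈ Q c 0) : ∃ f v, f ∈ X a s ∧ v ∈ Q a s ∧ v ∈ Q b 0 ∧ v ∈ Q c 0 ∧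
      y = f * v ∧ zz K' * v * zz K' = v⁻¹ := by
  have F := E.F
  have hsq := T.sq hyp
  have hmem := T.mem hyp
  have hinv : (zz K')⁻¹ = zz K' := inv_eq_of_mul_eq_one_left hsq
  obtain ⟨f, hf, v, hv, hfv, h1, h2⟩ := exists_split (P := Q a s ⊓ Q b 0 ⊓ Q c 0)
    (fun y hy => F.odd_order hs hy.1.1) hsq (x := y) ⟨⟨hy, hyb⟩, hyc⟩ (by
      refine ⟨⟨?_, ?_⟩, ?_⟩
      · have h1 := mem_Q_of_comm (g := zz K') F hs (fun z hz => T.ca _ hmem z (F.X_le_K a hs hz)) hy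
        rwa [hinv] at h1
      · refine F.mem_Q_zero.2 fun g hg => ?_
        have c1 : Commute (zz K') g := T.cb _ hmem g hg
        have c2 : Commute y g := F.mem_Q_zero.1 hyb g hg
        exact ((c1.mul_left c2).mul_left c1).eq
      · refine F.mem_Q_zero.2 fun g hg => ?_
        have h1 := F.mem_Q_zero.1 hyc _ (T.norm g hg)
        calc zz K' * y * zz K' * g = zz K' * y * zz K' * g * (zz K' * zz K') := by rw [hsq, mul_one]
          _ = zz K' * (y * (zz K' * g * zz K')) * zz K' := by group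
          _ = (zz K' * zz K') * g * (zz K' * y * zz K') := by rw [h1]; group
          _ = g * (zz K' * y * zz K') := by rw [hsq, one_mul])
  exact ⟨f, v, T.alpha E hyp hab hac hbc Cb hs hf.1.1 hf.1.2 hf.2 ((comm_iff hsq).1 h1), hv.1.1, hv.1.2, hv.2, hfv, h2⟩

omit T [Finite G] in
theorem comm_cancel {f v f' w : G} (c1 : Commute f v) (c2 : Commute f w) (c3 : Commute f f') (c4 : Commute f' v)
    (c5 : Commute f' w) : ⁅f * v, f' * w⁆ = ⁅v, w⁆ := by
  have h1 : Commute f (v * (f' * w) * v⁻¹) := (c1.mul_right (c3.mul_right c2)).mul_right c1.inv_right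
  have h2 : Commute f' (v * w * v⁻¹ * w⁻¹) := ((c4.mul_right c5).mul_right c4.inv_right).mul_right c5.inv_right
  have e1 : f * v * (f' * w) * (f * v)⁻¹ = v * (f' * w) * v⁻¹ := by
    calc f * v * (f' * w) * (f * v)⁻¹ = f * (v * (f' * w) * v⁻¹) * f⁻¹ := by group
      _ = v * (f' * w) * v⁻¹ := by rw [h1.eq]; group
  have e2 : v * (f' * w) * v⁻¹ = f' * (v * w * v⁻¹) := by
    calc v * (f' * w) * v⁻¹ = (v * f') * w * v⁻¹ := by group
      _ = f' * (v * w * v⁻¹) := by rw [← c4.eq]; group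
  rw [commutatorElement_def, commutatorElement_def, e1, e2]
  calc f' * (v * w * v⁻¹) * (f' * w)⁻¹ = f' * (v * w * v⁻¹ * w⁻¹) * f'⁻¹ := by group
    _ = v * w * v⁻¹ * w⁻¹ := by rw [h2.eq]; group

omit T [Finite G] in
theorem comm_inv_inv {v w : G} (c1 : Commute ⁅v, w⁆ v) (c2 : Commute ⁅v, w⁆ w) : ⁅v⁻¹, w⁻¹⁆ = ⁅v, w⁆ := by
  have h1 : v * w = ⁅v, w⁆ * (w * v) := by rw [commutatorElement_def]; group
  have h2 : Commute ⁅v, w⁆ (w * v) := c2.mul_right c1
  rw [commutatorElement_def v⁻¹, inv_inv, inv_inv]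
  calc v⁻¹ * w⁻¹ * v * w = (w * v)⁻¹ * (v * w) := by group
    _ = (w * v)⁻¹ * (⁅v, w⁆ * (w * v)) := by rw [← h1]
    _ = ⁅v, w⁆ := by rw [h2.eq]; group

include E hyp hKc hac hab hbc in
/-- **(γ)**, for the root groups -/
theorem gamma_aux (Ca : ACh Om K X Q {i | i ≠ a} (Δ a) p 4) (Cb : ACh Om K X Q {i | i ≠ b} (Δ b) p 4)
    (Cc : ACh Om K X Q {i | i ≠ c} (Δ c) p 4) {al be : ι → Fin 5} (H : Idx Cc al be) {u v : Fin 5}
    (hu : u = al a ∨ u = be a) (hv : v = al b ∨ v = be b) :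
    Cc.Xc (rtA u v) ≤ Subgroup.centralizer {zz K'} := by
  have F := E.F
  have hsq := T.sq hyp
  have R := Cc.fr.rgd
  have na := H.ne a hac
  have nb := H.ne b hbc
  have d1 := H.disj a hac b hbc hab
  obtain ⟨l, hl1, hl2, hl3, hl4⟩ := exists_fifth (al a) (be a) (al b) (be b)
  obtain ⟨d1, d2, d3, d4⟩ := d1
  have hul : u ≠ l := by rcases hu with rfl | rfl; exacts [hl1.symm, hl2.symm]
  have hvl : v ≠ l := by rcases hv with rfl | rfl; exacts [hl3.symm, hl4.symm]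
  have huv : u ≠ v := by
    rcases hu with rfl | rfl <;> rcases hv with rfl | rfl
    exacts [d1, d2, d3, d4]
  have hva : v ≠ al a ∧ v ≠ be a := by rcases hv with rfl | rfl; exacts [⟨d1.symm, d3.symm⟩, ⟨d2.symm, d4.symm⟩]
  have hub : u ≠ al b ∧ u ≠ be b := by rcases hu with rfl | rfl; exacts [⟨d1, d2⟩, ⟨d3, d4⟩]
  have r1 := isRoot_rtA Cc.cs (RootsA.isCartan 4) hul
  have r2 := isRoot_rtA Cc.cs (RootsA.isCartan 4) hvl.symm
  have r3 := isRoot_rtA Cc.cs (RootsA.isCartan 4) huv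
  have e1 : cpr Cc.cs (RootsA.isCartan 4) (rtA u v) (Cc.g a) = cpr Cc.cs (RootsA.isCartan 4) (rtA u l) (Cc.g a) := by
    rw [H.cpr_eq (i := a) hac, H.cpr_eq (i := a) hac, if_neg hva.1, if_neg hva.2, if_neg hl1, if_neg hl2]
  have e2 : cpr Cc.cs (RootsA.isCartan 4) (rtA u v) (Cc.g b) = cpr Cc.cs (RootsA.isCartan 4) (rtA l v) (Cc.g b) := by
    rw [H.cpr_eq (i := b) hbc, H.cpr_eq (i := b) hbc, if_neg hub.1, if_neg hub.2, if_neg hl3, if_neg hl4]
  have s1 : SignType.sign (cpr Cc.cs (RootsA.isCartan 4) (rtA u l) (Cc.g a)) ≠ 0 := by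
    intro h0
    have h1 := (H.zero_iff (i := a) hac hul).1 (sign_eq_zero_iff.1 h0)
    rcases hu with h | h
    · exact h1.1 h
    · exact h1.2.1 h
  have t1 : SignType.sign (cpr Cc.cs (RootsA.isCartan 4) (rtA l v) (Cc.g b)) ≠ 0 := by
    intro h0
    have h1 := (H.zero_iff (i := b) hbc hvl.symm).1 (sign_eq_zero_iff.1 h0)
    rcases hv with h | h
    · exact h1.2.2.1 h
    · exact h1.2.2.2 h
  have key : ∀ p' ∈ Cc.Xc (rtA u l), ∀ q ∈ Cc.Xc (rtA l v), zz K' * ⁅p', q⁆ * zz K' = ⁅p', q⁆ := by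
    intro p' hp q hq
    have hp0 : p' ∈ Q b 0 := by
      rw [F.Q_zero]
      exact Cc.fr.le_K_centralizer (i := b) hbc r1 ((H.zero_iff (i := b) hbc hul).2 ⟨hub.1, hub.2, hl3, hl4⟩) hp
    have hq0 : q ∈ Q a 0 := by
      rw [F.Q_zero]
      exact Cc.fr.le_K_centralizer (i := a) hac r2 ((H.zero_iff (i := a) hac hvl.symm).2 ⟨hl1, hl2, hva.1, hva.2⟩) hq
    have hpc : p' ∈ Q c 0 := by rw [F.Q_zero]; exact E.cent c (Cc.fr.X_le _ r1 hp)
    have hqc : q ∈ Q c 0 := by rw [F.Q_zero]; exact E.cent c (Cc.fr.X_le _ r2 hq)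
    have hpa := mem_Q_sign Cc (i := a) hac r1 s1 hp
    have hqb := mem_Q_sign Cc (i := b) hbc r2 t1 hq
    obtain ⟨f, v1, hf, hv1, hv1b, hv1c, ef, ev1⟩ := T.split E hyp hKc hab hac hbc Cb s1 hpa hp0 hpc
    obtain ⟨f', v2, hf', hv2, hv2a, hv2c, ef', ev2⟩ := T.symm.split E hyp hKc hab.symm hbc hac Ca t1 hqb hq0 hqc
    have fK := F.X_le_K a s1 hf
    have fK' := F.X_le_K b t1 hf'
    have c1 : Commute f v1 := (F.Q_cent a _ s1 v1 hv1 f hf).symm
    have c2 : Commute f v2 := (F.mem_Q_zero.1 hv2a f fK).symm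
    have c3 : Commute f f' := F.comm a b hab f fK f' fK'
    have c4 : Commute f' v1 := (F.mem_Q_zero.1 hv1b f' fK').symm
    have c5 : Commute f' v2 := (F.Q_cent b _ t1 v2 hv2 f' hf').symm
    have hm : ⁅p', q⁆ = ⁅v1, v2⁆ := by rw [ef, ef']; exact comm_cancel c1 c2 c3 c4 c5
    have hmX := CommA.comm_mem R hul hvl.symm huv hp hq
    have m1 : Commute ⁅p', q⁆ p' := CommA.comm_disj R huv hul huv.symm hul (fun e => hvl e.2) hmX hp
    have m2 : Commute ⁅p', q⁆ q := CommA.comm_disj R huv hvl.symm hvl huv (fun e => hul e.1) hmX hq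
    have m3 : Commute ⁅p', q⁆ f := by
      have h1 := mem_Q_sign Cc (i := a) hac r3 (by rw [e1]; exact s1) hmX
      rw [e1] at h1
      exact F.Q_cent a _ s1 _ h1 f hf
    have m4 : Commute ⁅p', q⁆ f' := by
      have h1 := mem_Q_sign Cc (i := b) hbc r3 (by rw [e2]; exact t1) hmX
      rw [e2] at h1
      exact F.Q_cent b _ t1 _ h1 f' hf'
    have m5 : Commute ⁅p', q⁆ v1 := by
      have : v1 = f⁻¹ * p' := by rw [ef]; group
      rw [this]
      exact m3.inv_right.mul_right m1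
    have m6 : Commute ⁅p', q⁆ v2 := by
      have : v2 = f'⁻¹ * q := by rw [ef']; group
      rw [this]
      exact m4.inv_right.mul_right m2
    rw [hm] at m5 m6 ⊢
    have e3 : zz K' * ⁅v1, v2⁆ * zz K' = ⁅v1⁻¹, v2⁻¹⁆ := by
      rw [commutatorElement_def, commutatorElement_def, conj_mul' hsq, conj_mul' hsq, conj_mul' hsq, conj_inv' hsq,
        conj_inv' hsq, ev1, ev2]
    rw [e3]
    exact comm_inv_inv m5 m6
  intro g hg
  rw [Subgroup.mem_centralizer_singleton_iff]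
  obtain ⟨v0, hv0⟩ := Subgroup.ne_bot_iff_exists_ne_one.1 (Nodes.Bruhat.X_ne_bot R r2)
  obtain ⟨k', hk', e⟩ := CommA.nd R hul hvl.symm huv v0.2 (fun e => hv0 (Subtype.ext e)) hg
  have h1 := (comm_iff hsq).1 (key k' hk' v0 v0.2)
  rw [← e, ← commutatorElement_inv]
  exact ((show Commute (zz K') ⁅k', (v0 : G)⁆ from h1).inv_right).eq.symm

include E hyp hKc hac hab hbc in
/-- **(γ)** -/
theorem gamma (Ca : ACh Om K X Q {i | i ≠ a} (Δ a) p 4) (Cb : ACh Om K X Q {i | i ≠ b} (Δ b) p 4)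
    (Cc : ACh Om K X Q {i | i ≠ c} (Δ c) p 4) {s t : SignType} (hs : s ≠ 0) (ht : t ≠ 0) {m : G} (hm : m ∈ Q a s)
    (hm' : m ∈ Q b t) (hmc : m ∈ Q c 0) : m * zz K' = zz K' * m := by
  have F := E.F
  obtain ⟨al, be, H⟩ := exists_idx Cc
  have h1 := mem_Sup_of_two F Cc (a := a) (b := b) hac hbc hab hs hm hm'
    (E.mem_delta hac hs hm (F.mem_Q_zero.1 hmc _ (F.z_mem c)))
  rw [← Subgroup.mem_centralizer_singleton_iff]
  refine (RGD.Sup_le fun y hy => ?_) h1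
  obtain ⟨hy, h2, h3⟩ := hy
  obtain ⟨u, v, huv, rfl⟩ := exists_of_isRoot _ _ hy
  have h4 : ¬ (u ≠ al a ∧ u ≠ be a ∧ v ≠ al a ∧ v ≠ be a) := by
    rw [← H.zero_iff (i := a) hac huv]
    intro h0
    rw [h0, sign_zero] at h2
    exact hs h2.symm
  have h5 : ¬ (u ≠ al b ∧ u ≠ be b ∧ v ≠ al b ∧ v ≠ be b) := by
    rw [← H.zero_iff (i := b) hbc huv]
    intro h0
    rw [h0, sign_zero] at h3
    exact ht h3.symm
  obtain ⟨d1, d2, d3, d4⟩ := H.disj a hac b hbc hab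
  have h6 : ((u = al a ∨ u = be a) ∧ (v = al b ∨ v = be b)) ∨ ((u = al b ∨ u = be b) ∧ (v = al a ∨ v = be a)) := by
    by_cases hu : u = al a ∨ u = be a
    · left
      refine ⟨hu, ?_⟩
      by_contra hv
      push Not at hv
      apply h5
      rcases hu with rfl | rfl
      · exact ⟨d1, d2, hv.1, hv.2⟩
      · exact ⟨d3, d4, hv.1, hv.2⟩
    · push Not at hu
      have hv : v = al a ∨ v = be a := by
        by_contra hv
        push Not at hv
        exact h4 ⟨hu.1, hu.2, hv.1, hv.2⟩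
      right
      refine ⟨?_, hv⟩
      by_contra hu'
      push Not at hu'
      apply h5
      rcases hv with rfl | rfl
      · exact ⟨hu'.1, hu'.2, d1, d2⟩
      · exact ⟨hu'.1, hu'.2, d3, d4⟩
  rcases h6 with ⟨hu, hv⟩ | ⟨hu, hv⟩
  · exact T.gamma_aux E hyp hKc hab hac hbc Ca Cb Cc H hu hv
  · exact T.symm.gamma_aux E hyp hKc hab.symm hbc hac Cb Ca Cc H hu hv

include E hyp hKc hac hab hbc in
/-- **(δ)** -/
theorem delta (Ca : ACh Om K X Q {i | i ≠ a} (Δ a) p 4) (Cb : ACh Om K X Q {i | i ≠ b} (Δ b) p 4)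
    (Cc : ACh Om K X Q {i | i ≠ c} (Δ c) p 4) {s t : SignType} (hs : s ≠ 0) (ht : t ≠ 0) {x : G} (hx : x ∈ Q a s)
    (hx' : x ∈ Q b t) (hxc : zz (K c) * x * zz (K c) = x⁻¹) : x = 1 := by
  have F := E.F
  have hsq := T.sq hyp
  have zc2 : zz (K c) * zz (K c) = 1 := F.z_sq c
  have hinv : (zz K')⁻¹ = zz K' := inv_eq_of_mul_eq_one_left hsq
  have hcomm := T.comm hyp hKc
  have hmemK := T.mem hyp
  -- conjugation by `k`, `τ`
  have hkQ : ∀ y, y ∈ Q a s → y ∈ Q b t → k⁻¹ * y * k ∈ Q a s ∧ k⁻¹ * y * k ∈ Q b t := by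
    intro y h1 h2
    have h3 := mem_Q_of_comm (g := k⁻¹) F hs (fun z hz => T.kinv_a z (F.X_le_K a hs hz)) h1
    have h4 := mem_Q_of_comm (g := k⁻¹) F ht (fun z hz => T.kinv_b z (F.X_le_K b ht hz)) h2
    rw [inv_inv] at h3 h4
    exact ⟨h3, h4⟩
  have htQ : ∀ y, y ∈ Q a s → y ∈ Q b t → zz K' * y * zz K' ∈ Q a s ∧ zz K' * y * zz K' ∈ Q b t := by
    intro y h1 h2
    have h3 := mem_Q_of_comm (g := zz K') F hs (fun z hz => T.ca _ hmemK z (F.X_le_K a hs hz)) h1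
    have h4 := mem_Q_of_comm (g := zz K') F ht (fun z hz => T.cb _ hmemK z (F.X_le_K b ht hz)) h2
    rw [hinv] at h3 h4
    exact ⟨h3, h4⟩
  -- the centraliser of `τ`
  have hC : ∀ y, y ∈ Q a s → y ∈ Q b t → y * zz K' = zz K' * y → y * zz (K c) = zz (K c) * y := by
    intro y h1 h2 h3
    obtain ⟨h4, h5⟩ := hkQ y h1 h2
    have h6 : k⁻¹ * y * k * zz (K c) = zz (K c) * (k⁻¹ * y * k) := by
      calc k⁻¹ * y * k * zz (K c) = k⁻¹ * y * (k * zz (K c)) := by group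
        _ = k⁻¹ * (y * zz K') * k := by rw [T.k_zc]; group
        _ = (k⁻¹ * zz K') * y * k := by rw [h3]; group
        _ = zz (K c) * (k⁻¹ * y * k) := by rw [T.kinv_tau]; group
    have h7 := E.comm_of_z hac hs h4 h6
    have h8 := T.gamma E hyp hKc hab hac hbc Ca Cb Cc hs ht h4 h5 h7
    have h9 : k * (k⁻¹ * y * k * zz K') * k⁻¹ = k * (zz K' * (k⁻¹ * y * k)) * k⁻¹ := by rw [h8]
    have e1 : k * (k⁻¹ * y * k * zz K') * k⁻¹ = y * (k * zz K' * k⁻¹) := by group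
    have e2 : k * (zz K' * (k⁻¹ * y * k)) * k⁻¹ = (k * zz K' * k⁻¹) * y := by group
    rwa [e1, e2, T.conj2] at h9
  -- `z c` inverts `⟹` `τ` inverts
  have hD : ∀ y, y ∈ Q a s → y ∈ Q b t → zz (K c) * y * zz (K c) = y⁻¹ → zz K' * y * zz K' = y⁻¹ := by
    intro y h1 h2 h3
    obtain ⟨h4, h5⟩ := htQ y h1 h2
    have ha := mul_mem h1 h4
    have hb := mul_mem h2 h5
    have hcm := comm2 F hab hs ht h4 h5 h1 h2
    have h6 : zz K' * (y * (zz K' * y * zz K')) * zz K' = y * (zz K' * y * zz K') := by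
      rw [conj_mul' hsq, conj_conj hsq]
      exact hcm
    have h7 := hC _ ha hb ((comm_iff hsq).1 h6).symm
    have h8 : zz (K c) * (y * (zz K' * y * zz K')) * zz (K c) = (y * (zz K' * y * zz K'))⁻¹ := by
      have e1 : zz (K c) * (zz K' * y * zz K') * zz (K c) = (zz K' * y * zz K')⁻¹ := by
        calc zz (K c) * (zz K' * y * zz K') * zz (K c) = (zz (K c) * zz K') * y * (zz K' * zz (K c)) := by group
          _ = zz K' * (zz (K c) * y * zz (K c)) * zz K' := by rw [hcomm]; nth_rewrite 1 [← hcomm]; group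
          _ = _ := by rw [h3, conj_inv' hsq]
      rw [conj_mul' zc2, e1, h3, ← mul_inv_rev, hcm]
    rw [(comm_iff zc2).2 h7.symm] at h8
    have h9 : (y * (zz K' * y * zz K')) * (y * (zz K' * y * zz K')) = 1 := by
      nth_rewrite 1 [h8]
      exact inv_mul_cancel _
    exact eq_inv_of_mul_eq_one_right (FrameOdd.eq_one_of_odd (F.odd_order hs ha) h9)
  -- `τ` inverts `⟹` `z c` inverts
  have hD' : ∀ y, y ∈ Q a s → y ∈ Q b t → zz K' * y * zz K' = y⁻¹ → zz (K c) * y * zz (K c) = y⁻¹ := by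
    intro y h1 h2 h3
    obtain ⟨h4, h5⟩ := hkQ y h1 h2
    have h6 : zz (K c) * (k⁻¹ * y * k) * zz (K c) = (k⁻¹ * y * k)⁻¹ := by
      calc zz (K c) * (k⁻¹ * y * k) * zz (K c) = (zz (K c) * k⁻¹) * y * (k * zz (K c)) := by group
        _ = k⁻¹ * (zz K' * y * zz K') * k := by rw [T.k_zc, ← T.kinv_tau]; group
        _ = _ := by rw [h3]; group
    have h7 := hD _ h4 h5 h6
    have h8 : k * (zz K' * (k⁻¹ * y * k) * zz K') * k⁻¹ = k * (k⁻¹ * y * k)⁻¹ * k⁻¹ := by rw [h7]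
    have e1 : k * (zz K' * (k⁻¹ * y * k) * zz K') * k⁻¹ = (k * zz K' * k⁻¹) * y * (k * zz K' * k⁻¹) := by group
    have e2 : k * (k⁻¹ * y * k)⁻¹ * k⁻¹ = y⁻¹ := by group
    rwa [e1, e2, T.conj2] at h8
  have hxt := hD x hx hx' hxc
  -- `K'` centralises `x`
  have key : ∀ g ∈ K', Odd (orderOf g) → zz (K c) * g * zz (K c) = g⁻¹ → g * x = x * g := by
    intro g hg hodd hgi
    have h1 := mem_Q_of_comm (g := g) F hs (fun z hz => T.ca g hg z (F.X_le_K a hs hz)) hx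
    have h2 := mem_Q_of_comm (g := g) F ht (fun z hz => T.cb g hg z (F.X_le_K b ht hz)) hx'
    refine comm_of_inv zc2 hgi hodd hxc (hD' _ h1 h2 ?_)
    have h3 : zz K' * g * zz K' = g := (comm_iff hsq).2 (T.cent hyp g hg).symm
    rw [conj_mul' hsq, conj_mul' hsq, conj_inv' hsq, h3, hxt]
    group
  have hK' : K' ≤ Subgroup.centralizer {x} := by
    have h1 : P1 ≤ K' := by rw [T.sup]; exact le_sup_left
    have h2 : P2 ≤ K' := by rw [T.sup]; exact le_sup_right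
    have h3 : P1 ⊔ P2 ≤ Subgroup.centralizer {x} := sup_le
      (fun g hg => Subgroup.mem_centralizer_singleton_iff.2 (key g (h1 hg) (T.odd1 g hg) (T.inv1 g hg)))
      (fun g hg => Subgroup.mem_centralizer_singleton_iff.2 (key g (h2 hg) (T.odd2 g hg) (T.inv2 g hg)))
    rwa [← T.sup] at h3
  have h1 := Subgroup.mem_centralizer_singleton_iff.1 (hK' hmemK)
  rw [(comm_iff hsq).2 h1] at hxt
  refine FrameOdd.eq_one_of_odd (F.odd_order hs hx) ?_
  nth_rewrite 1 [hxt]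
  exact inv_mul_cancel x

end Tau

section Exists

variable [Finite G] {Δ : ι → Subgroup G} (E : Env K (fun i => zz (K i)) X Q Δ p) (hyp : Hyp Om)

include E hyp

theorem zz_conj {K₁ K₂ : Subgroup G} (h1 : K₁ ∈ Om) {k : G} (h2 : Nodes.Reps.cj k K₁ = K₂) :
    k * zz K₁ * k⁻¹ = zz K₂ := by
  rw [← h2]
  exact FrameClose.zz_cj hyp h1 k

/-- the second member exists -/
theorem exists_tau [Fact p.Prime] (hp2 : p ≠ 2) {a b c : ι} (hab : a ≠ b) (hac : a ≠ c) (hbc : b ≠ c) (hKc : K c ∈ Om)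
    (Ca : ACh Om K X Q {i | i ≠ a} (Δ a) p 4) : ∃ k K' P1 P2, Tau Om K Q a b c k K' P1 P2 := by
  have F := E.F
  have hba : b ≠ a := hab.symm
  have hca : c ≠ a := hac.symm
  obtain ⟨al, be, H⟩ := exists_idx Ca
  obtain ⟨l, hl1, hl2, hl3, hl4⟩ := exists_fifth (al b) (be b) (al c) (be c)
  have nb := H.ne b hba
  have nc := H.ne c hca
  have d := H.disj b hba c hca hbc
  have hfin := fin5 nb nc d hl1 hl2 hl3 hl4
  obtain ⟨d1, d2, d3, d4⟩ := d
  have R := Ca.fr.rgd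
  have rc := isRoot_rtA Ca.cs (RootsA.isCartan 4) nc
  have rc' := isRoot_rtA Ca.cs (RootsA.isCartan 4) nc.symm
  have r1 := isRoot_rtA Ca.cs (RootsA.isCartan 4) hl3.symm
  have r1' := isRoot_rtA Ca.cs (RootsA.isCartan 4) hl3
  have ru := isRoot_rtA Ca.cs (RootsA.isCartan 4) hl4.symm
  have ru' := isRoot_rtA Ca.cs (RootsA.isCartan 4) hl4
  have hK : K c = Ca.Xc (rtA (al c) (be c)) ⊔ Ca.Xc (rtA (be c) (al c)) := by
    have := K_eq_chart F Ca (i := c) hca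
    rwa [H.eq c hca, rtA_neg] at this
  obtain ⟨k, hk, hmap⟩ := TypeESixGen.exists_refl_conj R ru
    (P := Ca.Xc (rtA (be c) l) ⊔ Ca.Xc (-rtA (be c) l)) le_sup_left le_sup_right
  obtain ⟨K', hK'⟩ : ∃ K', K' = Ca.Xc (rtA (al c) l) ⊔ Ca.Xc (rtA l (al c)) := ⟨_, rfl⟩
  have m1 : Nodes.Reps.cj k (Ca.Xc (rtA (al c) (be c))) = Ca.Xc (rtA (al c) l) := by
    rw [hmap _ rc, CommA.cpr_rtA _ _ _ _ hl4.symm, if_neg nc, if_neg hl3.symm, if_pos rfl, if_neg hl4.symm]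
    congr 1
    rw [← rtA_add (al c) (be c) l]; module
  have m2 : Nodes.Reps.cj k (Ca.Xc (rtA (be c) (al c))) = Ca.Xc (rtA l (al c)) := by
    rw [hmap _ rc', CommA.cpr_rtA _ _ _ _ hl4.symm, if_pos rfl, if_neg hl4.symm, if_neg nc, if_neg hl3.symm]
    congr 1
    rw [← rtA_add l (be c) (al c), ← rtA_neg (be c) l]; module
  have m3 : Nodes.Reps.cj k (Ca.Xc (rtA (al c) l)) = Ca.Xc (rtA (al c) (be c)) := by
    rw [hmap _ r1, CommA.cpr_rtA _ _ _ _ hl4.symm, if_neg nc, if_neg hl3.symm, if_neg hl4, if_pos rfl]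
    congr 1
    rw [← rtA_add (al c) (be c) l]; module
  have m4 : Nodes.Reps.cj k (Ca.Xc (rtA l (al c))) = Ca.Xc (rtA (be c) (al c)) := by
    rw [hmap _ r1', CommA.cpr_rtA _ _ _ _ hl4.symm, if_neg hl4, if_pos rfl, if_neg nc, if_neg hl3.symm]
    congr 1
    rw [← rtA_add l (be c) (al c), ← rtA_neg (be c) l]; module
  have ck : Nodes.Reps.cj k (K c) = K' := by
    rw [hK, Nodes.Reps.cj_sup, m1, m2, hK']
  have kc : Nodes.Reps.cj k K' = K c := by
    rw [hK', Nodes.Reps.cj_sup, m3, m4, hK]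
  have om : K' ∈ Om := by
    have := Ca.om _ r1
    rwa [rtA_neg, ← hK'] at this
  -- centralisers
  have orth : ∀ u v : Fin 5, u ≠ v → u ≠ al b → u ≠ be b → v ≠ al b → v ≠ be b → ∀ g ∈ Ca.Xc (rtA u v),
      (∀ y ∈ K a, g * y = y * g) ∧ ∀ y ∈ K b, g * y = y * g := by
    intro u v huv h1 h2 h3 h4 g hg
    have hr := isRoot_rtA Ca.cs (RootsA.isCartan 4) huv
    refine ⟨conj_mem_of_orth E Ca hr (fun h => absurd rfl h) hg, conj_mem_of_orth E Ca hr (fun _ => ?_) hg⟩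
    exact (H.zero_iff (i := b) hba huv).2 ⟨h1, h2, h3, h4⟩
  have sup_cent : ∀ A B M : Subgroup G, (∀ g ∈ A, ∀ y ∈ M, g * y = y * g) → (∀ g ∈ B, ∀ y ∈ M, g * y = y * g) →
      ∀ g ∈ A ⊔ B, ∀ y ∈ M, g * y = y * g := by
    intro A B M h1 h2 g hg y hy
    have h3 : A ⊔ B ≤ Subgroup.centralizer {y} := sup_le
      (fun g hg => Subgroup.mem_centralizer_singleton_iff.2 (h1 g hg y hy))
      (fun g hg => Subgroup.mem_centralizer_singleton_iff.2 (h2 g hg y hy))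
    exact Subgroup.mem_centralizer_singleton_iff.1 (h3 hg)
  rw [rtA_neg] at hk
  have ru1 := orth (be c) l hl4.symm d2.symm d4.symm hl1 hl2
  have ru2 := orth l (be c) hl4 hl1 hl2 d2.symm d4.symm
  have rk1 := orth (al c) l hl3.symm d1.symm d3.symm hl1 hl2
  have rk2 := orth l (al c) hl3 hl1 hl2 d1.symm d3.symm
  have hsq : zz K' * zz K' = 1 := hyp.zz_mul om
  -- `τ` inverts the root groups of `K c`
  have ti : ∀ u v : Fin 5, u ≠ v → (u = al c ∧ v = be c ∨ u = be c ∧ v = al c) → ∀ g ∈ Ca.Xc (rtA u v),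
      zz K' * g * zz K' = g⁻¹ := by
    intro u v huv huv' g hg
    have h1 := Ca.inv (rtA (al c) l) (rtA u v) r1 (isRoot_rtA Ca.cs (RootsA.isCartan 4) huv) ?_ ?_ ?_ g hg
    · rwa [rtA_neg, ← hK'] at h1
    · intro e
      obtain ⟨e1, e2⟩ := rtA_inj huv e
      rcases huv' with ⟨h, h'⟩ | ⟨h, h'⟩
      · exact hl4 (e2.symm.trans h')
      · exact nc (e1.symm.trans h)
    · rw [rtA_neg]
      intro e
      obtain ⟨e1, e2⟩ := rtA_inj huv e
      rcases huv' with ⟨h, h'⟩ | ⟨h, h'⟩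
      · exact nc (e2.symm.trans h')
      · exact hl4 (e1.symm.trans h)
    · rw [Ne, KindA.cpr_eq_zero_iff _ _ huv hl3.symm]
      rintro ⟨h1, h2, h3, h4⟩
      rcases huv' with ⟨h, h'⟩ | ⟨h, h'⟩
      · exact h1 h
      · exact h3 h'
  have hnorm : ∀ y ∈ K c, zz K' * y * zz K' ∈ K c := by
    have hinv : (zz K')⁻¹ = zz K' := inv_eq_of_mul_eq_one_left hsq
    have h1 : K c ≤ (K c).comap (MulAut.conj (zz K')).toMonoidHom := by
      conv_lhs => rw [hK]
      refine sup_le (fun g hg => ?_) (fun g hg => ?_)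
      · rw [Subgroup.mem_comap]
        change zz K' * g * (zz K')⁻¹ ∈ K c
        rw [hinv, ti _ _ nc (Or.inl ⟨rfl, rfl⟩) g hg, hK]
        exact (le_sup_left : Ca.Xc (rtA (al c) (be c)) ≤ _) (inv_mem hg)
      · rw [Subgroup.mem_comap]
        change zz K' * g * (zz K')⁻¹ ∈ K c
        rw [hinv, ti _ _ nc.symm (Or.inr ⟨rfl, rfl⟩) g hg, hK]
        exact (le_sup_right : Ca.Xc (rtA (be c) (al c)) ≤ _) (inv_mem hg)
    intro y hy
    have h2 : zz K' * y * (zz K')⁻¹ ∈ K c := h1 hy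
    rwa [hinv] at h2
  -- `z c` inverts the root groups of `K'`
  have ci : ∀ u v : Fin 5, u ≠ v → (u = al c ∧ v = l ∨ u = l ∧ v = al c) → ∀ g ∈ Ca.Xc (rtA u v),
      zz (K c) * g * zz (K c) = g⁻¹ := by
    intro u v huv huv' g hg
    have h1 := Ca.inv (Ca.g c) (rtA u v) (Ca.fr.root c hca) (isRoot_rtA Ca.cs (RootsA.isCartan 4) huv) ?_ ?_ ?_ g hg
    · rwa [← K_eq_chart F Ca (i := c) hca] at h1
    · rw [H.eq c hca]
      intro e
      obtain ⟨e1, e2⟩ := rtA_inj huv e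
      rcases huv' with ⟨h, h'⟩ | ⟨h, h'⟩
      · exact hl4 (h'.symm.trans e2)
      · exact hl3 (h.symm.trans e1)
    · rw [H.eq c hca, rtA_neg]
      intro e
      obtain ⟨e1, e2⟩ := rtA_inj huv e
      rcases huv' with ⟨h, h'⟩ | ⟨h, h'⟩
      · exact hl3 (h'.symm.trans e2)
      · exact hl4 (h.symm.trans e1)
    · rw [Ne, H.zero_iff (i := c) hca huv]
      rintro ⟨h1, h2, h3, h4⟩
      rcases huv' with ⟨h, h'⟩ | ⟨h, h'⟩
      · exact h1 h
      · exact h3 h'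
  refine ⟨k, K', Ca.Xc (rtA (al c) l), Ca.Xc (rtA l (al c)),
    { ka := sup_cent _ _ (K a) (fun g hg => (ru1 g hg).1) (fun g hg => (ru2 g hg).1) k hk
      kb := sup_cent _ _ (K b) (fun g hg => (ru1 g hg).2) (fun g hg => (ru2 g hg).2) k hk
      ck := fun g hg => by
        rw [← ck, Nodes.Reps.mem_cj] at hg
        exact hg
      conj1 := zz_conj E hyp hKc ck
      conj2 := zz_conj E hyp om kc
      om := om
      ca := by
        rw [hK']
        exact sup_cent _ _ (K a) (fun g hg => (rk1 g hg).1) (fun g hg => (rk2 g hg).1)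
      cb := by
        rw [hK']
        exact sup_cent _ _ (K b) (fun g hg => (rk1 g hg).2) (fun g hg => (rk2 g hg).2)
      norm := hnorm
      sup := hK'
      inv1 := ci _ _ hl3.symm (Or.inl ⟨rfl, rfl⟩)
      inv2 := ci _ _ hl3 (Or.inr ⟨rfl, rfl⟩)
      odd1 := fun g hg => odd_of_root hp2 Ca r1 hg
      odd2 := fun g hg => odd_of_root hp2 Ca r1' hg
      gen := ?_ }⟩
  intro y h1 h2 s hs w hw hwa hwb
  have hyK1 : ∀ g ∈ Ca.Xc (rtA (al c) (be c)), g * y = y * g := fun g hg => h1 g (by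
    rw [hK]; exact (le_sup_left : Ca.Xc (rtA (al c) (be c)) ≤ _) hg)
  have hyK2 : ∀ g ∈ Ca.Xc (rtA (be c) (al c)), g * y = y * g := fun g hg => h1 g (by
    rw [hK]; exact (le_sup_right : Ca.Xc (rtA (be c) (al c)) ≤ _) hg)
  have hyK3 : ∀ g ∈ Ca.Xc (rtA (al c) l), g * y = y * g := fun g hg => h2 g (by
    rw [hK']; exact (le_sup_left : Ca.Xc (rtA (al c) l) ≤ _) hg)
  have hyK4 : ∀ g ∈ Ca.Xc (rtA l (al c)), g * y = y * g := fun g hg => h2 g (by
    rw [hK']; exact (le_sup_right : Ca.Xc (rtA l (al c)) ≤ _) hg)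
  have hyK5 := comm_of_two R nc.symm hl3.symm hl4.symm hyK2 hyK3
  have hyK6 := comm_of_two R hl3 nc hl4 hyK4 hyK1
  have hS := mem_Sup_of_two F Ca (a := c) (b := b) hca hba hbc.symm hs hw hwb
    (E.mem_delta hca hs hw (F.mem_Q_zero.1 hwa _ (F.z_mem a)))
  rw [← Subgroup.mem_centralizer_singleton_iff]
  refine (RGD.Sup_le fun r hr => ?_) hS
  obtain ⟨hr, h3, h4⟩ := hr
  obtain ⟨u, v, huv, rfl⟩ := exists_of_isRoot _ _ hr
  have h5 := (H.zero_iff (i := b) hba huv).1 (sign_eq_zero_iff.1 h4)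
  have h6 : ∀ w : Fin 5, w ≠ al b → w ≠ be b → w = al c ∨ w = be c ∨ w = l := by
    intro w h6 h7
    rcases hfin w with h | h | h | h | h
    · exact absurd h h6
    · exact absurd h h7
    · exact Or.inl h
    · exact Or.inr (Or.inl h)
    · exact Or.inr (Or.inr h)
  intro g hg
  rw [Subgroup.mem_centralizer_singleton_iff]
  rcases h6 u h5.1 h5.2.1 with rfl | rfl | rfl <;> rcases h6 v h5.2.2.1 h5.2.2.2 with rfl | rfl | rfl
  · exact absurd rfl huv
  · exact hyK1 g hg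
  · exact hyK3 g hg
  · exact hyK2 g hg
  · exact absurd rfl huv
  · exact hyK5 g hg
  · exact hyK4 g hg
  · exact hyK6 g hg
  · exact absurd rfl huv

/-- **(iii)** `ν = 4`. -/
theorem df_of_four [Fact p.Prime] (hp2 : p ≠ 2) (C : ∀ c, ACh Om K X Q {i | i ≠ c} (Δ c) p 4) (hKc : ∀ i, K i ∈ Om)
    {a b c : ι} (hab : a ≠ b) (hac : a ≠ c) (hbc : b ≠ c) {s t : SignType} (hs : s ≠ 0)
    (ht : t ≠ 0) {x : G} (hx : Df K Q a b s t x) : x = 1 := by
  obtain ⟨k, K', P1, P2, T⟩ := exists_tau E hyp hp2 hab hac hbc (hKc c) (C a)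
  exact T.delta E hyp (hKc c) hab hac hbc (C a) (C b) (C c) hs ht hx.1 hx.2.1 (hx.2.2 c hac.symm hbc.symm)

/-- **par**: every element of `Q a s ⊓ Q b t` commutes with the other `K d`; for `ν = 5` this is an hypothesis (it
distinguishes `A₇` from `E₆`). -/
theorem par [Fact p.Prime] (hp2 : p ≠ 2) [Finite ι] {ν : ℕ} (hν : 3 ≤ ν) (hcard : Nat.card ι = (ν + 1) / 2 + 1)
    (C : ∀ c, ACh Om K X Q {i | i ≠ c} (Δ c) p ν) (hKc : ∀ i, K i ∈ Om)
    (full : ν = 5 → ∀ e : ι → SignType, (∀ i, e i ≠ 0) → XX Q e = ⊥)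
    {a b : ι} (hab : a ≠ b) {s t : SignType} (hs : s ≠ 0) (ht : t ≠ 0) {x : G} (hx : x ∈ Q a s) (hx' : x ∈ Q b t)
    {d : ι} (hda : d ≠ a) (hdb : d ≠ b) : x ∈ Q d 0 := by
  classical
  refine par_of_df E C hab hs ht (fun y hy => ?_) hx hx' hda hdb
  rcases Nat.lt_or_ge ν 6 with h6 | h6
  · interval_cases ν
    · exact df_of_three E hp2 rfl C hab hda.symm hdb.symm hs ht hy
    · exact df_of_four E hyp hp2 C hKc hab hda.symm hdb.symm hs ht hy
    · exact df_eq_one E (full rfl) hab hs ht hy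
  · obtain ⟨c, hc⟩ : ∃ c : ι, c ∉ ({a, b, d} : Finset ι) := by
      by_contra hcon
      push Not at hcon
      have := Fintype.ofFinite ι
      have h1 : (Finset.univ : Finset ι).card ≤ ({a, b, d} : Finset _).card :=
        Finset.card_le_card fun k _ => hcon k
      rw [Finset.card_univ, ← Nat.card_eq_fintype_card, hcard] at h1
      have := h1.trans Finset.card_le_three
      omega
    simp only [Finset.mem_insert, Finset.mem_singleton, not_or] at hc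
    exact df_of_six E hp2 h6 C hab hc.1 hc.2.1 hda hdb hc.2.2 hs ht hy

end Exists

end Cfsg.Agent.Cit.TypeAPar
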