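import Mathlib
import Cfsg.Agent.Cit.TypeAParFour
import Cfsg.Agent.Cit.FrameProv
import Cfsg.Agent.Cit.CorTwo
import Cfsg.Agent.Nodes.ZRel

/-!
# Type `A`: the environment of the frame (project CIT)

* `mem_QF` : elements of odd order of `C(X i s)` inverted by `z i` lie in `Q i s`;
* `eq_or_comm` : members of `Om` are equal or commute if one centralises the involution of the other;
* `not_le_of_comm` : a group with a chart of rank at least two containing `J ∈ Om` does not centralise `zz J`;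
* `cj_eq_of_comm` : `C(z_c)` normalises `K c`;
* `env_of` : `Env` for `Δ_c = delta Om (K c)`;
* `ach_of` : the standard adapted chart of `Δ_l`.
-/

set_option autoImplicit false
set_option linter.unusedSectionVars false

namespace Cfsg.Agent.Cit.TypeAEnv

open CoxeterSystem Cfsg.Agent.ChevalleyStructure.CoxeterGeom Cfsg.Agent.Tits.Roots Cfsg.Agent.Tits.Core
  Cfsg.Agent.Nodes.Chart Cfsg.Agent.Cit.Parab Cfsg.Agent.Cit.LemmaUQ Cfsg.Agent.Cit.ParabSL2 Cfsg.Agent.Cit.FrameOf
  Cfsg.Agent.Cit.FrameSign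
  Cfsg.Agent.Cit.FrameClose Cfsg.Agent.Cit.FrameOdd Cfsg.Agent.Cit.TypeAStd Cfsg.Agent.Cit.FrameProv
open scoped commutatorElement

universe u

variable {G : Type u} [Group G] [Finite G] {Om : Set (Subgroup G)} {ι : Type*}
  {F : Type*} [Field F] [Fintype F] {p : ℕ} {K : ι → Subgroup G} {X : ι → SignType → Subgroup G}

theorem mem_QF (D : Dat Om F K X) (hF : Odd (Fintype.card F)) (i : ι) {s : SignType} (hs : s ≠ 0) {a : G}
    (ha : ∀ b ∈ X i s, a * b = b * a) (hinv : zz (K i) * a * zz (K i) = a⁻¹) (hodd : Odd (orderOf a)) :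
    a ∈ QF K X i s := by
  have hl := D.long hF i hs
  rw [QF_of_ne K X i hs]
  have h1 := hl.commutator_mem (Subgroup.mem_centralizer_iff.2 fun x hx => (ha x hx).symm)
  have hz : (zz (K i))⁻¹ = zz (K i) := inv_eq_of_mul_eq_one_left hl.zsq
  have h2 : ⁅a, zz (K i)⁆ = a * a := by
    have h3 : zz (K i) * a⁻¹ * zz (K i) = a := by
      rw [conj_inv' hl.zsq, hinv, inv_inv]
    rw [commutatorElement_def, hz]
    calc a * zz (K i) * a⁻¹ * zz (K i) = a * (zz (K i) * a⁻¹ * zz (K i)) := by group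
      _ = a * a := by rw [h3]
  rw [h2] at h1
  obtain ⟨k, hk⟩ := sqrt_of_odd hodd
  have h5 : a = (a * a) ^ k := by
    conv_lhs => rw [← hk]
    rw [← pow_add, ← pow_two, ← pow_mul]; congr 1; omega
  rw [h5]
  exact pow_mem (QX_le_QQ _ _ h1) _

section Comm

variable (S : Sylow 2 G) (D : Dat Om F K X) (hS : Set.range K = OmS Om (S : Subgroup G))

include D hS

/-- Members are equal or commute if one centralises the involution of the other. -/
theorem eq_or_comm {J L : Subgroup G} (hJ : J ∈ Om) (hL : L ∈ Om) (h : ∀ x ∈ J, x * zz L = zz L * x) :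
    J = L ∨ ∀ x ∈ J, ∀ y ∈ L, x * y = y * x := by
  obtain ⟨P, hP⟩ := Hyp.exists_syl J
  obtain ⟨T, hT, hle⟩ := exists_syl_ge (P := P) (C := Subgroup.centralizer {zz L}) hP.2.1 (fun x hx =>
    Subgroup.mem_centralizer_singleton_iff.2 (h x (hP.1 hx)))
  have hJ' : J ∈ OmS Om T := mem_OmS_of_le hJ hP hle
  have hL' : L ∈ OmS Om T := D.hyp.mem_OmS_of_syl hL hT
  obtain ⟨g, hg⟩ := exists_le_cj S hT.2.1
  have h1 := OmS_mono (Om := Om) hg hJ'
  have h2 := OmS_mono (Om := Om) hg hL'
  rw [OmS_cj D.hyp.conj, ← hS] at h1 h2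
  obtain ⟨-, ⟨a, rfl⟩, rfl⟩ := h1
  obtain ⟨-, ⟨b, rfl⟩, rfl⟩ := h2
  by_cases hab : a = b
  · exact Or.inl (by rw [hab])
  · right
    rintro _ ⟨x, hx, rfl⟩ _ ⟨y, hy, rfl⟩
    have h3 := D.comm a b hab x hx y hy
    simp only [MulEquiv.coe_toMonoidHom, MulAut.conj_apply]
    calc g * x * g⁻¹ * (g * y * g⁻¹) = g * (x * y) * g⁻¹ := by group
      _ = g * (y * x) * g⁻¹ := by rw [h3]
      _ = g * y * g⁻¹ * (g * x * g⁻¹) := by group

end Comm

/-- A group with a chart of rank at least two containing a member `J` of `Om` does not centralise `zz J`. -/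
theorem not_le_of_comm {L : Subgroup G} (c : Chart Om p L) (hnt : Nontrivial c.I) (hyp : Hyp Om) {J : Subgroup G}
    (hJ : J ∈ Om) (hc : ∀ a ∈ L, a * zz J = zz J * a) : ¬ J ≤ L := by
  intro hKL
  obtain ⟨r, hr, g, hg, h1⟩ := c.om_conj J hJ hKL
  have hrr := c.cls.root r hr
  obtain ⟨y, hy, h3, h4, h5⟩ := FrameOfFr.exists_not_orth c hnt hrr
  have hz : c.z r ≠ 1 := Nodes.StdConn.z_ne_one c.cls c.prime c.odd hr hy h3 h4 h5
  have h6 : zz J = g * c.z r * g⁻¹ := by
    symm
    refine hyp.eq_zz hJ ?_ ?_ ?_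
    · rw [h1]; exact conj_mem_cj (c.cls.z_mem r hr)
    · have := c.cls.z_sq r hr
      calc g * c.z r * g⁻¹ * (g * c.z r * g⁻¹) = g * (c.z r * c.z r) * g⁻¹ := by group
        _ = 1 := by rw [this]; group
    · intro h0
      exact hz (conj_eq_one_iff.1 h0)
  have h7 : ∀ a ∈ L, a * c.z r = c.z r * a := by
    intro a ha
    have h8 := hc (g * a * g⁻¹) (mul_mem (mul_mem hg ha) (inv_mem hg))
    rw [h6] at h8
    calc a * c.z r = g⁻¹ * (g * a * g⁻¹ * (g * c.z r * g⁻¹)) * g := by group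
      _ = g⁻¹ * (g * c.z r * g⁻¹ * (g * a * g⁻¹)) * g := by rw [h8]
      _ = c.z r * a := by group
  apply Nodes.StdConn.X_ne_bot c.cls hy
  rw [Subgroup.eq_bot_iff_forall]
  intro a ha
  apply Nodes.ZRel.eq_one_of_inv c.cls c.prime c.odd hy ha
  have h8 := c.cls.z_inv r hr y hy h3 h4 h5 a ha
  rw [← h7 a (FrameOf.X_le c hy ha), mul_assoc, c.cls.z_sq r hr, mul_one] at h8
  exact h8

/-- `C(z_c)` normalises `K c`. -/
theorem cj_eq_of_comm (D : Dat Om F K X) (S : Sylow 2 G)
    (hS : Set.range K = OmS Om (S : Subgroup G)) {c : ι} (ch : Chart Om p (delta Om (K c))) (hnt : Nontrivial ch.I)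
    {x : G} (hx : x * zz (K c) = zz (K c) * x) : cj x (K c) = K c := by
  have hJ : cj x (K c) ∈ Om := D.hyp.conj _ (D.mem c) x
  have hzJ : zz (cj x (K c)) = zz (K c) := by
    rw [← FrameClose.zz_cj D.hyp (D.mem c), hx, mul_assoc, mul_inv_cancel, mul_one]
  have h1 : ∀ a ∈ cj x (K c), a * zz (K c) = zz (K c) * a := by
    intro a ha
    rw [← hzJ]
    exact D.hyp.comm_zz hJ (Subgroup.le_normalizer ha)
  rcases eq_or_comm S D hS hJ (D.mem c) h1 with h2 | h2
  · exact h2
  · by_contra hne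
    have h3 : cj x (K c) ≤ delta Om (K c) := le_delta hJ hne h2
    refine not_le_of_comm ch hnt D.hyp hJ (fun a ha => ?_) h3
    rw [hzJ]
    exact delta_comm a ha _ (D.hyp.zz_mem (D.mem c))

/-- `K l` is not contained in `Δ_l`. -/
theorem not_le_delta (D : Dat Om F K X) (l : ι) : ¬ K l ≤ delta Om (K l) := by
  intro h
  have h1 : ∀ a ∈ X l 1, a = 1 := fun a ha => D.X_center l one_ne_zero ha fun b hb =>
    delta_comm a (h (D.X_le l one_ne_zero ha)) b hb
  have h2 : X l 1 = ⊥ := (Subgroup.eq_bot_iff_forall _).2 h1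
  have h3 := D.card_X l (s := 1) one_ne_zero
  rw [h2, Subgroup.card_bot] at h3
  exact (Fintype.one_lt_card (α := F)).ne h3

variable [CharP F p]

/-- The environment. -/
theorem env_of (D : Dat Om F K X) (hF : Odd (Fintype.card F)) (hg : ∀ i, Good p (X i 1) (zz (K i))) (S : Sylow 2 G)
    (hS : Set.range K = OmS Om (S : Subgroup G))
    (ch : ∀ l, ∃ c : Chart Om p (delta Om (K l)), Nontrivial c.I) :
    Env K (fun i => zz (K i)) X (QF K X) (fun l => delta Om (K l)) p where
  F := frame_of D hF hg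
  Kle i j hij := le_delta (D.mem i) (fun h => hij (Dat.injective D h)) (D.comm i j hij)
  cent j a ha := by
    rw [Subgroup.mem_centralizer_iff]
    exact fun b hb => (delta_comm a ha b hb).symm
  norm c a s hac hs x hx _ := by
    obtain ⟨c', hc'⟩ := ch c
    rw [mem_normalizer_iff_cj, cj_delta D.hyp.conj, cj_eq_of_comm D S hS c' hc' hx]
  inv_mem i s hs x hx hinv hodd := mem_QF D hF i hs hx hinv hodd
  pg i s hs := by
    rw [QF_of_ne K X i hs]
    exact (D.good hF (hg i) hs).pg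

/-- The standard adapted chart of `Δ_l`. -/
theorem ach_of [Finite ι] (D : Dat Om F K X) (hF : Odd (Fintype.card F)) (hg : ∀ i, Good p (X i 1) (zz (K i)))
    {ν : ℕ} (hν : 2 ≤ ν) (hι : ∀ l : ι, ∃ i, i ≠ l) {l : ι} (c : Chart Om p (delta Om (K l)))
    (hc : c.IsTy (Ty.A ν)) :
    Nonempty (ACh Om K X (QF K X) {i | i ≠ l} (delta Om (K l)) p ν) := by
  have hnt : Nontrivial c.I := Fintype.one_lt_card_iff_nontrivial.1 (by
    rw [hc.card]; exact lt_of_lt_of_le one_lt_two hν)
  have hset : {i | K i ≤ delta Om (K l)} = {i | i ≠ l} := by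
    ext i
    constructor
    · rintro h rfl
      exact not_le_delta D i h
    · intro h
      exact le_delta (D.mem i) (fun h1 => h (Dat.injective D h1)) (D.comm i l h)
  have hL : delta Om (K l) ∉ Om := by
    intro hmem
    obtain ⟨i, hi⟩ := hι l
    have hle : K i ≤ delta Om (K l) := le_delta (D.mem i) (fun h1 => hi (Dat.injective D h1)) (D.comm i l hi)
    refine not_le_of_comm c hnt D.hyp (D.mem i) (fun a ha => ?_) hle
    have h1 := D.hyp.uniq _ hmem _ (hle (D.hyp.zz_mem (D.mem i))) (D.hyp.orderOf_zz (D.mem i))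
    rw [h1]
    exact D.hyp.comm_zz hmem (Subgroup.le_normalizer ha)
  have h := exists_ach c hc hν hL D hF hg (fun i hi a ha b hb => by
    have hil : i = l := by
      by_contra hne
      exact hi (le_delta (D.mem i) (fun h1 => hne (Dat.injective D h1)) (D.comm i l hne))
    rw [hil] at hb
    exact delta_comm a ha b hb)
  rwa [hset] at h

end Cfsg.Agent.Cit.TypeAEnv
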