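import Mathlib
import Cfsg.Agent.Cit.TypeAPair
import Cfsg.Agent.Nodes.CommA

/-!
# Type `A_n` identification (CIT3), `n ≥ 5`

The chart of `Δ₁` (type `A_ν`, `ν ≥ 3`, nodes `a₃, …`) is extended by the nodes `a₁ = g₁` and `a₂`.

* `dichotomy` : in a root group datum of type `A` with distinct indices `i j k l`, an involution `u` normalising
  `M = X_jk ⊔ X_li`, centralising `X_ij` and inverting `X_lk` centralises one of `X_jk`, `X_li` and inverts the other;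
* `exists_centralised` : a `u` of this kind centralises `⟨X_jk, X_kj⟩` or `⟨X_li, X_il⟩`;
* `Inp`, `Inp.exists_node`, `Inp.main` : the new node and the pairs of all nodes of type `A_{ν+2}`.
-/

set_option autoImplicit false
set_option linter.unusedSectionVars false

namespace Cfsg.Agent.Cit.TypeA

open CoxeterSystem Cfsg.Agent.ChevalleyStructure.CoxeterGeom Cfsg.Agent.Tits.Roots Cfsg.Agent.Tits.Core
  Cfsg.Agent.Tits.RootComb Cfsg.Agent.Nodes.Comb Cfsg.Agent.Nodes.Reps Cfsg.Agent.Nodes.BNOf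
  Cfsg.Agent.Nodes.RootsA Cfsg.Agent.Nodes.Coroot Cfsg.Agent.Nodes.PairOf Cfsg.Agent.Nodes.OppDec
  Cfsg.Agent.Nodes Cfsg.Agent.RootAmalgam Cfsg.Agent.Cit.TypeAPair
open Cfsg.Agent.LieRecognition.BNCox (cA cA_apply)
open scoped commutatorElement

section

variable {n : ℕ} {W : Type*} [Group W] {cs : CoxeterSystem (cA n) W} {A : Fin n → Fin n → ℤ}
  {h : IsCartan (cA n) A} {Y : Type*} [Group Y] {p : ℕ} {T : Subgroup Y} {t : Fin n → Y}
  {X : (Fin n → ℤ) → Subgroup Y} (R : RGD cs h p T t X)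

include R

theorem eq_one_of_two_pow [Fact p.Prime] (hp2 : p ≠ 2) {x : Fin n → ℤ} (hx : IsRoot cs h x) {a : Y} (ha : a ∈ X x)
    {j : ℕ} (hj : a ^ 2 ^ j = 1) : a = 1 := by
  have : Finite W := finite_W cs h
  obtain ⟨k, hk⟩ := (R.pgrp' hx) ⟨a, ha⟩
  have hk' : a ^ p ^ k = 1 := by simpa [Subtype.ext_iff] using hk
  have hp := (Fact.out : p.Prime)
  have h1 : (p ^ k).Coprime (2 ^ j) :=
    Nat.Coprime.pow _ _ ((Nat.coprime_primes hp Nat.prime_two).2 hp2)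
  have h2 : orderOf a ∣ 1 := by
    rw [← h1.gcd_eq_one]
    exact Nat.dvd_gcd (orderOf_dvd_of_pow_eq_one hk') (orderOf_dvd_of_pow_eq_one hj)
  exact orderOf_eq_one_iff.1 (Nat.dvd_one.1 h2)

/-- The computation: products `a b` centralised or inverted by `u` are trivial. -/
theorem key_dich [Fact p.Prime] (hp2 : p ≠ 2) {i j k l : Fin (n + 1)} (hij : i ≠ j) (hik : i ≠ k) (hil : i ≠ l)
    (hjk : j ≠ k) (hjl : j ≠ l) (hkl : k ≠ l) {u : Y} (hu : ∀ x ∈ X (rtA i j), u * x = x * u)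
    (hu' : ∀ x ∈ X (rtA l k), u * x * u⁻¹ = x⁻¹) {a b : Y} (ha : a ∈ X (rtA j k)) (hb : b ∈ X (rtA l i))
    (hab : u * (a * b) * u⁻¹ = a * b ∨ u * (a * b) * u⁻¹ = (a * b)⁻¹) : a = 1 ∨ b = 1 := by
  by_contra hcon
  push Not at hcon
  obtain ⟨ha1, hb1⟩ := hcon
  apply hb1
  refine CommA.eq_one_of_comm' R hil.symm hik hkl.symm hb fun y hy => ?_
  obtain ⟨x, hx, hxy⟩ := CommA.nd R hij hjk hik ha ha1 (inv_mem hy)
  have hy' : ⁅x, a⁆ = y := by rw [← commutatorElement_inv, hxy, inv_inv]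
  -- `x ∈ X_ij`, `y = [x, a] ∈ X_ik`, `w = [x, b] ∈ X_lj`
  have hw : ⁅x, b⁆ ∈ X (rtA l j) := CommA.comm_mem' R hil.symm hij hjl.symm hb hx
  have hφ : ⁅a, ⁅x, b⁆⁆ ∈ X (rtA l k) := CommA.comm_mem' R hjl.symm hjk hkl.symm hw ha
  have hψ : ⁅b, y⁆ ∈ X (rtA l k) := CommA.comm_mem R hil.symm hik hkl.symm hb hy
  have h1 : ⁅b, y⁆ = 1 := by
    refine eq_one_of_comp (a := a) (b := b) (k := x) (y := y) (w := ⁅x, b⁆) (φ := ⁅a, ⁅x, b⁆⁆) (ψ := ⁅b, y⁆)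
      (u := u) ?_ ?_ ?_ ?_ ?_ ?_ ?_ ?_ ?_ ?_ ?_ ?_ ?_ ?_ ?_ ?_ hab
    · exact CommA.comm_disj R hjk hil.symm hkl hij.symm (fun e => hjl e.1) ha hb
    · rw [← hy', commutatorElement_def]; group
    · rw [commutatorElement_def]; group
    · exact CommA.comm_disj R hjk hik hik.symm hjk (fun e => hij e.1.symm) ha hy
    · exact CommA.comm_disj R hil.symm hjl.symm hil hjl.symm (fun e => hij e.2) hb hw
    · exact CommA.comm_disj R hik hjl.symm hkl hij (fun e => hil e.1) hy hw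
    · rw [commutatorElement_def a]; group
    · rw [commutatorElement_def b]; group
    · exact CommA.comm_disj R hkl.symm hjk hjk.symm hkl.symm (fun e => hjl e.1.symm) hφ ha
    · exact CommA.comm_disj R hkl.symm hil.symm hkl hil.symm (fun e => hik e.2.symm) hφ hb
    · exact CommA.comm_disj R hkl.symm hik hik.symm hkl.symm (fun e => hil e.1.symm) hφ hy
    · exact CommA.comm_disj R hkl.symm hjl.symm hkl hjl.symm (fun e => hjk e.2.symm) hφ hw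
    · exact CommA.comm_disj R hkl.symm hjl.symm hkl hjl.symm (fun e => hjk e.2.symm) hψ hw
    · exact hu x hx
    · exact hu' _ hφ
    · exact fun m hm => eq_one_of_two_pow R hp2 (isRoot_rtA cs h hkl.symm) hφ hm
  rwa [commutatorElement_def, mul_inv_eq_one, mul_inv_eq_iff_eq_mul] at h1

/-- `M = X_jk ⊔ X_li` is an abelian `p`-group. -/
theorem comm_M {i j k l : Fin (n + 1)} (hij : i ≠ j) (hik : i ≠ k) (hil : i ≠ l)
    (hjk : j ≠ k) (hjl : j ≠ l) (hkl : k ≠ l) : ∀ x ∈ X (rtA j k) ⊔ X (rtA l i), ∀ y ∈ X (rtA j k) ⊔ X (rtA l i),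
      x * y = y * x := by
  have h1 : ∀ a ∈ X (rtA j k), ∀ b ∈ X (rtA l i), a * b = b * a := fun a ha b hb =>
    CommA.comm_disj R hjk hil.symm hkl hij.symm (fun e => hjl e.1) ha hb
  have h2 : ∀ a ∈ X (rtA j k), ∀ b ∈ X (rtA j k), a * b = b * a := fun a ha b hb =>
    CommA.comm_self R hjk hij.symm hik.symm ha hb
  have h3 : ∀ a ∈ X (rtA l i), ∀ b ∈ X (rtA l i), a * b = b * a := fun a ha b hb =>
    CommA.comm_self R hil.symm hjl.symm hij ha hb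
  intro x hx y hy
  obtain ⟨a, ha, b, hb, rfl⟩ := exists_mul_of_mem_sup h1 hx
  obtain ⟨c, hc, d, hd, rfl⟩ := exists_mul_of_mem_sup h1 hy
  have c1 : Commute a c := h2 a ha c hc
  have c2 : Commute a d := h1 a ha d hd
  have c3 : Commute b c := (h1 c hc b hb).symm
  have c4 : Commute b d := h3 b hb d hd
  exact (c1.mul_right c2).mul_left (c3.mul_right c4)

theorem exists_sqrt_M [Fact p.Prime] (hp2 : p ≠ 2) {i j k l : Fin (n + 1)} (hij : i ≠ j) (hik : i ≠ k) (hil : i ≠ l)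
    (hjk : j ≠ k) (hjl : j ≠ l) (hkl : k ≠ l) : ∀ x ∈ X (rtA j k) ⊔ X (rtA l i), ∃ y ∈ X (rtA j k) ⊔ X (rtA l i),
      x = y * y := by
  have : Finite W := finite_W cs h
  have h1 : ∀ a ∈ X (rtA j k), ∀ b ∈ X (rtA l i), a * b = b * a := fun a ha b hb =>
    CommA.comm_disj R hjk hil.symm hkl hij.symm (fun e => hjl e.1) ha hb
  intro x hx
  obtain ⟨a, ha, b, hb, rfl⟩ := exists_mul_of_mem_sup h1 hx
  obtain ⟨m, hm⟩ := (R.pgrp' (isRoot_rtA cs h hjk)) ⟨a, ha⟩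
  obtain ⟨m', hm'⟩ := (R.pgrp' (isRoot_rtA cs h hil.symm)) ⟨b, hb⟩
  have hm1 : a ^ p ^ m = 1 := by simpa [Subtype.ext_iff] using hm
  have hm2 : b ^ p ^ m' = 1 := by simpa [Subtype.ext_iff] using hm'
  have hp : Odd p := (Fact.out : p.Prime).odd_of_ne_two hp2
  have hodd : Odd (p ^ (m + m')) := hp.pow
  have hc : Commute a b := h1 a ha b hb
  have hm3 : (a * b) ^ p ^ (m + m') = 1 := by
    rw [hc.mul_pow, pow_add, pow_mul, hm1, one_pow, one_mul, mul_comm, pow_mul, hm2, one_pow]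
  obtain ⟨q, hq⟩ := hodd
  rw [hq] at hm3
  refine ⟨(a * b) ^ (q + 1), pow_mem hx _, ?_⟩
  rw [← pow_add]
  have e : q + 1 + (q + 1) = (2 * q + 1) + 1 := by ring
  rw [e, pow_succ, hm3, one_mul]

/-- The dichotomy. -/
theorem dichotomy [Fact p.Prime] (hp2 : p ≠ 2) {i j k l : Fin (n + 1)} (hij : i ≠ j) (hik : i ≠ k) (hil : i ≠ l)
    (hjk : j ≠ k) (hjl : j ≠ l) (hkl : k ≠ l) {u : Y} (huu : u * u = 1) (hu : ∀ x ∈ X (rtA i j), u * x = x * u)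
    (hu' : ∀ x ∈ X (rtA l k), u * x * u⁻¹ = x⁻¹)
    (hn : ∀ x ∈ X (rtA j k) ⊔ X (rtA l i), u * x * u⁻¹ ∈ X (rtA j k) ⊔ X (rtA l i)) :
    ((∀ a ∈ X (rtA j k), u * a * u⁻¹ = a) ∧ (∀ b ∈ X (rtA l i), u * b * u⁻¹ = b⁻¹)) ∨
      ((∀ a ∈ X (rtA j k), u * a * u⁻¹ = a⁻¹) ∧ (∀ b ∈ X (rtA l i), u * b * u⁻¹ = b)) := by
  have : Finite W := finite_W cs h
  exact inv_dichotomy (comm_M R hij hik hil hjk hjl hkl)
    (X_inf_X R (isRoot_rtA cs h hjk) (isRoot_rtA cs h hil.symm) (fun e => hjl (rtA_inj hjk e).1))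
    (Bruhat.X_ne_bot R (isRoot_rtA cs h hjk)) (Bruhat.X_ne_bot R (isRoot_rtA cs h hil.symm))
    (exists_sqrt_M R hp2 hij hik hil hjk hjl hkl) huu hn
    fun a ha b hb hab => key_dich R hp2 hij hik hil hjk hjl hkl hu hu' ha hb hab

theorem exists_onto [Finite W] {x : Fin n → ℤ} (hx : IsRoot cs h x) : ∀ a ∈ X (-x), a ≠ 1 →
    ∃ u ∈ X x, ∃ v ∈ X x, Onto (u * a * v) (X x) (X (-x)) ∧ Onto (u * a * v) (X (-x)) (X x) := by
  intro a ha ha1
  obtain ⟨u, hu, v, hv, hmap⟩ := exists_mu R hx ha ha1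
  have h1 := hmap x hx
  have h2 := hmap (-x) hx.neg
  rw [cpr_self cs h hx] at h1
  rw [cpr_neg cs h x hx, cpr_self cs h hx] at h2
  have e1 : x - (2 : ℤ) • x = -x := by module
  have e2 : -x - (-2 : ℤ) • x = x := by module
  rw [e1] at h1
  rw [e2] at h2
  exact ⟨u, hu, v, hv, fun z => mem_iff_of_cj h1 z, fun z => mem_iff_of_cj h2 z⟩

theorem not_inverts [Fact p.Prime] (hp2 : p ≠ 2) {a b : Fin (n + 1)} (hab : a ≠ b) {u : Y}
    (hu : ∀ x ∈ X (rtA a b), u * x * u⁻¹ = x) (hu' : ∀ x ∈ X (rtA b a), u * x * u⁻¹ = x⁻¹) : False := by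
  have : Finite W := finite_W cs h
  have hr := isRoot_rtA cs h hab
  have h1 := exists_onto R hr
  rw [rtA_neg] at h1
  refine not_inverts_opposite h1 ?_ (Bruhat.X_ne_bot R (isRoot_rtA cs h hab.symm)) ?_ hu hu'
  · intro e
    exact hab (rtA_inj hab (X_injective R hr (isRoot_rtA cs h hab.symm) e)).1
  · intro x hx
    obtain ⟨m, hm⟩ := (R.pgrp' (isRoot_rtA cs h hab.symm)) ⟨x, hx⟩
    have hm1 : x ^ p ^ m = 1 := by simpa [Subtype.ext_iff] using hm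
    have hp : Odd p := (Fact.out : p.Prime).odd_of_ne_two hp2
    obtain ⟨q, hq⟩ : Odd (p ^ m) := hp.pow
    exact ⟨q, by rw [← hq]; exact hm1⟩

/-- `u` centralises `⟨X_jk, X_kj⟩` or `⟨X_li, X_il⟩`. -/
theorem exists_centralised [Fact p.Prime] (hp2 : p ≠ 2) {i j k l : Fin (n + 1)} (hij : i ≠ j) (hik : i ≠ k)
    (hil : i ≠ l) (hjk : j ≠ k) (hjl : j ≠ l) (hkl : k ≠ l) {u : Y} (huu : u * u = 1)
    (hu1 : ∀ x ∈ X (rtA i j), u * x = x * u) (hu2 : ∀ x ∈ X (rtA j i), u * x = x * u)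
    (hu3 : ∀ x ∈ X (rtA l k), u * x * u⁻¹ = x⁻¹) (hu4 : ∀ x ∈ X (rtA k l), u * x * u⁻¹ = x⁻¹)
    (hn : ∀ x ∈ X (rtA j k) ⊔ X (rtA l i), u * x * u⁻¹ ∈ X (rtA j k) ⊔ X (rtA l i))
    (hn' : ∀ x ∈ X (rtA k j) ⊔ X (rtA i l), u * x * u⁻¹ ∈ X (rtA k j) ⊔ X (rtA i l)) :
    ((∀ a ∈ X (rtA j k), u * a * u⁻¹ = a) ∧ (∀ a ∈ X (rtA k j), u * a * u⁻¹ = a)) ∨
      ((∀ a ∈ X (rtA l i), u * a * u⁻¹ = a) ∧ (∀ a ∈ X (rtA i l), u * a * u⁻¹ = a)) := by
  rw [sup_comm] at hn'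
  have h1 := dichotomy R hp2 hij hik hil hjk hjl hkl huu hu1 hu3 hn
  have h2 := dichotomy R hp2 hij.symm hjl hjk hil hik hkl.symm huu hu2 hu4 hn'
  rcases h1 with ⟨h1, h1'⟩ | ⟨h1, h1'⟩ <;> rcases h2 with ⟨h2, h2'⟩ | ⟨h2, h2'⟩
  · exact (not_inverts R hp2 hjk h1 h2').elim
  · exact Or.inl ⟨h1, h2'⟩
  · exact Or.inr ⟨h1', h2⟩
  · exact (not_inverts R hp2 hil.symm h1' h2).elim

end

/-! ### Moving along an `A₂` pair -/

section

variable {Y : Type*} [Group Y]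

theorem comm_sup {A B M : Subgroup Y} (hA : ∀ a ∈ A, ∀ m ∈ M, a * m = m * a) (hB : ∀ b ∈ B, ∀ m ∈ M, b * m = m * b) :
    ∀ x ∈ A ⊔ B, ∀ m ∈ M, x * m = m * x := by
  intro x hx m hm
  have h1 : A ⊔ B ≤ Subgroup.centralizer {m} := by
    refine sup_le (fun a ha => ?_) fun b hb => ?_
    · rw [Subgroup.mem_centralizer_singleton_iff]; exact hA a ha m hm
    · rw [Subgroup.mem_centralizer_singleton_iff]; exact hB b hb m hm
  have := h1 hx
  rwa [Subgroup.mem_centralizer_singleton_iff] at this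

theorem comm_symm {A B : Subgroup Y} (hA : ∀ a ∈ A, ∀ b ∈ B, a * b = b * a) : ∀ b ∈ B, ∀ a ∈ A, b * a = a * b :=
  fun b hb a ha => (hA a ha b hb).symm

/-- In a pair of type `A₂` whose two nodes normalise `M`: if the first node centralises `M`, so does the second. -/
theorem comm_of_move {X Xn X' Xn' M : Subgroup Y} {Z : ℤ → Subgroup Y} (P : PairData 3 X Xn X' Xn' Z)
    (hne : Xn ≠ ⊥) (hne' : Xn' ≠ ⊥) (hc : ∀ a ∈ X ⊔ Xn, ∀ m ∈ M, a * m = m * a)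
    (hn : ∀ a ∈ X' ⊔ Xn', ∀ m ∈ M, a * m * a⁻¹ ∈ M) : ∀ b ∈ X' ⊔ Xn', ∀ m ∈ M, b * m = m * b := by
  obtain ⟨g, hg, h1, h2⟩ := exists_move P hne hne'
  have hgn : g ∈ Subgroup.normalizer (M : Set Y) := by
    have h3 : (X ⊔ Xn) ⊔ (X' ⊔ Xn') ≤ Subgroup.normalizer (M : Set Y) := by
      have key : ∀ S : Subgroup Y, (∀ a ∈ S, ∀ m ∈ M, a * m * a⁻¹ ∈ M) → S ≤ Subgroup.normalizer (M : Set Y) := by
        intro S hS a ha
        rw [Subgroup.mem_normalizer_iff]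
        intro m
        refine ⟨fun hm => hS a ha m hm, fun hm => ?_⟩
        have := hS a⁻¹ (inv_mem ha) _ hm
        have e : a⁻¹ * (a * m * a⁻¹) * a⁻¹⁻¹ = m := by group
        rwa [e] at this
      refine sup_le (key _ fun a ha m hm => ?_) (key _ hn)
      rw [hc a ha m hm, mul_inv_cancel_right]
      exact hm
    exact h3 hg
  have key : ∀ b : Y, g * b * g⁻¹ ∈ X ⊔ Xn → ∀ m ∈ M, b * m = m * b := by
    intro b hb m hm
    have h3 := hc _ hb _ ((Subgroup.mem_normalizer_iff.1 hgn m).1 hm)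
    have e1 : g * b * g⁻¹ * (g * m * g⁻¹) = g * (b * m) * g⁻¹ := by group
    have e2 : g * m * g⁻¹ * (g * b * g⁻¹) = g * (m * b) * g⁻¹ := by group
    rw [e1, e2] at h3
    exact mul_left_cancel (mul_right_cancel h3)
  exact comm_sup (fun b hb => key b (le_sup_left (a := X) (h1.mem hb))) fun b hb =>
    key b (le_sup_right (a := X) (h2.mem hb))

end

/-! ### The main theorem -/

section

variable {n : ℕ} {W : Type*} [Group W] {cs : CoxeterSystem (cA n) W} {A : Fin n → Fin n → ℤ}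
  {h : IsCartan (cA n) A} {Y : Type*} [Group Y] {p : ℕ} {T : Subgroup Y} {t : Fin n → Y}
  {X : (Fin n → ℤ) → Subgroup Y}

theorem A_three {ν : ℕ} {i j : Fin ν} (hij : i.val + 1 = j.val) : CoxeterMatrix.A ν i j = 3 := by
  have h1 : i ≠ j := fun e => by rw [e] at hij; omega
  change (if i = j then 1 else (if (j : ℕ) + 1 = i ∨ (i : ℕ) + 1 = j then 3 else 2)) = 3
  rw [if_neg h1, if_pos (Or.inr hij)]

theorem A_two {ν : ℕ} {i j : Fin ν} (hij : i.val + 2 ≤ j.val) : CoxeterMatrix.A ν i j = 2 := by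
  have h1 : i ≠ j := fun e => by rw [e] at hij; omega
  change (if i = j then 1 else (if (j : ℕ) + 1 = i ∨ (i : ℕ) + 1 = j then 3 else 2)) = 2
  rw [if_neg h1, if_neg (by omega)]

theorem A_succ {ν : ℕ} (i j : Fin ν) : CoxeterMatrix.A (ν + 1) i.succ j.succ = CoxeterMatrix.A ν i j := by
  change (if i.succ = j.succ then 1 else (if (j.succ : ℕ) + 1 = i.succ ∨ (i.succ : ℕ) + 1 = j.succ then 3 else 2)) =
    (if i = j then 1 else (if (j : ℕ) + 1 = i ∨ (i : ℕ) + 1 = j then 3 else 2))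
  simp only [Fin.succ_inj, Fin.val_succ, Nat.add_right_cancel_iff]

/-- Extension of a system of nodes by one node on the left. -/
theorem extend {ν : ℕ} {X1 Xn1 : Fin ν → Subgroup Y}
    (hZ : ∀ i j, i < j → ∃ Z, PairData (CoxeterMatrix.A ν i j) (X1 i) (Xn1 i) (X1 j) (Xn1 j) Z)
    {P Q : Subgroup Y} (h0 : ∀ i : Fin ν, i.val = 0 → ∃ Z, PairData 3 P Q (X1 i) (Xn1 i) Z)
    (h1 : ∀ i : Fin ν, 1 ≤ i.val → ∃ Z, PairData 2 P Q (X1 i) (Xn1 i) Z) :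
    ∀ i j : Fin (ν + 1), i < j → ∃ Z, PairData (CoxeterMatrix.A (ν + 1) i j)
      ((Fin.cons P X1 : Fin (ν + 1) → Subgroup Y) i) ((Fin.cons Q Xn1 : Fin (ν + 1) → Subgroup Y) i)
      ((Fin.cons P X1 : Fin (ν + 1) → Subgroup Y) j) ((Fin.cons Q Xn1 : Fin (ν + 1) → Subgroup Y) j) Z := by
  intro i j hij
  obtain ⟨j, rfl⟩ := Fin.exists_succ_eq.2 (Fin.ne_zero_of_lt hij)
  rcases Fin.eq_zero_or_eq_succ i with rfl | ⟨i, rfl⟩
  · simp only [Fin.cons_zero, Fin.cons_succ]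
    by_cases hj : j.val = 0
    · rw [A_three (by rw [Fin.val_succ, hj]; rfl)]
      exact h0 j hj
    · rw [A_two (by rw [Fin.val_succ]; change 0 + 2 ≤ _; omega)]
      exact h1 j (by omega)
  · simp only [Fin.cons_succ]
    rw [A_succ]
    exact hZ i j (Fin.succ_lt_succ_iff.1 hij)

/-- Opposite root groups of `R` as a pair. -/
theorem pairThree (R : RGD cs h p T t X) {a b c d : Fin (n + 1)} (hab : a ≠ b) (hcd : c ≠ d)
    (h1 : cpr cs h (rtA c d) (rtA a b) = -1) (h2 : cpr cs h (rtA a b) (rtA c d) = -1) :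
    ∃ Z, PairData 3 (X (rtA a b)) (X (rtA b a)) (X (rtA c d)) (X (rtA d c)) Z := by
  have : Finite W := finite_W cs h
  have := pairData_three R (fun i j => ?_) (isRoot_rtA cs h hab) (isRoot_rtA cs h hcd) h1 h2
  · rwa [rtA_neg, rtA_neg] at this
  · rw [RootsA.cA_eq]
    change (if i = j then 1 else (if (j : ℕ) + 1 = i ∨ (i : ℕ) + 1 = j then 3 else 2)) ≠ 6
    split_ifs <;> norm_num

theorem swap_of_rgd (R : RGD cs h p T t X) {a b : Fin (n + 1)} (hab : a ≠ b) : ∀ x ∈ X (rtA b a), x ≠ 1 →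
    ∃ u ∈ X (rtA a b), ∃ v ∈ X (rtA a b), Onto (u * x * v) (X (rtA a b)) (X (rtA b a)) ∧
      Onto (u * x * v) (X (rtA b a)) (X (rtA a b)) := by
  have : Finite W := finite_W cs h
  have h1 := exists_onto R (isRoot_rtA cs h hab)
  rwa [rtA_neg] at h1

theorem exists_swap {ν : ℕ} (hν : 3 ≤ ν) {X1 Xn1 : Fin ν → Subgroup Y}
    (hZ : ∀ i j, i < j → ∃ Z, PairData (CoxeterMatrix.A ν i j) (X1 i) (Xn1 i) (X1 j) (Xn1 j) Z) (k : Fin ν) :
    ∀ a ∈ Xn1 k, a ≠ 1 → ∃ x ∈ X1 k, ∃ y ∈ X1 k, Onto (x * a * y) (X1 k) (Xn1 k) ∧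
      Onto (x * a * y) (Xn1 k) (X1 k) := by
  by_cases hk : k.val = 0
  · obtain ⟨Z, hZ1⟩ := hZ k ⟨1, by omega⟩ (by rw [Fin.lt_def, hk]; norm_num)
    exact swap_of_pair hZ1
  · obtain ⟨Z, hZ1⟩ := hZ ⟨0, by omega⟩ k (by rw [Fin.lt_def]; change 0 < k.val; omega)
    exact swap_of_pair' hZ1

/-- The input of type `A`: the pairs `X1`, `Xn1` of the chart of `Δ₁` (type `A_ν`, `ν ≥ 3`, node `0` is `g₂`,
the even nodes are `g₂, g₃, …`), a root group datum `R` of type `A` containing `g₁ = ε_a - ε_b`, `g₂ = ε_c - ε_d`; the sign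
groups `M⁻ = X_bc X_da` and `M⁺ = X_cb X_ad` are normalised by the elements normalising the two root groups of `g₁`, `g₂`
of this sign, and centralised by the even nodes `≥ 2`. -/
structure Inp (R : RGD cs h p T t X) (a b c d : Fin (n + 1)) {ν : ℕ} (hν : 3 ≤ ν) (X1 Xn1 : Fin ν → Subgroup Y) :
    Prop where
  ab : a ≠ b
  ac : a ≠ c
  ad : a ≠ d
  bc : b ≠ c
  bd : b ≠ d
  cd : c ≠ d
  pairs : ∀ i j, i < j → ∃ Z, PairData (CoxeterMatrix.A ν i j) (X1 i) (Xn1 i) (X1 j) (Xn1 j) Z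
  ne_bot : ∀ i, Xn1 i ≠ ⊥
  e0 : X1 ⟨0, by omega⟩ = X (rtA c d)
  e0' : Xn1 ⟨0, by omega⟩ = X (rtA d c)
  h0 : ∀ k : Fin ν, ∀ x ∈ X1 k ⊔ Xn1 k, ∀ y ∈ X (rtA a b) ⊔ X (rtA b a), x * y = y * x
  hM : ∀ g, Onto g (X (rtA b a)) (X (rtA b a)) → Onto g (X (rtA d c)) (X (rtA d c)) →
    ∀ m ∈ X (rtA b c) ⊔ X (rtA d a), g * m * g⁻¹ ∈ X (rtA b c) ⊔ X (rtA d a)
  hM' : ∀ g, Onto g (X (rtA a b)) (X (rtA a b)) → Onto g (X (rtA c d)) (X (rtA c d)) →
    ∀ m ∈ X (rtA c b) ⊔ X (rtA a d), g * m * g⁻¹ ∈ X (rtA c b) ⊔ X (rtA a d)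
  heven : ∀ k : Fin ν, 2 ≤ k.val → k.val % 2 = 0 → ∀ x ∈ X1 k ⊔ Xn1 k,
    ∀ y ∈ (X (rtA b c) ⊔ X (rtA d a)) ⊔ (X (rtA c b) ⊔ X (rtA a d)), x * y = y * x

/-- The new node `a₂ = P`, `Q` (opposite): the pairs with the nodes of the chart of `Δ₁`. -/
theorem Inp.node_two [Fact p.Prime] {R : RGD cs h p T t X} {a b c d : Fin (n + 1)} {ν : ℕ} {hν : 3 ≤ ν}
    {X1 Xn1 : Fin ν → Subgroup Y} (S : Inp R a b c d hν X1 Xn1)
    {e f : Fin (n + 1)} (hef : e ≠ f) (hP : X (rtA e f) ≤ X (rtA b c) ⊔ X (rtA d a))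
    (hQ : X (rtA f e) ≤ X (rtA c b) ⊔ X (rtA a d)) (h1 : cpr cs h (rtA c d) (rtA e f) = -1)
    (h2 : cpr cs h (rtA e f) (rtA c d) = -1)
    (hc : ∀ x ∈ X (rtA e f) ⊔ X (rtA f e), ∀ y ∈ X1 ⟨1, by omega⟩ ⊔ Xn1 ⟨1, by omega⟩, x * y = y * x) :
    (∀ i : Fin ν, i.val = 0 → ∃ Z, PairData 3 (X (rtA e f)) (X (rtA f e)) (X1 i) (Xn1 i) Z) ∧
      ∀ i : Fin ν, 1 ≤ i.val → ∀ x ∈ X (rtA e f) ⊔ X (rtA f e), ∀ y ∈ X1 i ⊔ Xn1 i, x * y = y * x := by
  have hZ := S.pairs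
  constructor
  · intro i hi
    have ei : i = ⟨0, by omega⟩ := Fin.ext hi
    rw [ei, S.e0, S.e0']
    exact pairThree R hef S.cd h1 h2
  · intro i hi
    by_cases hi1 : i.val = 1
    · have ei : i = ⟨1, by omega⟩ := Fin.ext hi1
      rw [ei]
      exact hc
    -- `2 ≤ i`: the node `i` centralises `M⁻` and `M⁺`
    have key : ∀ y ∈ X1 i ⊔ Xn1 i, ∀ m ∈ (X (rtA b c) ⊔ X (rtA d a)) ⊔ (X (rtA c b) ⊔ X (rtA a d)), y * m = m * y := by
      rcases Nat.mod_two_eq_zero_or_one i.val with h3 | h3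
      · exact S.heven i (by omega) h3
      · -- odd `i`, `3 ≤ i`
        have hi3 : 3 ≤ i.val := by omega
        have hil := i.2
        obtain ⟨Z, hZ1⟩ := hZ ⟨i.val - 1, by omega⟩ i (by rw [Fin.lt_def]; change i.val - 1 < i.val; omega)
        rw [A_three (by change i.val - 1 + 1 = i.val; omega)] at hZ1
        obtain ⟨Z', hZ2⟩ := hZ ⟨0, by omega⟩ i (by rw [Fin.lt_def]; change 0 < i.val; omega)
        rw [A_two (by change 0 + 2 ≤ i.val; omega), S.e0, S.e0'] at hZ2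
        have h4 := commute_of_pairTwo hZ2
        have h5 := S.heven ⟨i.val - 1, by omega⟩ (by change 2 ≤ i.val - 1; omega) (by change (i.val - 1) % 2 = 0; omega)
        have h6 : ∀ y ∈ X1 i ⊔ Xn1 i, ∀ m ∈ X (rtA b c) ⊔ X (rtA d a), y * m = m * y := by
          refine comm_of_move hZ1 (S.ne_bot _) (S.ne_bot _)
            (fun x hx m hm => h5 x hx m (le_sup_left (a := X (rtA b c) ⊔ X (rtA d a)) hm)) ?_
          intro y hy m hm
          refine S.hM y (onto_of_comm fun x hx => S.h0 i y hy x (le_sup_right (a := X (rtA a b)) hx))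
            (onto_of_comm fun x hx => (h4 x (le_sup_right (a := X (rtA c d)) hx) y hy).symm) m hm
        have h7 : ∀ y ∈ X1 i ⊔ Xn1 i, ∀ m ∈ X (rtA c b) ⊔ X (rtA a d), y * m = m * y := by
          refine comm_of_move hZ1 (S.ne_bot _) (S.ne_bot _)
            (fun x hx m hm => h5 x hx m (le_sup_right (a := X (rtA b c) ⊔ X (rtA d a)) hm)) ?_
          intro y hy m hm
          refine S.hM' y (onto_of_comm fun x hx => S.h0 i y hy x (le_sup_left (a := X (rtA a b)) hx))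
            (onto_of_comm fun x hx => (h4 x (le_sup_left (a := X (rtA c d)) hx) y hy).symm) m hm
        intro y hy
        have h8 := comm_sup (comm_symm fun d hd m hm => h6 d hd m hm) (comm_symm fun d hd m hm => h7 d hd m hm)
        exact fun m hm => (h8 m hm y hy).symm
    intro x hx y hy
    exact (key y hy x ((sup_le_sup hP hQ) hx)).symm

/-- **Type `A`, main theorem.**  `u` is an involution of node `1` inverting the root groups of `g₂`; the subgroup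
`⟨X_bc, X_cb⟩` (`⟨X_da, X_ad⟩`) commutes with node `1` if `u` centralises it.  Output: a node `P`, `Q` which is adjacent to
`g₁` and node `0` and commutes with the other nodes. -/
theorem Inp.exists_node [Fact p.Prime] (hp2 : p ≠ 2) {R : RGD cs h p T t X} {a b c d : Fin (n + 1)} {ν : ℕ} {hν : 3 ≤ ν}
    {X1 Xn1 : Fin ν → Subgroup Y} (S : Inp R a b c d hν X1 Xn1)
    {u : Y} (huu : u * u = 1) (hu : u ∈ X1 ⟨1, by omega⟩ ⊔ Xn1 ⟨1, by omega⟩)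
    (hinv : ∀ x ∈ X (rtA c d), u * x * u⁻¹ = x⁻¹) (hinv' : ∀ x ∈ X (rtA d c), u * x * u⁻¹ = x⁻¹)
    (hL : (∀ x ∈ X (rtA b c), u * x * u⁻¹ = x) → (∀ x ∈ X (rtA c b), u * x * u⁻¹ = x) →
      ∀ x ∈ X (rtA b c) ⊔ X (rtA c b), ∀ y ∈ X1 ⟨1, by omega⟩ ⊔ Xn1 ⟨1, by omega⟩, x * y = y * x)
    (hL' : (∀ x ∈ X (rtA d a), u * x * u⁻¹ = x) → (∀ x ∈ X (rtA a d), u * x * u⁻¹ = x) →
      ∀ x ∈ X (rtA d a) ⊔ X (rtA a d), ∀ y ∈ X1 ⟨1, by omega⟩ ⊔ Xn1 ⟨1, by omega⟩, x * y = y * x) :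
    ∃ e f : Fin (n + 1), e ≠ f ∧ ((e = b ∧ f = c) ∨ (e = d ∧ f = a)) ∧
      cpr cs h (rtA e f) (rtA a b) = -1 ∧ cpr cs h (rtA a b) (rtA e f) = -1 ∧
      cpr cs h (rtA e f) (rtA c d) = -1 ∧ cpr cs h (rtA c d) (rtA e f) = -1 ∧
      (∀ i : Fin ν, i.val = 0 → ∃ Z, PairData 3 (X (rtA e f)) (X (rtA f e)) (X1 i) (Xn1 i) Z) ∧
      ∀ i : Fin ν, 1 ≤ i.val → ∀ x ∈ X (rtA e f) ⊔ X (rtA f e), ∀ y ∈ X1 i ⊔ Xn1 i, x * y = y * x := by
  have hu1 : ∀ x ∈ X (rtA a b), u * x = x * u := fun x hx => S.h0 _ u hu x (le_sup_left (a := X (rtA a b)) hx)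
  have hu2 : ∀ x ∈ X (rtA b a), u * x = x * u := fun x hx => S.h0 _ u hu x (le_sup_right (a := X (rtA a b)) hx)
  have hon : ∀ {V : Subgroup Y}, (∀ x ∈ V, u * x * u⁻¹ = x⁻¹) → Onto u V V := by
    intro V hV x
    constructor
    · intro hx
      have h2 : u * (u * x * u⁻¹) * u⁻¹ = x := by
        have hui : u⁻¹ = u := inv_eq_of_mul_eq_one_left huu
        rw [hui]
        calc u * (u * x * u) * u = (u * u) * x * (u * u) := by group
          _ = x := by rw [huu]; group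
      rw [← h2, hV _ hx]
      exact inv_mem hx
    · intro hx
      rw [hV x hx]
      exact inv_mem hx
  have hn := S.hM u (onto_of_comm hu2) (hon hinv')
  have hn' := S.hM' u (onto_of_comm hu1) (hon hinv)
  have hdich := exists_centralised R hp2 (i := a) (j := b) (k := c) (l := d) S.ab S.ac S.ad
    S.bc S.bd S.cd huu hu1 hu2 hinv' hinv hn hn'
  have c1 : ∀ a b c d : Fin (n + 1), c ≠ d → cpr cs h (rtA a b) (rtA c d) = (if a = c then 1 else 0) -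
      (if a = d then 1 else 0) - ((if b = c then 1 else 0) - (if b = d then 1 else 0)) :=
    fun a b c d hcd => CommA.cpr_rtA cs h a b hcd
  rcases hdich with ⟨h1, h2⟩ | ⟨h1, h2⟩
  · have q1 : cpr cs h (rtA b c) (rtA a b) = -1 := by
      rw [c1 _ _ _ _ S.ab, if_neg S.ab.symm, if_pos rfl, if_neg S.ac.symm, if_neg S.bc.symm]; norm_num
    have q2 : cpr cs h (rtA a b) (rtA b c) = -1 := by
      rw [c1 _ _ _ _ S.bc, if_neg S.ab, if_neg S.ac, if_pos rfl, if_neg S.bc]; norm_num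
    have q3 : cpr cs h (rtA b c) (rtA c d) = -1 := by
      rw [c1 _ _ _ _ S.cd, if_neg S.bc, if_neg S.bd, if_pos rfl, if_neg S.cd]; norm_num
    have q4 : cpr cs h (rtA c d) (rtA b c) = -1 := by
      rw [c1 _ _ _ _ S.bc, if_neg S.bc.symm, if_pos rfl, if_neg S.bd.symm, if_neg S.cd.symm]; norm_num
    obtain ⟨k1, k2⟩ := S.node_two S.bc le_sup_left le_sup_left q4 q3 (hL h1 h2)
    exact ⟨b, c, S.bc, Or.inl ⟨rfl, rfl⟩, q1, q2, q3, q4, k1, k2⟩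
  · have q1 : cpr cs h (rtA d a) (rtA a b) = -1 := by
      rw [c1 _ _ _ _ S.ab, if_neg S.ad.symm, if_neg S.bd.symm, if_pos rfl, if_neg S.ab]; norm_num
    have q2 : cpr cs h (rtA a b) (rtA d a) = -1 := by
      rw [c1 _ _ _ _ S.ad.symm, if_neg S.ad, if_pos rfl, if_neg S.bd, if_neg S.ab.symm]; norm_num
    have q3 : cpr cs h (rtA d a) (rtA c d) = -1 := by
      rw [c1 _ _ _ _ S.cd, if_neg S.cd.symm, if_pos rfl, if_neg S.ac, if_neg S.ad]; norm_num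
    have q4 : cpr cs h (rtA c d) (rtA d a) = -1 := by
      rw [c1 _ _ _ _ S.ad.symm, if_neg S.cd, if_neg S.ac.symm, if_pos rfl, if_neg S.ad.symm]; norm_num
    obtain ⟨k1, k2⟩ := S.node_two S.ad.symm le_sup_right le_sup_right q4 q3 (hL' h1 h2)
    exact ⟨d, a, S.ad.symm, Or.inr ⟨rfl, rfl⟩, q1, q2, q3, q4, k1, k2⟩

/-- **Type `A`, main theorem**, all pairs. -/
theorem Inp.main [Fact p.Prime] (hp2 : p ≠ 2) {R : RGD cs h p T t X} {a b c d : Fin (n + 1)} {ν : ℕ} {hν : 3 ≤ ν}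
    {X1 Xn1 : Fin ν → Subgroup Y} (S : Inp R a b c d hν X1 Xn1)
    {u : Y} (huu : u * u = 1) (hu : u ∈ X1 ⟨1, by omega⟩ ⊔ Xn1 ⟨1, by omega⟩)
    (hinv : ∀ x ∈ X (rtA c d), u * x * u⁻¹ = x⁻¹) (hinv' : ∀ x ∈ X (rtA d c), u * x * u⁻¹ = x⁻¹)
    (hL : (∀ x ∈ X (rtA b c), u * x * u⁻¹ = x) → (∀ x ∈ X (rtA c b), u * x * u⁻¹ = x) →
      ∀ x ∈ X (rtA b c) ⊔ X (rtA c b), ∀ y ∈ X1 ⟨1, by omega⟩ ⊔ Xn1 ⟨1, by omega⟩, x * y = y * x)
    (hL' : (∀ x ∈ X (rtA d a), u * x * u⁻¹ = x) → (∀ x ∈ X (rtA a d), u * x * u⁻¹ = x) →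
      ∀ x ∈ X (rtA d a) ⊔ X (rtA a d), ∀ y ∈ X1 ⟨1, by omega⟩ ⊔ Xn1 ⟨1, by omega⟩, x * y = y * x) :
    ∃ e f : Fin (n + 1), e ≠ f ∧ ((e = b ∧ f = c) ∨ (e = d ∧ f = a)) ∧
      ∀ i j : Fin (ν + 2), i < j → ∃ Z, PairData (CoxeterMatrix.A (ν + 2) i j)
        ((Fin.cons (X (rtA a b)) (Fin.cons (X (rtA e f)) X1 : Fin (ν + 1) → Subgroup Y) : Fin (ν + 2) → Subgroup Y) i)
        ((Fin.cons (X (rtA b a)) (Fin.cons (X (rtA f e)) Xn1 : Fin (ν + 1) → Subgroup Y) : Fin (ν + 2) → Subgroup Y) i)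
        ((Fin.cons (X (rtA a b)) (Fin.cons (X (rtA e f)) X1 : Fin (ν + 1) → Subgroup Y) : Fin (ν + 2) → Subgroup Y) j)
        ((Fin.cons (X (rtA b a)) (Fin.cons (X (rtA f e)) Xn1 : Fin (ν + 1) → Subgroup Y) : Fin (ν + 2) → Subgroup Y) j)
        Z := by
  obtain ⟨e, f, hef, hor, q1, q2, q3, q4, k1, k2⟩ := S.exists_node hp2 huu hu hinv hinv' hL hL'
  have hZ := S.pairs
  refine ⟨e, f, hef, hor, extend (extend hZ k1 fun i hi => ⟨_, pairTwo (swap_of_rgd R hef) (exists_swap hν hZ i) (k2 i hi)⟩)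
    ?_ ?_⟩
  · intro i hi
    have ei : i = 0 := Fin.ext hi
    rw [ei, Fin.cons_zero, Fin.cons_zero]
    exact pairThree R S.ab hef q1 q2
  · intro i hi
    obtain ⟨i, rfl⟩ := Fin.exists_succ_eq.2 (show i ≠ 0 from fun e => by rw [e] at hi; exact absurd hi (by simp))
    rw [Fin.cons_succ, Fin.cons_succ]
    exact ⟨_, pairTwo (swap_of_rgd R S.ab) (exists_swap hν hZ i) fun x hx y hy => (S.h0 i y hy x hx).symm⟩

end

end Cfsg.Agent.Cit.TypeA
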