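import Mathlib
import Cfsg.Agent.Cit.TypeAParFour
import Cfsg.Agent.Cit.TypeA

/-!
# Type `A`: the nodes (project CIT)

`C₁` the standard chart of `Δ_o`, labelled so that the frame is `g (σ k) = ε_{2k} - ε_{2k+1}` up to a permutation `π` of
the indices, `C₂` the standard chart of `Δ_m`, `m = σ 1`.

* `Lab`, `exists_lab` : the labelling;
* `X1`, `Xn1`, `pairs`, `comm_of_le` : the nodes of `C₁`;
* `M_eq` : `Q o t ⊓ Q s t` is the product of two root groups of `C₂`;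
* `exists_inp` : `TypeA.Inp`;
* `exists_node` : the new node.
-/

set_option autoImplicit false
set_option linter.unusedSectionVars false

namespace Cfsg.Agent.Cit.TypeANodes

open CoxeterSystem Cfsg.Agent.ChevalleyStructure.CoxeterGeom Cfsg.Agent.Tits.Roots Cfsg.Agent.Tits.Core
  Cfsg.Agent.Tits.RootComb Cfsg.Agent.Nodes.Comb Cfsg.Agent.Nodes.Reps Cfsg.Agent.Nodes.BNOf
  Cfsg.Agent.Nodes.RootsA Cfsg.Agent.Nodes.Coroot Cfsg.Agent.Nodes.PairOf
  Cfsg.Agent.Nodes.RGDLib Cfsg.Agent.Nodes.Chart Cfsg.Agent.Nodes.ClsNorm Cfsg.Agent.RootAmalgam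
  Cfsg.Agent.Cit.FrameSign Cfsg.Agent.Cit.FrameOdd Cfsg.Agent.Cit.TypeESix Cfsg.Agent.Cit.TypeAStd
  Cfsg.Agent.Cit.TypeAPar Cfsg.Agent.Cit.TypeA Cfsg.Agent.Cit.TypeAPair
open Cfsg.Agent.LieRecognition.BNCox (cA cA_apply)
open Cfsg.Agent.Nodes
open scoped commutatorElement

variable {G : Type*} [Group G] {ι : Type*} {Om : Set (Subgroup G)} {K : ι → Subgroup G}
  {X Q : ι → SignType → Subgroup G} {D : Set ι} {L : Subgroup G} {p ν : ℕ}

/-! ### Commuting root groups -/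

section RGD

variable {n : ℕ} {W : Type*} [Group W] {cs : CoxeterSystem (cA n) W} {A : Fin n → Fin n → ℤ}
  {h : IsCartan (cA n) A} {T : Subgroup G} {t : Fin n → G} {Xc : (Fin n → ℤ) → Subgroup G}

/-- disjoint roots commute -/
theorem comm_quad (R : RGD cs h p T t Xc) {a b c d : Fin (n + 1)} (hab : a ≠ b) (hcd : c ≠ d)
    (hac : a ≠ c) (had : a ≠ d) (hbc : b ≠ c) (hbd : b ≠ d) :
    ∀ x ∈ Xc (rtA a b) ⊔ Xc (rtA b a), ∀ y ∈ Xc (rtA c d) ⊔ Xc (rtA d c), x * y = y * x := by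
  have key : ∀ a b c d : Fin (n + 1), a ≠ b → c ≠ d → a ≠ c → a ≠ d → b ≠ c →
      ∀ x ∈ Xc (rtA a b), ∀ y ∈ Xc (rtA c d), x * y = y * x := fun a b c d hab hcd hac had hbc x hx y hy =>
    CommA.comm_disj R hab hcd hbc had (fun e => hac e.1) hx hy
  have h1 : ∀ x ∈ Xc (rtA a b) ⊔ Xc (rtA b a), ∀ y ∈ Xc (rtA c d), x * y = y * x :=
    comm_sup (key a b c d hab hcd hac had hbc) (key b a c d hab.symm hcd hbc hbd hac)
  have h2 : ∀ x ∈ Xc (rtA a b) ⊔ Xc (rtA b a), ∀ y ∈ Xc (rtA d c), x * y = y * x :=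
    comm_sup (key a b d c hab hcd.symm had hac hbd) (key b a d c hab.symm hcd.symm hbd hbc had)
  exact comm_symm (comm_sup (comm_symm h1) (comm_symm h2))

theorem cpr_chain [Finite W] {a b c : Fin (n + 1)} (hab : a ≠ b) (hbc : b ≠ c) (hac : a ≠ c) :
    cpr cs h (rtA b c) (rtA a b) = -1 ∧ cpr cs h (rtA a b) (rtA b c) = -1 := by
  rw [CommA.cpr_rtA cs h b c hab, CommA.cpr_rtA cs h a b hbc, if_neg hab.symm, if_pos rfl, if_neg hac.symm,
    if_neg hbc.symm, if_neg hab, if_neg hac, if_neg hbc]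
  norm_num

end RGD

/-! ### The labelling -/

/-- The labelling of the frame in a standard chart. -/
structure Lab {o : ι} (C : ACh Om K X Q {i | i ≠ o} L p ν) (π : Equiv.Perm (Fin (ν + 1)))
    (σ : Fin ((ν + 1) / 2) → ι) : Prop where
  inj : Function.Injective σ
  ne : ∀ k, σ k ≠ o
  surj : ∀ i, i ≠ o → ∃ k, σ k = i
  eq : ∀ k, C.g (σ k) = rtA (π (KindA.fi ν k 0)) (π (KindA.fi ν k 1))

theorem exists_lab [Finite ι] {o : ι} (C : ACh Om K X Q {i | i ≠ o} L p ν)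
    (hcard : Nat.card ι = (ν + 1) / 2 + 1) : ∃ π σ, Lab C π σ := by
  classical
  obtain ⟨w, f, hf⟩ := (KindA.frameSys C.cs (RootsA.isCartan ν)).exists_move (fun i : {i : ι // i ≠ o} => C.g i)
    (fun i => C.fr.root i i.2) (fun i j hij => C.fr.gorth i i.2 j j.2 (fun h => hij (Subtype.ext h)))
  have hinv : ∀ i : {i : ι // i ≠ o}, C.g i = rep C.cs (RootsA.isCartan ν) w⁻¹ (KindA.g ν (f i)) := by
    intro i
    rw [← hf i, ← rep_mul_apply, inv_mul_cancel, map_one]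
    rfl
  have hfi : Function.Injective f := by
    intro i j hij
    by_contra hne
    have h1 := C.fr.gorth i i.2 j j.2 (fun h => hne (Subtype.ext h))
    rw [hinv i, hij, ← hinv j, cpr_self _ _ (C.fr.root j j.2)] at h1
    norm_num at h1
  have hcard' : Nat.card {i : ι // i ≠ o} = (ν + 1) / 2 := by
    have h1 := Nat.card_congr (Equiv.optionSubtypeNe o)
    rw [Finite.card_option, hcard] at h1
    omega
  have hbij : Function.Bijective f := (Nat.bijective_iff_injective_and_card f).2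
    ⟨hfi, by rw [hcard', Nat.card_eq_fintype_card, Fintype.card_fin]⟩
  let e := Equiv.ofBijective f hbij
  obtain ⟨π, hπ⟩ := KindA.exists_perm C.cs (RootsA.isCartan ν) w⁻¹
  refine ⟨π, fun k => (e.symm k : ι), fun k l hkl => ?_, fun k => (e.symm k).2, fun i hi => ⟨e ⟨i, hi⟩, ?_⟩, fun k => ?_⟩
  · exact e.symm.injective (Subtype.ext hkl)
  · simp only [Equiv.symm_apply_apply]
  · rw [hinv (e.symm k)]
    have h1 : f (e.symm k) = k := e.apply_symm_apply k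
    rw [h1]
    exact hπ _ _

/-! ### The nodes of `C₁` -/

section Nodes

variable {o : ι} (C : ACh Om K X Q {i | i ≠ o} L p ν) (π : Equiv.Perm (Fin (ν + 1)))

/-- the nodes of `C₁` -/
def X1 (i : Fin ν) : Subgroup G := C.Xc (rtA (π i.castSucc) (π i.succ))

/-- the opposite nodes of `C₁` -/
def Xn1 (i : Fin ν) : Subgroup G := C.Xc (rtA (π i.succ) (π i.castSucc))

theorem pi_ne {i j : Fin (ν + 1)} (h : i.val ≠ j.val) : π i ≠ π j := fun e => h (by rw [π.injective e])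

theorem pi_ne' (i : Fin ν) : π i.castSucc ≠ π i.succ := pi_ne π (by rw [Fin.val_castSucc, Fin.val_succ]; omega)

theorem comm_X1 {i j : Fin ν} (hij : i.val + 2 ≤ j.val) :
    ∀ x ∈ X1 C π i ⊔ Xn1 C π i, ∀ y ∈ X1 C π j ⊔ Xn1 C π j, x * y = y * x := by
  refine comm_quad C.fr.rgd (pi_ne' π i) (pi_ne' π j) (pi_ne π ?_) (pi_ne π ?_) (pi_ne π ?_) (pi_ne π ?_) <;>
    simp only [Fin.val_castSucc, Fin.val_succ] <;> omega

theorem pairs (i j : Fin ν) (hij : i < j) :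
    ∃ Z, PairData (CoxeterMatrix.A ν i j) (X1 C π i) (Xn1 C π i) (X1 C π j) (Xn1 C π j) Z := by
  by_cases h1 : i.val + 1 = j.val
  · rw [A_three h1]
    have h2 : i.succ = j.castSucc := Fin.ext (by rw [Fin.val_castSucc, Fin.val_succ]; exact h1)
    have h3 : π i.castSucc ≠ π j.succ := pi_ne π (by simp only [Fin.val_castSucc, Fin.val_succ]; omega)
    have h4 := pi_ne' π i
    have h5 := pi_ne' π j
    unfold X1 Xn1
    rw [h2] at h4 ⊢
    obtain ⟨q1, q2⟩ := cpr_chain (cs := C.cs) (h := RootsA.isCartan ν) h4 h5 h3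
    exact pairThree C.fr.rgd h4 h5 q1 q2
  · have h2 : i.val + 2 ≤ j.val := by
      rw [Fin.lt_def] at hij; omega
    rw [A_two h2]
    exact ⟨_, pairTwo (swap_of_rgd C.fr.rgd (pi_ne' π i)) (swap_of_rgd C.fr.rgd (pi_ne' π j)) (comm_X1 C π h2)⟩

variable {C π} {σ : Fin ((ν + 1) / 2) → ι} (H : Lab C π σ)

include H

theorem X1_even {k : Fin ((ν + 1) / 2)} {i : Fin ν} (hi : i.val = 2 * k.val) :
    X1 C π i = X (σ k) 1 ∧ Xn1 C π i = X (σ k) (-1) := by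
  have h0 : i.castSucc = KindA.fi ν k 0 := Fin.ext (by rw [Fin.val_castSucc, KindA.fi_val, hi]; simp)
  have h1 : i.succ = KindA.fi ν k 1 := Fin.ext (by rw [Fin.val_succ, KindA.fi_val, hi]; simp)
  unfold X1 Xn1
  rw [h0, h1]
  refine ⟨?_, ?_⟩
  · rw [← H.eq k]; exact C.fr.pos _ (H.ne k)
  · rw [← rtA_neg, ← H.eq k]; exact C.fr.neg _ (H.ne k)

theorem K_even (F : Frame K (fun i => zz (K i)) X Q) {k : Fin ((ν + 1) / 2)} {i : Fin ν} (hi : i.val = 2 * k.val) :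
    X1 C π i ⊔ Xn1 C π i = K (σ k) := by
  obtain ⟨h1, h2⟩ := X1_even H hi
  rw [h1, h2, ← F.K_eq]

end Nodes

/-! ### The sign groups of two indices -/

section MM

theorem eq_or_of_pos {n : ℕ} {u v a b : Fin (n + 1)} (h : 0 < (if u = a then 1 else 0 : ℤ) - (if u = b then 1 else 0) -
    ((if v = a then 1 else 0) - (if v = b then 1 else 0))) : u = a ∨ v = b := by
  by_contra hcon
  push Not at hcon
  rw [if_neg hcon.1, if_neg hcon.2] at h
  split_ifs at h <;> omega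

variable [Finite G] {Δ : ι → Subgroup G} (E : Env K (fun i => zz (K i)) X Q Δ p)

include E

/-- `Q o t ⊓ Q s t` -/
theorem M_eq {o s m : ι} (C : ACh Om K X Q {i | i ≠ m} (Δ m) p ν) (hom : o ≠ m) (hsm : s ≠ m) (hos : o ≠ s)
    {t : SignType} (ht : t ≠ 0) (par : ∀ x, x ∈ Q o t → x ∈ Q s t → x ∈ Q m 0) {a b c d : Fin (ν + 1)}
    (hab : a ≠ b) (hcd : c ≠ d) (hac : a ≠ c) (had : a ≠ d) (hbc : b ≠ c) (hbd : b ≠ d)
    (ho : ∀ u v, u ≠ v → (SignType.sign (cpr C.cs (RootsA.isCartan ν) (rtA u v) (C.g o)) = t ↔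
      0 < cpr C.cs (RootsA.isCartan ν) (rtA u v) (rtA a b)))
    (hs : ∀ u v, u ≠ v → (SignType.sign (cpr C.cs (RootsA.isCartan ν) (rtA u v) (C.g s)) = t ↔
      0 < cpr C.cs (RootsA.isCartan ν) (rtA u v) (rtA c d))) :
    Q o t ⊓ Q s t = C.Xc (rtA a d) ⊔ C.Xc (rtA c b) := by
  have F := E.F
  apply le_antisymm
  · intro x hx
    have hx1 : x ∈ Q o t := hx.1
    have hx2 : x ∈ Q s t := hx.2
    have h1 : x * zz (K m) = zz (K m) * x :=
      (F.mem_Q_zero.1 (par x hx1 hx2)) _ (F.z_mem m)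
    have h2 : x ∈ Δ m := E.mem_delta hom ht hx1 h1
    have h3 := mem_Sup_of_two F C hom hsm hos ht hx1 hx2 h2
    have h4 : RGD.Sup C.Xc {y | IsRoot C.cs (RootsA.isCartan ν) y ∧
        SignType.sign (cpr C.cs (RootsA.isCartan ν) y (C.g o)) = t ∧
        SignType.sign (cpr C.cs (RootsA.isCartan ν) y (C.g s)) = t} ≤ C.Xc (rtA a d) ⊔ C.Xc (rtA c b) := by
      refine RGD.Sup_le ?_
      rintro y ⟨hy, h5, h6⟩
      obtain ⟨u, v, huv, rfl⟩ := exists_of_isRoot _ _ hy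
      rw [ho u v huv, CommA.cpr_rtA _ _ _ _ hab] at h5
      rw [hs u v huv, CommA.cpr_rtA _ _ _ _ hcd] at h6
      have h8 := eq_or_of_pos h5
      have h9 := eq_or_of_pos h6
      have h7 : (u = a ∧ v = d) ∨ (u = c ∧ v = b) := by
        rcases h8 with h8 | h8 <;> rcases h9 with h9 | h9
        · exact absurd (h8.symm.trans h9) hac
        · exact Or.inl ⟨h8, h9⟩
        · exact Or.inr ⟨h9, h8⟩
        · exact absurd (h8.symm.trans h9) hbd
      rcases h7 with ⟨rfl, rfl⟩ | ⟨rfl, rfl⟩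
      · exact le_sup_left
      · exact le_sup_right
    exact h4 h3
  · have key : ∀ u v, u ≠ v → 0 < cpr C.cs (RootsA.isCartan ν) (rtA u v) (rtA a b) →
        0 < cpr C.cs (RootsA.isCartan ν) (rtA u v) (rtA c d) → C.Xc (rtA u v) ≤ Q o t ⊓ Q s t := by
      intro u v huv h1 h2
      have hr := isRoot_rtA C.cs (RootsA.isCartan ν) huv
      refine le_inf (fun w hw => ?_) (fun w hw => ?_)
      · have h3 := (ho u v huv).2 h1
        have h4 := mem_Q_sign C (i := o) hom hr (by rw [h3]; exact ht) hw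
        rwa [h3] at h4
      · have h3 := (hs u v huv).2 h2
        have h4 := mem_Q_sign C (i := s) hsm hr (by rw [h3]; exact ht) hw
        rwa [h3] at h4
    refine sup_le (key a d had ?_ ?_) (key c b hbc.symm ?_ ?_)
    · rw [CommA.cpr_rtA _ _ _ _ hab, if_pos rfl, if_neg hab, if_neg had.symm, if_neg hbd.symm]; norm_num
    · rw [CommA.cpr_rtA _ _ _ _ hcd, if_neg hac, if_neg had, if_neg hcd.symm, if_pos rfl]; norm_num
    · rw [CommA.cpr_rtA _ _ _ _ hab, if_neg hac.symm, if_neg hbc.symm, if_neg hab.symm, if_pos rfl]; norm_num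
    · rw [CommA.cpr_rtA _ _ _ _ hcd, if_pos rfl, if_neg hcd, if_neg hbc, if_neg hbd]; norm_num

end MM

/-! ### The input of `TypeA` -/

section Main

/-- an element mapping `V` onto itself lies in the normaliser -/
theorem mem_normalizer_of_onto {V : Subgroup G} {g : G} (h : Onto g V V) : g ∈ Subgroup.normalizer (V : Set G) :=
  Subgroup.mem_normalizer_iff.2 fun x => (h x).symm

variable [Finite G] {Δ : ι → Subgroup G} (E : Env K (fun i => zz (K i)) X Q Δ p)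

include E

theorem Idx.pos_iff {m : ι} {C : ACh Om K X Q {i | i ≠ m} L p ν} {al be : ι → Fin (ν + 1)} (H : Idx C al be) {i : ι}
    (hi : i ≠ m) (u v : Fin (ν + 1)) : SignType.sign (cpr C.cs (RootsA.isCartan ν) (rtA u v) (C.g i)) = 1 ↔
      0 < cpr C.cs (RootsA.isCartan ν) (rtA u v) (rtA (al i) (be i)) := by
  rw [H.eq i hi, sign_eq_one_iff]

theorem Idx.neg_iff {m : ι} {C : ACh Om K X Q {i | i ≠ m} L p ν} {al be : ι → Fin (ν + 1)} (H : Idx C al be) {i : ι}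
    (hi : i ≠ m) (u v : Fin (ν + 1)) : SignType.sign (cpr C.cs (RootsA.isCartan ν) (rtA u v) (C.g i)) = -1 ↔
      0 < cpr C.cs (RootsA.isCartan ν) (rtA u v) (rtA (be i) (al i)) := by
  rw [H.eq i hi, sign_eq_neg_one_iff, ← rtA_neg (al i) (be i), cpr_neg_right _ _ _ (isRoot_rtA _ _ (H.ne i hi))]
  omega

theorem Idx.X_pos {m : ι} {C : ACh Om K X Q {i | i ≠ m} L p ν} {al be : ι → Fin (ν + 1)} (H : Idx C al be) {i : ι}
    (hi : i ≠ m) : C.Xc (rtA (al i) (be i)) = X i 1 := by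
  rw [← H.eq i hi]; exact C.fr.pos i hi

theorem Idx.X_neg {m : ι} {C : ACh Om K X Q {i | i ≠ m} L p ν} {al be : ι → Fin (ν + 1)} (H : Idx C al be) {i : ι}
    (hi : i ≠ m) : C.Xc (rtA (be i) (al i)) = X i (-1) := by
  rw [← rtA_neg, ← H.eq i hi]; exact C.fr.neg i hi

/-- the input of `TypeA` -/
theorem inp (hν : 3 ≤ ν) {o s m : ι} (C₁ : ACh Om K X Q {i | i ≠ o} (Δ o) p ν) {π : Equiv.Perm (Fin (ν + 1))}
    {σ : Fin ((ν + 1) / 2) → ι} (H : Lab C₁ π σ) (hs : σ ⟨0, by omega⟩ = s) (hm : σ ⟨1, by omega⟩ = m)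
    (C₂ : ACh Om K X Q {i | i ≠ m} (Δ m) p ν) {al be : ι → Fin (ν + 1)} (H₂ : Idx C₂ al be)
    (par : ∀ t : SignType, t ≠ 0 → ∀ x, x ∈ Q o t → x ∈ Q s t → ∀ d, d ≠ o → d ≠ s → x ∈ Q d 0) :
    Inp C₂.fr.rgd (al o) (be o) (al s) (be s) hν (X1 C₁ π) (Xn1 C₁ π) := by
  have F := E.F
  have hos : o ≠ s := by rw [← hs]; exact (H.ne _).symm
  have hom : o ≠ m := by rw [← hm]; exact (H.ne _).symm
  have hsm : s ≠ m := by
    rw [← hs, ← hm]
    intro h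
    have := H.inj h
    simp only [Fin.mk.injEq] at this
    omega
  have ab := H₂.ne o hom
  have cd := H₂.ne s hsm
  obtain ⟨ac, ad, bc, bd⟩ := H₂.disj o hom s hsm hos
  have hMneg : Q o (-1) ⊓ Q s (-1) = C₂.Xc (rtA (be o) (al s)) ⊔ C₂.Xc (rtA (be s) (al o)) :=
    M_eq E C₂ hom hsm hos (by decide) (fun x hx hx' => par (-1) (by decide) x hx hx' m hom.symm hsm.symm) ab.symm cd.symm bd bc ad ac
      (fun u v _ => Idx.neg_iff E H₂ hom u v) (fun u v _ => Idx.neg_iff E H₂ hsm u v)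
  have hMpos : Q o 1 ⊓ Q s 1 = C₂.Xc (rtA (al o) (be s)) ⊔ C₂.Xc (rtA (al s) (be o)) :=
    M_eq E C₂ hom hsm hos (by decide) (fun x hx hx' => par 1 (by decide) x hx hx' m hom.symm hsm.symm) ab cd ac ad bc bd
      (fun u v _ => Idx.pos_iff E H₂ hom u v) (fun u v _ => Idx.pos_iff E H₂ hsm u v)
  rw [sup_comm] at hMpos
  have e1 := Idx.X_pos E H₂ hom
  have e2 := Idx.X_neg E H₂ hom
  have e3 := Idx.X_pos E H₂ hsm
  have e4 := Idx.X_neg E H₂ hsm
  have hnorm : ∀ t : SignType, t ≠ 0 → ∀ g, Onto g (X o t) (X o t) → Onto g (X s t) (X s t) →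
      ∀ x ∈ Q o t ⊓ Q s t, g * x * g⁻¹ ∈ Q o t ⊓ Q s t := by
    intro t ht g h1 h2 x hx
    have h3 := F.Q_norm o t ht (mem_normalizer_of_onto h1)
    have h4 := F.Q_norm s t ht (mem_normalizer_of_onto h2)
    exact ⟨(Subgroup.mem_normalizer_iff.1 h3 x).1 hx.1, (Subgroup.mem_normalizer_iff.1 h4 x).1 hx.2⟩
  have hle : ∀ k, X1 C₁ π k ⊔ Xn1 C₁ π k ≤ Δ o := fun k =>
    sup_le (C₁.fr.X_le _ (isRoot_rtA _ _ (pi_ne' π k))) (C₁.fr.X_le _ (isRoot_rtA _ _ (pi_ne' π k).symm))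
  obtain ⟨f1, f2⟩ := X1_even H (k := ⟨0, by omega⟩) (i := (⟨0, by omega⟩ : Fin ν)) rfl
  rw [hs] at f1 f2
  refine
    { ab := ab, ac := ac, ad := ad, bc := bc, bd := bd, cd := cd
      pairs := pairs C₁ π
      ne_bot := fun i => Bruhat.X_ne_bot C₁.fr.rgd (isRoot_rtA _ _ (pi_ne' π i).symm)
      e0 := f1.trans e3.symm
      e0' := f2.trans e4.symm
      h0 := fun k x hx y hy => ?_
      hM := fun g h1 h2 x hx => ?_
      hM' := fun g h1 h2 x hx => ?_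
      heven := fun k hk hk' x hx y hy => ?_ }
  · rw [e1, e2, ← F.K_eq] at hy
    exact ((Subgroup.mem_centralizer_iff.1 (E.cent o (hle k hx))) y hy).symm
  · rw [e2] at h1
    rw [e4] at h2
    rw [← hMneg] at hx ⊢
    exact hnorm (-1) (by decide) g h1 h2 x hx
  · rw [e1] at h1
    rw [e3] at h2
    rw [← hMpos] at hx ⊢
    exact hnorm 1 (by decide) g h1 h2 x hx
  · have hk2 := k.2
    have e5 := K_even H F (k := ⟨k.val / 2, by omega⟩) (i := k) (by simp only; omega)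
    rw [e5] at hx
    have h1 : σ ⟨k.val / 2, by omega⟩ ≠ s := by
      rw [← hs]
      intro h
      have := H.inj h
      simp only [Fin.mk.injEq] at this
      omega
    rw [← hMneg, ← hMpos] at hy
    have h2 : (Q o (-1) ⊓ Q s (-1)) ⊔ (Q o 1 ⊓ Q s 1) ≤ Q (σ ⟨k.val / 2, by omega⟩) 0 :=
      sup_le (fun y hy => par (-1) (by decide) y hy.1 hy.2 _ (H.ne _) h1)
        (fun y hy => par 1 (by decide) y hy.1 hy.2 _ (H.ne _) h1)
    exact (F.mem_Q_zero.1 (h2 hy) x hx).symm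

/-- the new node -/
theorem exists_node (hyp : Hyp Om) [Fact p.Prime] (hp2 : p ≠ 2) (hν : 3 ≤ ν) {o s m : ι}
    (C₁ : ACh Om K X Q {i | i ≠ o} (Δ o) p ν) {π : Equiv.Perm (Fin (ν + 1))}
    {σ : Fin ((ν + 1) / 2) → ι} (H : Lab C₁ π σ) (hs : σ ⟨0, by omega⟩ = s) (hm : σ ⟨1, by omega⟩ = m)
    (C₂ : ACh Om K X Q {i | i ≠ m} (Δ m) p ν) {al be : ι → Fin (ν + 1)} (H₂ : Idx C₂ al be)
    (par : ∀ t : SignType, t ≠ 0 → ∀ x, x ∈ Q o t → x ∈ Q s t → ∀ d, d ≠ o → d ≠ s → x ∈ Q d 0)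
    (heq : ∀ J ∈ Om, ∀ L ∈ Om, (∀ x ∈ J, x * zz L = zz L * x) → J = L ∨ ∀ x ∈ J, ∀ y ∈ L, x * y = y * x) :
    ∃ e f : Fin (ν + 1), e ≠ f ∧
      cpr C₂.cs (RootsA.isCartan ν) (rtA e f) (rtA (al o) (be o)) = -1 ∧
      cpr C₂.cs (RootsA.isCartan ν) (rtA (al o) (be o)) (rtA e f) = -1 ∧
      cpr C₂.cs (RootsA.isCartan ν) (rtA e f) (rtA (al s) (be s)) = -1 ∧
      cpr C₂.cs (RootsA.isCartan ν) (rtA (al s) (be s)) (rtA e f) = -1 ∧
      ∀ i : Fin ν, 1 ≤ i.val → ∀ x ∈ C₂.Xc (rtA e f) ⊔ C₂.Xc (rtA f e), ∀ y ∈ X1 C₁ π i ⊔ Xn1 C₁ π i,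
        x * y = y * x := by
  have F := E.F
  have hos : o ≠ s := by rw [← hs]; exact (H.ne _).symm
  have hom : o ≠ m := by rw [← hm]; exact (H.ne _).symm
  have hsm : s ≠ m := by
    rw [← hs, ← hm]
    intro h
    have := H.inj h
    simp only [Fin.mk.injEq] at this
    omega
  have I := inp E hν C₁ H hs hm C₂ H₂ par
  set i1 : Fin ν := ⟨1, by omega⟩ with hi1
  have hr1 := isRoot_rtA C₁.cs (RootsA.isCartan ν) (pi_ne' π i1)
  have hK1 : X1 C₁ π i1 ⊔ Xn1 C₁ π i1 = C₁.Xc (rtA (π i1.castSucc) (π i1.succ)) ⊔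
      C₁.Xc (-rtA (π i1.castSucc) (π i1.succ)) := by
    rw [rtA_neg]; rfl
  have hom1 : X1 C₁ π i1 ⊔ Xn1 C₁ π i1 ∈ Om := by rw [hK1]; exact C₁.om _ hr1
  set u := zz (X1 C₁ π i1 ⊔ Xn1 C₁ π i1) with hu
  have huu : u * u = 1 := hyp.zz_mul hom1
  have hui : u⁻¹ = u := inv_eq_of_mul_eq_one_left huu
  obtain ⟨f1, f2⟩ := X1_even H (k := ⟨0, by omega⟩) (i := (⟨0, by omega⟩ : Fin ν)) rfl
  rw [hs] at f1 f2
  have h01 : (⟨0, by omega⟩ : Fin ν).succ = i1.castSucc := Fin.ext rfl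
  have n1 := pi_ne' π (⟨0, by omega⟩ : Fin ν)
  have n2 := pi_ne' π i1
  have n3 : π (⟨0, by omega⟩ : Fin ν).castSucc ≠ π i1.succ := pi_ne π (by
    simp only [Fin.val_castSucc, Fin.val_succ, hi1]; omega)
  rw [h01] at n1
  -- `u` inverts the root groups of node `0`
  have key : ∀ y, IsRoot C₁.cs (RootsA.isCartan ν) y → y ≠ rtA (π i1.castSucc) (π i1.succ) →
      y ≠ -rtA (π i1.castSucc) (π i1.succ) → cpr C₁.cs (RootsA.isCartan ν) y (rtA (π i1.castSucc) (π i1.succ)) ≠ 0 →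
      ∀ x ∈ C₁.Xc y, u * x * u⁻¹ = x⁻¹ := by
    intro y hy h1 h2 h3 x hx
    rw [hui, hu, hK1]
    exact C₁.inv _ y hr1 hy h1 h2 h3 x hx
  have hinv1 : ∀ x ∈ X s 1, u * x * u⁻¹ = x⁻¹ := by
    rw [← f1]
    unfold X1
    rw [h01]
    refine key _ (isRoot_rtA _ _ n1) (fun e => ?_) (fun e => ?_) ?_
    · exact n1 (rtA_inj n1 e).1
    · rw [rtA_neg] at e
      exact n3 (rtA_inj n1 e).1
    · rw [CommA.cpr_rtA _ _ _ _ n2, if_neg n1, if_neg n3, if_pos rfl, if_neg n2]; norm_num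
  have hinv2 : ∀ x ∈ X s (-1), u * x * u⁻¹ = x⁻¹ := by
    rw [← f2]
    unfold Xn1
    rw [h01]
    refine key _ (isRoot_rtA _ _ n1.symm) (fun e => ?_) (fun e => ?_) ?_
    · exact n3 (rtA_inj n1.symm e).2
    · rw [rtA_neg] at e
      exact n2 (rtA_inj n1.symm e).1
    · rw [CommA.cpr_rtA _ _ _ _ n2, if_pos rfl, if_neg n2, if_neg n1, if_neg n3]; norm_num
  have e1 := Idx.X_pos E H₂ hom
  have e2 := Idx.X_neg E H₂ hom
  have e3 := Idx.X_pos E H₂ hsm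
  have e4 := Idx.X_neg E H₂ hsm
  -- the members of `C₂`
  have hJ : ∀ v w : Fin (ν + 1), v ≠ w → rtA v w ≠ rtA (al o) (be o) → rtA v w ≠ -rtA (al o) (be o) →
      cpr C₂.cs (RootsA.isCartan ν) (rtA v w) (rtA (al o) (be o)) ≠ 0 →
      (∀ x ∈ C₂.Xc (rtA v w), u * x * u⁻¹ = x) → (∀ x ∈ C₂.Xc (rtA w v), u * x * u⁻¹ = x) →
      ∀ x ∈ C₂.Xc (rtA v w) ⊔ C₂.Xc (rtA w v), ∀ y ∈ X1 C₁ π i1 ⊔ Xn1 C₁ π i1, x * y = y * x := by
    intro v w hvw hne1 hne2 h0 h1 h2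
    have hJ : C₂.Xc (rtA v w) ⊔ C₂.Xc (rtA w v) ∈ Om := by
      rw [← rtA_neg v w]; exact C₂.om _ (isRoot_rtA _ _ hvw)
    rcases heq _ hJ _ hom1 (fun x hx => by
      have h3 : C₂.Xc (rtA v w) ⊔ C₂.Xc (rtA w v) ≤ Subgroup.centralizer {u} := by
        refine sup_le (fun x hx => ?_) (fun x hx => ?_)
        · rw [Subgroup.mem_centralizer_singleton_iff]
          exact (mul_inv_eq_iff_eq_mul.1 (h1 x hx)).symm
        · rw [Subgroup.mem_centralizer_singleton_iff]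
          exact (mul_inv_eq_iff_eq_mul.1 (h2 x hx)).symm
      have h4 := h3 hx
      rwa [Subgroup.mem_centralizer_singleton_iff] at h4) with h3 | h3
    · exfalso
      apply Bruhat.X_ne_bot C₂.fr.rgd (isRoot_rtA C₂.cs (RootsA.isCartan ν) hvw)
      rw [Subgroup.eq_bot_iff_forall]
      intro x hx
      have hx' : x ∈ Δ o := by
        have h4 : x ∈ C₂.Xc (rtA v w) ⊔ C₂.Xc (rtA w v) := le_sup_left (a := C₂.Xc (rtA v w)) hx
        rw [h3] at h4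
        exact (sup_le (C₁.fr.X_le _ (isRoot_rtA _ _ (pi_ne' π i1)))
          (C₁.fr.X_le _ (isRoot_rtA _ _ (pi_ne' π i1).symm)) : X1 C₁ π i1 ⊔ Xn1 C₁ π i1 ≤ Δ o) h4
      have h5 : zz (K o) * x = x * zz (K o) :=
        (Subgroup.mem_centralizer_iff.1 (E.cent o hx')) _ (F.z_mem o)
      have h6 := C₂.inv _ _ (isRoot_rtA C₂.cs (RootsA.isCartan ν) (H₂.ne o hom)) (isRoot_rtA _ _ hvw) hne1 hne2 h0 x hx
      rw [rtA_neg, e1, e2, ← F.K_eq, h5, mul_assoc, F.z_sq, mul_one] at h6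
      have h7 : x * x = 1 := mul_eq_one_iff_eq_inv.2 h6
      exact eq_one_of_two_pow C₂.fr.rgd hp2 (isRoot_rtA _ _ hvw) hx (j := 1) (by rw [pow_one, pow_two]; exact h7)
    · exact h3
  obtain ⟨ac, ad, bc, bd⟩ := H₂.disj o hom s hsm hos
  have ab := H₂.ne o hom
  obtain ⟨e, f, hef, -, q1, q2, q3, q4, -, q5⟩ := I.exists_node hp2 huu (hyp.zz_mem hom1)
    (by rw [e3]; exact hinv1) (by rw [e4]; exact hinv2)
    (hJ _ _ bc (fun e => ab (rtA_inj bc e).1.symm) (fun e => by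
      rw [rtA_neg] at e; exact ac (rtA_inj bc e).2.symm) (by
        rw [CommA.cpr_rtA _ _ _ _ ab, if_neg ab.symm, if_pos rfl, if_neg ac.symm, if_neg bc.symm]; norm_num))
    (hJ _ _ ad.symm (fun e => ad (rtA_inj ad.symm e).1.symm) (fun e => by
      rw [rtA_neg] at e; exact bd (rtA_inj ad.symm e).1.symm) (by
        rw [CommA.cpr_rtA _ _ _ _ ab, if_neg ad.symm, if_neg bd.symm, if_pos rfl, if_neg ab]; norm_num))
  exact ⟨e, f, hef, q1, q2, q3, q4, q5⟩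

end Main

end Cfsg.Agent.Cit.TypeANodes
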