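import Mathlib
import Cfsg.Agent.Cit.TypeANodes
import Cfsg.Agent.Cit.TypeAEnv
import Cfsg.Agent.Cit.TypeESixGen
import Cfsg.Agent.Nodes.TyChart

/-!
# Type `A`: the output sentence (project CIT)

Frame `Om(S) = {K i}` of `n = (ν + 1) / 2 + 1 ≥ 3` members `SL(2, F)`, all `Δ_i` with a chart of type `A_ν`, `ν ≥ 3`.

* `exists_chart` : a chart of type `A_{ν+2}` of a subgroup `G0` containing all `K i`, `Δ_i`, with `N(J) ≤ N(G0)` for all
  members `J ≤ G0`; for `ν = 5` under the hypothesis that the sign groups with full support are trivial.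
-/

set_option autoImplicit false
set_option linter.unusedSectionVars false

namespace Cfsg.Agent.Cit.TypeAEnd

open CoxeterSystem Cfsg.Agent.ChevalleyStructure.CoxeterGeom Cfsg.Agent.Tits.Roots Cfsg.Agent.Tits.Core
  Cfsg.Agent.Tits.RootComb Cfsg.Agent.Nodes.Comb Cfsg.Agent.Nodes.Reps Cfsg.Agent.Nodes.BNOf
  Cfsg.Agent.Nodes.RootsA Cfsg.Agent.Nodes.Coroot Cfsg.Agent.Nodes.PairOf
  Cfsg.Agent.Nodes.RGDLib Cfsg.Agent.Nodes.Chart Cfsg.Agent.Nodes.ClsNorm Cfsg.Agent.RootAmalgam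
  Cfsg.Agent.Nodes.ChartOfCls Cfsg.Agent.Cit.FrameOf Cfsg.Agent.Cit.FrameClose Cfsg.Agent.Cit.FrameProv
  Cfsg.Agent.Cit.FrameSign Cfsg.Agent.Cit.FrameOdd Cfsg.Agent.Cit.TypeESix Cfsg.Agent.Cit.TypeESixGen
  Cfsg.Agent.Cit.TypeAStd Cfsg.Agent.Cit.TypeAPar Cfsg.Agent.Cit.TypeA Cfsg.Agent.Cit.TypeAPair
  Cfsg.Agent.Cit.TypeANodes Cfsg.Agent.Cit.TypeAEnv
open Cfsg.Agent.LieRecognition.BNCox (cA cA_apply)
open Cfsg.Agent.Nodes

universe u

/-! ### The diagram -/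

theorem cA_two {n : ℕ} {i j : Fin n} (hij : i ≠ j) (h : cA n i j = 2) : i.val + 2 ≤ j.val ∨ j.val + 2 ≤ i.val := by
  rw [cA_apply] at h
  unfold Cfsg.Agent.LieRecognition.CoxClass.mA at h
  have h1 : i.val ≠ j.val := fun e => hij (Fin.ext e)
  by_contra hcon
  push Not at hcon
  rw [if_neg h1, if_pos (by omega)] at h
  exact absurd h (by norm_num)

theorem cA_ne_two {n : ℕ} {i j : Fin n} (hij : i ≠ j) (h : cA n i j ≠ 2) : i.val + 1 = j.val ∨ j.val + 1 = i.val := by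
  rw [cA_apply] at h
  unfold Cfsg.Agent.LieRecognition.CoxClass.mA at h
  have h1 : i.val ≠ j.val := fun e => hij (Fin.ext e)
  by_contra hcon
  push Not at hcon
  rw [if_neg h1, if_neg (by omega)] at h
  exact h rfl

theorem AA_adj {n : ℕ} {i j : Fin n} (h : i.val + 1 = j.val) : AA n i j = -1 ∧ AA n j i = -1 := by
  have h1 : i ≠ j := fun e => by rw [e] at h; omega
  unfold AA
  rw [if_neg h1, if_neg h1.symm, if_pos (Or.inl h), if_pos (Or.inr h)]
  exact ⟨rfl, rfl⟩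

/-- cases for an index of `A_{ν+2}` -/
theorem fin_cases' {ν : ℕ} (i : Fin (ν + 2)) : i = 0 ∨ i = Fin.succ 0 ∨ ∃ k : Fin ν, i = k.succ.succ := by
  rcases Fin.eq_zero_or_eq_succ i with h | ⟨j, rfl⟩
  · exact Or.inl h
  · rcases Fin.eq_zero_or_eq_succ j with h | ⟨k, rfl⟩
    · exact Or.inr (Or.inl (by rw [h]))
    · exact Or.inr (Or.inr ⟨k, rfl⟩)

section

variable {G : Type u} [Group G]

/-- three kinds of nodes -/
def nd {ν : ℕ} (P Q : Subgroup G) (R : Fin ν → Subgroup G) : Fin (ν + 2) → Subgroup G :=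
  Fin.cons P (Fin.cons Q R : Fin (ν + 1) → Subgroup G)

theorem nd_zero {ν : ℕ} (P Q : Subgroup G) (R : Fin ν → Subgroup G) : nd P Q R 0 = P := rfl

theorem nd_one {ν : ℕ} (P Q : Subgroup G) (R : Fin ν → Subgroup G) : nd P Q R (Fin.succ 0) = Q := rfl

theorem nd_succ {ν : ℕ} (P Q : Subgroup G) (R : Fin ν → Subgroup G) (k : Fin ν) : nd P Q R k.succ.succ = R k := rfl

/-- conjugation along an edge -/
theorem conj_step {n : ℕ} {W : Type*} [Group W] [Finite W] {cs : CoxeterSystem (cA n) W} {A : Fin n → Fin n → ℤ}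
    {h : IsCartan (cA n) A} {p : ℕ} {T : Subgroup G} {t : Fin n → G} {Xc : (Fin n → ℤ) → Subgroup G}
    (R : RGD cs h p T t Xc) {a b c d : Fin (n + 1)} (hab : a ≠ b) (hcd : c ≠ d)
    (h1 : cpr cs h (rtA c d) (rtA a b) = -1) (h2 : cpr cs h (rtA a b) (rtA c d) = -1) {P : Subgroup G}
    (p1 : Xc (rtA a b) ⊔ Xc (rtA b a) ≤ P) (p2 : Xc (rtA c d) ⊔ Xc (rtA d c) ≤ P) :
    ∃ k ∈ P, Cit.cj k (Xc (rtA c d) ⊔ Xc (rtA d c)) = Xc (rtA a b) ⊔ Xc (rtA b a) := by
  obtain ⟨k, hk, e1, e2⟩ := exists_adj_conj R (isRoot_rtA cs h hab) (isRoot_rtA cs h hcd) h1 h2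
    (le_sup_left.trans p1) (by rw [rtA_neg]; exact le_sup_right.trans p1) (le_sup_left.trans p2)
    (by rw [rtA_neg]; exact le_sup_right.trans p2)
  rw [rtA_neg, rtA_neg] at e2
  refine ⟨k, hk, ?_⟩
  rw [Cit.cj_sup]
  exact congrArg₂ (· ⊔ ·) e1 e2

end

variable {G : Type u} [Group G] [Finite G] {Om : Set (Subgroup G)} {ι : Type*}
  {F : Type} [Field F] [Fintype F] {p : ℕ} [CharP F p] {K : ι → Subgroup G} {X : ι → SignType → Subgroup G}

/-- **TYPE `A`**: the output sentence. -/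
theorem exists_chart [Finite ι] (D : Dat Om F K X) (hF : Odd (Fintype.card F))
    (hg : ∀ i, Good p (X i 1) (zz (K i))) (S : Sylow 2 G) (hS : Set.range K = OmS Om (S : Subgroup G))
    {ν : ℕ} (hν : 3 ≤ ν) (hcard : Nat.card ι = (ν + 1) / 2 + 1)
    (ch : ∀ l, ∃ c : Chart Om p (delta Om (K l)), c.IsTy (Ty.A ν))
    (full : ν = 5 → ∀ e : ι → SignType, (∀ i, e i ≠ 0) → XX (QF K X) e = ⊥) :
    ∃ (G0 : Subgroup G) (c : Chart Om p G0), c.IsTy (Ty.A (ν + 2)) ∧ (∀ r ∈ c.R, c.Z r = c.X r) ∧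
      (∀ i, K i ≤ G0) ∧ (∀ i, delta Om (K i) ≤ G0) ∧
      ∀ J ∈ Om, J ≤ G0 → Subgroup.normalizer (J : Set G) ≤ Subgroup.normalizer (G0 : Set G) := by
  classical
  have hcard3 : 3 ≤ Nat.card ι := by rw [hcard]; omega
  have hne : Nonempty ι := (Nat.card_pos_iff.1 (by omega)).1
  have hntι : Nontrivial ι := Finite.one_lt_card_iff_nontrivial.1 (by omega)
  obtain ⟨o⟩ := id hne
  have hp : Fact p.Prime := ⟨(ch o).choose.prime⟩
  have hp2 : p ≠ 2 := (ch o).choose.odd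
  have Fr := frame_of D hF hg
  have E : Env K (fun i => zz (K i)) X (QF K X) (fun l => delta Om (K l)) p :=
    env_of D hF hg S hS fun l => by
      obtain ⟨c, hc⟩ := ch l
      exact ⟨c, Fintype.one_lt_card_iff_nontrivial.1 (by rw [hc.card]; exact lt_of_lt_of_le (by norm_num) hν)⟩
  have C : ∀ l, ACh Om K X (QF K X) {i | i ≠ l} (delta Om (K l)) p ν := fun l => by
    have h := (ch l).choose_spec
    exact (ach_of D hF hg (le_trans (by norm_num) hν) (fun l => exists_ne l) _ h).some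
  have hpar : ∀ a b, a ≠ b → ∀ s t : SignType, s ≠ 0 → t ≠ 0 → ∀ x, x ∈ QF K X a s → x ∈ QF K X b t →
      ∀ d, d ≠ a → d ≠ b → x ∈ QF K X d 0 := fun a b hab s t hs ht x hx hx' d hda hdb =>
    par E D.hyp hp2 hν hcard C D.mem full hab hs ht hx hx' hda hdb
  obtain ⟨π, σ, H⟩ := exists_lab (C o) hcard
  set C₁ := C o with hC₁
  obtain ⟨s, hs⟩ : ∃ s, σ ⟨0, by omega⟩ = s := ⟨_, rfl⟩
  obtain ⟨m, hm⟩ : ∃ m, σ ⟨1, by omega⟩ = m := ⟨_, rfl⟩
  set C₂ := C m with hC₂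
  obtain ⟨al, be, H₂⟩ := exists_idx C₂
  have hos : o ≠ s := by rw [← hs]; exact (H.ne _).symm
  have hom : o ≠ m := by rw [← hm]; exact (H.ne _).symm
  have hsm : s ≠ m := by
    rw [← hs, ← hm]
    intro h
    have := H.inj h
    simp only [Fin.mk.injEq] at this
    omega
  obtain ⟨e, f, hef, q1, q2, q3, q4, hcm⟩ := exists_node E D.hyp hp2 hν C₁ H hs hm C₂ H₂
    (fun t ht x hx hx' d hd1 hd2 => hpar o s hos t t ht ht x hx hx' d hd1 hd2)
    (fun J hJ L hL h => eq_or_comm S D hS hJ hL h)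
  have e1 := Idx.X_pos E H₂ hom
  have e2 := Idx.X_neg E H₂ hom
  have e3 := Idx.X_pos E H₂ hsm
  have e4 := Idx.X_neg E H₂ hsm
  obtain ⟨z0, hz0⟩ : ∃ z0 : Fin ν, z0.val = 0 := ⟨⟨0, by omega⟩, rfl⟩
  obtain ⟨f1, f2⟩ := X1_even H (k := ⟨0, by omega⟩) (i := z0) (by simp only [hz0, mul_zero])
  rw [hs] at f1 f2
  -- the nodes
  set Xs : Fin (ν + 2) → Subgroup G := nd (X o 1) (C₂.Xc (rtA e f)) (X1 C₁ π) with hXs
  set Xn : Fin (ν + 2) → Subgroup G := nd (X o (-1)) (C₂.Xc (rtA f e)) (Xn1 C₁ π) with hXn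
  have hle1 : ∀ k, X1 C₁ π k ⊔ Xn1 C₁ π k ≤ delta Om (K o) := fun k =>
    sup_le (C₁.fr.X_le _ (isRoot_rtA _ _ (pi_ne' π k))) (C₁.fr.X_le _ (isRoot_rtA _ _ (pi_ne' π k).symm))
  have hKo : ∀ x ∈ X o 1 ⊔ X o (-1), ∀ k, ∀ y ∈ X1 C₁ π k ⊔ Xn1 C₁ π k, x * y = y * x := by
    intro x hx k y hy
    rw [← D.K_eq] at hx
    exact (delta_comm y (hle1 k hy) x hx).symm
  -- orthogonal nodes commute
  have comm' : ∀ i j : Fin (ν + 2), i.val + 2 ≤ j.val → ∀ a ∈ Xs i ⊔ Xn i, ∀ b ∈ Xs j ⊔ Xn j, a * b = b * a := by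
    intro i j hij
    rcases fin_cases' j with rfl | rfl | ⟨j, rfl⟩
    · simp at hij
    · simp at hij
    · rcases fin_cases' i with rfl | rfl | ⟨i, rfl⟩
      · exact fun x hx y hy => hKo x hx j y hy
      · exact hcm j (by simp only [Fin.val_succ, Fin.val_zero] at hij; omega)
      · exact comm_X1 C₁ π (i := i) (j := j) (by simp only [Fin.val_succ] at hij; omega)
  have comm : ∀ i j : Fin (ν + 2), i ≠ j → cA (ν + 2) i j = 2 →
      ∀ a ∈ Xs i ⊔ Xn i, ∀ b ∈ Xs j ⊔ Xn j, a * b = b * a := by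
    intro i j hij h a ha b hb
    rcases cA_two hij h with h1 | h1
    · exact comm' i j h1 a ha b hb
    · exact (comm' j i h1 b hb a ha).symm
  -- the planes
  have at1 : ∀ {u v : Fin (ν + 1)}, u ≠ v → At C₁.c (C₁.Xc (rtA u v)) (C₁.Xc (rtA v u)) True (C₁.lk (rtA u v)) := by
    intro u v huv
    have := C₁.at_ _ (isRoot_rtA C₁.cs (RootsA.isCartan ν) huv)
    rwa [rtA_neg] at this
  have at2 : ∀ {u v : Fin (ν + 1)}, u ≠ v → At C₂.c (C₂.Xc (rtA u v)) (C₂.Xc (rtA v u)) True (C₂.lk (rtA u v)) := by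
    intro u v huv
    have := C₂.at_ _ (isRoot_rtA C₂.cs (RootsA.isCartan ν) huv)
    rwa [rtA_neg] at this
  have hab := H₂.ne o hom
  have hcd := H₂.ne s hsm
  have plane' : ∀ i j : Fin (ν + 2), i.val + 1 = j.val →
      Plane (cA (ν + 2)) (AA (ν + 2)) Om p Xs Xn (fun _ => True) i j := by
    intro i j hij
    obtain ⟨a1, a2⟩ := AA_adj hij
    rcases fin_cases' i with rfl | rfl | ⟨i, rfl⟩
    · have hj : j = Fin.succ 0 := Fin.ext (by simpa using hij.symm)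
      subst hj
      refine ⟨_, C₂.c, C₂.lk (rtA (al o) (be o)), C₂.lk (rtA e f), ?_, at2 hef, ?_, ?_, fun _ => C₂.no6⟩
      · have := at2 hab
        rw [e1, e2] at this
        exact this
      · rw [C₂.cpr_lk _ _ (isRoot_rtA _ _ hef) (isRoot_rtA _ _ hab), q1, a1]
      · rw [C₂.cpr_lk _ _ (isRoot_rtA _ _ hab) (isRoot_rtA _ _ hef), q2, a2]
    · have hj : j = z0.succ.succ := Fin.ext (by simp only [Fin.val_succ, hz0]; simpa using hij.symm)
      subst hj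
      refine ⟨_, C₂.c, C₂.lk (rtA e f), C₂.lk (rtA (al s) (be s)), at2 hef, ?_, ?_, ?_, fun _ => C₂.no6⟩
      · have := at2 hcd
        rw [e3, e4, ← f1, ← f2] at this
        exact this
      · rw [C₂.cpr_lk _ _ (isRoot_rtA _ _ hcd) (isRoot_rtA _ _ hef), q4, a1]
      · rw [C₂.cpr_lk _ _ (isRoot_rtA _ _ hef) (isRoot_rtA _ _ hcd), q3, a2]
    · rcases fin_cases' j with rfl | rfl | ⟨j, rfl⟩
      · simp at hij
      · simp at hij
      · have h1 : i.val + 1 = j.val := by simp only [Fin.val_succ] at hij; omega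
        have h2 : i.succ = j.castSucc := Fin.ext (by rw [Fin.val_castSucc, Fin.val_succ]; exact h1)
        have h3 : π i.castSucc ≠ π j.succ := pi_ne π (by simp only [Fin.val_castSucc, Fin.val_succ]; omega)
        have h4 := pi_ne' π i
        have h5 := pi_ne' π j
        have h4' := h4
        rw [h2] at h4'
        obtain ⟨r1, r2⟩ := cpr_chain (cs := C₁.cs) (h := RootsA.isCartan ν) h4' h5 h3
        refine ⟨_, C₁.c, C₁.lk (rtA (π i.castSucc) (π i.succ)), C₁.lk (rtA (π j.castSucc) (π j.succ)), at1 h4,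
          at1 h5, ?_, ?_, fun _ => C₁.no6⟩
        · rw [C₁.cpr_lk _ _ (isRoot_rtA _ _ h5) (isRoot_rtA _ _ h4), a1, h2]; exact r1
        · rw [C₁.cpr_lk _ _ (isRoot_rtA _ _ h4) (isRoot_rtA _ _ h5), a2, h2]; exact r2
  have plane : ∀ i j : Fin (ν + 2), i ≠ j → cA (ν + 2) i j ≠ 2 →
      Plane (cA (ν + 2)) (AA (ν + 2)) Om p Xs Xn (fun _ => True) i j ∨
      Plane (cA (ν + 2)) (AA (ν + 2)) Om p Xs Xn (fun _ => True) j i := by
    intro i j hij h
    rcases cA_ne_two hij h with h1 | h1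
    · exact Or.inl (plane' i j h1)
    · exact Or.inr (plane' j i h1)
  -- the group
  set G0 : Subgroup G := ⨆ i, (Xs i ⊔ Xn i) with hG0
  have hnode : ∀ i, Xs i ⊔ Xn i ≤ G0 := fun i => le_iSup (fun i => Xs i ⊔ Xn i) i
  have hKoG : K o ≤ G0 := by
    rw [D.K_eq]; exact hnode 0
  have hX1G : ∀ k, X1 C₁ π k ⊔ Xn1 C₁ π k ≤ G0 := fun k => hnode k.succ.succ
  have hefG : C₂.Xc (rtA e f) ⊔ C₂.Xc (rtA f e) ≤ G0 := hnode (Fin.succ 0)
  -- `Δ_o ≤ G0`
  have hΔo : delta Om (K o) ≤ G0 := by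
    obtain ⟨w, hw⟩ := KindA.exists_w C₁.cs (RootsA.isCartan ν) π
    have h1 := gen_of_base C₁.fr.rgd w (P := G0) (fun j => by
      rw [← rtA_sr, hw, rtA_neg]
      exact ⟨le_sup_left.trans (hX1G j), le_sup_right.trans (hX1G j)⟩)
    rw [← C₁.gen]
    exact RGD.Sup_le fun x hx => h1 x hx
  -- conjugation
  have hconj1 : ∀ n : ℕ, ∀ hn : n < ν, ∃ g ∈ G0, Cit.cj g (K s) = X1 C₁ π ⟨n, hn⟩ ⊔ Xn1 C₁ π ⟨n, hn⟩ := by
    intro n
    induction n with
    | zero =>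
      intro hn
      have hz : (⟨0, hn⟩ : Fin ν) = z0 := Fin.ext hz0.symm
      refine ⟨1, one_mem _, ?_⟩
      rw [Cit.cj_one, D.K_eq s, hz, f1, f2]
    | succ n ih =>
      intro hn
      obtain ⟨g, hg1, hg2⟩ := ih (by omega)
      have h2 : (⟨n, by omega⟩ : Fin ν).succ = (⟨n + 1, hn⟩ : Fin ν).castSucc := Fin.ext rfl
      have h3 : π (⟨n, by omega⟩ : Fin ν).castSucc ≠ π (⟨n + 1, hn⟩ : Fin ν).succ :=
        pi_ne π (by simp only [Fin.val_castSucc, Fin.val_succ]; omega)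
      have h4 := pi_ne' π (⟨n, by omega⟩ : Fin ν)
      have h5 := pi_ne' π (⟨n + 1, hn⟩ : Fin ν)
      have h4' := h4
      rw [h2] at h4'
      obtain ⟨r1, r2⟩ := cpr_chain (cs := C₁.cs) (h := RootsA.isCartan ν) h4' h5 h3
      obtain ⟨k, hk, hk'⟩ := conj_step C₁.fr.rgd h5 h4 (by rw [h2]; exact r2) (by rw [h2]; exact r1)
        (hX1G ⟨n + 1, hn⟩) (hX1G ⟨n, by omega⟩)
      refine ⟨k * g, mul_mem hk hg1, ?_⟩
      rw [Cit.cj_mul, hg2]
      exact hk'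
  have hKs : K s = C₂.Xc (rtA (al s) (be s)) ⊔ C₂.Xc (rtA (be s) (al s)) := by
    rw [e3, e4]; exact D.K_eq s
  have hKo' : K o = C₂.Xc (rtA (al o) (be o)) ⊔ C₂.Xc (rtA (be o) (al o)) := by
    rw [e1, e2]; exact D.K_eq o
  have hKsG : K s ≤ G0 := by
    rw [D.K_eq s]
    have := hX1G z0
    rwa [f1, f2] at this
  obtain ⟨gs, hgs, hgs'⟩ : ∃ g ∈ G0, Cit.cj g (K o) = K s := by
    obtain ⟨k1, hk1, hk1'⟩ := conj_step C₂.fr.rgd hef hab q2 q1 hefG (by rw [← hKo']; exact hKoG)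
    obtain ⟨k2, hk2, hk2'⟩ := conj_step C₂.fr.rgd hcd hef q3 q4 (by rw [← hKs]; exact hKsG) hefG
    refine ⟨k2 * k1, mul_mem hk2 hk1, ?_⟩
    rw [Cit.cj_mul, hKo', hKs, ← hk2']
    exact congrArg _ hk1'
  have hconj : ∀ l, ∃ g ∈ G0, Cit.cj g (K o) = K l := by
    intro l
    by_cases hl : l = o
    · exact ⟨1, one_mem _, by rw [Cit.cj_one, hl]⟩
    · obtain ⟨k, rfl⟩ := H.surj l hl
      have hk2 := k.2
      obtain ⟨g, hg1, hg2⟩ := hconj1 (2 * k.val) (by omega)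
      refine ⟨g * gs, mul_mem hg1 hgs, ?_⟩
      rw [Cit.cj_mul, hgs', hg2]
      exact K_even H Fr rfl
  have hΔ : ∀ l, delta Om (K l) ≤ G0 := by
    intro l
    obtain ⟨g, hg, e'⟩ := hconj l
    rw [← e', ← cj_delta D.hyp.conj]
    exact cj_le_of_mem hg hΔo
  have hinj := Dat.injective D
  have hK : ∀ i, K i ≤ G0 := by
    intro i
    obtain ⟨l, hl⟩ := exists_ne i
    exact (le_delta (D.mem i) (fun h1 => hl (hinj h1).symm) (D.comm i l hl.symm)).trans (hΔ l)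
  -- the chart
  have hfin : Finite (cA (ν + 2)).Group := finite_W (cA (ν + 2)).toCoxeterSystem (RootsA.isCartan (ν + 2))
  letI : Fintype (cA (ν + 2)).Group := Fintype.ofFinite _
  obtain ⟨c, -, -, -, hc, -, -, hZc⟩ := exists_isTy (τ := Ty.A (ν + 2)) (by change 1 ≤ ν + 2; omega)
    (by change 2 ≤ ν + 2; omega) (cA (ν + 2)).toCoxeterSystem hp.out hp2 D.hyp S Xs Xn comm plane
    (fun J hJ => by
      rw [← hS] at hJ
      obtain ⟨k, rfl⟩ := hJ
      by_cases hk : k = o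
      · refine ⟨delta Om (K m), C₂.c, (0 : Fin (ν + 2)), C₂.lk (rtA (al o) (be o)), trivial, ?_, hΔ m, ?_⟩
        · have := at2 hab
          rw [e1, e2] at this
          exact this
        · rw [hk]
          exact E.Kle o m hom
      · exact ⟨delta Om (K o), C₁.c, (z0.succ.succ : Fin (ν + 2)), _, trivial, at1 (pi_ne' π z0), hΔo,
          E.Kle k o hk⟩)
  refine ⟨G0, c, hc, hZc, hK, hΔ, ?_⟩
  -- the sign groups
  have hG : G0 = ⨆ e : {e : ι → SignType // e ≠ 0 ∧ ∃ i, e i = 0}, XX (QF K X) e.1 := by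
    apply le_antisymm
    · have hle : ∀ e : ι → SignType, (∃ i, e i ≠ 0) → (∃ i, e i = 0) →
          XX (QF K X) e ≤ ⨆ e : {e : ι → SignType // e ≠ 0 ∧ ∃ i, e i = 0}, XX (QF K X) e.1 := fun e he he' =>
        le_iSup (fun e : {e : ι → SignType // e ≠ 0 ∧ ∃ i, e i = 0} => XX (QF K X) e.1)
          ⟨e, fun h => by obtain ⟨i, hi⟩ := he; exact hi (congrFun h i), he'⟩
      have nc : ∀ (l : ι) (C : ACh Om K X (QF K X) {i | i ≠ l} (delta Om (K l)) p ν) (x : Fin ν → ℤ),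
          IsRoot C.cs (RootsA.isCartan ν) x → (∃ i, i ≠ l ∧ cpr C.cs (RootsA.isCartan ν) x (C.g i) ≠ 0) →
          C.Xc x ≤ ⨆ e : {e : ι → SignType // e ≠ 0 ∧ ∃ i, e i = 0}, XX (QF K X) e.1 := by
        intro l C x hx hi
        obtain ⟨i, hil, hi⟩ := hi
        refine (C.fr.le_XX Fr (e := fun i => if i = l then 0 else SignType.sign (cpr C.cs (RootsA.isCartan ν) x (C.g i)))
          (fun i hi => ?_) hx (fun i hi => ?_)).trans (hle _ ⟨i, ?_⟩ ⟨l, if_pos rfl⟩)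
        · have : i = l := by by_contra hne; exact hi hne
          exact if_pos this
        · exact (if_neg hi).symm
        · rw [if_neg hil]
          exact fun h => hi (sign_eq_zero_iff.1 h)
      have nk : ∀ t : SignType, t ≠ 0 →
          X o t ≤ ⨆ e : {e : ι → SignType // e ≠ 0 ∧ ∃ i, e i = 0}, XX (QF K X) e.1 := by
        intro t ht
        refine (X_le_XX Fr (k := o) ht (e := fun i => if i = o then t else 0) (if_pos rfl)
          (fun i hi => if_neg hi)).trans (hle _ ⟨o, ?_⟩ ⟨m, if_neg hom.symm⟩)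
        rw [if_pos rfl]; exact ht
      refine iSup_le fun i => ?_
      rcases fin_cases' i with rfl | rfl | ⟨i, rfl⟩
      · exact sup_le (nk 1 (by decide)) (nk (-1) (by decide))
      · refine sup_le (nc m C₂ _ (isRoot_rtA _ _ hef) ⟨o, hom, ?_⟩)
          (nc m C₂ _ (isRoot_rtA _ _ hef.symm) ⟨o, hom, ?_⟩)
        · rw [H₂.eq o hom, q1]; norm_num
        · rw [H₂.eq o hom, ← rtA_neg, cpr_neg _ _ _ (isRoot_rtA _ _ hab), q1]; norm_num
      · -- a node of `C₁`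
        obtain ⟨k, ε, hk⟩ := KindA.exists_fi i.castSucc (by rw [Fin.val_castSucc]; omega)
        have key : ∀ u v : Fin (ν + 1), u ≠ v → (u = π i.castSucc ∨ v = π i.castSucc) →
            cpr C₁.cs (RootsA.isCartan ν) (rtA u v) (C₁.g (σ k)) ≠ 0 := by
          intro u v huv hor h0
          rw [H.eq k, KindA.cpr_eq_zero_iff _ _ huv (fun e => KindA.fi_ne k (π.injective e))] at h0
          have h1 : π i.castSucc = π (KindA.fi ν k 0) ∨ π i.castSucc = π (KindA.fi ν k 1) := by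
            rw [hk]
            match ε with
            | 0 => exact Or.inl rfl
            | 1 => exact Or.inr rfl
          rcases hor with rfl | rfl <;> rcases h1 with h1 | h1
          · exact h0.1 h1
          · exact h0.2.1 h1
          · exact h0.2.2.1 h1
          · exact h0.2.2.2 h1
        exact sup_le (nc o C₁ _ (isRoot_rtA _ _ (pi_ne' π i)) ⟨σ k, H.ne k, key _ _ (pi_ne' π i) (Or.inl rfl)⟩)
          (nc o C₁ _ (isRoot_rtA _ _ (pi_ne' π i).symm) ⟨σ k, H.ne k, key _ _ (pi_ne' π i).symm (Or.inr rfl)⟩)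
    · refine iSup_le ?_
      rintro ⟨e, he0, l, hl⟩
      obtain ⟨i, hi⟩ : ∃ i, e i ≠ 0 := by
        by_contra hcon
        push Not at hcon
        exact he0 (funext hcon)
      exact (E.XX_le hl hi).trans (hΔ l)
  exact frame_close_partial D.hyp S Fr hS hinj (fun _ => rfl) (q := Fintype.card F)
    (fun i => ⟨F, inferInstance, inferInstance, rfl, let ⟨e, _⟩ := D.sl i; ⟨e⟩⟩)
    (fun i s hs => D.card_X i hs) (fun i s hs => QF_of_ne K X i hs) hG hK hΔ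

end Cfsg.Agent.Cit.TypeAEnd
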