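import Mathlib
import Cfsg.Agent.Cit.DispFour
import Cfsg.Agent.Cit.FourMatch
import Cfsg.Agent.Cit.TypeF4End
import Cfsg.Agent.Cit.TypeAEnd
import Cfsg.Agent.Cit.CloseOut
import Cfsg.Agent.Nodes.TyCox

/-!
# Four members with different involutions: the identification (project CIT, S1310)

`In4.out` : the input `In4` gives the output sentence with a type in `C 4`, `A 7`, `A 8`, `F4`, `E6`.
-/

set_option autoImplicit false
set_option linter.unusedSectionVars false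
set_option linter.dupNamespace false

namespace Cfsg.Agent.Cit.DispFour

open CoxeterSystem Cfsg.Agent.Nodes.Chart Cfsg.Agent.Cit.FrameOf Cfsg.Agent.Cit.FrameClose Cfsg.Agent.Cit.FrameSign
open Subgroup

/-- the statement of the owner of type `A` -/
def TypeAStmt {G : Type*} [Group G] (Om : Set (Subgroup G)) (p : ℕ) (K : Fin 4 → Subgroup G)
    (X : Fin 4 → SignType → Subgroup G) : Prop :=
  ∀ ν : ℕ, (ν = 5 ∨ ν = 6) → (∀ l, FrameOf.Piece Om (zz (K l)) (delta Om (K l))) →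
    (∀ l, ∃ c : Chart Om p (delta Om (K l)), c.IsTy (Nodes.Chart.Ty.A ν)) →
    (ν = 5 → ∀ e : Fin 4 → SignType, (∀ i, e i ≠ 0) → XX (QF K X) e = ⊥) →
    ∃ (G₀ : Subgroup G) (c : Chart Om p G₀), c.IsTy (Nodes.Chart.Ty.A (ν + 2)) ∧ (∀ i, K i ≤ G₀) ∧
      (∀ i, delta Om (K i) ≤ G₀) ∧
      ∀ J ∈ Om, J ≤ G₀ → Subgroup.normalizer (J : Set G) ≤ Subgroup.normalizer (G₀ : Set G)

namespace In4

variable {G : Type*} [Group G] [Finite G] {Om : Set (Subgroup G)} {F : Type} [Field F] [Fintype F] {p : ℕ}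
  [CharP F p] {S : Sylow 2 G} {K : Fin 4 → Subgroup G} {X : Fin 4 → SignType → Subgroup G}
  (I : In4 Om F p (S : Subgroup G) K X)

include I

/-- **(II), `C 3` and `B 4`** : type `F4`. -/
theorem out_F4 {a b : Fin 4} (hab : a ≠ b)
    {L : Subgroup G} (c₂ : Chart Om p L) (ht₂ : c₂.IsTy (.B 4)) (P₂ : FrameOf.Piece Om (zz (K a) * zz (K b)) L)
    (hK₂ : ∀ i, K i ≤ L) (hc : ∀ k, ∃ c : Chart Om p (delta Om (K k)), c.IsTy (.C 3)) : Out Om p K .F4 := by
  obtain ⟨e, rfl, rfl⟩ := exists_perm a b hab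
  obtain ⟨c₁, ht₁⟩ := hc (e 0)
  obtain ⟨G₀, c, h1, h2, -, -, h3, h4, -, h5⟩ := TypeF4End.exists_chart (dat_comp I.dat e) I.odd
    (fun i => I.good (e i)) S ((range_comp e).trans I.range) (I.one (e 0)).1 c₁ ht₁
    (fun i hi => I.le_delta' fun h => hi (e.injective h)) P₂ c₂ ht₂ fun i => hK₂ (e i)
  exact Out.of_comp (e := e) ⟨G₀, c, h1, trivial, show 3 ≤ 4 by norm_num, Or.inl h2, h3, h4, h5⟩

/-- **(II)** : types `F4` and `E6`. -/
theorem out_big (hII : Big Om p K) : ∃ τ, Out Om p K τ := by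
  obtain ⟨τ₁, h1, h2⟩ := I.uniform
  have hII' := hII
  obtain ⟨a, b, L, τ₂, hab, h3, ⟨c₂, ht₂⟩, P₂, hK₂, -⟩ := hII
  have h4 : τ₁ = .C 3 ∨ τ₁ = .A 5 := by
    rcases h1 with h1 | h1 | h1
    · exact Or.inl h1
    · exact Or.inr h1
    · subst h1
      exact (I.not_A6 hII' h2).elim
  -- the types match
  obtain ⟨e, rfl, rfl⟩ := exists_perm a b hab
  obtain ⟨c₁, ht₁⟩ := h2 (e 0)
  have h5 := FourMatch.match_types (dat_comp I.dat e) I.odd (fun i => I.good (e i)) (b := 0) (Or.inl rfl)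
    (I.one (e 0)).1 c₁ (fun i hi => I.le_delta' fun h => hi (e.injective h)) P₂ c₂ (fun i => hK₂ (e i))
    (by rcases h4 with rfl | rfl
        · exact Or.inl ht₁
        · exact Or.inr ht₁)
    (by rcases h3 with rfl | rfl | rfl
        · exact Or.inl ht₂
        · exact Or.inr (Or.inl ht₂)
        · exact Or.inr (Or.inr ht₂))
  rcases h5 with ⟨h6, h7⟩ | ⟨h6, h7⟩
  · exact ⟨_, I.out_F4 hab c₂ h7 P₂ hK₂ (charts_of_one I.dat.hyp I.cls ⟨c₁, h6⟩)⟩
  · let cs : CoxeterSystem (Nodes.Chart.Ty.E6).M (Nodes.Chart.Ty.E6).M.Group := (Nodes.Chart.Ty.E6).M.toCoxeterSystem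
    have : Finite (Nodes.Chart.Ty.E6).M.Group := Nodes.Chart.Ty.finite_group _
    let _ : Fintype (Nodes.Chart.Ty.E6).M.Group := Fintype.ofFinite _
    exact ⟨_, I.out_E6 (W := (Nodes.Chart.Ty.E6).M.Group) cs hab c₂ h7 P₂ hK₂
      (charts_of_one I.dat.hyp I.cls ⟨c₁, h6⟩)⟩

/-- **(I)** : types `C 4`, `A 7` and `A 8`. -/
theorem out_sep (hA : TypeAStmt Om p K X) (hI : Sep Om K) : ∃ τ, Out Om p K τ := by
  obtain ⟨τ₁, h1, h2⟩ := I.uniform
  have key : ∀ ν : ℕ, (ν = 5 ∨ ν = 6) → (∀ k, ∃ c : Chart Om p (delta Om (K k)), c.IsTy (.A ν)) →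
      Out Om p K (.A (ν + 2)) := by
    intro ν hν hc
    obtain ⟨G₀, c, h3, h4, h5, h6⟩ := hA ν hν (fun l => (I.one l).1) hc fun _ e he => I.full_bot hI he
    refine ⟨G₀, c, h3, show 2 ≤ ν + 2 by omega, show 3 ≤ ν + 2 by omega, Or.inl ?_, h4, h5, h6⟩
    exact TypeESixEnd.Z_eq_X c h3 (TypeESixEnd.slTy_A _) I.dat.hyp (show 2 ≤ ν + 2 by omega)
  rcases h1 with rfl | rfl | rfl
  · exact ⟨_, I.out_C4 hI h2⟩
  · exact ⟨_, key 5 (Or.inl rfl) h2⟩
  · exact ⟨_, key 6 (Or.inr rfl) h2⟩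

/-- **The identification**, type `A` as an hypothesis -/
theorem out_of (hA : TypeAStmt Om p K X) : ∃ τ, Out Om p K τ :=
  I.two.elim (I.out_sep hA) I.out_big

/-- type `A` -/
theorem typeA : TypeAStmt Om p K X := by
  intro ν hν _ ch full
  obtain ⟨G₀, c, h1, -, h2, h3, h4⟩ := TypeAEnd.exists_chart I.dat I.odd I.good S I.range (ν := ν)
    (by omega) (by rw [Nat.card_eq_fintype_card, Fintype.card_fin]; omega) ch full
  exact ⟨G₀, c, h1, h2, h3, h4⟩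

/-- **The identification** -/
theorem out : ∃ τ, Out Om p K τ := I.out_of I.typeA

end In4

/-- **`HasPieces` from the output sentence** -/
theorem Out.hasPieces {G : Type*} [Group G] [Finite G] {Om : Set (Subgroup G)} {F : Type} [Field F] [Fintype F] {p : ℕ}
    [CharP F p] {K : Fin 4 → Subgroup G} {X : Fin 4 → SignType → Subgroup G} {τ : Nodes.Chart.Ty}
    (o : Out Om p K τ) (h : MinS Om) (hcore : ∀ K ∈ Om, OO K = ⊥) (D : Dat Om F K X)
    (hconn : ∀ C : Set (Subgroup G), C ⊆ Om → C.Nonempty → (∀ K ∈ C, ∀ L ∈ Om, TypeDet.cm K L → L ∈ C) → C = Om) :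
    HasPieces Om := by
  obtain ⟨G₀, c, h1, h2, h3, h4, h5, h6, -⟩ := o
  refine CloseOut.hasPieces_of_conn h hcore c τ h1 h2 h3 ⟨F, inferInstance, inferInstance, inferInstance, ?_⟩ h4
    (D.mem 0) (h5 0) (h6 0) hconn
  intro J hJ
  obtain ⟨g, rfl⟩ := h.cls _ (D.mem 0) J hJ
  obtain ⟨e, -, -⟩ := D.sl 0
  exact ⟨e.trans ((K 0).equivMapOfInjective (MulAut.conj g).toMonoidHom (MulAut.conj g).injective)⟩

end Cfsg.Agent.Cit.DispFour
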