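import Cfsg.Agent.Nodes.Frame
import Cfsg.Agent.Nodes.StdConn

/-!
# The frame lemma for COROLLARY E (FRAME')

* `Sw y i e` : the element `e` fixes `y` and `i` or swaps them; `relIndex_le_two`;
* `Half p L E` : the `p`-elements `y` of `L` such that `C_E(y)` has index at most two in `E`;
* `le_closure_half` : `C : Chart Om p L`, `F` a set of pairwise commuting members of `Om` in `L`, all elements of `𝒵`
  centralise `L` or are involutions `zz K`, `K ∈ F` : `L` is generated by `Half p L (closure 𝒵)`.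
-/

set_option autoImplicit false
set_option linter.unusedSectionVars false
set_option linter.dupNamespace false

namespace Cfsg.Agent.Cit.FrameGood

open CoxeterSystem Cfsg.Agent.ChevalleyStructure.CoxeterGeom Cfsg.Agent.Tits.Roots Cfsg.Agent.Tits.Core
  Cfsg.Agent.Tits.RootComb Cfsg.Agent.Nodes.Comb Cfsg.Agent.Nodes.Reps Cfsg.Agent.Nodes.BNOf
  Cfsg.Agent.Nodes.RGDLib Cfsg.Agent.Nodes.Chart Cfsg.Agent.Nodes.Bruhat
open Cfsg.Agent.Nodes Subgroup

/-! ### Two-valued actions -/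

section Two

variable {G : Type*} [Group G]

/-- `e` fixes `y` and `i`, or it swaps them -/
def Sw (y i e : G) : Prop :=
  (e * y * e⁻¹ = y ∧ e * i * e⁻¹ = i) ∨ (e * y * e⁻¹ = i ∧ e * i * e⁻¹ = y)

theorem Sw.mul {y i e f : G} (he : Sw y i e) (hf : Sw y i f) : Sw y i (e * f) := by
  have key : ∀ a, e * f * a * (e * f)⁻¹ = e * (f * a * f⁻¹) * e⁻¹ := fun a => by group
  unfold Sw at *
  rw [key, key]
  rcases he with ⟨h1, h2⟩ | ⟨h1, h2⟩ <;> rcases hf with ⟨h3, h4⟩ | ⟨h3, h4⟩ <;> rw [h3, h4]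
  · exact Or.inl ⟨h1, h2⟩
  · exact Or.inr ⟨h2, h1⟩
  · exact Or.inr ⟨h1, h2⟩
  · exact Or.inl ⟨h2, h1⟩

theorem Sw.inv {y i e : G} (he : Sw y i e) : Sw y i e⁻¹ := by
  rcases he with ⟨h1, h2⟩ | ⟨h1, h2⟩
  · left
    constructor
    · nth_rewrite 1 [← h1]; group
    · nth_rewrite 1 [← h2]; group
  · right
    constructor
    · rw [← h2]; group
    · rw [← h1]; group

theorem Sw.of_comm {y i e : G} (h1 : e * y = y * e) (h2 : e * i = i * e) : Sw y i e := by
  left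
  rw [h1, h2]
  constructor <;> group

theorem Sw.self {e y : G} (he : e * e = 1) : Sw y (e * y * e⁻¹) e := by
  right
  refine ⟨rfl, ?_⟩
  have h1 : e⁻¹ = e := inv_eq_of_mul_eq_one_right he
  calc e * (e * y * e⁻¹) * e⁻¹ = (e * e) * y * (e * e)⁻¹ := by group
    _ = y := by rw [he]; group

theorem Sw.of_conj {a i e d : G} (h : Sw a i (d * e * d⁻¹)) : Sw (d⁻¹ * a * d) (d⁻¹ * i * d) e := by
  have key : ∀ c, e * (d⁻¹ * c * d) * e⁻¹ = d⁻¹ * (d * e * d⁻¹ * c * (d * e * d⁻¹)⁻¹) * d := fun c => by group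
  unfold Sw at *
  rw [key, key]
  rcases h with ⟨h1, h2⟩ | ⟨h1, h2⟩ <;> rw [h1, h2]
  · exact Or.inl ⟨rfl, rfl⟩
  · exact Or.inr ⟨rfl, rfl⟩

theorem sw_closure {S : Set G} {y i : G} (h : ∀ e ∈ S, Sw y i e) : ∀ e ∈ closure S, Sw y i e := by
  intro e he
  induction he using closure_induction with
  | mem x hx => exact h x hx
  | one => left; simp
  | mul x z _ _ h1 h2 => exact h1.mul h2
  | inv x _ h1 => exact h1.inv

/-- `E = (E ⊓ H) ∪ e₀ (E ⊓ H)` -/
theorem relIndex_le_two_of {E H : Subgroup G} {e₀ : G} (he₀ : e₀ ∈ E)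
    (h : ∀ e ∈ E, e ∈ H ∨ e₀⁻¹ * e ∈ H) : (E ⊓ H).relIndex E ≤ 2 := by
  let N : Subgroup E := (E ⊓ H).subgroupOf E
  let f : Bool → E ⧸ N := fun b => if b then QuotientGroup.mk 1 else QuotientGroup.mk ⟨e₀, he₀⟩
  have hf : Function.Surjective f := by
    intro q
    obtain ⟨e, rfl⟩ := QuotientGroup.mk_surjective q
    rcases h e e.2 with h1 | h1
    · refine ⟨true, ?_⟩
      change QuotientGroup.mk 1 = QuotientGroup.mk e
      rw [QuotientGroup.eq, inv_one, one_mul]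
      exact ⟨e.2, h1⟩
    · refine ⟨false, ?_⟩
      change QuotientGroup.mk ⟨e₀, he₀⟩ = QuotientGroup.mk e
      rw [QuotientGroup.eq]
      exact ⟨E.mul_mem (E.inv_mem he₀) e.2, h1⟩
  have h1 := Nat.card_le_card_of_surjective f hf
  rw [Nat.card_eq_fintype_card (α := Bool), Fintype.card_bool] at h1
  exact h1

theorem relIndex_le_two {E : Subgroup G} {y i : G} (h : ∀ e ∈ E, Sw y i e) :
    (E ⊓ centralizer {y}).relIndex E ≤ 2 := by
  obtain ⟨e₀, he₀, h0⟩ : ∃ e₀ ∈ E, ∀ e ∈ E, e * y = y * e ∨ (e₀⁻¹ * e) * y = y * (e₀⁻¹ * e) := by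
    by_cases hall : ∀ e ∈ E, e * y * e⁻¹ = y
    · exact ⟨1, E.one_mem, fun e he => Or.inl (mul_inv_eq_iff_eq_mul.1 (hall e he))⟩
    · push Not at hall
      obtain ⟨e₀, he₀, h1⟩ := hall
      refine ⟨e₀, he₀, fun e he => ?_⟩
      have h2 : e₀ * y * e₀⁻¹ = i := by
        rcases h e₀ he₀ with h2 | h2
        · exact absurd h2.1 h1
        · exact h2.1
      rcases h e he with h3 | h3
      · exact Or.inl (mul_inv_eq_iff_eq_mul.1 h3.1)
      · right
        have h4 : e * y * e⁻¹ = e₀ * y * e₀⁻¹ := by rw [h3.1, h2]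
        calc e₀⁻¹ * e * y = e₀⁻¹ * (e * y * e⁻¹) * e := by group
          _ = e₀⁻¹ * (e₀ * y * e₀⁻¹) * e := by rw [h4]
          _ = y * (e₀⁻¹ * e) := by group
  refine relIndex_le_two_of he₀ fun e he => ?_
  rw [mem_centralizer_singleton_iff, mem_centralizer_singleton_iff]
  exact h0 e he

/-- the `p`-elements of `L` centralised by a subgroup of index at most two of `E` -/
def Half (p : ℕ) (L E : Subgroup G) : Set G :=
  {y | y ∈ L ∧ IsPGroup p (zpowers y) ∧ (E ⊓ centralizer {y}).relIndex E ≤ 2}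

end Two

/-! ### Charts -/

section Chart

variable {G : Type*} [Group G] {Om : Set (Subgroup G)} {p : ℕ} {L : Subgroup G}

theorem GG_eq (C : Chart Om p L) : GG C.cs C.h C.T C.X = L := by
  have h1 : G1 C.cs C.h C.X = L := C.gen
  unfold GG
  unfold G1 at h1
  rw [h1]
  exact sup_eq_right.2 C.T_le

theorem X_le (C : Chart Om p L) {x : C.I → ℤ} (hx : IsRoot C.cs C.h x) : C.X x ≤ L :=
  (X_le_G1 hx).trans C.gen.le

theorem exists_isCls (C : Chart Om p L) {K : Subgroup G} (hK : K ∈ Om) (hKL : K ≤ L) :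
    ∃ P Q, Frame.IsCls C.cs C.h C.T C.X C.R C.Z P ∧ Frame.IsCls C.cs C.h C.T C.X C.R C.Z Q ∧
      ¬ IsPGroup p ↥(P ⊔ Q) ∧ K = P ⊔ Q := by
  obtain ⟨r, hr, g, hg, rfl⟩ := C.om_conj K hK hKL
  refine ⟨Reps.cj g (C.Z r), Reps.cj g (C.Z (-r)), ⟨r, hr, g, by rw [GG_eq]; exact hg, rfl⟩,
    ⟨-r, StdConn.neg_mem C.cls hr, g, by rw [GG_eq]; exact hg, rfl⟩, ?_, cj_sup _ _ _⟩
  intro hp
  rw [← Reps.cj_sup] at hp
  exact C.cls.notp r hr (hp.of_equiv ((C.Z r ⊔ C.Z (-r)).equivMapOfInjective (MulAut.conj g).toMonoidHom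
    (MulAut.conj g).injective).symm)

/-- **(K1)** (cf. `ChartFrame.frame`) -/
theorem frame (C : Chart Om p L) {κ : Type*} [Finite κ] (K : κ → Subgroup G) (hK : ∀ j, K j ∈ Om)
    (hKL : ∀ j, K j ≤ L) (hc : ∀ i j, i ≠ j → ∀ a ∈ K i, ∀ b ∈ K j, a * b = b * a) :
    ∃ d ∈ L, ∃ s : κ → C.I → ℤ, (∀ j, s j ∈ C.R) ∧
      (∀ j, Reps.cj d (K j) = C.Z (s j) ⊔ C.Z (-s j)) ∧
      ∀ i j, i ≠ j → form C.cs C.h (s i) (s j) = 0 := by
  obtain ⟨m, ⟨e⟩⟩ := Finite.exists_equiv_fin κ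
  have h1 := fun j => exists_isCls C (hK j) (hKL j)
  choose P Q hP hQ hnp hPQ using h1
  obtain ⟨d, hd, s, h2, h3, h4, h5⟩ := Frame.frame m C.cls (fun j => P (e.symm j)) (fun j => Q (e.symm j))
    (fun j => hP _) (fun j => hQ _) (fun j => hnp _)
    (fun i j hij => by
      rw [← hPQ, ← hPQ]
      exact hc _ _ fun h0 => hij (e.symm.injective h0))
  rw [GG_eq] at hd
  refine ⟨d, hd, fun j => s (e j), fun j => h2 _, fun j => ?_, fun i j hij => ?_⟩
  · have h7 := h3 (e j)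
    have h8 := h4 (e j)
    rw [Equiv.symm_apply_apply] at h7 h8
    rw [hPQ j, Reps.cj_sup, h7, h8]
  · exact h5 _ _ fun h0 => hij (e.injective h0)

/-- In rank at least two every root is joined to another one. -/
theorem exists_not_orth (C : Chart Om p L) {i₀ j₀ : C.I} (hij : i₀ ≠ j₀) {r : C.I → ℤ}
    (hr : IsRoot C.cs C.h r) : ∃ y, IsRoot C.cs C.h y ∧ y ≠ r ∧ y ≠ -r ∧ form C.cs C.h y r ≠ 0 := by
  obtain ⟨w, i, rfl⟩ := hr
  obtain ⟨c, hc, j, hj, hm⟩ := C.irr {i} (Set.singleton_nonempty i) (by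
    intro e
    have h1 : i₀ ∈ ({i} : Set C.I) := by rw [e]; trivial
    have h2 : j₀ ∈ ({i} : Set C.I) := by rw [e]; trivial
    rw [Set.mem_singleton_iff] at h1 h2
    exact hij (h1.trans h2.symm))
  rw [Set.mem_singleton_iff] at hc
  subst hc
  have hcj : c ≠ j := by rintro rfl; exact hj rfl
  refine ⟨rep C.cs C.h w (sr j), (isRoot_sr C.cs C.h j).act w, ?_, ?_, ?_⟩
  · intro e
    have e' := rep_injective_apply C.cs C.h w e
    have := congrFun e' j
    rw [sr_self, sr_ne hcj.symm] at this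
    exact one_ne_zero this
  · intro e
    rw [← map_neg] at e
    have e' := rep_injective_apply C.cs C.h w e
    have := congrFun e' j
    rw [sr_self, Pi.neg_apply, sr_ne hcj.symm] at this
    omega
  · rw [form_rep]
    have h1 := OrthRoot.two_form_sr C.cs C.h c j
    have h2 := cartan_neg C.h hcj hm
    have h3 := form_pos C.cs C.h (sr_ne_zero c)
    intro h0
    rw [h0, mul_zero] at h1
    have h4 := mul_neg_of_neg_of_pos h2 h3
    linarith

theorem z_ne_one_of_ne (C : Chart Om p L) {i₀ j₀ : C.I} (hij : i₀ ≠ j₀) : ∀ r ∈ C.R, C.z r ≠ 1 := by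
  intro r hr
  obtain ⟨y, hy, h1, h2, h3⟩ := exists_not_orth C hij (C.cls.root r hr)
  exact StdConn.z_ne_one C.cls C.prime C.odd hr hy h1 h2 h3

/-- Two orthogonal roots: the rank is at least two. -/
theorem exists_ne_of_orth (C : Chart Om p L) {r s : C.I → ℤ} (hr : IsRoot C.cs C.h r)
    (hs : IsRoot C.cs C.h s) (h0 : form C.cs C.h r s = 0) : ∃ i₀ j₀ : C.I, i₀ ≠ j₀ := by
  by_contra hcon
  push Not at hcon
  obtain ⟨i⟩ := C.ne
  have key : ∀ r : C.I → ℤ, r = r i • (sr i : C.I → ℤ) := by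
    intro r
    funext j
    rw [hcon j i, Pi.smul_apply, sr_self, smul_eq_mul, mul_one]
  have h1 : r i ≠ 0 := by
    intro h1
    apply hr.ne_zero
    rw [key r, h1, zero_smul]
  have h2 : s i ≠ 0 := by
    intro h2
    apply hs.ne_zero
    rw [key s, h2, zero_smul]
  have h3 := form_pos C.cs C.h (sr_ne_zero i)
  rw [key r, key s, form_smul_left, form_smul_right] at h0
  rcases mul_eq_zero.1 h0 with h4 | h4
  · exact h1 h4
  · rcases mul_eq_zero.1 h4 with h5 | h5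
    · exact h2 h5
    · exact h3.ne' h5

variable [Finite G]

/-- **FRAME'** -/
theorem le_closure_half (hyp : Cit.Hyp Om) (C : Chart Om p L) {S : Set G} {F : Set (Subgroup G)}
    (hF : ∀ K ∈ F, K ∈ Om ∧ K ≤ L)
    (hc : ∀ K ∈ F, ∀ J ∈ F, K ≠ J → ∀ a ∈ K, ∀ b ∈ J, a * b = b * a)
    (hS : ∀ e ∈ S, e ∈ centralizer (L : Set G) ∨ ∃ K ∈ F, Cit.zz K = e) :
    L ≤ closure (Half p L (closure S)) := by
  suffices hs : ∃ g ∈ L, ∀ x, IsRoot C.cs C.h x → ∀ a ∈ C.X x, ∃ i ∈ L, ∀ K ∈ F,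
      Sw (g⁻¹ * a * g) i (Cit.zz K) by
    obtain ⟨g, hg, hs⟩ := hs
    have h1 : L ≤ Cit.cj g (closure (Half p L (closure S))) := by
      have h2 : G1 C.cs C.h C.X ≤ Cit.cj g (closure (Half p L (closure S))) := by
        refine RGD.Sup_le ?_
        intro x hx a ha
        rw [Cit.mem_cj]
        apply Subgroup.subset_closure
        have haL : a ∈ L := X_le C hx ha
        have hyL : g⁻¹ * a * g ∈ L := L.mul_mem (L.mul_mem (L.inv_mem hg) haL) hg
        refine ⟨hyL, ?_, ?_⟩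
        · have : Fact p.Prime := ⟨C.prime⟩
          have h3 : IsPGroup p (zpowers a) := (C.cls.rgd.pgrp' hx).to_le (zpowers_le.2 ha)
          have h4 : zpowers (g⁻¹ * a * g) = Cit.cj g⁻¹ (zpowers a) := by
            rw [Cit.cj_def, MonoidHom.map_zpowers]; simp
          rw [h4]
          exact Cit.isPGroup_cj h3
        · obtain ⟨i, hi, h3⟩ := hs x hx a ha
          refine relIndex_le_two (i := i) (sw_closure ?_)
          intro e he
          rcases hS e he with h4 | ⟨K, hK, rfl⟩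
          · exact Sw.of_comm (mem_centralizer_iff.1 h4 _ hyL).symm (mem_centralizer_iff.1 h4 _ hi).symm
          · exact h3 K hK
      rwa [C.gen] at h2
    intro l hl
    have h2 := h1 (L.mul_mem (L.mul_mem hg hl) (L.inv_mem hg))
    exact Cit.conj_mem_cj_iff.1 h2
  by_cases hF1 : F.Subsingleton
  · refine ⟨1, L.one_mem, fun x hx a ha => ?_⟩
    have haL : a ∈ L := X_le C hx ha
    rcases F.eq_empty_or_nonempty with rfl | ⟨K₀, hK₀⟩
    · exact ⟨a, haL, fun K hK => absurd hK (Set.notMem_empty K)⟩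
    · have hz : Cit.zz K₀ ∈ L := (hF K₀ hK₀).2 (hyp.zz_mem (hF K₀ hK₀).1)
      refine ⟨Cit.zz K₀ * a * (Cit.zz K₀)⁻¹, L.mul_mem (L.mul_mem hz haL) (L.inv_mem hz), fun K hK => ?_⟩
      rw [hF1 hK hK₀, inv_one, one_mul, mul_one]
      exact Sw.self (hyp.zz_mul (hF K₀ hK₀).1)
  · rw [Set.not_subsingleton_iff] at hF1
    obtain ⟨K₁, hK₁, K₂, hK₂, h12⟩ := hF1
    obtain ⟨d, hd, s, hs1, hs2, hs3⟩ := frame C (κ := F) (fun K => K.1) (fun K => (hF K.1 K.2).1)
      (fun K => (hF K.1 K.2).2) (fun K J hKJ a ha b hb => hc K.1 K.2 J.1 J.2 (fun h => hKJ (Subtype.ext h)) a ha b hb)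
    obtain ⟨i₀, j₀, hij⟩ := exists_ne_of_orth C (C.cls.root _ (hs1 ⟨K₁, hK₁⟩)) (C.cls.root _ (hs1 ⟨K₂, hK₂⟩))
      (hs3 _ _ fun h => h12 (congrArg Subtype.val h))
    have hz1 := z_ne_one_of_ne C hij
    have hz : ∀ K : F, d * Cit.zz K.1 * d⁻¹ = C.z (s K) := by
      intro K
      rw [← hyp.zz_cj (hF K.1 K.2).1 d, ← StdConn.zz_eq hyp C (hs1 K) (hz1 _ (hs1 K))]
      exact congrArg Cit.zz (hs2 K)
    refine ⟨d, hd, fun x hx a ha => ?_⟩
    have haL : a ∈ L := X_le C hx ha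
    suffices h : ∃ i ∈ L, ∀ K : F, Sw a i (C.z (s K)) by
      obtain ⟨i, hi, h⟩ := h
      refine ⟨d⁻¹ * i * d, L.mul_mem (L.mul_mem (L.inv_mem hd) hi) hd, fun K hK => Sw.of_conj ?_⟩
      rw [hz ⟨K, hK⟩]
      exact h ⟨K, hK⟩
    by_cases hx0 : ∃ K₀ : F, x = s K₀ ∨ x = -s K₀
    · obtain ⟨K₀, hK₀⟩ := hx0
      have hzT : C.z (s K₀) ∈ C.T := C.cls.z_torus _ (hs1 K₀)
      have hzL := C.T_le hzT
      have hiX : C.z (s K₀) * a * (C.z (s K₀))⁻¹ ∈ C.X x := by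
        have h1 := C.cls.rgd.tor x hx _ hzT
        rw [← h1]
        exact Reps.conj_mem_cj.2 ha
      refine ⟨C.z (s K₀) * a * (C.z (s K₀))⁻¹, L.mul_mem (L.mul_mem hzL haL) (L.inv_mem hzL), fun K => ?_⟩
      by_cases hKK : K = K₀
      · rw [hKK]
        exact Sw.self (C.cls.z_sq _ (hs1 K₀))
      · have h0 : form C.cs C.h x (s K) = 0 := by
          rcases hK₀ with rfl | rfl
          · exact hs3 _ _ fun h => hKK h.symm
          · rw [form_neg_left, hs3 _ _ fun h => hKK h.symm, neg_zero]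
        exact Sw.of_comm (StdConn.comm_z C.cls hx (hs1 K) h0 ha).symm
          (StdConn.comm_z C.cls hx (hs1 K) h0 hiX).symm
    · push Not at hx0
      refine ⟨a⁻¹, L.inv_mem haL, fun K => ?_⟩
      by_cases h0 : form C.cs C.h x (s K) = 0
      · exact Sw.of_comm (StdConn.comm_z C.cls hx (hs1 K) h0 ha).symm
          (StdConn.comm_z C.cls hx (hs1 K) h0 ((C.X x).inv_mem ha)).symm
      · have h1 := C.cls.z_inv _ (hs1 K) x hx (hx0 K).1 (hx0 K).2 h0 a ha
        have h2 : (C.z (s K))⁻¹ = C.z (s K) := inv_eq_of_mul_eq_one_right (C.cls.z_sq _ (hs1 K))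
        have h3 : C.z (s K) * a * (C.z (s K))⁻¹ = a⁻¹ := by rw [h2]; exact h1
        right
        refine ⟨h3, ?_⟩
        calc C.z (s K) * a⁻¹ * (C.z (s K))⁻¹ = (C.z (s K) * a * (C.z (s K))⁻¹)⁻¹ := by group
          _ = a := by rw [h3, inv_inv]

end Chart

end Cfsg.Agent.Cit.FrameGood
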