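import Mathlib
import Cfsg.Agent.Cit.ExactPiece
import Cfsg.Agent.Cit.ExLocal
import Cfsg.Agent.Cit.DispGen
import Cfsg.Agent.Cit.FrameGood

/-!
# Exact typed pieces of `C(s)` (project CIT)

* `ne_C_one` : a chart with two commuting members is not of type `C 1`;
* `PT_eq_of_chn` : the members of a chain class of `Om ∩ H` lie over the same piece of `H / O(H)`;
* `typed_of_three` : a chain class of `Om ∩ H` containing three commuting members generates a typed piece.
-/

set_option autoImplicit false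
set_option linter.unusedSectionVars false
set_option linter.dupNamespace false

namespace Cfsg.Agent.Cit.DispLoc

open Subgroup Cfsg Cfsg.Agent.Cit.TypeDet Cfsg.Agent.Cit.FrameOf Cfsg.Agent.Nodes.Chart
  Cfsg.Agent.Cit.ExactChart Cfsg.Agent.Cit.PieceG Cfsg.Agent.Cit.PieceLift Cfsg.Agent.Cit.UseT Cfsg.Agent.Cit.ExLocal

universe u

variable {G : Type u} [Group G] {Om : Set (Subgroup G)}

/-- A chart with two commuting members is not of type `C 1`. -/
theorem ne_C_one {p : ℕ} {L : Subgroup G} (c : Chart Om p L) {τ : Nodes.Chart.Ty} (h : c.IsTy τ)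
    {A B : Subgroup G} (hA : A ∈ Om) (hB : B ∈ Om) (hAL : A ≤ L) (hBL : B ≤ L) (hc : cm A B) : τ ≠ .C 1 := by
  rintro rfl
  obtain ⟨d, -, s, hs, -, ho⟩ := FrameGood.frame c (κ := Fin 2) ![A, B]
    (by intro j; fin_cases j; exacts [hA, hB]) (by intro j; fin_cases j; exacts [hAL, hBL])
    (by
      intro i j hij
      fin_cases i <;> fin_cases j
      · exact absurd rfl hij
      · exact hc
      · exact cm_symm hc
      · exact absurd rfl hij)
  obtain ⟨i₀, j₀, hne⟩ := FrameGood.exists_ne_of_orth c (c.cls.root _ (hs 0)) (c.cls.root _ (hs 1))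
    (ho 0 1 (by decide))
  obtain ⟨e, -⟩ := h
  have h1 : ∀ a b : Fin 1, a = b := fun a b => Subsingleton.elim a b
  exact hne (e.injective (h1 (e i₀) (e j₀)))

variable [Finite G] {H : Subgroup G}

/-- The members of a chain class lie over the same piece. -/
theorem PT_eq_of_chn (b : LB Om) (C : CorG Om H) {X M : Subgroup G} (h : chn (TypeDet.OmIn Om H) X M) :
    PT Om H M = PT Om H X := by
  induction h with
  | refl => rfl
  | tail _ h2 ih => exact (b.PT_eq_of_not_cm C h2.1.1 h2.2.1.1 h2.1.2 h2.2.1.2 h2.2.2).symm.trans ih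

/-- A member of `Om` contained in the piece of `X` is linked to `X`. -/
theorem chn_of_le (hyp : Hyp Om) {T : Set (Subgroup G)} (hT : T ⊆ Om) {X A : Subgroup G} (hA : A ∈ T)
    (hle : A ≤ piece T X) : chn T X A := by
  by_contra hn
  have h1 : cm (piece T X) A := cm_sSup fun M hM => by
    by_contra hc
    exact hn (hM.2.tail ⟨hM.1, hA, hc⟩)
  exact not_cm_self hyp (hT hA) (cm_mono hle le_rfl h1)

/-- **A chain class of `Om ∩ H` containing three commuting members generates a typed piece.** -/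
theorem typed_of_three (b : LB Om) (C : CorG Om H) {F : Type*} [Field F] [Fintype F] {p : ℕ} [CharP F p]
    (hF : Odd (Fintype.card F)) (sl : ∀ J ∈ Om, Nonempty (Matrix.SpecialLinearGroup (Fin 2) F ≃* J))
    (good : ∀ J ∈ Om, ∀ P ≤ J, Nat.card P = Fintype.card F → Good p P (zz J)) {X A B D : Subgroup G}
    (hX : X ∈ TypeDet.OmIn Om H) (hA : A ∈ Om) (hB : B ∈ Om) (hD : D ∈ Om)
    (hA' : A ≤ piece (TypeDet.OmIn Om H) X) (hB' : B ≤ piece (TypeDet.OmIn Om H) X)
    (hD' : D ≤ piece (TypeDet.OmIn Om H) X) (h1 : cm A B) (h2 : cm A D) (h3 : cm B D) :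
    ∃ τ, TyPcE Om τ (piece (TypeDet.OmIn Om H) X) ∧
      ∃ c : Chart Om p (piece (TypeDet.OmIn Om H) X), c.IsTy τ ∧ ((∀ r ∈ c.R, c.Z r = c.X r) ∨ ∃ n, τ = .C n) := by
  have hyp := b.hyp
  have hf := fb_hyp hyp H
  have hle : piece (TypeDet.OmIn Om H) X ≤ H := DispGen.piece_le
  have hAH := hA'.trans hle
  have hBH := hB'.trans hle
  have hDH := hD'.trans hle
  have key : ∀ {M : Subgroup G}, M ∈ Om → M ≤ H → M ≤ piece (TypeDet.OmIn Om H) X → bar H M ≤ PT Om H X := by
    intro M hM hMH hMP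
    have h4 := chn_of_le hyp (T := TypeDet.OmIn Om H) (fun L hL => hL.1) ⟨hM, hMH⟩ hMP
    rw [← PT_eq_of_chn b C h4]
    exact bar_le_PT
  have e1 := (b.cm_iff C hA hB hAH hBH).2 h1
  have e2 := (b.cm_iff C hA hD hAH hDH).2 h2
  have e3 := (b.cm_iff C hB hD hBH hDH).2 h3
  have hP : Cit.Piece (fb Om H) (PT Om H X) := C.pcs.piece hf (bar_mem hX.1 hX.2)
  obtain ⟨τ, hτ⟩ := TypeDet.typed_of_three hf hP (bar_mem hA hAH) (bar_mem hB hBH) (bar_mem hD hDH)
    (key hA hAH hA') (key hB hBH hB') (key hD hDH hD') e1 e2 e3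
  obtain ⟨nmem, qs, -, ok, p', c, kind, small, sl', zx⟩ := hτ
  have hQ := qp_PT C hX.1 hX.2 nmem
  have hne : τ ≠ .C 1 := ne_C_one c kind (bar_mem hA hAH) (bar_mem hB hBH) (key hA hAH hA') (key hB hBH hB') e1
  obtain ⟨t1, t2, c', t3⟩ := tyPcE_DL C hQ (⟨nmem, qs, ok, p', c, kind, small, sl', zx⟩ : TyPcE (fb Om H) τ _)
    (F := F) (p := p) hF (Or.inr hne) (fun J hJ _ _ => sl J hJ) (fun J hJ _ _ => good J hJ)
  have e := DL_eq_piece C hQ t2 c' hX.1 hX.2 bar_le_PT
  rw [← e]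
  exact ⟨τ, t1, c', t3⟩

end Cfsg.Agent.Cit.DispLoc
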