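import Mathlib
import Cfsg.Agent.Cit.DispMany
import Cfsg.Agent.Cit.DispLoc
import Cfsg.Agent.Cit.BDKappa

/-!
# The dispatcher, `|Om(S)| ≥ 5`: the orthogonal branch (project CIT)

`OutO q`, `q` the pairing of the frame, `E = Y_{F - k - q k}`:

* `amb`, `close` : the ambient hypotheses of the type owner;
* `of_cm` : a member commuting with `K k` is `K (q k)` or lies in `E`; `tw` : `Tw Om (K k) (K (q k)) E`;
* `zz_ne` : the involutions of the members in `E` are different from `z_k`;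
* `sylow` : the members of `Om(S)` are `K k` or commute with `K k`;
* `loc` : the local pieces at `z_k z_J`.
-/

set_option autoImplicit false
set_option linter.unusedSectionVars false
set_option linter.dupNamespace false

namespace Cfsg.Agent.Cit.DispManyO

open Subgroup Finset Classical Cfsg Cfsg.Agent.Cit.TypeDet Cfsg.Agent.Cit.FrameOf Cfsg.Agent.Cit.FrameClose
  Cfsg.Agent.Nodes.Chart Cfsg.Agent.Cit.ExactChart Cfsg.Agent.Cit.BDTwin

universe u

variable {G : Type u} [Group G] [Finite G] {Om : Set (Subgroup G)}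

theorem amb (hyp : Hyp Om) (cls : ∀ J ∈ Om, ∀ L ∈ Om, ∃ g, Cit.cj g J = L) (lem : Lem Om) : Amb Om where
  hyp := hyp
  one K hK L hL := by
    obtain ⟨g, hg⟩ := cls K hK L hL
    exact ⟨g, hg.symm⟩
  f4 K hK L hL h := lem L hL K hK fun x hx => mem_centralizer_singleton_iff.1 (h hx)

theorem close (hconn : ∀ C : Set (Subgroup G), C ⊆ Om → C.Nonempty → (∀ K ∈ C, ∀ L ∈ Om, cm K L → L ∈ C) →
    C = Om) : Close Om := fun Om₀ h =>
  hconn Om₀ h.sub h.ne fun K hK L hL hc => h.comm K hK L hL (cm_symm hc)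

variable {ι : Type u} [Fintype ι] {K : ι → Subgroup G}

section

variable (f : IFrm Om K) {q : ι → ι} (hO : f.data.OutO q)

include hO

/-- the members of `F - k - q k` -/
theorem mem_B {k i : ι} : i ∈ ((univ : Finset ι).erase k).erase (q k) ↔ i ≠ q k ∧ i ≠ k := by
  simp

/-- A member commuting with `K k` is `K (q k)` or lies in `E`. -/
theorem of_cm {k : ι} {L : Subgroup G} (hL : L ∈ Om) (hc : cm L (K k)) :
    L = K (q k) ∨ L ≤ YA Om K ((univ.erase k).erase (q k)) := by
  have hLA : L ∈ OmA Om K (univ.erase k) := ⟨hL, fun j hj => by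
    have : j = k := by
      by_contra hne
      exact hj (mem_erase.2 ⟨hne, mem_univ _⟩)
    rw [this]; exact hc⟩
  obtain ⟨j, hj⟩ := f.max L hL
  have hjk : j ≠ k := fun e => hj (e ▸ hc)
  have hjB : j ∈ (univ : Finset ι).erase k := mem_erase.2 ⟨hjk, mem_univ _⟩
  have hL2 : L ∈ OmA Om K (f.data.blk (univ.erase k) j) := by
    refine (mem_OmA_blk_iff f.mem f.comm f.max hjB).2 ⟨hLA, ?_⟩
    exact Relation.ReflTransGen.single ⟨mem_OmA f.mem f.comm hjB, hLA, fun h => hj (cm_symm h)⟩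
  obtain ⟨-, h2⟩ := hO
  by_cases hq : j = q k
  · left
    rw [hq, (h2 k).2.1] at hL2
    exact (h2 (q k)).1 L hL2
  · right
    rw [(h2 k).2.2.1 j hjk hq] at hL2
    exact le_YA hL2

/-- the twins -/
theorem tw (hyp : Hyp Om) (k : ι) : Tw Om (K k) (K (q k)) (YA Om K ((univ.erase k).erase (q k))) where
  mem := f.mem k
  mem' := f.mem _
  cm_twin := f.comm _ _ (hO.1 k).1.symm
  cm_E := cm_symm (cm_YA (by simp))
  cm_E' := cm_symm (cm_YA (by simp))
  of_cm L hL hc := of_cm f hO hL hc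
  of_cm' L hL hc := by
    have h1 := of_cm f hO hL hc
    rwa [(hO.1 k).2, erase_right_comm] at h1

/-- The involution of a member in `E` is different from `z_k`. -/
theorem zz_ne (hyp : Hyp Om) (lem : Lem Om) (h5 : 5 ≤ Fintype.card ι) (k : ι) {J : Subgroup G} (hJ : J ∈ Om)
    (hJE : J ≤ YA Om K ((univ.erase k).erase (q k))) : zz (K k) ≠ zz J := by
  intro hz
  have hJA := mem_OmA_of_le hJ hJE
  obtain ⟨j, hj⟩ := f.max J hJ
  have hjB : j ∈ ((univ : Finset ι).erase k).erase (q k) := by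
    by_contra hn
    exact hj (hJA.2 j hn)
  have hjk := (mem_B f hO).1 hjB
  have h1 : K j = J := by
    rcases lem (K j) (f.mem j) J hJ (fun x hx => by
      rw [← hz]
      exact f.comm j k hjk.2 x hx _ (hyp.zz_mem (f.mem k))) with h | h
    · exact h
    · exact absurd (cm_symm h) hj
  subst h1
  -- another point of `B`
  obtain ⟨i, -, hi⟩ := exists_mem_four (B := (univ : Finset ι)) (n := 5) (by rw [card_univ]; exact h5) {k, q k, j}
    (lt_of_le_of_lt Finset.card_le_three (by omega))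
  simp only [mem_insert, mem_singleton, not_or] at hi
  have h3 : i ∈ f.data.blk (univ.erase k) j := by
    rw [(hO.2 k).2.2.1 j hjk.2 hjk.1]
    exact (mem_B f hO).2 ⟨hi.2.1, hi.1⟩
  have h4 : f.data.rel (univ.erase k) j i := f.data.mem_blk.1 h3
  obtain ⟨-, -, h5⟩ : frel Om K (univ.erase k) j i := h4
  have h6 : chn (TypeDet.OmIn Om (centralizer {zz (K j)})) (K j) (K i) := by
    refine chn_mono (T' := TypeDet.OmIn Om (centralizer {zz (K j)}))
      (fun L hL => ⟨hL.1, fun x hx => mem_centralizer_singleton_iff.2 ?_⟩) h5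
    rw [← hz]
    exact hL.2 k (by simp) x hx _ (zz_mem' _)
  exact hi.2.2 (f.inj (lem.single (f.mem j) h6))

omit hO in
include f in
/-- The members of `Om(S)` are `K k` or commute with it. -/
theorem sylow {S : Sylow 2 G} (hr : Set.range K = OmS Om (S : Subgroup G)) (k : ι) :
    ∀ M ∈ OmS Om (S : Subgroup G), M = K k ∨ cm M (K k) := by
  intro M hM
  rw [← hr] at hM
  obtain ⟨i, rfl⟩ := hM
  by_cases h : i = k
  · exact Or.inl (by rw [h])
  · exact Or.inr (f.comm i k h)

/-- `E` contains a member of the frame. -/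
theorem exists_mem (h5 : 5 ≤ Fintype.card ι) (k : ι) : ∃ i, i ≠ k ∧ i ≠ q k ∧
    K i ≤ YA Om K ((univ.erase k).erase (q k)) := by
  obtain ⟨i, -, hi⟩ := exists_mem_four (B := (univ : Finset ι)) (n := 5) (by rw [card_univ]; exact h5) {k, q k}
    (lt_of_le_of_lt Finset.card_le_two (by omega))
  simp only [mem_insert, mem_singleton, not_or] at hi
  exact ⟨i, hi.1, hi.2, le_YA (mem_OmA f.mem f.comm ((mem_B f hO).2 ⟨hi.2, hi.1⟩))⟩

end

/-- The local pieces at `z_K z_J`. -/
theorem loc (b : ExLocal.LB Om) {K J : Subgroup G} (hK : K ∈ Om) (hJ : J ∈ Om) (hc : cm J K)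
    (C : PieceG.CorG Om (centralizer {zz K * zz J})) {F : Type} [Field F] [Fintype F] {p : ℕ} [CharP F p]
    (hF : Odd (Fintype.card F)) (sl : ∀ J ∈ Om, Nonempty (Matrix.SpecialLinearGroup (Fin 2) F ≃* J))
    (good : ∀ J ∈ Om, ∀ P ≤ J, Nat.card P = Fintype.card F → Good p P (zz J)) :
    ∃ L, K ≤ L ∧ FrameOf.Piece Om (zz K * zz J) L ∧ ∀ A ∈ Om, ∀ B ∈ Om, ∀ D ∈ Om, A ≤ L → B ≤ L → D ≤ L →
      cm A B → cm A D → cm B D → ∃ (τ : Nodes.Chart.Ty) (c : Chart Om p L), c.IsTy τ ∧ KindOk τ ∧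
        ((∀ r ∈ c.R, c.Z r = c.X r) ∨ ∃ n, τ = .C n) := by
  have hyp := b.hyp
  have hKH : K ≤ centralizer {zz K * zz J} := by
    intro x hx
    rw [mem_centralizer_singleton_iff]
    have h1 : x * zz K = zz K * x := mem_centralizer_singleton_iff.1 (hyp.le_centralizer hK hx)
    have h2 : x * zz J = zz J * x := (hc _ (hyp.zz_mem hJ) x hx).symm
    rw [← mul_assoc, h1, mul_assoc, h2, mul_assoc]
  have hX : K ∈ TypeDet.OmIn Om (centralizer {zz K * zz J}) := ⟨hK, hKH⟩
  refine ⟨piece (TypeDet.OmIn Om (centralizer {zz K * zz J})) K, le_piece hX Relation.ReflTransGen.refl,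
    DispGen.piece_isPiece hyp.conj, ?_⟩
  intro A hA B hB D hD hA' hB' hD' h1 h2 h3
  obtain ⟨τ, ht, c, hc1, hc2⟩ := DispLoc.typed_of_three b C hF sl good hX hA hB hD hA' hB' hD' h1 h2 h3
  exact ⟨τ, c, hc1, ht.kindOk, hc2⟩

end Cfsg.Agent.Cit.DispManyO
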