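import Mathlib
import Cfsg.Agent.Cit.DispManyO
import Cfsg.Agent.Cit.CloseOut
import Cfsg.Agent.Cit.CoreManyB
import Cfsg.Agent.Cit.BDFinal
import Cfsg.Agent.Cit.TypeAEnd

/-!
# The dispatcher, `|Om(S)| ≥ 5`: end (project CIT)

`dispStmt_of` : `CoreManyB.DispStmt` from the type owner `A_n` (`AStmt`).
-/

set_option autoImplicit false
set_option linter.unusedSectionVars false
set_option linter.dupNamespace false

namespace Cfsg.Agent.Cit.DispManyEnd

open Subgroup Finset Classical Cfsg Cfsg.Agent.Cit.TypeDet Cfsg.Agent.Cit.FrameOf Cfsg.Agent.Cit.FrameClose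
  Cfsg.Agent.Nodes.Chart Cfsg.Agent.Cit.ExactChart Cfsg.Agent.Cit.BDTwin Cfsg.Agent.Cit.DispMany
  Cfsg.Agent.ChevalleyStructure.CoxeterGeom Cfsg.Agent.Tits.Roots

universe u

/-- type `A_n` -/
def AStmt : Prop := ∀ (G : Type u) [Group G] [Finite G] (Om : Set (Subgroup G)) (F : Type) [Field F] [Fintype F]
  (p : ℕ) [CharP F p] (ι : Type u) [Fintype ι] (K : ι → Subgroup G) (X : ι → SignType → Subgroup G)
  (_ : Dat Om F K X) (_ : Odd (Fintype.card F)) (_ : p ≠ 2) (_ : ∀ i, Good p (X i 1) (zz (K i))) (S : Sylow 2 G)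
  (_ : Set.range K = OmS Om (S : Subgroup G)) (ν : ℕ) (_ : 3 ≤ ν) (_ : ν ≠ 5)
  (_ : Fintype.card ι = (ν + 1) / 2 + 1) (_ : ∀ l, FrameOf.Piece Om (zz (K l)) (delta Om (K l)))
  (_ : ∀ l, ∃ c : Chart Om p (delta Om (K l)), c.IsTy (.A ν)),
  ∃ (G0 : Subgroup G) (c : Chart Om p G0), c.IsTy (.A (ν + 2)) ∧ (∀ i, K i ≤ G0) ∧ (∀ i, delta Om (K i) ≤ G0) ∧
    ∀ L ∈ Om, L ≤ G0 → Subgroup.normalizer (L : Set G) ≤ Subgroup.normalizer (G0 : Set G)

variable {G : Type u} [Group G] [Finite G] {Om : Set (Subgroup G)}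

/-- `Z = X` for charts of type `A n`, `n ≥ 2`. -/
theorem zx_A (hyp : Hyp Om) {p : ℕ} {L : Subgroup G} (c : Chart Om p L) {n : ℕ} (hn : 2 ≤ n)
    (h : c.IsTy (.A n)) : ∀ r ∈ c.R, c.Z r = c.X r := by
  obtain ⟨e, h1, h2⟩ := h
  let i : Fin (Nodes.Chart.Ty.A n).rk := (⟨0, by omega⟩ : Fin n)
  let j : Fin (Nodes.Chart.Ty.A n).rk := (⟨1, by omega⟩ : Fin n)
  have hij : i ≠ j := fun e => absurd (congrArg Fin.val e) (show ¬ (0 : ℕ) = 1 by omega)
  have hM : (Nodes.Chart.Ty.A n).M i j = 3 := by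
    change (if (0 : ℕ) = 1 then 1 else if 0 + 1 = 1 ∨ 1 + 1 = 0 then 3 else 2) = 3
    norm_num
  have h3 := (Nodes.Chart.Ty.A n).isCartan.rel i j hij
  have hne : e.symm i ≠ e.symm j := fun h0 => hij (e.symm.injective h0)
  refine BDPiece.ZX_of_bond hyp c hne ((h2 _).2 trivial) ((h2 _).2 trivial) ?_
  have e1 : e (e.symm i) = i := e.apply_symm_apply i
  have e2 : e (e.symm j) = j := e.apply_symm_apply j
  rw [h1, h1, e1, e2]
  rcases h3 with h3 | h3 | h3 | h3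
  · omega
  · rw [h3.2.1, h3.2.2]; norm_num
  · omega
  · omega

section

variable {F : Type} [Field F] [Fintype F] {p : ℕ} [CharP F p] {ι : Type u} [Fintype ι] {K : ι → Subgroup G}
  {S : Sylow 2 G}

/-- **Type `A_n`.** -/
theorem res_A (hA : AStmt.{u}) (h : In Om F p K S) (h5 : 5 ≤ Fintype.card ι)
    (hL : ∀ k, h.frame.data.KL (univ.erase k)) {n : ℕ}
    (hn : (n + 1) / 2 + 1 = Fintype.card ι) (ht : ∀ k, TyPcE Om (.A n) (YA Om K (univ.erase k))) :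
    Res Om p K := by
  obtain ⟨X, D, hg⟩ := h.exists_dat
  obtain ⟨G0, c, h1, h2, h3, h4⟩ := hA G Om F p ι K X D h.odd h.ne_two hg S h.range n (by omega) (by omega)
    hn.symm (fun k => piece_delta h.frame h.hyp h.lem (by omega)
      (conn_of_KL _ (fun e => notMem_erase k univ (by rw [e]; exact mem_univ _)) (hL k)))
    (fun k => by
      obtain ⟨c, hc, -⟩ := h.chart (by omega) (ht k)
      exact ⟨c, hc⟩)
  exact ⟨G0, .A (n + 2), c, h1, show 2 ≤ n + 2 by omega, show 3 ≤ n + 2 by omega,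
    Or.inl (zx_A h.hyp c (by omega) h1), h2, h3, h4⟩

end

/-- **The dispatcher.** -/
theorem dispStmt_of (hA : AStmt.{u}) : CoreManyB.DispStmt.{u} := by
  intro G _ _ Om ms b c2 hconn p F _ _ x S ι _ K f hr h5 ho X D hg
  have := x.char
  have := ms.simple
  have cls : ∀ J ∈ Om, ∀ L ∈ Om, ∃ g, Cit.cj g J = L := fun J hJ L hL => by
    obtain ⟨g, hg⟩ := ms.cls J hJ L hL
    exact ⟨g, hg.symm⟩
  have lem := ManyGlue.lem_of_lb b
  have h : In Om F p K S := ⟨ms.hyp, cls, lem, f, hr, x.odd, x.sl, x.good⟩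
  have sl : ∃ (F : Type) (_ : Field F) (_ : Fintype F), CharP F p ∧
      ∀ K ∈ Om, Nonempty (Matrix.SpecialLinearGroup (Fin 2) F ≃* ↥K) :=
    ⟨F, inferInstance, inferInstance, x.char, x.sl⟩
  have hne : Nonempty ι := Fintype.card_pos_iff.1 (by omega)
  obtain ⟨k⟩ := hne
  have hclose := DispManyO.close hconn
  have fin : Res Om p K → HasPieces Om := by
    rintro ⟨G0, τ, c, h1, h2, h3, h4, h5, h6, -⟩
    exact CloseOut.hasPieces_of_conn ms b.core c τ h1 h2 h3 sl h4 (f.mem k) (h5 k) (h6 k) hconn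
  have inp : ∀ q : ι → ι, f.data.OutO q →
      BDFinal.Inp Om p F (K k) (K (q k)) (YA Om K ((univ.erase k).erase (q k))) := fun q hO =>
    { am := DispManyO.amb ms.hyp cls lem
      tw := DispManyO.tw f hO ms.hyp k
      sl := x.sl
      pcs := fun J hJ hJE => by
        have hcm : cm J (K k) := cm_mono hJE le_rfl (cm_YA (by simp))
        obtain ⟨L, hL1, hL2, hL3⟩ := DispManyO.loc b (f.mem k) hJ hcm
          (c2 _ (f.mem k) _ hJ (cm_symm hcm) (DispManyO.zz_ne f hO ms.hyp lem h5 k hJ hJE)) x.odd x.sl x.good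
        refine ⟨L, hL1, hL2, ?_⟩
        rintro ⟨A, hA, B, hB, D, hD, a1, a2, a3, a4, a5, a6⟩
        obtain ⟨-, c, -⟩ := hL3 A hA B hB D hD a1 a2 a3 a4 a5 a6
        exact ⟨c⟩
      syl := ⟨S, DispManyO.sylow f hr k⟩
      close := hclose.weak }
  have chE : ∀ q : ι → ι, f.data.OutO q → ∀ τ, TyPcE Om τ (YA Om K ((univ.erase k).erase (q k))) →
      ∃ c : Chart Om p (YA Om K ((univ.erase k).erase (q k))), c.IsTy τ := by
    intro q hO τ ht
    obtain ⟨i, -, -, hi⟩ := DispManyO.exists_mem f hO h5 k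
    obtain ⟨e⟩ := x.sl _ (f.mem i)
    obtain ⟨c, hc, -⟩ := chart_of_tyPcE (p := p) (f.mem i) e ht hi
    exact ⟨c, hc⟩
  rcases ho with ⟨hL, ⟨n, hn, ht⟩ | ⟨n, hn, ht⟩⟩ | ⟨h8, ht⟩ | ⟨h7, ht⟩ | ⟨-, q, hO, ⟨n, hn, ht⟩ | ⟨n, hn, ht⟩⟩
  · exact fin (res_A hA h h5 hL hn ht)
  · exact fin (res_C h h5 hL hn ht)
  · exact fin (res_E8 h h8 fun k => (ht k).2)
  · exact fin (res_E7 h h7 fun k => (ht k).2)
  · obtain ⟨c, hc⟩ := chE q hO _ (ht k)
    obtain ⟨c', h1, h2⟩ := BDFinal.exists_chart_B (inp q hO) c (by omega) hc (Or.inr ⟨hclose, by omega⟩)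
    exact CloseOut.hasPieces_of_top ms b.core c' _ h1 (show 3 ≤ n + 2 by omega)
      (fun h' => absurd (show n + 2 ≤ 2 from h') (by omega)) sl (Or.inl h2) rfl
  · obtain ⟨c, hc⟩ := chE q hO _ (ht k)
    obtain ⟨c', h1, h2⟩ := BDFinal.exists_chart_D (inp q hO) c (by omega) hc (Or.inr hclose)
    exact CloseOut.hasPieces_of_top ms b.core c' _ h1 (show 4 ≤ n + 2 by omega)
      (fun h' => absurd (show n + 2 - 2 + 2 ≤ 2 from h') (by omega)) sl (Or.inl h2) rfl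

/-- Type `A_n`: `TypeAEnd.exists_chart`. -/
theorem aStmt : AStmt.{u} := by
  intro G _ _ Om F _ _ p _ ι _ K X D hF _ hg S hS ν hν hν5 hcard _ ch
  obtain ⟨G0, c, h1, -, h2, h3, h4⟩ := TypeAEnd.exists_chart D hF hg S hS hν (by rw [Nat.card_eq_fintype_card, hcard]) ch
    (fun e => absurd e hν5)
  exact ⟨G0, c, h1, h2, h3, h4⟩

/-- **The dispatcher, `|Om(S)| ≥ 5`.** -/
theorem dispStmt : CoreManyB.DispStmt.{u} := dispStmt_of aStmt

end Cfsg.Agent.Cit.DispManyEnd
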