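import Cfsg.Agent.Cit.ExOut
import Cfsg.Agent.Cit.ExIn
import Cfsg.Agent.Cit.TypeDet.Final
import Cfsg.Agent.Cit.TypeDet.LemLoc
import Cfsg.Agent.Cit.TypeDet.OutE

/-!
# `|Om(S)| ≥ 5`: from the local type determination modulo cores to exact typed pieces (project CIT)

* `Drv Om f` : the blocks of `F - k` are small or typed in `C(z_k) / O(C(z_k))`, the frame is connected;
* `Drv.tyPc_of` : all pieces of `C(z_N) / O(C(z_N))` which are not members are typed (if all frames satisfy `Drv`);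
* `in_of_drv` : `ExMain.In`; `Drv.outE` : the output `OutE` of the type determination with exact pieces;
* `main` : the input of the dispatchers.
-/

set_option autoImplicit false
set_option linter.dupNamespace false
set_option linter.unusedSectionVars false

namespace Cfsg.Agent.Cit.ManyGlue

open Subgroup Finset Classical Relation Cfsg Cfsg.Agent.Cit.UseT Cfsg.Agent.Cit.PieceLift Cfsg.Agent.Cit.PieceG
open Cfsg.Agent.Cit.TypeDet Cfsg.Agent.Cit.ExLocal Cfsg.Agent.Cit.ExMain Cfsg.Agent.Cit.ExOut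
open Cfsg.Agent.Cit.ExactChart

universe u

variable {G : Type u} [Group G] [Finite G] {Om : Set (Subgroup G)}
  {ι : Type u} [Fintype ι] {K : ι → Subgroup G}

/-- the centraliser of the involution of `N` -/
abbrev CZ (N : Subgroup G) : Subgroup G := centralizer {zz N}

/-- the output of the driver for the frame `K` -/
structure Drv (f : IFrm Om K) : Prop where
  blk : ∀ k i, i ≠ k → (f.data.blk (univ.erase k) i).card ≤ 2 ∨
    ∃ τ, f.data.KT τ (f.data.blk (univ.erase k) i) ∧ TyPc (fb Om (CZ (K k))) τ (PT Om (CZ (K k)) (K i))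
  app : ∀ i j, f.data.app i j

/-- `TyPc` implies `TyPcE` -/
theorem tyPcE_of_tyPc {X : Type u} [Group X] {Om : Set (Subgroup X)} {τ : Nodes.Chart.Ty} {D : Subgroup X}
    (h : TyPc Om τ D) : TyPcE Om τ D := ⟨h.1, h.2.1, h.2.2.2⟩

theorem lem_of_lb (b : LB Om) : Lem Om := fun X hX K hK h => by
  refine b.eq_or_cm hK hX ?_
  intro x hx
  rw [mem_centralizer_singleton_iff]
  exact h x hx

/-- `Y_B` of a block of `F - k` is a piece of `C(z_k)` -/
theorem YA_blk_eq (b : LB Om) (f : IFrm Om K) {k i : ι} (hi : i ≠ k) :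
    YA Om K (f.data.blk (univ.erase k) i) = piece (TypeDet.OmIn Om (CZ (K k))) (K i) := by
  have h1 : YA Om K (f.data.blk (univ.erase k) i) = piece (OmA Om K (univ.erase k)) (K i) :=
    YA_blk f.mem f.comm f.max (Data.mem_er hi)
  rw [h1, OmA_erase]
  exact (lem_of_lb b).piece_centralizer_eq b.hyp (f.mem k) ⟨f.mem i, cm_iff_le_centralizer.mp (f.comm i k hi)⟩

/-- the frame is transitively permuted -/
theorem exists_cj (b : LB Om) (hone : ∀ K ∈ Om, ∀ L ∈ Om, ∃ g, Cit.cj g K = L) (f : IFrm Om K)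
    (S : Sylow 2 G) (hr : Set.range K = OmS Om (S : Subgroup G)) (k l : ι) :
    ∃ (g : G) (σ : Equiv.Perm ι), (∀ i, Cit.cj g (K i) = K (σ i)) ∧ σ k = l := by
  have hfr := (lem_of_lb b).frames b.hyp hone b.core
  have hF : Set.range K ∈ sylFrames Om := ⟨S, hr⟩
  obtain ⟨g, hg1, hg2⟩ := hfr.trans _ hF _ hF (K k) ⟨k, rfl⟩ (K l) ⟨l, rfl⟩
  have h1 : ∀ m, ∃ m', Cit.cj g (K m) = K m' := by
    intro m
    have : Cit.cj g (K m) ∈ Set.range K := by
      have h2 : Cit.cj g (K m) ∈ Cit.cj g '' Set.range K := ⟨K m, ⟨m, rfl⟩, rfl⟩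
      rwa [hg1] at h2
    obtain ⟨m', hm'⟩ := this
    exact ⟨m', hm'.symm⟩
  choose s hs using h1
  have hinj : Function.Injective s := by
    intro m m' h2
    have h3 : Cit.cj g (K m) = Cit.cj g (K m') := by rw [hs, hs, h2]
    exact f.inj (cj_inj.mp h3)
  refine ⟨g, Equiv.ofBijective s (Finite.injective_iff_bijective.mp hinj), hs, ?_⟩
  apply f.inj
  change K (s k) = K l
  rw [← hs, hg2]

namespace Drv

variable {f : IFrm Om K} (d : Drv f) (b : LB Om)

include d b

/-- **exact typed blocks** -/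
theorem exact {p : ℕ} {F : Type*} [Field F] [Fintype F] (x : EX Om p F) (k i : ι) (hi : i ≠ k) :
    (f.data.blk (univ.erase k) i).card ≤ 2 ∨
      ∃ τ, f.data.KT τ (f.data.blk (univ.erase k) i) ∧ TyPcE Om τ (YA Om K (f.data.blk (univ.erase k) i)) := by
  rcases d.blk k i hi with h | ⟨τ, h1, h2⟩
  · exact Or.inl h
  · by_cases h3 : (f.data.blk (univ.erase k) i).card ≤ 2
    · exact Or.inl h3
    · right
      refine ⟨τ, h1, ?_⟩
      have hne : τ ≠ .C 1 := by
        rintro rfl
        have h4 : (f.data.blk (univ.erase k) i).card = 1 := h1.1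
        omega
      have hle : K i ≤ CZ (K k) := b.le_of_cm (f.mem k) (f.comm i k hi)
      rw [YA_blk_eq b f hi]
      exact (x.tyPcE (b.cor _ (f.mem k)) (f.mem i) hle (tyPcE_of_tyPc h2) (Or.inr hne)).1

/-- **the output with exact pieces** -/
theorem outE {p : ℕ} {F : Type*} [Field F] [Fintype F] (x : EX Om p F)
    (hone : ∀ K ∈ Om, ∀ L ∈ Om, ∃ g, Cit.cj g K = L) (S : Sylow 2 G)
    (hr : Set.range K = OmS Om (S : Subgroup G)) (h5 : 5 ≤ Fintype.card ι) : OutE f := by
  refine Data.typed (S := f.data) h5 (fun τ B => TyPcE Om τ (YA Om K B)) ?_ (fun k i hi => d.exact b x k i hi)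
    d.app
  intro k l
  obtain ⟨g, σ, hs, hkl⟩ := exists_cj b hone f S hr k l
  refine ⟨σ, isAut f.mem f.comm b.hyp.conj (fun i g => b.hyp.zz_cj (f.mem i) g) hs, ?_, hkl⟩
  intro τ B hB
  rw [YA_map b.hyp.conj hs]
  exact hB.cj b.hyp g

/-- the small blocks are single members -/
theorem small (hone : ∀ K ∈ Om, ∀ L ∈ Om, ∃ g, Cit.cj g K = L) (S : Sylow 2 G)
    (hr : Set.range K = OmS Om (S : Subgroup G)) (h5 : 5 ≤ Fintype.card ι) {k i : ι} (hi : i ≠ k)
    (h2 : (f.data.blk (univ.erase k) i).card ≤ 2) : Sg Om (K k) (K i) := by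
  have h := Data.typed (S := f.data) h5 (fun _ _ => True) (fun k l => by
    obtain ⟨g, σ, hs, hkl⟩ := exists_cj b hone f S hr k l
    exact ⟨σ, isAut f.mem f.comm b.hyp.conj (fun i g => b.hyp.zz_cj (f.mem i) g) hs, fun _ _ _ => trivial, hkl⟩)
    (fun k i hi => (d.blk k i hi).imp_right fun ⟨τ, h1, _⟩ => ⟨τ, h1, trivial⟩) d.app
  have hcard : ((univ : Finset ι).erase k).card = Fintype.card ι - 1 := Data.card_univ_erase k
  have hconn : f.data.Conn (univ.erase k) → Sg Om (K k) (K i) := by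
    intro hc
    exfalso
    have h3 : univ.erase k ⊆ f.data.blk (univ.erase k) i := by
      intro j hj
      rw [Sys.mem_blk]
      exact hc i (Data.mem_er hi) j hj
    have h4 := Finset.card_le_card h3
    omega
  have hne : ∀ x : ι, (univ : Finset ι).erase x ≠ univ := fun x e => by
    have := Finset.mem_univ x
    rw [← e] at this
    exact Finset.notMem_erase _ _ this
  rcases h with ⟨h1, -⟩ | ⟨-, h1⟩ | ⟨-, h1⟩ | ⟨hev, p, hp, -⟩
  · refine hconn ?_
    intro a ha c hc
    by_cases e : a = c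
    · rw [e]; exact f.data.refl (hne k) hc
    · refine f.data.mono ?_ (hne k) ((h1 k).2.2 a ha c hc e a (by simp) c (by simp))
      intro x hx
      rw [mem_insert, mem_singleton] at hx
      rcases hx with rfl | rfl
      · exact ha
      · exact hc
  · refine hconn ?_
    obtain ⟨h7, h8⟩ := (h1 k).1
    intro a ha c hc
    obtain ⟨l, hl, hl2⟩ := exists_mem_four (B := univ.erase k) (n := 7) h7.ge {a, c}
      (lt_of_le_of_lt (Finset.card_le_two) (by omega))
    simp only [mem_insert, mem_singleton, not_or] at hl2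
    exact f.data.mono (Finset.erase_subset _ _) (hne k)
      (h8 l hl a (mem_erase.mpr ⟨fun e => hl2.1 e.symm, ha⟩) c (mem_erase.mpr ⟨fun e => hl2.2 e.symm, hc⟩))
  · refine hconn ?_
    obtain ⟨p, h6, hp, -, hA, -⟩ := (h1 k).1
    -- two pairs are connected
    have key : ∀ a ∈ (univ : Finset ι).erase k, ∀ c ∈ (univ : Finset ι).erase k, c ≠ a → c ≠ p a →
        f.data.rel (univ.erase k) a (p a) ∧ f.data.rel (univ.erase k) a c := by
      intro a ha c hc hca hcp
      obtain ⟨pa, pa2, pa3⟩ := hp a ha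
      obtain ⟨pc, pc2, pc3⟩ := hp c hc
      have e1 : p c ≠ a := fun e => hcp (by rw [← e, pc3])
      have e2 : p c ≠ p a := fun e => hca (by rw [← pc3, e, pa3])
      have hsub : ({a, p a, c, p c} : Finset ι) ⊆ univ.erase k := by
        intro x hx
        simp only [mem_insert, mem_singleton] at hx
        rcases hx with rfl | rfl | rfl | rfl
        · exact ha
        · exact pa
        · exact hc
        · exact pc
      have h4 : ({a, p a, c, p c} : Finset ι).card = 4 := by
        rw [card_insert_of_notMem, card_insert_of_notMem, card_insert_of_notMem, card_singleton]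
        · simpa using fun e => pc2 e.symm
        · simp only [mem_insert, mem_singleton, not_or]
          exact ⟨fun e => hcp e.symm, fun e => e2 e.symm⟩
        · simp only [mem_insert, mem_singleton, not_or]
          exact ⟨fun e => pa2 e.symm, fun e => hca e.symm, fun e => e1 e.symm⟩
      have hconnA : f.data.Conn {a, p a, c, p c} := by
        rw [hA _ hsub h4]
        intro x hx
        simp only [mem_insert, mem_singleton] at hx ⊢
        rcases hx with rfl | rfl | rfl | rfl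
        · simp
        · simp [pa3]
        · simp
        · simp [pc3]
      exact ⟨f.data.mono hsub (hne k) (hconnA a (by simp) (p a) (by simp)),
        f.data.mono hsub (hne k) (hconnA a (by simp) c (by simp))⟩
    intro a ha c hc
    by_cases e1 : c = a
    · rw [e1]; exact f.data.refl (hne k) ha
    by_cases e2 : c = p a
    · obtain ⟨l, hl, hl2⟩ := exists_mem_four (B := univ.erase k) (n := 6) h6 {a, p a}
        (lt_of_le_of_lt (Finset.card_le_two) (by omega))
      simp only [mem_insert, mem_singleton, not_or] at hl2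
      rw [e2]
      exact (key a ha l hl hl2.1 hl2.2).1
    · exact (key a ha c hc e1 e2).2
  · have hi' : i = p k := by
      by_contra hn
      have h3 := (hp.2 k).2.2.1 i hi hn
      rw [h3, card_erase_of_mem (Data.mem_er (hp.1 k).1), hcard] at h2
      obtain ⟨t, ht⟩ := hev
      omega
    subst hi'
    have hblk := (hp.2 k).2.1
    have hsgl : f.data.sgl (p k) := (hp.2 (p k)).1
    refine b.sg_of_forall (f.mem k) (f.mem (p k)) (b.le_of_cm (f.mem k) (f.comm (p k) k hi)) ?_
    intro J hJ hJk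
    by_contra hcon
    push Not at hcon
    have hJne : J ≠ K k := fun e => hcon.2 (e ▸ f.comm k (p k) (Ne.symm hi))
    have hJc : cm J (K k) := (b.eq_or_cm (f.mem k) hJ hJk).resolve_left hJne
    have hJA : J ∈ OmA Om K (univ.erase k) := by
      rw [OmA_erase]
      exact ⟨hJ, cm_iff_le_centralizer.1 hJc⟩
    have h3 : J ∈ OmA Om K (f.data.blk (univ.erase k) (p k)) := by
      refine (mem_OmA_blk_iff f.mem f.comm f.max (Data.mem_er hi)).2 ⟨hJA, ?_⟩
      exact ReflTransGen.single ⟨mem_OmA f.mem f.comm (Data.mem_er hi), hJA, fun h => hcon.2 (cm_symm h)⟩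
    rw [hblk] at h3
    exact hcon.1 (hsgl J h3)

/-- **the pieces of `C(z_k) / O(C(z_k))`**: single or typed -/
theorem sg_or_tyPc (hone : ∀ K ∈ Om, ∀ L ∈ Om, ∃ g, Cit.cj g K = L) (S : Sylow 2 G)
    (hr : Set.range K = OmS Om (S : Subgroup G)) (h5 : 5 ≤ Fintype.card ι) {k i : ι} (hi : i ≠ k) :
    Sg Om (K k) (K i) ∨ ∃ τ, TyPc (fb Om (CZ (K k))) τ (PT Om (CZ (K k)) (K i)) := by
  by_cases h2 : (f.data.blk (univ.erase k) i).card ≤ 2
  · exact Or.inl (d.small b hone S hr h5 hi h2)
  · obtain ⟨τ, -, h3⟩ := (d.blk k i hi).resolve_left h2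
    exact Or.inr ⟨τ, h3⟩

end Drv

/-- all frames of Sylow 2-subgroups satisfy `Drv` and have at least five members -/
def AllDrv (Om : Set (Subgroup G)) : Prop := ∀ S : Sylow 2 G, ∃ (ι : Type u) (_ : Fintype ι)
  (K : ι → Subgroup G) (f : IFrm Om K), Set.range K = OmS Om (S : Subgroup G) ∧ 5 ≤ Fintype.card ι ∧ Drv f

section

variable (b : LB Om) (hone : ∀ K ∈ Om, ∀ L ∈ Om, ∃ g, Cit.cj g K = L)

include b hone

/-- **(hch)** -/
theorem hch (hd : AllDrv Om) {N X : Subgroup G} (hN : N ∈ Om) (hX : X ∈ Om) (hXN : X ≤ CZ N)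
    (hn : PT Om (CZ N) X ∉ fb Om (CZ N)) : ∃ τ, TyPc (fb Om (CZ N)) τ (PT Om (CZ N) X) := by
  have hne : X ≠ N := by
    rintro rfl
    apply hn
    rw [b.PT_self hX]
    exact bar_mem hX hXN
  have hcm : cm X N := (b.eq_or_cm hN hX hXN).resolve_left hne
  have hfr := (lem_of_lb b).frames b.hyp hone b.core
  obtain ⟨F, ⟨S, rfl⟩, hsub⟩ := hfr.ex {X, N} (by
    rintro Q (hQ | hQ)
    · rw [hQ]; exact hX
    · rw [Set.mem_singleton_iff.1 hQ]; exact hN) (by
    rintro Q (hQ | hQ) R (hR | hR) hQR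
    · exact absurd (hQ.trans hR.symm) hQR
    · rw [hQ, Set.mem_singleton_iff.1 hR]; exact hcm
    · rw [hR, Set.mem_singleton_iff.1 hQ]; exact cm_symm hcm
    · exact absurd ((Set.mem_singleton_iff.1 hQ).trans (Set.mem_singleton_iff.1 hR).symm) hQR)
  have hXS : X ∈ OmS Om (S : Subgroup G) := hsub (Or.inl rfl)
  have hNS : N ∈ OmS Om (S : Subgroup G) := hsub (Or.inr rfl)
  obtain ⟨ι, _, K, f, hr, h5, d⟩ := hd S
  rw [← hr] at hXS hNS
  obtain ⟨i, rfl⟩ := hXS
  obtain ⟨k, rfl⟩ := hNS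
  rcases d.sg_or_tyPc b hone S hr h5 (k := k) (i := i) (fun e => hne (by rw [e])) with h1 | h1
  · exfalso
    apply hn
    rw [show PT Om (CZ (K k)) (K i) = bar (CZ (K k)) (K i) from h1]
    exact bar_mem hX hXN
  · exact h1

/-- `ExMain.In` -/
theorem in_of_drv (ne : Om.Nonempty)
    (conn : ∀ C : Set (Subgroup G), C ⊆ Om → C.Nonempty → (∀ K ∈ C, ∀ L ∈ Om, cm K L → L ∈ C) → C = Om)
    (solv : ∀ X : Subgroup G, ¬ 2 ∣ Nat.card X → Group.IsSolvable X) (hd : AllDrv Om) : In Om where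
  toLB := b
  ne := ne
  one := hone
  conn := conn
  ch N hN X hX hXN hn := by
    obtain ⟨τ, h⟩ := hch b hone hd hN hX hXN hn
    obtain ⟨-, -, -, -, p, c, -, -, sl, -⟩ := h
    exact ExIn.isCh_of_chart c sl
  solv := solv

end

/-- **the input of the dispatcher, `|Om(S)| ≥ 5`** -/
theorem main [IsSimpleGroup G] (b : LB Om) (hone : ∀ K ∈ Om, ∀ L ∈ Om, ∃ g, Cit.cj g K = L)
    (ne : Om.Nonempty)
    (conn : ∀ C : Set (Subgroup G), C ⊆ Om → C.Nonempty → (∀ K ∈ C, ∀ L ∈ Om, cm K L → L ∈ C) → C = Om)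
    (solv : ∀ X : Subgroup G, ¬ 2 ∣ Nat.card X → Group.IsSolvable X) (hd : AllDrv Om) :
    ∃ (p : ℕ) (F : Type) (_ : Field F) (_ : Fintype F), EX Om p F ∧
      ∀ S : Sylow 2 G, ∃ (ι : Type u) (_ : Fintype ι) (K : ι → Subgroup G) (f : IFrm Om K),
        Set.range K = OmS Om (S : Subgroup G) ∧ 5 ≤ Fintype.card ι ∧ OutE f ∧
        ∃ X : ι → SignType → Subgroup G, FrameOf.Dat Om F K X ∧
          ∀ i (s : SignType), s ≠ 0 → FrameOf.Good p (X i s) (zz (K i)) := by
  obtain ⟨p, F, h1, h2, x⟩ := exists_ex (in_of_drv b hone ne conn solv hd)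
  refine ⟨p, F, h1, h2, x, fun S => ?_⟩
  obtain ⟨ι, i1, K, f, hr, h5, d⟩ := hd S
  exact ⟨ι, i1, K, f, hr, h5, d.outE b x hone S hr h5, x.exists_dat b.hyp f.mem fun i j hij => f.comm i j hij⟩

end Cfsg.Agent.Cit.ManyGlue
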