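import Cfsg.Agent.Cit.BDFinal
import Cfsg.Agent.Cit.ManyGlue
import Cfsg.Agent.Cit.TypeDet.LocalBar

/-!
# The local input of the orthogonal branch (O), `|Om(S)| ≥ 6` (project CIT)

* `Star` : four classical roots `a, c₁, c₂` (pairwise orthogonal) and `b`, not orthogonal to them;
* `exists_star` : charts of type `B n`, `D n`, `n ≥ 4`;
* `exists_conn` : for `J ≤ E` there is `M ∈ Om` in `C(z_K z_J)` commuting neither with `K` nor with `J`;
* `exists_piece` : the piece of `C(z_K z_J)` containing `K, K', J, J'`, with a chart;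
* `tw_of_outO` : the twins of the output `OutO`;
* `LocO`, `locO_of_outO` : the local input of the identification in the branch (O);
* `inp_of_outO` : the input `BDFinal.Inp`; `exists_top` : the chart of `G`.
-/

set_option autoImplicit false
set_option linter.unusedSectionVars false
set_option linter.dupNamespace false
set_option linter.style.haveILetI false

namespace Cfsg.Agent.Cit.DispO

open CoxeterSystem Cfsg.Agent.ChevalleyStructure.CoxeterGeom Cfsg.Agent.Tits.Roots Cfsg.Agent.Tits.Core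
  Cfsg.Agent.Nodes.Comb Cfsg.Agent.Nodes.Reps Cfsg.Agent.Nodes.BNOf Cfsg.Agent.Nodes.RGDLib
  Cfsg.Agent.Nodes.Chart Cfsg.Agent.Nodes.ClsNorm
  Cfsg.Agent.Cit.BDTwin Cfsg.Agent.Cit.BDCore Cfsg.Agent.Cit.BDChart Cfsg.Agent.Cit.TypeDet
  Cfsg.Agent.Cit.UseT Cfsg.Agent.Cit.PieceG Cfsg.Agent.Cit.ExOut Cfsg.Agent.Cit.ExactChart
open Relation

/-! ### Roots -/

section Roots

variable {G : Type*} [Group G] {Om : Set (Subgroup G)} {p : ℕ} {L : Subgroup G}

/-- three pairwise orthogonal classical roots and a classical root not orthogonal to them -/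
structure Star (c : Chart Om p L) (a b c₁ c₂ : c.I → ℤ) : Prop where
  ha : a ∈ c.R
  hb : b ∈ c.R
  h1 : c₁ ∈ c.R
  h2 : c₂ ∈ c.R
  a1 : form c.cs c.h a c₁ = 0
  a2 : form c.cs c.h a c₂ = 0
  o : form c.cs c.h c₁ c₂ = 0
  ba : form c.cs c.h b a ≠ 0
  b1 : form c.cs c.h b c₁ ≠ 0
  b2 : form c.cs c.h b c₂ ≠ 0

theorem form_eq_zero_of_cartan (c : Chart Om p L) {i j : c.I} (h : c.A i j = 0) :
    form c.cs c.h (sr j) (sr i) = 0 := by
  have h1 := Nodes.OrthRoot.two_form_sr c.cs c.h i j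
  rw [h, zero_mul] at h1
  omega

theorem form_ne_zero_of_cartan (c : Chart Om p L) {i j : c.I} (h : c.A i j ≠ 0) :
    form c.cs c.h (sr j) (sr i) ≠ 0 := by
  intro h0
  have h1 := Nodes.OrthRoot.two_form_sr c.cs c.h i j
  rw [h0, mul_zero] at h1
  rcases mul_eq_zero.1 h1.symm with h2 | h2
  · exact h h2
  · exact (form_pos c.cs c.h (sr_ne_zero i)).ne' h2

theorem exists_star_D (c : Chart Om p L) {n : ℕ} (hn : 4 ≤ n) (h : c.IsTy (.D n)) :
    ∃ a b c₁ c₂, Star c a b c₁ c₂ := by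
  obtain ⟨ν, rfl⟩ : ∃ ν, n = ν + 4 := ⟨n - 4, by omega⟩
  obtain ⟨e, hA, hR⟩ := h
  have hR' : ∀ i, sr i ∈ c.R := fun i => (hR i).2 trivial
  change c.I ≃ Fin ((ν + 2) + 2) at e
  change ∀ i j, c.A i j = Nodes.TypeD.A (ν + 2) (e i) (e j) at hA
  -- nodes
  let na : Fin ((ν + 2) + 2) := ⟨ν, by omega⟩
  let nb : Fin ((ν + 2) + 2) := ⟨ν + 1, by omega⟩
  let n1 : Fin ((ν + 2) + 2) := ⟨ν + 2, by omega⟩
  let n2 : Fin ((ν + 2) + 2) := ⟨ν + 3, by omega⟩
  have hA' : ∀ i j : Fin ((ν + 2) + 2), c.A (e.symm i) (e.symm j) = Nodes.TypeD.A (ν + 2) i j := by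
    intro i j
    have h1 := hA (e.symm i) (e.symm j)
    rw [Equiv.apply_symm_apply, Equiv.apply_symm_apply] at h1
    exact h1
  refine ⟨sr (e.symm na), sr (e.symm nb), sr (e.symm n1), sr (e.symm n2), hR' _, hR' _, hR' _, hR' _,
    form_eq_zero_of_cartan c ?_, form_eq_zero_of_cartan c ?_, form_eq_zero_of_cartan c ?_,
    form_ne_zero_of_cartan c ?_, form_ne_zero_of_cartan c ?_, form_ne_zero_of_cartan c ?_⟩ <;>
  · rw [hA', Nodes.TypeD.A_apply]
    simp only [Fin.ext_iff, Nodes.TypeD.Adj, na, nb, n1, n2, and_true, true_and, or_true]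
    split_ifs <;> omega

theorem exists_star_B (c : Chart Om p L) {n : ℕ} (hn : 4 ≤ n) (h : c.IsTy (.B n)) :
    ∃ a b c₁ c₂, Star c a b c₁ c₂ := by
  obtain ⟨e, hA, hR⟩ := h
  change c.I ≃ Fin n at e
  change ∀ i j, c.A i j = Nodes.TypeC.A n (e i) (e j) at hA
  change ∀ i, sr i ∈ c.R ↔ (e i : ℕ) + 1 < n at hR
  let na : Fin n := ⟨n - 4, by omega⟩
  let nb : Fin n := ⟨n - 3, by omega⟩
  let n1 : Fin n := ⟨n - 2, by omega⟩
  let n2 : Fin n := ⟨n - 1, by omega⟩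
  have hA' : ∀ i j : Fin n, c.A (e.symm i) (e.symm j) = Nodes.TypeC.A n i j := by
    intro i j
    have h1 := hA (e.symm i) (e.symm j)
    rw [Equiv.apply_symm_apply, Equiv.apply_symm_apply] at h1
    exact h1
  have hR' : ∀ i : Fin n, (i : ℕ) + 1 < n → sr (e.symm i) ∈ c.R := by
    intro i hi
    rw [hR, Equiv.apply_symm_apply]
    exact hi
  have z0 : ∀ i j : Fin n, Nodes.TypeC.A n i j = 0 → form c.cs c.h (sr (e.symm j)) (sr (e.symm i)) = 0 :=
    fun i j hij => form_eq_zero_of_cartan c ((hA' i j).trans hij)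
  have z1 : ∀ i j : Fin n, Nodes.TypeC.A n i j ≠ 0 → form c.cs c.h (sr (e.symm j)) (sr (e.symm i)) ≠ 0 :=
    fun i j hij => form_ne_zero_of_cartan c (by rw [hA']; exact hij)
  have e1 : form c.cs c.h (sr (e.symm na)) (sr (e.symm n1)) = 0 := by
    apply z0
    rw [Nodes.TypeC.A_apply]; simp only [Fin.ext_iff, na, n1]; split_ifs <;> omega
  have e2 : form c.cs c.h (sr (e.symm na)) (sr (e.symm n2)) = 0 := by
    apply z0
    rw [Nodes.TypeC.A_apply]; simp only [Fin.ext_iff, na, n2]; split_ifs <;> omega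
  have e3 : form c.cs c.h (sr (e.symm nb)) (sr (e.symm n2)) = 0 := by
    apply z0
    rw [Nodes.TypeC.A_apply]; simp only [Fin.ext_iff, nb, n2]; split_ifs <;> omega
  have e4 : form c.cs c.h (sr (e.symm nb)) (sr (e.symm na)) ≠ 0 := by
    apply z1
    rw [Nodes.TypeC.A_apply]; simp only [Fin.ext_iff, nb, na]; split_ifs <;> omega
  have e5 : form c.cs c.h (sr (e.symm nb)) (sr (e.symm n1)) ≠ 0 := by
    apply z1
    rw [Nodes.TypeC.A_apply]; simp only [Fin.ext_iff, nb, n1]; split_ifs <;> omega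
  have a12 : c.A (e.symm n2) (e.symm n1) = -1 := by
    rw [hA', Nodes.TypeC.A_apply]; simp only [Fin.ext_iff, n1, n2]; split_ifs <;> omega
  have a21 : c.A (e.symm n1) (e.symm n2) = -2 := by
    rw [hA', Nodes.TypeC.A_apply]; simp only [Fin.ext_iff, n1, n2]; split_ifs <;> omega
  have hr : rep c.cs c.h (c.cs.simple (e.symm n2)) (sr (e.symm n1)) = sr (e.symm n1) + sr (e.symm n2) := by
    rw [rep_simple_eq, Nodes.OrthRoot.pairing_sr, a12]
    rw [neg_smul, one_smul, sub_neg_eq_add]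
  have hRn1 : sr (e.symm n1) ∈ c.R := hR' _ (by simp only [n1]; omega)
  refine ⟨sr (e.symm na), sr (e.symm nb), sr (e.symm n1),
    rep c.cs c.h (c.cs.simple (e.symm n2)) (sr (e.symm n1)), hR' _ (by simp only [na]; omega),
    hR' _ (by simp only [nb]; omega), hRn1, c.cls.act _ hRn1 _, e1, ?_, ?_, e4, e5, ?_⟩
  · rw [hr, form_add_right, e1, e2, add_zero]
  · rw [hr, form_add_right]
    have f1 := Nodes.OrthRoot.two_form_sr c.cs c.h (e.symm n1) (e.symm n2)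
    rw [a21] at f1
    rw [form_comm c.cs c.h (sr (e.symm n1)) (sr (e.symm n2))]
    omega
  · rw [hr, form_add_right, e3, add_zero]
    exact e5

/-- **stars in charts of type `B n`, `D n`, `n ≥ 4`** -/
theorem exists_star (c : Chart Om p L) {n : ℕ} (hn : 4 ≤ n) (h : c.IsTy (.B n) ∨ c.IsTy (.D n)) :
    ∃ a b c₁ c₂, Star c a b c₁ c₂ := by
  rcases h with h | h
  · exact exists_star_B c hn h
  · exact exists_star_D c hn h

/-- the member of a classical root -/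
abbrev KK (c : Chart Om p L) (r : c.I → ℤ) : Subgroup G := c.Z r ⊔ c.Z (-r)

/-- orthogonal roots: commuting members -/
theorem cm_KK (c : Chart Om p L) {r s : c.I → ℤ} (hr : r ∈ c.R) (hs : s ∈ c.R) (h0 : form c.cs c.h r s = 0) :
    cm (KK c r) (KK c s) := by
  have hr' := neg_mem c.cls hr
  intro x hx
  have key : ∀ y, y ∈ c.R → form c.cs c.h y s = 0 → ∀ a ∈ c.Z y, ∀ b ∈ KK c s, a * b = b * a :=
    fun y hy h1 a ha b hb => Nodes.Perp.X_cm_KK c.cls hs (c.cls.root y hy) h1 a (c.cls.le y hy ha) b hb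
  have h2 : KK c r ≤ Subgroup.centralizer (KK c s : Set G) := by
    refine sup_le ?_ ?_
    · exact cm_iff_le_centralizer.1 (key r hr h0)
    · exact cm_iff_le_centralizer.1 (key (-r) hr' (by rw [form_neg_left, h0, neg_zero]))
  exact cm_iff_le_centralizer.2 h2 x hx

/-- the involutions of two members not orthogonal to `b` -/
theorem le_centralizer_mul (c : Chart Om p L) {a b r : c.I → ℤ} (ha : a ∈ c.R) (hb : b ∈ c.R) (hr : r ∈ c.R)
    (h0 : form c.cs c.h a r = 0) (h1 : form c.cs c.h b a ≠ 0) (h2 : form c.cs c.h b r ≠ 0) :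
    KK c b ≤ Subgroup.centralizer {c.z a * c.z r} := by
  have ne : ∀ {x y : c.I → ℤ}, form c.cs c.h y x = 0 → form c.cs c.h b x ≠ 0 → b ≠ y ∧ b ≠ -y := by
    intro x y hxy hbx
    refine ⟨fun e => hbx (by rw [e]; exact hxy), fun e => hbx (by rw [e, form_neg_left, hxy, neg_zero])⟩
  obtain ⟨n1, n2⟩ := ne h0 h2
  obtain ⟨n3, n4⟩ := ne (by rw [form_comm]; exact h0) h1
  have key : ∀ y, (y = b ∨ y = -b) → ∀ u ∈ c.Z y, u * (c.z a * c.z r) = c.z a * c.z r * u := by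
    intro y hy u hu
    have hyR : y ∈ c.R := by
      rcases hy with rfl | rfl
      · exact hb
      · exact neg_mem c.cls hb
    have inv : ∀ s ∈ c.R, b ≠ s → b ≠ -s → form c.cs c.h b s ≠ 0 → ∀ v ∈ c.X y, c.z s * v * c.z s = v⁻¹ := by
      intro s hs m1 m2 m3 v hv
      rcases hy with rfl | rfl
      · exact c.cls.z_inv s hs y (c.cls.root y hyR) m1 m2 m3 v hv
      · refine c.cls.z_inv s hs _ (c.cls.root _ hyR) ?_ ?_ ?_ v hv
        · intro e; exact m2 (by rw [← e, neg_neg])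
        · intro e; exact m1 (neg_injective e)
        · rw [form_neg_left]; exact neg_ne_zero.2 m3
    have hX := c.cls.le y hyR hu
    have i1 := inv a ha n1 n2 h1 u⁻¹ (inv_mem hX)
    have i2 := inv r hr n3 n4 h2 u hX
    rw [inv_inv] at i1
    have sa := c.cls.z_sq a ha
    have sr' := c.cls.z_sq r hr
    calc u * (c.z a * c.z r) = c.z a * u⁻¹ * c.z a * (c.z a * c.z r) := by rw [i1]
      _ = c.z a * u⁻¹ * (c.z a * c.z a) * c.z r := by group
      _ = c.z a * u⁻¹ * c.z r := by rw [sa, mul_one]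
      _ = c.z a * (c.z r * u * c.z r) * c.z r := by rw [i2]
      _ = c.z a * c.z r * u * (c.z r * c.z r) := by group
      _ = c.z a * c.z r * u := by rw [sr', mul_one]
  refine sup_le ?_ ?_
  · intro u hu
    exact Subgroup.mem_centralizer_singleton_iff.2 (key b (Or.inl rfl) u hu)
  · intro u hu
    exact Subgroup.mem_centralizer_singleton_iff.2 (key (-b) (Or.inr rfl) u hu)

/-- members of non-orthogonal roots do not commute -/
theorem not_cm_KK (c : Chart Om p L) {b r : c.I → ℤ} (hb : b ∈ c.R) (hr : r ∈ c.R) (n1 : b ≠ r) (n2 : b ≠ -r)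
    (h0 : form c.cs c.h b r ≠ 0) : ¬ cm (KK c b) (KK c r) := by
  intro hc
  obtain ⟨a, ha⟩ := Subgroup.ne_bot_iff_exists_ne_one.1 (c.cls.ne_bot b hb)
  have ha1 : (a : G) ≠ 1 := fun h => ha (Subtype.ext h)
  have hX := c.cls.le b hb a.2
  have h1 := c.cls.z_inv r hr b (c.cls.root b hb) n1 n2 h0 a hX
  have h2 : (a : G) * c.z r = c.z r * a := hc a (Subgroup.mem_sup_left a.2) _ (c.cls.z_mem r hr)
  rw [← h2, mul_assoc, c.cls.z_sq r hr, mul_one] at h1
  refine ha1 (BDCore.eq_one_of_odd (BDCore.odd_orderOf c.prime c.odd (c.cls.rgd.pgrp' (c.cls.root b hb)) hX) ?_)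
  nth_rw 1 [h1]
  rw [inv_mul_cancel]

end Roots

/-! ### The connecting member -/

section Conn

variable {G : Type*} [Group G] [Finite G] {Om : Set (Subgroup G)} {p : ℕ} {K K' E : Subgroup G}

/-- **The connecting member.** -/
theorem exists_conn (am : Amb Om) (t : Tw Om K K' E) (c : Chart Om p E) (hnt : Nontrivial c.I)
    {a b c₁ c₂ : c.I → ℤ} (st : Star c a b c₁ c₂) {J : Subgroup G} (hJ : J ∈ Om) (hJE : J ≤ E) :
    ∃ M ∈ Om, M ≤ Subgroup.centralizer {zz K * zz J} ∧ ¬ cm M K ∧ ¬ cm M J := by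
  have bE := big_of_chart am.hyp c hnt
  have hle : ∀ {r : c.I → ℤ}, r ∈ c.R → KK c r ≤ E := fun hr => Nodes.StdConn.K_le c hr
  have hom : ∀ {r : c.I → ℤ}, r ∈ c.R → KK c r ∈ Om := fun hr => c.om _ hr
  have ne : ∀ {x y : c.I → ℤ}, form c.cs c.h y x = 0 → form c.cs c.h b x ≠ 0 → b ≠ y ∧ b ≠ -y := by
    intro x y hxy hbx
    refine ⟨fun e => hbx (by rw [e]; exact hxy), fun e => hbx (by rw [e, form_neg_left, hxy, neg_zero])⟩
  -- the twin of `KK a`
  obtain ⟨g, -, tJ⟩ := t.exists_tw am (hom st.ha)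
  have bJ := bE.cj am.hyp g
  generalize cj g K' = J₀' at tJ
  generalize cj g E = F₀ at tJ bJ
  -- a root `r` such that `KK r` is not the twin of `KK a`
  have h12 : KK c c₁ ≠ KK c c₂ := by
    intro e
    have h1 := cm_KK c st.h1 st.h2 st.o
    rw [← e] at h1
    exact BDTwin.not_cm_self am.hyp (hom st.h1) h1
  have hr : ∃ r ∈ c.R, form c.cs c.h a r = 0 ∧ form c.cs c.h b r ≠ 0 ∧ KK c r ≠ J₀' := by
    by_cases h1 : KK c c₁ = J₀'
    · exact ⟨c₂, st.h2, st.a2, st.b2, fun h2 => h12 (h1.trans h2.symm)⟩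
    · exact ⟨c₁, st.h1, st.a1, st.b1, h1⟩
  obtain ⟨r, hr, har, hbr, hne⟩ := hr
  obtain ⟨n1, n2⟩ := ne har hbr
  obtain ⟨n3, n4⟩ := ne (by rw [form_comm]; exact har) st.ba
  have hza : zz (KK c a) = c.z a := zz_eq am.hyp c hnt st.ha
  have hzr : zz (KK c r) = c.z r := zz_eq am.hyp c hnt hr
  have hM₀ : KK c b ≤ Subgroup.centralizer {zz (KK c a) * zz (KK c r)} := by
    rw [hza, hzr]
    exact le_centralizer_mul c st.ha st.hb hr har st.ba hbr
  have hMa : ¬ cm (KK c b) (KK c a) := not_cm_KK c st.hb st.ha n1 n2 st.ba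
  have hMr : ¬ cm (KK c b) (KK c r) := not_cm_KK c st.hb hr n3 n4 hbr
  have hcar : cm (KK c a) (KK c r) := cm_KK c st.ha hr har
  -- the twin of `W = KK r`
  obtain ⟨g', -, tW⟩ := t.exists_tw am (hom hr)
  have bW := bE.cj am.hyp g'
  generalize cj g' K' = W' at tW
  generalize cj g' E = F at tW bW
  have hW'E : W' ≤ E := BDLabel.twin_le am t bE tW bW (hle hr)
  have H : Two Om K K' E (KK c r) W' F := ⟨am, t, tW, bE, bW, hle hr, hW'E⟩
  obtain ⟨w, w1, w2, w3, w4, w5, w6⟩ := H.exists_swap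
  have haF : KK c a ≤ F := by
    rcases tW.of_cm _ (hom st.ha) hcar with h1 | h1
    · exfalso
      rw [h1] at tJ
      exact hne (tW.symm.unique am tJ bW bJ).1
    · exact h1
  have h1 : cj w (KK c a) ≤ E := by
    have := Cit.cj_mono w haF
    rwa [w6] at this
  obtain ⟨e, he, hJe⟩ := bE.trans _ (am.hyp.conj _ (hom st.ha) w) h1 J hJ hJE
  have heK : cj e K = K := cj_of_cm t.cm_E he
  have hJ' : J = cj (e * w) (KK c a) := by rw [Cit.cj_mul, ← hJe]
  have hK' : K = cj (e * w) (KK c r) := by rw [Cit.cj_mul, w2, heK]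
  refine ⟨cj (e * w) (KK c b), am.hyp.conj _ (hom st.hb) _, ?_, ?_, ?_⟩
  · have h2 := Cit.cj_mono (e * w) hM₀
    rw [Cit.cj_centralizer] at h2
    have hcomm : zz (KK c a) * zz (KK c r) = zz (KK c r) * zz (KK c a) :=
      hcar _ (am.hyp.zz_mem (hom st.ha)) _ (am.hyp.zz_mem (hom hr))
    have h3 : zz K * zz J = e * w * (zz (KK c a) * zz (KK c r)) * (e * w)⁻¹ := by
      rw [hcomm]
      nth_rw 1 [hK']
      rw [hJ', am.hyp.zz_cj (hom hr), am.hyp.zz_cj (hom st.ha)]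
      group
    rw [h3]
    exact h2
  · intro h2
    rw [hK'] at h2
    exact hMr (cm_cj.1 h2)
  · intro h2
    rw [hJ'] at h2
    exact hMa (cm_cj.1 h2)

end Conn

/-! ### The piece of `C(z_K z_J)` -/

section Piece

universe u

variable {G : Type u} [Group G] {Om : Set (Subgroup G)}

/-- there are no commuting members in a piece of type `C 1` -/
theorem ne_C_one [Finite G] (hyp : Hyp Om) {D : Subgroup G} {τ : Nodes.Chart.Ty} (h : TyPc Om τ D) {J J' : Subgroup G}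
    (hJ : J ∈ Om) (hJ' : J' ∈ Om) (hJD : J ≤ D) (hJD' : J' ≤ D) (hc : cm J J') : τ ≠ .C 1 := by
  rintro rfl
  obtain ⟨nmem, -, -, -, p, c, kind, -, ⟨F, _, _, _, sl⟩, -⟩ := h
  have hcard : Fintype.card c.I = 1 := kind.card
  have hs : Subsingleton c.I := Fintype.card_le_one_iff_subsingleton.1 hcard.le
  have hsl : ∀ M ∈ Om, M ≤ D → Nonempty (Matrix.SpecialLinearGroup (Fin 2) F ≃* M) := by
    intro M hM hMD
    obtain ⟨r, hr, g, -, rfl⟩ := c.om_conj M hM hMD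
    obtain ⟨e⟩ := sl r hr
    exact ⟨e.trans ((c.Z r ⊔ c.Z (-r)).equivMapOfInjective (MulAut.conj g).toMonoidHom (MulAut.conj g).injective)⟩
  set kk : Fin 2 → Subgroup G := ![J, J'] with hkk
  obtain ⟨e0⟩ := hsl J hJ hJD
  obtain ⟨e1⟩ := hsl J' hJ' hJD'
  let e : ∀ i, Matrix.SpecialLinearGroup (Fin 2) F ≃* kk i := fun i => match i with
    | 0 => e0
    | 1 => e1
  have Da : FrameOf.Dat Om F kk (fun i s => if s = 1 then ParabSL2.root (e i) else ParabSL2.rootOp (e i)) := by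
    refine ⟨hyp, ?_, ?_, fun i => ⟨e i, if_pos rfl, if_neg (by decide)⟩⟩
    · intro i
      fin_cases i
      · exact hJ
      · exact hJ'
    · intro i j hij
      fin_cases i <;> fin_cases j
      · exact absurd rfl hij
      · exact hc
      · exact cm_symm hc
      · exact absurd rfl hij
  obtain ⟨y, hy, g, A⟩ := FrameOfFr.exists_adapted' c nmem Da
  have k0 : kk 0 ≤ D := hJD
  have k1 : kk 1 ≤ D := hJD'
  have g0 : g 0 ∈ c.R := A.mem 0 k0
  have g1 : g 1 ∈ c.R := A.mem 1 k1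
  have hor : form c.cs c.h (g 0) (g 1) = 0 := A.orth 0 k0 1 k1 (by decide)
  obtain ⟨i⟩ := c.ne
  have hpos := (form_pos c.cs c.h (sr_ne_zero i)).ne'
  apply hpos
  rcases FrameOfFr.root_of_subsingleton c hs i (c.cls.root _ g0) with h0 | h0 <;>
    rcases FrameOfFr.root_of_subsingleton c hs i (c.cls.root _ g1) with h1 | h1 <;>
    rw [h0, h1] at hor
  · exact hor
  · rwa [form_neg_right, neg_eq_zero] at hor
  · rwa [form_neg_left, neg_eq_zero] at hor
  · rwa [form_neg_left, form_neg_right, neg_neg] at hor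

variable [Finite G] {p : ℕ} {F : Type*} [Field F] [Fintype F] {K K' E : Subgroup G}

/-- **The piece of `C(z_K z_J)` containing `K, K', J, J'`.** -/
theorem exists_piece (am : Amb Om) (hO : ∀ J ∈ Om, OO J = ⊥) (x : EX Om p F) (t : Tw Om K K' E)
    {J M : Subgroup G} (hJ : J ∈ Om) (hJE : J ≤ E) (hM : M ∈ Om)
    (hMt : M ≤ Subgroup.centralizer {zz K * zz J}) (nK : ¬ cm M K) (nJ : ¬ cm M J)
    (C : CorG Om (Subgroup.centralizer {zz K * zz J})) :
    ∃ L, FrameOf.Piece Om (zz K * zz J) L ∧ K ≤ L ∧ K' ≤ L ∧ J ≤ L ∧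
      (∀ J' F', Tw Om J J' F' → J' ≤ E → J' ≤ L) ∧
      ∃ τ, TyPcE Om τ L ∧ ∃ c : Chart Om p L, c.IsTy τ ∧ ((∀ r ∈ c.R, c.Z r = c.X r) ∨ ∃ n, τ = .C n) := by
  set H := Subgroup.centralizer {zz K * zz J} with hH
  have hyp := am.hyp
  have hzJ : zz J ∈ E := hJE (hyp.zz_mem hJ)
  have le_H : ∀ {P : Subgroup G}, P ≤ Subgroup.centralizer {zz K} → P ≤ Subgroup.centralizer {zz J} → P ≤ H := by
    intro P h1 h2 a ha
    have e1 := Subgroup.mem_centralizer_singleton_iff.1 (h1 ha)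
    have e2 := Subgroup.mem_centralizer_singleton_iff.1 (h2 ha)
    rw [hH, Subgroup.mem_centralizer_singleton_iff, ← mul_assoc, e1, mul_assoc, e2, mul_assoc]
  have cz : ∀ {P Q : Subgroup G}, Q ∈ Om → cm P Q → P ≤ Subgroup.centralizer {zz Q} :=
    fun hQ h => cm_le_centralizer hyp hQ h
  have hKJ : cm K J := cm_mono le_rfl hJE t.cm_E
  have hK'J : cm K' J := cm_mono le_rfl hJE t.cm_E'
  have hKH : K ≤ H := le_H (hyp.le_centralizer t.mem) (cz hJ hKJ)
  have hK'H : K' ≤ H := le_H (cz t.mem (cm_symm t.cm_twin)) (cz hJ hK'J)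
  have hJH : J ≤ H := le_H (cz t.mem (cm_symm hKJ)) (hyp.le_centralizer hJ)
  -- `M` does not commute with `K'`
  have nK' : ¬ cm M K' := by
    intro h1
    rcases t.of_cm' M hM h1 with h2 | h2
    · rw [h2] at nJ; exact nJ hKJ
    · exact nK (cm_symm (cm_mono le_rfl h2 t.cm_E))
  have step : ∀ {P Q : Subgroup G}, P ∈ Om → P ≤ H → Q ∈ Om → Q ≤ H → ¬ cm P Q → chn (TypeDet.OmIn Om H) P Q :=
    fun h1 h2 h3 h4 h5 => ReflTransGen.single ⟨⟨h1, h2⟩, ⟨h3, h4⟩, h5⟩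
  have cKM : chn (TypeDet.OmIn Om H) K M := step t.mem hKH hM hMt fun h => nK (cm_symm h)
  have cKK' : chn (TypeDet.OmIn Om H) K K' := cKM.trans (step hM hMt t.mem' hK'H nK')
  have cKJ : chn (TypeDet.OmIn Om H) K J := cKM.trans (step hM hMt hJ hJH nJ)
  have hPT : ∀ {P : Subgroup G}, P ∈ Om → P ≤ H → chn (TypeDet.OmIn Om H) K P → bar H P ≤ PT Om H K :=
    fun h1 h2 h3 => (TypeDet.LocalBar.chn_iff_le_PT C hO ⟨t.mem, hKH⟩ ⟨h1, h2⟩).1 h3
  have bK := hPT t.mem hKH ReflTransGen.refl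
  have bK' := hPT t.mem' hK'H cKK'
  have bJ := hPT hJ hJH cKJ
  have hf := fb_hyp C.hyp H
  have mK : bar H K ∈ fb Om H := bar_mem t.mem hKH
  have mK' : bar H K' ∈ fb Om H := bar_mem t.mem' hK'H
  have mJ : bar H J ∈ fb Om H := bar_mem hJ hJH
  have c1 : cm (bar H K) (bar H K') := (TypeDet.LocalBar.cm_bar_iff C hO t.mem t.mem' hKH hK'H).2 t.cm_twin
  have c2 : cm (bar H K) (bar H J) := (TypeDet.LocalBar.cm_bar_iff C hO t.mem hJ hKH hJH).2 hKJ
  have c3 : cm (bar H K') (bar H J) := (TypeDet.LocalBar.cm_bar_iff C hO t.mem' hJ hK'H hJH).2 hK'J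
  obtain ⟨τ, hτ⟩ := typed_of_three hf (C.pcs.piece hf mK) mK mK' mJ bK bK' bJ c1 c2 c3
  have hne := ne_C_one hf hτ mK mJ bK bJ c2
  have hE := ManyGlue.tyPcE_of_tyPc hτ
  obtain ⟨h1, -, h3, h4⟩ := x.tyPcE C t.mem hKH hE (Or.inr hne)
  have h5 := x.piece C t.mem hKH hE (Or.inr hne)
  refine ⟨TypeDet.piece (TypeDet.OmIn Om H) K, h5, h3 K t.mem hKH bK, h3 K' t.mem' hK'H bK', h3 J hJ hJH bJ, ?_,
    τ, h1, h4⟩
  intro J' F' tJ hJ'E
  have hJ'H : J' ≤ H := le_H (cz t.mem (cm_symm (cm_mono le_rfl hJ'E t.cm_E))) (cz hJ (cm_symm tJ.cm_twin))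
  have nJ' : ¬ cm M J' := by
    intro h6
    rcases tJ.of_cm' M hM h6 with h7 | h7
    · rw [h7] at nK; exact nK (cm_symm hKJ)
    · exact nJ (cm_symm (cm_mono le_rfl h7 tJ.cm_E))
  exact h3 J' tJ.mem' hJ'H (hPT tJ.mem' hJ'H (cKM.trans (step hM hMt tJ.mem' hJ'H nJ')))

end Piece

/-! ### The twins of the branch (O) -/

section Twins

open Finset Classical

universe u

variable {G : Type u} [Group G] [Finite G] {Om : Set (Subgroup G)}
  {ι : Type u} [Fintype ι] {K : ι → Subgroup G}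

/-- **the twins** -/
theorem tw_of_outO (f : IFrm Om K) {q : ι → ι} (h : f.data.OutO q) (k : ι) :
    Tw Om (K k) (K (q k)) (YA Om K ((univ.erase k).erase (q k))) := by
  have key : ∀ k : ι, ∀ L ∈ Om, cm L (K k) → L = K (q k) ∨ L ≤ YA Om K ((univ.erase k).erase (q k)) := by
    intro k L hL hc
    have hLA : L ∈ OmA Om K (univ.erase k) := by
      rw [OmA_erase]
      exact ⟨hL, cm_iff_le_centralizer.1 hc⟩
    by_cases h1 : cm L (K (q k))
    · right
      refine le_YA ⟨hL, fun j hj => ?_⟩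
      by_cases h2 : j = q k
      · rw [h2]; exact h1
      · exact hLA.2 j fun h3 => hj (mem_erase.2 ⟨h2, h3⟩)
    · left
      have hqk : q k ∈ (univ : Finset ι).erase k := Data.mem_er (h.1 k).1
      have h3 : L ∈ OmA Om K (f.data.blk (univ.erase k) (q k)) := by
        refine (mem_OmA_blk_iff f.mem f.comm f.max hqk).2 ⟨hLA, ?_⟩
        exact ReflTransGen.single ⟨mem_OmA f.mem f.comm hqk, hLA, fun h4 => h1 (cm_symm h4)⟩
      rw [(h.2 k).2.1] at h3
      exact (h.2 (q k)).1 L h3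
  have hE : ((univ : Finset ι).erase (q k)).erase (q (q k)) = (univ.erase k).erase (q k) := by
    rw [(h.1 k).2, erase_right_comm]
  refine ⟨f.mem k, f.mem (q k), f.comm _ _ (h.1 k).1.symm, cm_symm (cm_YA ?_), cm_symm (cm_YA ?_), key k, ?_⟩
  · simp
  · simp
  · intro L hL hc
    have h1 := key (q k) L hL hc
    rwa [hE, (h.1 k).2] at h1

theorem amb (hyp : Hyp Om) (hone : ∀ K ∈ Om, ∀ L ∈ Om, ∃ g, Cit.cj g K = L) (b : ExLocal.LB Om) : Amb Om where
  hyp := hyp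
  one K hK L hL := by
    obtain ⟨g, hg⟩ := hone K hK L hL
    exact ⟨g, hg.symm⟩
  f4 K hK L hL h := b.eq_or_cm hK hL h

variable {p : ℕ} {F : Type*} [Field F] [Fintype F]

/-- a typed exact piece has a chart over the characteristic of `EX` -/
theorem chart_of_tyPcE (x : EX Om p F) {τ : Nodes.Chart.Ty} {D : Subgroup G} (h : TyPcE Om τ D) :
    ∃ c : Chart Om p D, c.IsTy τ ∧ KindOk τ ∧ ((∀ r ∈ c.R, c.Z r = c.X r) ∨ ∃ n, τ = .C n) := by
  obtain ⟨-, -, ok, p', c, kind, -, ⟨F', _, _, _, sl⟩, zx⟩ := h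
  obtain ⟨r, hr⟩ := c.Rne
  obtain ⟨e1⟩ := sl r hr
  obtain ⟨e2⟩ := x.sl _ (c.om r hr)
  haveI := x.char
  have hpp : p = p' := char_eq (e2.trans e1.symm)
  subst hpp
  exact ⟨c, kind, ok, zx⟩

/-- **The local input of the identification in the branch (O).** -/
structure LocO (Om : Set (Subgroup G)) (p : ℕ) (K K' E : Subgroup G) : Prop where
  tw : Tw Om K K' E
  chart : ∃ n, 4 ≤ n ∧ ∃ c : Chart Om p E, (c.IsTy (.B n) ∨ c.IsTy (.D n)) ∧ ∀ r ∈ c.R, c.Z r = c.X r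
  loc : ∀ J ∈ Om, J ≤ E → ∃ L, FrameOf.Piece Om (zz K * zz J) L ∧ K ≤ L ∧ K' ≤ L ∧ J ≤ L ∧
    (∀ J' F', Tw Om J J' F' → J' ≤ E → J' ≤ L) ∧
    ∃ τ, TyPcE Om τ L ∧ ∃ c : Chart Om p L, c.IsTy τ ∧ ((∀ r ∈ c.R, c.Z r = c.X r) ∨ ∃ n, τ = .C n)

/-- `LocO` from twins and a chart of type `B n`, `D n`, `n ≥ 4` -/
theorem locO_of (am : Amb Om) (hO : ∀ J ∈ Om, OO J = ⊥) (x : EX Om p F)
    (cor2 : ∀ K ∈ Om, ∀ L ∈ Om, cm K L → zz K ≠ zz L → CorG Om (Subgroup.centralizer {zz K * zz L}))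
    {K K' E : Subgroup G} (t : Tw Om K K' E) {n : ℕ} (hn : 4 ≤ n) (c : Chart Om p E)
    (hc : c.IsTy (.B n) ∨ c.IsTy (.D n)) (hZ : ∀ r ∈ c.R, c.Z r = c.X r) : LocO Om p K K' E where
  tw := t
  chart := ⟨n, hn, c, hc, hZ⟩
  loc J hJ hJE := by
    have hnt : Nontrivial c.I := by
      rcases hc with h | h
      · exact nontrivial_of_isTy h (show 3 ≤ n by omega) (by simp)
      · exact nontrivial_of_isTy h (show 4 ≤ n from hn) (by simp)
    obtain ⟨a, b, c₁, c₂, st⟩ := exists_star c hn hc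
    obtain ⟨M, hM, hMt, nK, nJ⟩ := exists_conn am t c hnt st hJ hJE
    have hne : zz K ≠ zz J := fun e => t.zz_ne am (big_of_chart am.hyp c hnt) hJ hJE e.symm
    exact exists_piece am hO x t hJ hJE hM hMt nK nJ
      (cor2 K t.mem J hJ (cm_mono le_rfl hJE t.cm_E) hne)

/-- **the output of the branch (O)** -/
theorem locO_of_outO (hyp : Hyp Om) (hone : ∀ K ∈ Om, ∀ L ∈ Om, ∃ g, Cit.cj g K = L) (b : ExLocal.LB Om)
    (x : EX Om p F)
    (cor2 : ∀ K ∈ Om, ∀ L ∈ Om, cm K L → zz K ≠ zz L → CorG Om (Subgroup.centralizer {zz K * zz L}))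
    (f : IFrm Om K) (h5 : 5 ≤ Fintype.card ι) (hev : Even (Fintype.card ι)) {q : ι → ι} (hq : f.data.OutO q) {n : ℕ}
    (hn : 2 * (n / 2) + 2 = Fintype.card ι)
    (ht : (∀ k, TyPcE Om (.B n) (YA Om K ((univ.erase k).erase (q k)))) ∨
      ∀ k, TyPcE Om (.D n) (YA Om K ((univ.erase k).erase (q k)))) (k : ι) :
    LocO Om p (K k) (K (q k)) (YA Om K ((univ.erase k).erase (q k))) := by
  have hn4 : 4 ≤ n := by
    obtain ⟨m, hm⟩ := hev
    omega
  have am := amb hyp hone b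
  have t := tw_of_outO f hq k
  rcases ht with h | h
  · obtain ⟨c, h1, -, h2⟩ := chart_of_tyPcE x (h k)
    refine locO_of am b.core x cor2 t hn4 c (Or.inl h1) ?_
    rcases h2 with h2 | ⟨m, h2⟩
    · exact h2
    · exact absurd h2 (by simp)
  · obtain ⟨c, h1, -, h2⟩ := chart_of_tyPcE x (h k)
    refine locO_of am b.core x cor2 t hn4 c (Or.inr h1) ?_
    rcases h2 with h2 | ⟨m, h2⟩
    · exact h2
    · exact absurd h2 (by simp)

end Twins

/-! ### The chart of `G` -/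

section Top

open Finset Classical

universe u

variable {G : Type u} [Group G] [Finite G] {Om : Set (Subgroup G)}
  {ι : Type u} [Fintype ι] {K : ι → Subgroup G}

omit [Finite G] in
theorem close_of_conn
    (conn : ∀ C : Set (Subgroup G), C ⊆ Om → C.Nonempty → (∀ K ∈ C, ∀ L ∈ Om, cm K L → L ∈ C) → C = Om) :
    Close Om := fun Om₀ h => conn Om₀ h.sub h.ne fun K hK L hL hc => h.comm K hK L hL (cm_symm hc)

variable {p : ℕ} {F : Type} [Field F] [Fintype F]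

/-- `BDFinal.Inp` from `LocO` -/
theorem inp_of_locO (am : Amb Om) (x : EX Om p F) {K K' E : Subgroup G} (l : LocO Om p K K' E)
    (syl : ∃ S : Sylow 2 G, ∀ M ∈ OmS Om (S : Subgroup G), M = K ∨ cm M K) (hcl : CloseW Om) :
    BDFinal.Inp Om p F K K' E where
  am := am
  tw := l.tw
  sl := x.sl
  pcs J hJ hJE := by
    obtain ⟨L, h1, h2, -, -, -, τ, -, c, -⟩ := l.loc J hJ hJE
    exact ⟨L, h2, h1, fun _ => ⟨c⟩⟩
  syl := syl
  close := hcl

/-- **`BDFinal.Inp` in the branch (O)** -/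
theorem inp_of_outO (hyp : Hyp Om) (hone : ∀ K ∈ Om, ∀ L ∈ Om, ∃ g, Cit.cj g K = L) (b : ExLocal.LB Om)
    (x : EX Om p F)
    (cor2 : ∀ K ∈ Om, ∀ L ∈ Om, cm K L → zz K ≠ zz L → CorG Om (Subgroup.centralizer {zz K * zz L}))
    (f : IFrm Om K) (S : Sylow 2 G) (hr : Set.range K = OmS Om (S : Subgroup G)) (h5 : 5 ≤ Fintype.card ι)
    (hev : Even (Fintype.card ι)) {q : ι → ι} (hq : f.data.OutO q) {n : ℕ}
    (hn : 2 * (n / 2) + 2 = Fintype.card ι)
    (ht : (∀ k, TyPcE Om (.B n) (YA Om K ((univ.erase k).erase (q k)))) ∨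
      ∀ k, TyPcE Om (.D n) (YA Om K ((univ.erase k).erase (q k)))) (hcl : CloseW Om) (k : ι) :
    BDFinal.Inp Om p F (K k) (K (q k)) (YA Om K ((univ.erase k).erase (q k))) := by
  refine inp_of_locO (amb hyp hone b) x (locO_of_outO hyp hone b x cor2 f h5 hev hq hn ht k) ⟨S, fun M hM => ?_⟩ hcl
  rw [← hr] at hM
  obtain ⟨i, rfl⟩ := hM
  by_cases h : i = k
  · exact Or.inl (by rw [h])
  · exact Or.inr (f.comm i k h)

/-- **The chart of `G` in the branch (O).** -/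
theorem exists_top [IsSimpleGroup G] (hyp : Hyp Om) (hone : ∀ K ∈ Om, ∀ L ∈ Om, ∃ g, Cit.cj g K = L)
    (b : ExLocal.LB Om) (x : EX Om p F)
    (cor2 : ∀ K ∈ Om, ∀ L ∈ Om, cm K L → zz K ≠ zz L → CorG Om (Subgroup.centralizer {zz K * zz L}))
    (conn : ∀ C : Set (Subgroup G), C ⊆ Om → C.Nonempty → (∀ K ∈ C, ∀ L ∈ Om, cm K L → L ∈ C) → C = Om)
    (f : IFrm Om K) (S : Sylow 2 G) (hr : Set.range K = OmS Om (S : Subgroup G)) (h5 : 5 ≤ Fintype.card ι)
    (ho : Even (Fintype.card ι) ∧ ∃ p : ι → ι, f.data.OutO p ∧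
      ((∃ n, 2 * (n / 2) + 2 = Fintype.card ι ∧ ∀ k, TyPcE Om (.B n) (YA Om K ((univ.erase k).erase (p k)))) ∨
        ∃ n, 2 * (n / 2) + 2 = Fintype.card ι ∧ ∀ k, TyPcE Om (.D n) (YA Om K ((univ.erase k).erase (p k))))) :
    ∃ (τ : Nodes.Chart.Ty) (c : Chart Om p (⊤ : Subgroup G)), c.IsTy τ ∧ KindOk τ ∧ 6 ≤ τ.rk ∧
      (∀ r ∈ c.R, c.Z r = c.X r) ∧ ((∃ n, τ = .B n) ∨ ∃ n, τ = .D n) := by
  haveI := x.char
  have hcl := close_of_conn conn
  obtain ⟨hev, q, hq, h⟩ := ho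
  obtain ⟨k⟩ : Nonempty ι := Fintype.card_pos_iff.1 (by omega)
  have h4 : ∀ {n : ℕ}, 2 * (n / 2) + 2 = Fintype.card ι → 4 ≤ n := by
    intro n hn
    obtain ⟨m, hm⟩ := hev
    omega
  rcases h with ⟨n, hn, h⟩ | ⟨n, hn, h⟩
  · have I := inp_of_outO hyp hone b x cor2 f S hr h5 hev hq hn (Or.inl h) hcl.weak k
    have hn4 := h4 hn
    obtain ⟨c, h1, -⟩ := chart_of_tyPcE x (h k)
    obtain ⟨c', h2, h3⟩ := BDFinal.exists_chart_B I c (by omega) h1 (Or.inr ⟨hcl, by omega⟩)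
    exact ⟨_, c', h2, (show 3 ≤ n + 2 by omega), (show 6 ≤ n + 2 by omega), h3, Or.inl ⟨_, rfl⟩⟩
  · have I := inp_of_outO hyp hone b x cor2 f S hr h5 hev hq hn (Or.inr h) hcl.weak k
    have hn4 := h4 hn
    obtain ⟨c, h1, -⟩ := chart_of_tyPcE x (h k)
    obtain ⟨c', h2, h3⟩ := BDFinal.exists_chart_D I c (by omega) h1 (Or.inr hcl)
    exact ⟨_, c', h2, (show 4 ≤ n + 2 by omega), (show 6 ≤ n + 2 - 2 + 2 by omega), h3, Or.inr ⟨_, rfl⟩⟩

end Top

end Cfsg.Agent.Cit.DispO
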