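import Mathlib
import Cfsg.Agent.Cit.DispCor
import Cfsg.Agent.Cit.DispGen
import Cfsg.Agent.Cit.ExOut
import Cfsg.Agent.Cit.TypeDet.KindsAll

/-!
# Local pieces and the frame (project CIT)

* `PT_eq_of_le`, `PT_eq_of_chn` : the pieces of the images;
* `delta_eq` : `delta Om L` is the lift of the piece of `C(zz L)` containing all members `≠ L` of `C(zz L)`;
* `chn_of_bar` : chains of images lift to chains of members;
* `kl_of_kt` : a frame of three members of a typed piece satisfies `KL`;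
* `kl_piece` : if the piece of `K i` in `C(s)` contains a frame of three members then `K i`, `K a` are connected by members
  of the piece commuting with the third.
-/

set_option autoImplicit false
set_option linter.dupNamespace false
set_option linter.style.haveILetI false
set_option linter.unusedSectionVars false

namespace Cfsg.Agent.Cit.DispPc

open Subgroup Cfsg Relation Cfsg.Agent.Cit.UseT Cfsg.Agent.Cit.PieceLift Cfsg.Agent.Cit.PieceG
open Cfsg.Agent.Cit.TypeDet Cfsg.Agent.Cit.ExLocal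
open Cfsg.Agent.Cit.FrameClose (delta le_delta)
open scoped commutatorElement

variable {G : Type*} [Group G] [Finite G] {Om : Set (Subgroup G)}

/-! ### Pieces of images -/

theorem PT_eq_of_le (h : Hyp Om) {H K J : Subgroup G} (hK : K ∈ Om) (hKH : K ≤ H) (hJ : J ∈ Om) (hJH : J ≤ H)
    (hle : bar H J ≤ PT Om H K) : PT Om H J = PT Om H K := by
  by_contra hne
  have h1 := pc_comm (bar_mem (Om := Om) hJ hJH) (bar_mem hK hKH) hne
  exact (fb_hyp h H).not_le_centralizer_self (bar_mem hJ hJH) ((bar_le_PT.trans h1).trans (centralizer_le hle))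

theorem PT_eq_of_chn (b : LB Om) {H : Subgroup G} (C : CorG Om H) {K J : Subgroup G}
    (h : chn (TypeDet.OmIn Om H) K J) : PT Om H K = PT Om H J := by
  induction h with
  | refl => rfl
  | @tail M N _ h2 ih =>
    exact ih.trans (b.PT_eq_of_not_cm C h2.1.1 h2.2.1.1 h2.1.2 h2.2.1.2 h2.2.2)

/-- a member which is not single is not in the piece of its `L` -/
theorem not_bar_le (b : LB Om) {L K : Subgroup G} (hL : L ∈ Om) (hK : K ∈ Om) (hKL : K ≤ centralizer {zz L})
    (hne : PT Om (centralizer {zz L}) K ∉ fb Om (centralizer {zz L})) :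
    ¬ bar (centralizer {zz L}) L ≤ PT Om (centralizer {zz L}) K := by
  intro hle
  have h1 := PT_eq_of_le b.hyp hK hKL hL (b.hyp.le_centralizer hL) hle
  apply hne
  rw [← h1, show PT Om (centralizer {zz L}) L = bar (centralizer {zz L}) L from b.PT_self hL]
  exact bar_mem hL (b.hyp.le_centralizer hL)

/-- **`Δ_L` is the lift of the piece** -/
theorem delta_eq (b : LB Om) {L : Subgroup G} (hL : L ∈ Om) {D' : Subgroup (HQ (centralizer {zz L}))}
    (hD : QP Om (centralizer {zz L}) D') (hLD : ¬ bar (centralizer {zz L}) L ≤ D')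
    (hall : ∀ J ∈ Om, J ≤ centralizer {zz L} → J ≠ L → bar (centralizer {zz L}) J ≤ D')
    (hle : ∀ J ∈ Om, J ≤ centralizer {zz L} → bar (centralizer {zz L}) J ≤ D' → J ≤ DL Om (centralizer {zz L}) D')
    {p : ℕ} (c : Nodes.Chart.Chart Om p (DL Om (centralizer {zz L}) D')) :
    delta Om L = DL Om (centralizer {zz L}) D' := by
  have C := b.cor L hL
  refine le_antisymm ?_ ?_
  · refine iSup₂_le fun J hJ => ?_
    have hJL : J ≤ centralizer {zz L} := b.le_of_cm hL hJ.2.2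
    exact hle J hJ.1 hJL (hall J hJ.1 hJL hJ.2.1)
  · rw [← Nodes.ChartIrr.sSup_omIn c b.hyp.conj]
    refine sSup_le fun M hM => ?_
    have hML : M ≤ centralizer {zz L} := hM.2.trans DL_le
    have hMD : bar (centralizer {zz L}) M ≤ D' := by
      rw [← bar_DL C hD]
      exact bar_mono hM.2
    have hne : M ≠ L := by
      rintro rfl
      exact hLD hMD
    exact le_delta hM.1 hne ((b.eq_or_cm hL hM.1 hML).resolve_left hne)

/-! ### Chains -/

/-- chains of images lift to chains of members -/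
theorem chn_of_bar (b : LB Om) {H : Subgroup G} (C : CorG Om H) {T : Set (Subgroup (HQ H))} (hT : T ⊆ fb Om H)
    {K : Subgroup G} (hK : K ∈ Om) (hKH : K ≤ H) {Y : Subgroup (HQ H)} (h : chn T (bar H K) Y) :
    ∃ M ∈ Om, M ≤ H ∧ bar H M = Y ∧
      chn {M | M ∈ Om ∧ M ≤ H ∧ bar H M ∈ T ∧ chn (TypeDet.OmIn Om H) K M} K M := by
  induction h with
  | refl => exact ⟨K, hK, hKH, rfl, ReflTransGen.refl⟩
  | @tail Y Z _ h2 ih =>
    obtain ⟨M, hM, hMH, rfl, h3⟩ := ih
    obtain ⟨N, hN, hNH, rfl⟩ := exists_bar (hT h2.2.1)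
    have h4 : ¬ cm M N := fun hc => h2.2.2 ((b.cm_iff C hM hN hMH hNH).2 hc)
    have h0 : {M | M ∈ Om ∧ M ≤ H ∧ bar H M ∈ T ∧ chn (TypeDet.OmIn Om H) K M} ⊆ TypeDet.OmIn Om H :=
      fun L hL => ⟨hL.1, hL.2.1⟩
    have h5 : chn (TypeDet.OmIn Om H) K M := chn_mono h0 h3
    have h6 : chn (TypeDet.OmIn Om H) K N :=
      ReflTransGen.tail h5 (show stp (TypeDet.OmIn Om H) M N from ⟨⟨hM, hMH⟩, ⟨hN, hNH⟩, h4⟩)
    have h7 : stp {M | M ∈ Om ∧ M ≤ H ∧ bar H M ∈ T ∧ chn (TypeDet.OmIn Om H) K M} M N :=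
      ⟨⟨hM, hMH, h2.1, h5⟩, ⟨hN, hNH, h2.2.1, h6⟩, h4⟩
    exact ⟨N, hN, hNH, rfl, ReflTransGen.tail h3 h7⟩

theorem kl_of_kt {F : Type*} [Fintype F] {X : Type*} [Group X] {S : Data F X} {τ : Nodes.Chart.Ty} {B : Finset F}
    (h : S.KT τ B) (h3 : B.card = 3) : S.KL B := by
  cases τ with
  | A n => exact h.2 (by omega)
  | B n => have h2 := h.1; omega
  | C n => exact h.2 (by omega)
  | D n => have h2 := h.1; omega
  | E6 => have h2 := h.1; omega
  | E7 => have h2 := h.1; omega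
  | E8 => have h2 := h.1; omega
  | F4 => have h2 := h.1; omega
  | G2 => have h2 : B.card = 1 := h; omega

/-- three commuting members in a piece: `KL` -/
theorem kl_of_piece {X : Type*} [Group X] [Finite X] {Om : Set (Subgroup X)} (hyp : Hyp Om) {D : Subgroup X}
    (hD : Piece Om D) {κ : Type*} [Fintype κ] (h3 : Fintype.card κ = 3) {K : κ → Subgroup X}
    (hK : ∀ i, K i ∈ TypeDet.OmIn Om D) (hc : ∀ i j, i ≠ j → cm (K i) (K j))
    (hmax : ∀ L ∈ TypeDet.OmIn Om D, ∃ i, ¬ cm L (K i)) :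
    ∀ i j, i ≠ j → chn {L | L ∈ TypeDet.OmIn Om D ∧ ∀ k, k ≠ i → k ≠ j → cm L (K k)} (K i) (K j) := by
  classical
  have hne : ∀ i j, i ≠ j → K i ≠ K j := by
    intro i j hij e
    have h1 := hc i j hij
    rw [e] at h1
    exact hyp.not_le_centralizer_self (hK j).1 (cm_iff_le_centralizer.1 h1)
  obtain ⟨x, y, z, hxy, hxz, hyz, -⟩ := Finset.card_eq_three.1 (Finset.card_univ.trans h3)
  cases hD with
  | single mem =>
    have h1 := hyp.eq_of_le (hK x).1 mem (hK x).2
    have h2 := hyp.eq_of_le (hK y).1 mem (hK y).2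
    exact (hne x y hxy (h1.trans h2.symm)).elim
  | chart nmem qs two p c τ kind ok small sl zx =>
    intro i j hij
    have h1 := kl_of_kt (KindsAll.kt hyp c kind hK hc hmax) (by rw [Finset.card_univ, h3])
    have h2 := h1.2.2 i (Finset.mem_univ i) j (Finset.mem_univ j) hij i (by simp) j (by simp)
    obtain ⟨-, -, h4⟩ := h2
    refine chn_mono ?_ h4
    rintro L ⟨hL, hL2⟩
    exact ⟨hL, fun k hki hkj => hL2 k (by simp [hki, hkj])⟩
  | exc qs two p prime odd iso ne zzc three =>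
    rcases three _ (hK x).1 _ (hK y).1 _ (hK z).1 (hK x).2 (hK y).2 (hK z).2
      (cm_iff_le_centralizer.1 (hc x y hxy)) (cm_iff_le_centralizer.1 (hc x z hxz))
      (cm_iff_le_centralizer.1 (hc y z hyz)) with h | h | h
    · exact (hne x y hxy h).elim
    · exact (hne x z hxz h).elim
    · exact (hne y z hyz h).elim
  | mathieu qs two iso ne mem =>
    exact (false_of_mathieu hyp iso (hK x).1 (hK y).1 (hK z).1 (hK x).2 (hK y).2 (hK z).2 (hc x y hxy)
      (hc x z hxz) (hc y z hyz)).elim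

/-- **the pieces of `C(s)` containing a frame of three members** -/
theorem kl_piece (b : LB Om) {H : Subgroup G} (C : CorG Om H) {κ : Type*} [Fintype κ] (h3 : Fintype.card κ = 3)
    {K : κ → Subgroup G} (hK : ∀ i, K i ∈ Om) (hc : ∀ i j, i ≠ j → cm (K i) (K j))
    (hmax : ∀ L ∈ Om, ∃ i, ¬ cm L (K i)) (hH : ∀ i, K i ≤ H) {i j : κ} (hij : i ≠ j)
    (hA : ∀ k, K k ≤ piece (TypeDet.OmIn Om H) (K i)) :
    ∀ a, a ≠ i → a ≠ j →
      chn {M | M ∈ Om ∧ M ≤ piece (TypeDet.OmIn Om H) (K i) ∧ cm M (K j)} (K i) (K a) := by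
  intro a hai haj
  have hf := fb_hyp b.hyp H
  have hchn : ∀ k, chn (TypeDet.OmIn Om H) (K i) (K k) := by
    intro k
    by_contra hcon
    have h1 : cm (piece (TypeDet.OmIn Om H) (K i)) (K k) := cm_sSup fun M hM => by
      by_contra h2
      exact hcon (hM.2.tail ⟨hM.1, ⟨hK k, hH k⟩, h2⟩)
    exact b.not_cm_self (hK k) (cm_mono (hA k) le_rfl h1)
  have hPT : ∀ k, bar H (K k) ≤ PT Om H (K i) := by
    intro k
    rw [PT_eq_of_chn b C (hchn k)]
    exact bar_le_PT
  have hKb : ∀ k, bar H (K k) ∈ TypeDet.OmIn (fb Om H) (PT Om H (K i)) := fun k => ⟨bar_mem (hK k) (hH k), hPT k⟩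
  have hcb : ∀ k l, k ≠ l → cm (bar H (K k)) (bar H (K l)) := fun k l hkl =>
    (b.cm_iff C (hK k) (hK l) (hH k) (hH l)).2 (hc k l hkl)
  have hmb : ∀ L ∈ TypeDet.OmIn (fb Om H) (PT Om H (K i)), ∃ k, ¬ cm L (bar H (K k)) := by
    intro L hL
    obtain ⟨M, hM, hMH, rfl⟩ := exists_bar hL.1
    obtain ⟨k, hk⟩ := hmax M hM
    exact ⟨k, fun h1 => hk ((b.cm_iff C hM (hK k) hMH (hH k)).1 h1)⟩
  have h1 := kl_of_piece hf (C.pcs.piece hf (bar_mem (hK i) (hH i))) h3 hKb hcb hmb i a (Ne.symm hai)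
  obtain ⟨M, hM, hMH, h2, h4⟩ := chn_of_bar b C (fun L hL => hL.1.1) (hK i) (hH i) h1
  have h5 : M = K a := eq_of_bar_eq C hM (hK a) hMH (hH a) h2
  subst h5
  refine chn_mono ?_ h4
  rintro N ⟨hN, hNH, ⟨-, h6⟩, h7⟩
  exact ⟨hN, le_piece ⟨hN, hNH⟩ h7, (b.cm_iff C hN (hK j) hNH (hH j)).1 (h6 j (Ne.symm hij) (Ne.symm haj))⟩

end Cfsg.Agent.Cit.DispPc
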