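import Mathlib
import Cfsg.Agent.Cit.TypeCFin
import Cfsg.Agent.Cit.TypeDet.Group

/-!
# Type `C_n`: frame members in different pieces of `C(z i z j)` (project CIT)

* `comm_of_OmS`, `comm_or_eq` : members are equal or commute if they meet a 2-group in Sylow subgroups, or if one
  centralises the involution of the other;
* `not_le_piece` : if `K i ≤ A`, a piece of `C(z i z j)`, then `K a` commutes with `A`, provided that a piece containing
  `K i`, `K j`, `K a` would satisfy `KL` (`K i`, `K a` connected by members of `A` commuting with `K j`);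
* `par_three_of` : `Par` for three members.
-/

set_option autoImplicit false
set_option linter.unusedSectionVars false
set_option linter.dupNamespace false

namespace Cfsg.Agent.Cit.TypeCThree

open CoxeterSystem Cfsg.Agent.ChevalleyStructure.CoxeterGeom Cfsg.Agent.Tits.Roots Cfsg.Agent.Nodes.TypeC
  Cfsg.Agent.Nodes.Comb Cfsg.Agent.Nodes.Chart Cfsg.Agent.Nodes.KindBC
  Cfsg.Agent.Cit.TypeC Cfsg.Agent.Cit.FrameSign Cfsg.Agent.Cit.TypeCFrm Cfsg.Agent.Cit.TypeCPar
  Cfsg.Agent.Cit.TypeCSwap Cfsg.Agent.Cit.TypeCProv Cfsg.Agent.Cit.TypeCOut Cfsg.Agent.Cit.FrameOf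
  Cfsg.Agent.Cit.FrameClose Cfsg.Agent.Cit.TypeCFin Cfsg.Agent.Cit.TypeDet

variable {G : Type*} [Group G] [Finite G] {Om : Set (Subgroup G)}

section Comm

variable {ι : Type*} {F : Type*} [Field F] (S : Sylow 2 G) {K : ι → Subgroup G} {X : ι → SignType → Subgroup G}
  (D : Dat Om F K X) (hS : Set.range K = OmS Om (S : Subgroup G))

include D hS

theorem comm_of_OmS {P : Subgroup G} (hP : IsPGroup 2 P) {J L : Subgroup G} (hJ : J ∈ OmS Om P)
    (hL : L ∈ OmS Om P) : J = L ∨ cm J L := by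
  obtain ⟨g, hg⟩ := exists_le_cj S hP
  have h1 := OmS_mono (Om := Om) hg hJ
  have h2 := OmS_mono (Om := Om) hg hL
  rw [OmS_cj D.hyp.conj, ← hS] at h1 h2
  obtain ⟨-, ⟨a, rfl⟩, rfl⟩ := h1
  obtain ⟨-, ⟨b, rfl⟩, rfl⟩ := h2
  by_cases hab : a = b
  · exact Or.inl (by rw [hab])
  · exact Or.inr (cm_cj.2 (D.comm a b hab))

theorem comm_or_eq {J L : Subgroup G} (hJ : J ∈ Om) (hL : L ∈ Om) (h : ∀ x ∈ J, x * zz L = zz L * x) :
    J = L ∨ cm J L := by
  obtain ⟨P, hP⟩ := Hyp.exists_syl J
  obtain ⟨T, hT, hle⟩ := exists_syl_ge (P := P) (C := Subgroup.centralizer {zz L}) hP.2.1 (fun x hx =>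
    Subgroup.mem_centralizer_singleton_iff.2 (h x (hP.1 hx)))
  exact comm_of_OmS S D hS hT.2.1 (mem_OmS_of_le hJ hP hle) (D.hyp.mem_OmS_of_syl hL hT)

end Comm

section Piece

variable {m : ℕ} {F : Type} [Field F] [Fintype F] {p : ℕ} [CharP F p]
  (S : Sylow 2 G) {K : Fin (m + 1) → Subgroup G} {X : Fin (m + 1) → SignType → Subgroup G}
  (D : Dat Om F K X) (hF : Odd (Fintype.card F)) (hg : ∀ i, Good p (X i 1) (zz (K i)))
  (hS : Set.range K = OmS Om (S : Subgroup G)) (hz : Function.Injective fun i => zz (K i))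

include S D hF hg hS hz

/-- **`K a` is not in the piece of `K i` in `C(z i z j)`**. -/
theorem not_le_piece (hm : 2 ≤ m) (hc : ∀ k, ∃ c : Chart Om p (delta Om (K k)), c.IsTy (Ty.C m))
    {i j a : Fin (m + 1)} (hij : i ≠ j) (hia : i ≠ a) (hja : j ≠ a) {A : Subgroup G}
    (hA : FrameOf.Piece Om (zz (K i) * zz (K j)) A) (hKi : K i ≤ A)
    (hchn : K j ≤ A → K a ≤ A → chn {M | M ∈ Om ∧ M ≤ A ∧ cm M (K j)} (K i) (K a)) :
    ∀ x ∈ A, ∀ y ∈ K a, x * y = y * x := by
  have Fr := frame_of D hF hg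
  have C := charts S D hF hg hS hz hm hc
  have hinj := K_injective hz
  have hcomm : ∀ k, k ≠ i → k ≠ j → ∀ x ∈ K k, x * (zz (K i) * zz (K j)) = zz (K i) * zz (K j) * x := by
    intro k hki hkj x hx
    have h1 := D.comm k i hki x hx _ (D.hyp.zz_mem (D.mem i))
    have h2 := D.comm k j hkj x hx _ (D.hyp.zz_mem (D.mem j))
    rw [← mul_assoc, h1, mul_assoc, h2, mul_assoc]
  rcases hA.mem (K a) (D.mem a) (hcomm a (Ne.symm hia) (Ne.symm hja)) with hKa | h
  swap
  · exact h
  exfalso
  -- `K j ≤ A`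
  have hKj : K j ≤ A := by
    have hzz : zz (K i) * zz (K j) = zz (K j) * zz (K i) :=
      D.comm i j hij _ (D.hyp.zz_mem (D.mem i)) _ (D.hyp.zz_mem (D.mem j))
    rcases hA.mem (K j) (D.mem j) (fun x hx => by
      have h1 := D.comm j i (Ne.symm hij) x hx _ (D.hyp.zz_mem (D.mem i))
      have h2 : x * zz (K j) = zz (K j) * x := D.hyp.comm_zz (D.mem j) (Subgroup.le_normalizer hx)
      rw [← mul_assoc, h1, mul_assoc, h2, mul_assoc]) with h | h
    · exact h
    · exfalso
      -- the sign group with signs `1` at `i`, `j`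
      obtain ⟨-, W, _, _, cs, T, nn, Xc, Z, zc, ell, DCa, -⟩ := C a
      obtain ⟨i', rfl⟩ := Fin.exists_succAbove_eq hia
      obtain ⟨j', rfl⟩ := Fin.exists_succAbove_eq hja
      have hij' : i' ≠ j' := fun h => hij (by rw [h])
      have hok : Ok (i', true) (j', true) := Or.inl hij'
      have hr := isRoot_rt cs hok
      have h1 := DCa.X_eq_XX Fr hok (ee_rt _ _)
      have hsi : sv (sg' a.succAbove (i', true)) (sg' a.succAbove (j', true)) (a.succAbove i') = sgn true :=
        sv_left (sg' a.succAbove (i', true)) _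
      have hsj : sv (sg' a.succAbove (i', true)) (sg' a.succAbove (j', true)) (a.succAbove j') = sgn true :=
        sv_right (a := sg' a.succAbove (i', true)) (b := sg' a.succAbove (j', true)) (Or.inl hij)
      have hsi0 : sv (sg' a.succAbove (i', true)) (sg' a.succAbove (j', true)) (a.succAbove i') ≠ 0 := by
        rw [hsi]; exact sgn_ne _
      have hsj0 : sv (sg' a.succAbove (i', true)) (sg' a.succAbove (j', true)) (a.succAbove j') ≠ 0 := by
        rw [hsj]; exact sgn_ne _
      have hle := FrameOf.XX_le D Fr hA hij hsi0 hsj0 hKi (FrameOf.XX_comm_zz Fr hij hsi0 hsj0)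
      rw [← h1] at hle
      apply Nodes.Bruhat.X_ne_bot DCa.cls.rgd hr
      rw [Subgroup.eq_bot_iff_forall]
      intro u hu
      have h2 := hle hu
      rw [h1, mem_XX] at hu
      have h3 := hu (a.succAbove j')
      rw [hsj] at h3
      exact Fr.eq_one_of_mem_Q_zero (sgn_ne true) h3 fun b hb => h u h2 b hb
  have key : ∀ M, chn {M | M ∈ Om ∧ M ≤ A ∧ cm M (K j)} (K i) M → M = K i := by
    intro M hM
    induction hM with
    | refl => rfl
    | @tail M M' _ h2 ih =>
      subst ih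
      obtain ⟨-, ⟨h3, h4, h5⟩, h6⟩ := h2
      rcases comm_or_eq S D hS h3 (D.mem i) (fun x hx => by
        have h7 := hA.le x (h4 hx)
        have h8 : x * zz (K j) = zz (K j) * x := h5 x hx _ (D.hyp.zz_mem (D.mem j))
        have h9 : x * zz (K i) * zz (K j) = zz (K i) * x * zz (K j) := by
          rw [mul_assoc, h7, mul_assoc, ← h8, mul_assoc]
        exact mul_right_cancel h9) with h7 | h7
      · exact h7
      · exact absurd (cm_symm h7) h6
  exact hia (hinj (key _ (hchn hKj hKa))).symm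

end Piece

/-- **`Par` for three members.** -/
theorem par_three_of {F : Type} [Field F] [Fintype F] {p : ℕ} [CharP F p]
    (S : Sylow 2 G) {K : Fin (2 + 1) → Subgroup G} {X : Fin (2 + 1) → SignType → Subgroup G}
    (D : Dat Om F K X) (hF : Odd (Fintype.card F)) (hg : ∀ i, Good p (X i 1) (zz (K i)))
    (hS : Set.range K = OmS Om (S : Subgroup G)) (hz : Function.Injective fun i => zz (K i)) (hp : p.Prime)
    (hp2 : p ≠ 2) (hc : ∀ k, ∃ c : Chart Om p (delta Om (K k)), c.IsTy (Ty.C 2))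
    (hpc : ¬ IsC X (QF K X) → ∀ i j, i ≠ j → ∃ A, FrameOf.Piece Om (zz (K i) * zz (K j)) A ∧ K i ≤ A ∧
      ((∀ k, K k ≤ A) → ∀ a, a ≠ i → a ≠ j → chn {M | M ∈ Om ∧ M ≤ A ∧ cm M (K j)} (K i) (K a))) :
    TypeCFrm.Par X (QF K X) := by
  by_cases hC : IsC X (QF K X)
  · exact par_of S D hF hg hS hz hp hp2 le_rfl hc (Or.inr (Or.inr (Or.inl ⟨rfl, hC⟩)))
  · refine par_of S D hF hg hS hz hp hp2 le_rfl hc (Or.inr (Or.inr (Or.inr fun i j a hij hia hja => ?_)))
    obtain ⟨A, h1, h2, h3⟩ := hpc hC i j hij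
    have hthree : ∀ k, k = i ∨ k = j ∨ k = a := by
      intro k
      by_contra hcon
      push Not at hcon
      obtain ⟨h1, h2, h3⟩ := hcon
      have h4 : ({k, i, j, a} : Finset (Fin (2 + 1))).card ≤ 3 := by
        have := Finset.card_le_univ ({k, i, j, a} : Finset (Fin (2 + 1)))
        rwa [Fintype.card_fin] at this
      rw [Finset.card_insert_of_notMem (by simp [h1, h2, h3]), Finset.card_insert_of_notMem (by simp [hij, hia]),
        Finset.card_insert_of_notMem (by simp [hja]), Finset.card_singleton] at h4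
      omega
    refine ⟨A, K a, h1, h2, le_rfl, not_le_piece S D hF hg hS hz le_rfl hc hij hia hja h1 h2 fun hj ha => ?_⟩
    refine h3 (fun k => ?_) a (Ne.symm hia) (Ne.symm hja)
    rcases hthree k with rfl | rfl | rfl
    · exact h2
    · exact hj
    · exact ha

end Cfsg.Agent.Cit.TypeCThree
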