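import Mathlib
import Cfsg.Agent.Cit.DispPc
import Cfsg.Agent.Cit.CoreThree
import Cfsg.Agent.Cit.TypeCThree
import Cfsg.Agent.Cit.TypeAEnd
import Cfsg.Agent.Cit.CloseOut

/-!
# The dispatcher, `|Om(S)| = 3` (project CIT)

* `In` : the input of `CoreThree.IdStmt`; `In.core` : trivial cores; `In.lb`, `In.ex` : (EX);
* `In.piece` : `Δ_L` is a piece of type `τ`, with a chart;
* `In.typeC` : `C 2` : `HasPieces Om` (type `C 3`); `In.typeA` : `A 3`, `A 4` : `HasPieces Om` (type `A 5`, `A 6`);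
* `idStmt` : `CoreThree.IdStmt`.
-/

set_option autoImplicit false
set_option linter.dupNamespace false
set_option linter.style.haveILetI false
set_option linter.unusedSectionVars false

namespace Cfsg.Agent.Cit.DispThree

open Subgroup Cfsg Relation Cfsg.Agent.Cit.UseT Cfsg.Agent.Cit.PieceLift Cfsg.Agent.Cit.PieceG
open Cfsg.Agent.Cit.TypeDet Cfsg.Agent.Cit.ExLocal Cfsg.Agent.Cit.ExOut Cfsg.Agent.Cit.ExactChart
open Cfsg.Agent.Cit.FrameClose (delta le_delta)
open Cfsg.Agent.Cit.CoresG Cfsg.Agent.Cit.CoreThree Cfsg.Agent.Nodes.Chart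

universe u

/-- the input of `CoreThree.IdStmt` -/
structure In {G : Type u} [Group G] [Finite G] (Om : Set (Subgroup G)) (τ : Nodes.Chart.Ty) : Prop where
  hm : MinS Om
  three : Branches.Card Om 3
  inj : Inj Om
  conn : Conn Om
  con : Con Om
  cor : CoreE Om
  kind : τ = .C 2 ∨ τ = .A 3 ∨ τ = .A 4
  typed : Typed Om τ

variable {G : Type u} [Group G] [Finite G] {Om : Set (Subgroup G)} {τ : Nodes.Chart.Ty}

namespace In

variable (i : In Om τ)

include i

theorem ce : DispCor.CE Om := i.cor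

theorem kindOk : KindOk τ := by
  rcases i.kind with rfl | rfl | rfl
  · exact (by norm_num : 1 ≤ 2)
  · exact (by norm_num : 2 ≤ 3)
  · exact (by norm_num : 2 ≤ 4)

theorem ne_C_one : τ ≠ .C 1 := by
  rcases i.kind with rfl | rfl | rfl
  · intro h
    injection h with h
    omega
  · intro h
    cases h
  · intro h
    cases h

/-- the members of a frame centralise the involutions of the frame -/
theorem le_cent (S : Sylow 2 G) {K L : Subgroup G} (hL : L ∈ OmS Om (S : Subgroup G))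
    (hK : K ∈ OmS Om (S : Subgroup G)) : K ≤ centralizer {zz L} :=
  (DispCor.loc i.hm i.ce S (zz_mem_ES hL) (i.hm.hyp.zz_ne hL.1)).1 K hK

/-- the typed pieces modulo the cores -/
theorem typ (S : Sylow 2 G) {K L : Subgroup G} (hL : L ∈ OmS Om (S : Subgroup G))
    (hK : K ∈ OmS Om (S : Subgroup G)) (hne : L ≠ K) :
    TyPcE (fb Om (centralizer {zz L})) τ (PT Om (centralizer {zz L}) K) := by
  have h := i.typed S L hL K hK hne
  unfold PP at h
  rw [DispCor.pc_eq i.hm i.ce hL.1 hK.1 (i.le_cent S hL hK), DispCor.fam_eq i.hm i.ce hL.1] at h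
  exact ⟨h.nmem, h.qs, i.kindOk, h.ex⟩

/-- the other two members are in one piece -/
theorem PT_eq (S : Sylow 2 G) {K L M : Subgroup G} (hL : L ∈ OmS Om (S : Subgroup G))
    (hK : K ∈ OmS Om (S : Subgroup G)) (hM : M ∈ OmS Om (S : Subgroup G)) (h1 : L ≠ K) (h2 : L ≠ M) :
    PT Om (centralizer {zz L}) K = PT Om (centralizer {zz L}) M := by
  have h := i.con S L hL K hK M hM h1 h2
  unfold PP at h
  rwa [DispCor.pc_eq i.hm i.ce hL.1 hK.1 (i.le_cent S hL hK),
    DispCor.pc_eq i.hm i.ce hL.1 hM.1 (i.le_cent S hL hM)] at h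

/-- **the members have trivial cores** -/
theorem core : ∀ K ∈ Om, OO K = ⊥ := by
  refine DispCor.core_eq_bot i.hm i.ce i.conn fun S K hK M hM hne => ?_
  obtain ⟨L, hE, hKL, hML⟩ := exists_three i.three S hK hM hne
  have hL : L ∈ OmS Om (S : Subgroup G) := by rw [hE]; simp
  have h := i.typ S hL hK hKL.symm
  refine ⟨L, hL, h.nmem, i.PT_eq S hL hK hM hKL.symm hML.symm, ?_⟩
  obtain ⟨-, -, -, p, c, -⟩ := h
  exact ⟨p, ⟨c⟩⟩

theorem lb : LB Om := DispCor.lb i.hm i.ce i.core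

/-- **(EX)** -/
theorem ex (hodd : OddStmt.{u}) : ∃ (p : ℕ) (F : Type) (_ : Field F) (_ : Fintype F), EX Om p F := by
  haveI := i.hm.simple
  refine exists_ex (ExIn.in_of_lb i.hm i.lb hodd i.conn fun N hN K hK hKN hne => ?_)
  obtain ⟨S, h1, h2⟩ := DispCor.exists_frame i.hm.hyp hN (SubCent.mem_cov_of_le hK hKN)
  have hNK : N ≠ K := by
    rintro rfl
    apply hne
    rw [show PT Om (centralizer {zz N}) N = bar (centralizer {zz N}) N from i.lb.PT_self hN]
    exact bar_mem hN hKN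
  obtain ⟨-, -, -, p, c, -, -, h3, -⟩ := i.typ S h2 h1 hNK
  exact ExIn.isCh_of_chart c h3

/-- the members of a frame commute -/
theorem cm_frame (S : Sylow 2 G) {K L : Subgroup G} (hK : K ∈ OmS Om (S : Subgroup G))
    (hL : L ∈ OmS Om (S : Subgroup G)) (hne : K ≠ L) : cm K L :=
  CoresComm.comm_of_OmS i.hm.hyp S.isPGroup' hK hL hne (i.hm.ty K hK.1) (i.hm.ty L hL.1) (i.core K hK.1)
    (i.core L hL.1)

/-- all members `≠ L` of `C(zz L)` are in the piece of `K` -/
theorem bar_le (S : Sylow 2 G) {K L : Subgroup G} (hL : L ∈ OmS Om (S : Subgroup G))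
    (hK : K ∈ OmS Om (S : Subgroup G)) (hne : L ≠ K) {J : Subgroup G} (hJ : J ∈ Om)
    (hJL : J ≤ centralizer {zz L}) (hJne : J ≠ L) :
    bar (centralizer {zz L}) J ≤ PT Om (centralizer {zz L}) K := by
  have b := i.lb
  have C := b.cor L hL.1
  have hD : DD Om (S : Subgroup G) ≤ centralizer {zz L} :=
    DD_le_iff.2 fun M hM => inf_le_left.trans (i.le_cent S hL hM)
  obtain ⟨M, hM, hML, h1⟩ := CorOf.exists_frame_piece b.hyp S hD hJ hJL
  by_cases hLM : L = M
  · exfalso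
    subst hLM
    rw [show PT Om (centralizer {zz L}) L = bar (centralizer {zz L}) L from b.PT_self hL.1] at h1
    have h2 : bar (centralizer {zz L}) J ≤ bar (centralizer {zz L}) L := by
      rw [h1]
      exact bar_le_PT
    have h3 := (fb_hyp b.hyp (centralizer {zz L})).eq_of_le (bar_mem hJ hJL) (bar_mem hL.1 hML) h2
    exact hJne (eq_of_bar_eq C hJ hL.1 hJL hML h3)
  · rw [i.PT_eq S hL hK hM hne hLM, h1]
    exact bar_le_PT

/-- **`Δ_L` is a piece of `C(zz L)` with a chart of type `τ`** -/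
theorem piece {p : ℕ} {F : Type} [Field F] [Fintype F] (x : EX Om p F) (S : Sylow 2 G) {K L : Subgroup G}
    (hL : L ∈ OmS Om (S : Subgroup G)) (hK : K ∈ OmS Om (S : Subgroup G)) (hne : L ≠ K) :
    FrameOf.Piece Om (zz L) (delta Om L) ∧ ∃ c : Chart Om p (delta Om L), c.IsTy τ ∧
      ((∀ r ∈ c.R, c.Z r = c.X r) ∨ ∃ n, τ = .C n) := by
  have b := i.lb
  have C := b.cor L hL.1
  have hKL := i.le_cent S hL hK
  have h := i.typ S hL hK hne
  obtain ⟨-, h2, h3, c, h4, h5⟩ := x.tyPcE C hK.1 hKL h (Or.inr i.ne_C_one)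
  have h6 : FrameOf.Piece Om (zz L) (TypeDet.piece (TypeDet.OmIn Om (centralizer {zz L})) K) :=
    x.piece C hK.1 hKL h (Or.inr i.ne_C_one)
  have h7 : delta Om L = TypeDet.piece (TypeDet.OmIn Om (centralizer {zz L})) K := by
    rw [← h2] at c h3 ⊢
    exact DispPc.delta_eq b hL.1 (qp_PT C hK.1 hKL h.nmem) (DispPc.not_bar_le b hL.1 hK.1 hKL h.nmem)
      (fun J hJ hJL hJne => i.bar_le S hL hK hne hJ hJL hJne) h3 c
  rw [h7]
  exact ⟨h6, c, h4, h5⟩

/-- a frame -/
theorem exists_K (S : Sylow 2 G) : ∃ K : Fin (2 + 1) → Subgroup G, Function.Injective K ∧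
    Set.range K = OmS Om (S : Subgroup G) := by
  obtain ⟨a, b, c, hab, hac, hbc, hE⟩ := Set.ncard_eq_three.1 (i.three S)
  refine ⟨![a, b, c], ?_, ?_⟩
  · intro k l hkl
    fin_cases k <;> fin_cases l <;> first | rfl | (exfalso; simp at hkl; tauto)
  · rw [hE]
    ext x
    simp only [Set.mem_range, Set.mem_insert_iff, Set.mem_singleton_iff]
    constructor
    · rintro ⟨k, rfl⟩
      fin_cases k <;> simp
    · rintro (rfl | rfl | rfl)
      · exact ⟨0, rfl⟩
      · exact ⟨1, rfl⟩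
      · exact ⟨2, rfl⟩

/-- no member commutes with a whole frame -/
theorem max (S : Sylow 2 G) {K : Fin (2 + 1) → Subgroup G} (hS : Set.range K = OmS Om (S : Subgroup G)) :
    ∀ L ∈ Om, ∃ k, ¬ cm L (K k) := by
  intro L hL
  by_contra hcon
  push Not at hcon
  have h1 := FrameProv.mem_OmS_of_comm i.hm.hyp S hL fun M hM => by
    rw [← hS] at hM
    obtain ⟨k, rfl⟩ := hM
    exact hcon k
  rw [← hS] at h1
  obtain ⟨k, rfl⟩ := h1
  exact i.lb.not_cm_self hL (hcon k)

/-- the product of the involutions of two members of the frame -/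
theorem mul_mem_ES (S : Sylow 2 G) {K L : Subgroup G} (hK : K ∈ OmS Om (S : Subgroup G))
    (hL : L ∈ OmS Om (S : Subgroup G)) (hne : K ≠ L) :
    zz K * zz L ∈ ES Om (S : Subgroup G) ∧ zz K * zz L ≠ 1 := by
  refine ⟨mul_mem (zz_mem_ES hK) (zz_mem_ES hL), fun h => hne ?_⟩
  refine i.inj K hK.1 L hL.1 ?_
  rw [← i.hm.hyp.zz_inv hL.1]
  exact eq_inv_of_mul_eq_one_left h

end In

theorem ne_two {p : ℕ} {F : Type} [Field F] [Fintype F] (x : EX Om p F) : p ≠ 2 := by
  rintro rfl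
  haveI := x.char
  obtain ⟨n, -, hn⟩ := FiniteField.card F 2
  have h1 := x.odd
  rw [hn] at h1
  exact absurd (even_two.pow_of_ne_zero n.2.ne') (Nat.not_even_iff_odd.2 h1)

/-! ### Type `C 2` -/

/-- **`C 2` : `HasPieces`** -/
theorem In.typeC (i : In Om (.C 2)) (hodd : OddStmt.{u}) : HasPieces Om := by
  have b := i.lb
  obtain ⟨p, F, _, _, x⟩ := i.ex hodd
  haveI := x.char
  obtain ⟨S⟩ : Nonempty (Sylow 2 G) := inferInstance
  obtain ⟨K, hK, hS⟩ := i.exists_K S
  have hm : ∀ k, K k ∈ OmS Om (S : Subgroup G) := fun k => by rw [← hS]; exact ⟨k, rfl⟩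
  have hne : ∀ k l, k ≠ l → K k ≠ K l := fun k l hkl e => hkl (hK e)
  have hc : ∀ k l, k ≠ l → cm (K k) (K l) := fun k l hkl => i.cm_frame S (hm k) (hm l) (hne k l hkl)
  obtain ⟨X, D, hg⟩ := x.exists_dat b.hyp (fun k => (hm k).1) hc
  have hz : Function.Injective fun k => zz (K k) := fun k l h => hK (i.inj _ (hm k).1 _ (hm l).1 h)
  have hp2 := ne_two x
  have hex : ∀ k : Fin (2 + 1), ∃ l, k ≠ l := by decide
  have hch : ∀ k, ∃ c : Chart Om p (delta Om (K k)), c.IsTy (Ty.C 2) := by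
    intro k
    obtain ⟨l, hl⟩ := hex k
    obtain ⟨-, c, h1, -⟩ := i.piece x S (hm k) (hm l) (hne k l hl)
    exact ⟨c, h1⟩
  have P : TypeCFrm.Par X (FrameOf.QF K X) := by
    refine TypeCThree.par_three_of S D x.odd (fun k => hg k 1 (by decide)) hS hz x.prime hp2 hch fun _ k l hkl => ?_
    obtain ⟨h1, h2⟩ := i.mul_mem_ES S (hm k) (hm l) (hne k l hkl)
    obtain ⟨h3, C⟩ := DispCor.loc i.hm i.ce S h1 h2
    refine ⟨_, DispGen.piece_isPiece (X := K k) b.hyp.conj, le_piece ⟨(hm k).1, h3 _ (hm k)⟩ ReflTransGen.refl,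
      fun hA => ?_⟩
    exact DispPc.kl_piece b C (by simp) (fun k => (hm k).1) hc (i.max S hS) (fun k => h3 _ (hm k)) hkl hA
  obtain ⟨c, h1, h2, h3, -⟩ := TypeCFin.output S D x.odd (fun k => hg k 1 (by decide)) hS hz x.prime hp2 le_rfl
    (fun k l => by
      obtain ⟨g, hg⟩ := i.hm.cls _ (hm k).1 _ (hm l).1
      exact ⟨g, hg.symm⟩) hch P
  exact CloseOut.hasPieces_of_conn i.hm i.core c (.C 3) h1 (by exact (by norm_num : 1 ≤ 3)) le_rfl
    ⟨F, inferInstance, inferInstance, x.char, x.sl⟩ (Or.inr ⟨3, rfl⟩) (hm 0).1 (h2 0) (h3 0)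
    (ExIn.conn_of_adj b i.conn)

/-! ### Type `A 3`, `A 4` -/

/-- **`A 3`, `A 4` : `HasPieces`** -/
theorem In.typeA {ν : ℕ} (i : In Om (.A ν)) (hodd : OddStmt.{u}) : HasPieces Om := by
  have hν : ν = 3 ∨ ν = 4 := by
    rcases i.kind with h | h | h
    · cases h
    · injection h with h
      exact Or.inl h
    · injection h with h
      exact Or.inr h
  have b := i.lb
  obtain ⟨p, F, _, _, x⟩ := i.ex hodd
  haveI := x.char
  obtain ⟨S⟩ : Nonempty (Sylow 2 G) := inferInstance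
  obtain ⟨K, hK, hS⟩ := i.exists_K S
  have hm : ∀ k, K k ∈ OmS Om (S : Subgroup G) := fun k => by rw [← hS]; exact ⟨k, rfl⟩
  have hne : ∀ k l, k ≠ l → K k ≠ K l := fun k l hkl e => hkl (hK e)
  have hc : ∀ k l, k ≠ l → cm (K k) (K l) := fun k l hkl => i.cm_frame S (hm k) (hm l) (hne k l hkl)
  obtain ⟨X, D, hg⟩ := x.exists_dat b.hyp (fun k => (hm k).1) hc
  have hex : ∀ k : Fin (2 + 1), ∃ l, k ≠ l := by decide
  have hch : ∀ k, ∃ c : Chart Om p (delta Om (K k)), c.IsTy (Ty.A ν) := by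
    intro k
    obtain ⟨l, hl⟩ := hex k
    obtain ⟨-, c, h1, -⟩ := i.piece x S (hm k) (hm l) (hne k l hl)
    exact ⟨c, h1⟩
  obtain ⟨G0, c, h1, h2, h3, h4, -⟩ := TypeAEnd.exists_chart D x.odd (fun k => hg k 1 (by decide)) S hS (ν := ν)
    (by omega) (by rw [Nat.card_eq_fintype_card, Fintype.card_fin]; omega) hch (fun h5 => by omega)
  exact CloseOut.hasPieces_of_conn i.hm i.core c (.A (ν + 2)) h1 (show 2 ≤ ν + 2 by omega)
    (show 3 ≤ ν + 2 by omega) ⟨F, inferInstance, inferInstance, x.char, x.sl⟩ (Or.inl h2) (hm 0).1 (h3 0) (h4 0)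
    (ExIn.conn_of_adj b i.conn)

/-- **the identification for `|Om(S)| = 3`** -/
theorem idStmt (hodd : OddStmt.{u}) : IdStmt.{u} := by
  intro G _ _ Om hm h3 hi hco hcon hcE τ hτ ht
  have i : In Om τ := ⟨hm, h3, hi, hco, hcon, hcE, hτ, ht⟩
  rcases hτ with rfl | rfl | rfl
  · exact i.typeC hodd
  · exact i.typeA hodd
  · exact i.typeA hodd

end Cfsg.Agent.Cit.DispThree
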