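import Cfsg.Agent.Cit.ElevenFact
import Cfsg.Agent.Cit.TwoB.LFact
import Cfsg.Agent.Cit.TwoB.CenDef

/-!
# `M₁₁`: `LFact`, `LPair`, `CycCent`

`h : IsoM11 L`, `z` an involution of `L`, `QQ z ≤ K₀ ≤ C(z)` (`QQ z ≃ Q₈`, `SS z ≃ SL(2,3)`).
-/

set_option autoImplicit false

namespace Cfsg.Agent.Cit.ElevenL

open Subgroup Matrix Cfsg.Agent.Cit.Eleven Cfsg.Agent.Cit.ElevenFact Cfsg.Agent.Cit.TwoB

variable {L : Type*} [Group L]

theorem QQ_normal (h : Cfsg.Spor.IsoM11 L) {z : L} (hz : orderOf z = 2) {x y : L}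
    (hx : x * z = z * x) (hy : y ∈ QQ z) : x * y * x⁻¹ ∈ QQ z := by
  rw [mem_QQ h hz] at hy ⊢
  have hc : x * z * x⁻¹ = z := by rw [hx]; group
  rcases hy with rfl | rfl | hy
  · left; group
  · right; left; exact hc
  · right; right
    calc x * y * x⁻¹ * (x * y * x⁻¹) = x * (y * y) * x⁻¹ := by group
      _ = z := by rw [hy, hc]

/-- a subgroup of odd order normalised by `QQ z` in `C(z)` is trivial -/
theorem core (h : Cfsg.Spor.IsoM11 L) {z : L} (hz : orderOf z = 2) {K0 N : Subgroup L} (h1 : QQ z ≤ K0)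
    (h2 : K0 ≤ centralizer {z}) (hN : N ≤ K0) (hK : K0 ≤ normalizer (N : Set L))
    (hodd : Odd (Nat.card N)) : N = ⊥ := by
  have := finite h
  have hcop : ∀ u : L, u ∈ N → u ∈ QQ z → u = 1 := by
    intro u huN huQ
    have h3 : orderOf u ∣ Nat.card N := by
      have := orderOf_dvd_natCard (⟨u, huN⟩ : N)
      rwa [Subgroup.orderOf_mk] at this
    have h4 : orderOf u ∣ 8 := by
      rw [← card_QQ h hz]
      have := orderOf_dvd_natCard (⟨u, huQ⟩ : QQ z)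
      rwa [Subgroup.orderOf_mk] at this
    have h5 : Nat.Coprime (Nat.card N) 8 := by
      have : (8 : ℕ) = 2 ^ 3 := by norm_num
      rw [this]
      exact (Nat.coprime_two_right.2 hodd).pow_right 3
    have h6 : orderOf u ∣ 1 := by
      rw [← Nat.Coprime.gcd_eq_one h5]
      exact Nat.dvd_gcd h3 h4
    exact orderOf_eq_one_iff.1 (Nat.dvd_one.1 h6)
  rw [eq_bot_iff]
  intro x hx
  have hxz : x * z = z * x := mem_cent.1 (h2 (hN hx))
  have hxc : ∀ y ∈ QQ z, x * y = y * x := by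
    intro y hy
    have e1 : x * y * x⁻¹ * y⁻¹ ∈ QQ z := mul_mem (QQ_normal h hz hxz hy) (inv_mem hy)
    have e2 : x * (y * x⁻¹ * y⁻¹) ∈ N :=
      mul_mem hx ((mem_normalizer_iff.1 (hK (h1 hy)) _).1 (inv_mem hx))
    have e3 : x * y * x⁻¹ * y⁻¹ = 1 := by
      apply hcop _ _ e1
      have : x * y * x⁻¹ * y⁻¹ = x * (y * x⁻¹ * y⁻¹) := by group
      rw [this]; exact e2
    rw [mul_inv_eq_one, mul_inv_eq_iff_eq_mul] at e3
    exact e3
  rcases eq_of_comm_QQ h hz hxc with h3 | h3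
  · exact h3
  · exfalso
    have h4 : z = 1 := hcop z (h3 ▸ hx) (z_mem_QQ h hz)
    rw [h4, orderOf_one] at hz
    omega

theorem lfact (h : Cfsg.Spor.IsoM11 L) {z : L} (hz : orderOf z = 2) {K0 : Subgroup L} (h1 : QQ z ≤ K0)
    (h2 : K0 ≤ centralizer {z}) : LFact L K0 z := by
  have hzz : z * z = 1 := by rw [← pow_two, ← hz]; exact pow_orderOf_eq_one z
  have hz1 : z ≠ 1 := by rintro rfl; simp at hz
  exact
    { sq := hzz
      ne := hz1
      one := fun s t hs hs1 ht ht1 => conj_of_sq h hs hs1 ht ht1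
      inn := fun a _ ha => aut_eq_of_le h hzz hz1 h1 a ha
      out := fun a _ ha _ => (outer h ha).elim
      four := exists_comm h hzz hz1
      core := fun N hN hK hodd => core h hz h1 h2 hN hK hodd }

theorem lfact_SS (h : Cfsg.Spor.IsoM11 L) {z : L} (hz : orderOf z = 2) : LFact L (SS z) z :=
  lfact h hz (QQ_le_SS h hz) (SS_le z)

theorem lpair (h : Cfsg.Spor.IsoM11 L) : LPair L := fun _ _ _ _ hs hs1 ht ht1 hst hc hs' hs1' ht' ht1' hst' hc' =>
  pair h hs hs1 ht ht1 hst hc hs' hs1' ht' ht1' hst' hc'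

/-- `C(z) / SL(2,3)` is cyclic of order two -/
theorem cycCent (h : Cfsg.Spor.IsoM11 L) {z : L} (hz : orderOf z = 2) : CycCent L (SS z) z := by
  obtain ⟨e⟩ := nonempty_equiv h hz
  have hdd : ∃ d : X, d.1.det = -1 :=
    ⟨⟨!![1, 0; 0, -1], !![1, 0; 0, -1], by decide, by decide⟩, by decide⟩
  obtain ⟨d, hd⟩ := hdd
  refine ⟨(e.symm d : L), mem_cent.1 (e.symm d).2, ?_⟩
  intro x hx
  have hxc : x ∈ centralizer ({z} : Set L) := mem_cent.2 hx
  rw [SS_eq e]
  rcases det_cases (e ⟨x, hxc⟩) with h1 | h1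
  · refine ⟨0, ?_⟩
    rw [pow_zero, mul_one]
    exact (coe_mem_tr e (K := SLs) (x := ⟨x, hxc⟩)).2 (mem_SLs.2 h1)
  · refine ⟨1, ?_⟩
    rw [pow_one]
    have h2 := (coe_mem_tr e (K := SLs) (x := ⟨x, hxc⟩ * e.symm d)).2 (by
      rw [mem_SLs, map_mul, e.apply_symm_apply]
      show ((e ⟨x, hxc⟩).1 * d.1).det = 1
      rw [det_mul, h1, hd]; decide)
    exact h2

end Cfsg.Agent.Cit.ElevenL
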