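import Cfsg.Agent.Cit.EqClose

/-!
# All involutions `z_K`, `K ∈ Om(S)`, equal, `|Om(S)| = 4`: commuting pairs of type I

bb R18 #8092. `EqFour Om`: `EqZ Om`, `|Om(S)| = 4` and the products `x₁x₂x₃x₄` of elements of order four of the four
members of `Om(S)` are again involutions of members. `Inner Om`: the description of the pairs of type I.

* `EqFour.mem_DD` : if `(z_K, z_L)` is a commuting pair of type I and `z_L ∈ S`, `K ∈ Om(S)` then `z_L ∈ D(S)`.
-/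

set_option autoImplicit false
set_option linter.style.haveILetI false
set_option linter.unusedSectionVars false

namespace Cfsg.Agent.Cit.EqClose

open Subgroup Cfsg

variable {G : Type*} [Group G]

/-- the description of the commuting pairs of type I (special Sylow subgroups) -/
def Inner (Om : Set (Subgroup G)) : Prop :=
  ∀ K ∈ Om, ∀ L ∈ Om, zz K ≠ zz L → zz K * zz L = zz L * zz K → ∀ y ∈ L, y * y = zz L → y * zz K = zz K * y →
    ∀ U : Subgroup G, Syl U (centralizer {zz K} ⊓ centralizer {zz L}) → ∀ T : Sylow 2 G, U ≤ (T : Subgroup G) →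
      K ∈ OmS Om (T : Subgroup G) → ∃ c v n, GQ (K ⊓ (T : Subgroup G)) c v (zz K) n ∧ zz L * c = c * zz L ∧
        zz L * v * (zz L)⁻¹ = v * zz K

/-- `EqZ Om`, `|Om(S)| = 4`, and the products of elements of order four of the four members are `z`'s -/
structure EqFour (Om : Set (Subgroup G)) : Prop extends EqZ Om where
  card : ∀ S : Sylow 2 G, (OmS Om (S : Subgroup G)).ncard = 4
  ss : ∀ S : Sylow 2 G, ∀ K : Fin 4 → Subgroup G, Function.Injective K →
    (∀ i, K i ∈ OmS Om (S : Subgroup G)) → ∀ x : Fin 4 → G, (∀ i, x i ∈ K i ⊓ (S : Subgroup G)) →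
    (∀ i, orderOf (x i) = 4) → ∃ L ∈ Om, zz L = x 0 * x 1 * x 2 * x 3

namespace EqZ

variable [Finite G] {Om : Set (Subgroup G)}

/-- a 2-subgroup of `C(zz K)` lies in a Sylow 2-subgroup `T ≤ C(zz K)` of `G`, `K ∈ Om(T)` -/
theorem exists_sylow_ge (e : EqZ Om) {K R : Subgroup G} (hK : K ∈ Om) (hR : IsPGroup 2 R)
    (hRK : R ≤ centralizer {zz K}) :
    ∃ T : Sylow 2 G, R ≤ T ∧ (T : Subgroup G) ≤ centralizer {zz K} ∧ K ∈ OmS Om (T : Subgroup G) := by
  haveI : Fact (Nat.Prime 2) := ⟨Nat.prime_two⟩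
  obtain ⟨T0, hT0, hR0⟩ := Cit.exists_syl_ge hR hRK
  obtain ⟨T, hT, -⟩ := hT0.exists_sylow_ge
  have hKT : K ∈ OmS Om (T : Subgroup G) := OmS_mono hT (e.hyp.mem_OmS_of_syl hK hT0)
  exact ⟨T, hR0.trans hT, le_normalizer.trans (e.normalizer_le T.isPGroup' hKT), hKT⟩

/-- a member whose involution centralises a Sylow 2-subgroup of another member -/
theorem zz_eq_of_cent (e : EqZ Om) {K L Q : Subgroup G} (hK : K ∈ Om) (hL : L ∈ Om) (hQ : Syl Q K)
    (hc : ∀ x ∈ Q, x * zz L = zz L * x) : zz K = zz L := by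
  obtain ⟨T, hQT, -, hLT⟩ := e.exists_sylow_ge hL hQ.2.1 (fun x hx => mem_centralizer_singleton_iff.2 (hc x hx))
  exact e.eqz T _ (mem_OmS_of_le hK hQ hQT) _ hLT

/-- `Om(T)` consists of the members with involution `zz K` -/
theorem mem_OmS_iff (e : EqZ Om) (T : Sylow 2 G) {K L : Subgroup G} (hK : K ∈ OmS Om (T : Subgroup G)) :
    L ∈ OmS Om (T : Subgroup G) ↔ L ∈ Om ∧ zz L = zz K :=
  ⟨fun hL => ⟨hL.1, e.eqz T _ hL _ hK⟩, fun hL => e.hyp.mem_OmS_of_zz_eq T hK hL.1 hL.2⟩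

end EqZ

/-- a 2-element in two members with different involutions is trivial -/
theorem eq_one_of_mem_mem [Finite G] {Om : Set (Subgroup G)} (h : Hyp Om) {K L S : Subgroup G} (hS : IsPGroup 2 S)
    (hK : K ∈ OmS Om S) (hL : L ∈ Om) (hz : zz K ≠ zz L) {g : G} (hgK : g ∈ K) (hgS : g ∈ S) (hgL : g ∈ L) :
    g = 1 := by
  by_contra hg
  have h1 : zz K ∈ zpowers g := AutQuat.IsQ.mem_zpowers (h.isGQ hK.1 (syl_inf hS hK))
    (fun t ht => h.uniq K hK.1 t ht.1) ⟨hgK, hgS⟩ hg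
  exact hz (h.eq_zz hL ((zpowers_le.2 hgL) h1) (h.zz_mul hK.1) (h.zz_ne hK.1))

section Coord

variable {Q : Subgroup G} {c v z t : G} {n : ℕ}

/-- `t` centralises `c` and maps `v` to `v z`: then `C_Q(t) = ⟨c⟩` -/
theorem mem_zpowers_of_comm (h : GQ Q c v z n) (hc : t * c = c * t) (hv : t * v * t⁻¹ = v * z) {x : G}
    (hx : x ∈ Q) (hxt : x * t = t * x) : x ∈ zpowers c := by
  rcases h.cov x hx with ⟨i, rfl⟩ | ⟨i, rfl⟩
  · exact pow_mem (mem_zpowers c) i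
  · exfalso
    apply h.z_ne
    have h1 : t * c ^ i * t⁻¹ = c ^ i := by
      rw [(show Commute t c from hc).pow_right i |>.eq, mul_inv_cancel_right]
    have h2 : t * (v * c ^ i) * t⁻¹ = v * z * c ^ i := by
      calc t * (v * c ^ i) * t⁻¹ = (t * v * t⁻¹) * (t * c ^ i * t⁻¹) := by group
        _ = _ := by rw [hv, h1]
    rw [← hxt, mul_inv_cancel_right] at h2
    calc z = v⁻¹ * (v * z * c ^ i) * (c ^ i)⁻¹ := by group
      _ = v⁻¹ * (v * c ^ i) * (c ^ i)⁻¹ := by rw [← h2]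
      _ = 1 := by group

end Coord

theorem fin4 {P : Fin 4 → Prop} (h0 : P 0) (h1 : P 1) (h2 : P 2) (h3 : P 3) (i : Fin 4) : P i := by
  fin_cases i
  · exact h0
  · exact h1
  · exact h2
  · exact h3

/-- the action of `w`, `w w = z`, on a generalised quaternion group on which `z` acts as an element of order four -/
theorem exists_act_four {Q : Subgroup G} {c v z' z w : G} {n : ℕ} (h : GQ Q c v z' n) (hc : z * c = c * z)
    (hv : z * v * z⁻¹ = v * z') (hww : w * w = z) (hwQ : w ∈ normalizer (Q : Set G)) (hwc : w * c = c * w) :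
    ∃ i : ℕ, w * v * w⁻¹ = v * c ^ i ∧ c ^ i * c ^ i = z' := by
  have hwz : w * z = z * w := by rw [← hww, mul_assoc]
  have hmem : w * v * w⁻¹ ∈ Q := (mem_normalizer_iff.1 hwQ v).1 h.v_mem
  rcases h.cov _ hmem with ⟨i, hi⟩ | ⟨i, hi⟩
  · exfalso
    apply h.z_ne
    have h1 : z * c ^ i * z⁻¹ = c ^ i := by
      rw [(show Commute z c from hc).pow_right i |>.eq, mul_inv_cancel_right]
    have h2 : z * (w * v * w⁻¹) * z⁻¹ = w * (v * z') * w⁻¹ := by
      calc z * (w * v * w⁻¹) * z⁻¹ = (z * w) * v * (z * w)⁻¹ := by group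
        _ = (w * z) * v * (w * z)⁻¹ := by rw [hwz]
        _ = w * (z * v * z⁻¹) * w⁻¹ := by group
        _ = _ := by rw [hv]
    rw [hi, h1, ← hi] at h2
    calc z' = (w * v)⁻¹ * (w * (v * z') * w⁻¹) * w := by group
      _ = (w * v)⁻¹ * (w * v * w⁻¹) * w := by rw [← h2]
      _ = 1 := by group
  · refine ⟨i, hi, ?_⟩
    have h1 : w * c ^ i * w⁻¹ = c ^ i := by
      rw [(show Commute w c from hwc).pow_right i |>.eq, mul_inv_cancel_right]
    have h2 : z * v * z⁻¹ = v * c ^ i * c ^ i := by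
      calc z * v * z⁻¹ = w * (w * v * w⁻¹) * w⁻¹ := by rw [← hww]; group
        _ = w * (v * c ^ i) * w⁻¹ := by rw [hi]
        _ = (w * v * w⁻¹) * (w * c ^ i * w⁻¹) := by group
        _ = v * c ^ i * c ^ i := by rw [hi, h1]
    rw [hv, mul_assoc] at h2
    exact (mul_left_cancel h2).symm

/-- composition of two such actions -/
theorem act_mul {c v a b : G} {i j : ℕ} (hac : a * c = c * a) (hav : a * v * a⁻¹ = v * c ^ i)
    (hbv : b * v * b⁻¹ = v * c ^ j) : (a * b) * v * (a * b)⁻¹ = v * c ^ (i + j) := by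
  have h1 : a * c ^ j * a⁻¹ = c ^ j := by
    rw [(show Commute a c from hac).pow_right j |>.eq, mul_inv_cancel_right]
  calc (a * b) * v * (a * b)⁻¹ = a * (b * v * b⁻¹) * a⁻¹ := by group
    _ = (a * v * a⁻¹) * (a * c ^ j * a⁻¹) := by rw [hbv]; group
    _ = v * c ^ (i + j) := by rw [hav, h1, pow_add, mul_assoc]

/-- an element centralising `c` and `v` centralises `Q` -/
theorem comm_of_gq {Q : Subgroup G} {c v z a : G} {n : ℕ} (h : GQ Q c v z n) (hc : a * c = c * a)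
    (hv : a * v = v * a) : ∀ x ∈ Q, x * a = a * x := by
  intro x hx
  have h1 : ∀ i : ℕ, Commute a (c ^ i) := fun i => (show Commute a c from hc).pow_right i
  rcases h.cov x hx with ⟨i, rfl⟩ | ⟨i, rfl⟩
  · exact (h1 i).symm.eq
  · exact ((show Commute a v from hv).mul_right (h1 i)).symm.eq

namespace EqFour

variable [Finite G] {Om : Set (Subgroup G)}

/-- enumeration of `Om(S)` -/
theorem exists_enum (e : EqFour Om) (S : Sylow 2 G) : ∃ K : Fin 4 → Subgroup G, Function.Injective K ∧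
    (∀ i, K i ∈ OmS Om (S : Subgroup G)) ∧ ∀ L ∈ OmS Om (S : Subgroup G), ∃ i, K i = L := by
  have h1 : Nat.card (OmS Om (S : Subgroup G)) = 4 := by
    rw [Nat.card_coe_set_eq]; exact e.card S
  have f := Finite.equivFinOfCardEq h1
  refine ⟨fun i => (f.symm i : Subgroup G), fun i j hij => f.symm.injective (Subtype.ext hij),
    fun i => (f.symm i).2, fun L hL => ⟨f ⟨L, hL⟩, by simp⟩⟩

/-- **special Sylow subgroups** : `z' = w₀w₁w₂w₃` -/
theorem special (e : EqFour Om) (hI : Inner Om) {K' : Subgroup G} (hK' : K' ∈ Om) (T : Sylow 2 G)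
    {K : Fin 4 → Subgroup G} (hinj : Function.Injective K) (hK : ∀ i, K i ∈ OmS Om (T : Subgroup G))
    (hne : zz (K 0) ≠ zz K') (hc : zz (K 0) * zz K' = zz K' * zz (K 0)) {U : Subgroup G}
    (hU : Syl U (centralizer {zz (K 0)} ⊓ centralizer {zz K'})) (hUT : U ≤ T)
    {y : G} (hy : y ∈ K') (hyy : y * y = zz K') (hyz : y * zz (K 0) = zz (K 0) * y) :
    ∃ w : Fin 4 → G, (∀ i, w i ∈ K i ⊓ (T : Subgroup G)) ∧ (∀ i, w i * w i = zz (K 0)) ∧
      (∀ i, w i * zz K' = zz K' * w i) ∧ zz K' = w 0 * w 1 * w 2 * w 3 := by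
  haveI : Fact (Nat.Prime 2) := ⟨Nat.prime_two⟩
  have h := e.hyp
  obtain ⟨z, hz⟩ : ∃ z, z = zz (K 0) := ⟨_, rfl⟩
  obtain ⟨z', hz'⟩ : ∃ z', z' = zz K' := ⟨_, rfl⟩
  have hzi : ∀ i, zz (K i) = z := fun i => by rw [hz]; exact e.eqz T _ (hK i) _ (hK 0)
  have hzz : z * z = 1 := by rw [hz]; exact h.zz_mul (hK 0).1
  have hzz' : z' * z' = 1 := by rw [hz']; exact h.zz_mul hK'
  rw [← hz, ← hz'] at hne hc hU
  rw [← hz] at hyz
  rw [← hz'] at hyy
  rw [← hz, ← hz']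
  obtain ⟨T', hUT', hT'C, hK'T⟩ := e.exists_sylow_ge hK' hU.2.1 (hU.1.trans (by rw [hz']; exact inf_le_right))
  have memU : ∀ x ∈ (T : Subgroup G), x * z = z * x → x * z' = z' * x → x ∈ U := by
    intro x hx h1 h2
    have h3 : U = (T : Subgroup G) ⊓ (centralizer {z} ⊓ centralizer {z'}) :=
      hU.eq_of_le (le_inf hUT hU.1) inf_le_right (T.isPGroup'.to_le inf_le_left)
    rw [h3]
    exact ⟨hx, mem_centralizer_singleton_iff.2 h1, mem_centralizer_singleton_iff.2 h2⟩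
  have memU' : ∀ x ∈ (T' : Subgroup G), x * z = z * x → x * z' = z' * x → x ∈ U := by
    intro x hx h1 h2
    have h3 : U = (T' : Subgroup G) ⊓ (centralizer {z} ⊓ centralizer {z'}) :=
      hU.eq_of_le (le_inf hUT' hU.1) inf_le_right (T'.isPGroup'.to_le inf_le_left)
    rw [h3]
    exact ⟨hx, mem_centralizer_singleton_iff.2 h1, mem_centralizer_singleton_iff.2 h2⟩
  -- coordinates in `K i`
  have hI1 : ∀ i, ∃ c v n, GQ (K i ⊓ (T : Subgroup G)) c v z n ∧ z' * c = c * z' ∧ z' * v * z'⁻¹ = v * z := by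
    intro i
    have h1 := hI (K i) (hK i).1 K' hK' (by rw [hzi, ← hz']; exact hne) (by rw [hzi, ← hz']; exact hc) y hy
      (by rw [← hz']; exact hyy) (by rw [hzi]; exact hyz) U (by rw [hzi, ← hz']; exact hU) T hUT (hK i)
    rwa [hzi, ← hz'] at h1
  choose c v n hg hcz hvz using hI1
  obtain ⟨w, hw⟩ : ∃ w : Fin 4 → G, w = fun i => c i ^ 2 ^ n i := ⟨_, rfl⟩
  have hwi : ∀ i, w i = c i ^ 2 ^ n i := fun i => by rw [hw]
  have hwK : ∀ i, w i ∈ K i ⊓ (T : Subgroup G) := fun i => by rw [hwi]; exact pow_mem (hg i).c_mem _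
  have hwz : ∀ i, w i * w i = z := fun i => by rw [hwi]; exact (hg i).w_sq
  have hw4 : ∀ i, orderOf (w i) = 4 := fun i => by rw [hwi]; exact (hg i).orderOf_w
  have hwz' : ∀ i, w i * z' = z' * w i := fun i => by
    rw [hwi]; exact ((show Commute z' (c i) from hcz i).pow_right _).symm.eq
  -- exchange of the roles
  obtain ⟨c', v', n', hg', hc'z, hv'z⟩ : ∃ c v n, GQ (K' ⊓ (T' : Subgroup G)) c v z' n ∧ z * c = c * z ∧
      z * v * z⁻¹ = v * z' := by
    have h1 := hI K' hK' (K 0) (hK 0).1 (by rw [← hz, ← hz']; exact hne.symm) (by rw [← hz, ← hz']; exact hc.symm)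
      (w 0) (hwK 0).1 (by rw [← hz]; exact hwz 0) (by rw [← hz']; exact hwz' 0) U
      (by rw [← hz, ← hz', inf_comm]; exact hU) T' hUT' hK'T
    rwa [← hz, ← hz'] at h1
  have hKz : ∀ i, ∀ x ∈ K i, x * z = z * x := fun i x hx => by
    rw [← hzi i]; exact mem_centralizer_singleton_iff.1 (h.le_centralizer (hK i).1 hx)
  have hK'z : ∀ x ∈ K', x * z' = z' * x := fun x hx => by
    rw [hz']; exact mem_centralizer_singleton_iff.1 (h.le_centralizer hK' hx)
  have hcU : ∀ i, c i ∈ U := fun i => memU _ (hg i).c_mem.2 (hKz i _ (hg i).c_mem.1) (hcz i).symm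
  have hc'U : c' ∈ U := memU' _ hg'.c_mem.2 hc'z.symm (hK'z _ hg'.c_mem.1)
  have ord4 : ∀ {Q : Subgroup G} {c v z : G} {n : ℕ}, GQ Q c v z n → 4 ≤ orderOf c := by
    intro Q c v z n hq
    rw [hq.ord]
    calc 4 = 2 ^ 2 := rfl
      _ ≤ 2 ^ (n + 2) := Nat.pow_le_pow_right (by norm_num) (by omega)
  have hcK' : ∀ i, c i ∈ normalizer (K' : Set G) := fun i =>
    h.norm_four T.isPGroup' (hK i).1 hK' (hg i).c_mem.1 (hg i).c_mem.2 (ord4 (hg i)) (by
      rw [← hz']; exact (hcz i).symm)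
  have hc'K : ∀ i, c' ∈ normalizer (K i : Set G) := fun i =>
    h.norm_four T'.isPGroup' hK' (hK i).1 hg'.c_mem.1 hg'.c_mem.2 (ord4 hg') (by
      rw [hzi]; exact hc'z.symm)
  have norm_inf : ∀ (A B : Subgroup G) (x : G), x ∈ normalizer (A : Set G) → x ∈ B →
      x ∈ normalizer ((A ⊓ B : Subgroup G) : Set G) := by
    intro A B x h1 h2
    rw [mem_normalizer_iff_cj, cj_inf, mem_normalizer_iff_cj.1 h1, mem_normalizer_iff_cj.1 (le_normalizer h2)]
  -- `c i` and `c'` commute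
  have hcc : ∀ i, c i * c' = c' * c i := by
    intro i
    have h1 : c i * c' * (c i)⁻¹ ∈ zpowers c' := by
      refine mem_zpowers_of_comm hg' hc'z hv'z
        ((mem_normalizer_iff.1 (norm_inf _ _ _ (hcK' i) (hUT' (hcU i))) c').1 hg'.c_mem) ?_
      have a1 := hKz i _ (hg i).c_mem.1
      calc c i * c' * (c i)⁻¹ * z = c i * c' * ((c i)⁻¹ * z * c i) * (c i)⁻¹ := by group
        _ = c i * c' * z * (c i)⁻¹ := by rw [mul_assoc (c i)⁻¹ z, ← a1]; group
        _ = c i * z * c' * (c i)⁻¹ := by rw [mul_assoc (c i), ← hc'z]; group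
        _ = z * (c i * c' * (c i)⁻¹) := by rw [a1]; group
    have h2 : c' * c i * c'⁻¹ ∈ zpowers (c i) := by
      refine mem_zpowers_of_comm (hg i) (hcz i) (hvz i)
        ((mem_normalizer_iff.1 (norm_inf _ _ _ (hc'K i) (hUT hc'U)) (c i)).1 (hg i).c_mem) ?_
      have a1 := hK'z _ hg'.c_mem.1
      calc c' * c i * c'⁻¹ * z' = c' * c i * (c'⁻¹ * z' * c') * c'⁻¹ := by group
        _ = c' * c i * z' * c'⁻¹ := by rw [mul_assoc c'⁻¹ z', ← a1]; group
        _ = c' * z' * c i * c'⁻¹ := by rw [mul_assoc c', ← hcz i]; group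
        _ = z' * (c' * c i * c'⁻¹) := by rw [a1]; group
    have h3 : c i * c' * (c i)⁻¹ * c'⁻¹ = 1 := by
      refine eq_one_of_mem_mem h T.isPGroup' (hK i) hK' (by rw [hzi, ← hz']; exact hne)
        (g := c i * c' * (c i)⁻¹ * c'⁻¹) ?_ ?_ ?_
      · have a : c i * c' * (c i)⁻¹ * c'⁻¹ = c i * (c' * c i * c'⁻¹)⁻¹ := by group
        rw [a]
        exact (K i).mul_mem (hg i).c_mem.1 ((K i).inv_mem ((zpowers_le.2 (hg i).c_mem.1) h2))
      · exact mul_mem (mul_mem (mul_mem (hUT (hcU i)) (hUT hc'U)) (inv_mem (hUT (hcU i)))) (inv_mem (hUT hc'U))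
      · exact K'.mul_mem ((zpowers_le.2 hg'.c_mem.1) h1) (K'.inv_mem hg'.c_mem.1)
    rw [mul_inv_eq_one, mul_inv_eq_iff_eq_mul] at h3
    exact h3
  have hwc' : ∀ i, w i * c' = c' * w i := fun i => by
    rw [hwi]; exact ((show Commute c' (c i) from (hcc i).symm).pow_right _).symm.eq
  -- the action of `w i`
  have hact : ∀ i, ∃ j : ℕ, w i * v' * (w i)⁻¹ = v' * c' ^ j ∧ c' ^ j * c' ^ j = z' := by
    intro i
    refine exists_act_four hg' hc'z hv'z (hwz i) ?_ (hwc' i)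
    refine norm_inf _ _ _ ?_ (hUT' ?_)
    · rw [hwi]; exact pow_mem (hcK' i) _
    · rw [hwi]; exact pow_mem (hcU i) _
  choose j hj hjj using hact
  obtain ⟨s, hs⟩ : ∃ s, s = w 0 * w 1 * w 2 * w 3 := ⟨_, rfl⟩
  have hsc : s * c' = c' * s := by
    have a := fun i => (show Commute (w i) c' from hwc' i)
    rw [hs]
    exact (((a 0).mul_left (a 1)).mul_left (a 2)).mul_left (a 3)
  have hsv : s * v' * s⁻¹ = v' * c' ^ (j 0 + j 1 + j 2 + j 3) := by
    have a := fun i => (show Commute (w i) c' from hwc' i)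
    rw [hs]
    exact act_mul (((a 0).mul_left (a 1)).mul_left (a 2)).eq
      (act_mul ((a 0).mul_left (a 1)).eq (act_mul (a 0).eq (hj 0) (hj 1)) (hj 2)) (hj 3)
  have hD2 : c' ^ (j 0 + j 1 + j 2 + j 3) * c' ^ (j 0 + j 1 + j 2 + j 3) = 1 := by
    have a : c' ^ (j 0 + j 1 + j 2 + j 3) * c' ^ (j 0 + j 1 + j 2 + j 3) =
        (c' ^ j 0 * c' ^ j 0) * (c' ^ j 1 * c' ^ j 1) * (c' ^ j 2 * c' ^ j 2) * (c' ^ j 3 * c' ^ j 3) := by
      simp only [← pow_add]
      congr 1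
      ring
    rw [a, hjj, hjj, hjj, hjj, hzz', one_mul, hzz']
  have hsz : s * z = z * s := by
    rw [hs]
    have a := fun i => (show Commute (w i) z from hKz i _ (hwK i).1)
    exact (((a 0).mul_left (a 1)).mul_left (a 2)).mul_left (a 3)
  have hsz' : s * z' = z' * s := by
    rw [hs]
    have a := fun i => (show Commute (w i) z' from hwz' i)
    exact (((a 0).mul_left (a 1)).mul_left (a 2)).mul_left (a 3)
  have hwinv : (w 0)⁻¹ = z * w 0 := by
    rw [inv_eq_iff_mul_eq_one, ← mul_assoc, hKz 0 _ (hwK 0).1, mul_assoc, hwz, hzz]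
  have fin := e.ss T K hinj hK
  have main : ∀ x : Fin 4 → G, (∀ i, x i ∈ K i ⊓ (T : Subgroup G)) → (∀ i, orderOf (x i) = 4) →
      (∀ q ∈ K' ⊓ (T' : Subgroup G), q * (x 0 * x 1 * x 2 * x 3) = (x 0 * x 1 * x 2 * x 3) * q) →
      z' = x 0 * x 1 * x 2 * x 3 := by
    intro x h1 h2 h3
    obtain ⟨L, hL, hLs⟩ := fin x h1 h2
    rw [hz', ← hLs]
    exact e.zz_eq_of_cent hK' hL (syl_inf T'.isPGroup' hK'T) (by rw [hLs]; exact h3)
  by_cases hD : c' ^ (j 0 + j 1 + j 2 + j 3) = 1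
  · refine ⟨w, hwK, hwz, hwz', main w hwK hw4 ?_⟩
    rw [← hs]
    rw [hD, mul_one] at hsv
    exact comm_of_gq hg' hsc (mul_inv_eq_iff_eq_mul.1 hsv)
  · have hDz : c' ^ (j 0 + j 1 + j 2 + j 3) = z' := hg'.eq_z (pow_mem hg'.c_mem _) hD2 hD
    rw [hDz] at hsv
    obtain ⟨x, hx⟩ : ∃ x : Fin 4 → G, x = ![(w 0)⁻¹, w 1, w 2, w 3] := ⟨_, rfl⟩
    have hx0 : x 0 = (w 0)⁻¹ := by rw [hx]; rfl
    have hx1 : x 1 = w 1 := by rw [hx]; rfl
    have hx2 : x 2 = w 2 := by rw [hx]; rfl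
    have hx3 : x 3 = w 3 := by rw [hx]; rfl
    have hprod : x 0 * x 1 * x 2 * x 3 = z * s := by
      rw [hx0, hx1, hx2, hx3, hwinv, hs]; group
    have hxK : ∀ i, x i ∈ K i ⊓ (T : Subgroup G) := by
      refine fin4 ?_ ?_ ?_ ?_
      · rw [hx0]; exact inv_mem (hwK 0)
      · rw [hx1]; exact hwK 1
      · rw [hx2]; exact hwK 2
      · rw [hx3]; exact hwK 3
    have hxz : ∀ i, x i * x i = z := by
      refine fin4 ?_ ?_ ?_ ?_
      · rw [hx0]
        calc (w 0)⁻¹ * (w 0)⁻¹ = (w 0 * w 0)⁻¹ := by group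
          _ = z := by rw [hwz]; exact inv_eq_of_mul_eq_one_right hzz
      · rw [hx1]; exact hwz 1
      · rw [hx2]; exact hwz 2
      · rw [hx3]; exact hwz 3
    have hxz' : ∀ i, x i * z' = z' * x i := by
      refine fin4 ?_ ?_ ?_ ?_
      · rw [hx0]; exact (show Commute (w 0) z' from hwz' 0).inv_left.eq
      · rw [hx1]; exact hwz' 1
      · rw [hx2]; exact hwz' 2
      · rw [hx3]; exact hwz' 3
    have hx4 : ∀ i, orderOf (x i) = 4 := fun i =>
      GQ.orderOf_of_sq (hxz i) hzz (by rw [hz]; exact h.zz_ne (hK 0).1)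
    refine ⟨x, hxK, hxz, hxz', main x hxK hx4 ?_⟩
    rw [hprod]
    refine comm_of_gq hg' ?_ ?_
    · exact ((show Commute z c' from hc'z).mul_left (show Commute s c' from hsc)).eq
    · have h1 : (z * s) * v' * (z * s)⁻¹ = v' := by
        calc (z * s) * v' * (z * s)⁻¹ = (s * z) * v' * (s * z)⁻¹ := by rw [hsz]
          _ = s * (z * v' * z⁻¹) * s⁻¹ := by group
          _ = (s * v' * s⁻¹) * (s * z' * s⁻¹) := by rw [hv'z]; group
          _ = v' * z' * z' := by rw [hsv, hsz', mul_inv_cancel_right]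
          _ = v' := by rw [mul_assoc, hzz', mul_one]
      exact mul_inv_eq_iff_eq_mul.1 h1

/-- the Sylow 2-subgroups of `K t`: if `t ≤ S, T` then some `k ∈ K t` maps `K ⊓ S` to `K ⊓ T` and `t` into
a 2-group `R ≥ t` with `K ⊓ R = K ⊓ T` -/
theorem exists_conj_sylow {K t : Subgroup G} (hn : t ≤ normalizer (K : Set G)) {S T : Subgroup G}
    (hS : IsPGroup 2 S) (hT : IsPGroup 2 T) (hKS : Syl (K ⊓ S) K) (hKT : Syl (K ⊓ T) K) (htS : t ≤ S) (htT : t ≤ T) :
    ∃ k ∈ t ⊔ K, cj k (K ⊓ S) = K ⊓ T ∧ ∃ R : Subgroup G, t ≤ R ∧ K ⊓ R = K ⊓ T ∧ ∀ x ∈ t, k * x * k⁻¹ ∈ R := by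
  obtain ⟨R1, hR1, h1⟩ := Cit.exists_syl_ge (P := t ⊔ (K ⊓ S)) (C := t ⊔ K)
    (hS.to_le (sup_le htS inf_le_right)) (sup_le_sup_left inf_le_left _)
  obtain ⟨R2, hR2, h2⟩ := Cit.exists_syl_ge (P := t ⊔ (K ⊓ T)) (C := t ⊔ K)
    (hT.to_le (sup_le htT inf_le_right)) (sup_le_sup_left inf_le_left _)
  obtain ⟨k, hk, hk2⟩ := hR1.exists_conj hR2
  have e1 : K ⊓ S = K ⊓ R1 := hKS.eq_of_le (le_inf inf_le_left (le_sup_right.trans h1)) inf_le_left
    (hR1.2.1.to_le inf_le_right)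
  have e2 : K ⊓ T = K ⊓ R2 := hKT.eq_of_le (le_inf inf_le_left (le_sup_right.trans h2)) inf_le_left
    (hR2.2.1.to_le inf_le_right)
  have hkK : cj k K = K := mem_normalizer_iff_cj.1 ((sup_le hn le_normalizer) hk)
  refine ⟨k, hk, ?_, R2, le_sup_left.trans h2, e2.symm, fun x hx => ?_⟩
  · rw [e1, cj_inf, hkK, hk2, e2]
  · rw [← hk2]
    exact conj_mem_cj (h1 (mem_sup_left hx))

/-- transfer of an inner action from `K ⊓ T` to `K ⊓ S` -/
theorem transfer {Om : Set (Subgroup G)} (h : Hyp Om) {K : Subgroup G} (hK : K ∈ Om) {z' w r : G} {S T : Subgroup G}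
    (hS : IsPGroup 2 S) (hT : IsPGroup 2 T) (hKS : Syl (K ⊓ S) K) (hKT : Syl (K ⊓ T) K) (hzS : z' ∈ S)
    (hzT : z' ∈ T) (hn : z' ∈ normalizer (K : Set G)) (hz : z' = w * r) (hw : w ∈ K ⊓ T) (hww : w * w = zz K)
    (hr : ∀ v ∈ K ⊓ T, r * v = v * r) (hzz : z' * z' = 1) :
    ∃ y ∈ K ⊓ S, y * y = zz K ∧ y * z' = z' * y := by
  obtain ⟨k, hk, hkS, R, htR, hR, hkR⟩ := exists_conj_sylow (t := zpowers z') (zpowers_le.2 hn) hS hT hKS hKT
    (zpowers_le.2 hzS) (zpowers_le.2 hzT)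
  have hkN : k ∈ normalizer (K : Set G) := (sup_le (zpowers_le.2 hn) le_normalizer) hk
  obtain ⟨q, hq⟩ : ∃ q, q = k * z' * k⁻¹ * z'⁻¹ := ⟨_, rfl⟩
  have hqK : q ∈ K := by
    obtain ⟨a, ha, b, hb, rfl⟩ := OneBasic.exists_mul_of_mem_sup (A := zpowers z') (zpowers_le.2 hn) hk
    have haz : a * z' = z' * a := by
      obtain ⟨m, rfl⟩ := mem_zpowers_iff.1 ha
      exact ((Commute.refl z').zpow_left m).eq
    have h1 : b * (z' * b⁻¹ * z'⁻¹) ∈ K := K.mul_mem hb ((mem_normalizer_iff.1 hn b⁻¹).1 (K.inv_mem hb))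
    have h2 := (mem_normalizer_iff.1 ((zpowers_le.2 hn) ha) _).1 h1
    have h3 : a * (b * (z' * b⁻¹ * z'⁻¹)) * a⁻¹ = q := by
      have h4 : z'⁻¹ * a⁻¹ = a⁻¹ * z'⁻¹ := by
        rw [← mul_inv_rev, ← mul_inv_rev, haz]
      rw [hq]
      calc a * (b * (z' * b⁻¹ * z'⁻¹)) * a⁻¹ = a * b * z' * b⁻¹ * (z'⁻¹ * a⁻¹) := by group
        _ = a * b * z' * (a * b)⁻¹ * z'⁻¹ := by rw [h4]; group
    rwa [h3] at h2
  have hqR : q ∈ K ⊓ R := ⟨hqK, by
    rw [hq]; exact R.mul_mem (hkR z' (mem_zpowers z')) (R.inv_mem (htR (mem_zpowers z')))⟩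
  rw [hR] at hqR
  obtain ⟨p, hp⟩ : ∃ p, p = q * w := ⟨_, rfl⟩
  have hpm : p ∈ K ⊓ T := by rw [hp]; exact mul_mem hqR hw
  have hkz : k * z' * k⁻¹ = p * r := by
    calc k * z' * k⁻¹ = q * z' := by rw [hq]; group
      _ = p * r := by rw [hp, mul_assoc, ← hz]
  have hrp := hr p hpm
  have hrw := hr w hw
  have hrr : zz K * (r * r) = 1 := by
    calc zz K * (r * r) = w * (w * r) * r := by rw [← hww]; group
      _ = w * (r * w) * r := by rw [hrw]
      _ = (w * r) * (w * r) := by group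
      _ = 1 := by rw [← hz, hzz]
  have hpp : p * p = zz K := by
    have h1 : p * p * (r * r) = 1 := by
      calc p * p * (r * r) = p * (p * r) * r := by group
        _ = p * (r * p) * r := by rw [hrp]
        _ = (p * r) * (p * r) := by group
        _ = k * (z' * z') * k⁻¹ := by rw [← hkz]; group
        _ = 1 := by rw [hzz]; group
    exact mul_right_cancel (h1.trans hrr.symm)
  refine ⟨k⁻¹ * p * k, ?_, ?_, ?_⟩
  · rw [← hkS, mem_cj] at hpm
    exact hpm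
  · calc k⁻¹ * p * k * (k⁻¹ * p * k) = k⁻¹ * (p * p) * k := by group
      _ = k⁻¹ * (zz K * k) := by rw [hpp]; group
      _ = zz K := by rw [← h.comm_zz hK hkN]; group
  · have h1 : p * (k * z' * k⁻¹) = (k * z' * k⁻¹) * p := by
      rw [hkz, mul_assoc, hrp]
    calc k⁻¹ * p * k * z' = k⁻¹ * (p * (k * z' * k⁻¹)) * k := by group
      _ = z' * (k⁻¹ * p * k) := by rw [h1]; group

theorem factor {w : Fin 4 → G} {z' : G} (hz : z' = w 0 * w 1 * w 2 * w 3)
    (hc : ∀ i j, w i * w j = w j * w i) (i : Fin 4) :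
    ∃ r, z' = w i * r ∧ ∀ v : G, (∀ j, j ≠ i → w j * v = v * w j) → r * v = v * r := by
  have tri : ∀ a b c v : G, a * v = v * a → b * v = v * b → c * v = v * c → a * b * c * v = v * (a * b * c) := by
    intro a b c v h1 h2 h3
    exact (((show Commute a v from h1).mul_left (show Commute b v from h2)).mul_left (show Commute c v from h3)).eq
  revert i
  refine fin4 ?_ ?_ ?_ ?_
  · refine ⟨w 1 * w 2 * w 3, by rw [hz]; group, fun v hv => tri _ _ _ _ (hv 1 (by decide)) (hv 2 (by decide))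
      (hv 3 (by decide))⟩
  · refine ⟨w 0 * w 2 * w 3, ?_, fun v hv => tri _ _ _ _ (hv 0 (by decide)) (hv 2 (by decide))
      (hv 3 (by decide))⟩
    show z' = w 1 * (w 0 * w 2 * w 3)
    rw [hz, hc 0 1]; group
  · refine ⟨w 0 * w 1 * w 3, ?_, fun v hv => tri _ _ _ _ (hv 0 (by decide)) (hv 1 (by decide))
      (hv 3 (by decide))⟩
    show z' = w 2 * (w 0 * w 1 * w 3)
    rw [hz]
    calc w 0 * w 1 * w 2 * w 3 = w 0 * (w 1 * w 2) * w 3 := by group
      _ = (w 0 * w 2) * w 1 * w 3 := by rw [hc 1 2]; group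
      _ = w 2 * (w 0 * w 1 * w 3) := by rw [hc 0 2]; group
  · refine ⟨w 0 * w 1 * w 2, ?_, fun v hv => tri _ _ _ _ (hv 0 (by decide)) (hv 1 (by decide))
      (hv 2 (by decide))⟩
    show z' = w 3 * (w 0 * w 1 * w 2)
    rw [hz]
    calc w 0 * w 1 * w 2 * w 3 = w 0 * w 1 * (w 2 * w 3) := by group
      _ = w 0 * (w 1 * w 3) * w 2 := by rw [hc 2 3]; group
      _ = (w 0 * w 3) * w 1 * w 2 := by rw [hc 1 3]; group
      _ = w 3 * (w 0 * w 1 * w 2) := by rw [hc 0 3]; group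

/-- **LEMMA C1** : in a commuting pair of type I, `z' = w₀w₁w₂w₃` with `wᵢ ∈ Kᵢ ⊓ S` of order four, for every Sylow
2-subgroup `S` containing `z'` with `K ∈ Om(S)` -/
theorem exists_prod (e : EqFour Om) (hI : Inner Om) {K' : Subgroup G} (hK' : K' ∈ Om) (S : Sylow 2 G)
    {K : Fin 4 → Subgroup G} (hinj : Function.Injective K) (hK : ∀ i, K i ∈ OmS Om (S : Subgroup G))
    (hne : zz (K 0) ≠ zz K') (hz'S : zz K' ∈ (S : Subgroup G))
    {y : G} (hy : y ∈ K') (hyy : y * y = zz K') (hyz : y * zz (K 0) = zz (K 0) * y) :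
    ∃ w : Fin 4 → G, (∀ i, w i ∈ K i ⊓ (S : Subgroup G)) ∧ (∀ i, w i * w i = zz (K 0)) ∧
      zz K' = w 0 * w 1 * w 2 * w 3 := by
  haveI : Fact (Nat.Prime 2) := ⟨Nat.prime_two⟩
  have h := e.hyp
  have hc : zz (K 0) * zz K' = zz K' * zz (K 0) := (e.comm_zz S.isPGroup' (hK 0) hz'S).symm
  have hSz : (S : Subgroup G) ≤ centralizer {zz (K 0)} :=
    le_normalizer.trans (e.normalizer_le S.isPGroup' (hK 0))
  obtain ⟨U, hU, hSU⟩ := Cit.exists_syl_ge (P := (S : Subgroup G) ⊓ centralizer {zz K'})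
    (C := centralizer {zz (K 0)} ⊓ centralizer {zz K'}) (S.isPGroup'.to_le inf_le_left) (inf_le_inf_right _ hSz)
  obtain ⟨T, hUT, hTC, hKT⟩ := e.exists_sylow_ge (hK 0).1 hU.2.1 (hU.1.trans inf_le_left)
  have hKiz : ∀ i, zz (K i) = zz (K 0) := fun i => e.eqz S _ (hK i) _ (hK 0)
  have hKT' : ∀ i, K i ∈ OmS Om (T : Subgroup G) := fun i => (e.mem_OmS_iff T hKT).2 ⟨(hK i).1, hKiz i⟩
  obtain ⟨w, hwK, hww, hwz, hprod⟩ := e.special hI hK' T hinj hKT' hne hc hU hUT hy hyy hyz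
  have hz'T : zz K' ∈ (T : Subgroup G) := by
    rw [hprod]
    exact mul_mem (mul_mem (mul_mem (hwK 0).2 (hwK 1).2) (hwK 2).2) (hwK 3).2
  have hw4 : ∀ i, orderOf (w i) = 4 := fun i =>
    GQ.orderOf_of_sq (hww i) (h.zz_mul (hK 0).1) (h.zz_ne (hK 0).1)
  have hcomm : ∀ i j, i ≠ j → ∀ v ∈ K i ⊓ (T : Subgroup G), w j * v = v * w j := fun i j hij v hv =>
    h.comm T.isPGroup' (hKT' j) (hKT' i) (fun h1 => hij (hinj h1).symm) (hwK j) hv
  have hwc : ∀ i j, w i * w j = w j * w i := by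
    intro i j
    by_cases hij : j = i
    · rw [hij]
    · exact hcomm j i hij _ (hwK j)
  have hz'D : zz K' ∈ DD Om (T : Subgroup G) := by
    rw [hprod]
    exact mul_mem (mul_mem (mul_mem (inf_le_DD (hKT' 0) (hwK 0)) (inf_le_DD (hKT' 1) (hwK 1)))
      (inf_le_DD (hKT' 2) (hwK 2))) (inf_le_DD (hKT' 3) (hwK 3))
  refine ⟨w, fun i => ⟨(hwK i).1, ?_⟩, hww, hprod⟩
  obtain ⟨r, hr, hrc⟩ := factor hprod hwc i
  have hrv : ∀ v ∈ K i ⊓ (T : Subgroup G), r * v = v * r := fun v hv =>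
    hrc v (fun j hj => hcomm i j (Ne.symm hj) v hv)
  obtain ⟨x, hx, hxx, hxz⟩ := transfer h (hK i).1 S.isPGroup' T.isPGroup' (syl_inf S.isPGroup' (hK i))
    (syl_inf T.isPGroup' (hKT' i)) hz'S hz'T (h.DD_le_normalizer T.isPGroup' (hKT' i) hz'D) hr (hwK i)
    (by rw [hww, hKiz i]) hrv (h.zz_mul hK')
  have hxU : x ∈ U := hSU ⟨hx.2, mem_centralizer_singleton_iff.2 hxz⟩
  have hxT : x ∈ K i ⊓ (T : Subgroup G) := ⟨hx.1, hUT hxU⟩
  have hxw : x * w i = w i * x := by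
    have h1 : x * w i * r = w i * x * r := by
      calc x * w i * r = x * zz K' := by rw [hr]; group
        _ = w i * (r * x) := by rw [hxz, hr]; group
        _ = w i * x * r := by rw [hrv x hxT]; group
    exact mul_right_cancel h1
  obtain ⟨c, v, n, hg⟩ := h.exists_gq (hK i).1 (syl_inf T.isPGroup' (hKT' i))
  have hx4 : orderOf x = 4 := GQ.orderOf_of_sq hxx (h.zz_mul (hK i).1) (h.zz_ne (hK i).1)
  rcases hg.comm_four hxT (hwK i) hx4 (hw4 i) hxw with h1 | h1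
  · rw [← h1]; exact hx.2
  · have h2 : w i = x⁻¹ := by rw [h1, inv_inv]
    rw [h2]; exact (S : Subgroup G).inv_mem hx.2

/-- `z' ∈ D(S)` -/
theorem mem_DD (e : EqFour Om) (hI : Inner Om) {K K' : Subgroup G} (hK' : K' ∈ Om) (S : Sylow 2 G)
    (hK : K ∈ OmS Om (S : Subgroup G)) (hne : zz K ≠ zz K') (hz'S : zz K' ∈ (S : Subgroup G))
    {y : G} (hy : y ∈ K') (hyy : y * y = zz K') (hyz : y * zz K = zz K * y) : zz K' ∈ DD Om (S : Subgroup G) := by
  obtain ⟨K1, hinj, hK1, -⟩ := e.exists_enum S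
  have h1 : zz (K1 0) = zz K := e.eqz S _ (hK1 0) _ hK
  obtain ⟨w, hw, -, hp⟩ := e.exists_prod hI hK' S hinj hK1 (by rw [h1]; exact hne) hz'S hy hyy
    (by rw [h1]; exact hyz)
  rw [hp]
  exact mul_mem (mul_mem (mul_mem (inf_le_DD (hK1 0) (hw 0)) (inf_le_DD (hK1 1) (hw 1)))
    (inf_le_DD (hK1 2) (hw 2))) (inf_le_DD (hK1 3) (hw 3))

end EqFour

end Cfsg.Agent.Cit.EqClose
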