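import Cfsg.Agent.Cit.EqType
import Cfsg.Agent.Cit.EqSS

/-!
# `EqZ Om → Inner Om`

The description of the commuting pairs of type I (`Cit.EqType`) in the form of `Cit.EqSS`.
-/

set_option autoImplicit false
set_option linter.style.haveILetI false

namespace Cfsg.Agent.Cit.EqClose

open Subgroup Cfsg

variable {G : Type*} [Group G] [Finite G] {Om : Set (Subgroup G)}

/-- **(T)** -/
theorem EqZ.inner (e : EqZ Om) : Inner Om := by
  haveI : Fact (Nat.Prime 2) := ⟨Nat.prime_two⟩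
  intro K hK L hL hne _ y hy hyy hyz U hU T hUT hKT
  have hTC : (T : Subgroup G) ≤ centralizer {zz K} :=
    le_normalizer.trans (e.normalizer_le T.isPGroup' hKT)
  have hT : Syl (T : Subgroup G) (centralizer {zz K}) :=
    ⟨hTC, T.isPGroup', fun h2 => T.not_dvd_index (h2.trans (relIndex_dvd_index_of_le hTC))⟩
  obtain ⟨T', hT', hUT'⟩ := Cit.exists_syl_ge hU.2.1 (hU.1.trans inf_le_right)
  obtain ⟨-, c, v, n, hi, -⟩ := EqType.TypeOne.inner e hK ⟨L, hL, rfl, y, hy, hyy, hyz⟩ hne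
    ⟨hU, hT, hT', hUT, hUT'⟩
  exact ⟨c, v, n, hi.gq, hi.comm, hi.act⟩

end Cfsg.Agent.Cit.EqClose
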