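import Cfsg.Agent.Cit.EqGenTwo
import Cfsg.Agent.Cit.EqInner
import Cfsg.Agent.Cit.QuoCen
import Cfsg.Agent.Cit.CoresH

/-!
# Generation modulo a central involution

`EqTN Om N` : all `zz K`, `K ∈ Om(S)`, are equal, `|Om(S)| = 2`, `N` is a central 2-subgroup and the products `x y` of
elements of order four of the two members of `Om(S)` are involutions of members modulo `N`. If `G / N` is simple, then
(Bender, S1175) a subgroup which contains a Sylow 2-subgroup `S` and the centralisers of `zz K`, `K ∈ Om(S)`, and of all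
these products is the whole group (`EqTN.eq_top`); this is `Big.eq_top_of_tt` for the quotient by `N`.

`EqTC Om τ` : the same with `τ x y`, `τ` a central involution of `G`; if `G` has a quasisimple normal subgroup `D`
containing all members, `D ∉ Om`, `Z(D)` a 2-group, then the same conclusion holds (`EqTC.eq_top`).
-/

set_option autoImplicit false
set_option linter.style.haveILetI false
set_option linter.unusedSectionVars false

namespace Cfsg.Agent.Cit.EqCen

open Subgroup Cfsg Cfsg.Agent.Cit Cfsg.Agent.Cit.EqClose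

universe u

/-- Bender's theorem for simple groups -/
def BendStmt : Prop := ∀ (X : Type u) [Group X] [Finite X] [IsSimpleGroup X], CloEnd.Bend X

/-- the form of S1175 which is used, for simple groups -/
def CritStmt : Prop := ∀ (X : Type u) [Group X] [Finite X] [IsSimpleGroup X], CloEnd.Crit1175 X

/-! ### Families in central quotients -/

section

variable {G X : Type*} [Group G] [Group X] {f : G →* X} {Om : Set (Subgroup G)} {K L : Subgroup G}

theorem map_mem_OmS_iff {R : Subgroup X} (hK : K ∈ Om) :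
    K.map f ∈ OmS (img f Om) R ↔ K ∈ OmS Om (R.comap f) := by
  constructor
  · rintro ⟨-, h2⟩
    exact ⟨hK, by rwa [relIndex_comap]⟩
  · rintro ⟨-, h2⟩
    exact ⟨⟨K, hK, rfl⟩, by rwa [relIndex_comap] at h2⟩

theorem OmS_img_eq (R : Subgroup X) : OmS (img f Om) R = (fun K => K.map f) '' OmS Om (R.comap f) := by
  ext J
  constructor
  · intro hJ
    obtain ⟨K, hK, rfl⟩ := hJ.1
    exact ⟨K, (map_mem_OmS_iff hK).1 hJ, rfl⟩
  · rintro ⟨K, hK, rfl⟩
    exact (map_mem_OmS_iff hK.1).2 hK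

theorem isPGroup_comap' (hker : IsPGroup 2 f.ker) {R : Subgroup X} (hR : IsPGroup 2 R) :
    IsPGroup 2 (R.comap f) := hR.comap_of_ker_isPGroup f hker

/-- the preimage of a Sylow 2-subgroup -/
theorem exists_sylow_comap [Finite G] (hf : Function.Surjective f) (hker : IsPGroup 2 f.ker) (R : Sylow 2 X) :
    ∃ S : Sylow 2 G, (S : Subgroup G) = (R : Subgroup X).comap f := by
  haveI : Fact (Nat.Prime 2) := ⟨Nat.prime_two⟩
  haveI : Finite X := Finite.of_surjective f hf
  have h1 : ¬ 2 ∣ ((R : Subgroup X).comap f).index := by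
    rw [index_comap_of_surjective _ hf]
    exact R.not_dvd_index
  exact ⟨(isPGroup_comap' hker R.isPGroup').toSylow h1, rfl⟩

end

/-- central quotients by `N` -/
structure EqTN {G : Type*} [Group G] (Om : Set (Subgroup G)) (N : Subgroup G) : Prop extends EqZ Om where
  le : N ≤ center G
  pgr : IsPGroup 2 N
  nz : ∀ K ∈ Om, zz K ∉ N
  card : ∀ S : Sylow 2 G, (OmS Om (S : Subgroup G)).ncard = 2
  tt : ∀ S : Sylow 2 G, ∀ K ∈ OmS Om (S : Subgroup G), ∀ L ∈ OmS Om (S : Subgroup G), K ≠ L →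
    ∀ x ∈ K ⊓ (S : Subgroup G), ∀ y ∈ L ⊓ (S : Subgroup G), orderOf x = 4 → orderOf y = 4 →
      ∃ J ∈ Om, ∃ n ∈ N, zz J = n * (x * y)

namespace EqTN

section

variable {G X : Type*} [Group G] [Finite G] [Group X] {Om : Set (Subgroup G)} {N : Subgroup G} {f : G →* X}
  {K L : Subgroup G}

theorem comm_of_mem (e : EqTN Om N) {n : G} (hn : n ∈ N) (g : G) : g * n = n * g :=
  mem_center_iff.1 (e.le hn) g

theorem inf_eq (e : EqTN Om N) (hK : K ∈ Om) : K ⊓ N = ⊥ := by
  haveI : Fact (Nat.Prime 2) := ⟨Nat.prime_two⟩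
  by_contra hne
  have h1 : IsPGroup 2 (K ⊓ N : Subgroup G) := e.pgr.to_le inf_le_right
  have h2 : Nat.card (K ⊓ N : Subgroup G) ≠ 1 := fun h => hne (Subgroup.card_eq_one.1 h)
  obtain ⟨k, hk⟩ := IsPGroup.iff_card.1 h1
  have h3 : 2 ∣ Nat.card (K ⊓ N : Subgroup G) := by
    rcases k with _ | k
    · rw [pow_zero] at hk; exact absurd hk h2
    · rw [hk, pow_succ]; exact dvd_mul_left _ _
  obtain ⟨⟨x, hx'⟩, hx⟩ := exists_prime_orderOf_dvd_card' 2 h3
  obtain ⟨hxK, hxN⟩ := mem_inf.1 hx'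
  have h4 : orderOf x = 2 := by rwa [Subgroup.orderOf_mk] at hx
  have h5 : x * x = 1 := by rw [← pow_two, ← h4]; exact pow_orderOf_eq_one x
  have h6 : x ≠ 1 := by rintro rfl; rw [orderOf_one] at h4; omega
  have h7 := e.hyp.eq_zz hK hxK h5 h6
  rw [h7] at hxN
  exact e.nz K hK hxN

theorem zz_map (e : EqTN Om N) (hk : f.ker = N) (hK : K ∈ Om) :
    zz (K.map f) = f (zz K) := QuoCen.zz_map_of_inf e.hyp hK (by rw [hk]; exact e.inf_eq hK)

/-- a member `J` with `zz J = n zz K`, `n ≠ 1`, does not exist -/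
theorem eq_one_of_zz (e : EqTN Om N) {n : G} (hn : n ∈ N) (hK : K ∈ Om) (hL : L ∈ Om) (h1 : zz L = n * zz K) :
    n = 1 := by
  obtain ⟨Q, hQ⟩ := Hyp.exists_syl K
  have h2 : zz K = zz L := by
    refine e.zz_eq_of_cent hK hL hQ fun x hx => ?_
    have h3 : x * zz K = zz K * x := e.hyp.comm_zz hK (le_normalizer (hQ.1 hx))
    rw [h1]
    calc x * (n * zz K) = (x * n) * zz K := by group
      _ = n * (x * zz K) := by rw [e.comm_of_mem hn x]; group
      _ = n * zz K * x := by rw [h3]; group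
  rw [← h2] at h1
  exact mul_eq_right.1 h1.symm

/-- `C(f(z)) = f(C(z))` -/
theorem mem_centralizer_of_map (e : EqTN Om N) (hk : f.ker = N) (hK : K ∈ Om) {g : G}
    (hg : f g * f (zz K) = f (zz K) * f g) : g ∈ centralizer {zz K} := by
  have h1 : g * zz K * g⁻¹ * (zz K)⁻¹ ∈ N := by
    rw [← hk, MonoidHom.mem_ker, map_mul, map_mul, map_mul, map_inv, hg, map_inv]; group
  rw [mem_centralizer_singleton_iff]
  have h2 := e.eq_one_of_zz h1 hK (e.hyp.conj K hK g) (by rw [e.hyp.zz_cj hK]; group)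
  rwa [mul_inv_eq_one, mul_inv_eq_iff_eq_mul] at h2

theorem centralizer_map_le (e : EqTN Om N) (hf : Function.Surjective f) (hk : f.ker = N)
    (hK : K ∈ Om) {M : Subgroup G} (hM : centralizer {zz K} ≤ M) :
    centralizer {f (zz K)} ≤ M.map f := by
  intro x hx
  obtain ⟨g, rfl⟩ := hf x
  exact ⟨g, hM (e.mem_centralizer_of_map hk hK (mem_centralizer_singleton_iff.1 hx)), rfl⟩

/-- the image of the family -/
theorem eqTT (e : EqTN Om N) (hf : Function.Surjective f) (hk : f.ker = N) :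
    EqTT (img f Om) := by
  haveI : Fact (Nat.Prime 2) := ⟨Nat.prime_two⟩
  haveI : Finite X := Finite.of_surjective f hf
  have hp : IsPGroup 2 f.ker := by rw [hk]; exact e.pgr
  have hinf : ∀ K ∈ Om, K ⊓ f.ker = ⊥ := fun K hK => by rw [hk]; exact e.inf_eq hK
  have hX : Hyp (img f Om) := QuoCen.hyp_img_central e.hyp hf (by rw [hk]; exact e.le) hinf
  have hinj : ∀ R : Sylow 2 X, Set.InjOn (fun K => K.map f) (OmS Om ((R : Subgroup X).comap f)) := by
    intro R K hK L hL hKL
    by_contra hne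
    have hT := isPGroup_comap' hp R.isPGroup'
    obtain ⟨c, v, n, hq⟩ := e.hyp.exists_gq hK.1 (syl_inf hT hK)
    apply hq.not_comm
    have h1 : f v ∈ L.map f := by
      have h2 : K.map f = L.map f := hKL
      rw [← h2]; exact ⟨v, hq.v_mem.1, rfl⟩
    obtain ⟨l, hl, hlv⟩ := h1
    have h2 : l⁻¹ * v ∈ N := by rw [← hk, MonoidHom.mem_ker, map_mul, map_inv, hlv, inv_mul_cancel]
    have h3 : l ∈ (R : Subgroup X).comap f := by
      rw [mem_comap, hlv]; exact hq.v_mem.2
    have h4 : c * l = l * c := e.hyp.comm hT hK hL hne hq.c_mem ⟨hl, h3⟩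
    have h5 : v = l * (l⁻¹ * v) := by group
    have h6 := e.comm_of_mem h2 c
    calc v * c = l * ((l⁻¹ * v) * c) := by group
      _ = (l * c) * (l⁻¹ * v) := by rw [← h6]; group
      _ = c * v := by rw [← h4]; group
  have hcard : ∀ R : Sylow 2 X, (OmS (img f Om) (R : Subgroup X)).ncard = 2 := by
    intro R
    obtain ⟨S, hS⟩ := exists_sylow_comap hf hp R
    rw [OmS_img_eq, (hinj R).ncard_image, ← hS]
    exact e.card S
  refine { hyp := hX, ne := ?_, ty := ?_, eqz := ?_, two := ?_, card := hcard, tt := ?_ }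
  · obtain ⟨K, hK⟩ := e.ne
    exact ⟨_, K, hK, rfl⟩
  · rintro _ ⟨K, hK, rfl⟩
    have h1 := e.ty K hK
    unfold TyTwo at h1 ⊢
    refine (Subgroup.map_mono h1).trans ?_
    rw [MonoidHom.map_closure, closure_le]
    rintro _ ⟨c, ⟨hc, ho⟩, rfl⟩
    exact Subgroup.subset_closure ⟨⟨c, hc, rfl⟩, Odd.of_dvd_nat ho (orderOf_map_dvd f c)⟩
  · intro R K' hK' L' hL'
    rw [OmS_img_eq] at hK' hL'
    obtain ⟨K, hK, rfl⟩ := hK'
    obtain ⟨L, hL, rfl⟩ := hL'
    rw [e.zz_map hk hK.1, e.zz_map hk hL.1, e.eq_zz (isPGroup_comap' hp R.isPGroup') hK hL]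
  · intro R K' hK'
    by_contra hcon
    push Not at hcon
    have h1 : OmS (img f Om) (R : Subgroup X) ⊆ {K'} := fun L hL => hcon L hL
    have h2 := Set.ncard_le_ncard h1 (Set.toFinite _)
    rw [hcard R, Set.ncard_singleton] at h2
    omega
  · intro R K' hK' L' hL' hne x' hx' y' hy' hx4 hy4
    rw [OmS_img_eq] at hK' hL'
    obtain ⟨K, hK, rfl⟩ := hK'
    obtain ⟨L, hL, rfl⟩ := hL'
    obtain ⟨⟨x, hx, rfl⟩, hxR⟩ := hx'
    obtain ⟨⟨y, hy, rfl⟩, hyR⟩ := hy'
    obtain ⟨S, hS⟩ := exists_sylow_comap hf hp R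
    rw [QuoCen.orderOf_map (hinf K hK.1) hx] at hx4
    rw [QuoCen.orderOf_map (hinf L hL.1) hy] at hy4
    obtain ⟨J, hJ, n, hn, hJz⟩ := e.tt S K (by rw [hS]; exact hK) L (by rw [hS]; exact hL)
      (fun h1 => hne (by rw [h1])) x ⟨hx, by rw [hS]; exact hxR⟩ y ⟨hy, by rw [hS]; exact hyR⟩ hx4 hy4
    refine ⟨_, ⟨J, hJ, rfl⟩, ?_⟩
    rw [← hk, MonoidHom.mem_ker] at hn
    rw [e.zz_map hk hJ, hJz, map_mul, map_mul, hn, one_mul]

end

/-- an element `x y` of square `1`, `x ∈ K ⊓ S`, `y ∈ L ⊓ S`, `Om(S) = {K, L}` -/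
theorem _root_.Cfsg.Agent.Cit.EqCen.mul_cases {G : Type*} [Group G] [Finite G] {Om : Set (Subgroup G)} (e : EqZ Om)
    {S K L : Subgroup G} (hS : IsPGroup 2 S) (hK : K ∈ OmS Om S) (hL : L ∈ OmS Om S) (hne : K ≠ L)
    {x y : G} (hx : x ∈ K ⊓ S) (hy : y ∈ L ⊓ S) (h1 : x * y * (x * y) = 1) (h2 : x * y ≠ 1) :
    x * y = zz K ∨ (orderOf x = 4 ∧ orderOf y = 4) := by
  have h := e.hyp
  have hz : zz K = zz L := e.eq_zz hS hK hL
  have hxy : x * y = y * x := h.comm hS hK hL hne hx hy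
  have h3 : x * x * (y * y) = 1 := by
    calc x * x * (y * y) = x * (x * y) * y := by group
      _ = x * (y * x) * y := by rw [hxy]
      _ = x * y * (x * y) := by group
      _ = 1 := h1
  -- `x²` commutes with `K ⊓ S` and lies in `L`
  have h4 : x * x = (y * y)⁻¹ := eq_inv_of_mul_eq_one_left h3
  obtain ⟨c, v, n, hq⟩ := h.exists_gq hK.1 (syl_inf hS hK)
  have hcen : ∀ q ∈ K ⊓ S, (x * x) * q = q * (x * x) := by
    intro q hq'
    rw [h4]
    have h5 : q * y = y * q := h.comm hS hK hL hne hq' hy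
    have h6 : q * (y * y) = (y * y) * q := by
      calc q * (y * y) = (q * y) * y := by group
        _ = (y * q) * y := by rw [h5]
        _ = y * (q * y) := by group
        _ = y * (y * q) := by rw [h5]
        _ = (y * y) * q := by group
    calc (y * y)⁻¹ * q = (y * y)⁻¹ * (q * (y * y)) * (y * y)⁻¹ := by group
      _ = (y * y)⁻¹ * ((y * y) * q) * (y * y)⁻¹ := by rw [h6]
      _ = q * (y * y)⁻¹ := by group
  have hxx : x * x ∈ K ⊓ S := mul_mem hx hx
  rcases CoresH.GQ_center hq hxx hcen with h5 | h5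
  · -- `x² = 1`
    have hyy : y * y = 1 := by rw [h5, one_mul] at h3; exact h3
    left
    by_cases hx1 : x = 1
    · rw [hx1, one_mul] at h2 ⊢
      rw [hz]
      exact h.eq_zz hL.1 hy.1 hyy h2
    · have hxz := h.eq_zz hK.1 hx.1 h5 hx1
      by_cases hy1 : y = 1
      · rw [hy1, mul_one]; exact hxz
      · exfalso
        have hyz := h.eq_zz hL.1 hy.1 hyy hy1
        rw [hxz, hyz, ← hz] at h2
        exact h2 (h.zz_mul hK.1)
  · right
    have h6 : y * y = zz L := by
      rw [h5] at h3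
      rw [← hz]
      calc y * y = (zz K * zz K) * (y * y) := by rw [h.zz_mul hK.1, one_mul]
        _ = zz K * (zz K * (y * y)) := by group
        _ = zz K := by rw [h3, mul_one]
    exact ⟨h.orderOf_of_sq hK.1 h5, h.orderOf_of_sq hL.1 h6⟩

variable {G : Type u} [Group G] [Finite G] {Om : Set (Subgroup G)} {N M : Subgroup G}

/-- **generation modulo a central subgroup with simple quotient** -/
theorem eq_top [N.Normal] [IsSimpleGroup (G ⧸ N)] (hB : BendStmt.{u}) (hC : CritStmt.{u}) (e : EqTN Om N)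
    (hsyl : ∃ S : Sylow 2 G, (S : Subgroup G) ≤ M)
    (hz : ∀ S : Sylow 2 G, (S : Subgroup G) ≤ M → ∀ K ∈ OmS Om (S : Subgroup G), centralizer {zz K} ≤ M)
    (hs : ∀ S : Sylow 2 G, (S : Subgroup G) ≤ M → ∀ K ∈ OmS Om (S : Subgroup G), ∀ L ∈ OmS Om (S : Subgroup G), K ≠ L →
      ∀ x ∈ K ⊓ (S : Subgroup G), ∀ y ∈ L ⊓ (S : Subgroup G), orderOf x = 4 → orderOf y = 4 →
        centralizer {x * y} ≤ M) : M = ⊤ := by
  haveI : Fact (Nat.Prime 2) := ⟨Nat.prime_two⟩
  set f : G →* G ⧸ N := QuotientGroup.mk' N with hf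
  have hsurj : Function.Surjective f := QuotientGroup.mk'_surjective _
  have hk : f.ker = N := QuotientGroup.ker_mk' N
  have hp : IsPGroup 2 f.ker := by rw [hk]; exact e.pgr
  have hinf : ∀ K ∈ Om, K ⊓ f.ker = ⊥ := fun K hK => by rw [hk]; exact e.inf_eq hK
  have eX := e.eqTT hsurj hk
  obtain ⟨S, hSM⟩ := hsyl
  -- `N ≤ S`
  have hNS : ∀ S : Sylow 2 G, N ≤ (S : Subgroup G) := by
    intro S
    have h1 : IsPGroup 2 ((S : Subgroup G) ⊔ N : Subgroup G) := S.isPGroup'.to_sup_of_normal_right e.pgr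
    have h2 := S.is_maximal' h1 le_sup_left
    rw [← h2]
    exact le_sup_right
  have hNM : N ≤ M := (hNS S).trans hSM
  have hcomap : (M.map f).comap f = M := by
    rw [comap_map_eq, sup_eq_left, hk]
    exact hNM
  have hb : Big (img f Om) (M.map f) := by
    refine ⟨⟨S.mapSurjective hsurj, ?_⟩, ?_⟩
    · rw [Sylow.coe_mapSurjective]
      exact Subgroup.map_mono hSM
    · intro R hR φ hφ hφ2 hφ1
      obtain ⟨T, hT⟩ := exists_sylow_comap hsurj hp R
      have hTM : (T : Subgroup G) ≤ M := by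
        rw [hT, ← hcomap]
        exact comap_mono hR
      -- the two members
      obtain ⟨K, L, hKL, hKLe⟩ := Set.ncard_eq_two.1 (e.card T)
      have hK : K ∈ OmS Om (T : Subgroup G) := by rw [hKLe]; exact Or.inl rfl
      have hL : L ∈ OmS Om (T : Subgroup G) := by rw [hKLe]; exact Or.inr rfl
      have hR2 := R.isPGroup'
      have hK' : K.map f ∈ OmS (img f Om) (R : Subgroup (G ⧸ N)) := by
        rw [map_mem_OmS_iff hK.1, ← hT]; exact hK
      have hL' : L.map f ∈ OmS (img f Om) (R : Subgroup (G ⧸ N)) := by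
        rw [map_mem_OmS_iff hL.1, ← hT]; exact hL
      have hall : ∀ J ∈ OmS (img f Om) (R : Subgroup (G ⧸ N)), J = K.map f ∨ J = L.map f := by
        intro J hJ
        rw [OmS_img_eq, ← hT, hKLe] at hJ
        obtain ⟨J', hJ', rfl⟩ := hJ
        rcases hJ' with rfl | h1
        · exact Or.inl rfl
        · right; rw [Set.mem_singleton_iff.1 h1]
      have hne' : K.map f ≠ L.map f := by
        intro h1
        have h2 := eX.card R
        have h3 : OmS (img f Om) (R : Subgroup (G ⧸ N)) ⊆ {L.map f} := by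
          intro J hJ
          rcases hall J hJ with h4 | h4
          · rw [h4, h1]; rfl
          · exact h4
        have h4 := Set.ncard_le_ncard h3 (Set.toFinite _)
        rw [h2, Set.ncard_singleton] at h4
        omega
      have hDD : DD (img f Om) (R : Subgroup (G ⧸ N)) ≤
          (K.map f ⊓ (R : Subgroup (G ⧸ N))) ⊔ (L.map f ⊓ (R : Subgroup (G ⧸ N))) := by
        rw [DD_le_iff]
        intro J hJ
        rcases hall J hJ with rfl | rfl
        · exact le_sup_left
        · exact le_sup_right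
      obtain ⟨x', hx', y', hy', rfl⟩ := Comp.mem_sup_comm
        (fun a ha b hb => eX.hyp.comm hR2 hK' hL' hne' ha hb) (hDD hφ)
      rcases mul_cases eX.toEqZ hR2 hK' hL' hne' hx' hy' hφ2 hφ1 with h1 | ⟨h1, h2⟩
      · rw [h1, e.zz_map hk hK.1]
        exact e.centralizer_map_le hsurj hk hK.1 (hz T hTM K hK)
      · obtain ⟨⟨x, hx, rfl⟩, hxR⟩ := hx'
        obtain ⟨⟨y, hy, rfl⟩, hyR⟩ := hy'
        rw [QuoCen.orderOf_map (hinf K hK.1) hx] at h1
        rw [QuoCen.orderOf_map (hinf L hL.1) hy] at h2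
        have hxT : x ∈ K ⊓ (T : Subgroup G) := ⟨hx, by rw [hT]; exact hxR⟩
        have hyT : y ∈ L ⊓ (T : Subgroup G) := ⟨hy, by rw [hT]; exact hyR⟩
        obtain ⟨J, hJ, n, hn, hJz⟩ := e.tt T K hK L hL hKL x hxT y hyT h1 h2
        have h3 : f x * f y = f (zz J) := by
          rw [← hk, MonoidHom.mem_ker] at hn
          rw [hJz, map_mul, map_mul, hn, one_mul]
        rw [h3]
        refine e.centralizer_map_le hsurj hk hJ ?_
        refine le_trans ?_ (hs T hTM K hK L hL hKL x hxT y hyT h1 h2)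
        intro g hg
        rw [hJz, mem_centralizer_singleton_iff] at hg
        rw [mem_centralizer_singleton_iff]
        have h5 := e.comm_of_mem hn g
        have h6 : n * (g * (x * y)) = n * (x * y * g) := by
          calc n * (g * (x * y)) = (n * g) * (x * y) := by group
            _ = g * (n * (x * y)) := by rw [← h5]; group
            _ = n * (x * y * g) := by rw [hg]; group
        exact mul_left_cancel h6
  have htop := hb.eq_top_of_tt eX eX.toEqZ.inner (hB _) (hC _)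
  rw [← hcomap, htop, comap_top]

end EqTN

/-! ### Groups with a quasisimple normal subgroup containing all members -/

/-- `τ` central, the products `τ x y` are involutions of members -/
structure EqTC {G : Type*} [Group G] (Om : Set (Subgroup G)) (τ : G) : Prop extends EqZ Om where
  cen : ∀ g : G, g * τ = τ * g
  card : ∀ S : Sylow 2 G, (OmS Om (S : Subgroup G)).ncard = 2
  tt : ∀ S : Sylow 2 G, ∀ K ∈ OmS Om (S : Subgroup G), ∀ L ∈ OmS Om (S : Subgroup G), K ≠ L →
    ∀ x ∈ K ⊓ (S : Subgroup G), ∀ y ∈ L ⊓ (S : Subgroup G), orderOf x = 4 → orderOf y = 4 →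
      ∃ J ∈ Om, zz J = τ * (x * y)


section

variable {G : Type*} [Group G] [Finite G] {Om : Set (Subgroup G)} {D : Subgroup G}

/-- `S ⊓ D` is a Sylow 2-subgroup of the normal subgroup `D` -/
theorem exists_sylow_inf [hn : D.Normal] (S : Sylow 2 G) :
    ∃ T : Sylow 2 D, (T : Subgroup D).map D.subtype = (S : Subgroup G) ⊓ D := by
  haveI : Fact (Nat.Prime 2) := ⟨Nat.prime_two⟩
  have h1 : Syl (S : Subgroup G) ⊤ := ⟨le_top, S.isPGroup', by
    rw [relIndex_top_right]; exact S.not_dvd_index⟩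
  have h2 := LB.syl_inf_normal h1 (le_top (a := D)) (by rw [normalizer_eq_top])
  obtain ⟨T, hT⟩ := h2.exists_sylow
  refine ⟨T, ?_⟩
  rw [hT, map_subgroupOf_eq_of_le inf_le_right]

/-- every Sylow 2-subgroup of `D` is of this form -/
theorem exists_sylow_sup (T : Sylow 2 D) :
    ∃ S : Sylow 2 G, (T : Subgroup D).map D.subtype = (S : Subgroup G) ⊓ D := by
  haveI : Fact (Nat.Prime 2) := ⟨Nat.prime_two⟩
  have h1 : IsPGroup 2 ((T : Subgroup D).map D.subtype) := T.isPGroup'.map _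
  obtain ⟨S, hS⟩ := h1.exists_le_sylow
  refine ⟨S, le_antisymm (le_inf hS (map_subtype_le _)) ?_⟩
  have h2 : IsPGroup 2 ((S : Subgroup G).subgroupOf D) := S.isPGroup'.comap_subtype
  have h3 : (T : Subgroup D) ≤ (S : Subgroup G).subgroupOf D := by
    intro x hx
    exact hS ⟨x, hx, rfl⟩
  have h4 := T.is_maximal' h2 h3
  rw [← h4, subgroupOf_map_subtype]

theorem mem_OmS_inf {S K : Subgroup G} (hK : K ≤ D) : K ∈ OmS Om (S ⊓ D) ↔ K ∈ OmS Om S := by
  have h1 : (S ⊓ D).relIndex K = S.relIndex K := by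
    rw [← inf_relIndex_right (S ⊓ D) K, ← inf_relIndex_right S K]
    congr 1
    rw [inf_assoc, inf_eq_right.2 hK]
  constructor
  · rintro ⟨h2, h3⟩; exact ⟨h2, by rwa [h1] at h3⟩
  · rintro ⟨h2, h3⟩; exact ⟨h2, by rwa [h1]⟩

theorem mem_OmS_restr' (hle : ∀ K ∈ Om, K ≤ D) {T : Sylow 2 D} {S : Subgroup G}
    (hT : (T : Subgroup D).map D.subtype = S ⊓ D) {K : Subgroup D} :
    K ∈ OmS (restr Om D) (T : Subgroup D) ↔ K.map D.subtype ∈ OmS Om S := by
  rw [mem_OmS_restr, hT]
  constructor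
  · intro h; exact (mem_OmS_inf (hle _ h.1)).1 h
  · intro h; exact (mem_OmS_inf (hle _ h.1)).2 h

end

namespace EqTC

variable {G : Type u} [Group G] [Finite G] {Om : Set (Subgroup G)} {τ : G} {D M : Subgroup G}

/-- the family of `D` -/
theorem eqTN (e : EqTC Om τ) (hD : IsQuasisimple D) (hDO : D ∉ Om) (hp : IsPGroup 2 (center D))
    (hle : ∀ K ∈ Om, K ≤ D) : EqTN (restr Om D) (center D) := by
  haveI : Fact (Nat.Prime 2) := ⟨Nat.prime_two⟩
  have hcard : ∀ T : Sylow 2 D, (OmS (restr Om D) (T : Subgroup D)).ncard = 2 := by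
    intro T
    obtain ⟨S, hS⟩ := exists_sylow_sup T
    refine Eq.trans ?_ (e.card S)
    rw [← Set.ncard_image_of_injective _ (Subgroup.map_injective D.subtype_injective)]
    congr 1
    ext K
    constructor
    · rintro ⟨K', hK', rfl⟩
      exact (mem_OmS_restr' hle hS).1 hK'
    · intro hK
      refine ⟨K.subgroupOf D, (mem_OmS_restr' hle hS).2 ?_, map_subgroupOf_eq_of_le (hle K hK.1)⟩
      rw [map_subgroupOf_eq_of_le (hle K hK.1)]; exact hK
  refine { hyp := e.hyp.restr D, ne := ?_, ty := ?_, eqz := ?_, two := ?_, le := le_rfl, pgr := hp, nz := ?_,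
           card := hcard, tt := ?_ }
  · obtain ⟨K, hK⟩ := e.ne
    exact ⟨_, subgroupOf_mem_restr hK (hle K hK)⟩
  · intro K hK
    have h1 := e.ty _ (mem_restr.1 hK)
    unfold TyTwo at h1 ⊢
    rw [← map_subtype_le_map_subtype]
    refine h1.trans ?_
    rw [MonoidHom.map_closure, closure_le]
    rintro _ ⟨⟨c, hc, rfl⟩, ho⟩
    refine Subgroup.subset_closure ⟨c, ⟨hc, ?_⟩, rfl⟩
    rwa [Subgroup.subtype_apply, Subgroup.orderOf_coe] at ho
  · intro T K hK L hL
    obtain ⟨S, hS⟩ := exists_sylow_sup T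
    apply Subtype.ext
    rw [zz_map e.hyp hK.1, zz_map e.hyp hL.1]
    exact e.eqz S _ ((mem_OmS_restr' hle hS).1 hK) _ ((mem_OmS_restr' hle hS).1 hL)
  · intro T K hK
    by_contra hcon
    push Not at hcon
    have h1 : OmS (restr Om D) (T : Subgroup D) ⊆ {K} := fun L hL => hcon L hL
    have h2 := Set.ncard_le_ncard h1 (Set.toFinite _)
    rw [hcard T, Set.ncard_singleton] at h2
    omega
  · intro K hK h1
    have h2 := CoresH.zz_notMem_center e.hyp hD (mem_restr.1 hK) (map_subtype_le K) hDO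
    apply h2
    convert h1
    exact (zz_map e.hyp hK).symm
  · intro T K hK L hL hKL x hx y hy hx4 hy4
    obtain ⟨S, hS⟩ := exists_sylow_sup T
    have hxS : (x : G) ∈ K.map D.subtype ⊓ (S : Subgroup G) := by
      refine ⟨⟨x, hx.1, rfl⟩, ?_⟩
      have : (x : G) ∈ (T : Subgroup D).map D.subtype := ⟨x, hx.2, rfl⟩
      rw [hS] at this; exact this.1
    have hyS : (y : G) ∈ L.map D.subtype ⊓ (S : Subgroup G) := by
      refine ⟨⟨y, hy.1, rfl⟩, ?_⟩
      have : (y : G) ∈ (T : Subgroup D).map D.subtype := ⟨y, hy.2, rfl⟩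
      rw [hS] at this; exact this.1
    obtain ⟨J, hJ, hJz⟩ := e.tt S _ ((mem_OmS_restr' hle hS).1 hK) _ ((mem_OmS_restr' hle hS).1 hL)
      (fun h => hKL (Subgroup.map_injective D.subtype_injective h)) x hxS y hyS
      (by rwa [Subgroup.orderOf_coe]) (by rwa [Subgroup.orderOf_coe])
    have hτ : τ ∈ D := by
      have h1 : τ = zz J * ((x : G) * y)⁻¹ := by rw [hJz]; group
      rw [h1]
      exact mul_mem (hle J hJ (e.hyp.zz_mem hJ)) (inv_mem (mul_mem x.2 y.2))
    refine ⟨J.subgroupOf D, subgroupOf_mem_restr hJ (hle J hJ), ⟨τ, hτ⟩, ?_, ?_⟩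
    · rw [mem_center_iff]
      intro g
      exact Subtype.ext (e.cen g)
    · apply Subtype.ext
      rw [zz_map e.hyp (subgroupOf_mem_restr hJ (hle J hJ)), map_subgroupOf_eq_of_le (hle J hJ), hJz]
      rfl

/-- **generation** -/
theorem eq_top (hB : BendStmt.{u}) (hC : CritStmt.{u}) (e : EqTC Om τ) [hn : D.Normal] (hD : IsQuasisimple D)
    (hDO : D ∉ Om) (hp : IsPGroup 2 (center D)) (hle : ∀ K ∈ Om, K ≤ D)
    (hsyl : ∃ S : Sylow 2 G, (S : Subgroup G) ≤ M)
    (hz : ∀ S : Sylow 2 G, (S : Subgroup G) ≤ M → ∀ K ∈ OmS Om (S : Subgroup G), centralizer {zz K} ≤ M)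
    (hs : ∀ S : Sylow 2 G, (S : Subgroup G) ≤ M → ∀ K ∈ OmS Om (S : Subgroup G), ∀ L ∈ OmS Om (S : Subgroup G), K ≠ L →
      ∀ x ∈ K ⊓ (S : Subgroup G), ∀ y ∈ L ⊓ (S : Subgroup G), orderOf x = 4 → orderOf y = 4 →
        centralizer {τ * (x * y)} ≤ M) : M = ⊤ := by
  haveI : Fact (Nat.Prime 2) := ⟨Nat.prime_two⟩
  have eN := e.eqTN hD hDO hp hle
  haveI : IsSimpleGroup (D ⧸ center D) := hD.2
  -- Sylow subgroups of `D` in `M`
  have key : ∀ T : Sylow 2 D, (T : Subgroup D) ≤ M.subgroupOf D →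
      ∃ S : Sylow 2 G, (S : Subgroup G) ≤ M ∧ (T : Subgroup D).map D.subtype = (S : Subgroup G) ⊓ D := by
    intro T hT
    obtain ⟨S, hS⟩ := hsyl
    have h1 : (T : Subgroup D).map D.subtype ≤ M := by
      rintro _ ⟨x, hx, rfl⟩
      exact hT hx
    obtain ⟨m, hm, h2⟩ := CloseFus.exists_le_cj_of_le S hS (T.isPGroup'.map D.subtype) h1
    refine ⟨m • S, ?_, ?_⟩
    · rw [CloseFus.coe_smul]
      intro x hx
      rw [mem_cj] at hx
      have h3 : x = m * (m⁻¹ * x * m) * m⁻¹ := by group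
      rw [h3]
      exact M.mul_mem (M.mul_mem hm (hS hx)) (M.inv_mem hm)
    · rw [CloseFus.coe_smul]
      refine le_antisymm (le_inf h2 (map_subtype_le _)) ?_
      have h3 : IsPGroup 2 ((cj m (S : Subgroup G)).subgroupOf D) := (isPGroup_cj S.isPGroup').comap_subtype
      have h4 : (T : Subgroup D) ≤ (cj m (S : Subgroup G)).subgroupOf D := by
        intro x hx
        exact h2 ⟨x, hx, rfl⟩
      have h5 := T.is_maximal' h3 h4
      rw [← h5, subgroupOf_map_subtype]
  have h1 : M.subgroupOf D = ⊤ := by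
    refine eN.eq_top hB hC ?_ ?_ ?_
    · obtain ⟨S, hS⟩ := hsyl
      obtain ⟨T, hT⟩ := exists_sylow_inf (D := D) S
      refine ⟨T, fun x hx => ?_⟩
      have h2 : (x : G) ∈ (T : Subgroup D).map D.subtype := ⟨x, hx, rfl⟩
      rw [hT] at h2
      exact hS h2.1
    · intro T hT K hK x hx
      obtain ⟨S, hSM, hS⟩ := key T hT
      refine hz S hSM _ ((mem_OmS_restr' hle hS).1 hK) ?_
      rw [mem_centralizer_singleton_iff] at hx ⊢
      rw [← zz_map e.hyp hK.1]
      exact congrArg Subtype.val hx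
    · intro T hT K hK L hL hKL x hx y hy hx4 hy4 g hg
      obtain ⟨S, hSM, hS⟩ := key T hT
      have hxS : (x : G) ∈ K.map D.subtype ⊓ (S : Subgroup G) := by
        refine ⟨⟨x, hx.1, rfl⟩, ?_⟩
        have : (x : G) ∈ (T : Subgroup D).map D.subtype := ⟨x, hx.2, rfl⟩
        rw [hS] at this; exact this.1
      have hyS : (y : G) ∈ L.map D.subtype ⊓ (S : Subgroup G) := by
        refine ⟨⟨y, hy.1, rfl⟩, ?_⟩
        have : (y : G) ∈ (T : Subgroup D).map D.subtype := ⟨y, hy.2, rfl⟩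
        rw [hS] at this; exact this.1
      refine hs S hSM _ ((mem_OmS_restr' hle hS).1 hK) _ ((mem_OmS_restr' hle hS).1 hL)
        (fun h => hKL (Subgroup.map_injective D.subtype_injective h)) x hxS y hyS
        (by rwa [Subgroup.orderOf_coe]) (by rwa [Subgroup.orderOf_coe]) ?_
      rw [mem_centralizer_singleton_iff] at hg ⊢
      have h2 : (g : G) * ((x : G) * y) = (x : G) * y * g := congrArg Subtype.val hg
      calc (g : G) * (τ * ((x : G) * y)) = (g * τ) * ((x : G) * y) := by group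
        _ = τ * (g * ((x : G) * y)) := by rw [e.cen]; group
        _ = τ * ((x : G) * y) * g := by rw [h2]; group
  have h2 : D ≤ M := subgroupOf_eq_top.1 h1
  -- Frattini
  obtain ⟨S, hS⟩ := hsyl
  rw [eq_top_iff]
  intro g _
  obtain ⟨K, hK⟩ := e.hyp.OmS_nonempty S e.ne
  have hK' := (mem_OmS_inf (S := (S : Subgroup G)) (hle K hK.1)).2 hK
  have hSD : Syl ((S : Subgroup G) ⊓ D) D :=
    LB.syl_inf_normal ⟨le_top, S.isPGroup', by rw [relIndex_top_right]; exact S.not_dvd_index⟩ (le_top (a := D))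
      (by rw [normalizer_eq_top])
  have hgD : Syl (cj g ((S : Subgroup G) ⊓ D)) D := by
    have h3 := hSD.cj g
    have h4 : cj g D = D := mem_normalizer_iff_cj.1 (by rw [normalizer_eq_top]; exact mem_top g)
    rwa [h4] at h3
  obtain ⟨d, hd, hdg⟩ := hgD.exists_conj hSD
  have h3 : d * g ∈ centralizer {zz K} := by
    have h4 : cj (d * g) ((S : Subgroup G) ⊓ D) = (S : Subgroup G) ⊓ D := by
      rw [cj_mul, hdg]
    have h5 : cj (d * g) K ∈ OmS Om ((S : Subgroup G) ⊓ D) := by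
      rw [← h4]
      exact ⟨e.hyp.conj K hK.1 _, by rw [relIndex_cj]; exact hK'.2⟩
    have h6 := e.eq_zz (S.isPGroup'.to_le inf_le_left) hK' h5
    rw [e.hyp.zz_cj hK.1] at h6
    rw [mem_centralizer_singleton_iff]
    exact (mul_inv_eq_iff_eq_mul.1 h6.symm)
  have h4 := hz S hS K hK h3
  have h5 := M.mul_mem (M.inv_mem (h2 hd)) h4
  rwa [inv_mul_cancel_left] at h5

end EqTC

end Cfsg.Agent.Cit.EqCen
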