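import Cfsg.Agent.Cit.EqGenTwo
import Cfsg.Agent.Cit.EqInner
import Cfsg.Agent.Cit.QuoCen
import Cfsg.Agent.Cit.CoresH

/-!
# Generation modulo a central 2-group

`EqTZ Om Z τ` : all `zz K`, `K ∈ Om(S)`, are equal, `|Om(S)| = 2`, `Z` is a central 2-subgroup without involutions of
members, `τ ∈ Z` and the products `τ x y` of elements of order four of the two members of `Om(S)` are involutions of
members. If `G / Z` is simple then (Bender, S1175) a subgroup which contains a Sylow 2-subgroup `S` and the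
centralisers of `zz K`, `K ∈ Om(S)`, and of all the products `τ x y` is the whole group (`EqTZ.eq_top`).
-/

set_option autoImplicit false
set_option linter.style.haveILetI false
set_option linter.unusedSectionVars false

namespace Cfsg.Agent.Cit.EqCenTwo

open Subgroup Cfsg Cfsg.Agent.Cit Cfsg.Agent.Cit.EqClose

universe u

/-! ### Families in central quotients -/

section

variable {G X : Type*} [Group G] [Group X] {f : G →* X} {Om : Set (Subgroup G)} {K L : Subgroup G}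

theorem map_mem_OmS_iff {R : Subgroup X} (hK : K ∈ Om) :
    K.map f ∈ OmS (img f Om) R ↔ K ∈ OmS Om (R.comap f) := by
  constructor
  · rintro ⟨-, h2⟩
    exact ⟨hK, by rwa [relIndex_comap]⟩
  · rintro ⟨-, h2⟩
    exact ⟨⟨K, hK, rfl⟩, by rwa [relIndex_comap] at h2⟩

theorem OmS_img_eq (R : Subgroup X) : OmS (img f Om) R = (fun K => K.map f) '' OmS Om (R.comap f) := by
  ext J
  constructor
  · intro hJ
    obtain ⟨K, hK, rfl⟩ := hJ.1
    exact ⟨K, (map_mem_OmS_iff hK).1 hJ, rfl⟩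
  · rintro ⟨K, hK, rfl⟩
    exact (map_mem_OmS_iff hK.1).2 hK

theorem isPGroup_comap' (hker : IsPGroup 2 f.ker) {R : Subgroup X} (hR : IsPGroup 2 R) :
    IsPGroup 2 (R.comap f) := hR.comap_of_ker_isPGroup f hker

/-- the preimage of a Sylow 2-subgroup -/
theorem exists_sylow_comap [Finite G] (hf : Function.Surjective f) (hker : IsPGroup 2 f.ker) (R : Sylow 2 X) :
    ∃ S : Sylow 2 G, (S : Subgroup G) = (R : Subgroup X).comap f := by
  haveI : Fact (Nat.Prime 2) := ⟨Nat.prime_two⟩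
  haveI : Finite X := Finite.of_surjective f hf
  have h1 : ¬ 2 ∣ ((R : Subgroup X).comap f).index := by
    rw [index_comap_of_surjective _ hf]
    exact R.not_dvd_index
  exact ⟨(isPGroup_comap' hker R.isPGroup').toSylow h1, rfl⟩

end

/-- central quotients by a 2-group `Z`, `τ ∈ Z` -/
structure EqTZ {G : Type*} [Group G] (Om : Set (Subgroup G)) (Z : Subgroup G) (τ : G) : Prop extends EqZ Om where
  cen : Z ≤ center G
  pg : IsPGroup 2 Z
  mem : τ ∈ Z
  nz : ∀ K ∈ Om, zz K ∉ Z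
  card : ∀ S : Sylow 2 G, (OmS Om (S : Subgroup G)).ncard = 2
  tt : ∀ S : Sylow 2 G, ∀ K ∈ OmS Om (S : Subgroup G), ∀ L ∈ OmS Om (S : Subgroup G), K ≠ L →
    ∀ x ∈ K ⊓ (S : Subgroup G), ∀ y ∈ L ⊓ (S : Subgroup G), orderOf x = 4 → orderOf y = 4 →
      ∃ J ∈ Om, zz J = τ * (x * y)

namespace EqTZ

section

variable {G X : Type*} [Group G] [Finite G] [Group X] {Om : Set (Subgroup G)} {Z : Subgroup G} {τ : G} {f : G →* X}
  {K L : Subgroup G}

theorem comm (e : EqTZ Om Z τ) {ζ : G} (hζ : ζ ∈ Z) (g : G) : g * ζ = ζ * g :=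
  mem_center_iff.1 (e.cen hζ) g

theorem inf_Z (e : EqTZ Om Z τ) (hK : K ∈ Om) : K ⊓ Z = ⊥ := by
  haveI : Fact (Nat.Prime 2) := ⟨Nat.prime_two⟩
  rw [eq_bot_iff]
  rintro x ⟨hx, hx1⟩
  rw [mem_bot]
  by_contra hne
  have h1 : IsPGroup 2 (zpowers x) := e.pg.to_le (zpowers_le.2 hx1)
  have h2 : 2 ∣ Nat.card (zpowers x) := by
    obtain ⟨n, hn⟩ := IsPGroup.iff_card.1 h1
    rcases Nat.eq_zero_or_pos n with h0 | h0
    · exfalso
      rw [h0, pow_zero, Nat.card_zpowers, orderOf_eq_one_iff] at hn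
      exact hne hn
    · rw [hn]; exact dvd_pow_self 2 (by omega)
  obtain ⟨⟨t, ht⟩, ht2⟩ := exists_prime_orderOf_dvd_card' (G := zpowers x) 2 h2
  have ht2' : orderOf t = 2 := by
    rw [← ht2]; exact (Subgroup.orderOf_mk _ _).symm
  have h3 : t = zz K := e.hyp.uniq K hK t ((zpowers_le.2 hx) ht) ht2'
  exact e.nz K hK (by rw [← h3]; exact (zpowers_le.2 hx1) ht)

theorem zz_map (e : EqTZ Om Z τ) (hk : f.ker = Z) (hK : K ∈ Om) :
    zz (K.map f) = f (zz K) := QuoCen.zz_map_of_inf e.hyp hK (by rw [hk]; exact e.inf_Z hK)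

/-- a member `J` with `zz J = ζ zz K` has `ζ = 1` -/
theorem eq_one_of_zz (e : EqTZ Om Z τ) {ζ : G} (hζ : ζ ∈ Z) (hK : K ∈ Om) (hL : L ∈ Om)
    (h1 : zz L = ζ * zz K) : ζ = 1 := by
  obtain ⟨Q, hQ⟩ := Hyp.exists_syl K
  have h2 : zz K = zz L := by
    refine e.zz_eq_of_cent hK hL hQ fun x hx => ?_
    have h3 : x * zz K = zz K * x := e.hyp.comm_zz hK (le_normalizer (hQ.1 hx))
    rw [h1]
    calc x * (ζ * zz K) = (x * ζ) * zz K := by group
      _ = ζ * (x * zz K) := by rw [e.comm hζ x]; group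
      _ = ζ * zz K * x := by rw [h3]; group
  rw [← h2] at h1
  exact mul_eq_right.1 h1.symm

/-- `C(f(z)) = f(C(z))` -/
theorem mem_centralizer_of_map (e : EqTZ Om Z τ) (hk : f.ker = Z) (hK : K ∈ Om) {g : G}
    (hg : f g * f (zz K) = f (zz K) * f g) : g ∈ centralizer {zz K} := by
  have h1 : g * zz K * g⁻¹ * (zz K)⁻¹ ∈ Z := by
    rw [← hk, MonoidHom.mem_ker, map_mul, map_mul, map_mul, map_inv, hg, map_inv]; group
  have h2 : g * zz K * g⁻¹ * (zz K)⁻¹ = 1 := by
    refine e.eq_one_of_zz h1 hK (e.hyp.conj K hK g) ?_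
    rw [e.hyp.zz_cj hK]; group
  rw [mem_centralizer_singleton_iff]
  rw [mul_inv_eq_one, mul_inv_eq_iff_eq_mul] at h2
  exact h2

theorem centralizer_map_le (e : EqTZ Om Z τ) (hf : Function.Surjective f) (hk : f.ker = Z)
    (hK : K ∈ Om) {M : Subgroup G} (hM : centralizer {zz K} ≤ M) :
    centralizer {f (zz K)} ≤ M.map f := by
  intro x hx
  obtain ⟨g, rfl⟩ := hf x
  exact ⟨g, hM (e.mem_centralizer_of_map hk hK (mem_centralizer_singleton_iff.1 hx)), rfl⟩

/-- the image of the family -/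
theorem eqTT (e : EqTZ Om Z τ) (hf : Function.Surjective f) (hk : f.ker = Z) :
    EqTT (img f Om) := by
  haveI : Fact (Nat.Prime 2) := ⟨Nat.prime_two⟩
  haveI : Finite X := Finite.of_surjective f hf
  have hp : IsPGroup 2 f.ker := by rw [hk]; exact e.pg
  have hinf : ∀ K ∈ Om, K ⊓ f.ker = ⊥ := fun K hK => by rw [hk]; exact e.inf_Z hK
  have hX : Hyp (img f Om) := QuoCen.hyp_img_central e.hyp hf (by rw [hk]; exact e.cen) hinf
  have hinj : ∀ R : Sylow 2 X, Set.InjOn (fun K => K.map f) (OmS Om ((R : Subgroup X).comap f)) := by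
    intro R K hK L hL hKL
    by_contra hne
    have hT := isPGroup_comap' hp R.isPGroup'
    obtain ⟨c, v, n, hq⟩ := e.hyp.exists_gq hK.1 (syl_inf hT hK)
    apply hq.not_comm
    have h1 : f v ∈ L.map f := by
      have h2 : K.map f = L.map f := hKL
      rw [← h2]; exact ⟨v, hq.v_mem.1, rfl⟩
    obtain ⟨l, hl, hlv⟩ := h1
    have h2 : l⁻¹ * v ∈ Z := by
      rw [← hk, MonoidHom.mem_ker, map_mul, map_inv, hlv, inv_mul_cancel]
    have h3 : l ∈ (R : Subgroup X).comap f := by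
      rw [mem_comap, hlv]; exact hq.v_mem.2
    have h4 : c * l = l * c := e.hyp.comm hT hK hL hne hq.c_mem ⟨hl, h3⟩
    have h5 : v = l * (l⁻¹ * v) := by group
    rw [h5]
    calc l * (l⁻¹ * v) * c = l * ((l⁻¹ * v) * c) := mul_assoc _ _ _
      _ = l * (c * (l⁻¹ * v)) := by rw [e.comm h2 c]
      _ = (l * c) * (l⁻¹ * v) := by group
      _ = c * (l * (l⁻¹ * v)) := by rw [← h4]; group
  have hcard : ∀ R : Sylow 2 X, (OmS (img f Om) (R : Subgroup X)).ncard = 2 := by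
    intro R
    obtain ⟨S, hS⟩ := exists_sylow_comap hf hp R
    rw [OmS_img_eq, (hinj R).ncard_image, ← hS]
    exact e.card S
  refine { hyp := hX, ne := ?_, ty := ?_, eqz := ?_, two := ?_, card := hcard, tt := ?_ }
  · obtain ⟨K, hK⟩ := e.ne
    exact ⟨_, K, hK, rfl⟩
  · rintro _ ⟨K, hK, rfl⟩
    have h1 := e.ty K hK
    unfold TyTwo at h1 ⊢
    refine (Subgroup.map_mono h1).trans ?_
    rw [MonoidHom.map_closure, closure_le]
    rintro _ ⟨c, ⟨hc, ho⟩, rfl⟩
    exact Subgroup.subset_closure ⟨⟨c, hc, rfl⟩, Odd.of_dvd_nat ho (orderOf_map_dvd f c)⟩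
  · intro R K' hK' L' hL'
    rw [OmS_img_eq] at hK' hL'
    obtain ⟨K, hK, rfl⟩ := hK'
    obtain ⟨L, hL, rfl⟩ := hL'
    rw [e.zz_map hk hK.1, e.zz_map hk hL.1, e.eq_zz (isPGroup_comap' hp R.isPGroup') hK hL]
  · intro R K' hK'
    by_contra hcon
    push Not at hcon
    have h1 : OmS (img f Om) (R : Subgroup X) ⊆ {K'} := fun L hL => hcon L hL
    have h2 := Set.ncard_le_ncard h1 (Set.toFinite _)
    rw [hcard R, Set.ncard_singleton] at h2
    omega
  · intro R K' hK' L' hL' hne x' hx' y' hy' hx4 hy4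
    rw [OmS_img_eq] at hK' hL'
    obtain ⟨K, hK, rfl⟩ := hK'
    obtain ⟨L, hL, rfl⟩ := hL'
    obtain ⟨⟨x, hx, rfl⟩, hxR⟩ := hx'
    obtain ⟨⟨y, hy, rfl⟩, hyR⟩ := hy'
    obtain ⟨S, hS⟩ := exists_sylow_comap hf hp R
    rw [QuoCen.orderOf_map (hinf K hK.1) hx] at hx4
    rw [QuoCen.orderOf_map (hinf L hL.1) hy] at hy4
    obtain ⟨J, hJ, hJz⟩ := e.tt S K (by rw [hS]; exact hK) L (by rw [hS]; exact hL)
      (fun h1 => hne (by rw [h1])) x ⟨hx, by rw [hS]; exact hxR⟩ y ⟨hy, by rw [hS]; exact hyR⟩ hx4 hy4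
    refine ⟨_, ⟨J, hJ, rfl⟩, ?_⟩
    have h1 : f τ = 1 := by rw [← MonoidHom.mem_ker, hk]; exact e.mem
    rw [e.zz_map hk hJ, hJz, map_mul, map_mul, h1, one_mul]

end

/-- an element `x y` of square `1`, `x ∈ K ⊓ S`, `y ∈ L ⊓ S`, `Om(S) = {K, L}` -/
theorem _root_.Cfsg.Agent.Cit.EqCenTwo.mul_cases {G : Type*} [Group G] [Finite G] {Om : Set (Subgroup G)} (e : EqZ Om)
    {S K L : Subgroup G} (hS : IsPGroup 2 S) (hK : K ∈ OmS Om S) (hL : L ∈ OmS Om S) (hne : K ≠ L)
    {x y : G} (hx : x ∈ K ⊓ S) (hy : y ∈ L ⊓ S) (h1 : x * y * (x * y) = 1) (h2 : x * y ≠ 1) :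
    x * y = zz K ∨ (orderOf x = 4 ∧ orderOf y = 4) := by
  have h := e.hyp
  have hz : zz K = zz L := e.eq_zz hS hK hL
  have hxy : x * y = y * x := h.comm hS hK hL hne hx hy
  have h3 : x * x * (y * y) = 1 := by
    calc x * x * (y * y) = x * (x * y) * y := by group
      _ = x * (y * x) * y := by rw [hxy]
      _ = x * y * (x * y) := by group
      _ = 1 := h1
  -- `x²` commutes with `K ⊓ S` and lies in `L`
  have h4 : x * x = (y * y)⁻¹ := eq_inv_of_mul_eq_one_left h3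
  obtain ⟨c, v, n, hq⟩ := h.exists_gq hK.1 (syl_inf hS hK)
  have hcen : ∀ q ∈ K ⊓ S, (x * x) * q = q * (x * x) := by
    intro q hq'
    rw [h4]
    have h5 : q * y = y * q := h.comm hS hK hL hne hq' hy
    have h6 : q * (y * y) = (y * y) * q := by
      calc q * (y * y) = (q * y) * y := by group
        _ = (y * q) * y := by rw [h5]
        _ = y * (q * y) := by group
        _ = y * (y * q) := by rw [h5]
        _ = (y * y) * q := by group
    calc (y * y)⁻¹ * q = (y * y)⁻¹ * (q * (y * y)) * (y * y)⁻¹ := by group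
      _ = (y * y)⁻¹ * ((y * y) * q) * (y * y)⁻¹ := by rw [h6]
      _ = q * (y * y)⁻¹ := by group
  have hxx : x * x ∈ K ⊓ S := mul_mem hx hx
  rcases CoresH.GQ_center hq hxx hcen with h5 | h5
  · -- `x² = 1`
    have hyy : y * y = 1 := by rw [h5, one_mul] at h3; exact h3
    left
    by_cases hx1 : x = 1
    · rw [hx1, one_mul] at h2 ⊢
      rw [hz]
      exact h.eq_zz hL.1 hy.1 hyy h2
    · have hxz := h.eq_zz hK.1 hx.1 h5 hx1
      by_cases hy1 : y = 1
      · rw [hy1, mul_one]; exact hxz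
      · exfalso
        have hyz := h.eq_zz hL.1 hy.1 hyy hy1
        rw [hxz, hyz, ← hz] at h2
        exact h2 (h.zz_mul hK.1)
  · right
    have h6 : y * y = zz L := by
      rw [h5] at h3
      rw [← hz]
      calc y * y = (zz K * zz K) * (y * y) := by rw [h.zz_mul hK.1, one_mul]
        _ = zz K * (zz K * (y * y)) := by group
        _ = zz K := by rw [h3, mul_one]
    exact ⟨h.orderOf_of_sq hK.1 h5, h.orderOf_of_sq hL.1 h6⟩

variable {G : Type u} [Group G] [Finite G] {Om : Set (Subgroup G)} {Z : Subgroup G} {τ : G} {M : Subgroup G}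

/-- **generation modulo a central 2-group** -/
theorem eq_top (hB : ∀ (X : Type u) [Group X] [Finite X] [IsSimpleGroup X], CloEnd.Bend X)
    (hC : ∀ (X : Type u) [Group X] [Finite X] [IsSimpleGroup X], CloEnd.Crit1175 X) (e : EqTZ Om Z τ)
    [hZn : Z.Normal] [IsSimpleGroup (G ⧸ Z)] (S₀ : Sylow 2 G) (hsyl : (S₀ : Subgroup G) ≤ M)
    (hz : ∀ K ∈ OmS Om (S₀ : Subgroup G), centralizer {zz K} ≤ M)
    (hs : ∀ K ∈ OmS Om (S₀ : Subgroup G), ∀ L ∈ OmS Om (S₀ : Subgroup G), K ≠ L →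
      ∀ x ∈ K ⊓ (S₀ : Subgroup G), ∀ y ∈ L ⊓ (S₀ : Subgroup G), orderOf x = 4 → orderOf y = 4 →
        centralizer {τ * (x * y)} ≤ M) : M = ⊤ := by
  haveI : Fact (Nat.Prime 2) := ⟨Nat.prime_two⟩
  set f : G →* G ⧸ Z := QuotientGroup.mk' Z with hf
  have hsurj : Function.Surjective f := QuotientGroup.mk'_surjective _
  have hk : f.ker = Z := QuotientGroup.ker_mk' Z
  have hp : IsPGroup 2 f.ker := by rw [hk]; exact e.pg
  have eX := e.eqTT hsurj hk
  -- `Z ≤ M`
  have hZS : ∀ S : Sylow 2 G, Z ≤ (S : Subgroup G) := by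
    intro S
    have h1 : IsPGroup 2 ((S : Subgroup G) ⊔ Z : Subgroup G) := S.isPGroup'.to_sup_of_normal_right e.pg
    have h2 := S.is_maximal' h1 le_sup_left
    rw [← h2]
    exact le_sup_right
  have hZM : Z ≤ M := (hZS S₀).trans hsyl
  have hcomap : (M.map f).comap f = M := by
    rw [comap_map_eq, sup_eq_left, hk]
    exact hZM
  -- all Sylow subgroups in `M`
  have hconj : ∀ T : Sylow 2 G, (T : Subgroup G) ≤ M → ∃ m ∈ M, cj m (S₀ : Subgroup G) = T := by
    intro T hT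
    have key : ∀ S : Sylow 2 G, (S : Subgroup G) ≤ M → Syl (S : Subgroup G) M := fun S hS =>
      ⟨hS, S.isPGroup', fun h2 => S.not_dvd_index (h2.trans (relIndex_dvd_index_of_le hS))⟩
    exact (key S₀ hsyl).exists_conj (key T hT)
  have hcent : ∀ m ∈ M, ∀ a : G, centralizer {m⁻¹ * a * m} ≤ M → centralizer {a} ≤ M := by
    intro m hm a ha g hg
    rw [mem_centralizer_singleton_iff] at hg
    have h1 : m⁻¹ * g * m ∈ M := by
      refine ha (mem_centralizer_singleton_iff.2 ?_)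
      calc m⁻¹ * g * m * (m⁻¹ * a * m) = m⁻¹ * (g * a) * m := by group
        _ = m⁻¹ * (a * g) * m := by rw [hg]
        _ = m⁻¹ * a * m * (m⁻¹ * g * m) := by group
    have h2 : g = m * (m⁻¹ * g * m) * m⁻¹ := by group
    rw [h2]
    exact M.mul_mem (M.mul_mem hm h1) (M.inv_mem hm)
  have hback : ∀ T : Sylow 2 G, ∀ m : G, cj m (S₀ : Subgroup G) = T → ∀ K ∈ OmS Om (T : Subgroup G),
      cj m⁻¹ K ∈ OmS Om (S₀ : Subgroup G) := by
    intro T m hmT K hK
    have h1 := cj_mem_OmS e.hyp.conj m⁻¹ hK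
    rwa [← hmT, cj_inv_cj] at h1
  have hz' : ∀ T : Sylow 2 G, (T : Subgroup G) ≤ M → ∀ K ∈ OmS Om (T : Subgroup G), centralizer {zz K} ≤ M := by
    intro T hT K hK
    obtain ⟨m, hm, hmT⟩ := hconj T hT
    refine hcent m hm _ ?_
    have h1 := hz _ (hback T m hmT K hK)
    rwa [e.hyp.zz_cj hK.1, inv_inv] at h1
  have hs' : ∀ T : Sylow 2 G, (T : Subgroup G) ≤ M → ∀ K ∈ OmS Om (T : Subgroup G),
      ∀ L ∈ OmS Om (T : Subgroup G), K ≠ L → ∀ x ∈ K ⊓ (T : Subgroup G), ∀ y ∈ L ⊓ (T : Subgroup G),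
      orderOf x = 4 → orderOf y = 4 → centralizer {τ * (x * y)} ≤ M := by
    intro T hT K hK L hL hne x hx y hy hx4 hy4
    obtain ⟨m, hm, hmT⟩ := hconj T hT
    refine hcent m hm _ ?_
    have hmem : ∀ {K : Subgroup G} {x : G}, x ∈ K ⊓ (T : Subgroup G) →
        m⁻¹ * x * m ∈ cj m⁻¹ K ⊓ (S₀ : Subgroup G) := by
      intro K x hx
      have h1 : m⁻¹ * x * m⁻¹⁻¹ ∈ cj m⁻¹ (K ⊓ (T : Subgroup G)) := conj_mem_cj hx
      rwa [cj_inf, ← hmT, cj_inv_cj, inv_inv] at h1
    have hord : ∀ x : G, orderOf (m⁻¹ * x * m) = orderOf x := by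
      intro x
      have h1 := (MulAut.conj m⁻¹).orderOf_eq x
      rw [MulAut.conj_apply, inv_inv] at h1
      exact h1
    have h1 := hs _ (hback T m hmT K hK) _ (hback T m hmT L hL) (fun h2 => hne (by
      have h3 := congrArg (cj m) h2
      rwa [cj_cj_inv, cj_cj_inv] at h3)) _ (hmem hx) _ (hmem hy) (by rw [hord, hx4]) (by rw [hord, hy4])
    have h2 : τ * (m⁻¹ * x * m * (m⁻¹ * y * m)) = m⁻¹ * (τ * (x * y)) * m := by
      calc τ * (m⁻¹ * x * m * (m⁻¹ * y * m)) = (τ * m⁻¹) * (x * y) * m := by group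
        _ = m⁻¹ * (τ * (x * y)) * m := by rw [← e.comm e.mem m⁻¹]; group
    rwa [h2] at h1
  have hb : Big (img f Om) (M.map f) := by
    refine ⟨⟨S₀.mapSurjective hsurj, ?_⟩, ?_⟩
    · rw [Sylow.coe_mapSurjective]
      exact Subgroup.map_mono hsyl
    · intro R hR φ hφ hφ2 hφ1
      obtain ⟨T, hT⟩ := exists_sylow_comap hsurj hp R
      have hTM : (T : Subgroup G) ≤ M := by
        rw [hT, ← hcomap]
        exact comap_mono hR
      -- the two members
      obtain ⟨K, L, hKL, hKLe⟩ := Set.ncard_eq_two.1 (e.card T)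
      have hK : K ∈ OmS Om (T : Subgroup G) := by rw [hKLe]; exact Or.inl rfl
      have hL : L ∈ OmS Om (T : Subgroup G) := by rw [hKLe]; exact Or.inr rfl
      have hR2 := R.isPGroup'
      have hK' : K.map f ∈ OmS (img f Om) (R : Subgroup (G ⧸ Z)) := by
        rw [map_mem_OmS_iff hK.1, ← hT]; exact hK
      have hL' : L.map f ∈ OmS (img f Om) (R : Subgroup (G ⧸ Z)) := by
        rw [map_mem_OmS_iff hL.1, ← hT]; exact hL
      have hall : ∀ J ∈ OmS (img f Om) (R : Subgroup (G ⧸ Z)), J = K.map f ∨ J = L.map f := by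
        intro J hJ
        rw [OmS_img_eq, ← hT, hKLe] at hJ
        obtain ⟨J', hJ', rfl⟩ := hJ
        rcases hJ' with rfl | h1
        · exact Or.inl rfl
        · right; rw [Set.mem_singleton_iff.1 h1]
      have hne' : K.map f ≠ L.map f := by
        intro h1
        have h2 := eX.card R
        have h3 : OmS (img f Om) (R : Subgroup (G ⧸ Z)) ⊆ {L.map f} := by
          intro J hJ
          rcases hall J hJ with h4 | h4
          · rw [h4, h1]; rfl
          · exact h4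
        have h4 := Set.ncard_le_ncard h3 (Set.toFinite _)
        rw [h2, Set.ncard_singleton] at h4
        omega
      have hDD : DD (img f Om) (R : Subgroup (G ⧸ Z)) ≤
          (K.map f ⊓ (R : Subgroup (G ⧸ Z))) ⊔ (L.map f ⊓ (R : Subgroup (G ⧸ Z))) := by
        rw [DD_le_iff]
        intro J hJ
        rcases hall J hJ with rfl | rfl
        · exact le_sup_left
        · exact le_sup_right
      have hinf : ∀ K ∈ Om, K ⊓ f.ker = ⊥ := fun K hK => by rw [hk]; exact e.inf_Z hK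
      obtain ⟨x', hx', y', hy', rfl⟩ := Comp.mem_sup_comm
        (fun a ha b hb => eX.hyp.comm hR2 hK' hL' hne' ha hb) (hDD hφ)
      rcases mul_cases eX.toEqZ hR2 hK' hL' hne' hx' hy' hφ2 hφ1 with h1 | ⟨h1, h2⟩
      · rw [h1, e.zz_map hk hK.1]
        exact e.centralizer_map_le hsurj hk hK.1 (hz' T hTM K hK)
      · obtain ⟨⟨x, hx, rfl⟩, hxR⟩ := hx'
        obtain ⟨⟨y, hy, rfl⟩, hyR⟩ := hy'
        rw [QuoCen.orderOf_map (hinf K hK.1) hx] at h1
        rw [QuoCen.orderOf_map (hinf L hL.1) hy] at h2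
        have hxT : x ∈ K ⊓ (T : Subgroup G) := ⟨hx, by rw [hT]; exact hxR⟩
        have hyT : y ∈ L ⊓ (T : Subgroup G) := ⟨hy, by rw [hT]; exact hyR⟩
        obtain ⟨J, hJ, hJz⟩ := e.tt T K hK L hL hKL x hxT y hyT h1 h2
        have h3 : f x * f y = f (zz J) := by
          have h4 : f τ = 1 := by rw [← MonoidHom.mem_ker, hk]; exact e.mem
          rw [hJz, map_mul, map_mul, h4, one_mul]
        rw [h3]
        refine e.centralizer_map_le hsurj hk hJ ?_
        rw [hJz]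
        exact hs' T hTM K hK L hL hKL x hxT y hyT h1 h2
  have htop := hb.eq_top_of_tt eX eX.toEqZ.inner (hB _) (hC _)
  rw [← hcomap, htop, comap_top]

end EqTZ

end Cfsg.Agent.Cit.EqCenTwo
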