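import Cfsg.Agent.Cit.EqCen
import Cfsg.Agent.Cit.UseT3
import Cfsg.Agent.Cit.TorFunctor
import Cfsg.Agent.Cit.CoreTools

/-!
# All involutions `z_K`, `K ∈ Om(S)`, equal, `|Om(S)| = 4`: the eight-groups `A = ⟨z, t, s⟩`

`Cfg Om S K x` : `S` a Sylow 2-subgroup, `Om(S) = {K 0, …, K 3}`, `x i ∈ K i ⊓ S` of order four. `z = zz (K 0)`,
`t = x 0 x 1`, `s = x 0 x 1 x 2 x 3`, `AA z t s = ⟨z, t, s⟩`. `PP A b` : the hypotheses of THEOREM F for `b ∈ A`.
-/

set_option autoImplicit false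
set_option linter.style.haveILetI false
set_option linter.unusedSectionVars false

namespace Cfsg.Agent.Cit.EqCfg

open Subgroup Cfsg Cfsg.Agent.Cit Cfsg.Agent.Cit.EqClose
open scoped commutatorElement

variable {G : Type*} [Group G]

/-! ### Three commuting involutions -/

/-- `⟨z, t, s⟩` -/
def AA (z t s : G) : Subgroup G := Subgroup.closure {z, t, s}

/-- three commuting involutions -/
structure E3 (z t s : G) : Prop where
  zz : z * z = 1
  tt : t * t = 1
  ss : s * s = 1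
  zt : z * t = t * z
  zs : z * s = s * z
  ts : t * s = s * t

theorem z_mem (z t s : G) : z ∈ AA z t s := Subgroup.subset_closure (Or.inl rfl)
theorem t_mem (z t s : G) : t ∈ AA z t s := Subgroup.subset_closure (Or.inr (Or.inl rfl))
theorem s_mem (z t s : G) : s ∈ AA z t s := Subgroup.subset_closure (Or.inr (Or.inr rfl))

theorem AA_le_iff {z t s : G} {H : Subgroup G} : AA z t s ≤ H ↔ z ∈ H ∧ t ∈ H ∧ s ∈ H := by
  rw [AA, closure_le]
  constructor
  · exact fun h => ⟨h (Or.inl rfl), h (Or.inr (Or.inl rfl)), h (Or.inr (Or.inr rfl))⟩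
  · rintro ⟨h1, h2, h3⟩ x (rfl | rfl | rfl)
    · exact h1
    · exact h2
    · exact h3

theorem AA_eq_of {z t s z' t' s' : G} (h1 : z' ∈ AA z t s) (h2 : t' ∈ AA z t s) (h3 : s' ∈ AA z t s)
    (h4 : z ∈ AA z' t' s') (h5 : t ∈ AA z' t' s') (h6 : s ∈ AA z' t' s') : AA z' t' s' = AA z t s :=
  le_antisymm (AA_le_iff.2 ⟨h1, h2, h3⟩) (AA_le_iff.2 ⟨h4, h5, h6⟩)

theorem cj_AA (n z t s : G) : cj n (AA z t s) = AA (n * z * n⁻¹) (n * t * n⁻¹) (n * s * n⁻¹) := by
  rw [AA, AA, cj_closure]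
  congr 1
  simp only [Set.image_insert_eq, Set.image_singleton]

namespace E3

variable {z t s : G}

theorem comm (h : E3 z t s) {a b : G} (ha : a ∈ AA z t s) (hb : b ∈ AA z t s) : a * b = b * a := by
  have h1 : ∀ g, g * z = z * g → g * t = t * g → g * s = s * g → AA z t s ≤ centralizer {g} := by
    intro g h1 h2 h3
    refine AA_le_iff.2 ⟨mem_centralizer_singleton_iff.2 h1.symm, mem_centralizer_singleton_iff.2 h2.symm,
      mem_centralizer_singleton_iff.2 h3.symm⟩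
  have hz := h1 z rfl h.zt h.zs
  have ht := h1 t h.zt.symm rfl h.ts
  have hs := h1 s h.zs.symm h.ts.symm rfl
  have h2 := h1 a (mem_centralizer_singleton_iff.1 (hz ha)) (mem_centralizer_singleton_iff.1 (ht ha))
    (mem_centralizer_singleton_iff.1 (hs ha))
  exact (mem_centralizer_singleton_iff.1 (h2 hb)).symm

theorem sq (h : E3 z t s) {a : G} (ha : a ∈ AA z t s) : a * a = 1 := by
  change a ∈ Subgroup.closure {z, t, s} at ha
  induction ha using closure_induction with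
  | mem x hx =>
    rcases hx with rfl | rfl | rfl
    · exact h.zz
    · exact h.tt
    · exact h.ss
  | one => exact mul_one 1
  | mul x y hx hy ihx ihy =>
    have h1 : x * y = y * x := h.comm hx hy
    calc x * y * (x * y) = x * (y * x) * y := by group
      _ = x * (x * y) * y := by rw [h1]
      _ = (x * x) * (y * y) := by group
      _ = 1 := by rw [ihx, ihy, one_mul]
  | inv x hx ih => rw [← mul_inv_rev, ih, inv_one]

/-- the eight elements -/
theorem cases (h : E3 z t s) {a : G} (ha : a ∈ AA z t s) :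
    (a = 1 ∨ a = z ∨ a = t ∨ a = z * t) ∨ (a = s ∨ a = z * s ∨ a = t * s ∨ a = z * t * s) := by
  have hm : ∀ {b : G}, b ∈ TorFunctor.kl z t h.zz h.tt h.zt → b * s = s * b := by
    intro b hb
    rcases hb with rfl | rfl | rfl | rfl
    · group
    · exact h.zs
    · exact h.ts
    · rw [mul_assoc, h.ts, ← mul_assoc, h.zs, mul_assoc]
  have key : a ∈ TorFunctor.kl z t h.zz h.tt h.zt ∨ ∃ b ∈ TorFunctor.kl z t h.zz h.tt h.zt, a = b * s := by
    change a ∈ Subgroup.closure {z, t, s} at ha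
    induction ha using closure_induction with
    | mem x hx =>
      rcases hx with rfl | rfl | rfl
      · exact Or.inl (Or.inr (Or.inl rfl))
      · exact Or.inl (Or.inr (Or.inr (Or.inl rfl)))
      · exact Or.inr ⟨1, one_mem _, (one_mul _).symm⟩
    | one => exact Or.inl (one_mem _)
    | mul x y hx hy ihx ihy =>
      rcases ihx with ihx | ⟨b, hb, rfl⟩ <;> rcases ihy with ihy | ⟨c, hc, rfl⟩
      · exact Or.inl (mul_mem ihx ihy)
      · exact Or.inr ⟨x * c, mul_mem ihx hc, (mul_assoc _ _ _).symm⟩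
      · exact Or.inr ⟨b * y, mul_mem hb ihy, by rw [mul_assoc, ← hm ihy, mul_assoc]⟩
      · left
        have h1 : b * s * (c * s) = b * c := by
          calc b * s * (c * s) = b * (s * c) * s := by group
            _ = b * (c * s) * s := by rw [hm hc]
            _ = b * c * (s * s) := by group
            _ = b * c := by rw [h.ss, mul_one]
        rw [h1]; exact mul_mem hb hc
    | inv x hx ih =>
      rcases ih with ih | ⟨b, hb, rfl⟩
      · exact Or.inl (inv_mem ih)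
      · refine Or.inr ⟨b⁻¹, inv_mem hb, ?_⟩
        rw [mul_inv_rev, inv_eq_of_mul_eq_one_right h.ss, hm (inv_mem hb)]
  rcases key with h1 | ⟨b, h1, rfl⟩
  · exact Or.inl h1
  · right
    rcases h1 with rfl | rfl | rfl | rfl
    · left; exact one_mul _
    · right; left; rfl
    · right; right; left; rfl
    · right; right; right; rfl

theorem card (h : E3 z t s) (hz1 : z ≠ 1) (ht1 : t ≠ 1) (htz : t ≠ z) (hs1 : s ≠ 1) (hsz : s ≠ z) (hst : s ≠ t)
    (hszt : s ≠ z * t) [Finite G] : 8 ≤ Nat.card (AA z t s) := by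
  have h4 := TorFunctor.card_kl h.zz h.tt h.zt hz1 ht1 (Ne.symm htz)
  have hle : TorFunctor.kl z t h.zz h.tt h.zt ≤ AA z t s := by
    rintro x (rfl | rfl | rfl | rfl)
    · exact one_mem _
    · exact z_mem _ _ _
    · exact t_mem _ _ _
    · exact mul_mem (z_mem _ _ _) (t_mem _ _ _)
  have hdvd := card_dvd_of_le hle
  rw [h4] at hdvd
  obtain ⟨k, hk⟩ := hdvd
  have hpos : 0 < Nat.card (AA z t s) := Nat.card_pos
  by_contra hlt
  have hk1 : k = 1 := by
    rcases k with _ | _ | k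
    · omega
    · rfl
    · omega
  have h5 : TorFunctor.kl z t h.zz h.tt h.zt = AA z t s :=
    eq_of_le_of_card_ge hle (by rw [h4, hk, hk1])
  have h6 : s ∈ TorFunctor.kl z t h.zz h.tt h.zt := by rw [h5]; exact s_mem _ _ _
  rcases h6 with h7 | h7 | h7 | h7
  · exact hs1 h7
  · exact hsz h7
  · exact hst h7
  · exact hszt h7

end E3

/-! ### The hypotheses of THEOREM F at `b` -/

/-- (TOR) and (2B) at `b` -/
structure PP (A : Subgroup G) (b : G) : Prop where
  tor : ∀ a ∈ A, a ≠ 1 → ⁅XX a ⊓ centralizer {b}, A⁆ ≤ XX b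
  two : ∀ B ≤ A, Nat.card B = 4 → Del B ⊓ centralizer (A : Set G) ≤ XX b

theorem tor_cj {A : Subgroup G} {a b n : G} (hn : n ∈ normalizer (A : Set G))
    (h : ⁅XX a ⊓ centralizer {b}, A⁆ ≤ XX b) :
    ⁅XX (n * a * n⁻¹) ⊓ centralizer {n * b * n⁻¹}, A⁆ ≤ XX (n * b * n⁻¹) := by
  have h1 := cj_mono n h
  rwa [cj_commutator, cj_inf, cj_XX, cj_centralizer, cj_XX, cj_le_of_mem_normalizer hn] at h1

theorem PP.cj {A : Subgroup G} {b n : G} (h : PP A b) (hn : n ∈ normalizer (A : Set G)) : PP A (n * b * n⁻¹) := by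
  have hni : n⁻¹ ∈ normalizer (A : Set G) := inv_mem hn
  have hA := cj_le_of_mem_normalizer hn
  have hAi := cj_le_of_mem_normalizer hni
  constructor
  · intro a ha ha1
    have h1 : n⁻¹ * a * n⁻¹⁻¹ ∈ A := (mem_normalizer_iff.1 hni a).1 ha
    have h2 := tor_cj hn (h.tor _ h1 (conj_ne_one ha1))
    have h3 : n * (n⁻¹ * a * n⁻¹⁻¹) * n⁻¹ = a := by group
    rwa [h3] at h2
  · intro B hB h4
    have h1 : Cit.cj n⁻¹ B ≤ A := by rw [← hAi]; exact cj_mono _ hB
    have h2 := cj_mono n (h.two _ h1 (by rw [card_cj]; exact h4))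
    rwa [cj_inf, cj_Del, cj_cj_inv, CoreTools.cj_centralizer_set, hA, cj_XX] at h2

/-- THEOREM F from `PP` -/
theorem tor_of_PP {z t s : G} (h : E3 z t s) (h8 : 8 ≤ Nat.card (AA z t s))
    (hodd : ∀ X : Subgroup G, ¬ 2 ∣ Nat.card X → Group.IsSolvable X)
    (hP : ∀ b ∈ AA z t s, b ≠ 1 → PP (AA z t s) b) : TorFunctor.Tor (AA z t s) where
  solv := hodd
  comm a ha b hb := h.comm ha hb
  sq a ha := by rw [pow_two]; exact h.sq ha
  card := h8
  tor a ha ha1 b hb hb1 := (hP b hb hb1).tor a ha ha1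
  two B hB h4 b hb hb1 := (hP b hb hb1).two B hB h4

/-! ### The configuration -/

/-- four members and elements of order four -/
structure Cfg (Om : Set (Subgroup G)) (S : Sylow 2 G) (K : Fin 4 → Subgroup G) (x : Fin 4 → G) : Prop where
  inj : Function.Injective K
  memS : ∀ i, K i ∈ OmS Om (S : Subgroup G)
  mem : ∀ i, x i ∈ K i ⊓ (S : Subgroup G)
  four : ∀ i, orderOf (x i) = 4

namespace Cfg

variable [Finite G] {Om : Set (Subgroup G)} {S : Sylow 2 G} {K : Fin 4 → Subgroup G} {x : Fin 4 → G}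

theorem zz_eq (c : Cfg Om S K x) (e : EqFour Om) (i : Fin 4) : zz (K i) = zz (K 0) :=
  e.eqz S _ (c.memS i) _ (c.memS 0)

theorem sq (c : Cfg Om S K x) (e : EqFour Om) (i : Fin 4) : x i * x i = zz (K 0) := by
  rw [← c.zz_eq e i]
  exact e.hyp.sq_eq_zz (c.memS i).1 (c.mem i).1 (c.four i)

theorem commQ (c : Cfg Om S K x) (e : EqFour Om) {i j : Fin 4} (hij : i ≠ j) {a b : G} (ha : a ∈ K i ⊓ (S : Subgroup G))
    (hb : b ∈ K j ⊓ (S : Subgroup G)) : a * b = b * a :=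
  e.hyp.comm S.isPGroup' (c.memS i) (c.memS j) (fun h => hij (c.inj h)) ha hb

theorem comm (c : Cfg Om S K x) (e : EqFour Om) (i j : Fin 4) : x i * x j = x j * x i := by
  by_cases hij : i = j
  · rw [hij]
  · exact c.commQ e hij (c.mem i) (c.mem j)

theorem z_comm (c : Cfg Om S K x) (e : EqFour Om) {g : G} (hg : g ∈ (S : Subgroup G)) :
    g * zz (K 0) = zz (K 0) * g := e.comm_zz S.isPGroup' (c.memS 0) hg

theorem zz_mul (c : Cfg Om S K x) (e : EqFour Om) : zz (K 0) * zz (K 0) = 1 := e.hyp.zz_mul (c.memS 0).1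

theorem zz_ne (c : Cfg Om S K x) (e : EqFour Om) : zz (K 0) ≠ 1 := e.hyp.zz_ne (c.memS 0).1

/-- every member over `z` is one of the four -/
theorem all (c : Cfg Om S K x) (e : EqFour Om) {L : Subgroup G} (hL : L ∈ Om) (hz : zz L = zz (K 0)) :
    ∃ i, K i = L := by
  have h1 : L ∈ OmS Om (S : Subgroup G) := (e.mem_OmS_iff S (c.memS 0)).2 ⟨hL, hz⟩
  by_contra hcon
  push Not at hcon
  have h2 : insert L (Set.range K) ⊆ OmS Om (S : Subgroup G) := by
    rintro J (rfl | ⟨i, rfl⟩)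
    · exact h1
    · exact c.memS i
  have h3 := Set.ncard_le_ncard h2 (Set.toFinite _)
  rw [Set.ncard_insert_of_notMem (by rintro ⟨i, hi⟩; exact hcon i hi) (Set.toFinite _), e.card S,
    ← Set.image_univ, Set.ncard_image_of_injective _ c.inj, Set.ncard_univ, Nat.card_eq_fintype_card,
    Fintype.card_fin] at h3
  omega

/-- the product of two -/
theorem mul_sq (c : Cfg Om S K x) (e : EqFour Om) (i j : Fin 4) : x i * x j * (x i * x j) = 1 := by
  calc x i * x j * (x i * x j) = x i * (x j * x i) * x j := by group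
    _ = x i * (x i * x j) * x j := by rw [c.comm e]
    _ = (x i * x i) * (x j * x j) := by group
    _ = 1 := by rw [c.sq e, c.sq e, c.zz_mul e]

/-- change of the elements -/
theorem replace (c : Cfg Om S K x) {y : Fin 4 → G} (hy : ∀ i, y i ∈ K i ⊓ (S : Subgroup G))
    (h4 : ∀ i, orderOf (y i) = 4) : Cfg Om S K y := ⟨c.inj, c.memS, hy, h4⟩

/-- permutation -/
theorem perm (c : Cfg Om S K x) (σ : Equiv.Perm (Fin 4)) : Cfg Om S (K ∘ σ) (x ∘ σ) :=
  ⟨c.inj.comp σ.injective, fun i => c.memS (σ i), fun i => c.mem (σ i), fun i => c.four (σ i)⟩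

/-- change of the sign of one element -/
theorem neg (c : Cfg Om S K x) (j : Fin 4) : Cfg Om S K (Function.update x j (x j)⁻¹) := by
  refine c.replace (fun i => ?_) (fun i => ?_)
  · by_cases hij : i = j
    · subst hij; rw [Function.update_self]; exact inv_mem (c.mem i)
    · rw [Function.update_of_ne hij]; exact c.mem i
  · by_cases hij : i = j
    · subst hij; rw [Function.update_self, orderOf_inv]; exact c.four i
    · rw [Function.update_of_ne hij]; exact c.four i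

theorem inv_eq (c : Cfg Om S K x) (e : EqFour Om) (i : Fin 4) : (x i)⁻¹ = zz (K 0) * x i := by
  rw [inv_eq_iff_mul_eq_one]
  calc x i * (zz (K 0) * x i) = (x i * zz (K 0)) * x i := by group
    _ = zz (K 0) * (x i * x i) := by rw [c.z_comm e (c.mem i).2]; group
    _ = 1 := by rw [c.sq e, c.zz_mul e]

theorem exists_elem (e : EqFour Om) (S : Sylow 2 G) : ∃ K x, Cfg Om S K x := by
  obtain ⟨K, hinj, hK, -⟩ := e.exists_enum S
  have h1 : ∀ i, ∃ x ∈ K i ⊓ (S : Subgroup G), orderOf x = 4 := fun i => e.hyp.exists_four S.isPGroup' (hK i)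
  choose x hx hx4 using h1
  exact ⟨K, x, hinj, hK, hx, hx4⟩

/-- `t = x 0 x 1`, `t' = x 2 x 3`, `s = t t'` -/
theorem e3 (c : Cfg Om S K x) (e : EqFour Om) : E3 (zz (K 0)) (x 0 * x 1) (x 0 * x 1 * x 2 * x 3) := by
  have hz := fun i => c.z_comm e (c.mem i).2
  have hs : x 0 * x 1 * x 2 * x 3 = (x 0 * x 1) * (x 2 * x 3) := by group
  have htt : (x 0 * x 1) * (x 2 * x 3) = (x 2 * x 3) * (x 0 * x 1) := by
    calc (x 0 * x 1) * (x 2 * x 3) = x 0 * (x 1 * x 2) * x 3 := by group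
      _ = (x 0 * x 2) * (x 1 * x 3) := by rw [c.comm e 1 2]; group
      _ = x 2 * (x 0 * x 3) * x 1 := by rw [c.comm e 0 2, c.comm e 1 3]; group
      _ = (x 2 * x 3) * (x 0 * x 1) := by rw [c.comm e 0 3]; group
  have hzm : ∀ i j, zz (K 0) * (x i * x j) = (x i * x j) * zz (K 0) := by
    intro i j
    rw [← mul_assoc, ← hz i, mul_assoc, ← hz j, mul_assoc]
  refine ⟨c.zz_mul e, c.mul_sq e 0 1, ?_, hzm 0 1, ?_, ?_⟩
  · rw [hs]
    calc (x 0 * x 1) * (x 2 * x 3) * ((x 0 * x 1) * (x 2 * x 3)) =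
          (x 0 * x 1) * ((x 2 * x 3) * (x 0 * x 1)) * (x 2 * x 3) := by group
      _ = (x 0 * x 1) * ((x 0 * x 1) * (x 2 * x 3)) * (x 2 * x 3) := by rw [htt]
      _ = ((x 0 * x 1) * (x 0 * x 1)) * ((x 2 * x 3) * (x 2 * x 3)) := by group
      _ = 1 := by rw [c.mul_sq e, c.mul_sq e, one_mul]
  · rw [hs, ← mul_assoc, hzm 0 1, mul_assoc, hzm 2 3, ← mul_assoc]
  · rw [hs]
    calc (x 0 * x 1) * ((x 0 * x 1) * (x 2 * x 3)) = (x 0 * x 1) * ((x 2 * x 3) * (x 0 * x 1)) := by rw [htt]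
      _ = (x 0 * x 1) * (x 2 * x 3) * (x 0 * x 1) := by group

/-- an element of `K i ⊓ S` inverting `x i` -/
theorem exists_inv (c : Cfg Om S K x) (e : EqFour Om) (i : Fin 4) :
    ∃ u ∈ K i ⊓ (S : Subgroup G), orderOf u = 4 ∧ u * x i * u⁻¹ = (x i)⁻¹ := by
  obtain ⟨c', v, n, hq⟩ := e.hyp.exists_gq (c.memS i).1 (syl_inf S.isPGroup' (c.memS i))
  obtain ⟨u, hu, hu4, hux⟩ := hq.exists_inverting (c.mem i) (c.four i)
  exact ⟨u, hu, hu4, hux⟩

/-- if `r` commutes with `K i ⊓ S` then `x i r ≠ 1, z` -/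
theorem mul_ne (c : Cfg Om S K x) (e : EqFour Om) (i : Fin 4) {r w : G}
    (hr : ∀ u ∈ K i ⊓ (S : Subgroup G), u * r = r * u) (hw : ∀ u ∈ K i ⊓ (S : Subgroup G), u * w = w * u) :
    x i * r ≠ w := by
  intro h1
  obtain ⟨u, hu, hu4, hux⟩ := c.exists_inv e i
  have h2 : u * (x i * r) * u⁻¹ = (x i)⁻¹ * r := by
    calc u * (x i * r) * u⁻¹ = (u * x i * u⁻¹) * (u * r * u⁻¹) := by group
      _ = (x i)⁻¹ * r := by rw [hux, hr u hu, mul_inv_cancel_right]
  rw [h1, hw u hu, mul_inv_cancel_right, ← h1] at h2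
  have h3 : x i = (x i)⁻¹ := mul_right_cancel h2
  have h4 : x i * x i = 1 := by
    nth_rewrite 1 [h3]
    exact inv_mul_cancel _
  rw [c.sq e] at h4
  exact c.zz_ne e h4

theorem card (c : Cfg Om S K x) (e : EqFour Om) : 8 ≤ Nat.card (AA (zz (K 0)) (x 0 * x 1) (x 0 * x 1 * x 2 * x 3)) := by
  have hz : ∀ i, ∀ u ∈ K i ⊓ (S : Subgroup G), u * zz (K 0) = zz (K 0) * u := fun i u hu => c.z_comm e hu.2
  have h01 : ∀ u ∈ K 0 ⊓ (S : Subgroup G), u * x 1 = x 1 * u := fun u hu => c.commQ e (by decide) hu (c.mem 1)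
  have h02 : ∀ u ∈ K 0 ⊓ (S : Subgroup G), u * x 2 = x 2 * u := fun u hu => c.commQ e (by decide) hu (c.mem 2)
  have h03 : ∀ u ∈ K 0 ⊓ (S : Subgroup G), u * x 3 = x 3 * u := fun u hu => c.commQ e (by decide) hu (c.mem 3)
  have h0 : ∀ u ∈ K 0 ⊓ (S : Subgroup G), u * (x 1 * x 2 * x 3) = (x 1 * x 2 * x 3) * u := by
    intro u hu
    calc u * (x 1 * x 2 * x 3) = (u * x 1) * x 2 * x 3 := by group
      _ = x 1 * (u * x 2) * x 3 := by rw [h01 u hu]; group
      _ = x 1 * x 2 * (u * x 3) := by rw [h02 u hu]; group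
      _ = (x 1 * x 2 * x 3) * u := by rw [h03 u hu]; group
  have hs0 : x 0 * x 1 * x 2 * x 3 = x 0 * (x 1 * x 2 * x 3) := by group
  have h21 : ∀ u ∈ K 2 ⊓ (S : Subgroup G), u * (x 0 * x 1) = (x 0 * x 1) * u := by
    intro u hu
    have a1 : u * x 0 = x 0 * u := c.commQ e (by decide) hu (c.mem 0)
    have a2 : u * x 1 = x 1 * u := c.commQ e (by decide) hu (c.mem 1)
    rw [← mul_assoc, a1, mul_assoc, a2, mul_assoc]
  have h23 : ∀ u ∈ K 2 ⊓ (S : Subgroup G), u * x 3 = x 3 * u := fun u hu => c.commQ e (by decide) hu (c.mem 3)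
  have hs2 : x 0 * x 1 * x 2 * x 3 = x 2 * (x 3 * (x 0 * x 1)) := by
    have h1 : x 0 * x 2 = x 2 * x 0 := c.comm e 0 2
    have h2 : x 1 * x 2 = x 2 * x 1 := c.comm e 1 2
    have h3 : x 0 * x 3 = x 3 * x 0 := c.comm e 0 3
    have h4 : x 1 * x 3 = x 3 * x 1 := c.comm e 1 3
    calc x 0 * x 1 * x 2 * x 3 = x 0 * (x 1 * x 2) * x 3 := by group
      _ = (x 0 * x 2) * (x 1 * x 3) := by rw [h2]; group
      _ = x 2 * (x 0 * x 3) * x 1 := by rw [h1, h4]; group
      _ = x 2 * (x 3 * (x 0 * x 1)) := by rw [h3]; group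
  have h2 : ∀ u ∈ K 2 ⊓ (S : Subgroup G), u * (x 3 * (x 0 * x 1)) = (x 3 * (x 0 * x 1)) * u := by
    intro u hu
    rw [← mul_assoc, h23 u hu, mul_assoc, h21 u hu, ← mul_assoc]
  refine (c.e3 e).card (c.zz_ne e) ?_ ?_ ?_ ?_ ?_ ?_
  · exact c.mul_ne e 0 h01 (fun u _ => by rw [mul_one, one_mul])
  · exact c.mul_ne e 0 h01 (hz 0)
  · rw [hs0]; exact c.mul_ne e 0 h0 (fun u _ => by rw [mul_one, one_mul])
  · rw [hs0]; exact c.mul_ne e 0 h0 (hz 0)
  · rw [hs2]; exact c.mul_ne e 2 h2 h21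
  · rw [hs2]
    refine c.mul_ne e 2 h2 fun u hu => ?_
    rw [← mul_assoc, hz 2 u hu, mul_assoc, h21 u hu, ← mul_assoc]

end Cfg

end Cfsg.Agent.Cit.EqCfg
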