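import Cfsg.Agent.Cit.EqCfg
import Cfsg.Agent.Cit.EqFourMain
import Cfsg.Agent.Cit.FC.Base

/-!
# All `z_K`, `K ∈ Om(S)`, equal, `|Om(S)| = 4`: (TOR) at `t = x 0 x 1`

`c : Cfg Om S K x`, `A = AA z t s`, `z = zz (K 0)`, `s = x 0 x 1 x 2 x 3`. `Cfg.tor_t` : (TOR) at `t`: (CT) for
`C(t) / O(C(t))` and the Sylow 2-subgroups of `K 2`, `K 3` gives it for `a ∈ ⟨z, t⟩`, the other elements of `A` are
conjugate to these in `C(t) ∩ N(A)` (`exists_swap`).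
-/

set_option autoImplicit false
set_option linter.style.haveILetI false
set_option linter.unusedSectionVars false

namespace Cfsg.Agent.Cit.EqCfg

open Subgroup Cfsg Cfsg.Agent.Cit SubCent UseT EqClose EqHad CoresG
open scoped commutatorElement

universe u

namespace Cfg

variable {G : Type u} [Group G] [Finite G] {Om : Set (Subgroup G)} {S : Sylow 2 G} {K : Fin 4 → Subgroup G}
  {x : Fin 4 → G} {t : G}

theorem commQ_t (c : Cfg Om S K x) (e : EqFour Om) (ht : x 0 * x 1 = t) {i : Fin 4} (h0 : i ≠ 0) (h1 : i ≠ 1) {q : G}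
    (hq : q ∈ K i ⊓ (S : Subgroup G)) : q * t = t * q := by
  rw [← ht, ← mul_assoc, c.commQ e h0 hq (c.mem 0), mul_assoc, c.commQ e h1 hq (c.mem 1), mul_assoc]

theorem tor_of_comm (hct : CTStmt.{u}) (c : Cfg Om S K x) (e : EqFour Om) (ty : ∀ K ∈ Om, IsType K)
    (ht : x 0 * x 1 = t) (hp : HasPieces (fam Om (centralizer {t}))) {a : G} (ha : a * a = 1) (hat : a * t = t * a)
    (hQ : ∀ i : Fin 4, i ≠ 0 → i ≠ 1 → ∀ q ∈ K i ⊓ (S : Subgroup G), q * a = a * q) :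
    ⁅XX a ⊓ centralizer {t}, AA (zz (K 0)) t (x 0 * x 1 * x 2 * x 3)⁆ ≤ XX t := by
  have htt : t * t = 1 := by rw [← ht]; exact c.mul_sq e 0 1
  rw [commutator_le]
  rintro y ⟨hy, hyt⟩ d hd
  have hyt' : y * t = t * y := mem_centralizer_singleton_iff.1 hyt
  have h1 : ∀ i : Fin 4, i ≠ 0 → i ≠ 1 → K i ⊓ (S : Subgroup G) ≤ FC.CX t y := fun i h0 h1 =>
    FC.comm_XX hct e.hyp ty (c.memS i).1 (syl_inf S.isPGroup' (c.memS i)) ha htt hat (hQ i h0 h1)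
      (fun q hq => commQ_t c e ht h0 h1 hq) hp hy hyt'
  have h2 : AA (zz (K 0)) t (x 0 * x 1 * x 2 * x 3) ≤ FC.CX t y := by
    rw [AA_le_iff]
    have h3 : t ∈ FC.CX t y := FC.self_mem_CX hyt'
    have h4 := h1 2 (by decide) (by decide) (c.mem 2)
    have h5 := h1 3 (by decide) (by decide) (c.mem 3)
    refine ⟨?_, h3, ?_⟩
    · rw [← c.sq e 2]
      exact mul_mem h4 h4
    · rw [ht]
      exact mul_mem (mul_mem h3 h4) h5
  have h3 := inv_mem (h2 hd).2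
  have h4 : (d * y * d⁻¹ * y⁻¹)⁻¹ = ⁅y, d⁆ := by rw [commutatorElement_def]; group
  rwa [h4] at h3

/-- **(TOR) at `t`** -/
theorem tor_t' (hct : CTStmt.{u}) (c : Cfg Om S K x) (e : EqFour Om) (ty : ∀ K ∈ Om, IsType K)
    (ht : x 0 * x 1 = t) (hp : HasPieces (fam Om (centralizer {t}))) {a : G}
    (ha : a ∈ AA (zz (K 0)) t (x 0 * x 1 * x 2 * x 3)) :
    ⁅XX a ⊓ centralizer {t}, AA (zz (K 0)) t (x 0 * x 1 * x 2 * x 3)⁆ ≤ XX t := by
  have e3' := c.e3 e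
  have e3 : E3 (zz (K 0)) t (x 0 * x 1 * x 2 * x 3) :=
    ⟨e3'.zz, by rw [← ht]; exact e3'.tt, e3'.ss, by rw [← ht]; exact e3'.zt, e3'.zs, by rw [← ht]; exact e3'.ts⟩
  have hz : ∀ i : Fin 4, ∀ q ∈ K i ⊓ (S : Subgroup G), q * zz (K 0) = zz (K 0) * q := fun i q hq => c.z_comm e hq.2
  have hX : Xs Om (S : Subgroup G) K x := ⟨S.isPGroup', c.inj, c.memS, c.mem, c.four⟩
  obtain ⟨n, n', hn, hn', h1, h2, h3, h4⟩ := exists_swap e S hX (z := zz (K 0)) rfl (i := 0) (j := 1) (by decide)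
  change n * zz (K 0) * n⁻¹ = x 0 * x 1 * x 2 * x 3 at h1
  change n * (x 0 * x 1 * x 2 * x 3) * n⁻¹ = x 0 * x 1 * x 2 * x 3 * zz (K 0) at h2
  change n' * zz (K 0) * n'⁻¹ = x 0 * x 1 * x 2 * x 3 * zz (K 0) at h3
  change n' * (x 0 * x 1 * x 2 * x 3) * n'⁻¹ = x 0 * x 1 * x 2 * x 3 at h4
  rw [ht] at hn hn'
  have key0 : ∀ a : G, a * a = 1 → a * t = t * a →
      (∀ i : Fin 4, i ≠ 0 → i ≠ 1 → ∀ q ∈ K i ⊓ (S : Subgroup G), q * a = a * q) →
      ⁅XX a ⊓ centralizer {t}, AA (zz (K 0)) t (x 0 * x 1 * x 2 * x 3)⁆ ≤ XX t := fun a ha hat hQ =>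
    tor_of_comm hct c e ty ht hp ha hat hQ
  have hQt : ∀ i : Fin 4, i ≠ 0 → i ≠ 1 → ∀ q ∈ K i ⊓ (S : Subgroup G), q * t = t * q := fun i h0 h1 q hq =>
    commQ_t c e ht h0 h1 hq
  clear e3'
  generalize x 0 * x 1 * x 2 * x 3 = s at *
  have ht1 : n * t * n⁻¹ = t := by rw [hn, mul_inv_cancel_right]
  have ht2 : n' * t * n'⁻¹ = t := by rw [hn', mul_inv_cancel_right]
  have zA := z_mem (zz (K 0)) t s
  have tA := t_mem (zz (K 0)) t s
  have sA := s_mem (zz (K 0)) t s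
  have hN : n ∈ normalizer (AA (zz (K 0)) t s : Set G) := by
    rw [mem_normalizer_iff_cj, cj_AA, h1, h2, ht1]
    refine AA_eq_of sA tA (mul_mem sA zA) ?_ (t_mem _ _ _) (z_mem _ _ _)
    have h5 : s⁻¹ * (s * zz (K 0)) ∈ AA s t (s * zz (K 0)) := mul_mem (inv_mem (z_mem _ _ _)) (s_mem _ _ _)
    rwa [inv_mul_cancel_left] at h5
  have hN' : n' ∈ normalizer (AA (zz (K 0)) t s : Set G) := by
    rw [mem_normalizer_iff_cj, cj_AA, h3, h4, ht2]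
    refine AA_eq_of (mul_mem sA zA) tA sA ?_ (t_mem _ _ _) (s_mem _ _ _)
    have h5 : s⁻¹ * (s * zz (K 0)) ∈ AA (s * zz (K 0)) t s := mul_mem (inv_mem (s_mem _ _ _)) (z_mem _ _ _)
    rwa [inv_mul_cancel_left] at h5
  have key : ∀ a : G, (a = 1 ∨ a = zz (K 0) ∨ a = t ∨ a = zz (K 0) * t) →
      ⁅XX a ⊓ centralizer {t}, AA (zz (K 0)) t s⁆ ≤ XX t := by
    intro a ha
    have haA : a ∈ AA (zz (K 0)) t s := by
      rcases ha with rfl | rfl | rfl | rfl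
      exacts [one_mem _, zA, tA, mul_mem zA tA]
    refine key0 a (e3.sq haA) (e3.comm haA tA) fun i h0 h1 q hq => ?_
    have h5 := hz i q hq
    have h6 := hQt i h0 h1 q hq
    rcases ha with rfl | rfl | rfl | rfl
    · rw [mul_one, one_mul]
    · exact h5
    · exact h6
    · rw [← mul_assoc, h5, mul_assoc, h6, mul_assoc]
  have cjn : ∀ a : G, ⁅XX a ⊓ centralizer {t}, AA (zz (K 0)) t s⁆ ≤ XX t →
      ⁅XX (n * a * n⁻¹) ⊓ centralizer {t}, AA (zz (K 0)) t s⁆ ≤ XX t := by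
    intro a h
    have h5 := tor_cj hN h
    rwa [ht1] at h5
  have cjn' : ∀ a : G, ⁅XX a ⊓ centralizer {t}, AA (zz (K 0)) t s⁆ ≤ XX t →
      ⁅XX (n' * a * n'⁻¹) ⊓ centralizer {t}, AA (zz (K 0)) t s⁆ ≤ XX t := by
    intro a h
    have h5 := tor_cj hN' h
    rwa [ht2] at h5
  rcases e3.cases ha with h5 | h5
  · exact key a h5
  · rcases h5 with rfl | rfl | rfl | rfl
    · have h6 := cjn _ (key _ (Or.inr (Or.inl rfl)))
      rwa [h1] at h6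
    · have h6 := cjn' _ (key _ (Or.inr (Or.inl rfl)))
      rwa [h3, ← e3.zs] at h6
    · have h6 := cjn _ (key _ (Or.inr (Or.inr (Or.inr rfl))))
      have h7 : n * (zz (K 0) * t) * n⁻¹ = t * s := by
        calc n * (zz (K 0) * t) * n⁻¹ = (n * zz (K 0) * n⁻¹) * (n * t * n⁻¹) := by group
          _ = t * s := by rw [h1, ht1, e3.ts]
      rwa [h7] at h6
    · have h6 := cjn' _ (key _ (Or.inr (Or.inr (Or.inr rfl))))
      have h7 : n' * (zz (K 0) * t) * n'⁻¹ = zz (K 0) * t * s := by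
        calc n' * (zz (K 0) * t) * n'⁻¹ = (n' * zz (K 0) * n'⁻¹) * (n' * t * n'⁻¹) := by group
          _ = zz (K 0) * t * s := by rw [h3, ht2, ← e3.zs, mul_assoc, ← e3.ts, mul_assoc]
      rwa [h7] at h6

/-- **(TOR) at `t = x 0 x 1`** -/
theorem tor_t (hct : CTStmt.{u}) (c : Cfg Om S K x) (e : EqFour Om) (ty : ∀ K ∈ Om, IsType K)
    (hp : HasPieces (fam Om (centralizer {x 0 * x 1}))) :
    ∀ a ∈ AA (zz (K 0)) (x 0 * x 1) (x 0 * x 1 * x 2 * x 3), a ≠ 1 →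
      ⁅XX a ⊓ centralizer {x 0 * x 1}, AA (zz (K 0)) (x 0 * x 1) (x 0 * x 1 * x 2 * x 3)⁆ ≤ XX (x 0 * x 1) :=
  fun _ ha _ => tor_t' hct c e ty rfl hp ha

end Cfg

end Cfsg.Agent.Cit.EqCfg
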