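import Cfsg.Agent.Cit.EqCfg
import Cfsg.Agent.Cit.CoresG

/-!
# All involutions `z_K`, `K ∈ Om(S)`, equal, `|Om(S)| = 4`: THEOREM F at `b = z`

`PP_z` : (TOR) and (2B) of THEOREM F for `A = ⟨z, t, s⟩` at `b = z`. Every component of `C(z) / O(C(z))` is
contained in one of the four commuting subnormal subgroups `K̄ i` or centralised by all of them, hence centralised by
a subgroup of index at most two of `A`.
-/

set_option autoImplicit false
set_option linter.style.haveILetI false
set_option linter.unusedSectionVars false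

namespace Cfsg.Agent.Cit.EqCfg

open Subgroup Cfsg Cfsg.Agent.Cit Cfsg.Agent.Cit.EqClose SubCent UseT Cfsg.Agent.Cit.Comp
open Cfsg.Agent.SignalizersComponents.Components
open scoped commutatorElement

universe u

/-! ### `⟨z, t, s⟩` in subgroups and images -/

section

variable {G G' : Type*} [Group G] [Group G']

theorem map_AA (f : G →* G') (z t s : G) : (AA z t s).map f = AA (f z) (f t) (f s) := by
  rw [AA, AA, MonoidHom.map_closure]
  congr 1
  simp only [Set.image_insert_eq, Set.image_singleton]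

theorem subgroupOf_AA {H : Subgroup G} {z t s : G} (hz : z ∈ H) (ht : t ∈ H) (hs : s ∈ H) :
    (AA z t s).subgroupOf H = AA ⟨z, hz⟩ ⟨t, ht⟩ ⟨s, hs⟩ := by
  apply Subgroup.map_injective H.subtype_injective
  rw [map_AA, map_subgroupOf_eq_of_le (AA_le_iff.2 ⟨hz, ht, hs⟩)]
  rfl

theorem E3.map {z t s : G} (h : E3 z t s) (f : G →* G') : E3 (f z) (f t) (f s) := by
  have key : ∀ a b : G, a * b = b * a → f a * f b = f b * f a := fun a b hab => by
    rw [← map_mul, hab, map_mul]
  have key2 : ∀ a : G, a * a = 1 → f a * f a = 1 := fun a ha => by rw [← map_mul, ha, map_one]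
  exact ⟨key2 _ h.zz, key2 _ h.tt, key2 _ h.ss, key _ _ h.zt, key _ _ h.zs, key _ _ h.ts⟩

theorem E3.sub {H : Subgroup G} {z t s : G} (h : E3 z t s) (hz : z ∈ H) (ht : t ∈ H) (hs : s ∈ H) :
    E3 (⟨z, hz⟩ : H) ⟨t, ht⟩ ⟨s, hs⟩ :=
  ⟨Subtype.ext h.zz, Subtype.ext h.tt, Subtype.ext h.ss, Subtype.ext h.zt, Subtype.ext h.zs, Subtype.ext h.ts⟩

/-- a subgroup containing `z` and one of `t`, `s`, `ts` has index at most two in `⟨z, t, s⟩` -/
theorem E3.relIndex_le {z t s : G} (h : E3 z t s) {C : Subgroup G} (hz : z ∈ C) (h2 : t ∈ C ∨ s ∈ C ∨ t * s ∈ C) :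
    C.relIndex (AA z t s) ≤ 2 := by
  rw [← inf_relIndex_left]
  have hti : t⁻¹ = t := inv_eq_of_mul_eq_one_right h.tt
  have hsi : s⁻¹ = s := inv_eq_of_mul_eq_one_right h.ss
  have e1 : t * (t * s) = s := by rw [← mul_assoc, h.tt, one_mul]
  have e2 : s * (t * s) = t := by rw [h.ts, ← mul_assoc, h.ss, one_mul]
  have e3 : t * (z * t) = z := by rw [h.zt, ← mul_assoc, h.tt, one_mul]
  have e4 : s * (z * s) = z := by rw [h.zs, ← mul_assoc, h.ss, one_mul]
  rcases h2 with h2 | h2 | h2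
  · refine FrameGood.relIndex_le_two_of (s_mem z t s) fun a ha => ?_
    rcases h.cases ha with (rfl | rfl | rfl | rfl) | (rfl | rfl | rfl | rfl)
    · left; exact one_mem _
    · left; exact hz
    · left; exact h2
    · left; exact mul_mem hz h2
    · right; rw [inv_mul_cancel]; exact one_mem _
    · right; rw [hsi, e4]; exact hz
    · right; rw [hsi, e2]; exact h2
    · right
      have : s⁻¹ * (z * t * s) = z * t := by
        rw [hsi]
        calc s * (z * t * s) = (s * z) * (t * s) := by group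
          _ = z * (s * (t * s)) := by rw [← h.zs]; group
          _ = z * t := by rw [e2]
      rw [this]; exact mul_mem hz h2
  · refine FrameGood.relIndex_le_two_of (t_mem z t s) fun a ha => ?_
    rcases h.cases ha with (rfl | rfl | rfl | rfl) | (rfl | rfl | rfl | rfl)
    · left; exact one_mem _
    · left; exact hz
    · right; rw [inv_mul_cancel]; exact one_mem _
    · right; rw [hti, e3]; exact hz
    · left; exact h2
    · left; exact mul_mem hz h2
    · right; rw [hti, e1]; exact h2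
    · right
      have : t⁻¹ * (z * t * s) = z * s := by
        rw [hti]
        calc t * (z * t * s) = (t * (z * t)) * s := by group
          _ = z * s := by rw [e3]
      rw [this]; exact mul_mem hz h2
  · refine FrameGood.relIndex_le_two_of (t_mem z t s) fun a ha => ?_
    have h5 : z * t * s = z * (t * s) := mul_assoc _ _ _
    rcases h.cases ha with (rfl | rfl | rfl | rfl) | (rfl | rfl | rfl | rfl)
    · left; exact one_mem _
    · left; exact hz
    · right; rw [inv_mul_cancel]; exact one_mem _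
    · right; rw [hti, e3]; exact hz
    · right; rw [hti]; exact h2
    · right
      have : t⁻¹ * (z * s) = z * (t * s) := by
        rw [hti, ← mul_assoc, ← h.zt, mul_assoc]
      rw [this]; exact mul_mem hz h2
    · left; exact h2
    · left; rw [h5]; exact mul_mem hz h2

theorem mul_mem_of_relIndex [Finite G] {C A : Subgroup G} (h : C.relIndex A ≤ 2) {a b : G} (ha : a ∈ A) (hb : b ∈ A)
    (haC : a ∉ C) (hbC : b ∉ C) : a * b ∈ C := by
  have hne1 : C.relIndex A ≠ 1 := by
    rw [Ne, relIndex_eq_one]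
    exact fun h => haC (h ha)
  have hne0 : C.relIndex A ≠ 0 := index_ne_zero_of_finite (H := C.subgroupOf A)
  have h2 : C.relIndex A = 2 := by omega
  have h3 : (C.subgroupOf A).index = 2 := h2
  have h4 := Subgroup.mul_mem_iff_of_index_two h3 (a := ⟨a, ha⟩) (b := ⟨b, hb⟩)
  exact h4.2 ⟨fun h => absurd h haC, fun h => absurd h hbC⟩

theorem exists_two_ne {B : Subgroup G} [Finite G] (h4 : Nat.card B = 4) :
    ∃ a ∈ B, ∃ b ∈ B, a ≠ 1 ∧ b ≠ 1 ∧ a ≠ b := by
  obtain ⟨a, ha, ha1⟩ : ∃ a ∈ B, a ≠ 1 := by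
    by_contra hcon
    push Not at hcon
    have : B = ⊥ := (Subgroup.eq_bot_iff_forall B).2 hcon
    rw [this, Subgroup.card_bot] at h4
    omega
  obtain ⟨b, hb, hb1, hba⟩ : ∃ b ∈ B, b ≠ 1 ∧ b ≠ a := by
    by_contra hcon
    push Not at hcon
    have h1 : (B : Set G) ⊆ {1, a} := by
      intro x hx
      by_cases hx1 : x = 1
      · exact Or.inl hx1
      · exact Or.inr (hcon x hx hx1)
    have h2 := Set.ncard_le_ncard h1 (Set.toFinite _)
    have h3 : ({1, a} : Set G).ncard ≤ 2 := by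
      rw [Set.ncard_pair (Ne.symm ha1)]
    have h5 : (B : Set G).ncard = Nat.card B := rfl
    omega
  exact ⟨a, ha, b, hb, ha1, hb1, Ne.symm hba⟩

end

section

variable {G : Type u} [Group G] [Finite G] {Om : Set (Subgroup G)} {S : Sylow 2 G} {K : Fin 4 → Subgroup G}
  {x : Fin 4 → G}

theorem Cfg.le_cent (c : Cfg Om S K x) (e : EqFour Om) : (S : Subgroup G) ≤ centralizer {zz (K 0)} :=
  fun _ hg => mem_centralizer_singleton_iff.2 (c.z_comm e hg)

theorem Cfg.AA_le (c : Cfg Om S K x) (e : EqFour Om) :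
    AA (zz (K 0)) (x 0 * x 1) (x 0 * x 1 * x 2 * x 3) ≤ (S : Subgroup G) := by
  have hx := fun i => (c.mem i).2
  exact AA_le_iff.2 ⟨(e.hyp.zz_mem_inf S.isPGroup' (c.memS 0)).2, mul_mem (hx 0) (hx 1),
    mul_mem (mul_mem (mul_mem (hx 0) (hx 1)) (hx 2)) (hx 3)⟩

/-- a component of `C(z) / O(C(z))` is contained in a `K̄ i` or centralised by `K̄ i` -/
theorem Cfg.comp_or (c : Cfg Om S K x) (e : EqFour Om) (ty : ∀ K ∈ Om, IsType K) {H : Subgroup G}
    (hH : H = centralizer {zz (K 0)}) (hc : ∀ J ∈ fam Om H, OO J = ⊥) {L : Subgroup (HQ H)}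
    (hL : IsComponent L) (i : Fin 4) : L ≤ tr H (K i) ∨ tr H (K i) ≤ centralizer (L : Set (HQ H)) := by
  have hKi : K i ≤ H := by
    have := e.hyp.le_centralizer (c.memS i).1
    rwa [c.zz_eq e i, ← hH] at this
  have hcov : K i ∈ cov Om H := mem_cov_of_le (c.memS i).1 hKi
  have h1 := px_eq_tr_of_central e.hyp ty hc hcov (by rw [c.zz_eq e i, hH])
  have h2 := CoresH.pc_isSubnormal (hyp_fam e.hyp ty H) (tr_mem hcov)
  rw [← px, h1] at h2
  rcases component_le_or_commutator_eq_bot hL h2 with h3 | h3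
  · exact Or.inl h3
  · right
    rw [commutator_comm, commutator_eq_bot_iff_le_centralizer] at h3
    exact h3

/-- the index of the centraliser of a component -/
theorem Cfg.relIndex_comp (c : Cfg Om S K x) (e : EqFour Om) (ty : ∀ K ∈ Om, IsType K) {H : Subgroup G}
    (hH : H = centralizer {zz (K 0)}) (hc : ∀ J ∈ fam Om H, OO J = ⊥) {L : Subgroup (HQ H)}
    (hL : IsComponent L) : (centralizer (L : Set (HQ H))).relIndex
      (((AA (zz (K 0)) (x 0 * x 1) (x 0 * x 1 * x 2 * x 3)).subgroupOf H).map (qm H)) ≤ 2 := by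
  have hSH : (S : Subgroup G) ≤ H := by rw [hH]; exact c.le_cent e
  have hx := fun i => hSH (c.mem i).2
  have hzH : zz (K 0) ∈ H := hSH (e.hyp.zz_mem_inf S.isPGroup' (c.memS 0)).2
  have htH : x 0 * x 1 ∈ H := mul_mem (hx 0) (hx 1)
  have hsH : x 0 * x 1 * x 2 * x 3 ∈ H := mul_mem (mul_mem htH (hx 2)) (hx 3)
  rw [subgroupOf_AA hzH htH hsH, map_AA]
  have h3 := ((c.e3 e).sub hzH htH hsH).map (qm H)
  have hcov : ∀ i, K i ∈ cov Om H := by
    intro i
    refine mem_cov_of_le (c.memS i).1 ?_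
    have := e.hyp.le_centralizer (c.memS i).1
    rwa [c.zz_eq e i, ← hH] at this
  have hxt : ∀ i, qm H ⟨x i, hx i⟩ ∈ tr H (K i) := by
    intro i
    refine mem_tr ty (hcov i) (c.mem i).1 (a := 2) (Subtype.ext ?_)
    change x i ^ 2 ^ 2 = 1
    have := pow_orderOf_eq_one (x i)
    rwa [c.four i] at this
  have hzC : qm H ⟨zz (K 0), hzH⟩ ∈ centralizer (L : Set (HQ H)) := by
    rw [mem_centralizer_iff]
    intro l _
    obtain ⟨y, rfl⟩ := qm_surjective H l
    rw [← map_mul, ← map_mul]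
    congr 1
    refine Subtype.ext (mem_centralizer_singleton_iff.1 ?_)
    rw [← hH]; exact y.2
  have hcom : ∀ i j, i ≠ j → tr H (K i) ≤ centralizer (tr H (K j) : Set (HQ H)) := fun i j hij =>
    comm_tr e.hyp ty hc (hcov i) (hcov j) S.isPGroup' hSH (c.memS i) (c.memS j) (fun h => hij (c.inj h))
  have hcase : ∃ i, ∀ j, j ≠ i → qm H ⟨x j, hx j⟩ ∈ centralizer (L : Set (HQ H)) := by
    by_cases h4 : ∃ i, L ≤ tr H (K i)
    · obtain ⟨i, hi⟩ := h4
      exact ⟨i, fun j hj => centralizer_le (s := (L : Set (HQ H))) (t := (tr H (K i) : Set (HQ H))) hi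
        (hcom j i hj (hxt j))⟩
    · push Not at h4
      refine ⟨0, fun j _ => ?_⟩
      rcases c.comp_or e ty hH hc hL j with h5 | h5
      · exact absurd h5 (h4 j)
      · exact h5 (hxt j)
  refine h3.relIndex_le hzC ?_
  have ht : qm H ⟨x 0 * x 1, htH⟩ = qm H ⟨x 0, hx 0⟩ * qm H ⟨x 1, hx 1⟩ := by
    rw [← map_mul]; rfl
  have hts : qm H ⟨x 0 * x 1, htH⟩ * qm H ⟨x 0 * x 1 * x 2 * x 3, hsH⟩ =
      qm H ⟨x 2, hx 2⟩ * qm H ⟨x 3, hx 3⟩ := by
    rw [← map_mul, ← map_mul]
    congr 1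
    apply Subtype.ext
    change x 0 * x 1 * (x 0 * x 1 * x 2 * x 3) = x 2 * x 3
    calc x 0 * x 1 * (x 0 * x 1 * x 2 * x 3) = (x 0 * x 1 * (x 0 * x 1)) * (x 2 * x 3) := by group
      _ = x 2 * x 3 := by rw [c.mul_sq e, one_mul]
  obtain ⟨i, hi⟩ := hcase
  by_cases h01 : i = 0 ∨ i = 1
  · right; right
    rw [hts]
    refine mul_mem (hi 2 ?_) (hi 3 ?_)
    · rcases h01 with rfl | rfl <;> decide
    · rcases h01 with rfl | rfl <;> decide
  · left
    rw [ht]
    push Not at h01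
    exact mul_mem (hi 0 (Ne.symm h01.1)) (hi 1 (Ne.symm h01.2))

/-- **THEOREM F at `z`** -/
theorem Cfg.PP_z (c : Cfg Om S K x) (e : EqFour Om) (hodd : CoresG.OddStmt.{u}) (ty : ∀ K ∈ Om, IsType K)
    (hc : ∀ J ∈ fam Om (centralizer {zz (K 0)}), OO J = ⊥) :
    PP (AA (zz (K 0)) (x 0 * x 1) (x 0 * x 1 * x 2 * x 3)) (zz (K 0)) := by
  have h3 := c.e3 e
  have hA : AA (zz (K 0)) (x 0 * x 1) (x 0 * x 1 * x 2 * x 3) ≤ centralizer {zz (K 0)} :=
    (c.AA_le e).trans (c.le_cent e)
  have hev : EvQ (HQ (centralizer ({zz (K 0)} : Set G))) := hodd.evQ _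
  constructor
  · intro a ha _
    refine CoreTools.tor_of_comp (qm_surjective _) (ker_qm _) hev (fun x hx y hy => h3.comm hx hy)
      (fun x hx => h3.sq hx) hA ha ?_
    intro L hL _ _ h4
    exact absurd (c.relIndex_comp e ty rfl hc hL) (by omega)
  · intro B hB h4
    refine CoreTools.two_of_comp (qm_surjective _) (ker_qm _) hev (fun x hx => h3.sq hx) hB ?_ (z_mem _ _ _) hA ?_
    · rintro rfl
      rw [card_bot] at h4; omega
    · intro L hL hall
      exfalso
      obtain ⟨a, ha, b, hb, ha1, hb1, hab⟩ := exists_two_ne h4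
      have hab1 : a * b ≠ 1 := by
        intro h5
        apply hab
        have h6 := h3.sq (hB ha)
        exact (mul_left_cancel (h6.trans h5.symm))
      have h5 := mul_mem_of_relIndex (c.relIndex_comp e ty rfl hc hL)
        (a := qm (centralizer {zz (K 0)}) ⟨a, hA (hB ha)⟩) (b := qm (centralizer {zz (K 0)}) ⟨b, hA (hB hb)⟩)
        ⟨⟨a, hA (hB ha)⟩, hB ha, rfl⟩ ⟨⟨b, hA (hB hb)⟩, hB hb, rfl⟩ (hall a ha ha1).2 (hall b hb hb1).2
      rw [← map_mul] at h5
      exact (hall (a * b) (mul_mem ha hb) hab1).2 h5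

end

end Cfsg.Agent.Cit.EqCfg
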