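import Cfsg.Agent.Cit.EqIn
import Cfsg.Agent.Cit.EqTorZ
import Cfsg.Agent.Cit.EqFourMain
import Cfsg.Agent.Cit.CoresCore
import Cfsg.Agent.Cit.FrameClose

/-!
# All involutions `z_K`, `K ∈ Om(S)`, equal, `|Om(S)| = 4`: the centraliser of `t = x 0 x 1`

In `Y = C(t) / O(C(t))` the family `fam Om C(t)` satisfies `EqTC` with `τ = t̄` (`Cfg.eqTC`): `|Om(S̄)| = 2`, the two
members are the traces of `K 2`, `K 3`, and the involutions `t r r'` (`r ∈ K 2`, `r' ∈ K 3` of order four) are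
involutions of members. All members lie in one quasisimple normal subgroup (`Cfg.px_normal`). Result: `GenStmt Om`
(`genStmt`).
-/

set_option autoImplicit false
set_option linter.style.haveILetI false
set_option linter.unusedSectionVars false

namespace Cfsg.Agent.Cit.EqCfg

open Subgroup Cfsg Cfsg.Agent.Cit Cfsg.Agent.Cit.EqClose Cfsg.Agent.Cit.EqHad SubCent UseT EqCen
open scoped commutatorElement

universe u

section

variable {G : Type*} [Group G] [Finite G] {Om : Set (Subgroup G)} {S : Sylow 2 G} {K : Fin 4 → Subgroup G}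
  {x : Fin 4 → G}

theorem Cfg.cj (c : Cfg Om S K x) (e : EqFour Om) (g : G) :
    Cfg Om (g • S) (fun i => Cit.cj g (K i)) (fun i => g * x i * g⁻¹) where
  inj i j hij := c.inj (cj_inj.1 hij)
  memS i := by
    rw [CloseFus.coe_smul]
    exact cj_mem_OmS e.hyp.conj g (c.memS i)
  mem i := by
    rw [CloseFus.coe_smul, ← cj_inf]
    exact conj_mem_cj (c.mem i)
  four i := by
    rw [← c.four i]
    exact orderOf_injective (MulAut.conj g).toMonoidHom (MulAut.conj g).injective (x i)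

theorem Cfg.xs (c : Cfg Om S K x) : Xs Om (S : Subgroup G) K x :=
  ⟨S.isPGroup', c.inj, c.memS, c.mem, c.four⟩

/-- an element of square one in the odd core is trivial -/
theorem eq_one_of_mem_OO {K : Subgroup G} {w : G} (hw : w ∈ OO K) (h : w * w = 1) : w = 1 := by
  by_contra hne
  have h1 : orderOf w = 2 := orderOf_eq_prime (by rw [pow_two]; exact h) hne
  have h2 := orderOf_dvd_natCard (⟨w, hw⟩ : OO K)
  rw [Subgroup.orderOf_mk, h1] at h2
  exact odd_OO K h2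

theorem Cfg.syl (c : Cfg Om S K x) (i : Fin 4) : Syl (K i ⊓ (S : Subgroup G)) (K i) :=
  syl_inf S.isPGroup' (c.memS i)

theorem Cfg.inf_comm (c : Cfg Om S K x) (e : EqFour Om) {i j k : Fin 4} (hj : i ≠ j) (hk : i ≠ k) {u : G}
    (hu : u ∈ K i ⊓ (S : Subgroup G)) : u * (x j * x k) = x j * x k * u := by
  have a1 : u * x j = x j * u := c.commQ e hj hu (c.mem j)
  have a2 : u * x k = x k * u := c.commQ e hk hu (c.mem k)
  rw [← mul_assoc, a1, mul_assoc, a2, mul_assoc]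

theorem Cfg.mem_cov (c : Cfg Om S K x) (e : EqFour Om) {i : Fin 4} (h0 : i ≠ 0) (h1 : i ≠ 1) :
    K i ∈ cov Om (centralizer {x 0 * x 1}) := by
  have hsq := c.mul_sq e 0 1
  rw [mem_cov_cent e.hyp (a := 1) (by rw [pow_one, pow_two]; exact hsq)]
  refine ⟨(c.memS i).1, fun k hk => ?_⟩
  have hD : ∀ j, x j ∈ DD Om (S : Subgroup G) := fun j => inf_le_DD (c.memS j) (c.mem j)
  have h3 : ⁅K i, zpowers (x 0 * x 1)⁆ ≤ OO (K i) := by
    refine Trivial.commutator_le e.hyp (c.memS i).1 (c.syl i) (CloEnd.isPGroup_zpowers hsq) ?_ ?_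
    · rw [zpowers_le]
      exact e.hyp.DD_le_normalizer S.isPGroup' (c.memS i) (mul_mem (hD 0) (hD 1))
    · intro a ha y hy
      have h4 : zpowers (x 0 * x 1) ≤ centralizer {y} := by
        rw [zpowers_le, mem_centralizer_singleton_iff]
        exact (c.inf_comm e h0 h1 hy).symm
      exact mem_centralizer_singleton_iff.1 (h4 ha)
  have h4 := h3 (commutator_mem_commutator hk (mem_zpowers _))
  rwa [commutatorElement_def] at h4

theorem Cfg.notMem_cov (c : Cfg Om S K x) (e : EqFour Om) {i : Fin 4} (h01 : i = 0 ∨ i = 1) :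
    K i ∉ cov Om (centralizer {x 0 * x 1}) := by
  have hsq := c.mul_sq e 0 1
  rw [mem_cov_cent e.hyp (a := 1) (by rw [pow_one, pow_two]; exact hsq)]
  rintro ⟨-, h1⟩
  obtain ⟨u, hu, hu4, hux⟩ := c.exists_inv e i
  have h2 := h1 u hu.1
  have h3 : u * (x 0 * x 1) * u⁻¹ * (x 0 * x 1)⁻¹ = zz (K 0) := by
    rcases h01 with rfl | rfl
    · have hc : u * x 1 = x 1 * u := c.commQ e (by decide) hu (c.mem 1)
      calc u * (x 0 * x 1) * u⁻¹ * (x 0 * x 1)⁻¹ = (u * x 0 * u⁻¹) * ((u * x 1) * u⁻¹) * (x 0 * x 1)⁻¹ := by group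
        _ = (x 0)⁻¹ * (x 0)⁻¹ := by rw [hux, hc]; group
        _ = (x 0 * x 0)⁻¹ := by group
        _ = zz (K 0) := by rw [c.sq e 0, e.hyp.zz_inv (c.memS 0).1]
    · have hc : u * x 0 = x 0 * u := c.commQ e (by decide) hu (c.mem 0)
      calc u * (x 0 * x 1) * u⁻¹ * (x 0 * x 1)⁻¹ = ((u * x 0) * u⁻¹) * (u * x 1 * u⁻¹) * (x 0 * x 1)⁻¹ := by group
        _ = x 0 * ((x 1)⁻¹ * (x 1)⁻¹) * (x 0)⁻¹ := by rw [hux, hc]; group
        _ = x 0 * (x 1 * x 1)⁻¹ * (x 0)⁻¹ := by group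
        _ = zz (K 0) := by
          rw [c.sq e 1, e.hyp.zz_inv (c.memS 0).1, c.z_comm e (c.mem 0).2, mul_inv_cancel_right]
  rw [h3] at h2
  exact c.zz_ne e (eq_one_of_mem_OO h2 (c.zz_mul e))

/-- the members of `Om(R)` covered by `C(t)` -/
theorem Cfg.OmS_cov (c : Cfg Om S K x) (e : EqFour Om) {R : Subgroup G} (hR : IsPGroup 2 R)
    (h2 : K 2 ⊓ (S : Subgroup G) ≤ R) (h3 : K 3 ⊓ (S : Subgroup G) ≤ R) :
    OmS Om R ∩ cov Om (centralizer {x 0 * x 1}) = {K 2, K 3} := by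
  have hm2 : K 2 ∈ OmS Om R := mem_OmS_of_le (c.memS 2).1 (c.syl 2) h2
  have hm3 : K 3 ∈ OmS Om R := mem_OmS_of_le (c.memS 3).1 (c.syl 3) h3
  ext L
  constructor
  · rintro ⟨hL, hcov⟩
    have h4 : zz L = zz (K 0) := by rw [e.eq_zz hR hL hm2, c.zz_eq e 2]
    obtain ⟨i, rfl⟩ := c.all e hL.1 h4
    have hi : ¬ (i = 0 ∨ i = 1) := fun h => c.notMem_cov e h hcov
    fin_cases i
    · exact absurd (Or.inl rfl) hi
    · exact absurd (Or.inr rfl) hi
    · exact Or.inl rfl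
    · exact Or.inr rfl
  · rintro (rfl | h5)
    · exact ⟨hm2, c.mem_cov e (by decide) (by decide)⟩
    · rw [Set.mem_singleton_iff] at h5
      rw [h5]
      exact ⟨hm3, c.mem_cov e (by decide) (by decide)⟩

theorem Cfg.inf_le_H (c : Cfg Om S K x) (e : EqFour Om) {i : Fin 4} (h0 : i ≠ 0) (h1 : i ≠ 1) :
    K i ⊓ (S : Subgroup G) ≤ centralizer {x 0 * x 1} := by
  intro u hu
  rw [mem_centralizer_singleton_iff]
  exact c.inf_comm e h0 h1 hu

end

section

variable {G : Type u} [Group G] [Finite G] {Om : Set (Subgroup G)} {S : Sylow 2 G} {K : Fin 4 → Subgroup G}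
  {x : Fin 4 → G} {H : Subgroup G}

/-- every Sylow 2-subgroup of `H / O(H)` is the image of a Sylow 2-subgroup of `H` -/
theorem exists_syl_map (H : Subgroup G) (P : Sylow 2 (HQ H)) :
    ∃ R : Subgroup G, Syl R H ∧ (P : Subgroup (HQ H)) = (R.subgroupOf H).map (qm H) := by
  haveI : Fact (Nat.Prime 2) := ⟨Nat.prime_two⟩
  obtain ⟨T, hT, hTP⟩ := exists_lift (qm_surjective H) P.isPGroup'
  obtain ⟨T', hTT'⟩ := hT.exists_le_sylow
  refine ⟨(T' : Subgroup H).map H.subtype, ⟨map_subtype_le _, T'.isPGroup'.map _, ?_⟩, ?_⟩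
  · have h1 : ((T' : Subgroup H).map H.subtype).relIndex H = (T' : Subgroup H).index := by
      have h2 : (((T' : Subgroup H).map H.subtype).subgroupOf H) = (T' : Subgroup H) := by
        ext y
        rw [mem_subgroupOf]
        constructor
        · rintro ⟨w, hw, hwy⟩
          rwa [← Subtype.ext hwy]
        · intro hy; exact ⟨y, hy, rfl⟩
      rw [relIndex, h2]
    rw [h1]
    exact T'.not_dvd_index
  · have h2 : (((T' : Subgroup H).map H.subtype).subgroupOf H) = (T' : Subgroup H) := by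
      ext y
      rw [mem_subgroupOf]
      constructor
      · rintro ⟨w, hw, hwy⟩
        rwa [← Subtype.ext hwy]
      · intro hy; exact ⟨y, hy, rfl⟩
    rw [h2]
    have h3 : (P : Subgroup (HQ H)) ≤ (T' : Subgroup H).map (qm H) := by
      rw [← hTP]; exact Subgroup.map_mono hTT'
    exact (P.is_maximal' (T'.isPGroup'.map _) h3).symm

/-- a Sylow 2-subgroup of `C(t) / O(C(t))` comes from a configuration -/
theorem Cfg.exists_loc (c : Cfg Om S K x) (e : EqFour Om) (hH : H = centralizer {x 0 * x 1}) (P : Sylow 2 (HQ H)) :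
    ∃ (S' : Sylow 2 G) (K' : Fin 4 → Subgroup G) (x' : Fin 4 → G) (R : Subgroup G), Cfg Om S' K' x' ∧
      x' 0 * x' 1 = x 0 * x 1 ∧ Syl R H ∧ K' 2 ⊓ (S' : Subgroup G) ≤ R ∧ K' 3 ⊓ (S' : Subgroup G) ≤ R ∧
      (P : Subgroup (HQ H)) = (R.subgroupOf H).map (qm H) := by
  haveI : Fact (Nat.Prime 2) := ⟨Nat.prime_two⟩
  obtain ⟨R, hR, hP⟩ := exists_syl_map H P
  have hSH : IsPGroup 2 ((S : Subgroup G) ⊓ H : Subgroup G) := S.isPGroup'.to_le inf_le_left
  obtain ⟨R₀, hR₀, hle⟩ := Cit.exists_syl_ge hSH (C := H) inf_le_right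
  obtain ⟨g, hg, hgR⟩ := hR₀.exists_conj hR
  have h2 : K 2 ⊓ (S : Subgroup G) ≤ R₀ := by
    refine le_trans (le_inf inf_le_right ?_) hle
    rw [hH]; exact c.inf_le_H e (by decide) (by decide)
  have h3 : K 3 ⊓ (S : Subgroup G) ≤ R₀ := by
    refine le_trans (le_inf inf_le_right ?_) hle
    rw [hH]; exact c.inf_le_H e (by decide) (by decide)
  have hgt : g * (x 0 * x 1) = x 0 * x 1 * g := by
    rw [hH, mem_centralizer_singleton_iff] at hg; exact hg
  refine ⟨g • S, _, _, R, c.cj e g, ?_, hR, ?_, ?_, hP⟩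
  · calc g * x 0 * g⁻¹ * (g * x 1 * g⁻¹) = g * (x 0 * x 1) * g⁻¹ := by group
      _ = x 0 * x 1 := by rw [hgt, mul_inv_cancel_right]
  · rw [CloseFus.coe_smul, ← cj_inf, ← hgR]
    exact cj_mono g h2
  · rw [CloseFus.coe_smul, ← cj_inf, ← hgR]
    exact cj_mono g h3

/-- a configuration with a 2-subgroup `R` of `H = C(t)` containing `K 2 ⊓ S` and `K 3 ⊓ S` -/
structure Loc (Om : Set (Subgroup G)) (S : Sylow 2 G) (K : Fin 4 → Subgroup G) (x : Fin 4 → G)
    (H R : Subgroup G) : Prop where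
  cfg : Cfg Om S K x
  eq : H = centralizer {x 0 * x 1}
  two : IsPGroup 2 R
  le : R ≤ H
  q2 : K 2 ⊓ (S : Subgroup G) ≤ R
  q3 : K 3 ⊓ (S : Subgroup G) ≤ R

namespace Loc

variable {R : Subgroup G}

/-- the image of `R` -/
def bar (H R : Subgroup G) : Subgroup (HQ H) := (R.subgroupOf H).map (qm H)

theorem mem_cov (l : Loc Om S K x H R) (e : EqFour Om) {i : Fin 4} (h0 : i ≠ 0) (h1 : i ≠ 1) : K i ∈ cov Om H := by
  rw [l.eq]; exact l.cfg.mem_cov e h0 h1

theorem inf_le (l : Loc Om S K x H R) {i : Fin 4} (h0 : i ≠ 0) (h1 : i ≠ 1) : K i ⊓ (S : Subgroup G) ≤ R := by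
  fin_cases i
  · exact absurd rfl h0
  · exact absurd rfl h1
  · exact l.q2
  · exact l.q3

theorem mem_OmS (l : Loc Om S K x H R) {i : Fin 4} (h0 : i ≠ 0) (h1 : i ≠ 1) : K i ∈ OmS Om R :=
  mem_OmS_of_le (l.cfg.memS i).1 (l.cfg.syl i) (l.inf_le h0 h1)

theorem OmS_eq (l : Loc Om S K x H R) (e : EqFour Om) (ty : ∀ K ∈ Om, IsType K) :
    OmS (fam Om H) (bar H R) = {tr H (K 2), tr H (K 3)} := by
  have h1 := l.cfg.OmS_cov e l.two l.q2 l.q3
  rw [← l.eq] at h1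
  rw [bar, UseT.OmS_fam e.hyp ty l.two l.le, h1, Set.image_pair]

theorem z_mem (l : Loc Om S K x H R) (e : EqFour Om) : zz (K 0) ∈ H := by
  rw [l.eq, mem_centralizer_singleton_iff]
  exact (l.cfg.e3 e).zt

theorem t_mem (l : Loc Om S K x H R) : x 0 * x 1 ∈ H := by
  rw [l.eq, mem_centralizer_singleton_iff]

theorem comm_t (l : Loc Om S K x H R) {y : G} (hy : y ∈ H) : y * (x 0 * x 1) = x 0 * x 1 * y := by
  rw [l.eq, mem_centralizer_singleton_iff] at hy
  exact hy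

theorem x_mem (l : Loc Om S K x H R) {i : Fin 4} (h0 : i ≠ 0) (h1 : i ≠ 1) {r : G}
    (hr : r ∈ K i ⊓ (S : Subgroup G)) : r ∈ H := l.le (l.inf_le h0 h1 hr)

theorem zz_eq (l : Loc Om S K x H R) (e : EqFour Om) (ty : ∀ K ∈ Om, IsType K) {i : Fin 4} (h0 : i ≠ 0)
    (h1 : i ≠ 1) : zz (tr H (K i)) = qm H ⟨zz (K 0), l.z_mem e⟩ := by
  rw [zz_tr e.hyp ty (l.mem_cov e h0 h1)]
  congr 1
  exact Subtype.ext (l.cfg.zz_eq e i)

theorem ne (l : Loc Om S K x H R) (e : EqFour Om) (ty : ∀ K ∈ Om, IsType K) : tr H (K 2) ≠ tr H (K 3) :=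
  tr_ne e.hyp ty (l.mem_cov e (by decide) (by decide)) (l.mem_cov e (by decide) (by decide)) l.two l.le
    (l.mem_OmS (by decide) (by decide)) (l.mem_OmS (by decide) (by decide))
    (fun h => absurd (l.cfg.inj h) (by decide))

/-- the Sylow 2-subgroup of the trace -/
theorem inf_bar (l : Loc Om S K x H R) (e : EqFour Om) (ty : ∀ K ∈ Om, IsType K) {i : Fin 4} (h0 : i ≠ 0)
    (h1 : i ≠ 1) : tr H (K i) ⊓ bar H R = bar H (K i ⊓ (S : Subgroup G)) := by
  have h2 := syl_tr ty (l.mem_cov e h0 h1) (l.cfg.syl i) ((l.inf_le h0 h1).trans l.le)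
  have h3 : IsPGroup 2 (tr H (K i) ⊓ bar H R : Subgroup (HQ H)) := by
    have h4 : IsPGroup 2 (bar H R) := (l.two.comap_subtype).map _
    exact h4.to_le inf_le_right
  refine (LB.syl_eq_of_le h2 h3 inf_le_left (le_inf h2.1 ?_)).symm
  refine Subgroup.map_mono ?_
  intro y hy
  exact l.inf_le h0 h1 hy

theorem exists_lift (l : Loc Om S K x H R) (e : EqFour Om) (ty : ∀ K ∈ Om, IsType K) {i : Fin 4} (h0 : i ≠ 0)
    (h1 : i ≠ 1) {y : HQ H} (hy : y ∈ tr H (K i) ⊓ bar H R) (hy4 : orderOf y = 4) :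
    ∃ r ∈ K i ⊓ (S : Subgroup G), ∃ hr : r ∈ H, orderOf r = 4 ∧ qm H ⟨r, hr⟩ = y := by
  rw [l.inf_bar e ty h0 h1] at hy
  obtain ⟨⟨r, hrH⟩, hr, rfl⟩ := hy
  refine ⟨r, hr, hrH, ?_, rfl⟩
  have h2 : IsPGroup 2 ((K i ⊓ (S : Subgroup G)).subgroupOf H) := (l.cfg.syl i).2.1.comap_subtype
  have h3 := injOn_two (f := qm H) (not_dvd_ker H) h2
  have h4 := orderOf_injective _ h3 ⟨⟨r, hrH⟩, hr⟩
  rw [← hy4]
  have h5 : orderOf (⟨⟨r, hrH⟩, hr⟩ : (K i ⊓ (S : Subgroup G)).subgroupOf H) = orderOf r := by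
    rw [Subgroup.orderOf_mk, Subgroup.orderOf_mk]
  rw [← h5, ← h4]
  rfl

/-- the members over `t r r'` -/
theorem exists_member (l : Loc Om S K x H R) (e : EqFour Om) {r r' : G}
    (hr : r ∈ K 2 ⊓ (S : Subgroup G)) (hr4 : orderOf r = 4) (hr' : r' ∈ K 3 ⊓ (S : Subgroup G))
    (hr'4 : orderOf r' = 4) : ∃ n : H, cj (n : G) (K 2) ∈ cov Om H ∧ cj (n : G) (K 3) ∈ cov Om H ∧
      (n : G) * zz (K 0) * (n : G)⁻¹ = x 0 * x 1 * r * r' := by
  obtain ⟨y, hy⟩ : ∃ y : Fin 4 → G, y = ![x 0, x 1, r, r'] := ⟨_, rfl⟩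
  have c' : Cfg Om S K y := by
    refine l.cfg.replace (fun i => ?_) (fun i => ?_)
    · subst hy
      fin_cases i
      · exact l.cfg.mem 0
      · exact l.cfg.mem 1
      · exact hr
      · exact hr'
    · subst hy
      fin_cases i
      · exact l.cfg.four 0
      · exact l.cfg.four 1
      · exact hr4
      · exact hr'4
  obtain ⟨n, n', h1, -, h3, -⟩ := EqHad.exists_swap e S c'.xs rfl (i := 0) (j := 1) (by decide)
  have hn : n ∈ H := by
    rw [l.eq, mem_centralizer_singleton_iff]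
    subst hy
    exact h1
  refine ⟨⟨n, hn⟩, cj_mem_cov' e.hyp (l.mem_cov e (by decide) (by decide)) hn,
    cj_mem_cov' e.hyp (l.mem_cov e (by decide) (by decide)) hn, ?_⟩
  change n * zz (K 0) * n⁻¹ = x 0 * x 1 * r * r'
  rw [h3, hy]
  rfl

end Loc

/-- every Sylow 2-subgroup of `C(t) / O(C(t))` comes from a `Loc` with the same `t` -/
theorem Loc.exists_loc {R : Subgroup G} (l : Loc Om S K x H R) (e : EqFour Om) (P : Sylow 2 (HQ H)) :
    ∃ (S' : Sylow 2 G) (K' : Fin 4 → Subgroup G) (x' : Fin 4 → G) (R' : Subgroup G), Loc Om S' K' x' H R' ∧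
      x' 0 * x' 1 = x 0 * x 1 ∧ (P : Subgroup (HQ H)) = Loc.bar H R' := by
  obtain ⟨S', K', x', R', c', h1, h2, h3, h4, h5⟩ := l.cfg.exists_loc e l.eq P
  exact ⟨S', K', x', R', ⟨c', by rw [h1]; exact l.eq, h2.2.1, h2.1, h3, h4⟩, h1, h5⟩

/-- **the family of `C(t) / O(C(t))`** -/
theorem Loc.eqTC {R : Subgroup G} (l : Loc Om S K x H R) (e : EqFour Om) (ty : ∀ K ∈ Om, IsType K) :
    EqTC (fam Om H) (qm H ⟨x 0 * x 1, l.t_mem⟩) := by
  haveI : Fact (Nat.Prime 2) := ⟨Nat.prime_two⟩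
  have hcard : ∀ P : Sylow 2 (HQ H), (OmS (fam Om H) (P : Subgroup (HQ H))).ncard = 2 := by
    intro P
    obtain ⟨S', K', x', R', l', -, hP⟩ := l.exists_loc e P
    rw [hP, l'.OmS_eq e ty, Set.ncard_pair (l'.ne e ty)]
  refine { hyp := hyp_fam e.hyp ty H, ne := ?_, ty := ?_, eqz := ?_, two := ?_, cen := ?_, card := hcard, tt := ?_ }
  · exact ⟨_, tr_mem (l.mem_cov e (i := 2) (by decide) (by decide))⟩
  · exact fun J hJ => (isType_fam ty H J hJ).tyTwo
  · intro P A hA B hB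
    obtain ⟨S', K', x', R', l', -, hP⟩ := l.exists_loc e P
    rw [hP, l'.OmS_eq e ty] at hA hB
    have h1 : ∀ J ∈ ({tr H (K' 2), tr H (K' 3)} : Set (Subgroup (HQ H))), zz J = qm H ⟨zz (K' 0), l'.z_mem e⟩ := by
      rintro J (rfl | h2)
      · exact l'.zz_eq e ty (by decide) (by decide)
      · rw [Set.mem_singleton_iff.1 h2]; exact l'.zz_eq e ty (by decide) (by decide)
    rw [h1 A hA, h1 B hB]
  · intro P A hA
    by_contra hcon
    push Not at hcon
    have h1 : OmS (fam Om H) (P : Subgroup (HQ H)) ⊆ {A} := fun L hL => hcon L hL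
    have h2 := Set.ncard_le_ncard h1 (Set.toFinite _)
    rw [hcard P, Set.ncard_singleton] at h2
    omega
  · intro g
    obtain ⟨y, rfl⟩ := qm_surjective H g
    rw [← map_mul, ← map_mul]
    congr 1
    apply Subtype.ext
    exact l.comm_t y.2
  · intro P A hA B hB hAB a ha b hb ha4 hb4
    obtain ⟨S', K', x', R', l', hx', hP⟩ := l.exists_loc e P
    rw [hP, l'.OmS_eq e ty] at hA hB
    rw [hP] at ha hb
    have key : ∀ a ∈ tr H (K' 2) ⊓ Loc.bar H R', ∀ b ∈ tr H (K' 3) ⊓ Loc.bar H R', orderOf a = 4 → orderOf b = 4 →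
        ∃ J ∈ fam Om H, zz J = qm H ⟨x 0 * x 1, l.t_mem⟩ * (a * b) := by
      intro a ha b hb ha4 hb4
      obtain ⟨r, hr, hrH, hr4, rfl⟩ := l'.exists_lift e ty (by decide) (by decide) ha ha4
      obtain ⟨r', hr', hr'H, hr'4, rfl⟩ := l'.exists_lift e ty (by decide) (by decide) hb hb4
      obtain ⟨n, hn, -, hnz⟩ := l'.exists_member e hr hr4 hr' hr'4
      refine ⟨_, tr_mem hn, ?_⟩
      rw [zz_tr e.hyp ty hn, ← map_mul, ← map_mul]
      congr 1
      apply Subtype.ext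
      change zz (Cit.cj (n : G) (K' 2)) = x 0 * x 1 * (r * r')
      rw [e.hyp.zz_cj (l'.cfg.memS 2).1, l'.cfg.zz_eq e 2, hnz, hx', mul_assoc]
    rcases hA with rfl | hA <;> rcases hB with rfl | hB
    · exact absurd rfl hAB
    · rw [Set.mem_singleton_iff] at hB
      subst hB
      exact key a ha b hb ha4 hb4
    · rw [Set.mem_singleton_iff] at hA
      subst hA
      obtain ⟨J, hJ, hJz⟩ := key b hb a ha hb4 ha4
      refine ⟨J, hJ, ?_⟩
      have h1 : IsPGroup 2 (Loc.bar H R') := (l'.two.comap_subtype).map _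
      have hA : tr H (K' 3) ∈ OmS (fam Om H) (Loc.bar H R') := by rw [l'.OmS_eq e ty]; exact Or.inr rfl
      have hB : tr H (K' 2) ∈ OmS (fam Om H) (Loc.bar H R') := by rw [l'.OmS_eq e ty]; exact Or.inl rfl
      rw [hJz, (hyp_fam e.hyp ty H).comm h1 hA hB hAB ha hb]
    · rw [Set.mem_singleton_iff] at hA hB
      exact absurd (hA.trans hB.symm) hAB

/-! ### The component -/

open Loc (bar)

/-- `K 2`, `K 3` do not commute with a member over `t x₂ x₃` -/
theorem Loc.not_comm {R : Subgroup G} (l : Loc Om S K x H R) (e : EqFour Om) (ty : ∀ K ∈ Om, IsType K) {J : Subgroup G}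
    (hJ : J ∈ cov Om H) (hJz : zz J = x 0 * x 1 * x 2 * x 3) {i : Fin 4} (h0 : i ≠ 0) (h1 : i ≠ 1) :
    ¬ tr H (K i) ≤ centralizer (tr H J : Set (HQ H)) := by
  intro h2
  obtain ⟨u, hu, hu4, hux⟩ := l.cfg.exists_inv e i
  have huH : u ∈ H := l.x_mem h0 h1 hu
  have h3 : qm H ⟨u, huH⟩ ∈ tr H (K i) := by
    refine mem_tr ty (l.mem_cov e h0 h1) hu.1 (a := 2) (Subtype.ext ?_)
    change u ^ 2 ^ 2 = 1
    have := pow_orderOf_eq_one u
    rwa [hu4] at this
  have h4 := mem_centralizer_iff.1 (h2 h3) _ ((hyp_fam e.hyp ty H).zz_mem (tr_mem hJ))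
  rw [zz_tr e.hyp ty hJ, ← map_mul, ← map_mul] at h4
  -- `u` inverts `x i`
  have h5 : u * (x 0 * x 1 * x 2 * x 3) * u⁻¹ = x 0 * x 1 * x 2 * x 3 * zz (K 0) := by
    have hc : ∀ j, j ≠ i → u * x j = x j * u := fun j hj => l.cfg.commQ e (Ne.symm hj) hu (l.cfg.mem j)
    have hz := fun j => l.cfg.z_comm e (l.cfg.mem j).2
    have hi := l.cfg.inv_eq e i
    have hi23 : i = 2 ∨ i = 3 := by
      fin_cases i
      · exact absurd rfl h0
      · exact absurd rfl h1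
      · exact Or.inl rfl
      · exact Or.inr rfl
    rcases hi23 with rfl | rfl
    · have a0 := hc 0 (by decide)
      have a1 := hc 1 (by decide)
      have a3 := hc 3 (by decide)
      calc u * (x 0 * x 1 * x 2 * x 3) * u⁻¹ = ((u * x 0) * u⁻¹) * ((u * x 1) * u⁻¹) * (u * x 2 * u⁻¹) *
            ((u * x 3) * u⁻¹) := by group
        _ = x 0 * x 1 * (x 2)⁻¹ * x 3 := by rw [a0, a1, hux, a3]; group
        _ = x 0 * x 1 * (zz (K 0) * x 2) * x 3 := by rw [hi]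
        _ = x 0 * x 1 * (x 2 * (zz (K 0) * x 3)) := by rw [← hz 2]; group
        _ = x 0 * x 1 * x 2 * x 3 * zz (K 0) := by rw [← hz 3]; group
    · have a0 := hc 0 (by decide)
      have a1 := hc 1 (by decide)
      have a2 := hc 2 (by decide)
      calc u * (x 0 * x 1 * x 2 * x 3) * u⁻¹ = ((u * x 0) * u⁻¹) * ((u * x 1) * u⁻¹) * ((u * x 2) * u⁻¹) *
            (u * x 3 * u⁻¹) := by group
        _ = x 0 * x 1 * x 2 * (x 3)⁻¹ := by rw [a0, a1, hux, a2]; group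
        _ = x 0 * x 1 * x 2 * (zz (K 0) * x 3) := by rw [hi]
        _ = x 0 * x 1 * x 2 * x 3 * zz (K 0) := by rw [← hz 3]; group
  have h6 : qm H ⟨zz (K 0), l.z_mem e⟩ = 1 := by
    have h7 : (⟨u, huH⟩ : H) * ⟨zz J, zz_mem_of_cov e.hyp hJ⟩ * (⟨u, huH⟩ : H)⁻¹ =
        ⟨zz J, zz_mem_of_cov e.hyp hJ⟩ * ⟨zz (K 0), l.z_mem e⟩ := by
      apply Subtype.ext
      change u * zz J * u⁻¹ = zz J * zz (K 0)
      rw [hJz]; exact h5
    have h8 : qm H ⟨zz J, zz_mem_of_cov e.hyp hJ⟩ =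
        qm H ⟨zz J, zz_mem_of_cov e.hyp hJ⟩ * qm H ⟨zz (K 0), l.z_mem e⟩ := by
      rw [← map_mul, ← h7, map_mul, ← h4, map_inv, map_mul, mul_inv_cancel_right]
    exact (mul_eq_left.1 h8.symm)
  rw [← l.zz_eq e ty (i := 2) (by decide) (by decide)] at h6
  exact (hyp_fam e.hyp ty H).zz_ne (tr_mem (l.mem_cov e (i := 2) (by decide) (by decide))) h6

theorem Loc.px_eq {R : Subgroup G} (l : Loc Om S K x H R) (e : EqFour Om) (ty : ∀ K ∈ Om, IsType K) :
    px Om H (K 3) = px Om H (K 2) := by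
  obtain ⟨n, hn, -, hnz⟩ := l.exists_member e (l.cfg.mem 2) (l.cfg.four 2) (l.cfg.mem 3) (l.cfg.four 3)
  have hz : zz (Cit.cj (n : G) (K 2)) = x 0 * x 1 * x 2 * x 3 := by
    rw [e.hyp.zz_cj (l.cfg.memS 2).1, l.cfg.zz_eq e 2, hnz]
  rw [px_eq_of_not_comm (l.mem_cov e (by decide) (by decide)) hn (l.not_comm e ty hn hz (i := 3) (by decide) (by decide)),
    px_eq_of_not_comm (l.mem_cov e (by decide) (by decide)) hn (l.not_comm e ty hn hz (i := 2) (by decide) (by decide))]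

/-- the piece is quasisimple and not a member -/
theorem Loc.quasi {R : Subgroup G} (l : Loc Om S K x H R) (e : EqFour Om) (ty : ∀ K ∈ Om, IsType K)
    (hp : HasPieces (fam Om H)) : px Om H (K 2) ∉ fam Om H ∧ IsQuasisimple (px Om H (K 2)) ∧
      IsPGroup 2 (center (px Om H (K 2))) := by
  rcases px_eq_or e.hyp ty hp (l.mem_cov e (i := 2) (by decide) (by decide)) with h1 | h1
  · exfalso
    have h2 : tr H (K 3) ≤ tr H (K 2) := by
      rw [← h1, ← l.px_eq e ty]; exact tr_le_px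
    have h3 := comm_tr e.hyp ty hp.core (l.mem_cov e (i := 3) (by decide) (by decide))
      (l.mem_cov e (i := 2) (by decide) (by decide)) l.two l.le
      (l.mem_OmS (by decide) (by decide)) (l.mem_OmS (by decide) (by decide))
      (fun h => absurd (l.cfg.inj h) (by decide))
    refine tr_not_comm_self e.hyp ty (l.mem_cov e (i := 3) (by decide) (by decide)) ?_
    exact h3.trans (centralizer_le h2)
  · exact h1

/-- all members are in this piece -/
theorem Loc.px_all {R : Subgroup G} (l : Loc Om S K x H R) (e : EqFour Om) (ty : ∀ K ∈ Om, IsType K)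
    {J : Subgroup G} (hJ : J ∈ cov Om H) : px Om H J = px Om H (K 2) := by
  haveI : Fact (Nat.Prime 2) := ⟨Nat.prime_two⟩
  by_contra hne
  have hF := hyp_fam e.hyp ty H
  have hJF := tr_mem hJ
  have h2 : tr H J ≤ centralizer (px Om H (K 2) : Set (HQ H)) := by
    rcases px_eq_or_comm hJ (l.mem_cov e (i := 2) (by decide) (by decide)) with h3 | h3
    · exact absurd h3 hne
    · exact h3
  have hle : bar H (K 2 ⊓ (S : Subgroup G)) ⊔ bar H (K 3 ⊓ (S : Subgroup G)) ≤ px Om H (K 2) := by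
    refine sup_le ?_ ?_
    · rw [← l.inf_bar e ty (by decide) (by decide)]
      exact inf_le_left.trans tr_le_px
    · rw [← l.inf_bar e ty (by decide) (by decide), ← l.px_eq e ty]
      exact inf_le_left.trans tr_le_px
  obtain ⟨Q, hQ⟩ := Hyp.exists_syl (tr H J)
  have h3 : IsPGroup 2 (bar H (K 2 ⊓ (S : Subgroup G)) ⊔ bar H (K 3 ⊓ (S : Subgroup G)) : Subgroup (HQ H)) := by
    have h4 : IsPGroup 2 (bar H R) := (l.two.comap_subtype).map _
    refine h4.to_le (sup_le ?_ ?_)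
    · rw [← l.inf_bar e ty (by decide) (by decide)]; exact inf_le_right
    · rw [← l.inf_bar e ty (by decide) (by decide)]; exact inf_le_right
  have h4 : IsPGroup 2 (bar H (K 2 ⊓ (S : Subgroup G)) ⊔ bar H (K 3 ⊓ (S : Subgroup G)) ⊔ Q : Subgroup (HQ H)) := by
    refine FrameClose.isPGroup_sup h3 hQ.2.1 fun a ha b hb => ?_
    exact mem_centralizer_iff.1 (h2 (hQ.1 hb)) a (hle ha)
  obtain ⟨P, hP⟩ := h4.exists_le_sylow
  have hs : ∀ i : Fin 4, i ≠ 0 → i ≠ 1 → Syl (bar H (K i ⊓ (S : Subgroup G))) (tr H (K i)) := fun i h0 h1 =>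
    syl_tr ty (l.mem_cov e h0 h1) (l.cfg.syl i) ((l.inf_le h0 h1).trans l.le)
  have m2 : tr H (K 2) ∈ OmS (fam Om H) (P : Subgroup (HQ H)) :=
    mem_OmS_of_le (tr_mem (l.mem_cov e (by decide) (by decide))) (hs 2 (by decide) (by decide))
      ((le_sup_left.trans le_sup_left).trans hP)
  have m3 : tr H (K 3) ∈ OmS (fam Om H) (P : Subgroup (HQ H)) :=
    mem_OmS_of_le (tr_mem (l.mem_cov e (by decide) (by decide))) (hs 3 (by decide) (by decide))
      ((le_sup_right.trans le_sup_left).trans hP)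
  have mJ : tr H J ∈ OmS (fam Om H) (P : Subgroup (HQ H)) := mem_OmS_of_le hJF hQ (le_sup_right.trans hP)
  have hne2 : tr H J ≠ tr H (K 2) := by
    intro h5
    apply hne
    rw [px, px, h5]
  have hne3 : tr H J ≠ tr H (K 3) := by
    intro h5
    apply hne
    rw [← l.px_eq e ty, px, px, h5]
  have h5 : ({tr H J, tr H (K 2), tr H (K 3)} : Set (Subgroup (HQ H))) ⊆ OmS (fam Om H) (P : Subgroup (HQ H)) := by
    rintro A (rfl | rfl | h6)
    · exact mJ
    · exact m2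
    · rw [Set.mem_singleton_iff.1 h6]; exact m3
  have h6 := Set.ncard_le_ncard h5 (Set.toFinite _)
  rw [(l.eqTC e ty).card P, Set.ncard_insert_of_notMem _ (Set.toFinite _), Set.ncard_pair (l.ne e ty)] at h6
  · omega
  · rintro (h7 | h7)
    · exact hne2 h7
    · exact hne3 (Set.mem_singleton_iff.1 h7)

theorem Loc.px_normal {R : Subgroup G} (l : Loc Om S K x H R) (e : EqFour Om) (ty : ∀ K ∈ Om, IsType K) :
    (px Om H (K 2)).Normal :=
  UseT.px_normal e.hyp ty (l.mem_cov e (by decide) (by decide)) fun _ hJ => l.px_all e ty hJ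

theorem Loc.fam_le {R : Subgroup G} (l : Loc Om S K x H R) (e : EqFour Om) (ty : ∀ K ∈ Om, IsType K) :
    ∀ J ∈ fam Om H, J ≤ px Om H (K 2) := by
  intro J hJ
  obtain ⟨J', hJ', rfl⟩ := exists_tr hJ
  rw [← l.px_all e ty hJ']
  exact tr_le_px

/-- **generation for `C(t) / O(C(t))`** -/
theorem Loc.eq_top {R : Subgroup G} (l : Loc Om S K x H R) (e : EqFour Om) (ty : ∀ K ∈ Om, IsType K)
    (hp : HasPieces (fam Om H)) (hB : BendStmt.{u}) (hC : CritStmt.{u}) {M : Subgroup (HQ H)}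
    (hz : centralizer {qm H ⟨zz (K 0), l.z_mem e⟩} ≤ M)
    (hs : ∀ r, ∀ hr : r ∈ K 2 ⊓ (S : Subgroup G), orderOf r = 4 → ∀ r', ∀ hr' : r' ∈ K 3 ⊓ (S : Subgroup G),
      orderOf r' = 4 → centralizer {qm H ⟨x 0 * x 1, l.t_mem⟩ * (qm H ⟨r, l.x_mem (by decide) (by decide) hr⟩ *
        qm H ⟨r', l.x_mem (by decide) (by decide) hr'⟩)} ≤ M) : M = ⊤ := by
  haveI : Fact (Nat.Prime 2) := ⟨Nat.prime_two⟩
  have eT := l.eqTC e ty
  have hF := hyp_fam e.hyp ty H
  haveI := l.px_normal e ty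
  obtain ⟨hDO, hD, hpc⟩ := l.quasi e ty hp
  -- a Sylow 2-subgroup with a `Loc`
  obtain ⟨R₀, hR₀, hle⟩ := Cit.exists_syl_ge l.two l.le
  have l₀ : Loc Om S K x H R₀ := ⟨l.cfg, l.eq, hR₀.2.1, hR₀.1, l.q2.trans hle, l.q3.trans hle⟩
  have hR₀s : ∃ P : Sylow 2 (HQ H), (P : Subgroup (HQ H)) = bar H R₀ := by
    have h1 : IsPGroup 2 (R₀.subgroupOf H) := hR₀.2.1.comap_subtype
    have h2 : ¬ 2 ∣ (R₀.subgroupOf H).index := hR₀.2.2
    refine ⟨(h1.toSylow h2).mapSurjective (qm_surjective H), ?_⟩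
    rw [Sylow.coe_mapSurjective]
    rfl
  obtain ⟨P, hP⟩ := hR₀s
  have hO := l₀.OmS_eq e ty
  have hPM : (P : Subgroup (HQ H)) ≤ M := by
    refine le_trans ?_ hz
    intro y hy
    rw [mem_centralizer_singleton_iff, ← l.zz_eq e ty (i := 2) (by decide) (by decide)]
    exact eT.toEqZ.comm_zz P.isPGroup' (by rw [hP, hO]; exact Or.inl rfl) hy
  have hzM : ∀ J ∈ OmS (fam Om H) (P : Subgroup (HQ H)), centralizer {zz J} ≤ M := by
    intro J hJ
    rw [eT.toEqZ.eq_zz P.isPGroup' hJ (L := tr H (K 2)) (by rw [hP, hO]; exact Or.inl rfl),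
      l.zz_eq e ty (by decide) (by decide)]
    exact hz
  have key : ∀ a ∈ tr H (K 2) ⊓ bar H R₀, ∀ b ∈ tr H (K 3) ⊓ bar H R₀, orderOf a = 4 → orderOf b = 4 →
      centralizer {qm H ⟨x 0 * x 1, l.t_mem⟩ * (a * b)} ≤ M := by
    intro a ha b hb ha4 hb4
    obtain ⟨r, hr, hrH, hr4, rfl⟩ := l₀.exists_lift e ty (by decide) (by decide) ha ha4
    obtain ⟨r', hr', hr'H, hr'4, rfl⟩ := l₀.exists_lift e ty (by decide) (by decide) hb hb4
    exact hs r hr hr4 r' hr' hr'4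
  have hsM : ∀ A ∈ OmS (fam Om H) (P : Subgroup (HQ H)), ∀ B ∈ OmS (fam Om H) (P : Subgroup (HQ H)), A ≠ B →
      ∀ a ∈ A ⊓ (P : Subgroup (HQ H)), ∀ b ∈ B ⊓ (P : Subgroup (HQ H)), orderOf a = 4 → orderOf b = 4 →
        centralizer {qm H ⟨x 0 * x 1, l.t_mem⟩ * (a * b)} ≤ M := by
    intro A hA B hB hAB a ha b hb ha4 hb4
    have hab := hF.comm P.isPGroup' hA hB hAB ha hb
    rw [hP, hO] at hA hB
    rw [hP] at ha hb
    rcases hA with rfl | hA <;> rcases hB with rfl | hB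
    · exact absurd rfl hAB
    · rw [Set.mem_singleton_iff] at hB
      subst hB
      exact key a ha b hb ha4 hb4
    · rw [Set.mem_singleton_iff] at hA
      subst hA
      rw [hab]
      exact key b hb a ha hb4 ha4
    · rw [Set.mem_singleton_iff] at hA hB
      exact absurd (hA.trans hB.symm) hAB
  -- conjugation
  have hconj : ∀ P' : Sylow 2 (HQ H), (P' : Subgroup (HQ H)) ≤ M →
      ∃ m ∈ M, (P' : Subgroup (HQ H)) = Cit.cj m (P : Subgroup (HQ H)) := by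
    intro P' hP'
    obtain ⟨m, hm, h1⟩ := CloseFus.exists_le_cj_of_le P hPM P'.isPGroup' hP'
    refine ⟨m, hm, ?_⟩
    exact (P'.is_maximal' (isPGroup_cj P.isPGroup') h1).symm
  have hcM : ∀ m ∈ M, ∀ w : HQ H, centralizer {w} ≤ M → centralizer {m * w * m⁻¹} ≤ M := by
    intro m hm w hw
    rw [← cj_centralizer]
    intro y hy
    have h1 := hw (mem_cj.1 hy)
    have h2 : y = m * (m⁻¹ * y * m) * m⁻¹ := by group
    rw [h2]
    exact M.mul_mem (M.mul_mem hm h1) (M.inv_mem hm)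
  have hback : ∀ m : HQ H, ∀ A : Subgroup (HQ H), A ∈ OmS (fam Om H) (Cit.cj m (P : Subgroup (HQ H))) →
      Cit.cj m⁻¹ A ∈ OmS (fam Om H) (P : Subgroup (HQ H)) := by
    intro m A hA
    have h1 := cj_mem_OmS hF.conj m⁻¹ hA
    rwa [cj_inv_cj] at h1
  refine eT.eq_top hB hC (D := px Om H (K 2)) hD hDO hpc (l.fam_le e ty) ⟨P, hPM⟩ ?_ ?_
  · intro P' hP' A hA
    obtain ⟨m, hm, h1⟩ := hconj P' hP'
    rw [h1] at hA
    have h2 := hcM m hm _ (hzM _ (hback m A hA))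
    rwa [hF.zz_cj hA.1, show m * (m⁻¹ * zz A * m⁻¹⁻¹) * m⁻¹ = zz A by group] at h2
  · intro P' hP' A hA B hB hAB a ha b hb ha4 hb4
    obtain ⟨m, hm, h1⟩ := hconj P' hP'
    rw [h1] at hA hB ha hb
    have hcj : ∀ (A : Subgroup (HQ H)) (a : HQ H), a ∈ A ⊓ Cit.cj m (P : Subgroup (HQ H)) →
        m⁻¹ * a * m⁻¹⁻¹ ∈ Cit.cj m⁻¹ A ⊓ (P : Subgroup (HQ H)) := by
      intro A a ha
      have h2 : (P : Subgroup (HQ H)) = Cit.cj m⁻¹ (Cit.cj m (P : Subgroup (HQ H))) := (cj_inv_cj _ _).symm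
      rw [h2, ← cj_inf]
      exact conj_mem_cj ha
    have hord : ∀ a : HQ H, orderOf a = 4 → orderOf (m⁻¹ * a * m⁻¹⁻¹) = 4 := by
      intro a ha
      rw [← ha]
      exact orderOf_injective (MulAut.conj m⁻¹).toMonoidHom (MulAut.conj m⁻¹).injective a
    have h2 := hcM m hm _ (hsM _ (hback m A hA) _ (hback m B hB) (fun h => hAB (cj_inj.1 h)) _ (hcj A a ha) _
      (hcj B b hb) (hord a ha4) (hord b hb4))
    have h3 : m * (qm H ⟨x 0 * x 1, l.t_mem⟩ * (m⁻¹ * a * m⁻¹⁻¹ * (m⁻¹ * b * m⁻¹⁻¹))) * m⁻¹ =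
        qm H ⟨x 0 * x 1, l.t_mem⟩ * (a * b) := by
      calc m * (qm H ⟨x 0 * x 1, l.t_mem⟩ * (m⁻¹ * a * m⁻¹⁻¹ * (m⁻¹ * b * m⁻¹⁻¹))) * m⁻¹ =
            (m * qm H ⟨x 0 * x 1, l.t_mem⟩) * m⁻¹ * (a * b) := by group
        _ = qm H ⟨x 0 * x 1, l.t_mem⟩ * (a * b) := by rw [eT.cen]; group
    rwa [h3] at h2

theorem Cfg.t_ne (c : Cfg Om S K x) (e : EqFour Om) : x 0 * x 1 ≠ 1 :=
  c.mul_ne e 0 (fun _ hu => c.commQ e (by decide) hu (c.mem 1)) (fun u _ => by rw [mul_one, one_mul])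

/-- the `Loc` of `S ⊓ C(t)` -/
theorem Cfg.loc (c : Cfg Om S K x) (e : EqFour Om) :
    Loc Om S K x (centralizer {x 0 * x 1}) ((S : Subgroup G) ⊓ centralizer {x 0 * x 1}) where
  cfg := c
  eq := rfl
  two := S.isPGroup'.to_le inf_le_left
  le := inf_le_right
  q2 := le_inf inf_le_right (c.inf_le_H e (by decide) (by decide))
  q3 := le_inf inf_le_right (c.inf_le_H e (by decide) (by decide))

/-- **GEN** -/
theorem genStmt (e : EqFour Om) (ty : ∀ K ∈ Om, IsType K)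
    (hp : ∀ t : G, t ≠ 1 → HasPieces (fam Om (centralizer {t}))) (hB : BendStmt.{u}) (hC : CritStmt.{u}) :
    GenStmt Om := by
  intro S K x c M hz hs
  have l := c.loc e
  refine l.eq_top e ty (hp _ (c.t_ne e)) hB hC (hz ⟨zz (K 0), l.z_mem e⟩ rfl) ?_
  intro r hr hr4 r' hr' hr'4
  have h1 := hs r hr hr4 r' hr' hr'4 (⟨x 0 * x 1, l.t_mem⟩ * (⟨r, l.x_mem (by decide) (by decide) hr⟩ *
    ⟨r', l.x_mem (by decide) (by decide) hr'⟩)) (by
      change x 0 * x 1 * (r * r') = _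
      rw [mul_assoc (x 0 * x 1)])
  rwa [map_mul, map_mul] at h1

end

end Cfsg.Agent.Cit.EqCfg
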