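import Cfsg.Agent.Cit.EqTwoB
import Cfsg.Agent.Cit.EqGenT

/-!
# All involutions `z_K`, `K ∈ Om(S)`, equal, `|Om(S)| = 4`: (2B) of THEOREM F at `t = x 0 x 1`

`Cfg.two_t` : `Del B ⊓ C(A) ≤ O(C(t))` for every four-group `B ≤ A = ⟨z, t, s⟩`. If `t ∉ B`, the image in
`C(t) / O(C(t))` lies in `Δ = XX z̄ ⊓ XX s̄ ⊓ XX (s̄ z̄)`; `N(Δ)` contains the centralisers of `z̄` and of all `t̄ r̄ r̄'`,
so it is everything (`Loc.eq_top`), and `Δ = 1`.
-/

set_option autoImplicit false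
set_option linter.style.haveILetI false
set_option linter.unusedSectionVars false

namespace Cfsg.Agent.Cit.EqCfg

open Subgroup Cfsg Cfsg.Agent.Cit Cfsg.Agent.Cit.EqClose Cfsg.Agent.Cit.EqHad SubCent UseT EqCen
open Cfsg.Agent.Cit.EqTwoB

universe u

section

variable {G : Type*} [Group G] [Finite G]

theorem E3.card_le {z t s : G} (h : E3 z t s) : Nat.card (AA z t s) ≤ 8 := by
  classical
  have h1 : (AA z t s : Set G) ⊆
      Set.range (![1, z, t, z * t, s, z * s, t * s, z * t * s] : Fin 8 → G) := by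
    intro a ha
    rcases h.cases ha with (rfl | rfl | rfl | rfl) | (rfl | rfl | rfl | rfl)
    · exact ⟨0, rfl⟩
    · exact ⟨1, rfl⟩
    · exact ⟨2, rfl⟩
    · exact ⟨3, rfl⟩
    · exact ⟨4, rfl⟩
    · exact ⟨5, rfl⟩
    · exact ⟨6, rfl⟩
    · exact ⟨7, rfl⟩
  have h2 := Set.ncard_le_ncard h1 (Set.toFinite _)
  have h3 : (Set.range (![1, z, t, z * t, s, z * s, t * s, z * t * s] : Fin 8 → G)).ncard ≤ 8 := by
    rw [← Set.image_univ]
    refine (Set.ncard_image_le (Set.toFinite _)).trans ?_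
    rw [Set.ncard_univ, Nat.card_eq_fintype_card, Fintype.card_fin]
  exact h2.trans h3

/-- a four-group `B ≤ ⟨z, t, s⟩` has index at most two -/
theorem E3.relIndex_le_two {z t s : G} (h : E3 z t s) {B : Subgroup G} (hB : B ≤ AA z t s)
    (h4 : Nat.card B = 4) : B.relIndex (AA z t s) ≤ 2 := by
  have h1 := relIndex_mul_relIndex ⊥ B (AA z t s) bot_le hB
  rw [relIndex_bot_left, relIndex_bot_left, h4] at h1
  have h2 := h.card_le
  omega

/-- `XX (a b) = XX a` for central `b` -/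
theorem XX_mul_central {a b : G} (hb : ∀ g, g * b = b * g) : XX (a * b) = XX a := by
  have h1 : centralizer {a * b} = centralizer {a} := by
    ext g
    rw [mem_centralizer_singleton_iff, mem_centralizer_singleton_iff]
    constructor
    · intro h2
      have h3 : g * a * b = a * g * b := by
        calc g * a * b = g * (a * b) := mul_assoc _ _ _
          _ = a * b * g := h2
          _ = a * (b * g) := mul_assoc _ _ _
          _ = a * g * b := by rw [← hb g, mul_assoc]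
      exact mul_right_cancel h3
    · intro h2
      calc g * (a * b) = (g * a) * b := (mul_assoc _ _ _).symm
        _ = a * (g * b) := by rw [h2, mul_assoc]
        _ = a * b * g := by rw [hb g, mul_assoc]
  unfold XX
  rw [h1]

end

section

variable {G : Type u} [Group G] [Finite G] {Om : Set (Subgroup G)} {S : Sylow 2 G} {K : Fin 4 → Subgroup G}
  {x : Fin 4 → G} {H R : Subgroup G}

/-- `z̄`, `s̄` in `H / O(H)` -/
theorem Loc.s_mem (l : Loc Om S K x H R) (e : EqFour Om) : x 0 * x 1 * x 2 * x 3 ∈ H := by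
  rw [l.eq, mem_centralizer_singleton_iff]
  exact (l.cfg.e3 e).ts.symm

/-- members over `z̄` -/
theorem Loc.all (l : Loc Om S K x H R) (e : EqFour Om) (ty : ∀ K ∈ Om, IsType K) {J : Subgroup (HQ H)}
    (hJ : J ∈ fam Om H) (hz : zz J = zz (tr H (K 2))) : J = tr H (K 2) ∨ J = tr H (K 3) := by
  haveI : Fact (Nat.Prime 2) := ⟨Nat.prime_two⟩
  obtain ⟨R₀, hR₀, hle⟩ := Cit.exists_syl_ge l.two l.le
  have l₀ : Loc Om S K x H R₀ := ⟨l.cfg, l.eq, hR₀.2.1, hR₀.1, l.q2.trans hle, l.q3.trans hle⟩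
  have hR₀s : ∃ P : Sylow 2 (HQ H), (P : Subgroup (HQ H)) = Loc.bar H R₀ := by
    have h1 : IsPGroup 2 (R₀.subgroupOf H) := hR₀.2.1.comap_subtype
    have h2 : ¬ 2 ∣ (R₀.subgroupOf H).index := hR₀.2.2
    refine ⟨(h1.toSylow h2).mapSurjective (qm_surjective H), ?_⟩
    rw [Sylow.coe_mapSurjective]
    rfl
  obtain ⟨P, hP⟩ := hR₀s
  have hO := l₀.OmS_eq e ty
  have h2 : tr H (K 2) ∈ OmS (fam Om H) (P : Subgroup (HQ H)) := by rw [hP, hO]; exact Or.inl rfl
  have h1 := (hyp_fam e.hyp ty H).mem_OmS_of_zz_eq P h2 hJ hz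
  rw [hP, hO] at h1
  rcases h1 with h1 | h1
  · exact Or.inl h1
  · exact Or.inr (Set.mem_singleton_iff.1 h1)

/-- **the data of `EqTwoB`** -/
theorem Loc.exists_dat (l : Loc Om S K x H R) (e : EqFour Om) (ty : ∀ K ∈ Om, IsType K)
    (hp : HasPieces (fam Om H)) : ∃ (J : Subgroup (HQ H)) (n : HQ H),
      Dat (fam Om H) (px Om H (K 2)) (tr H (K 2)) (tr H (K 3)) J (qm H ⟨x 0 * x 1, l.t_mem⟩)
        (qm H ⟨x 2, l.x_mem (by decide) (by decide) (l.cfg.mem 2)⟩)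
        (qm H ⟨x 3, l.x_mem (by decide) (by decide) (l.cfg.mem 3)⟩) n ∧
      zz J = qm H ⟨x 0 * x 1 * x 2 * x 3, l.s_mem e⟩ := by
  have eT := l.eqTC e ty
  have hcov2 : K 2 ∈ cov Om H := l.mem_cov e (by decide) (by decide)
  have hcov3 : K 3 ∈ cov Om H := l.mem_cov e (by decide) (by decide)
  obtain ⟨n, n', h1, -, h3, h4, -, -⟩ := EqHad.exists_swap e S l.cfg.xs rfl (i := 0) (j := 1) (by decide)
  have hn : n ∈ H := by
    rw [l.eq, mem_centralizer_singleton_iff]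
    exact h1
  have hJ : Cit.cj n (K 2) ∈ cov Om H := cj_mem_cov' e.hyp hcov2 hn
  have hzJ : zz (Cit.cj n (K 2)) = x 0 * x 1 * x 2 * x 3 := by
    rw [e.hyp.zz_cj (l.cfg.memS 2).1, l.cfg.zz_eq e 2, h3]
    rfl
  have hzJ' : zz (tr H (Cit.cj n (K 2))) = qm H ⟨x 0 * x 1 * x 2 * x 3, l.s_mem e⟩ := by
    rw [zz_tr e.hyp ty hJ]
    congr 1
    exact Subtype.ext hzJ
  have hz2 := l.zz_eq e ty (i := 2) (by decide) (by decide)
  have hz3 := l.zz_eq e ty (i := 3) (by decide) (by decide)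
  have hx : ∀ i : Fin 4, x i ^ 2 ^ 2 = 1 := fun i => by
    have := pow_orderOf_eq_one (x i)
    rwa [l.cfg.four i] at this
  refine ⟨tr H (Cit.cj n (K 2)), qm H ⟨n, hn⟩, ?_, hzJ'⟩
  refine { hyp := hyp_fam e.hyp ty H, ty := eT.ty, core := hp.core, eqz := ?_, comp := ?_,
           nor := l.px_normal e ty, le := l.fam_le e ty, mem₂ := tr_mem hcov2, mem₃ := tr_mem hcov3,
           ne := l.ne e ty, zz₃ := by rw [hz2, hz3], all := fun J hJ hz => l.all e ty hJ hz, cen := eT.cen,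
           y₂_mem := mem_tr ty hcov2 (l.cfg.mem 2).1 (a := 2) (Subtype.ext (hx 2)),
           y₃_mem := mem_tr ty hcov3 (l.cfg.mem 3).1 (a := 2) (Subtype.ext (hx 3)),
           y₂_sq := ?_, y₃_sq := ?_, J_mem := tr_mem hJ, zz_J := ?_, n_z := ?_, n_s := ?_ }
  · intro R hR A hA B hB
    exact eT.toEqZ.eq_zz hR hA hB
  · haveI := l.px_normal e ty
    exact ⟨Subgroup.Normal.isSubnormal inferInstance, (l.quasi e ty hp).2.1⟩
  · rw [hz2, ← map_mul]
    congr 1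
    exact Subtype.ext (l.cfg.sq e 2)
  · rw [hz2, ← map_mul]
    congr 1
    exact Subtype.ext (l.cfg.sq e 3)
  · rw [hzJ', ← map_mul, ← map_mul]
    congr 1
    apply Subtype.ext
    change x 0 * x 1 * x 2 * x 3 = x 0 * x 1 * (x 2 * x 3)
    rw [mul_assoc (x 0 * x 1)]
  · rw [hzJ', hz2, ← map_inv, ← map_mul, ← map_mul]
    congr 1
    exact Subtype.ext h3
  · rw [hzJ', hz2, ← map_inv, ← map_mul, ← map_mul, ← map_mul]
    congr 1
    exact Subtype.ext h4

/-- **`Δ = 1`** -/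
theorem Loc.De_eq_bot (l : Loc Om S K x H R) (e : EqFour Om) (ty : ∀ K ∈ Om, IsType K)
    (hp : HasPieces (fam Om H)) (hB : BendStmt.{u}) (hC : CritStmt.{u}) :
    Dat.De (qm H ⟨zz (K 0), l.z_mem e⟩) (qm H ⟨x 0 * x 1 * x 2 * x 3, l.s_mem e⟩) = ⊥ := by
  obtain ⟨J, n, d, hJ⟩ := l.exists_dat e ty hp
  have hz2 := l.zz_eq e ty (i := 2) (by decide) (by decide)
  have htop : normalizer (Dat.De (zz (tr H (K 2))) (zz J) : Set (HQ H)) = ⊤ := by
    refine l.eq_top e ty hp hB hC ?_ ?_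
    · rw [← hz2]; exact d.cent_le
    · intro r hr hr4 r' hr' hr'4
      have hrm : qm H ⟨r, l.x_mem (by decide) (by decide) hr⟩ ∈ tr H (K 2) := by
        refine mem_tr ty (l.mem_cov e (by decide) (by decide)) hr.1 (a := 2) (Subtype.ext ?_)
        change r ^ 2 ^ 2 = 1
        have := pow_orderOf_eq_one r
        rwa [hr4] at this
      have hrm' : qm H ⟨r', l.x_mem (by decide) (by decide) hr'⟩ ∈ tr H (K 3) := by
        refine mem_tr ty (l.mem_cov e (by decide) (by decide)) hr'.1 (a := 2) (Subtype.ext ?_)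
        change r' ^ 2 ^ 2 = 1
        have := pow_orderOf_eq_one r'
        rwa [hr'4] at this
      have hsq : ∀ {i : Fin 4} {w : G} (h0 : i ≠ 0) (h1 : i ≠ 1) (hw : w ∈ K i ⊓ (S : Subgroup G)),
          orderOf w = 4 → qm H ⟨w, l.x_mem h0 h1 hw⟩ * qm H ⟨w, l.x_mem h0 h1 hw⟩ = zz (tr H (K 2)) := by
        intro i w h0 h1 hw hw4
        rw [hz2, ← map_mul]
        congr 1
        apply Subtype.ext
        change w * w = zz (K 0)
        rw [← l.cfg.zz_eq e i]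
        exact e.hyp.sq_eq_zz (l.cfg.memS i).1 hw.1 hw4
      obtain ⟨k, hk, hkz, -, hke⟩ := d.exists_conj hrm hrm' (hsq (by decide) (by decide) hr hr4)
        (hsq (by decide) (by decide) hr' hr'4)
      have hkN : k ∈ normalizer (Dat.De (zz (tr H (K 2))) (zz J) : Set (HQ H)) :=
        d.cent_le (mem_centralizer_singleton_iff.2 hkz)
      have hkJ : k * zz J * k⁻¹ = qm H ⟨x 0 * x 1, l.t_mem⟩ * (qm H ⟨r, l.x_mem (by decide) (by decide) hr⟩ *
          qm H ⟨r', l.x_mem (by decide) (by decide) hr'⟩) := by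
        rw [← hke, d.zz_J]
        have h5 := d.cen k
        calc k * (qm H ⟨x 0 * x 1, l.t_mem⟩ * (qm H ⟨x 2, l.x_mem (by decide) (by decide) (l.cfg.mem 2)⟩ *
              qm H ⟨x 3, l.x_mem (by decide) (by decide) (l.cfg.mem 3)⟩)) * k⁻¹ =
              (k * qm H ⟨x 0 * x 1, l.t_mem⟩) * (qm H ⟨x 2, l.x_mem (by decide) (by decide) (l.cfg.mem 2)⟩ *
              qm H ⟨x 3, l.x_mem (by decide) (by decide) (l.cfg.mem 3)⟩) * k⁻¹ := by group
          _ = _ := by rw [h5]; group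
      rw [← hkJ]
      intro g hg
      rw [mem_centralizer_singleton_iff] at hg
      have h2 : k⁻¹ * g * k ∈ normalizer (Dat.De (zz (tr H (K 2))) (zz J) : Set (HQ H)) := by
        refine d.cent_le_s (mem_centralizer_singleton_iff.2 ?_)
        calc k⁻¹ * g * k * zz J = k⁻¹ * (g * (k * zz J * k⁻¹)) * k := by group
          _ = k⁻¹ * ((k * zz J * k⁻¹) * g) * k := by rw [hg]
          _ = zz J * (k⁻¹ * g * k) := by group
      have h3 : g = k * (k⁻¹ * g * k) * k⁻¹ := by group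
      rw [h3]
      exact mul_mem (mul_mem hkN h2) (inv_mem hkN)
  rw [← hz2, ← hJ, eq_bot_iff]
  haveI hN : (Dat.De (zz (tr H (K 2))) (zz J)).Normal := normalizer_eq_top_iff.1 htop
  have hodd : ¬ 2 ∣ Nat.card (Dat.De (zz (tr H (K 2))) (zz J)) := fun h =>
    odd_XX (zz (tr H (K 2))) (h.trans (card_dvd_of_le (inf_le_left.trans inf_le_left)))
  have h1 : Dat.De (zz (tr H (K 2))) (zz J) ≤ pPrimeCore 2 (HQ H) :=
    Lib.Cores.le_pPrimeCore hN
      ((Nat.Prime.coprime_iff_not_dvd Nat.prime_two).2 hodd).symm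
  have h2 : pPrimeCore 2 (HQ H) = ⊥ := Lib.Cores.pPrimeCore_quotient_pPrimeCore 2
  rwa [h2] at h1

/-- **(2B) at `t`** -/
theorem Cfg.two_t (c : Cfg Om S K x) (e : EqFour Om) (ty : ∀ K ∈ Om, IsType K)
    (hp : HasPieces (fam Om (centralizer {x 0 * x 1}))) (hB : BendStmt.{u}) (hC : CritStmt.{u}) :
    ∀ B ≤ AA (zz (K 0)) (x 0 * x 1) (x 0 * x 1 * x 2 * x 3), Nat.card B = 4 →
      Del B ⊓ centralizer (AA (zz (K 0)) (x 0 * x 1) (x 0 * x 1 * x 2 * x 3) : Set G) ≤ XX (x 0 * x 1) := by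
  intro B hBA h4
  have l := c.loc e
  have h3 := c.e3 e
  by_cases htB : x 0 * x 1 ∈ B
  · exact inf_le_left.trans (Del_le htB (c.t_ne e))
  rintro u ⟨hu, huA⟩
  have hub : u ∈ centralizer ({x 0 * x 1} : Set G) :=
    mem_centralizer_singleton_iff.2 (mem_centralizer_iff.1 huA _ (t_mem _ _ _)).symm
  have hA : AA (zz (K 0)) (x 0 * x 1) (x 0 * x 1 * x 2 * x 3) ≤ centralizer {x 0 * x 1} := fun a ha =>
    mem_centralizer_singleton_iff.2 (h3.comm ha (t_mem _ _ _))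
  have hcen := (l.eqTC e ty).cen
  have hXB : ∀ a (ha : a ∈ AA (zz (K 0)) (x 0 * x 1) (x 0 * x 1 * x 2 * x 3)), a ∈ B → a ≠ 1 →
      qm (centralizer {x 0 * x 1}) ⟨u, hub⟩ ∈ XX (qm (centralizer {x 0 * x 1}) ⟨a, hA ha⟩) := fun a ha haB ha1 =>
    CoreTools.map_mem_XX (qm_surjective _) (not_dvd_ker _) (a := ⟨a, hA ha⟩) (Subtype.ext (h3.sq ha))
      (Del_le haB ha1 hu)
  have hXA : ∀ a (ha : a ∈ AA (zz (K 0)) (x 0 * x 1) (x 0 * x 1 * x 2 * x 3)), a ≠ 1 → a ≠ x 0 * x 1 →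
      qm (centralizer {x 0 * x 1}) ⟨u, hub⟩ ∈ XX (qm (centralizer {x 0 * x 1}) ⟨a, hA ha⟩) := by
    intro a ha ha1 hat
    by_cases haB : a ∈ B
    · exact hXB a ha haB ha1
    · have h5 := mul_mem_of_relIndex (h3.relIndex_le_two hBA h4) ha (t_mem _ _ _) haB htB
      have h6 : a * (x 0 * x 1) ≠ 1 := by
        intro h7
        apply hat
        exact mul_right_cancel (h7.trans h3.tt.symm)
      have h7 := hXB _ (mul_mem ha (t_mem _ _ _)) h5 h6
      have h8 : qm (centralizer {x 0 * x 1}) ⟨a * (x 0 * x 1), hA (mul_mem ha (t_mem _ _ _))⟩ =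
          qm (centralizer {x 0 * x 1}) ⟨a, hA ha⟩ * qm (centralizer {x 0 * x 1}) ⟨x 0 * x 1, l.t_mem⟩ := by
        rw [← map_mul]; rfl
      rw [h8, XX_mul_central hcen] at h7
      exact h7
  have h8 := c.card e
  -- the elements `z`, `s`, `s z` are different from `1`, `t`
  have hz1 : zz (K 0) ≠ 1 := c.zz_ne e
  have hzt : zz (K 0) ≠ x 0 * x 1 := by
    intro h9
    exact c.mul_ne e 0 (fun _ hu => c.commQ e (by decide) hu (c.mem 1)) (fun u hu => c.z_comm e hu.2) h9.symm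
  obtain ⟨J, n, d, hJ⟩ := l.exists_dat e ty hp
  have hz2 := l.zz_eq e ty (i := 2) (by decide) (by decide)
  have h23 : ∀ u ∈ K 2 ⊓ (S : Subgroup G), u * x 3 = x 3 * u := fun u hu => c.commQ e (by decide) hu (c.mem 3)
  have hs1 : x 0 * x 1 * x 2 * x 3 ≠ 1 := by
    intro h9
    apply d.hyp.zz_ne d.J_mem
    rw [hJ]
    have h10 : (⟨x 0 * x 1 * x 2 * x 3, l.s_mem e⟩ : centralizer ({x 0 * x 1} : Set G)) = 1 := Subtype.ext h9
    rw [h10, map_one]
  have hst : x 0 * x 1 * x 2 * x 3 ≠ x 0 * x 1 := by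
    intro h9
    refine c.mul_ne e 2 h23 (w := 1) (fun u _ => by rw [mul_one, one_mul]) ?_
    rw [mul_assoc (x 0 * x 1)] at h9
    exact mul_eq_left.1 h9
  have hsz : x 0 * x 1 * x 2 * x 3 * zz (K 0) ≠ 1 := by
    intro h9
    have h10 : zz J * zz (tr (centralizer {x 0 * x 1}) (K 2)) = 1 := by
      rw [hJ, hz2, ← map_mul]
      have h11 : (⟨x 0 * x 1 * x 2 * x 3, l.s_mem e⟩ : centralizer ({x 0 * x 1} : Set G)) *
          ⟨zz (K 0), l.z_mem e⟩ = 1 := Subtype.ext h9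
      rw [h11, map_one]
    have h12 := d.n_s
    rw [h10] at h12
    exact d.hyp.zz_ne d.J_mem (conj_eq_one_iff.1 h12)
  have hszt : x 0 * x 1 * x 2 * x 3 * zz (K 0) ≠ x 0 * x 1 := by
    intro h9
    refine c.mul_ne e 2 h23 (w := zz (K 0)) (fun u hu => c.z_comm e hu.2) ?_
    rw [mul_assoc (x 0 * x 1), mul_assoc (x 0 * x 1), mul_eq_left] at h9
    exact (eq_inv_of_mul_eq_one_left h9).trans (e.hyp.zz_inv (c.memS 0).1)
  have hm : qm (centralizer {x 0 * x 1}) ⟨u, hub⟩ ∈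
      Dat.De (qm (centralizer {x 0 * x 1}) ⟨zz (K 0), l.z_mem e⟩)
        (qm (centralizer {x 0 * x 1}) ⟨x 0 * x 1 * x 2 * x 3, l.s_mem e⟩) :=
    ⟨⟨hXA _ (z_mem _ _ _) hz1 hzt, hXA _ (s_mem _ _ _) hs1 hst⟩,
      hXA _ (mul_mem (s_mem _ _ _) (z_mem _ _ _)) hsz hszt⟩
  rw [l.De_eq_bot e ty hp hB hC, mem_bot] at hm
  have h9 : (⟨u, hub⟩ : centralizer ({x 0 * x 1} : Set G)) ∈ (qm (centralizer {x 0 * x 1})).ker := hm
  rw [ker_qm] at h9
  exact CoreTools.mem_XX_iff.2 h9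

end

end Cfsg.Agent.Cit.EqCfg
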