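import Cfsg.Agent.Cit.EqCorStmt
import Cfsg.Agent.Cit.EqLoc
import Cfsg.Agent.Cit.EqTwoT

/-!
# `FourEq.CorStmt` : the cores for `|Om(S)| = 4`, all `z_K` equal
-/

set_option autoImplicit false

namespace Cfsg.Agent.Cit.EqCfg

open Subgroup Cfsg Cfsg.Agent.Cit Cfsg.Agent.Cit.EqClose UseT

universe u

/-- **the cores** -/
theorem corStmt (hodd : CoresG.OddStmt.{u}) (hct : CoresG.CTStmt.{u}) (hB : EqCen.BendStmt.{u})
    (hC : EqCen.CritStmt.{u}) : FourEq.CorStmt.{u} := by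
  intro G _ _ Om ms e
  refine eqCor hodd hB hC ms e fun S K x c => ⟨?_, ?_⟩
  · exact c.tor_t hct e ms.isType (ms.fam_cent (c.t_ne e))
  · exact c.two_t e ms.isType (ms.fam_cent (c.t_ne e)) hB hC

end Cfsg.Agent.Cit.EqCfg
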