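import Cfsg.Agent.Cit.EqGenT

/-!
# All involutions `z_K`, `K ∈ Om(S)`, equal, `|Om(S)| = 4`: the cores from `DF A = ⊥`

If `DF A = ⊥` for all configurations then `⁅XX a, A⁆ = ⊥` for all `a ∈ A#`, hence `XX z` centralises `K i ⊓ S` and
`XX t`, `t = x 0 x 1`, centralises `K 2 ⊓ S`, `K 3 ⊓ S`.

* `cc_z` : `XX (zz K)` centralises the Sylow 2-subgroups of the members `K' ≤ C(zz K)`;
* `cc_t` : the same for `x y`, `x ∈ K ⊓ S`, `y ∈ L ⊓ S` of order four.
-/

set_option autoImplicit false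
set_option linter.style.haveILetI false
set_option linter.unusedSectionVars false

namespace Cfsg.Agent.Cit.EqCfg

open Subgroup Cfsg Cfsg.Agent.Cit Cfsg.Agent.Cit.EqClose Cfsg.Agent.Cit.EqHad SubCent UseT EqCen
open scoped commutatorElement

universe u

/-- a generalised quaternion group is generated by the quotients of its elements of order four -/
theorem gq_le_of_mul {G : Type*} [Group G] {Q C : Subgroup G} {c v z w : G} {n : ℕ} (hq : GQ Q c v z n)
    (h : ∀ y ∈ Q, orderOf y = 4 → y * w ∈ C) : Q ≤ C := by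
  have h1 : ∀ y ∈ Q, ∀ y' ∈ Q, orderOf y = 4 → orderOf y' = 4 → y * y'⁻¹ ∈ C := by
    intro y hy y' hy' h4 h4'
    have h2 := C.mul_mem (h y hy h4) (C.inv_mem (h y' hy' h4'))
    have h3 : y * w * (y' * w)⁻¹ = y * y'⁻¹ := by group
    rwa [h3] at h2
  have hc : c ∈ C := by
    have h2 := h1 (v * c ^ 0) (Q.mul_mem hq.v_mem (Q.pow_mem hq.c_mem _)) (v * c ^ 1)
      (Q.mul_mem hq.v_mem (Q.pow_mem hq.c_mem _)) (hq.orderOf_out 0) (hq.orderOf_out 1)
    have h3 : v * c ^ 0 * (v * c ^ 1)⁻¹ = c := by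
      rw [pow_zero, mul_one, pow_one]
      calc v * (v * c)⁻¹ = v * c⁻¹ * v⁻¹ := by group
        _ = (v * c * v⁻¹)⁻¹ := by group
        _ = c := by rw [hq.conj, inv_inv]
    rwa [h3] at h2
  refine hq.le_of_four fun y hy h4 => ?_
  have h5 : orderOf (c ^ 2 ^ n) = 4 := by
    refine GQ.orderOf_of_sq ?_ hq.z_mul hq.z_ne
    rw [← pow_add, ← two_mul, ← pow_succ']
    exact hq.z_eq
  have h2 := h1 y hy _ (Q.pow_mem hq.c_mem (2 ^ n)) h4 h5
  have h3 := C.mul_mem h2 (C.pow_mem hc (2 ^ n))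
  rwa [inv_mul_cancel_right] at h3

variable {G : Type*} [Group G] [Finite G] {Om : Set (Subgroup G)} {S : Sylow 2 G} {K : Fin 4 → Subgroup G}
  {x : Fin 4 → G}

theorem Cfg.XX_le_cent (c : Cfg Om S K x) (hT : TorStmt Om) (hD : DFStmt Om) {a : G}
    (ha : a ∈ AA (zz (K 0)) (x 0 * x 1) (x 0 * x 1 * x 2 * x 3)) (ha1 : a ≠ 1) :
    XX a ≤ centralizer (AA (zz (K 0)) (x 0 * x 1) (x 0 * x 1 * x 2 * x 3) : Set G) := by
  have h1 := (hT S K x c).commutator_XX_le ha ha1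
  rw [hD S K x c, le_bot_iff, commutator_eq_bot_iff_le_centralizer] at h1
  exact h1

theorem Cfg.update (c : Cfg Om S K x) (i : Fin 4) {y : G} (hy : y ∈ K i ⊓ (S : Subgroup G)) (hy4 : orderOf y = 4) :
    Cfg Om S K (Function.update x i y) := by
  refine c.replace (fun j => ?_) (fun j => ?_)
  · by_cases hij : j = i
    · subst hij; rw [Function.update_self]; exact hy
    · rw [Function.update_of_ne hij]; exact c.mem j
  · by_cases hij : j = i
    · subst hij; rw [Function.update_self]; exact hy4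
    · rw [Function.update_of_ne hij]; exact c.four j

/-- `XX z` centralises `K 0 ⊓ S` -/
theorem Cfg.inf0_le (c : Cfg Om S K x) (e : EqFour Om) (hT : TorStmt Om) (hD : DFStmt Om) :
    XX (zz (K 0)) ≤ centralizer ((K 0 ⊓ (S : Subgroup G) : Subgroup G) : Set G) := by
  obtain ⟨d, v, n, hq⟩ := e.hyp.exists_gq (c.memS 0).1 (c.syl 0)
  rw [le_centralizer_iff]
  refine gq_le_of_mul hq (w := x 1) fun y hy hy4 => ?_
  have c' := c.update 0 hy hy4
  have h1 := c'.XX_le_cent hT hD (z_mem _ _ _) (c.zz_ne e)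
  rw [le_centralizer_iff] at h1
  have h2 := h1 (t_mem _ _ _)
  rwa [Function.update_self, Function.update_of_ne (by decide)] at h2

/-- `XX (x 0 x 1)` centralises `K 2 ⊓ S` -/
theorem Cfg.inf2_le (c : Cfg Om S K x) (e : EqFour Om) (hT : TorStmt Om) (hD : DFStmt Om) (ht : x 0 * x 1 ≠ 1) :
    XX (x 0 * x 1) ≤ centralizer ((K 2 ⊓ (S : Subgroup G) : Subgroup G) : Set G) := by
  obtain ⟨d, v, n, hq⟩ := e.hyp.exists_gq (c.memS 2).1 (c.syl 2)
  rw [le_centralizer_iff]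
  refine gq_le_of_mul hq (w := x 3) fun y hy hy4 => ?_
  have c' := c.update 2 hy hy4
  have h0 : (Function.update x 2 y) 0 = x 0 := Function.update_of_ne (by decide) _ _
  have h1 : (Function.update x 2 y) 1 = x 1 := Function.update_of_ne (by decide) _ _
  have h2 : (Function.update x 2 y) 2 = y := Function.update_self _ _ _
  have h3 : (Function.update x 2 y) 3 = x 3 := Function.update_of_ne (by decide) _ _
  have h4 := c'.XX_le_cent hT hD (t_mem _ _ _) (by rw [h0, h1]; exact ht)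
  rw [le_centralizer_iff] at h4
  have h5 := mul_mem (h4 (t_mem _ _ _)) (h4 (s_mem _ _ _))
  rw [h0, h1, h2, h3] at h5
  have h6 : x 0 * x 1 * (x 0 * x 1 * y * x 3) = y * x 3 := by
    calc x 0 * x 1 * (x 0 * x 1 * y * x 3) = (x 0 * x 1 * (x 0 * x 1)) * (y * x 3) := by group
      _ = y * x 3 := by rw [c.mul_sq e, one_mul]
  rwa [h6] at h5

theorem exists_perm4 : ∀ i j : Fin 4, i ≠ j → ∃ σ : Equiv.Perm (Fin 4), σ 0 = i ∧ σ 1 = j := by
  decide

/-- `XX (x 0 x 1)` centralises `K 3 ⊓ S` -/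
theorem Cfg.inf3_le (c : Cfg Om S K x) (e : EqFour Om) (hT : TorStmt Om) (hD : DFStmt Om) (ht : x 0 * x 1 ≠ 1) :
    XX (x 0 * x 1) ≤ centralizer ((K 3 ⊓ (S : Subgroup G) : Subgroup G) : Set G) := by
  have c' := c.perm (Equiv.swap 2 3)
  have h0 : (Equiv.swap 2 3 : Equiv.Perm (Fin 4)) 0 = 0 := by decide
  have h1 : (Equiv.swap 2 3 : Equiv.Perm (Fin 4)) 1 = 1 := by decide
  have h2 : (Equiv.swap 2 3 : Equiv.Perm (Fin 4)) 2 = 3 := by decide
  have h3 := c'.inf2_le e hT hD (by rw [Function.comp_apply, Function.comp_apply, h0, h1]; exact ht)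
  rwa [Function.comp_apply, Function.comp_apply, Function.comp_apply, h0, h1, h2] at h3

/-- a configuration with a given first member -/
theorem exists_cfg_one (e : EqFour Om) (S : Sylow 2 G) {L : Subgroup G} (hL : L ∈ OmS Om (S : Subgroup G)) :
    ∃ (K : Fin 4 → Subgroup G) (x : Fin 4 → G), Cfg Om S K x ∧ K 0 = L := by
  obtain ⟨K, x, c⟩ := Cfg.exists_elem e S
  obtain ⟨i, hi⟩ := c.all e hL.1 (e.eqz S _ hL _ (c.memS 0))
  refine ⟨_, _, c.perm (Equiv.swap 0 i), ?_⟩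
  rw [Function.comp_apply, Equiv.swap_apply_left, hi]

/-- a configuration with given first two members and elements -/
theorem exists_cfg_two (e : EqFour Om) (S : Sylow 2 G) {L M : Subgroup G} (hL : L ∈ OmS Om (S : Subgroup G))
    (hM : M ∈ OmS Om (S : Subgroup G)) (hLM : L ≠ M) {a b : G} (ha : a ∈ L ⊓ (S : Subgroup G)) (ha4 : orderOf a = 4)
    (hb : b ∈ M ⊓ (S : Subgroup G)) (hb4 : orderOf b = 4) :
    ∃ (K : Fin 4 → Subgroup G) (x : Fin 4 → G), Cfg Om S K x ∧ K 0 = L ∧ K 1 = M ∧ x 0 = a ∧ x 1 = b := by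
  obtain ⟨K, x, c⟩ := Cfg.exists_elem e S
  obtain ⟨i, rfl⟩ := c.all e hL.1 (e.eqz S _ hL _ (c.memS 0))
  obtain ⟨j, rfl⟩ := c.all e hM.1 (e.eqz S _ hM _ (c.memS 0))
  obtain ⟨σ, h0, h1⟩ := exists_perm4 i j (fun h => hLM (by rw [h]))
  have c1 := c.perm σ
  have c2 := c1.update 0 (y := a) (by rw [Function.comp_apply, h0]; exact ha) ha4
  have c3 := c2.update 1 (y := b) (by rw [Function.comp_apply, h1]; exact hb) hb4
  refine ⟨_, _, c3, by rw [Function.comp_apply, h0], by rw [Function.comp_apply, h1], ?_, ?_⟩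
  · rw [Function.update_of_ne (by decide), Function.update_self]
  · rw [Function.update_self]

theorem cc_z (e : EqFour Om) (hT : TorStmt Om) (hD : DFStmt Om) {L : Subgroup G} (hL : L ∈ Om) {K' : Subgroup G}
    (hK' : K' ∈ Om) (hle : K' ≤ centralizer {zz L}) {Q : Subgroup G} (hQ : Syl Q K') :
    XX (zz L) ≤ centralizer (Q : Set G) := by
  have h1 : zz K' = zz L := e.toEqZ.zz_eq_of_cent hK' hL hQ fun y hy =>
    mem_centralizer_singleton_iff.1 (hle (hQ.1 hy))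
  obtain ⟨T, hQT, -, hT'⟩ := e.toEqZ.exists_sylow_ge hK' hQ.2.1 (hQ.1.trans (e.hyp.le_centralizer hK'))
  obtain ⟨K, x, c, rfl⟩ := exists_cfg_one e T hT'
  have h2 : Q = K 0 ⊓ (T : Subgroup G) :=
    LB.syl_eq_of_le hQ (T.isPGroup'.to_le inf_le_right) inf_le_left (le_inf hQ.1 hQT)
  rw [h2, ← h1]
  exact c.inf0_le e hT hD

theorem cc_t (e : EqFour Om) (hT : TorStmt Om) (hD : DFStmt Om) (S : Sylow 2 G) {L M : Subgroup G}
    (hL : L ∈ OmS Om (S : Subgroup G)) (hM : M ∈ OmS Om (S : Subgroup G)) (hLM : L ≠ M) {a b : G}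
    (ha : a ∈ L ⊓ (S : Subgroup G)) (ha4 : orderOf a = 4) (hb : b ∈ M ⊓ (S : Subgroup G)) (hb4 : orderOf b = 4)
    {K' : Subgroup G} (hK' : K' ∈ Om) (hle : K' ≤ centralizer {a * b}) {Q : Subgroup G} (hQ : Syl Q K') :
    XX (a * b) ≤ centralizer (Q : Set G) := by
  haveI : Fact (Nat.Prime 2) := ⟨Nat.prime_two⟩
  obtain ⟨K, x, c, rfl, rfl, rfl, rfl⟩ := exists_cfg_two e S hL hM hLM ha ha4 hb hb4
  have ht := c.mul_ne e 0 (fun _ hu => c.commQ e (by decide) hu (c.mem 1)) (w := 1)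
    (fun u _ => by rw [mul_one, one_mul])
  have hSH : IsPGroup 2 ((S : Subgroup G) ⊓ centralizer {x 0 * x 1} : Subgroup G) := S.isPGroup'.to_le inf_le_left
  obtain ⟨R₀, hR₀, hle₀⟩ := Cit.exists_syl_ge hSH (C := centralizer {x 0 * x 1}) inf_le_right
  obtain ⟨R₁, hR₁, hle₁⟩ := Cit.exists_syl_ge hQ.2.1 (C := centralizer {x 0 * x 1}) (hQ.1.trans hle)
  obtain ⟨g, hg, hgR⟩ := hR₁.exists_conj hR₀
  have h2 : K 2 ⊓ (S : Subgroup G) ≤ R₀ :=
    le_trans (le_inf inf_le_right (c.inf_le_H e (by decide) (by decide))) hle₀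
  have h3 : K 3 ⊓ (S : Subgroup G) ≤ R₀ :=
    le_trans (le_inf inf_le_right (c.inf_le_H e (by decide) (by decide))) hle₀
  have hgQ : Cit.cj g Q ≤ R₀ := by rw [← hgR]; exact cj_mono g hle₁
  have hsy := hQ.cj g
  have h4 : Cit.cj g K' ∈ OmS Om R₀ ∩ cov Om (centralizer {x 0 * x 1}) :=
    ⟨mem_OmS_of_le (e.hyp.conj K' hK' g) hsy hgQ,
      cj_mem_cov' e.hyp (SubCent.mem_cov_of_le hK' hle) hg⟩
  rw [c.OmS_cov e hR₀.2.1 h2 h3] at h4
  -- `XX t` centralises `g Q g⁻¹`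
  have key : ∀ i : Fin 4, K i ⊓ (S : Subgroup G) ≤ R₀ → Cit.cj g K' = K i →
      Cit.cj g Q = K i ⊓ (S : Subgroup G) := by
    intro i hi hgK
    rw [hgK] at hsy
    have h5 : IsPGroup 2 (K i ⊓ R₀ : Subgroup G) := hR₀.2.1.to_le inf_le_right
    rw [LB.syl_eq_of_le hsy h5 inf_le_left (le_inf hsy.1 hgQ),
      LB.syl_eq_of_le (c.syl i) h5 inf_le_left (le_inf inf_le_left hi)]
  have h5 : XX (x 0 * x 1) ≤ centralizer (Cit.cj g Q : Set G) := by
    rcases h4 with h4 | h4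
    · rw [key 2 h2 h4]; exact c.inf2_le e hT hD ht
    · rw [key 3 h3 (Set.mem_singleton_iff.1 h4)]; exact c.inf3_le e hT hD ht
  intro w hw
  rw [mem_centralizer_iff]
  intro q hq
  have h6 : g * w * g⁻¹ ∈ XX (x 0 * x 1) :=
    (mem_normalizer_iff.1 (centralizer_le_normalizer_XX _ hg) w).1 hw
  have h7 := mem_centralizer_iff.1 (h5 h6) (g * q * g⁻¹) (conj_mem_cj hq)
  have h8 : g * (q * w) * g⁻¹ = g * (w * q) * g⁻¹ := by
    calc g * (q * w) * g⁻¹ = g * q * g⁻¹ * (g * w * g⁻¹) := by group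
      _ = g * w * g⁻¹ * (g * q * g⁻¹) := h7
      _ = g * (w * q) * g⁻¹ := by group
  exact mul_left_cancel (mul_right_cancel h8)

end Cfsg.Agent.Cit.EqCfg
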