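import Cfsg.Agent.Cit.EqIn
import Cfsg.Agent.Cit.EqFourMain
import Cfsg.Agent.Cit.CoresCore

/-!
# All involutions `z_K`, `K ∈ Om(S)`, equal, `|Om(S)| = 4`: `DF A = ⊥` (part (D))

`M = N(DF A)` contains `C(z)`, `C(y₀y₁y₂y₃)`, `C(y_i y_j)`: `Big Om M`, hence `M = ⊤`, `DF A = ⊥`.
-/

set_option autoImplicit false
set_option linter.style.haveILetI false
set_option linter.unusedSectionVars false

namespace Cfsg.Agent.Cit.EqCfg

open Subgroup Cfsg Cfsg.Agent.Cit Cfsg.Agent.Cit.EqClose UseT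
open Cfsg.Agent.Cit.EqHad (Xs)
open Cfsg.Agent.Cit.EqHad.Xs (pr)
open scoped commutatorElement

universe u

namespace EqDF

/-! ### Products -/

section Prod

variable {Y : Type*} [Group Y]

/-- conjugation of a product by a product -/
theorem pr_conj {k y x : Fin 4 → Y} (h : ∀ i, k i * y i * (k i)⁻¹ = x i) (h1 : ∀ i j, i ≠ j → k i * y j = y j * k i)
    (h2 : ∀ i j, i ≠ j → k i * x j = x j * k i) :
    (k 0 * k 1 * k 2 * k 3) * pr y * (k 0 * k 1 * k 2 * k 3)⁻¹ = pr x := by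
  have e1 : ∀ i j, i ≠ j → k i * y j * (k i)⁻¹ = y j := fun i j hij => by rw [h1 i j hij, mul_inv_cancel_right]
  have e2 : ∀ i j, i ≠ j → k i * x j * (k i)⁻¹ = x j := fun i j hij => by rw [h2 i j hij, mul_inv_cancel_right]
  have a3 : k 3 * pr y * (k 3)⁻¹ = y 0 * y 1 * y 2 * x 3 := by
    have e0 := e1 3 0 (by decide)
    have e1' := e1 3 1 (by decide)
    have e2' := e1 3 2 (by decide)
    have e3' := h 3
    calc k 3 * pr y * (k 3)⁻¹ = (k 3 * y 0 * (k 3)⁻¹) * (k 3 * y 1 * (k 3)⁻¹) * (k 3 * y 2 * (k 3)⁻¹) *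
          (k 3 * y 3 * (k 3)⁻¹) := by unfold pr; group
      _ = _ := by rw [e0, e1', e2', e3']
  have a2 : k 2 * (y 0 * y 1 * y 2 * x 3) * (k 2)⁻¹ = y 0 * y 1 * x 2 * x 3 := by
    have e0 := e1 2 0 (by decide)
    have e1' := e1 2 1 (by decide)
    have e2' := h 2
    have e3' := e2 2 3 (by decide)
    calc k 2 * (y 0 * y 1 * y 2 * x 3) * (k 2)⁻¹ = (k 2 * y 0 * (k 2)⁻¹) * (k 2 * y 1 * (k 2)⁻¹) *
          (k 2 * y 2 * (k 2)⁻¹) * (k 2 * x 3 * (k 2)⁻¹) := by group
      _ = _ := by rw [e0, e1', e2', e3']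
  have a1 : k 1 * (y 0 * y 1 * x 2 * x 3) * (k 1)⁻¹ = y 0 * x 1 * x 2 * x 3 := by
    have e0 := e1 1 0 (by decide)
    have e1' := h 1
    have e2' := e2 1 2 (by decide)
    have e3' := e2 1 3 (by decide)
    calc k 1 * (y 0 * y 1 * x 2 * x 3) * (k 1)⁻¹ = (k 1 * y 0 * (k 1)⁻¹) * (k 1 * y 1 * (k 1)⁻¹) *
          (k 1 * x 2 * (k 1)⁻¹) * (k 1 * x 3 * (k 1)⁻¹) := by group
      _ = _ := by rw [e0, e1', e2', e3']
  have a0 : k 0 * (y 0 * x 1 * x 2 * x 3) * (k 0)⁻¹ = x 0 * x 1 * x 2 * x 3 := by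
    have e0 := h 0
    have e1' := e2 0 1 (by decide)
    have e2' := e2 0 2 (by decide)
    have e3' := e2 0 3 (by decide)
    calc k 0 * (y 0 * x 1 * x 2 * x 3) * (k 0)⁻¹ = (k 0 * y 0 * (k 0)⁻¹) * (k 0 * x 1 * (k 0)⁻¹) *
          (k 0 * x 2 * (k 0)⁻¹) * (k 0 * x 3 * (k 0)⁻¹) := by group
      _ = _ := by rw [e0, e1', e2', e3']
  calc (k 0 * k 1 * k 2 * k 3) * pr y * (k 0 * k 1 * k 2 * k 3)⁻¹
      = k 0 * (k 1 * (k 2 * (k 3 * pr y * (k 3)⁻¹) * (k 2)⁻¹) * (k 1)⁻¹) * (k 0)⁻¹ := by group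
    _ = pr x := by rw [a3, a2, a1, a0]; rfl

/-- a product of four commuting elements in another order -/
theorem pr_perm {y : Fin 4 → Y} (hy : ∀ i j, y i * y j = y j * y i) (σ : Equiv.Perm (Fin 4)) :
    pr (y ∘ σ) = pr y := by
  have h1 : ∀ f : Fin 4 → Y, pr f = (List.ofFn f).prod := by
    intro f
    simp [pr, List.ofFn_succ, mul_assoc]
  rw [h1, h1]
  apply List.Perm.prod_eq' (σ.ofFn_comp_perm y)
  apply List.pairwise_of_forall_mem_list
  intro a ha b hb
  rw [List.mem_ofFn] at ha hb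
  obtain ⟨i, rfl⟩ := ha
  obtain ⟨j, rfl⟩ := hb
  exact hy _ _

theorem map_pr {Z : Type*} [Group Z] (f : Y →* Z) (y : Fin 4 → Y) : f (pr y) = pr (fun i => f (y i)) := by
  simp [pr, map_mul]

end Prod

variable {G : Type u} [Group G] [Finite G] {Om : Set (Subgroup G)} {S : Sylow 2 G} {K : Fin 4 → Subgroup G}
  {x : Fin 4 → G}

theorem qm_one {H : Subgroup G} {a : H} : qm H a = 1 ↔ (a : G) ∈ OO H := by
  rw [← MonoidHom.mem_ker, ker_qm]
  constructor
  · exact fun h => ⟨a, h, rfl⟩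
  · rintro ⟨b, hb, h⟩
    have : b = a := Subtype.ext h
    rwa [this] at hb

theorem toXs (c : Cfg Om S K x) : Xs Om (S : Subgroup G) K x :=
  ⟨S.isPGroup', c.inj, c.memS, c.mem, c.four⟩

theorem ofXs (h : Xs Om (S : Subgroup G) K x) : Cfg Om S K x := ⟨h.inj, h.mem, h.x_mem, h.four⟩

/-- different members over `z` commute modulo `O(C(z))` -/
theorem comm_mod (c : Cfg Om S K x) (e : EqFour Om) {i j : Fin 4} (hij : i ≠ j) {a b : G} (ha : a ∈ K i) (hb : b ∈ K j) :
    a * b * a⁻¹ * b⁻¹ ∈ XX (zz (K 0)) := by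
  have h1 := (e.hyp.h2 (K i) (c.memS i).1 (K j) (c.memS j).1 ((c.zz_eq e i).trans (c.zz_eq e j).symm)).resolve_left
    (fun h => hij (c.inj h))
  have h2 := h1 (commutator_mem_commutator ha hb)
  rw [commutatorElement_def] at h2
  have h3 := CoresCore.OO_le_XX e.hyp (c.memS i).1 h2.1
  rwa [c.zz_eq e i] at h3

theorem le_C (c : Cfg Om S K x) (e : EqFour Om) (i : Fin 4) : K i ≤ centralizer {zz (K 0)} := by
  rw [← c.zz_eq e i]
  exact e.hyp.le_centralizer (c.memS i).1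

/-- the images in `C(z) / O(C(z))` of elements of different members commute -/
theorem qm_comm (c : Cfg Om S K x) (e : EqFour Om) {i j : Fin 4} (hij : i ≠ j) {a b : centralizer {zz (K 0)}}
    (ha : (a : G) ∈ K i) (hb : (b : G) ∈ K j) :
    qm (centralizer {zz (K 0)}) a * qm _ b = qm _ b * qm _ a := by
  have h1 : qm (centralizer {zz (K 0)}) (a * b * a⁻¹ * b⁻¹) = 1 := qm_one.2 (comm_mod c e hij ha hb)
  rw [map_mul, map_mul, map_mul, map_inv, map_inv, mul_inv_eq_one, mul_inv_eq_iff_eq_mul] at h1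
  exact h1

/-- **conjugation to `s`** -/
theorem exists_m (c : Cfg Om S K x) (e : EqFour Om) {M : Subgroup G} (hX : XX (zz (K 0)) ≤ M) (hK : ∀ i, K i ≤ M)
    {y : Fin 4 → G} (hy : ∀ i, y i ∈ K i) (hy4 : ∀ i, orderOf (y i) = 4) (hyy : pr y * pr y = 1) :
    ∃ m ∈ M, m * zz (K 0) = zz (K 0) * m ∧ m * pr y * m⁻¹ = pr x := by
  have h := e.hyp
  have h1 : ∀ i, ∃ k ∈ K i, k * y i * k⁻¹ = x i := fun i =>
    h.conj_four (c.memS i).1 (e.ty _ (c.memS i).1) (hy i) (c.mem i).1 (hy4 i) (c.four i)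
  choose k hk hkx using h1
  have hKC := le_C c e
  obtain ⟨kk, hkk⟩ : ∃ kk, kk = k 0 * k 1 * k 2 * k 3 := ⟨_, rfl⟩
  have hkkM : kk ∈ M := by
    rw [hkk]; exact mul_mem (mul_mem (mul_mem (hK 0 (hk 0)) (hK 1 (hk 1))) (hK 2 (hk 2))) (hK 3 (hk 3))
  have hkkC : kk ∈ centralizer ({zz (K 0)} : Set G) := by
    rw [hkk]; exact mul_mem (mul_mem (mul_mem (hKC 0 (hk 0)) (hKC 1 (hk 1))) (hKC 2 (hk 2))) (hKC 3 (hk 3))
  have hss : pr x * pr x = 1 := (c.e3 e).ss
  have hyC : ∀ i, y i ∈ centralizer ({zz (K 0)} : Set G) := fun i => hKC i (hy i)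
  have hxC : ∀ i, x i ∈ centralizer ({zz (K 0)} : Set G) := fun i => hKC i (c.mem i).1
  have hprC : ∀ w : Fin 4 → G, (∀ i, w i ∈ centralizer ({zz (K 0)} : Set G)) →
      pr w ∈ centralizer ({zz (K 0)} : Set G) := fun w hw =>
    mul_mem (mul_mem (mul_mem (hw 0) (hw 1)) (hw 2)) (hw 3)
  -- the two involutions
  obtain ⟨a, ha⟩ : ∃ a, a = kk * pr y * kk⁻¹ := ⟨_, rfl⟩
  have haa : a * a = 1 := by
    rw [ha]
    calc kk * pr y * kk⁻¹ * (kk * pr y * kk⁻¹) = kk * (pr y * pr y) * kk⁻¹ := by group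
      _ = 1 := by rw [hyy]; group
  have haC : a ∈ centralizer ({zz (K 0)} : Set G) := by
    rw [ha]; exact mul_mem (mul_mem hkkC (hprC y hyC)) (inv_mem hkkC)
  have key : a * pr x ∈ XX (zz (K 0)) := by
    let H := centralizer ({zz (K 0)} : Set G)
    let k' : Fin 4 → H := fun i => ⟨k i, hKC i (hk i)⟩
    let y' : Fin 4 → H := fun i => ⟨y i, hyC i⟩
    let x' : Fin 4 → H := fun i => ⟨x i, hxC i⟩
    have h1 : (qm H (k' 0) * qm H (k' 1) * qm H (k' 2) * qm H (k' 3)) * pr (fun i => qm H (y' i)) *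
        (qm H (k' 0) * qm H (k' 1) * qm H (k' 2) * qm H (k' 3))⁻¹ = pr (fun i => qm H (x' i)) := by
      refine pr_conj (k := fun i => qm H (k' i)) (fun i => ?_) (fun i j hij => ?_) (fun i j hij => ?_)
      · rw [← map_inv, ← map_mul, ← map_mul]
        congr 1
        exact Subtype.ext (hkx i)
      · exact qm_comm c e hij (hk i) (hy j)
      · exact qm_comm c e hij (hk i) (c.mem j).1
    have h2 : qm H (⟨a, haC⟩ * ⟨pr x, hprC x hxC⟩) = 1 := by
      have h3 : (⟨a, haC⟩ : H) = (k' 0 * k' 1 * k' 2 * k' 3) * pr y' * (k' 0 * k' 1 * k' 2 * k' 3)⁻¹ := by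
        apply Subtype.ext
        show a = (k 0 * k 1 * k 2 * k 3) * pr y * (k 0 * k 1 * k 2 * k 3)⁻¹
        rw [ha, hkk]
      have h4 : (⟨pr x, hprC x hxC⟩ : H) = pr x' := Subtype.ext rfl
      rw [h3, h4, map_mul, map_mul, map_mul, map_inv, map_mul, map_mul, map_mul, map_pr, h1, map_pr, ← map_pr,
        ← map_mul]
      have h5 : pr x' * pr x' = 1 := Subtype.ext hss
      rw [h5, map_one]
    exact qm_one.1 h2
  obtain ⟨n, hn, hna⟩ := inv_conj haa hss (odd_orderOf (odd_XX _) key)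
  have hnX : n ∈ XX (zz (K 0)) := (zpowers_le.2 key) hn
  refine ⟨n * kk, mul_mem (hX hnX) hkkM, ?_, ?_⟩
  · exact mem_centralizer_singleton_iff.1 (mul_mem (XX_le _ hnX) hkkC)
  · calc n * kk * pr y * (n * kk)⁻¹ = n * (kk * pr y * kk⁻¹) * n⁻¹ := by group
      _ = pr x := by rw [← ha, hna]

/-- `u` an involution of `C(z)`, `L` a subgroup of `C(z)` centralising `u` modulo `O(C(z))` -/
theorem le_M {z : G} {M L : Subgroup G} (hX : XX z ≤ M) {u : G} (huu : u * u = 1) (hL : L ≤ centralizer {z})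
    (hC : ∀ g, g * z = z * g → g * u = u * g → g ∈ M) (hc : ∀ k ∈ L, k * u * k⁻¹ * u⁻¹ ∈ XX z) : L ≤ M := by
  intro k hk
  have hui : u⁻¹ = u := inv_eq_of_mul_eq_one_right huu
  have h1 := hc k hk
  rw [hui] at h1
  have h2 : k * u * k⁻¹ * (k * u * k⁻¹) = 1 := by
    calc k * u * k⁻¹ * (k * u * k⁻¹) = k * (u * u) * k⁻¹ := by group
      _ = 1 := by rw [huu]; group
  obtain ⟨n, hn, hnu⟩ := inv_conj h2 huu (odd_orderOf (odd_XX _) h1)
  have hnX : n ∈ XX z := (zpowers_le.2 h1) hn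
  have h3 : n * k ∈ M := by
    refine hC _ (mem_centralizer_singleton_iff.1 (mul_mem (XX_le _ hnX) (hL hk))) ?_
    have h4 : n * k * u * (n * k)⁻¹ = u := by
      calc n * k * u * (n * k)⁻¹ = n * (k * u * k⁻¹) * n⁻¹ := by group
        _ = u := hnu
    rwa [mul_inv_eq_iff_eq_mul] at h4
  have h5 := mul_mem (inv_mem (hX hnX)) h3
  rwa [inv_mul_cancel_left] at h5

/-- members of the pair `i, j` are in `M` if the centralisers of `⟨z, x_k x_l⟩` are -/
theorem K_le_M (c : Cfg Om S K x) (e : EqFour Om) {M : Subgroup G} (hX : XX (zz (K 0)) ≤ M) {i k l : Fin 4}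
    (hik : i ≠ k) (hil : i ≠ l)
    (hC : ∀ g, g * zz (K 0) = zz (K 0) * g → g * (x k * x l) = x k * x l * g → g ∈ M) : K i ≤ M := by
  have hKC := le_C c e
  refine le_M hX (c.mul_sq e k l) (hKC i) hC fun a ha => ?_
  have haC := hKC i ha
  have h1 : qm (centralizer {zz (K 0)}) (⟨a, haC⟩ * (⟨x k, hKC k (c.mem k).1⟩ * ⟨x l, hKC l (c.mem l).1⟩) * ⟨a, haC⟩⁻¹ *
      (⟨x k, hKC k (c.mem k).1⟩ * ⟨x l, hKC l (c.mem l).1⟩)⁻¹) = 1 := by
    have e1 := qm_comm c e hik (a := ⟨a, haC⟩) (b := ⟨x k, hKC k (c.mem k).1⟩) ha (c.mem k).1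
    have e2 := qm_comm c e hil (a := ⟨a, haC⟩) (b := ⟨x l, hKC l (c.mem l).1⟩) ha (c.mem l).1
    rw [map_mul, map_mul, map_mul, map_inv, map_inv, mul_inv_eq_one, mul_inv_eq_iff_eq_mul, map_mul, ← mul_assoc, e1,
      mul_assoc, e2, ← mul_assoc]
  exact qm_one.1 h1

/-- `C(z) ≤ M` -/
theorem C_le_M (c : Cfg Om S K x) (e : EqFour Om) {M : Subgroup G} (hX : XX (zz (K 0)) ≤ M) (hK : ∀ i, K i ≤ M)
    (hC : ∀ g, g * zz (K 0) = zz (K 0) * g → g * pr x = pr x * g → g ∈ M) : centralizer {zz (K 0)} ≤ M := by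
  have h := e.hyp
  intro g hg
  have hgz := mem_centralizer_singleton_iff.1 hg
  have hgz' : g * zz (K 0) * g⁻¹ = zz (K 0) := by rw [hgz, mul_inv_cancel_right]
  have h1 : ∀ i, ∃ j, K j = cj g (K i) := fun i =>
    c.all e (h.conj _ (c.memS i).1 g) (by rw [h.zz_cj (c.memS i).1, c.zz_eq e i, hgz'])
  choose σ hσ using h1
  have hinj : Function.Injective σ := by
    intro i j hij
    apply c.inj
    rw [← cj_inj (g := g), ← hσ i, ← hσ j, hij]
  let τ : Equiv.Perm (Fin 4) := Equiv.ofBijective σ (Finite.injective_iff_bijective.1 hinj)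
  obtain ⟨y, hy⟩ : ∃ y : Fin 4 → G, y = fun j => g * x (τ.symm j) * g⁻¹ := ⟨_, rfl⟩
  have hcomm : ∀ i j, (fun j => g * x j * g⁻¹) i * (fun j => g * x j * g⁻¹) j =
      (fun j => g * x j * g⁻¹) j * (fun j => g * x j * g⁻¹) i := by
    intro i j
    have h2 := c.comm e i j
    show g * x i * g⁻¹ * (g * x j * g⁻¹) = g * x j * g⁻¹ * (g * x i * g⁻¹)
    calc g * x i * g⁻¹ * (g * x j * g⁻¹) = g * (x i * x j) * g⁻¹ := by group
      _ = g * (x j * x i) * g⁻¹ := by rw [h2]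
      _ = _ := by group
  have hpy : pr y = g * pr x * g⁻¹ := by
    have h2 : y = (fun j => g * x j * g⁻¹) ∘ τ.symm := by rw [hy]; rfl
    rw [h2, pr_perm hcomm]
    exact (EqHad.Xs.conj_pr g fun i => rfl).symm
  have hss : pr x * pr x = 1 := (c.e3 e).ss
  obtain ⟨m, hm, hmz, hmy⟩ := exists_m c e hX hK (y := y) (fun j => by
      rw [hy]
      have h2 := hσ (τ.symm j)
      have h3 : σ (τ.symm j) = j := τ.apply_symm_apply j
      rw [h3] at h2
      rw [h2]
      exact conj_mem_cj (c.mem _).1) (fun j => by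
      rw [hy]
      exact ((MulAut.conj g).orderOf_eq _).trans (c.four (τ.symm j))) (by
      rw [hpy]
      calc g * pr x * g⁻¹ * (g * pr x * g⁻¹) = g * (pr x * pr x) * g⁻¹ := by group
        _ = 1 := by rw [hss]; group)
  have h4 : m * g ∈ M := by
    refine hC _ ?_ ?_
    · rw [mul_assoc, hgz, ← mul_assoc, hmz, mul_assoc]
    · rw [hpy] at hmy
      have h5 : m * g * pr x * (m * g)⁻¹ = pr x := by
        calc m * g * pr x * (m * g)⁻¹ = m * (g * pr x * g⁻¹) * m⁻¹ := by group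
          _ = pr x := hmy
      rwa [mul_inv_eq_iff_eq_mul] at h5
  have h5 := mul_mem (inv_mem hm) h4
  rwa [inv_mul_cancel_left] at h5

/-- **(5)** `C(x₀ x₁) ≤ M` -/
theorem C_two_le_M (c : Cfg Om S K x) (e : EqFour Om) (hG : GenStmt Om) {M : Subgroup G}
    (hz : centralizer {zz (K 0)} ≤ M)
    (hs : ∀ y : Fin 4 → G, Cfg Om S K y → centralizer {pr y} ≤ M) : centralizer {x 0 * x 1} ≤ M := by
  obtain ⟨H, hH⟩ : ∃ H : Subgroup G, H = centralizer ({x 0 * x 1} : Set G) := ⟨_, rfl⟩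
  have e3 := c.e3 e
  have hzH : zz (K 0) ∈ centralizer ({x 0 * x 1} : Set G) := mem_centralizer_singleton_iff.2 e3.zt
  have hsH : pr x ∈ centralizer ({x 0 * x 1} : Set G) := mem_centralizer_singleton_iff.2 e3.ts.symm
  have hmap : ∀ q : centralizer ({x 0 * x 1} : Set G), (q : G) * q = 1 → centralizer {(q : G)} ≤ M →
      centralizer {qm (centralizer ({x 0 * x 1} : Set G)) q} ≤
        (M.subgroupOf (centralizer ({x 0 * x 1} : Set G))).map (qm (centralizer ({x 0 * x 1} : Set G))) := by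
    intro q hq hC
    rw [← Cit.centralizer_map (qm_surjective _) (not_dvd_ker _) (z := q) (Subtype.ext hq)]
    refine Subgroup.map_mono fun g hg => ?_
    refine hC (mem_centralizer_singleton_iff.2 ?_)
    exact congrArg Subtype.val (mem_centralizer_singleton_iff.1 hg)
  have htop := hG S K x c ((M.subgroupOf (centralizer ({x 0 * x 1} : Set G))).map
    (qm (centralizer ({x 0 * x 1} : Set G)))) (fun q hq => hmap q (by rw [hq]; exact e3.zz) (by rw [hq]; exact hz))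
    (fun r hr hr4 r' hr' hr'4 q hq => by
      have c' : Cfg Om S K ![x 0, x 1, r, r'] := by
        refine c.replace (fun i => ?_) (fun i => ?_)
        · fin_cases i
          · exact c.mem 0
          · exact c.mem 1
          · exact hr
          · exact hr'
        · fin_cases i
          · exact c.four 0
          · exact c.four 1
          · exact hr4
          · exact hr'4
      have h1 : (q : G) = pr ![x 0, x 1, r, r'] := hq
      refine hmap q ?_ ?_
      · rw [h1]; exact (c'.e3 e).ss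
      · rw [h1]; exact hs _ c')
  have hO : OO (centralizer ({x 0 * x 1} : Set G)) ≤ M := by
    refine OO_le_of_four hzH hsH e3.zz e3.ss e3.zs hz (hs x c) ?_
    have h1 : zz (K 0) * pr x = pr (Function.update x 0 (x 0)⁻¹) := by
      have h2 := c.inv_eq e 0
      simp only [pr, Function.update_self, h2]
      rw [Function.update_of_ne (by decide), Function.update_of_ne (by decide), Function.update_of_ne (by decide)]
      group
    rw [h1]
    exact hs _ (c.neg 0)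
  intro g hg
  have h1 : qm (centralizer ({x 0 * x 1} : Set G)) ⟨g, hg⟩ ∈
      (M.subgroupOf (centralizer ({x 0 * x 1} : Set G))).map (qm (centralizer ({x 0 * x 1} : Set G))) := by
    rw [htop]; exact mem_top _
  obtain ⟨m, hm, hmg⟩ := h1
  have h2 : qm (centralizer ({x 0 * x 1} : Set G)) (m⁻¹ * ⟨g, hg⟩) = 1 := by
    rw [map_mul, map_inv, hmg, inv_mul_cancel]
  have h3 := hO (qm_one.1 h2)
  have h4 := mul_mem (show (m : G) ∈ M from hm) h3
  have h5 : (m : G) * ((m⁻¹ * ⟨g, hg⟩ : centralizer ({x 0 * x 1} : Set G)) : G) = g := by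
    push_cast
    group
  rwa [h5] at h4

/-- the elements of `D(S)` -/
theorem exists_of_DD (c : Cfg Om S K x) (e : EqFour Om) {f : G} (hf : f ∈ DD Om (S : Subgroup G)) :
    ∃ q : Fin 4 → G, (∀ i, q i ∈ K i ⊓ (S : Subgroup G)) ∧ f = pr q := by
  have h1 : DD Om (S : Subgroup G) ≤ (((K 0 ⊓ (S : Subgroup G)) ⊔ (K 1 ⊓ (S : Subgroup G))) ⊔
      (K 2 ⊓ (S : Subgroup G))) ⊔ (K 3 ⊓ (S : Subgroup G)) := by
    rw [DD_le_iff]
    intro L hL
    obtain ⟨i, rfl⟩ := c.all e hL.1 ((e.eqz S _ hL _ (c.memS 0)))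
    revert i
    refine fin4 ?_ ?_ ?_ ?_
    · intro _; exact (le_sup_left.trans le_sup_left).trans le_sup_left
    · intro _; exact (le_sup_right.trans le_sup_left).trans le_sup_left
    · intro _; exact le_sup_right.trans le_sup_left
    · intro _; exact le_sup_right
  have hn : ∀ i j : Fin 4, i ≠ j → (K i ⊓ (S : Subgroup G) : Subgroup G) ≤
      normalizer ((K j ⊓ (S : Subgroup G) : Subgroup G) : Set G) := fun i j hij a ha =>
    OneBasic.mem_normalizer_of_cent fun b hb => c.commQ e hij ha hb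
  obtain ⟨a, ha, q3, h3, rfl⟩ := OneBasic.exists_mul_of_mem_sup
    (sup_le (sup_le (hn 0 3 (by decide)) (hn 1 3 (by decide))) (hn 2 3 (by decide))) (h1 hf)
  obtain ⟨b, hb, q2, h2, rfl⟩ := OneBasic.exists_mul_of_mem_sup (sup_le (hn 0 2 (by decide)) (hn 1 2 (by decide))) ha
  obtain ⟨q0, h0, q1, h1', rfl⟩ := OneBasic.exists_mul_of_mem_sup (hn 0 1 (by decide)) hb
  refine ⟨![q0, q1, q2, q3], fun i => ?_, rfl⟩
  fin_cases i
  · exact h0
  · exact h1'
  · exact h2
  · exact h3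

/-- elements of `K i ⊓ S` with central square -/
theorem sq_cases (c : Cfg Om S K x) (e : EqFour Om) {q : Fin 4 → G} (hq : ∀ i, q i ∈ K i ⊓ (S : Subgroup G))
    (h1 : pr q * pr q = 1) (i : Fin 4) :
    ((q i = 1 ∨ q i = zz (K 0)) ∧ q i * q i = 1) ∨ (orderOf (q i) = 4 ∧ q i * q i = zz (K 0)) := by
  have h := e.hyp
  have hc : ∀ i j, q i * q j = q j * q i := by
    intro i j
    by_cases hij : i = j
    · rw [hij]
    · exact c.commQ e hij (hq i) (hq j)
  -- the square is a product of elements commuting with `K i ⊓ S`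
  have hcen : ∀ u ∈ K i ⊓ (S : Subgroup G), (q i * q i) * u = u * (q i * q i) := by
    intro u hu
    have hu' : ∀ j, j ≠ i → Commute u (q j) := fun j hj => c.commQ e hj.symm hu (hq j)
    have hsq : pr q * pr q = (q 0 * q 0) * (q 1 * q 1) * (q 2 * q 2) * (q 3 * q 3) := by
      have c01 := hc 0 1
      have c02 := hc 0 2
      have c03 := hc 0 3
      have c12 := hc 1 2
      have c13 := hc 1 3
      have c23 := hc 2 3
      unfold pr
      calc q 0 * q 1 * q 2 * q 3 * (q 0 * q 1 * q 2 * q 3) = q 0 * q 1 * q 2 * (q 3 * q 0) * q 1 * q 2 * q 3 := by group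
        _ = q 0 * q 1 * (q 2 * q 0) * q 3 * q 1 * q 2 * q 3 := by rw [← c03]; group
        _ = q 0 * (q 1 * q 0) * q 2 * q 3 * q 1 * q 2 * q 3 := by rw [← c02]; group
        _ = q 0 * q 0 * q 1 * q 2 * (q 3 * q 1) * q 2 * q 3 := by rw [← c01]; group
        _ = q 0 * q 0 * q 1 * (q 2 * q 1) * q 3 * q 2 * q 3 := by rw [← c13]; group
        _ = q 0 * q 0 * q 1 * q 1 * q 2 * (q 3 * q 2) * q 3 := by rw [← c12]; group
        _ = (q 0 * q 0) * (q 1 * q 1) * (q 2 * q 2) * (q 3 * q 3) := by rw [← c23]; group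
    rw [hsq] at h1
    have e1 : ∀ j, j ≠ i → Commute u (q j * q j) := fun j hj => (hu' j hj).mul_right (hu' j hj)
    have h2 : Commute u (q i * q i) := by
      have e2 : (q 0 * q 0) * ((q 1 * q 1) * (q 2 * q 2) * (q 3 * q 3)) = 1 := by rw [← h1]; group
      have e3 : (q 0 * q 0) * (q 1 * q 1) * ((q 2 * q 2) * (q 3 * q 3)) = 1 := by rw [← h1]; group
      revert hu' e1
      clear hu
      revert i
      refine fin4 ?_ ?_ ?_ ?_
      · intro _ e1
        rw [eq_inv_of_mul_eq_one_left e2]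
        exact (((e1 1 (by decide)).mul_right (e1 2 (by decide))).mul_right (e1 3 (by decide))).inv_right
      · intro _ e1
        have e4 : q 1 * q 1 = (q 0 * q 0)⁻¹ * ((q 2 * q 2) * (q 3 * q 3))⁻¹ := by
          rw [← eq_inv_mul_iff_mul_eq.2 (eq_inv_of_mul_eq_one_left e3)]
        rw [e4]
        exact (e1 0 (by decide)).inv_right.mul_right ((e1 2 (by decide)).mul_right (e1 3 (by decide))).inv_right
      · intro _ e1
        have e4 : q 2 * q 2 = ((q 0 * q 0) * (q 1 * q 1))⁻¹ * (q 3 * q 3)⁻¹ := by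
          have e5 := eq_inv_of_mul_eq_one_right e3
          rw [← e5, mul_inv_cancel_right]
        rw [e4]
        exact ((e1 0 (by decide)).mul_right (e1 1 (by decide))).inv_right.mul_right (e1 3 (by decide)).inv_right
      · intro _ e1
        rw [eq_inv_of_mul_eq_one_right h1]
        exact (((e1 0 (by decide)).mul_right (e1 1 (by decide))).mul_right (e1 2 (by decide))).inv_right
    exact h2.symm.eq
  obtain ⟨c', v, n, hg⟩ := h.exists_gq (c.memS i).1 (syl_inf S.isPGroup' (c.memS i))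
  have hz := c.zz_eq e i
  rcases CoresH.GQ_center hg (mul_mem (hq i) (hq i)) hcen with h2 | h2
  · left
    refine ⟨?_, h2⟩
    by_cases h3 : q i = 1
    · exact Or.inl h3
    · right
      rw [← hz]
      exact h.eq_zz (c.memS i).1 (hq i).1 h2 h3
  · right
    exact ⟨h.orderOf_of_sq (c.memS i).1 h2, by rw [h2, hz]⟩

/-! ### The subgroup `M = N(D)` -/

theorem two_ne (c : Cfg Om S K x) (e : EqFour Om) {i j : Fin 4} (hij : i ≠ j) :
    x i * x j ≠ 1 ∧ x i * x j ≠ zz (K 0) := by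
  have h1 : ∀ u ∈ K i ⊓ (S : Subgroup G), u * x j = x j * u := fun u hu => c.commQ e hij hu (c.mem j)
  exact ⟨c.mul_ne e i h1 (fun u _ => by rw [mul_one, one_mul]), c.mul_ne e i h1 (fun u hu => c.z_comm e hu.2)⟩

theorem pr_ne (c : Cfg Om S K x) (e : EqFour Om) : pr x ≠ 1 ∧ pr x ≠ zz (K 0) := by
  have h0 : ∀ u ∈ K 0 ⊓ (S : Subgroup G), u * (x 1 * x 2 * x 3) = (x 1 * x 2 * x 3) * u := by
    intro u hu
    have h1 : ∀ j, j ≠ 0 → Commute u (x j) := fun j hj => c.commQ e hj.symm hu (c.mem j)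
    exact (((h1 1 (by decide)).mul_right (h1 2 (by decide))).mul_right (h1 3 (by decide))).eq
  have hs0 : pr x = x 0 * (x 1 * x 2 * x 3) := by unfold pr; group
  rw [hs0]
  exact ⟨c.mul_ne e 0 h0 (fun u _ => by rw [mul_one, one_mul]), c.mul_ne e 0 h0 (fun u hu => c.z_comm e hu.2)⟩

section Main

open TorFunctor

/-- the centraliser of two different involutions of `A` is in `M` -/
theorem kl_le {z t s : G} (h : Tor (AA z t s)) {a b : G} (ha : a ∈ AA z t s) (hb : b ∈ AA z t s) (ha1 : a ≠ 1)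
    (hb1 : b ≠ 1) (hab : a ≠ b) {g : G} (hga : g * a = a * g) (hgb : g * b = b * g) :
    g ∈ normalizer (DF (AA z t s) : Set G) := by
  have hle : kl a b (h.mul_self ha) (h.mul_self hb) (h.comm a ha b hb) ≤ AA z t s := by
    rintro y (rfl | rfl | rfl | rfl)
    · exact one_mem _
    · exact ha
    · exact hb
    · exact mul_mem ha hb
  refine h.centralizer_le hle (card_kl _ _ _ ha1 hb1 hab).ge (mem_centralizer_iff.2 ?_)
  rintro y (rfl | rfl | rfl | rfl)
  · rw [one_mul, mul_one]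
  · exact hga.symm
  · exact hgb.symm
  · rw [mul_assoc, ← hgb, ← mul_assoc, ← hga, mul_assoc]

/-- **(4)**, first part -/
theorem step4 (c : Cfg Om S K x) (e : EqFour Om)
    (h : Tor (AA (zz (K 0)) (x 0 * x 1) (x 0 * x 1 * x 2 * x 3))) :
    (XX (zz (K 0)) ≤ normalizer (DF (AA (zz (K 0)) (x 0 * x 1) (x 0 * x 1 * x 2 * x 3)) : Set G)) ∧
    (∀ i, K i ≤ normalizer (DF (AA (zz (K 0)) (x 0 * x 1) (x 0 * x 1 * x 2 * x 3)) : Set G)) ∧
    (centralizer {zz (K 0)} ≤ normalizer (DF (AA (zz (K 0)) (x 0 * x 1) (x 0 * x 1 * x 2 * x 3)) : Set G)) ∧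
    (centralizer {pr x} ≤ normalizer (DF (AA (zz (K 0)) (x 0 * x 1) (x 0 * x 1 * x 2 * x 3)) : Set G)) := by
  have hzA := z_mem (zz (K 0)) (x 0 * x 1) (x 0 * x 1 * x 2 * x 3)
  have htA := t_mem (zz (K 0)) (x 0 * x 1) (x 0 * x 1 * x 2 * x 3)
  have hsA := s_mem (zz (K 0)) (x 0 * x 1) (x 0 * x 1 * x 2 * x 3)
  have e3 := c.e3 e
  have h23 : x 2 * x 3 = (x 0 * x 1) * (x 0 * x 1 * x 2 * x 3) := by
    calc x 2 * x 3 = (x 0 * x 1 * (x 0 * x 1)) * (x 2 * x 3) := by rw [e3.tt, one_mul]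
      _ = _ := by group
  have ht'A : x 2 * x 3 ∈ AA (zz (K 0)) (x 0 * x 1) (x 0 * x 1 * x 2 * x 3) := by
    rw [h23]; exact mul_mem htA hsA
  have hX := h.XX_le_normalizer_DF hzA (c.zz_ne e)
  have n01 := two_ne c e (i := 0) (j := 1) (by decide)
  have n23 := two_ne c e (i := 2) (j := 3) (by decide)
  have ns := pr_ne c e
  have hK : ∀ i, K i ≤ normalizer (DF (AA (zz (K 0)) (x 0 * x 1) (x 0 * x 1 * x 2 * x 3)) : Set G) := by
    refine fin4 ?_ ?_ ?_ ?_
    · exact K_le_M c e hX (k := 2) (l := 3) (by decide) (by decide)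
        fun g h1 h2 => kl_le h hzA ht'A (c.zz_ne e) n23.1 n23.2.symm h1 h2
    · exact K_le_M c e hX (k := 2) (l := 3) (by decide) (by decide)
        fun g h1 h2 => kl_le h hzA ht'A (c.zz_ne e) n23.1 n23.2.symm h1 h2
    · exact K_le_M c e hX (k := 0) (l := 1) (by decide) (by decide)
        fun g h1 h2 => kl_le h hzA htA (c.zz_ne e) n01.1 n01.2.symm h1 h2
    · exact K_le_M c e hX (k := 0) (l := 1) (by decide) (by decide)
        fun g h1 h2 => kl_le h hzA htA (c.zz_ne e) n01.1 n01.2.symm h1 h2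
  have hCz := C_le_M c e hX hK fun g h1 h2 => kl_le h hzA hsA (c.zz_ne e) ns.1 ns.2.symm h1 h2
  refine ⟨hX, hK, hCz, ?_⟩
  obtain ⟨n, -, hnt, -, hnz, hns, -, -⟩ := EqHad.exists_swap e S (toXs c) rfl (i := 0) (j := 1) (by decide)
  have hnA : n ∈ normalizer (AA (zz (K 0)) (x 0 * x 1) (x 0 * x 1 * x 2 * x 3) : Set G) := by
    rw [mem_normalizer_iff_cj, cj_AA]
    have e1 : n * (x 0 * x 1) * n⁻¹ = x 0 * x 1 := by rw [hnt, mul_inv_cancel_right]
    have e2 : n * (x 0 * x 1 * x 2 * x 3) * n⁻¹ = x 0 * x 1 * x 2 * x 3 * zz (K 0) := hns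
    have e4 : n * zz (K 0) * n⁻¹ = x 0 * x 1 * x 2 * x 3 := hnz
    rw [e1, e2, e4]
    refine AA_eq_of hsA htA (mul_mem hsA hzA) ?_ (t_mem _ _ _) (z_mem _ _ _)
    have h1 := mul_mem (z_mem (x 0 * x 1 * x 2 * x 3) (x 0 * x 1) (x 0 * x 1 * x 2 * x 3 * zz (K 0)))
      (s_mem (x 0 * x 1 * x 2 * x 3) (x 0 * x 1) (x 0 * x 1 * x 2 * x 3 * zz (K 0)))
    rwa [← mul_assoc, e3.ss, one_mul] at h1
  have hnM := h.normalizer_le le_rfl (le_trans (by norm_num) h.card) hnA
  intro g hg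
  have hg' := mem_centralizer_singleton_iff.1 hg
  have h1 : n⁻¹ * g * n ∈ centralizer ({zz (K 0)} : Set G) := by
    rw [mem_centralizer_singleton_iff]
    calc n⁻¹ * g * n * zz (K 0) = n⁻¹ * (g * (n * zz (K 0) * n⁻¹)) * n := by group
      _ = n⁻¹ * (pr x * g) * n := by rw [hnz, hg']
      _ = n⁻¹ * (n * zz (K 0) * n⁻¹ * g) * n := by rw [hnz]
      _ = _ := by group
  have h2 := mul_mem (mul_mem hnM (hCz h1)) (inv_mem hnM)
  have h3 : n * (n⁻¹ * g * n) * n⁻¹ = g := by group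
  rwa [h3] at h2

/-- the hypotheses for the last part -/
structure MM (Om : Set (Subgroup G)) (S : Sylow 2 G) (K : Fin 4 → Subgroup G) (M : Subgroup G) : Prop where
  z : centralizer {zz (K 0)} ≤ M
  s : ∀ y : Fin 4 → G, Cfg Om S K y → centralizer {pr y} ≤ M

theorem mm (c : Cfg Om S K x) (e : EqFour Om)
    (h : Tor (AA (zz (K 0)) (x 0 * x 1) (x 0 * x 1 * x 2 * x 3))) :
    MM Om S K (normalizer (DF (AA (zz (K 0)) (x 0 * x 1) (x 0 * x 1 * x 2 * x 3)) : Set G)) := by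
  obtain ⟨hX, hK, hz, hs⟩ := step4 c e h
  refine ⟨hz, fun y hy g hg => ?_⟩
  obtain ⟨m, hm, -, hmy⟩ := exists_m c e hX hK (fun i => (hy.mem i).1) hy.four (hy.e3 e).ss
  have hg' := mem_centralizer_singleton_iff.1 hg
  have h1 : m * g * m⁻¹ ∈ centralizer ({pr x} : Set G) := by
    rw [mem_centralizer_singleton_iff, ← hmy]
    calc m * g * m⁻¹ * (m * pr y * m⁻¹) = m * (g * pr y) * m⁻¹ := by group
      _ = m * (pr y * g) * m⁻¹ := by rw [hg']
      _ = _ := by group
  have h2 := mul_mem (mul_mem (inv_mem hm) (hs h1)) hm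
  have h3 : m⁻¹ * (m * g * m⁻¹) * m = g := by group
  rwa [h3] at h2

end Main

/-- change of the order of the members -/
theorem MM.perm {M : Subgroup G} (m : MM Om S K M) (c : Cfg Om S K x) (e : EqFour Om) (σ : Equiv.Perm (Fin 4)) :
    MM Om S (K ∘ σ) M := by
  refine ⟨?_, fun y hy => ?_⟩
  · have h1 : zz ((K ∘ σ) 0) = zz (K 0) := c.zz_eq e (σ 0)
    rw [h1]; exact m.z
  · have h1 := hy.perm σ.symm
    have h2 : (K ∘ σ) ∘ σ.symm = K := by
      funext i
      simp only [Function.comp_apply, Equiv.apply_symm_apply]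
    rw [h2] at h1
    have h3 := m.s _ h1
    rwa [pr_perm (fun i j => hy.comm e i j)] at h3

theorem exists_perm : ∀ i j : Fin 4, i ≠ j → ∃ σ : Equiv.Perm (Fin 4), σ 0 = i ∧ σ 1 = j := by
  decide

/-- **(5)** -/
theorem MM.two {M : Subgroup G} (m : MM Om S K M) (c : Cfg Om S K x) (e : EqFour Om) (hG : GenStmt Om) {i j : Fin 4}
    (hij : i ≠ j) {y y' : G} (hy : y ∈ K i ⊓ (S : Subgroup G)) (hy4 : orderOf y = 4)
    (hy' : y' ∈ K j ⊓ (S : Subgroup G)) (hy'4 : orderOf y' = 4) : centralizer {y * y'} ≤ M := by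
  obtain ⟨σ, h0, h1⟩ := exists_perm i j hij
  have c1 : Cfg Om S K (Function.update (Function.update x i y) j y') := by
    refine c.replace (fun k => ?_) (fun k => ?_)
    · by_cases hk : k = j
      · subst hk; rw [Function.update_self]; exact hy'
      · rw [Function.update_of_ne hk]
        by_cases hk' : k = i
        · subst hk'; rw [Function.update_self]; exact hy
        · rw [Function.update_of_ne hk']; exact c.mem k
    · by_cases hk : k = j
      · subst hk; rw [Function.update_self]; exact hy'4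
      · rw [Function.update_of_ne hk]
        by_cases hk' : k = i
        · subst hk'; rw [Function.update_self]; exact hy4
        · rw [Function.update_of_ne hk']; exact c.four k
  have m1 := m.perm c e σ
  have h2 := C_two_le_M (c1.perm σ) e hG m1.z m1.s
  have h3 : (Function.update (Function.update x i y) j y' ∘ σ) 0 = y := by
    rw [Function.comp_apply, h0, Function.update_of_ne hij, Function.update_self]
  have h4 : (Function.update (Function.update x i y) j y' ∘ σ) 1 = y' := by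
    rw [Function.comp_apply, h1, Function.update_self]
  rwa [h3, h4] at h2

/-- two factors of order four, the others `1` or `z` -/
theorem MM.four {M : Subgroup G} (m : MM Om S K M) (c : Cfg Om S K x) (e : EqFour Om) (hG : GenStmt Om)
    {q : Fin 4 → G} (hq : ∀ i, q i ∈ K i ⊓ (S : Subgroup G)) (σ : Equiv.Perm (Fin 4))
    (h0 : orderOf (q (σ 0)) = 4) (h1 : orderOf (q (σ 1)) = 4) (h2 : q (σ 2) = 1 ∨ q (σ 2) = zz (K 0))
    (h3 : q (σ 3) = 1 ∨ q (σ 3) = zz (K 0)) : centralizer {pr q} ≤ M := by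
  have hc : ∀ i j, q i * q j = q j * q i := by
    intro i j
    by_cases hij : i = j
    · rw [hij]
    · exact c.commQ e hij (hq i) (hq j)
  have hzz := c.zz_mul e
  have h01 : σ 0 ≠ σ 1 := fun h => absurd (σ.injective h) (by decide)
  have h4 : ∃ w, (w = 1 ∨ w = zz (K 0)) ∧ pr q = q (σ 0) * (q (σ 1) * w) := by
    refine ⟨q (σ 2) * q (σ 3), ?_, ?_⟩
    · rcases h2 with h2 | h2 <;> rcases h3 with h3 | h3 <;> rw [h2, h3]
      · left; rw [mul_one]
      · right; rw [one_mul]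
      · right; rw [mul_one]
      · left; exact hzz
    · rw [← pr_perm hc σ]
      simp only [pr, Function.comp_apply]
      group
  obtain ⟨w, hw, h5⟩ := h4
  rw [h5]
  have hzm : zz (K 0) ∈ K (σ 1) ⊓ (S : Subgroup G) := by
    rw [← c.zz_eq e (σ 1)]
    exact e.hyp.zz_mem_inf S.isPGroup' (c.memS (σ 1))
  refine m.two c e hG h01 (hq _) h0 (mul_mem (hq _) ?_) ?_
  · rcases hw with rfl | rfl
    · exact one_mem _
    · exact hzm
  · rcases hw with rfl | rfl
    · rw [mul_one]; exact h1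
    · refine e.hyp.orderOf_of_sq (c.memS (σ 1)).1 ?_
      have h6 := c.z_comm e (hq (σ 1)).2
      have h7 := e.hyp.sq_eq_zz (c.memS (σ 1)).1 (hq (σ 1)).1 h1
      calc q (σ 1) * zz (K 0) * (q (σ 1) * zz (K 0)) = q (σ 1) * (zz (K 0) * q (σ 1)) * zz (K 0) := by group
        _ = q (σ 1) * q (σ 1) * (zz (K 0) * zz (K 0)) := by rw [← h6]; group
        _ = zz (K (σ 1)) := by rw [h7, hzz, mul_one]

theorem sq_pr {q : Fin 4 → G} (hc : ∀ i j, q i * q j = q j * q i) :
    pr q * pr q = (q 0 * q 0) * (q 1 * q 1) * (q 2 * q 2) * (q 3 * q 3) := by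
  have c01 := hc 0 1
  have c02 := hc 0 2
  have c03 := hc 0 3
  have c12 := hc 1 2
  have c13 := hc 1 3
  have c23 := hc 2 3
  unfold pr
  calc q 0 * q 1 * q 2 * q 3 * (q 0 * q 1 * q 2 * q 3) = q 0 * q 1 * q 2 * (q 3 * q 0) * q 1 * q 2 * q 3 := by group
    _ = q 0 * q 1 * (q 2 * q 0) * q 3 * q 1 * q 2 * q 3 := by rw [← c03]; group
    _ = q 0 * (q 1 * q 0) * q 2 * q 3 * q 1 * q 2 * q 3 := by rw [← c02]; group
    _ = q 0 * q 0 * q 1 * q 2 * (q 3 * q 1) * q 2 * q 3 := by rw [← c01]; group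
    _ = q 0 * q 0 * q 1 * (q 2 * q 1) * q 3 * q 2 * q 3 := by rw [← c13]; group
    _ = q 0 * q 0 * q 1 * q 1 * q 2 * (q 3 * q 2) * q 3 := by rw [← c12]; group
    _ = (q 0 * q 0) * (q 1 * q 1) * (q 2 * q 2) * (q 3 * q 3) := by rw [← c23]; group

/-- the centralisers of the involutions of `D(S)` are in `M` -/
theorem MM.good {M : Subgroup G} (m : MM Om S K M) (c : Cfg Om S K x) (e : EqFour Om) (hG : GenStmt Om)
    {f : G} (hf : f ∈ DD Om (S : Subgroup G)) (hff : f * f = 1) (hf1 : f ≠ 1) : centralizer {f} ≤ M := by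
  obtain ⟨q, hq, rfl⟩ := exists_of_DD c e hf
  have hc : ∀ i j, q i * q j = q j * q i := by
    intro i j
    by_cases hij : i = j
    · rw [hij]
    · exact c.commQ e hij (hq i) (hq j)
  have hzz := c.zz_mul e
  have hz1 := c.zz_ne e
  have hsq := hff
  rw [sq_pr hc] at hsq
  rcases sq_cases c e hq hff 0 with ⟨a0, b0⟩ | ⟨a0, b0⟩ <;> rcases sq_cases c e hq hff 1 with ⟨a1, b1⟩ | ⟨a1, b1⟩ <;>
    rcases sq_cases c e hq hff 2 with ⟨a2, b2⟩ | ⟨a2, b2⟩ <;>
    rcases sq_cases c e hq hff 3 with ⟨a3, b3⟩ | ⟨a3, b3⟩ <;> rw [b0, b1, b2, b3] at hsq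
  -- none
  · have h1 : pr q = 1 ∨ pr q = zz (K 0) := by
      have h2 : ∀ a b : G, (a = 1 ∨ a = zz (K 0)) → (b = 1 ∨ b = zz (K 0)) → (a * b = 1 ∨ a * b = zz (K 0)) := by
        rintro a b (rfl | rfl) (rfl | rfl)
        · left; exact one_mul _
        · right; exact one_mul _
        · right; exact mul_one _
        · left; exact hzz
      exact h2 _ _ (h2 _ _ (h2 _ _ a0 a1) a2) a3
    rcases h1 with h1 | h1
    · exact absurd h1 hf1
    · rw [h1]; exact m.z
  · exact absurd (by simpa using hsq) hz1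
  · exact absurd (by simpa using hsq) hz1
  · exact m.four c e hG hq (Equiv.swap 0 2 * Equiv.swap 1 3) a2 a3 a0 a1
  · exact absurd (by simpa using hsq) hz1
  · exact m.four c e hG hq (Equiv.swap 0 3) a3 a1 a2 a0
  · exact m.four c e hG hq (Equiv.swap 0 2) a2 a1 a0 a3
  · exact absurd (by simpa [mul_assoc, hzz] using hsq) hz1
  · exact absurd (by simpa using hsq) hz1
  · exact m.four c e hG hq (Equiv.swap 1 3) a0 a3 a2 a1
  · exact m.four c e hG hq (Equiv.swap 1 2) a0 a2 a1 a3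
  · exact absurd (by simpa [mul_assoc, hzz] using hsq) hz1
  · exact m.four c e hG hq 1 a0 a1 a2 a3
  · exact absurd (by simpa [mul_assoc, hzz] using hsq) hz1
  · exact absurd (by simpa [mul_assoc, hzz] using hsq) hz1
  · exact m.s q (c.replace hq (fin4 a0 a1 a2 a3))

/-- `Big Om M` -/
theorem MM.big {M : Subgroup G} (m : MM Om S K M) (c : Cfg Om S K x) (e : EqFour Om) (hG : GenStmt Om) : Big Om M := by
  have hSM : (S : Subgroup G) ≤ M := fun g hg => m.z (mem_centralizer_singleton_iff.2 (c.z_comm e hg))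
  refine ⟨⟨S, hSM⟩, fun R hRM f hf hff hf1 => ?_⟩
  obtain ⟨n, hn, hR⟩ := CloseFus.exists_le_cj_of_le S hSM R.isPGroup' hRM
  have h1 : (R : Subgroup G) = cj n (S : Subgroup G) := (R.is_maximal' (isPGroup_cj S.isPGroup') hR).symm
  rw [h1, ← cj_DD e.hyp.conj, mem_cj] at hf
  have h2 : centralizer {n⁻¹ * f * n} ≤ M := by
    refine m.good c e hG hf ?_ ?_
    · calc n⁻¹ * f * n * (n⁻¹ * f * n) = n⁻¹ * (f * f) * n := by group
        _ = 1 := by rw [hff]; group
    · intro h3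
      apply hf1
      calc f = n * (n⁻¹ * f * n) * n⁻¹ := by group
        _ = 1 := by rw [h3]; group
  intro g hg
  have hg' := mem_centralizer_singleton_iff.1 hg
  have h3 : n⁻¹ * g * n ∈ centralizer ({n⁻¹ * f * n} : Set G) := by
    rw [mem_centralizer_singleton_iff]
    calc n⁻¹ * g * n * (n⁻¹ * f * n) = n⁻¹ * (g * f) * n := by group
      _ = n⁻¹ * (f * g) * n := by rw [hg']
      _ = _ := by group
  have h4 := mul_mem (mul_mem hn (h2 h3)) (inv_mem hn)
  have h5 : n * (n⁻¹ * g * n) * n⁻¹ = g := by group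
  rwa [h5] at h4

end EqDF

/-- **(D)** `DF A = ⊥` -/
theorem df {G : Type u} [Group G] [Finite G] {Om : Set (Subgroup G)} (ms : MinS Om) (e : EqFour Om) (hT : TorStmt Om)
    (hG : GenStmt Om) (hB : CloEnd.Bend G) (hC : CloEnd.Crit1175 G) : DFStmt Om := by
  intro S K x c
  have h := hT S K x c
  have m := EqDF.mm c e h
  by_cases hM : normalizer (TorFunctor.DF (AA (zz (K 0)) (x 0 * x 1) (x 0 * x 1 * x 2 * x 3)) : Set G) = ⊤
  · exact ms.eq_bot_of_odd (normalizer_eq_top_iff.1 hM) h.odd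
  · exact ((m.big c e hG).false_of_big e e.toEqZ.inner hM hB hC).elim

end Cfsg.Agent.Cit.EqCfg
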