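import Cfsg.Agent.Cit.EqIn
import Cfsg.Agent.Cit.EqTorZ
import Cfsg.Agent.Cit.EqFourMain

/-!
# All involutions `z_K`, `K ∈ Om(S)`, equal, `|Om(S)| = 4`: THEOREM F at all elements of `A`

`PPt Om` : (TOR) and (2B) of THEOREM F at `t = x 0 x 1` for every configuration. The other elements of `A = ⟨z, t, s⟩`
are conjugate in `N(A)` to `z` (`Cfg.PP_z`) or to `t` (change of the configuration): `torStmt`.
-/

set_option autoImplicit false
set_option linter.style.haveILetI false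
set_option linter.unusedSectionVars false

namespace Cfsg.Agent.Cit.EqCfg

open Subgroup Cfsg Cfsg.Agent.Cit Cfsg.Agent.Cit.EqClose Cfsg.Agent.Cit.EqHad UseT

universe u

/-- (TOR) and (2B) at `t = x 0 x 1` -/
def PPt {G : Type*} [Group G] [Finite G] (Om : Set (Subgroup G)) : Prop :=
  ∀ (S : Sylow 2 G) (K : Fin 4 → Subgroup G) (x : Fin 4 → G), Cfg Om S K x →
    PP (AA (zz (K 0)) (x 0 * x 1) (x 0 * x 1 * x 2 * x 3)) (x 0 * x 1)

section

variable {G : Type*} [Group G] {z t s : G}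

theorem mem_AA_zt (z t s : G) : z * t ∈ AA z t s := mul_mem (z_mem z t s) (t_mem z t s)
theorem mem_AA_zs (z t s : G) : z * s ∈ AA z t s := mul_mem (z_mem z t s) (s_mem z t s)
theorem mem_AA_ts (z t s : G) : t * s ∈ AA z t s := mul_mem (t_mem z t s) (s_mem z t s)

theorem E3.cancel_zt (h : E3 z t s) : z * (z * t) = t := by rw [← mul_assoc, h.zz, one_mul]
theorem E3.cancel_zs (h : E3 z t s) : z * (z * s) = s := by rw [← mul_assoc, h.zz, one_mul]
theorem E3.cancel_ts (h : E3 z t s) : t * (t * s) = s := by rw [← mul_assoc, h.tt, one_mul]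
theorem E3.cancel_ts' (h : E3 z t s) : t * s * s = t := by rw [mul_assoc, h.ss, mul_one]

/-- `⟨s, t, sz⟩ = ⟨z, t, s⟩` -/
theorem E3.AA_one (h : E3 z t s) : AA s t (s * z) = AA z t s := by
  refine AA_eq_of (s_mem z t s) (t_mem z t s) ?_ ?_ (t_mem _ _ _) (z_mem _ _ _)
  · rw [← h.zs]; exact mem_AA_zs z t s
  · have h1 : z = s * (s * z) := by rw [← mul_assoc, h.ss, one_mul]
    rw [h1]
    nth_rewrite 1 [← h1]
    exact mul_mem (z_mem _ _ _) (s_mem _ _ _)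

/-- `⟨sz, t, s⟩ = ⟨z, t, s⟩` -/
theorem E3.AA_two (h : E3 z t s) : AA (s * z) t s = AA z t s := by
  refine AA_eq_of ?_ (t_mem z t s) (s_mem z t s) ?_ (t_mem _ _ _) (s_mem _ _ _)
  · rw [← h.zs]; exact mem_AA_zs z t s
  · have h1 : z = s * (s * z) := by rw [← mul_assoc, h.ss, one_mul]
    have h2 : s * (s * z) ∈ AA (s * z) t s := mul_mem (s_mem _ _ _) (z_mem _ _ _)
    rwa [← h1] at h2

/-- `⟨z, zt, zs⟩ = ⟨z, t, s⟩` -/
theorem E3.AA_three (h : E3 z t s) : AA z (z * t) (z * s) = AA z t s := by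
  refine AA_eq_of (z_mem z t s) (mem_AA_zt z t s) (mem_AA_zs z t s) (z_mem _ _ _) ?_ ?_
  · have := mem_AA_zt z (z * t) (z * s)
    rwa [h.cancel_zt] at this
  · have := mem_AA_zs z (z * t) (z * s)
    rwa [h.cancel_zs] at this

/-- `⟨z, ts, s⟩ = ⟨z, t, s⟩` -/
theorem E3.AA_four (h : E3 z t s) : AA z (t * s) s = AA z t s := by
  refine AA_eq_of (z_mem z t s) (mem_AA_ts z t s) (s_mem z t s) (z_mem _ _ _) ?_ (s_mem _ _ _)
  have := mem_AA_ts z (t * s) s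
  rwa [h.cancel_ts'] at this

end

variable {G : Type u} [Group G] [Finite G] {Om : Set (Subgroup G)} {S : Sylow 2 G} {K : Fin 4 → Subgroup G}
  {x : Fin 4 → G}

/-- the involution swap `0 ↔ 2`, `1 ↔ 3` -/
def sg : Equiv.Perm (Fin 4) := Equiv.swap 0 2 * Equiv.swap 1 3

/-- `t s = x 2 x 3` -/
theorem Cfg.t_mul_s (c : Cfg Om S K x) (e : EqFour Om) : x 0 * x 1 * (x 0 * x 1 * x 2 * x 3) = x 2 * x 3 := by
  calc x 0 * x 1 * (x 0 * x 1 * x 2 * x 3) = (x 0 * x 1 * (x 0 * x 1)) * (x 2 * x 3) := by group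
    _ = x 2 * x 3 := by rw [c.mul_sq e, one_mul]

/-- the configuration with `0, 1` and `2, 3` exchanged -/
theorem Cfg.swap (c : Cfg Om S K x) (e : EqFour Om) : Cfg Om S (K ∘ sg) (x ∘ sg) ∧
    zz ((K ∘ sg) 0) = zz (K 0) ∧ (x ∘ sg) 0 * (x ∘ sg) 1 = x 0 * x 1 * (x 0 * x 1 * x 2 * x 3) ∧
    (x ∘ sg) 0 * (x ∘ sg) 1 * (x ∘ sg) 2 * (x ∘ sg) 3 = x 0 * x 1 * x 2 * x 3 := by
  have h0 : sg 0 = 2 := by decide
  have h1 : sg 1 = 3 := by decide
  have h2 : sg 2 = 0 := by decide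
  have h3 : sg 3 = 1 := by decide
  have h := c.e3 e
  refine ⟨c.perm sg, ?_, ?_, ?_⟩
  · rw [Function.comp_apply, h0]; exact c.zz_eq e 2
  · rw [Function.comp_apply, Function.comp_apply, h0, h1, c.t_mul_s e]
  · rw [Function.comp_apply, Function.comp_apply, Function.comp_apply, Function.comp_apply, h0, h1, h2, h3]
    rw [← c.t_mul_s e]
    calc x 0 * x 1 * (x 0 * x 1 * x 2 * x 3) * x 0 * x 1 =
          x 0 * x 1 * ((x 0 * x 1 * x 2 * x 3) * (x 0 * x 1)) := by group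
      _ = x 0 * x 1 * (x 0 * x 1) * (x 0 * x 1 * x 2 * x 3) := by rw [← h.ts]; group
      _ = x 0 * x 1 * x 2 * x 3 := by rw [c.mul_sq e, one_mul]

/-- the configuration with `x 0` inverted -/
theorem Cfg.neg0 (c : Cfg Om S K x) (e : EqFour Om) : ∃ y, Cfg Om S K y ∧ y 0 * y 1 = zz (K 0) * (x 0 * x 1) ∧
    y 0 * y 1 * y 2 * y 3 = zz (K 0) * (x 0 * x 1 * x 2 * x 3) := by
  refine ⟨_, c.neg 0, ?_, ?_⟩
  · rw [Function.update_self, Function.update_of_ne (by decide), c.inv_eq e 0, mul_assoc]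
  · rw [Function.update_self, Function.update_of_ne (by decide), Function.update_of_ne (by decide),
      Function.update_of_ne (by decide), c.inv_eq e 0]
    group

/-- `PP A b` for all `b` -/
theorem Cfg.PP_all (c : Cfg Om S K x) (e : EqFour Om)
    (hz : PP (AA (zz (K 0)) (x 0 * x 1) (x 0 * x 1 * x 2 * x 3)) (zz (K 0)))
    (hT : PPt Om) {b : G} (hb : b ∈ AA (zz (K 0)) (x 0 * x 1) (x 0 * x 1 * x 2 * x 3)) (hb1 : b ≠ 1) :
    PP (AA (zz (K 0)) (x 0 * x 1) (x 0 * x 1 * x 2 * x 3)) b := by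
  have h3 := c.e3 e
  obtain ⟨n, n', a1, a2, a3, a4, a5, a6⟩ := EqHad.exists_swap e S ⟨S.isPGroup', c.inj, c.memS, c.mem, c.four⟩ rfl (i := 0) (j := 1) (by decide)
  have hpr : Xs.pr x = x 0 * x 1 * x 2 * x 3 := rfl
  rw [hpr] at a3 a4 a5 a6
  have ht : ∀ m : G, m * (x 0 * x 1) = x 0 * x 1 * m → m * (x 0 * x 1) * m⁻¹ = x 0 * x 1 := fun m hm => by
    rw [hm, mul_inv_cancel_right]
  have hn : n ∈ normalizer (AA (zz (K 0)) (x 0 * x 1) (x 0 * x 1 * x 2 * x 3) : Set G) := by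
    rw [mem_normalizer_iff_cj, cj_AA, a3, a4, ht n a1]
    exact h3.AA_one
  have hn' : n' ∈ normalizer (AA (zz (K 0)) (x 0 * x 1) (x 0 * x 1 * x 2 * x 3) : Set G) := by
    rw [mem_normalizer_iff_cj, cj_AA, a5, a6, ht n' a2]
    exact h3.AA_two
  have hzt : ∀ {S : Sylow 2 G} {K : Fin 4 → Subgroup G} {x : Fin 4 → G}, Cfg Om S K x →
      PP (AA (zz (K 0)) (x 0 * x 1) (x 0 * x 1 * x 2 * x 3)) (zz (K 0) * (x 0 * x 1)) := by
    intro S K x c
    obtain ⟨y, cy, y1, y2⟩ := c.neg0 e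
    have h4 := hT S K y cy
    rw [y2, y1] at h4
    rwa [(c.e3 e).AA_three] at h4
  obtain ⟨cs, s1, s2, s3⟩ := c.swap e
  rcases h3.cases hb with (rfl | rfl | rfl | rfl) | (rfl | rfl | rfl | rfl)
  · exact absurd rfl hb1
  · exact hz
  · exact hT S K x c
  · exact hzt c
  · have h4 := hz.cj hn
    rwa [a3] at h4
  · have h4 := hz.cj hn'
    rwa [a5, ← h3.zs] at h4
  · have h4 := hT S _ _ cs
    rwa [s1, s3, s2, h3.AA_four] at h4
  · have h4 := hzt cs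
    rw [s1, s3, s2, h3.AA_four, ← mul_assoc (zz (K 0))] at h4
    exact h4

/-- **(TOR) and (2B) for `A`** -/
theorem torStmt (e : EqFour Om) (hodd : CoresG.OddStmt.{u}) (ty : ∀ K ∈ Om, IsType K)
    (hp : ∀ t : G, t ≠ 1 → HasPieces (fam Om (centralizer {t}))) (hT : PPt Om) : TorStmt Om := by
  intro S K x c
  refine tor_of_PP (c.e3 e) (c.card e) (fun X hX => hodd X hX) fun b hb hb1 => ?_
  exact c.PP_all e (c.PP_z e hodd ty (hp _ (c.zz_ne e)).core) hT hb hb1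

end Cfsg.Agent.Cit.EqCfg
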