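import Cfsg.Agent.Cit.FourEq
import Cfsg.Agent.Cit.EqDF
import Cfsg.Agent.Cit.EqTor
import Cfsg.Agent.Cit.EqCorEnd

/-!
# All involutions `z_K`, `K ∈ Om(S)`, equal, `|Om(S)| = 4`: the cores (`FourEq.CorStmt`)
-/

set_option autoImplicit false
set_option linter.style.haveILetI false
set_option linter.unusedSectionVars false

namespace Cfsg.Agent.Cit.EqCfg

open Subgroup Cfsg Cfsg.Agent.Cit Cfsg.Agent.Cit.EqClose UseT

universe u

theorem exists_perm3 : ∀ i j k : Fin 4, i ≠ j → k ≠ i → k ≠ j → ∃ σ : Equiv.Perm (Fin 4), σ 0 = i ∧ σ 1 = j ∧ σ 2 = k := by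
  decide

/-- the cores from THEOREM F at `t` -/
theorem eqCor {G : Type u} [Group G] [Finite G] {Om : Set (Subgroup G)} (hodd : CoresG.OddStmt.{u})
    (hB : EqCen.BendStmt.{u}) (hC : EqCen.CritStmt.{u}) (ms : MinS Om) (e : EqFour Om) (hT : PPt Om) :
    TypeD4Cor.EqCor Om := by
  haveI := ms.simple
  have hp : ∀ t : G, t ≠ 1 → HasPieces (fam Om (centralizer {t})) := fun t ht => ms.fam_cent ht
  have h1 := torStmt e hodd ms.isType hp hT
  have h2 := genStmt e ms.isType hp hB hC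
  have h3 := df ms e h1 h2 (hB G) (hC G)
  intro S K x hX
  have c : Cfg Om S K x := ⟨hX.inj, hX.mem, hX.x_mem, hX.four⟩
  refine ⟨fun i => ?_, fun k l i hkl hik hil => ?_⟩
  · have h4 := (c.perm (Equiv.swap 0 i)).inf0_le e h1 h3
    rw [Function.comp_apply, Equiv.swap_apply_left, c.zz_eq e i, le_centralizer_iff] at h4
    exact h4
  · obtain ⟨σ, h5, h6, h7⟩ := exists_perm3 k l i hkl hik hil
    have c' := c.perm σ
    have h4 := c'.inf2_le e h1 h3 (c'.t_ne e)
    rw [Function.comp_apply, Function.comp_apply, Function.comp_apply, h5, h6, h7, le_centralizer_iff] at h4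
    exact h4

end Cfsg.Agent.Cit.EqCfg
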