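import Cfsg.Agent.Cit.AutAct
import Cfsg.Agent.Cit.CorTwo
import Cfsg.Agent.Cit.SubCent
import Cfsg.Agent.Cit.OneQuat
import Cfsg.Agent.Cit.Parab

/-!
# Case `r = 1`, `n ≥ 3`: some `t ∈ TT(z)` is not degenerate (R18, #8092 (1))

`Deg z t`: `[z, C(t)] ≤ O(C(t))`. `Same Om`: all members of `Om(S)` have the same involution.
`TTz Om z`: the products `x y` of commuting elements of order `4` of two different members with involution `z`.

`exists_not_deg`: if three different members have the involution `z` and `z` commutes with another `zz L ≠ z`, then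
some `t ∈ TTz Om z` is not degenerate.
-/

set_option autoImplicit false
set_option linter.style.haveILetI false
set_option linter.unusedSectionVars false

namespace Cfsg.Agent.Cit.EqDeg

open Subgroup Cfsg
open scoped commutatorElement

variable {G : Type*} [Group G]

/-- `z` is central in `C(t)` modulo the core -/
def Deg (z t : G) : Prop := ∀ h ∈ centralizer {t}, z * h * z⁻¹ * h⁻¹ ∈ OO (centralizer {t})

/-- all members of `Om(S)` have the same involution -/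
def Same (Om : Set (Subgroup G)) : Prop :=
  ∀ S : Subgroup G, IsPGroup 2 S → ∀ K ∈ OmS Om S, ∀ L ∈ OmS Om S, zz K = zz L

theorem Same.of_sylow {Om : Set (Subgroup G)}
    (h : ∀ S : Sylow 2 G, ∀ K ∈ OmS Om (S : Subgroup G), ∀ L ∈ OmS Om (S : Subgroup G), zz K = zz L) : Same Om := by
  intro S hS K hK L hL
  haveI : Fact (Nat.Prime 2) := ⟨Nat.prime_two⟩
  obtain ⟨P, hP⟩ := hS.exists_le_sylow
  exact h P K ⟨hK.1, fun h2 => hK.2 (h2.trans (relIndex_dvd_of_le_left K hP))⟩ L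
    ⟨hL.1, fun h2 => hL.2 (h2.trans (relIndex_dvd_of_le_left L hP))⟩

/-- the products of two commuting elements of order 4 of two different members with involution `z` -/
def TTz (Om : Set (Subgroup G)) (z : G) : Set G :=
  {t | ∃ K ∈ Om, ∃ L ∈ Om, K ≠ L ∧ zz K = z ∧ zz L = z ∧ ∃ x ∈ K, ∃ y ∈ L, x * x = z ∧ y * y = z ∧
    x * y = y * x ∧ t = x * y}

/-! ### Quaternion groups -/

section GQ

variable {Q : Subgroup G} {c v z : G} {n : ℕ}

/-- the square roots of `z` in `⟨c⟩` -/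
theorem eq_w_or (h : GQ Q c v z n) {y : G} (hy : y ∈ zpowers c) (hyy : y * y = z) :
    y = c ^ 2 ^ n ∨ y = c ^ 2 ^ n * z := by
  obtain ⟨l, rfl⟩ := hy
  have hw := h.w_sq
  have hyy' : c ^ l * c ^ l = z := hyy
  have h1 : c ^ (2 * (l - (2 : ℤ) ^ n)) = 1 := by
    have h2 : c ^ ((2 : ℤ) ^ n) = c ^ 2 ^ n := by
      rw [← zpow_natCast]; push_cast; rfl
    have h3 : c ^ (2 * (l - (2 : ℤ) ^ n)) = (c ^ l * c ^ l) * (c ^ ((2 : ℤ) ^ n) * c ^ ((2 : ℤ) ^ n))⁻¹ := by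
      rw [← zpow_add, ← zpow_add, ← zpow_neg, ← zpow_add]
      congr 1; ring
    rw [h3, h2, hyy', hw, mul_inv_cancel]
  have h2 : c ^ l = c ^ 2 ^ n * c ^ (l - (2 : ℤ) ^ n) := by
    rw [← zpow_natCast, ← zpow_add]
    congr 1; push_cast; ring
  show c ^ l = _ ∨ c ^ l = _
  rcases h.zpow_sq h1 with h3 | h3
  · left; rw [h2, h3, mul_one]
  · right; rw [h2, h3]

/-- an element of `⟨c⟩` inverted by an element fixing `w` has order at most 2 -/
theorem sq_eq_one_of_inv (h : GQ Q c v z n) {t f : G} (hf : f ∈ zpowers c) (hft : t * f * t⁻¹ = f⁻¹)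
    (hw : t * c ^ 2 ^ n * t⁻¹ = c ^ 2 ^ n) : f * f = 1 := by
  by_contra hne
  have hz1 : z * z = 1 := h.z_mul
  have ho : orderOf f ∣ 2 ^ (n + 2) := by
    obtain ⟨k, rfl⟩ := hf
    rw [orderOf_dvd_iff_pow_eq_one]
    show (c ^ k) ^ 2 ^ (n + 2) = 1
    rw [← zpow_natCast, ← zpow_mul, mul_comm, zpow_mul, zpow_natCast, h.pow_ord, one_zpow]
  obtain ⟨m, -, hm⟩ := (Nat.dvd_prime_pow Nat.prime_two).1 ho
  have hm2 : 2 ≤ m := by
    by_contra hlt
    apply hne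
    rw [← pow_two, ← orderOf_dvd_iff_pow_eq_one, hm]
    calc 2 ^ m ∣ 2 ^ 1 := pow_dvd_pow 2 (by omega)
      _ = 2 := pow_one 2
  obtain ⟨k, rfl⟩ := Nat.exists_eq_add_of_le hm2
  have hyp : ∀ i : ℕ, f ^ i ∈ zpowers c := fun i => (zpowers c).pow_mem hf i
  have hyy : f ^ 2 ^ k * f ^ 2 ^ k = z := by
    apply h.eq_z (Q.mul_mem (h.zpowers_le (hyp _)) (h.zpowers_le (hyp _)))
    · rw [← pow_add, ← pow_add, ← orderOf_dvd_iff_pow_eq_one, hm]
      exact ⟨1, by ring⟩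
    · intro h1
      rw [← pow_add, ← orderOf_dvd_iff_pow_eq_one, hm] at h1
      have h2 := Nat.le_of_dvd (by positivity) h1
      have h3 : 2 ^ (2 + k) = 4 * 2 ^ k := by ring
      have h4 : 0 < 2 ^ k := by positivity
      omega
  have htz : t * z * t⁻¹ = z := by
    have h1 : z = c ^ 2 ^ n * c ^ 2 ^ n := h.w_sq.symm
    have h2 : t * z * t⁻¹ = (t * c ^ 2 ^ n * t⁻¹) * (t * c ^ 2 ^ n * t⁻¹) := by
      rw [h1]; group
    rw [h2, hw, h.w_sq]
  have hti : t * f ^ 2 ^ k * t⁻¹ = (f ^ 2 ^ k)⁻¹ := by rw [← _root_.conj_pow, hft, inv_pow]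
  have hty : t * f ^ 2 ^ k * t⁻¹ = f ^ 2 ^ k := by
    rcases eq_w_or h (hyp _) hyy with h1 | h1
    · rw [h1, hw]
    · rw [h1]
      calc t * (c ^ 2 ^ n * z) * t⁻¹ = (t * c ^ 2 ^ n * t⁻¹) * (t * z * t⁻¹) := by group
        _ = c ^ 2 ^ n * z := by rw [hw, htz]
  have h5 : f ^ 2 ^ k = (f ^ 2 ^ k)⁻¹ := by rw [← hti, hty]
  apply h.z_ne
  rw [← hyy]
  nth_rewrite 2 [h5]
  exact mul_inv_cancel _

/-- an involution of `N(Q)` normalising `⟨c⟩` and fixing `w` moves elements of `Q` at most by `z` -/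
theorem conj_eq_or (h : GQ Q c v z n) {t : G} (ht : t ∈ normalizer (Q : Set G)) (htt : t * t = 1)
    (htc : t * c * t⁻¹ ∈ zpowers c) (hw : t * c ^ 2 ^ n * t⁻¹ = c ^ 2 ^ n) :
    ∀ q ∈ Q, t * q * t⁻¹ = q ∨ t * q * t⁻¹ = q * z := by
  have hti : t⁻¹ = t := inv_eq_of_mul_eq_one_right htt
  have hz := h.z_mul
  have hcz := h.commute_c_z
  have hvz := h.commute_v_z
  have hsq : ∀ f ∈ zpowers c, f * f = 1 → f = 1 ∨ f = z := by
    rintro _ ⟨i, rfl⟩ h1
    apply h.zpow_sq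
    rw [two_mul, zpow_add]; exact h1
  -- the subgroup
  let H : Subgroup G :=
    { carrier := {q | q * z = z * q ∧ (t * q * t⁻¹ = q ∨ t * q * t⁻¹ = q * z)}
      one_mem' := ⟨by simp, Or.inl (by simp)⟩
      mul_mem' := by
        rintro a b ⟨ha, ha'⟩ ⟨hb, hb'⟩
        refine ⟨by rw [mul_assoc, hb, ← mul_assoc, ha, mul_assoc], ?_⟩
        have h1 : t * (a * b) * t⁻¹ = (t * a * t⁻¹) * (t * b * t⁻¹) := by group
        rw [h1]
        rcases ha' with h2 | h2 <;> rcases hb' with h3 | h3 <;> rw [h2, h3]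
        · left; rfl
        · right; rw [mul_assoc]
        · right; rw [mul_assoc, ← hb, mul_assoc]
        · left
          calc a * z * (b * z) = a * (z * b) * z := by group
            _ = a * b * (z * z) := by rw [← hb]; group
            _ = a * b := by rw [hz, mul_one]
      inv_mem' := by
        rintro a ⟨ha, ha'⟩
        have ha2 : a⁻¹ * z = z * a⁻¹ := (show Commute a z from ha).inv_left.eq
        refine ⟨ha2, ?_⟩
        have h1 : t * a⁻¹ * t⁻¹ = (t * a * t⁻¹)⁻¹ := by group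
        rw [h1]
        rcases ha' with h2 | h2 <;> rw [h2]
        · left; rfl
        · right
          rw [mul_inv_rev, inv_eq_of_mul_eq_one_right hz, ← ha2] }
  have hcH : c ∈ H := by
    refine ⟨hcz, ?_⟩
    have he : c⁻¹ * (t * c * t⁻¹) ∈ zpowers c := mul_mem (inv_mem (mem_zpowers c)) htc
    have h1 : t * (c⁻¹ * (t * c * t⁻¹)) * t⁻¹ = (c⁻¹ * (t * c * t⁻¹))⁻¹ := by
      calc t * (c⁻¹ * (t * c * t⁻¹)) * t⁻¹ = t * c⁻¹ * (t * c * t⁻¹ * t⁻¹) := by group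
        _ = t * c⁻¹ * (t * c * (t⁻¹ * t⁻¹)) := by group
        _ = t * c⁻¹ * (t * c) := by rw [hti, htt, mul_one]
        _ = (t * c⁻¹ * t⁻¹) * c := by
            rw [hti]
            group
        _ = (c⁻¹ * (t * c * t⁻¹))⁻¹ := by group
    rcases hsq _ he (sq_eq_one_of_inv h he h1 hw) with h2 | h2
    · left
      calc t * c * t⁻¹ = c * (c⁻¹ * (t * c * t⁻¹)) := by group
        _ = c := by rw [h2, mul_one]
    · right
      calc t * c * t⁻¹ = c * (c⁻¹ * (t * c * t⁻¹)) := by group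
        _ = c * z := by rw [h2]
  have hvH : v ∈ H := by
    refine ⟨hvz, ?_⟩
    obtain ⟨j, hj⟩ := h.exists_act ht (by
      have h1 : t⁻¹ * c * t = t * c * t⁻¹ := by rw [hti]
      rw [h1]; exact htc)
    have hf : c ^ j ∈ zpowers c := zpow_mem (mem_zpowers c) j
    have h1 : t * c ^ j * t⁻¹ = (c ^ j)⁻¹ := by
      have h2 : v = v * c ^ j * (t * c ^ j * t⁻¹) := by
        calc v = (t * t) * v * (t * t)⁻¹ := by rw [htt]; group
          _ = t * (t * v * t⁻¹) * t⁻¹ := by group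
          _ = t * (v * c ^ j) * t⁻¹ := by rw [hj]
          _ = (t * v * t⁻¹) * (t * c ^ j * t⁻¹) := by group
          _ = v * c ^ j * (t * c ^ j * t⁻¹) := by rw [hj]
      rw [mul_assoc] at h2
      have h3 : c ^ j * (t * c ^ j * t⁻¹) = 1 := by
        have h4 : v * 1 = v * (c ^ j * (t * c ^ j * t⁻¹)) := by rw [mul_one]; exact h2
        exact (mul_left_cancel h4).symm
      exact eq_inv_of_mul_eq_one_right h3
    rcases hsq _ hf (sq_eq_one_of_inv h hf h1 hw) with h2 | h2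
    · left; rw [hj, h2, mul_one]
    · right; rw [hj, h2]
  have hQH : Q ≤ H := h.le_of_mem hcH h.v_mem h.v_not_mem hvH
  exact fun q hq => (hQH hq).2

/-- two elements moving `Q` at most by the central involution `e` -/
theorem comm_or {t z e : G} (he : e * e = 1) (hte : t * e * t⁻¹ = e)
    (hQe : ∀ q ∈ Q, e * q = q * e) (ht : ∀ q ∈ Q, t * q * t⁻¹ = q ∨ t * q * t⁻¹ = q * e)
    (hz : ∀ q ∈ Q, z * q * z⁻¹ = q ∨ z * q * z⁻¹ = q * e)
    (hfix : ∀ q ∈ Q, t * q * t⁻¹ = q → z * q * z⁻¹ = q) :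
    (∀ q ∈ Q, z * q * z⁻¹ = q) ∨ ∀ q ∈ Q, (t * z) * q * (t * z)⁻¹ = q := by
  by_cases hall : ∀ q ∈ Q, z * q * z⁻¹ = q
  · exact Or.inl hall
  right
  push Not at hall
  obtain ⟨q0, hq0, hzq0⟩ := hall
  have hz0 := (hz q0 hq0).resolve_left hzq0
  have ht0 := (ht q0 hq0).resolve_left fun h1 => hzq0 (hfix q0 hq0 h1)
  intro q hq
  have h0 : t * z * q * (t * z)⁻¹ = t * (z * q * z⁻¹) * t⁻¹ := by group
  rw [h0]
  rcases ht q hq with h1 | h1
  · rw [hfix q hq h1, h1]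
  · have h2 : t * (q * q0) * t⁻¹ = q * q0 := by
      calc t * (q * q0) * t⁻¹ = (t * q * t⁻¹) * (t * q0 * t⁻¹) := by group
        _ = q * (e * q0) * e := by rw [h1, ht0]; group
        _ = q * q0 * (e * e) := by rw [hQe q0 hq0]; group
        _ = q * q0 := by rw [he, mul_one]
    have h3 := hfix _ (Q.mul_mem hq hq0) h2
    have h4 : z * q * z⁻¹ = q * e := by
      have h5 : z * (q * q0) * z⁻¹ = (z * q * z⁻¹) * (q0 * e) := by rw [← hz0]; group
      rw [h5] at h3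
      calc z * q * z⁻¹ = (z * q * z⁻¹) * (q0 * e) * (q0 * e)⁻¹ := by group
        _ = q * q0 * (e⁻¹ * q0⁻¹) := by rw [h3]; group
        _ = q * e * (e⁻¹ * (q0 * e⁻¹ * q0⁻¹)) := by group
        _ = q * e * (e⁻¹ * e⁻¹) := by
            have h6 : q0 * e⁻¹ * q0⁻¹ = e⁻¹ := by
              have h7 : Commute e q0 := hQe q0 hq0
              rw [mul_inv_eq_iff_eq_mul]
              exact h7.inv_left.symm.eq
            rw [h6]
        _ = q * e := by
            have h6 : e⁻¹ * e⁻¹ = 1 := by rw [← mul_inv_rev, he, inv_one]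
            rw [h6, mul_one]
    rw [h4]
    calc t * (q * e) * t⁻¹ = (t * q * t⁻¹) * (t * e * t⁻¹) := by group
      _ = q * e * e := by rw [h1, hte]
      _ = q := by rw [mul_assoc, he, mul_one]

end GQ

/-! ### Automorphisms of `J / O(J)` -/

section Full

variable {Om : Set (Subgroup G)}

theorem mulAut_conj_conj {X : Type*} [Group X] (α : MulAut X) (g : X) :
    α * MulAut.conj g * α⁻¹ = MulAut.conj (α g) := by
  ext x
  simp [MulAut.mul_apply]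

theorem act_conj {K : Subgroup G} {x : G} (hx : x ∈ K) (hxN : x ∈ normalizer (K : Set G)) :
    AutAct.act K ⟨x, hxN⟩ = MulAut.conj (QuotientGroup.mk ⟨x, hx⟩) := by
  ext y
  induction y using QuotientGroup.induction_on with
  | H y => rfl

/-- an automorphism fixing every element up to the central involution is trivial -/
theorem eq_one_of_mod_center {X : Type*} [Group X] [Finite X] {z : X} (h : AutFacts.TyZ X z) {α : MulAut X}
    (hα : ∀ x, α x = x ∨ α x = z * x) : α = 1 := by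
  by_contra hne
  let F : Subgroup X := α.toMonoidHom.eqLocus (MonoidHom.id X)
  have hF : ∀ x, x ∈ F ↔ α x = x := fun x => Iff.rfl
  obtain ⟨a, ha⟩ : ∃ a, a ∉ F := by
    by_contra hall
    push Not at hall
    exact hne (MulEquiv.ext fun x => (hF x).1 (hall x))
  have ha' := (hα a).resolve_left ha
  apply h.ty.good.two F
  rw [index_eq_two_iff]
  refine ⟨a, fun b => ?_⟩
  by_cases hb : b ∈ F
  · right
    refine ⟨hb, fun h1 => ha ?_⟩
    have h2 := F.mul_mem (F.inv_mem hb) h1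
    rwa [inv_mul_cancel_left] at h2
  · left
    refine ⟨?_, hb⟩
    rw [hF, map_mul, ha', (hα b).resolve_left hb]
    calc z * b * (z * a) = z * (b * z) * a := by group
      _ = (z * z) * b * a := by rw [h.comm]; group
      _ = b * a := by rw [h.z_mul, one_mul]

/-- **the main computation**: `u` normalises `J`, `t` moves `J` to `J2`, `[u, C(t)]` has odd order: `u` is trivial
on `J / O(J)` -/
theorem triv_of_swap [Finite G] (h : Hyp Om) {J J2 : Subgroup G} (hJ : J ∈ Om) (hJ2 : J2 ∈ Om) (hT : IsType J)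
    {t u : G} (htt : t * t = 1) (hJJ : cj t J = J2) (hne : J ≠ J2) (hzz : zz J = zz J2) (hu : cj u J = J)
    (hut : u * t = t * u) (hd : ∀ h ∈ centralizer {t}, u * h * u⁻¹ * h⁻¹ ∈ OO (centralizer {t})) :
    AutAct.Triv u J := by
  haveI : Fact (Nat.Prime 2) := ⟨Nat.prime_two⟩
  have hcom : ⁅J, J2⁆ ≤ OO J ⊓ OO J2 := (h.h2 J hJ J2 hJ2 hzz).resolve_left hne
  have hcom' : ⁅J2, J⁆ ≤ OO J ⊓ OO J2 := by rw [commutator_comm]; exact hcom
  have hti : t⁻¹ = t := inv_eq_of_mul_eq_one_right htt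
  have hJJ2 : cj t J2 = J := by rw [← hJJ, ← cj_mul, htt, cj_one]
  have hu2 : cj u J2 = J2 := by
    rw [← hJJ, ← cj_mul, hut, cj_mul, hu]
  -- normalisers
  have n1 : J2 ≤ normalizer (J : Set G) :=
    SubCent.le_normalizer_of_comm (hcom.trans (inf_le_left.trans (OO_le J)))
  have n2 : J ≤ normalizer (J2 : Set G) :=
    SubCent.le_normalizer_of_comm (hcom'.trans (inf_le_right.trans (OO_le J2)))
  have nOO : ∀ {A K : Subgroup G}, A ≤ normalizer (K : Set G) → A ≤ normalizer (OO K : Set G) := by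
    intro A K hA a ha
    rw [mem_normalizer_iff_cj, ← OO_cj, mem_normalizer_iff_cj.1 (hA ha)]
  have mJ : J ⊔ J2 ≤ normalizer (J : Set G) := sup_le le_normalizer n1
  have mJ2 : J ⊔ J2 ≤ normalizer (J2 : Set G) := sup_le n2 le_normalizer
  set N := OO J ⊔ OO J2 with hN
  have hNodd : ¬ 2 ∣ Nat.card N := LB.odd_sup (odd_OO J) (odd_OO J2) ((OO_le J2).trans (nOO n1))
  have hNle : N ≤ J ⊔ J2 := sup_le_sup (OO_le J) (OO_le J2)
  have mN : J ⊔ J2 ≤ normalizer (N : Set G) := by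
    intro a ha
    rw [mem_normalizer_iff_cj, hN, cj_sup, mem_normalizer_iff_cj.1 (nOO mJ ha),
      mem_normalizer_iff_cj.1 (nOO mJ2 ha)]
  have tN : t ∈ normalizer (N : Set G) := by
    rw [mem_normalizer_iff_cj, hN, cj_sup, ← OO_cj, ← OO_cj, hJJ, hJJ2, sup_comm]
  -- the elements acting trivially on `J / O(J)`
  let R : Subgroup G := (AutAct.act J).ker.map (normalizer (J : Set G)).subtype
  have hR : ∀ x, x ∈ R ↔ ∃ hx : x ∈ normalizer (J : Set G), AutAct.act J ⟨x, hx⟩ = 1 := by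
    intro x
    constructor
    · rintro ⟨⟨y, hy⟩, hy1, rfl⟩
      exact ⟨hy, hy1⟩
    · rintro ⟨hx, h1⟩
      exact ⟨⟨x, hx⟩, h1, rfl⟩
  have hRJ2 : J2 ≤ R := by
    intro x hx
    refine (hR x).2 ⟨n1 hx, (AutAct.act_eq_one_iff _).2 fun k hk => ?_⟩
    exact (hcom' (commutator_mem_commutator hx hk)).1
  have hROO : OO J ≤ R := by
    intro x hx
    refine (hR x).2 ⟨le_normalizer (OO_le J hx), (AutAct.act_eq_one_iff _).2 fun k hk => ?_⟩
    have h1 : x * k * x⁻¹ * k⁻¹ = x * (k * x⁻¹ * k⁻¹) := by group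
    rw [h1]
    exact mul_mem hx ((mem_normalizer_iff.1 (le_normalizer_OO J hk) _).1 (inv_mem hx))
  have hRN : N ≤ R := sup_le hROO ((OO_le J2).trans hRJ2)
  have huN : u ∈ normalizer (J : Set G) := mem_normalizer_iff_cj.2 hu
  have huJJ : cj u (J ⊔ J2) = J ⊔ J2 := by rw [cj_sup, hu, hu2]
  -- lifting to the centraliser of `t`
  have key : ∀ c, ∀ hc : c ∈ J, ∃ k, ∃ hk : k ∈ normalizer (J : Set G), k ∈ centralizer {t} ∧ k ∈ J ⊔ J2 ∧
      AutAct.act J ⟨k, hk⟩ = MulAut.conj (QuotientGroup.mk ⟨c, hc⟩) := by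
    intro c hc
    set c' := t * c * t⁻¹ with hc'
    have hc'J : c' ∈ J2 := by rw [← hJJ]; exact conj_mem_cj hc
    have h1 : c * c' ∈ J ⊔ J2 := mul_mem (mem_sup_left hc) (mem_sup_right hc'J)
    have htz : IsPGroup 2 (zpowers t) := AutAct.isPGroup_zpowers (k := 1) (by rw [pow_one, pow_two, htt])
    obtain ⟨o, ho, hko⟩ := SubCent.exists_mul_mem_centralizer (A := zpowers t) htz hNodd
      (by rw [zpowers_le]; exact tN) (mN h1) (by
        rintro _ ⟨i, rfl⟩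
        show c * c' * t ^ i * (c * c')⁻¹ * (t ^ i)⁻¹ ∈ N
        have ht2 : t ^ (2 : ℤ) = 1 := by rw [zpow_ofNat, pow_two, htt]
        rcases Int.even_or_odd' i with ⟨k, rfl | rfl⟩
        · rw [zpow_mul, ht2, one_zpow, mul_one, mul_inv_cancel, inv_one, one_mul]
          exact N.one_mem
        · rw [zpow_add, zpow_mul, ht2, one_zpow, zpow_one, one_mul]
          have h2 : c * c' * t * (c * c')⁻¹ * t⁻¹ = ⁅c, c'⁆ := by
            rw [commutatorElement_def, hc']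
            calc c * (t * c * t⁻¹) * t * (c * (t * c * t⁻¹))⁻¹ * t⁻¹
                = c * (t * c * t⁻¹) * (t * t) * c⁻¹ * (t⁻¹ * c⁻¹ * t⁻¹) := by group
              _ = c * (t * c * t⁻¹) * c⁻¹ * (t * c⁻¹ * t⁻¹) := by rw [htt, hti]; group
              _ = c * (t * c * t⁻¹) * c⁻¹ * (t * c * t⁻¹)⁻¹ := by group
          rw [h2]
          exact mem_sup_left (hcom (commutator_mem_commutator hc hc'J)).1)
    have hkJ : c * c' * o ∈ J ⊔ J2 := mul_mem h1 (hNle ho)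
    refine ⟨c * c' * o, mJ hkJ, ?_, hkJ, ?_⟩
    · rw [mem_centralizer_singleton_iff]
      exact (mem_centralizer_iff.1 hko t (mem_zpowers t)).symm
    · obtain ⟨h3, h4⟩ := (hR _).1 (R.mul_mem (hRJ2 hc'J) (hRN ho))
      have h5 : (⟨c * c' * o, mJ hkJ⟩ : ↥(normalizer (J : Set G))) = ⟨c, le_normalizer hc⟩ * ⟨c' * o, h3⟩ := by
        apply Subtype.ext
        show c * c' * o = c * (c' * o)
        group
      rw [h5, map_mul, h4, mul_one, act_conj hc]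
  -- the odd subgroup
  set X := OO (centralizer {t}) with hX
  set Y := X ⊓ (J ⊔ J2) with hY
  let H0 : Subgroup (MulAut (↥J ⧸ oddCore ↥J)) := (Y.subgroupOf (normalizer (J : Set G))).map (AutAct.act J)
  have hH0 : ∀ y (hy : y ∈ Y), AutAct.act J ⟨y, mJ hy.2⟩ ∈ H0 := by
    intro y hy
    exact ⟨⟨y, mJ hy.2⟩, hy, rfl⟩
  have hH0' : ∀ α ∈ H0, ∃ y, ∃ hy : y ∈ Y, α = AutAct.act J ⟨y, mJ hy.2⟩ := by
    rintro _ ⟨⟨y, hy⟩, hy1, rfl⟩
    exact ⟨y, hy1, rfl⟩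
  have hodd : ∀ α ∈ H0, Odd (orderOf α) := by
    intro α hα
    obtain ⟨y, hy, rfl⟩ := hH0' α hα
    have h1 : orderOf y ∣ Nat.card X := by
      have := orderOf_dvd_natCard (⟨y, hy.1⟩ : X)
      rwa [Subgroup.orderOf_mk] at this
    have h2 : Odd (orderOf y) := by
      rw [← Nat.not_even_iff_odd, even_iff_two_dvd]
      exact fun h3 => odd_OO (centralizer {t}) (h3.trans h1)
    refine Odd.of_dvd_nat h2 ?_
    rw [orderOf_dvd_iff_pow_eq_one, ← map_pow]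
    have h3 : (⟨y, mJ hy.2⟩ : ↥(normalizer (J : Set G))) ^ orderOf y = 1 := Subtype.ext (pow_orderOf_eq_one y)
    rw [h3, map_one]
  let N1 : Subgroup (↥J ⧸ oddCore ↥J) := H0.comap MulAut.conj
  have hN1 : ∀ x, x ∈ N1 ↔ MulAut.conj x ∈ H0 := fun x => Iff.rfl
  haveI hN1n : N1.Normal := by
    refine ⟨?_⟩
    intro x hx g
    induction g using QuotientGroup.induction_on with
    | H g =>
      obtain ⟨c, hc⟩ := g
      rw [hN1] at hx ⊢
      obtain ⟨y, hy, hyx⟩ := hH0' _ hx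
      obtain ⟨k, hk, hkt, hkJ, hkc⟩ := key c hc
      have hky : k * y * k⁻¹ ∈ Y := by
        refine ⟨(mem_normalizer_iff.1 (le_normalizer_OO _ hkt) _).1 hy.1, ?_⟩
        exact (J ⊔ J2).mul_mem ((J ⊔ J2).mul_mem hkJ hy.2) ((J ⊔ J2).inv_mem hkJ)
      have h1 := hH0 _ hky
      have h2 : (⟨k * y * k⁻¹, mJ hky.2⟩ : ↥(normalizer (J : Set G))) = ⟨k, hk⟩ * ⟨y, mJ hy.2⟩ * ⟨k, hk⟩⁻¹ := rfl
      rw [h2, map_mul, map_mul, map_inv, hkc, ← hyx] at h1
      rw [map_mul, map_mul, map_inv]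
      exact h1
  -- `[u, c]` lies in `N1`
  have hdN : ∀ c (hc : c ∈ J), AutAct.act J ⟨u, huN⟩ (QuotientGroup.mk ⟨c, hc⟩) *
      (QuotientGroup.mk ⟨c, hc⟩ : ↥J ⧸ oddCore ↥J)⁻¹ ∈ N1 := by
    intro c hc
    obtain ⟨k, hk, hkt, hkJ, hkc⟩ := key c hc
    have hy : u * k * u⁻¹ * k⁻¹ ∈ Y := by
      refine ⟨hd k hkt, ?_⟩
      refine (J ⊔ J2).mul_mem ?_ ((J ⊔ J2).inv_mem hkJ)
      have h0 := conj_mem_cj (g := u) hkJ
      rwa [huJJ] at h0
    have h1 := hH0 _ hy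
    have h2 : (⟨u * k * u⁻¹ * k⁻¹, mJ hy.2⟩ : ↥(normalizer (J : Set G))) =
      ⟨u, huN⟩ * ⟨k, hk⟩ * ⟨u, huN⟩⁻¹ * ⟨k, hk⟩⁻¹ := rfl
    rw [h2, map_mul, map_mul, map_mul, map_inv, map_inv, hkc, mulAut_conj_conj, ← map_inv, ← map_mul] at h1
    exact h1
  have hzT := AutAct.tyZ hT
  -- coordinates
  obtain ⟨Q, hQ⟩ := Hyp.exists_syl J
  obtain ⟨c, v, n, hc⟩ := h.exists_gq hJ hQ
  rw [← AutAct.act_eq_one_iff huN]
  apply eq_one_of_mod_center hzT
  intro x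
  rcases hT.good.one N1 hN1n with h1 | h1
  · exfalso
    have hvJ : v ∈ J := hQ.1 hc.v_mem
    have hcJ : c ∈ J := hQ.1 hc.c_mem
    have hzJ := h.zz_mem hJ
    have hv4 : (QuotientGroup.mk ⟨v, hvJ⟩ : ↥J ⧸ oddCore ↥J) ^ 2 ^ 2 = 1 := by
      rw [← QuotientGroup.mk_pow]
      have h3 : (⟨v, hvJ⟩ : J) ^ 2 ^ 2 = 1 := by
        apply Subtype.ext
        show v ^ 2 ^ 2 = 1
        have h4 : v ^ 2 ^ 2 = (v * v) * (v * v) := by norm_num [pow_succ]; group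
        rw [h4, hc.v_sq, hc.z_mul]
      rw [h3]; rfl
    have h2 := (hN1 _).1 (Ty.mem_of_odd_index h1 hv4)
    have h3 := hodd _ h2
    have h4 : MulAut.conj (QuotientGroup.mk ⟨v, hvJ⟩ : ↥J ⧸ oddCore ↥J) ^ 2 = 1 := by
      rw [← map_pow, pow_two, ← QuotientGroup.mk_mul]
      have h5 : (⟨v, hvJ⟩ * ⟨v, hvJ⟩ : J) = ⟨zz J, hzJ⟩ := Subtype.ext hc.v_sq
      rw [h5]
      ext y
      have h6 : y * (QuotientGroup.mk ⟨zz J, hzJ⟩ : ↥J ⧸ oddCore ↥J) = QuotientGroup.mk ⟨zz J, hzJ⟩ * y := hzT.comm y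
      rw [MulAut.conj_apply, ← h6, mul_inv_cancel_right, MulAut.one_apply]
    have h5 : MulAut.conj (QuotientGroup.mk ⟨v, hvJ⟩ : ↥J ⧸ oddCore ↥J) = 1 := by
      have h6 : orderOf (MulAut.conj (QuotientGroup.mk ⟨v, hvJ⟩ : ↥J ⧸ oddCore ↥J)) ∣ 2 :=
        orderOf_dvd_of_pow_eq_one h4
      rcases (Nat.dvd_prime Nat.prime_two).1 h6 with h7 | h7
      · exact orderOf_eq_one_iff.1 h7
      · rw [h7] at h3
        exact absurd h3 (by decide)
    have h6 := DFunLike.congr_fun h5 (QuotientGroup.mk ⟨c, hcJ⟩)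
    rw [MulAut.conj_apply, MulAut.one_apply, ← QuotientGroup.mk_inv, ← QuotientGroup.mk_mul,
      ← QuotientGroup.mk_mul] at h6
    have h7 : (⟨v, hvJ⟩ * ⟨c, hcJ⟩ * ⟨v, hvJ⟩⁻¹ : J) = ⟨c⁻¹, J.inv_mem hcJ⟩ := Subtype.ext hc.conj
    rw [h7, AutAct.mk_eq_iff, inv_inv] at h6
    exact hc.c_sq_ne (eq_one_of_mem_odd hQ.2.1 (odd_OO J) (Q.mul_mem hc.c_mem hc.c_mem) h6)
  · induction x using QuotientGroup.induction_on with
    | H x =>
      obtain ⟨x, hx⟩ := x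
      rcases h1 _ (hdN x hx) with h2 | h2
      · left
        exact mul_inv_eq_one.1 h2
      · right
        have h3 := hzT.uniq h2
        exact mul_inv_eq_iff_eq_mul.1 h3

end Full

/-! ### The configuration -/

section Conf

variable {Om : Set (Subgroup G)}

theorem TTz.sq [Finite G] (h : Hyp Om) {z t : G} (ht : t ∈ TTz Om z) : t * t = 1 := by
  obtain ⟨K, hK, L, hL, -, rfl, -, x, hx, y, hy, hxx, hyy, hxy, rfl⟩ := ht
  calc x * y * (x * y) = x * (y * x) * y := by group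
    _ = (x * x) * (y * y) := by rw [← hxy]; group
    _ = 1 := by rw [hxx, hyy, h.zz_mul hK]

theorem TTz.comm [Finite G] {z t : G} (ht : t ∈ TTz Om z) : z * t = t * z := by
  obtain ⟨K, hK, L, hL, -, -, -, x, hx, y, hy, hxx, hyy, hxy, rfl⟩ := ht
  have h1 : z * x = x * z := by rw [← hxx]; group
  have h2 : z * y = y * z := by rw [← hyy]; group
  rw [← mul_assoc, h1, mul_assoc, h2, mul_assoc]

theorem inv_sq {x z : G} (hxx : x * x = z) (hz : z * z = 1) : x⁻¹ * x⁻¹ = z ∧ z * x = x⁻¹ := by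
  refine ⟨?_, ?_⟩
  · rw [← mul_inv_rev, hxx]; exact inv_eq_of_mul_eq_one_right hz
  · rw [eq_inv_iff_mul_eq_one, mul_assoc, hxx, hz]

theorem TTz.mul_mem [Finite G] (h : Hyp Om) {z t : G} (ht : t ∈ TTz Om z) : t * z ∈ TTz Om z := by
  have h0 := TTz.comm ht
  obtain ⟨K, hK, L, hL, hne, hzK, hzL, x, hx, y, hy, hxx, hyy, hxy, rfl⟩ := ht
  have hzz : z * z = 1 := by rw [← hzK]; exact h.zz_mul hK
  obtain ⟨h1, h2⟩ := inv_sq hxx hzz
  refine ⟨K, hK, L, hL, hne, hzK, hzL, x⁻¹, K.inv_mem hx, y, hy, h1, hyy, ?_, ?_⟩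
  · exact (show Commute x y from hxy).inv_left.eq
  · rw [← h0, ← mul_assoc, h2]

/-- (L1) -/
theorem zz_eq_of_le [Finite G] (h : Hyp Om) (hs : Same Om) {J K Q : Subgroup G} (hJ : J ∈ Om) (hK : K ∈ Om)
    (hQ : Syl Q J) (hQK : Q ≤ centralizer {zz K}) : zz J = zz K := by
  obtain ⟨T, hT, hQT⟩ := exists_syl_ge hQ.2.1 hQK
  exact hs T hT.2.1 J (mem_OmS_of_le hJ hQ hQT) K (h.mem_OmS_of_syl hK hT)

/-- (star) -/
theorem Deg.comm [Finite G] {z t : G} (hd : Deg z t) {T : Subgroup G} (hT : IsPGroup 2 T)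
    (hz : z ∈ T) {q : G} (hq : q ∈ T) (hqt : q * t = t * q) : z * q = q * z := by
  have h1 := hd q (mem_centralizer_singleton_iff.2 hqt)
  have h2 := eq_one_of_mem_odd hT (odd_OO _) (T.mul_mem (T.mul_mem (T.mul_mem hz hq) (T.inv_mem hz)) (T.inv_mem hq)) h1
  rw [mul_inv_eq_one, mul_inv_eq_iff_eq_mul] at h2
  exact h2

/-- the situation in `C(z')`: `T` is a Sylow 2-subgroup of `C(z')` containing `z` -/
structure Conf (Om : Set (Subgroup G)) (z z' : G) (T : Subgroup G) : Prop where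
  hyp : Hyp Om
  ty : ∀ K ∈ Om, IsType K
  same : Same Om
  exK : ∃ K ∈ Om, zz K = z
  exL : ∃ L ∈ Om, zz L = z'
  ne : z ≠ z'
  syl : Syl T (centralizer {z'})
  mem : z ∈ T
  deg : ∀ t ∈ TTz Om z, Deg z t

namespace Conf

variable [Finite G] {z z' : G} {T : Subgroup G}

theorem z_mul (c : Conf Om z z' T) : z * z = 1 := by
  obtain ⟨K, hK, rfl⟩ := c.exK
  exact c.hyp.zz_mul hK

theorem z'_mul (c : Conf Om z z' T) : z' * z' = 1 := by
  obtain ⟨K, hK, rfl⟩ := c.exL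
  exact c.hyp.zz_mul hK

theorem mem_OmS (c : Conf Om z z' T) {J : Subgroup G} (hJ : J ∈ Om) (hz : zz J = z') : J ∈ OmS Om T :=
  c.hyp.mem_OmS_of_syl hJ (by rw [hz]; exact c.syl)

theorem comm' (c : Conf Om z z' T) {x : G} (hx : x ∈ T) : x * z' = z' * x :=
  mem_centralizer_singleton_iff.1 (c.syl.1 hx)

theorem cj_zz (c : Conf Om z z' T) {J : Subgroup G} (hJ : J ∈ Om) (hz : zz J = z') {x : G} (hx : x ∈ T) :
    zz (cj x J) = z' := by
  rw [c.hyp.zz_cj hJ, hz, c.comm' hx, mul_inv_cancel_right]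

/-- (F3) -/
theorem not_comm (c : Conf Om z z' T) {J : Subgroup G} (hJ : J ∈ Om) (hz : zz J = z')
    (hall : ∀ q ∈ J ⊓ T, z * q = q * z) : False := by
  obtain ⟨K, hK, hKz⟩ := c.exK
  apply c.ne
  rw [← hz, ← hKz]
  symm
  apply zz_eq_of_le c.hyp c.same hJ hK (syl_inf c.syl.2.1 (c.mem_OmS hJ hz))
  intro q hq
  rw [hKz, mem_centralizer_singleton_iff]
  exact (hall q hq).symm

/-- (F4) -/
theorem comm_of (c : Conf Om z z' T) {t : G} (ht : t ∈ TTz Om z) {q : G} (hq : q ∈ T) (hqt : q * t = t * q) :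
    z * q = q * z := (c.deg t ht).comm c.syl.2.1 c.mem hq hqt

/-- a 2-element of `T` trivial on `J` modulo `O(J)` centralises `J ⊓ T` -/
theorem comm_of_triv (c : Conf Om z z' T) {J : Subgroup G} {u : G} (hu : u ∈ T) (hT : AutAct.Triv u J) :
    ∀ q ∈ J ⊓ T, u * q = q * u := by
  intro q hq
  have h1 := eq_one_of_mem_odd c.syl.2.1 (odd_OO J)
    (T.mul_mem (T.mul_mem (T.mul_mem hu hq.2) (T.inv_mem hu)) (T.inv_mem hq.2)) (hT q hq.1)
  rw [mul_inv_eq_one, mul_inv_eq_iff_eq_mul] at h1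
  exact h1

/-- (B1) -/
theorem cj_t (c : Conf Om z z' T) {t : G} (ht : t ∈ TTz Om z) (htT : t ∈ T) {J : Subgroup G} (hJ : J ∈ Om)
    (hz : zz J = z') : cj t J = J := by
  by_contra hmove
  have h := c.hyp
  have hT2 := c.syl.2.1
  have htt := TTz.sq h ht
  have hzt := TTz.comm ht
  have hti : t⁻¹ = t := inv_eq_of_mul_eq_one_right htt
  have hzi : z⁻¹ = z := inv_eq_of_mul_eq_one_right c.z_mul
  set J2 := cj t J with hJ2
  have hJ2O : J2 ∈ Om := h.conj J hJ t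
  have hJ2z : zz J2 = z' := c.cj_zz hJ hz htT
  have hzJ : cj z J = J ∨ cj z J = J2 := by
    by_contra hno
    push Not at hno
    obtain ⟨n1, n2⟩ := hno
    obtain ⟨x, v, n, hq⟩ := h.exists_gq hJ (syl_inf hT2 (c.mem_OmS hJ hz))
    have hxT := hq.c_mem
    have hvT := hq.v_mem
    set x' := t * x * t⁻¹ with hx'
    have hx'm : x' ∈ J2 ⊓ T := ⟨conj_mem_cj hxT.1, T.mul_mem (T.mul_mem htT hxT.2) (T.inv_mem htT)⟩
    have hxx : x * x' = x' * x := h.comm hT2 (c.mem_OmS hJ hz) (c.mem_OmS hJ2O hJ2z) (Ne.symm hmove) hxT hx'm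
    have htx : (x * x') * t = t * (x * x') := by
      rw [hxx]
      calc t * x * t⁻¹ * x * t = t * x * (t⁻¹ * x * t) := by group
        _ = t * (x * (t * x * t⁻¹)) := by rw [hti]; group
        _ = t * (x' * x) := by rw [← hxx]
    have h1 := c.comm_of ht (T.mul_mem hxT.2 hx'm.2) htx
    -- conjugating by `z`
    have h2 : x * x' = (z * x * z⁻¹) * (z * x' * z⁻¹) := by
      calc x * x' = x * x' * z * z⁻¹ := by group
        _ = z * (x * x') * z⁻¹ := by rw [← h1]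
        _ = _ := by group
    have hzJO : cj z J ∈ Om := h.conj _ hJ z
    have hzJ2O : cj z J2 ∈ Om := h.conj _ hJ2O z
    have m1 : z * x * z⁻¹ ∈ cj z J ⊓ T :=
      ⟨conj_mem_cj hxT.1, T.mul_mem (T.mul_mem c.mem hxT.2) (T.inv_mem c.mem)⟩
    have m2 : z * x' * z⁻¹ ∈ cj z J2 ⊓ T :=
      ⟨conj_mem_cj hx'm.1, T.mul_mem (T.mul_mem c.mem hx'm.2) (T.inv_mem c.mem)⟩
    have n3 : J ≠ cj z J2 := by
      intro h3
      apply n2
      have h4 := congrArg (cj z⁻¹) h3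
      rw [cj_inv_cj, hzi] at h4
      exact h4
    have c1 : Commute v x' := h.comm hT2 (c.mem_OmS hJ hz) (c.mem_OmS hJ2O hJ2z) (Ne.symm hmove) hvT hx'm
    have c2 : Commute v (z * x * z⁻¹) :=
      h.comm hT2 (c.mem_OmS hJ hz) (c.mem_OmS hzJO (c.cj_zz hJ hz c.mem)) (Ne.symm n1) hvT m1
    have c3 : Commute v (z * x' * z⁻¹) :=
      h.comm hT2 (c.mem_OmS hJ hz) (c.mem_OmS hzJ2O (c.cj_zz hJ2O hJ2z c.mem)) n3 hvT m2
    have c4 : Commute v (x * x') := by rw [h2]; exact c2.mul_right c3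
    have c5 : Commute v x := by
      have h6 : x = (x * x') * x'⁻¹ := by group
      rw [h6]
      exact c4.mul_right c1.inv_right
    exact hq.not_comm c5.eq
  have hd : ∀ k ∈ centralizer {t}, z * k * z⁻¹ * k⁻¹ ∈ OO (centralizer {t}) := c.deg t ht
  rcases hzJ with h1 | h1
  · have h2 := triv_of_swap h hJ hJ2O (c.ty J hJ) htt rfl (Ne.symm hmove) (hz.trans hJ2z.symm) h1 hzt hd
    exact c.not_comm hJ hz (c.comm_of_triv c.mem h2)
  · have htz : t * z ∈ T := T.mul_mem htT c.mem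
    have h0 : cj (t * z) J = J := by
      rw [cj_mul, h1, hJ2, ← cj_mul, htt, cj_one]
    have h2 := triv_of_swap (u := t * z) h hJ hJ2O (c.ty J hJ) htt rfl (Ne.symm hmove) (hz.trans hJ2z.symm) h0
      (by rw [mul_assoc, hzt]) (by
        intro k hk
        have h3 := mem_centralizer_singleton_iff.1 hk
        have h4 : t * z * k * (t * z)⁻¹ * k⁻¹ = z * k * z⁻¹ * k⁻¹ := by
          calc t * z * k * (t * z)⁻¹ * k⁻¹ = (t * z) * k * (t * z)⁻¹ * k⁻¹ := by group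
            _ = (z * t) * k * (z * t)⁻¹ * k⁻¹ := by rw [hzt]
            _ = z * (t * k) * t⁻¹ * z⁻¹ * k⁻¹ := by group
            _ = z * (k * t) * t⁻¹ * z⁻¹ * k⁻¹ := by rw [h3]
            _ = z * k * z⁻¹ * k⁻¹ := by group
        rw [h4]
        exact hd k hk)
    have h5 := c.comm_of_triv htz h2
    refine c.not_comm hJ hz fun q hq => ?_
    exact c.comm_of (TTz.mul_mem h ht) hq.2 (h5 q hq).symm

/-- some `t` fixes an element of order 4 of `J ⊓ T` -/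
theorem exists_fix (c : Conf Om z z' T) {t1 t2 : G} (h1 : t1 ∈ TTz Om z) (h2 : t2 ∈ TTz Om z)
    (h12 : t1 * t2 ∈ TTz Om z) (hT1 : t1 ∈ T) (hT2 : t2 ∈ T) {J : Subgroup G} (hJ : J ∈ Om) (hz : zz J = z') :
    ∃ x y n, GQ (J ⊓ T) x y z' n ∧ (∀ a ∈ T ⊓ normalizer (J : Set G), a * x * a⁻¹ ∈ zpowers x) ∧
      ∃ t ∈ TTz Om z, t ∈ T ∧ t * x ^ 2 ^ n * t⁻¹ = x ^ 2 ^ n := by
  have h := c.hyp
  have hTp := c.syl.2.1
  have hQ := syl_inf hTp (c.mem_OmS hJ hz)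
  obtain ⟨x, y, n, hq, hx⟩ := h.exists_gq_cyclic (T := T ⊓ normalizer (J : Set G)) hJ hQ
    (hTp.to_le inf_le_left) (by
      rintro a ⟨ha, haJ⟩
      rw [mem_normalizer_iff_cj, cj_inf, mem_normalizer_iff_cj.1 haJ, mem_normalizer_iff_cj.1 (le_normalizer ha)])
  rw [hz] at hq
  refine ⟨x, y, n, hq, hx, ?_⟩
  have m1 : t1 ∈ T ⊓ normalizer (J : Set G) := ⟨hT1, mem_normalizer_iff_cj.2 (c.cj_t h1 hT1 hJ hz)⟩
  have m2 : t2 ∈ T ⊓ normalizer (J : Set G) := ⟨hT2, mem_normalizer_iff_cj.2 (c.cj_t h2 hT2 hJ hz)⟩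
  have key : ∀ a ∈ T ⊓ normalizer (J : Set G), a * x ^ 2 ^ n * a⁻¹ = x ^ 2 ^ n ∨
      a * x ^ 2 ^ n * a⁻¹ = x ^ 2 ^ n * z' := by
    intro a ha
    apply eq_w_or hq
    · rw [← _root_.conj_pow]
      exact (zpowers x).pow_mem (hx a ha) _
    · calc a * x ^ 2 ^ n * a⁻¹ * (a * x ^ 2 ^ n * a⁻¹) = a * (x ^ 2 ^ n * x ^ 2 ^ n) * a⁻¹ := by group
        _ = z' := by rw [hq.w_sq, c.comm' ha.1, mul_inv_cancel_right]
  rcases key t1 m1 with h3 | h3
  · exact ⟨t1, h1, hT1, h3⟩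
  rcases key t2 m2 with h4 | h4
  · exact ⟨t2, h2, hT2, h4⟩
  refine ⟨t1 * t2, h12, T.mul_mem hT1 hT2, ?_⟩
  calc t1 * t2 * x ^ 2 ^ n * (t1 * t2)⁻¹ = t1 * (t2 * x ^ 2 ^ n * t2⁻¹) * t1⁻¹ := by group
    _ = (t1 * x ^ 2 ^ n * t1⁻¹) * (t1 * z' * t1⁻¹) := by rw [h4]; group
    _ = x ^ 2 ^ n * z' * z' := by rw [h3, c.comm' hT1, mul_inv_cancel_right]
    _ = x ^ 2 ^ n := by rw [mul_assoc, c.z'_mul, mul_one]

/-- the contradiction -/
theorem false_of (c : Conf Om z z' T) {t1 t2 : G} (h1 : t1 ∈ TTz Om z) (h2 : t2 ∈ TTz Om z)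
    (h12 : t1 * t2 ∈ TTz Om z) (hT1 : t1 ∈ T) (hT2 : t2 ∈ T) : False := by
  have h := c.hyp
  have hTp := c.syl.2.1
  obtain ⟨J, hJ, hz⟩ := c.exL
  obtain ⟨x, y, n, hq, hx, t, ht, htT, htw⟩ := c.exists_fix h1 h2 h12 hT1 hT2 hJ hz
  have hzi : z⁻¹ = z := inv_eq_of_mul_eq_one_right c.z_mul
  have hwQ : x ^ 2 ^ n ∈ J ⊓ T := Subgroup.pow_mem _ hq.c_mem _
  have hzw : z * x ^ 2 ^ n = x ^ 2 ^ n * z :=
    c.comm_of ht hwQ.2 (mul_inv_eq_iff_eq_mul.1 htw).symm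
  -- (B2)
  have hzJ : cj z J = J := by
    by_contra hne
    have h3 : x ^ 2 ^ n ∈ cj z J := by
      rw [mem_cj, hzi, hzw, mul_assoc, c.z_mul, mul_one]
      exact hwQ.1
    have h4 := hq.orderOf_w
    rcases Cit.inf_inf_le h hTp (c.mem_OmS hJ hz) (c.mem_OmS (h.conj J hJ z) (c.cj_zz hJ hz c.mem)) (Ne.symm hne)
      hwQ h3 with h5 | ⟨h5, -⟩
    · rw [h5, orderOf_one] at h4
      omega
    · rw [h5, h.orderOf_zz hJ] at h4
      omega
  -- (B3)
  have tJ := c.cj_t ht htT hJ hz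
  have mz : z ∈ T ⊓ normalizer (J : Set G) := ⟨c.mem, mem_normalizer_iff_cj.2 hzJ⟩
  have mt : t ∈ T ⊓ normalizer (J : Set G) := ⟨htT, mem_normalizer_iff_cj.2 tJ⟩
  have nQ : ∀ a ∈ T ⊓ normalizer (J : Set G), a ∈ normalizer ((J ⊓ T : Subgroup G) : Set G) := by
    rintro a ⟨ha, haJ⟩
    rw [mem_normalizer_iff_cj, cj_inf, mem_normalizer_iff_cj.1 haJ, mem_normalizer_iff_cj.1 (le_normalizer ha)]
  have e1 := conj_eq_or hq (nQ t mt) (TTz.sq h ht) (hx t mt) htw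
  have e2 := conj_eq_or hq (nQ z mz) c.z_mul (hx z mz) (by rw [hzw, mul_inv_cancel_right])
  rcases comm_or (Q := J ⊓ T) (t := t) (z := z) c.z'_mul (by rw [c.comm' htT, mul_inv_cancel_right])
    (fun q hq' => (c.comm' hq'.2).symm) e1 e2 (fun q hq' h5 => by
      rw [c.comm_of ht hq'.2 (mul_inv_eq_iff_eq_mul.1 h5).symm, mul_inv_cancel_right]) with h5 | h5
  · exact c.not_comm hJ hz fun q hq' => mul_inv_eq_iff_eq_mul.1 (h5 q hq')
  · refine c.not_comm hJ hz fun q hq' => ?_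
    exact c.comm_of (TTz.mul_mem h ht) hq'.2 (mul_inv_eq_iff_eq_mul.1 (h5 q hq')).symm

end Conf

/-- membership in `TTz` -/
theorem mem_TTz [Finite G] (h : Hyp Om) {S K L : Subgroup G} (hS : IsPGroup 2 S) (hK : K ∈ OmS Om S)
    (hL : L ∈ OmS Om S) (hne : K ≠ L) {z : G} (hKz : zz K = z) (hLz : zz L = z) {x y : G} (hx : x ∈ K ⊓ S)
    (hy : y ∈ L ⊓ S) (hxx : x * x = z) (hyy : y * y = z) : x * y ∈ TTz Om z :=
  ⟨K, hK.1, L, hL.1, hne, hKz, hLz, x, hx.1, y, hy.1, hxx, hyy, h.comm hS hK hL hne hx hy, rfl⟩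

/-- (L3) two elements of `TT(z)` centralised by `z'` with product in `TT(z)` -/
theorem exists_pair [Finite G] (h : Hyp Om) (hs : Same Om) {K1 K2 K3 L : Subgroup G} (hK1 : K1 ∈ Om)
    (hK2 : K2 ∈ Om) (hK3 : K3 ∈ Om) (h12 : K1 ≠ K2) (h13 : K1 ≠ K3) (h23 : K2 ≠ K3) {z : G} (z1 : zz K1 = z)
    (z2 : zz K2 = z) (z3 : zz K3 = z) (hL : L ∈ Om) (hne : zz L ≠ z) (hc : zz L * z = z * zz L) :
    ∃ T : Subgroup G, IsPGroup 2 T ∧ z ∈ T ∧ T ≤ centralizer {zz L} ∧ ∃ t1 ∈ T, ∃ t2 ∈ T, t1 ∈ TTz Om z ∧ t2 ∈ TTz Om z ∧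
      t1 * t2 ∈ TTz Om z := by
  have hzz : z * z = 1 := by rw [← z1]; exact h.zz_mul hK1
  have hz' : zz L * zz L = 1 := h.zz_mul hL
  set z' := zz L with hz'def
  have hzi' : z'⁻¹ = z' := inv_eq_of_mul_eq_one_right hz'
  obtain ⟨T0, hT0, hz'T0⟩ := exists_syl_ge (P := zpowers z') (C := centralizer {z})
    (AutAct.isPGroup_zpowers (k := 1) (by rw [pow_one, pow_two, hz']))
    (by rw [zpowers_le]; exact mem_centralizer_singleton_iff.2 hc)
  have hTp := hT0.2.1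
  have hz'T : z' ∈ T0 := hz'T0 (mem_zpowers z')
  have memO : ∀ {K : Subgroup G}, K ∈ Om → zz K = z → K ∈ OmS Om T0 := fun {K} hK hz =>
    h.mem_OmS_of_syl hK (by rw [hz]; exact hT0)
  have hzT : z ∈ T0 := by
    have := (h.zz_mem_inf hTp (memO hK1 z1)).2
    rwa [z1] at this
  refine ⟨T0 ⊓ centralizer {z'}, hTp.to_le inf_le_left, ⟨hzT, mem_centralizer_singleton_iff.2 hc.symm⟩, inf_le_right, ?_⟩
  by_cases hall : ∀ K ∈ Om, zz K = z → cj z' K = K
  · -- `z'` inverts an element of order 4 of each `K_i`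
    have inv : ∀ K ∈ Om, zz K = z → ∃ x ∈ K ⊓ T0, x * x = z ∧ z' * x * z'⁻¹ = x⁻¹ := by
      intro K hK hKz
      have hQ := syl_inf hTp (memO hK hKz)
      refine AutFacts.exists_inverted_conj (h.isGQ hK hQ) (z := z) ?_ ?_ hz' ?_
      · intro t ht ht2
        rw [← hKz]; exact h.uniq K hK t ht.1 ht2
      · rw [mem_normalizer_iff_cj, cj_inf, hall K hK hKz, mem_normalizer_iff_cj.1 (le_normalizer hz'T)]
      · by_contra hno
        push Not at hno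
        apply hne
        rw [← hKz]
        symm
        apply zz_eq_of_le h hs hK hL hQ
        intro q hq
        exact mem_centralizer_singleton_iff.2 (hno q hq).symm
    obtain ⟨x1, hx1, e1, i1⟩ := inv K1 hK1 z1
    obtain ⟨x2, hx2, e2, i2⟩ := inv K2 hK2 z2
    obtain ⟨x3, hx3, e3, i3⟩ := inv K3 hK3 z3
    have m12 := mem_TTz h hTp (memO hK1 z1) (memO hK2 z2) h12 z1 z2 hx1 hx2 e1 e2
    have m23 := mem_TTz h hTp (memO hK2 z2) (memO hK3 z3) h23 z2 z3 hx2 hx3 e2 e3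
    have m13 := mem_TTz h hTp (memO hK1 z1) (memO hK3 z3) h13 z1 z3 ((K1 ⊓ T0).inv_mem hx1) hx3
      (inv_sq e1 hzz).1 e3
    have cent : ∀ {a b : G}, a * b = b * a → (a * b) * (a * b) = 1 → z' * a * z'⁻¹ = a⁻¹ →
        z' * b * z'⁻¹ = b⁻¹ → a * b ∈ centralizer {z'} := by
      intro a b hab h2 ha hb
      rw [mem_centralizer_singleton_iff]
      have h3 : z' * (a * b) * z'⁻¹ = a * b := by
        calc z' * (a * b) * z'⁻¹ = (z' * a * z'⁻¹) * (z' * b * z'⁻¹) := by group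
          _ = (b * a)⁻¹ := by rw [ha, hb]; group
          _ = (a * b)⁻¹ := by rw [hab]
          _ = a * b := inv_eq_of_mul_eq_one_right h2
      exact (mul_inv_eq_iff_eq_mul.1 h3).symm
    have c12 := h.comm hTp (memO hK1 z1) (memO hK2 z2) h12 hx1 hx2
    have c23 := h.comm hTp (memO hK2 z2) (memO hK3 z3) h23 hx2 hx3
    refine ⟨x1 * x2, ⟨T0.mul_mem hx1.2 hx2.2, cent c12 (TTz.sq h m12) i1 i2⟩, x2 * x3,
      ⟨T0.mul_mem hx2.2 hx3.2, cent c23 (TTz.sq h m23) i2 i3⟩, m12, m23, ?_⟩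
    have h4 : x1 * x2 * (x2 * x3) = x1⁻¹ * x3 := by
      calc x1 * x2 * (x2 * x3) = x1 * (x2 * x2) * x3 := by group
        _ = (z * x1) * x3 := by rw [e2, ← e1]; group
        _ = x1⁻¹ * x3 := by rw [(inv_sq e1 hzz).2]
    rw [h4]; exact m13
  · -- `z'` moves some `K`
    push Not at hall
    obtain ⟨K, hK, hKz, hmove⟩ := hall
    have hK'O : cj z' K ∈ Om := h.conj K hK z'
    have hK'z : zz (cj z' K) = z := by
      rw [h.zz_cj hK, hKz, hc, mul_inv_cancel_right]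
    obtain ⟨x, y, n, hq⟩ := h.exists_gq hK (syl_inf hTp (memO hK hKz))
    rw [hKz] at hq
    obtain ⟨q1, hq1, q2, hq2, o1, o2, o12, hqq⟩ := hq.exists_pair
    have sq : ∀ q ∈ K ⊓ T0, orderOf q = 4 → q * q = z := by
      intro q hq' h4
      rw [← hKz]; exact h.sq_eq_zz hK hq'.1 h4
    have cm : ∀ q ∈ K ⊓ T0, z' * q * z'⁻¹ ∈ cj z' K ⊓ T0 := fun q hq' =>
      ⟨conj_mem_cj hq'.1, T0.mul_mem (T0.mul_mem hz'T hq'.2) (T0.inv_mem hz'T)⟩
    have mem : ∀ q ∈ K ⊓ T0, orderOf q = 4 → q * (z' * q * z'⁻¹) ∈ TTz Om z := by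
      intro q hq' h4
      refine mem_TTz h hTp (memO hK hKz) (memO hK'O hK'z) (Ne.symm hmove) hKz hK'z hq' (cm q hq') (sq q hq' h4) ?_
      calc z' * q * z'⁻¹ * (z' * q * z'⁻¹) = z' * (q * q) * z'⁻¹ := by group
        _ = z := by rw [sq q hq' h4, hc, mul_inv_cancel_right]
    have com : ∀ q ∈ K ⊓ T0, ∀ r ∈ K ⊓ T0, r * (z' * q * z'⁻¹) = (z' * q * z'⁻¹) * r := fun q hq' r hr =>
      h.comm hTp (memO hK hKz) (memO hK'O hK'z) (Ne.symm hmove) hr (cm q hq')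
    have cen : ∀ q ∈ K ⊓ T0, q * (z' * q * z'⁻¹) ∈ T0 ⊓ centralizer {z'} := by
      intro q hq'
      refine ⟨T0.mul_mem hq'.2 (cm q hq').2, ?_⟩
      show _ ∈ centralizer {z'}
      rw [mem_centralizer_singleton_iff]
      calc q * (z' * q * z'⁻¹) * z' = (z' * q * z'⁻¹) * q * z' := by rw [com q hq' q hq']
        _ = z' * (q * (z'⁻¹ * q * z')) := by group
        _ = z' * (q * (z' * q * z'⁻¹)) := by rw [hzi']
    refine ⟨_, cen q1 hq1, _, cen q2 hq2, mem q1 hq1 o1, mem q2 hq2 o2, ?_⟩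
    have h4 : q1 * (z' * q1 * z'⁻¹) * (q2 * (z' * q2 * z'⁻¹)) = (q1 * q2) * (z' * (q1 * q2) * z'⁻¹) := by
      calc q1 * (z' * q1 * z'⁻¹) * (q2 * (z' * q2 * z'⁻¹))
          = q1 * ((z' * q1 * z'⁻¹) * q2) * (z' * q2 * z'⁻¹) := by group
        _ = q1 * (q2 * (z' * q1 * z'⁻¹)) * (z' * q2 * z'⁻¹) := by rw [com q1 hq1 q2 hq2]
        _ = _ := by group
    rw [h4]
    exact mem _ (Subgroup.mul_mem _ hq1 hq2) o12

/-- **some `t ∈ TT(z)` is not degenerate** -/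
theorem exists_not_deg [Finite G] (h : Hyp Om) (ty : ∀ K ∈ Om, IsType K) (hs : Same Om)
    {K1 K2 K3 L : Subgroup G} (hK1 : K1 ∈ Om)
    (hK2 : K2 ∈ Om) (hK3 : K3 ∈ Om) (h12 : K1 ≠ K2) (h13 : K1 ≠ K3) (h23 : K2 ≠ K3) {z : G} (z1 : zz K1 = z)
    (z2 : zz K2 = z) (z3 : zz K3 = z) (hL : L ∈ Om) (hne : zz L ≠ z) (hc : zz L * z = z * zz L) :
    ∃ t ∈ TTz Om z, ¬ Deg z t := by
  by_contra hno
  push Not at hno
  obtain ⟨T0, hT0, hzT0, hT0L, t1, ht1, t2, ht2, m1, m2, m12⟩ :=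
    exists_pair h hs hK1 hK2 hK3 h12 h13 h23 z1 z2 z3 hL hne hc
  obtain ⟨T, hT, hle⟩ := exists_syl_ge hT0 hT0L
  have c : Conf Om z (zz L) T :=
    ⟨h, ty, hs, ⟨K1, hK1, z1⟩, ⟨L, hL, rfl⟩, Ne.symm hne, hT, hle hzT0, hno⟩
  exact c.false_of m1 m2 m12 (hle ht1) (hle ht2)

/-- in a simple group every involution `zz K` commutes with a conjugate `≠ zz K` -/
theorem exists_comm_ne [Finite G] [IsSimpleGroup G] (h : Hyp Om) {K : Subgroup G} (hK : K ∈ Om) :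
    ∃ L ∈ Om, zz L ≠ zz K ∧ zz L * zz K = zz K * zz L := by
  by_contra hno
  push Not at hno
  obtain ⟨N, hN, hodd, hc⟩ := Parab.zstar (h.orderOf_zz hK) (by
    intro g hg
    by_contra hne
    have h1 := h.zz_cj hK g
    refine hno _ (h.conj K hK g) (by rw [h1]; exact hne) ?_
    rw [h1]; exact hg)
  obtain ⟨Q, hQ⟩ := Hyp.exists_syl K
  obtain ⟨c, v, n, hq⟩ := h.exists_gq hK hQ
  rcases hN.eq_bot_or_eq_top with h1 | h1
  · have h2 : zz K ∈ center G := by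
      rw [mem_center_iff]
      intro g
      have h3 := hc g
      rw [h1, mem_bot, mul_inv_eq_one, mul_inv_eq_iff_eq_mul] at h3
      exact h3.symm
    rcases (inferInstance : (center G).Normal).eq_bot_or_eq_top with h3 | h3
    · rw [h3, mem_bot] at h2
      exact h.zz_ne hK h2
    · apply hq.not_comm
      have h4 : c ∈ center G := by rw [h3]; trivial
      exact mem_center_iff.1 h4 v
  · rw [h1, card_top, Nat.odd_iff] at hodd
    have h2 : 2 ∣ Nat.card G := by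
      rw [← h.orderOf_zz hK]
      exact orderOf_dvd_natCard _
    omega

/-- **#8092 (1)** in a simple group some `t ∈ TT(z)` is not degenerate -/
theorem exists_not_deg_simple [Finite G] [IsSimpleGroup G] (h : Hyp Om) (ty : ∀ K ∈ Om, IsType K) (hs : Same Om)
    {K1 K2 K3 : Subgroup G} (hK1 : K1 ∈ Om) (hK2 : K2 ∈ Om) (hK3 : K3 ∈ Om) (h12 : K1 ≠ K2) (h13 : K1 ≠ K3)
    (h23 : K2 ≠ K3) {z : G} (z1 : zz K1 = z) (z2 : zz K2 = z) (z3 : zz K3 = z) : ∃ t ∈ TTz Om z, ¬ Deg z t := by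
  obtain ⟨L, hL, hne, hc⟩ := exists_comm_ne h hK1
  rw [z1] at hne hc
  exact exists_not_deg h ty hs hK1 hK2 hK3 h12 h13 h23 z1 z2 z3 hL hne hc

end Conf

end Cfsg.Agent.Cit.EqDeg
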