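import Cfsg.Agent.Cit.EqSS
import Cfsg.Agent.Cit.TwoBasic

/-!
# All involutions `z_K`, `K ∈ Om(S)`, equal, `|Om(S)| = 4`: the closing argument, second half

bb R18 #8092 (6). If `Big Om M` (`M` contains the centralisers of the involutions of `D(S)`, `S ≤ M` a Sylow
2-subgroup of `G`) then the centralisers of the products `z_K z_L ∈ M` of commuting involutions are in `M`
(`EqFour.centralizer_mul_le`); with S1175 and Bender's theorem: `EqFour.false_of_big`.
-/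

set_option autoImplicit false
set_option linter.style.haveILetI false
set_option linter.unusedSectionVars false

namespace Cfsg.Agent.Cit.EqClose

open Subgroup Cfsg

variable {G : Type*} [Group G]

/-! ### Permutations of four points -/

theorem perm_aux : ∀ z : Equiv.Perm (Fin 4), (∀ i, z i ≠ i) → ∀ g : Equiv.Perm (Fin 4), g * z = z * g →
    g ^ 3 = 1 → g = 1 := by
  decide

theorem perm_aux' {α : Type*} [Finite α] (hα : Nat.card α = 4) (z g : Equiv.Perm α) (hz : ∀ i, z i ≠ i)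
    (hgz : g * z = z * g) {m : ℕ} (hm : Odd m) (hg : g ^ m = 1) : g = 1 := by
  have f : α ≃ Fin 4 := Finite.equivFinOfCardEq hα
  obtain ⟨r, hr⟩ : ∃ r : Equiv.Perm α ≃* Equiv.Perm (Fin 4), r = f.permCongrHom := ⟨_, rfl⟩
  have hrz : ∀ i, (r z) i ≠ i := by
    intro i h1
    rw [hr] at h1
    apply hz (f.symm i)
    have h2 : f (z (f.symm i)) = i := h1
    apply f.injective
    rw [h2]; simp
  have h1 : orderOf (r g) ∣ 24 := by
    have := orderOf_dvd_natCard (r g)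
    rwa [Nat.card_eq_fintype_card, Fintype.card_perm, Fintype.card_fin] at this
  have h2 : orderOf (r g) ∣ m := orderOf_dvd_of_pow_eq_one (by rw [← map_pow, hg, map_one])
  have h3 : orderOf (r g) ∣ 3 := by
    have h4 : Nat.Coprime (orderOf (r g)) (2 ^ 3) :=
      (Nat.Coprime.pow_right 3 ((Nat.coprime_two_right).2 (hm.of_dvd_nat h2)))
    exact h4.dvd_of_dvd_mul_left h1
  have h4 : r g = 1 := perm_aux (r z) hrz (r g) (by rw [← map_mul, hgz, map_mul])
    (orderOf_dvd_iff_pow_eq_one.1 h3)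
  exact (map_eq_one_iff r r.injective).1 h4

namespace EqFour

variable [Finite G] {Om : Set (Subgroup G)}

/-- elements of odd order of `C(z, z_L)` fix all the members with involution `z_L`, if `z` moves all of them -/
theorem fix_of_odd (e : EqFour Om) {L : Subgroup G} (hL : L ∈ Om) {z g : G} (hz : z * zz L = zz L * z)
    (hmv : ∀ J ∈ Om, zz J = zz L → cj z J ≠ J) (hg : g * zz L = zz L * g) (hgz : g * z = z * g)
    (ho : Odd (orderOf g)) {J : Subgroup G} (hJ : J ∈ Om) (hJz : zz J = zz L) : cj g J = J := by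
  have h := e.hyp
  obtain ⟨T, -, -, hLT⟩ := e.exists_sylow_ge (R := ⊥) hL IsPGroup.of_bot bot_le
  have hcl : ∀ c : centralizer {zz L}, ∀ J ∈ OmS Om (T : Subgroup G), cj (c : G) J ∈ OmS Om (T : Subgroup G) := by
    intro c J hJ
    rw [e.mem_OmS_iff T hLT] at hJ ⊢
    refine ⟨h.conj J hJ.1 _, ?_⟩
    rw [h.zz_cj hJ.1, hJ.2, mem_centralizer_singleton_iff.1 c.2, mul_inv_cancel_right]
  let act : centralizer {zz L} →* Equiv.Perm (OmS Om (T : Subgroup G)) :=
    { toFun := fun c =>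
        { toFun := fun J => ⟨cj (c : G) J, hcl c J J.2⟩
          invFun := fun J => ⟨cj (c : G)⁻¹ J, by
            have := hcl c⁻¹ J J.2
            simpa using this⟩
          left_inv := fun J => Subtype.ext (cj_inv_cj _ _)
          right_inv := fun J => Subtype.ext (cj_cj_inv _ _) }
      map_one' := by
        ext J : 1
        exact Subtype.ext (cj_one _)
      map_mul' := by
        intro c d
        ext J : 1
        exact Subtype.ext (cj_mul _ _ _) }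
  have hact : ∀ c J, ((act c J : OmS Om (T : Subgroup G)) : Subgroup G) = cj (c : G) J := fun c J => rfl
  have hzC : z ∈ centralizer {zz L} := mem_centralizer_singleton_iff.2 hz
  have hgC : g ∈ centralizer {zz L} := mem_centralizer_singleton_iff.2 hg
  have h1 : act ⟨g, hgC⟩ = 1 := by
    refine perm_aux' (by rw [Nat.card_coe_set_eq]; exact e.card T) (act ⟨z, hzC⟩) _ ?_ ?_ ho ?_
    · intro J hh
      have h2 := (e.mem_OmS_iff T hLT).1 J.2
      exact hmv J h2.1 h2.2 (congrArg Subtype.val hh)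
    · rw [← map_mul, ← map_mul]
      congr 1
      exact Subtype.ext hgz
    · rw [← map_pow]
      have h2 : (⟨g, hgC⟩ : centralizer {zz L}) ^ orderOf g = 1 := Subtype.ext (pow_orderOf_eq_one g)
      rw [h2, map_one]
  have hJT : J ∈ OmS Om (T : Subgroup G) := (e.mem_OmS_iff T hLT).2 ⟨hJ, hJz⟩
  have h2 := congrArg (fun p : Equiv.Perm (OmS Om (T : Subgroup G)) => ((p ⟨J, hJT⟩ : OmS Om (T : Subgroup G)) :
    Subgroup G)) h1
  exact h2

/-- the diagonal of `K K^t`, `t = z_L`, fixes all members with involution `z_L`, if `z_K` moves all of them -/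
theorem diag_fix (e : EqFour Om) {K L : Subgroup G} (hK : K ∈ Om) (hL : L ∈ Om)
    (hc : zz K * zz L = zz L * zz K) (hmK : cj (zz L) K ≠ K) (hmv : ∀ J ∈ Om, zz J = zz L → cj (zz K) J ≠ J)
    {k : G} (hk : k ∈ K) (hkc : k * (zz L * k * (zz L)⁻¹) * zz L = zz L * (k * (zz L * k * (zz L)⁻¹)))
    {J : Subgroup G} (hJ : J ∈ Om) (hJz : zz J = zz L) : cj (k * (zz L * k * (zz L)⁻¹)) J = J := by
  have h := e.hyp
  obtain ⟨z, hz⟩ : ∃ z, z = zz K := ⟨_, rfl⟩
  obtain ⟨t, ht⟩ : ∃ t, t = zz L := ⟨_, rfl⟩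
  rw [← hz] at hmv hc
  rw [← ht] at hc hmK hmv hkc hJz ⊢
  have htt : t * t = 1 := by rw [ht]; exact h.zz_mul hL
  have hK' : cj t K ∈ Om := h.conj K hK t
  have hK'z : zz (cj t K) = z := by rw [h.zz_cj hK, ← hz, ← hc, mul_inv_cancel_right]
  obtain ⟨X, hX⟩ : ∃ X, X = XX z := ⟨_, rfl⟩
  have hXC : X ≤ centralizer {z} := by rw [hX]; exact XX_le z
  have hXo : ¬ 2 ∣ Nat.card X := by rw [hX]; exact odd_XX z
  have hXn : centralizer {z} ≤ normalizer (X : Set G) := by rw [hX]; exact centralizer_le_normalizer_XX z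
  have hcomm : ∀ x ∈ cj t K, ∀ y ∈ K, x * y * x⁻¹ * y⁻¹ ∈ X := by
    intro x hx y hy
    rw [hX, hz]
    exact CloseFus.comm_mem_XX h hK' hK (by rw [hK'z, hz]) hmK hx hy
  have hKC : K ≤ centralizer {z} := by rw [hz]; exact h.le_centralizer hK
  have hKC' : cj t K ≤ centralizer {z} := by rw [← hK'z]; exact h.le_centralizer hK'
  -- the subgroup `H0`
  let H0 : Subgroup G := centralizer {z} ⊓ centralizer {t} ⊓
    ⨅ (J : Subgroup G) (_ : J ∈ Om ∧ zz J = t), normalizer (J : Set G)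
  have hH0 : ∀ g, g ∈ H0 ↔ (g * z = z * g ∧ g * t = t * g) ∧ ∀ J ∈ Om, zz J = t → cj g J = J := by
    intro g
    simp only [H0, mem_inf, mem_iInf, mem_centralizer_singleton_iff, mem_normalizer_iff_cj]
    exact ⟨fun h1 => ⟨h1.1, fun J h2 h3 => h1.2 J ⟨h2, h3⟩⟩, fun h1 => ⟨h1.1, fun J h2 => h1.2 J h2.1 h2.2⟩⟩
  have hodd : ∀ g, g * z = z * g → g * t = t * g → Odd (orderOf g) → g ∈ H0 := by
    intro g h1 h2 h3
    rw [hH0]
    refine ⟨⟨h1, h2⟩, fun J hJ hJt => ?_⟩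
    exact e.fix_of_odd hL (z := z) (g := g) (by rw [← ht]; exact hc) (fun J hJ hJz => hmv J hJ (by rw [hJz, ht]))
      (by rw [← ht]; exact h2) h1 h3 hJ (by rw [hJt, ht])
  have hcjX : ∀ c ∈ centralizer {z}, ∀ x ∈ X, c⁻¹ * x * c ∈ X := by
    intro c hc x hx
    have := (mem_normalizer_iff.1 (inv_mem (hXn hc)) x).1 hx
    simpa using this
  -- the property
  have key : ∀ a ∈ K, ∃ x ∈ X, a * (t * a * t⁻¹) * x ∈ H0 := by
    intro a ha
    have hcl : a ∈ closure {c | c ∈ K ∧ Odd (orderOf c)} := e.ty K hK ha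
    refine (closure_induction (p := fun a _ => a ∈ K ∧ ∃ x ∈ X, a * (t * a * t⁻¹) * x ∈ H0) ?_ ?_ ?_ ?_ hcl).2
    · rintro c ⟨hcK, hco⟩
      refine ⟨hcK, ?_⟩
      obtain ⟨c', hc'⟩ : ∃ c', c' = t * c * t⁻¹ := ⟨_, rfl⟩
      have hc'K : c' ∈ cj t K := by rw [hc']; exact conj_mem_cj hcK
      have hti : t⁻¹ = t := inv_eq_of_mul_eq_one_right htt
      have htc' : t * c' * t⁻¹ = c := by
        rw [hc', hti]
        calc t * (t * c * t) * t = (t * t) * c * (t * t) := by group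
          _ = c := by rw [htt]; group
      rw [← hc']
      obtain ⟨x, hx, hxt⟩ := CloseFus.exists_mul_comm hXo htt (y := c * c') (by
        have h1 : (c * c')⁻¹ * (t * (c * c') * t⁻¹) = c'⁻¹ * c⁻¹ * c'⁻¹⁻¹ * c⁻¹⁻¹ := by
          calc (c * c')⁻¹ * (t * (c * c') * t⁻¹) = c'⁻¹ * c⁻¹ * (t * c * t⁻¹) * (t * c' * t⁻¹) := by group
            _ = c'⁻¹ * c⁻¹ * c'⁻¹⁻¹ * c⁻¹⁻¹ := by rw [← hc', htc', inv_inv, inv_inv]
        rw [h1]
        exact hcomm _ (inv_mem hc'K) _ (inv_mem hcK))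
      refine ⟨x, hx, hodd _ ?_ hxt ?_⟩
      · exact mem_centralizer_singleton_iff.1 (mul_mem (mul_mem (hKC hcK) (hKC' hc'K)) (hXC hx))
      · -- the order is odd
        obtain ⟨C, hC⟩ : ∃ C, C = centralizer {z} := ⟨_, rfl⟩
        rw [← hC] at hKC hKC' hXC hXn
        have hN : (X.subgroupOf C).Normal := (normal_subgroupOf_iff_le_normalizer hXC).2 hXn
        let q := QuotientGroup.mk' (X.subgroupOf C)
        obtain ⟨m, hm⟩ : ∃ m, m = orderOf c := ⟨_, rfl⟩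
        have hcm : c ^ m = 1 := by rw [hm]; exact pow_orderOf_eq_one c
        have hcm' : c' ^ m = 1 := by rw [hc', _root_.conj_pow, hcm]; group
        let a1 : C := ⟨c, hKC hcK⟩
        let a2 : C := ⟨c', hKC' hc'K⟩
        let a3 : C := ⟨x, hXC hx⟩
        have h1 : q a3 = 1 := (QuotientGroup.eq_one_iff a3).2 hx
        have h2 : Commute (q a1) (q a2) := by
          have h3 : q (a2 * a1 * a2⁻¹ * a1⁻¹) = 1 :=
            (QuotientGroup.eq_one_iff _).2 (hcomm _ hc'K _ hcK)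
          rw [map_mul, map_mul, map_mul, map_inv, map_inv, mul_inv_eq_one, mul_inv_eq_iff_eq_mul] at h3
          exact h3.symm
        have h3 : q ((a1 * a2 * a3) ^ m) = 1 := by
          rw [map_pow, map_mul, map_mul, h1, mul_one, h2.mul_pow, ← map_pow, ← map_pow]
          have e1 : a1 ^ m = 1 := Subtype.ext hcm
          have e2 : a2 ^ m = 1 := Subtype.ext hcm'
          rw [e1, e2, map_one, mul_one]
        have h4 : (c * c' * x) ^ m ∈ X := by
          have h4' : (a1 * a2 * a3) ^ m ∈ X.subgroupOf C := (QuotientGroup.eq_one_iff _).1 h3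
          exact h4'
        have h5 : ((c * c' * x) ^ m) ^ Nat.card X = 1 := by
          have := pow_card_eq_one' (x := (⟨_, h4⟩ : X))
          exact congrArg Subtype.val this
        rw [← pow_mul] at h5
        have h6 : Odd (m * Nat.card X) := by
          rw [hm]
          refine hco.mul ?_
          rw [← Nat.not_even_iff_odd, even_iff_two_dvd]
          exact hXo
        exact h6.of_dvd_nat (orderOf_dvd_of_pow_eq_one h5)
    · exact ⟨K.one_mem, 1, X.one_mem, by simp⟩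
    · rintro a b - - ⟨haK, x, hx, hxa⟩ ⟨hbK, y, hy, hyb⟩
      refine ⟨K.mul_mem haK hbK, ?_⟩
      obtain ⟨a', ha'⟩ : ∃ a', a' = t * a * t⁻¹ := ⟨_, rfl⟩
      obtain ⟨b', hb'⟩ : ∃ b', b' = t * b * t⁻¹ := ⟨_, rfl⟩
      have ha'K : a' ∈ cj t K := by rw [ha']; exact conj_mem_cj haK
      have hb'K : b' ∈ cj t K := by rw [hb']; exact conj_mem_cj hbK
      rw [← ha'] at hxa
      rw [← hb'] at hyb
      have hab : t * (a * b) * t⁻¹ = a' * b' := by rw [ha', hb']; group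
      rw [hab]
      have h1 : a'⁻¹ * b⁻¹ * a'⁻¹⁻¹ * b⁻¹⁻¹ ∈ X := hcomm _ (inv_mem ha'K) _ (inv_mem hbK)
      refine ⟨b'⁻¹ * ((a'⁻¹ * b⁻¹ * a'⁻¹⁻¹ * b⁻¹⁻¹) * (b⁻¹ * x * b)) * b' * y, ?_, ?_⟩
      · exact X.mul_mem (hcjX _ (hKC' hb'K) _ (X.mul_mem h1 (hcjX _ (hKC hbK) _ hx))) hy
      · have h2 := H0.mul_mem hxa hyb
        have h3 : a * b * (a' * b') * (b'⁻¹ * ((a'⁻¹ * b⁻¹ * a'⁻¹⁻¹ * b⁻¹⁻¹) * (b⁻¹ * x * b)) * b' * y) =
            a * a' * x * (b * b' * y) := by group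
        rw [h3]; exact h2
    · rintro a - ⟨haK, x, hx, hxa⟩
      refine ⟨K.inv_mem haK, ?_⟩
      obtain ⟨a', ha'⟩ : ∃ a', a' = t * a * t⁻¹ := ⟨_, rfl⟩
      have ha'K : a' ∈ cj t K := by rw [ha']; exact conj_mem_cj haK
      rw [← ha'] at hxa
      have hab : t * a⁻¹ * t⁻¹ = a'⁻¹ := by rw [ha']; group
      rw [hab]
      refine ⟨(a⁻¹ * a'⁻¹)⁻¹ * x⁻¹ * (a⁻¹ * a'⁻¹) * (a' * a * a'⁻¹ * a⁻¹), ?_, ?_⟩
      · exact X.mul_mem (hcjX _ (mul_mem (inv_mem (hKC haK)) (inv_mem (hKC' ha'K))) _ (X.inv_mem hx))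
          (hcomm _ ha'K _ haK)
      · have h2 := H0.inv_mem hxa
        have h3 : a⁻¹ * a'⁻¹ * ((a⁻¹ * a'⁻¹)⁻¹ * x⁻¹ * (a⁻¹ * a'⁻¹) * (a' * a * a'⁻¹ * a⁻¹)) =
            (a * a' * x)⁻¹ := by group
        rw [h3]; exact h2
  obtain ⟨x, hx, hxk⟩ := key k hk
  obtain ⟨y, hy⟩ : ∃ y, y = k * (t * k * t⁻¹) := ⟨_, rfl⟩
  rw [← hy] at hkc hxk ⊢
  have h1 := ((hH0 _).1 hxk).1
  have hxt : x * t = t * x := by
    have h2 : y * (x * t) = y * (t * x) := by
      calc y * (x * t) = y * x * t := by group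
        _ = t * (y * x) := h1.2
        _ = y * (t * x) := by rw [← mul_assoc, ← hkc, mul_assoc]
    exact mul_left_cancel h2
  have hxz : x * z = z * x := mem_centralizer_singleton_iff.1 (hXC hx)
  have hxo : Odd (orderOf x) := by
    have h2 : orderOf x ∣ Nat.card X := by
      have := orderOf_dvd_natCard (⟨x, hx⟩ : X)
      rwa [Subgroup.orderOf_mk] at this
    refine Odd.of_dvd_nat ?_ h2
    rw [← Nat.not_even_iff_odd, even_iff_two_dvd]
    exact hXo
  have hyH : y ∈ H0 := by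
    have h2 := H0.mul_mem hxk (H0.inv_mem (hodd x hxz hxt hxo))
    rwa [mul_inv_cancel_right] at h2
  exact ((hH0 y).1 hyH).2 J hJ hJz

/-- elements fixing or inverting `w` -/
theorem pm_choice {a b w : G} (ha : a * w * a⁻¹ = w ∨ a * w * a⁻¹ = w⁻¹) (hb : b * w * b⁻¹ = w ∨ b * w * b⁻¹ = w⁻¹) :
    a * w = w * a ∨ b * w = w * b ∨ (a * b) * w = w * (a * b) := by
  rcases ha with ha | ha
  · exact Or.inl (mul_inv_eq_iff_eq_mul.1 ha)
  rcases hb with hb | hb
  · exact Or.inr (Or.inl (mul_inv_eq_iff_eq_mul.1 hb))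
  refine Or.inr (Or.inr (mul_inv_eq_iff_eq_mul.1 ?_))
  calc (a * b) * w * (a * b)⁻¹ = a * (b * w * b⁻¹) * a⁻¹ := by group
    _ = (a * w * a⁻¹)⁻¹ := by rw [hb]; group
    _ = w := by rw [ha, inv_inv]

end EqFour

namespace Big

variable [Finite G] {Om : Set (Subgroup G)} {M : Subgroup G}

/-- `z_L` fixes `K`: `z_K z_L` is conjugate to `z_L` -/
theorem centralizer_mul_le_of_fixed (e : EqZ Om) (b : Big Om M) {K L : Subgroup G} (hK : K ∈ Om) (hL : L ∈ Om)
    (hKM : zz K ∈ M) (hLM : zz L ∈ M) (hne : zz K ≠ zz L) (hfix : cj (zz L) K = K) :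
    centralizer {zz K * zz L} ≤ M := by
  have h := e.hyp
  have hn : zz L ∈ normalizer (K : Set G) := mem_normalizer_iff_cj.2 hfix
  have hc : zz L * zz K = zz K * zz L := h.comm_zz hK hn
  obtain ⟨S, hRS, hSC, hKS⟩ := e.exists_sylow_ge (R := zpowers (zz L)) hK (CloEnd.isPGroup_zpowers (h.zz_mul hL))
    (zpowers_le.2 (mem_centralizer_singleton_iff.2 hc))
  have hLS : zz L ∈ (S : Subgroup G) := hRS (mem_zpowers _)
  have hQ := syl_inf S.isPGroup' hKS
  have hnQ : zz L ∈ normalizer ((K ⊓ (S : Subgroup G) : Subgroup G) : Set G) := by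
    rw [mem_normalizer_iff_cj, cj_inf, hfix, mem_normalizer_iff_cj.1 (le_normalizer hLS)]
  obtain ⟨x, hx, hxz, -⟩ := exists_conj_mul (z := zz K) (y := zz L) hQ.2.1
    (fun t ht h2 h1 => h.eq_zz hK ht.1 h2 h1) (h.zz_mul hL) hnQ (by
      by_contra hcon
      push Not at hcon
      exact hne (e.zz_eq_of_cent hK hL hQ fun x hx => (hcon x hx).symm))
  rw [← hxz, ← cj_centralizer]
  have hxM : x ∈ M := b.centralizer_le e hK hKM (h.le_centralizer hK hx.1)
  intro g hg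
  rw [mem_cj] at hg
  have h2 : g = x * (x⁻¹ * g * x) * x⁻¹ := by group
  rw [h2]
  exact M.mul_mem (M.mul_mem hxM (b.centralizer_le e hL hLM hg)) (M.inv_mem hxM)

/-- **(h3)** -/
theorem centralizer_mul_le (e : EqFour Om) (hI : Inner Om) (b : Big Om M) {K L : Subgroup G} (hK : K ∈ Om)
    (hL : L ∈ Om) (hKM : zz K ∈ M) (hLM : zz L ∈ M) (hne : zz K ≠ zz L) (hc : zz K * zz L = zz L * zz K) :
    centralizer {zz K * zz L} ≤ M := by
  have h := e.hyp
  by_cases hf1 : ∃ K0 ∈ Om, zz K0 = zz K ∧ cj (zz L) K0 = K0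
  · obtain ⟨K0, hK0, hKz, hf⟩ := hf1
    have h1 := b.centralizer_mul_le_of_fixed e.toEqZ hK0 hL (by rwa [hKz]) hLM (by rwa [hKz]) hf
    rwa [hKz] at h1
  by_cases hf2 : ∃ L0 ∈ Om, zz L0 = zz L ∧ cj (zz K) L0 = L0
  · obtain ⟨L0, hL0, hLz, hf⟩ := hf2
    have h1 := b.centralizer_mul_le_of_fixed e.toEqZ hL0 hK (by rwa [hLz]) hKM (by rw [hLz]; exact hne.symm) hf
    rw [hLz, ← hc] at h1
    exact h1
  push Not at hf1 hf2
  obtain ⟨z, hz⟩ : ∃ z, z = zz K := ⟨_, rfl⟩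
  obtain ⟨t, ht⟩ : ∃ t, t = zz L := ⟨_, rfl⟩
  have hzz : z * z = 1 := by rw [hz]; exact h.zz_mul hK
  have htt : t * t = 1 := by rw [ht]; exact h.zz_mul hL
  have hti : t⁻¹ = t := inv_eq_of_mul_eq_one_right htt
  -- the Sylow subgroup `S`
  obtain ⟨S, hRS, hSC, hKS⟩ := e.exists_sylow_ge (R := zpowers (zz L)) hK (CloEnd.isPGroup_zpowers (h.zz_mul hL))
    (zpowers_le.2 (mem_centralizer_singleton_iff.2 hc.symm))
  have htS : t ∈ (S : Subgroup G) := by rw [ht]; exact hRS (mem_zpowers _)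
  have hS := S.isPGroup'
  have hmove : ∀ J ∈ OmS Om (S : Subgroup G), cj t J ∈ OmS Om (S : Subgroup G) ∧ cj t J ≠ J := by
    intro J hJ
    refine ⟨cj_mem_OmS' h.conj (le_normalizer htS) hJ, ?_⟩
    rw [ht]
    exact hf1 J hJ.1 (e.eqz S _ hJ _ hKS)
  have htt' : ∀ J : Subgroup G, cj t (cj t J) = J := fun J => by rw [← cj_mul, htt, cj_one]
  obtain ⟨K2, hK2, hK20, hK21⟩ : ∃ K2 ∈ OmS Om (S : Subgroup G), K2 ≠ K ∧ K2 ≠ cj t K := by
    by_contra hcon
    push Not at hcon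
    have h1 : OmS Om (S : Subgroup G) ⊆ {K, cj t K} := by
      intro J hJ
      by_cases hJK : J = K
      · exact Or.inl hJK
      · exact Or.inr (hcon J hJ hJK)
    have h2 := Set.ncard_le_ncard h1 (Set.toFinite _)
    rw [e.card S] at h2
    have h3 := Set.ncard_insert_le K {cj t K}
    rw [Set.ncard_singleton] at h3
    omega
  obtain ⟨hK1m, hK1ne⟩ := hmove K hKS
  obtain ⟨hK3m, hK3ne⟩ := hmove K2 hK2
  have hK30 : cj t K2 ≠ K := fun h1 => hK21 (by rw [← h1, htt'])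
  have hK31 : cj t K2 ≠ cj t K := fun h1 => hK20 (cj_inj.1 h1)
  obtain ⟨F, hF⟩ : ∃ F : Fin 4 → Subgroup G, F = ![K, cj t K, K2, cj t K2] := ⟨_, rfl⟩
  have hF0 : F 0 = K := by rw [hF]; rfl
  have hF1 : F 1 = cj t K := by rw [hF]; rfl
  have hF2 : F 2 = K2 := by rw [hF]; rfl
  have hF3 : F 3 = cj t K2 := by rw [hF]; rfl
  have hFinj : Function.Injective F := by
    have a01 : F 0 ≠ F 1 := by rw [hF0, hF1]; exact hK1ne.symm
    have a02 : F 0 ≠ F 2 := by rw [hF0, hF2]; exact hK20.symm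
    have a03 : F 0 ≠ F 3 := by rw [hF0, hF3]; exact hK30.symm
    have a12 : F 1 ≠ F 2 := by rw [hF1, hF2]; exact hK21.symm
    have a13 : F 1 ≠ F 3 := by rw [hF1, hF3]; exact hK31.symm
    have a23 : F 2 ≠ F 3 := by rw [hF2, hF3]; exact hK3ne.symm
    intro i j hij
    revert i
    refine fin4 ?_ ?_ ?_ ?_ <;> revert j <;> refine fin4 ?_ ?_ ?_ ?_ <;> intro h1 <;>
      first | rfl | exact absurd h1 a01 | exact absurd h1 a02 | exact absurd h1 a03 | exact absurd h1 a12 |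
        exact absurd h1 a13 | exact absurd h1 a23 | exact absurd h1.symm a01 | exact absurd h1.symm a02 |
        exact absurd h1.symm a03 | exact absurd h1.symm a12 | exact absurd h1.symm a13 | exact absurd h1.symm a23
  have hFm : ∀ i, F i ∈ OmS Om (S : Subgroup G) := by
    refine fin4 ?_ ?_ ?_ ?_
    · rw [hF0]; exact hKS
    · rw [hF1]; exact hK1m
    · rw [hF2]; exact hK2
    · rw [hF3]; exact hK3m
  -- diagonal elements
  have hconjS : ∀ q ∈ (S : Subgroup G), t * q * t⁻¹ ∈ (S : Subgroup G) := fun q hq =>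
    mul_mem (mul_mem htS hq) ((S : Subgroup G).inv_mem htS)
  have hd : ∀ J ∈ OmS Om (S : Subgroup G), ∀ q ∈ J ⊓ (S : Subgroup G),
      q * (t * q * t⁻¹) = (t * q * t⁻¹) * q ∧ q * (t * q * t⁻¹) * t = t * (q * (t * q * t⁻¹)) := by
    intro J hJ q hq
    have h1 : q * (t * q * t⁻¹) = (t * q * t⁻¹) * q :=
      h.comm hS hJ (hmove J hJ).1 (hmove J hJ).2.symm hq ⟨conj_mem_cj hq.1, hconjS q hq.2⟩
    refine ⟨h1, ?_⟩
    have h2 : t * (t * q * t⁻¹) * t⁻¹ = q := by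
      rw [hti]
      calc t * (t * q * t) * t = (t * t) * q * (t * t) := by group
        _ = q := by rw [htt]; group
    have h3 : t * (q * (t * q * t⁻¹)) * t⁻¹ = q * (t * q * t⁻¹) := by
      calc t * (q * (t * q * t⁻¹)) * t⁻¹ = (t * q * t⁻¹) * (t * (t * q * t⁻¹) * t⁻¹) := by group
        _ = q * (t * q * t⁻¹) := by rw [h2, h1]
    exact (mul_inv_eq_iff_eq_mul.1 h3).symm
  -- they fix `L`
  have hdL : ∀ J ∈ OmS Om (S : Subgroup G), ∀ q ∈ J ⊓ (S : Subgroup G), cj (q * (t * q * t⁻¹)) L = L := by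
    intro J hJ q hq
    have hJz : zz J = zz K := e.eqz S _ hJ _ hKS
    have h1 := (hd J hJ q hq).2
    rw [ht] at h1 ⊢
    exact e.diag_fix hJ.1 hL (by rw [hJz]; exact hc) (hf1 J hJ.1 hJz) (fun J' hJ' hJz' => by
      rw [hJz]; exact hf2 J' hJ' hJz') hq.1 h1 hL rfl
  obtain ⟨T, hRT, hTC, hLT⟩ := e.exists_sylow_ge (R := (S : Subgroup G) ⊓ centralizer {zz L}) hL
    (hS.to_le inf_le_left) inf_le_right
  obtain ⟨cL, vL, nL, hgL⟩ := h.exists_gq hL (syl_inf T.isPGroup' hLT)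
  obtain ⟨w, hw, hw4, hwA, -⟩ := hgL.exists_normal_four (T.isPGroup'.to_le inf_le_right)
    (A := (T : Subgroup G) ⊓ normalizer (L : Set G)) (T.isPGroup'.to_le inf_le_left) (by
      intro g hg
      rw [mem_normalizer_iff_cj, cj_inf, mem_normalizer_iff_cj.1 hg.2, mem_normalizer_iff_cj.1 (le_normalizer hg.1)])
  have hdw : ∀ J ∈ OmS Om (S : Subgroup G), ∀ q ∈ J ⊓ (S : Subgroup G),
      (q * (t * q * t⁻¹)) * w * (q * (t * q * t⁻¹))⁻¹ = w ∨
      (q * (t * q * t⁻¹)) * w * (q * (t * q * t⁻¹))⁻¹ = w⁻¹ := by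
    intro J hJ q hq
    refine hwA _ ⟨hRT ⟨mul_mem hq.2 (hconjS q hq.2), ?_⟩, mem_normalizer_iff_cj.2 (hdL J hJ q hq)⟩
    refine mem_centralizer_singleton_iff.2 ?_
    rw [← ht]
    exact (hd J hJ q hq).2
  have hsel : ∀ J ∈ OmS Om (S : Subgroup G), ∃ q ∈ J ⊓ (S : Subgroup G), orderOf q = 4 ∧
      (q * (t * q * t⁻¹)) * w = w * (q * (t * q * t⁻¹)) := by
    intro J hJ
    obtain ⟨c, v, n, hg⟩ := h.exists_gq hJ.1 (syl_inf hS hJ)
    obtain ⟨q1, hq1, q2, hq2, h14, h24, h124, -⟩ := hg.exists_pair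
    rcases EqFour.pm_choice (hdw J hJ q1 hq1) (hdw J hJ q2 hq2) with h1 | h1 | h1
    · exact ⟨q1, hq1, h14, h1⟩
    · exact ⟨q2, hq2, h24, h1⟩
    · refine ⟨q1 * q2, mul_mem hq1 hq2, h124, ?_⟩
      have h2 : q2 * (t * q1 * t⁻¹) = (t * q1 * t⁻¹) * q2 :=
        h.comm hS hJ (hmove J hJ).1 (hmove J hJ).2.symm hq2 ⟨conj_mem_cj hq1.1, hconjS q1 hq1.2⟩
      have h3 : (q1 * q2) * (t * (q1 * q2) * t⁻¹) = q1 * (t * q1 * t⁻¹) * (q2 * (t * q2 * t⁻¹)) := by
        calc (q1 * q2) * (t * (q1 * q2) * t⁻¹) = q1 * (q2 * (t * q1 * t⁻¹)) * (t * q2 * t⁻¹) := by group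
          _ = q1 * (t * q1 * t⁻¹) * (q2 * (t * q2 * t⁻¹)) := by rw [h2]; group
      rw [h3]
      exact h1
  obtain ⟨q, hq, hq4, hqw⟩ := hsel K hKS
  obtain ⟨r, hr, hr4, hrw⟩ := hsel K2 hK2
  obtain ⟨q', hq'⟩ : ∃ q', q' = t * q * t⁻¹ := ⟨_, rfl⟩
  obtain ⟨r', hr'⟩ : ∃ r', r' = t * r * t⁻¹ := ⟨_, rfl⟩
  have hdq := hd K hKS q hq
  have hdr := hd K2 hK2 r hr
  rw [← hq'] at hqw hdq
  rw [← hr'] at hrw hdr
  have hq'm : q' ∈ cj t K ⊓ (S : Subgroup G) := by rw [hq']; exact ⟨conj_mem_cj hq.1, hconjS q hq.2⟩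
  have hr'm : r' ∈ cj t K2 ⊓ (S : Subgroup G) := by rw [hr']; exact ⟨conj_mem_cj hr.1, hconjS r hr.2⟩
  have ord_conj : ∀ x : G, orderOf x = 4 → orderOf (t * x * t⁻¹) = 4 := fun x hx => by
    rw [← hx]; exact (MulAut.conj t).orderOf_eq x
  obtain ⟨s, hs⟩ : ∃ s, s = q * q' * r * r' := ⟨_, rfl⟩
  obtain ⟨J, hJ, hJs⟩ : ∃ J ∈ Om, zz J = s := by
    obtain ⟨x, hx⟩ : ∃ x : Fin 4 → G, x = ![q, q', r, r'] := ⟨_, rfl⟩
    have hx0 : x 0 = q := by rw [hx]; rfl
    have hx1 : x 1 = q' := by rw [hx]; rfl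
    have hx2 : x 2 = r := by rw [hx]; rfl
    have hx3 : x 3 = r' := by rw [hx]; rfl
    obtain ⟨J, hJ, hJs⟩ := e.ss S F hFinj hFm x (by
      refine fin4 ?_ ?_ ?_ ?_
      · rw [hx0, hF0]; exact hq
      · rw [hx1, hF1]; exact hq'm
      · rw [hx2, hF2]; exact hr
      · rw [hx3, hF3]; exact hr'm) (by
      refine fin4 ?_ ?_ ?_ ?_
      · rw [hx0]; exact hq4
      · rw [hx1, hq']; exact ord_conj _ hq4
      · rw [hx2]; exact hr4
      · rw [hx3, hr']; exact ord_conj _ hr4)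
    exact ⟨J, hJ, by rw [hJs, hx0, hx1, hx2, hx3, hs]⟩
  have hsS : s ∈ (S : Subgroup G) := by
    rw [hs]; exact mul_mem (mul_mem (mul_mem hq.2 hq'm.2) hr.2) hr'm.2
  have hsD : s ∈ DD Om (S : Subgroup G) := by
    rw [hs]
    exact mul_mem (mul_mem (mul_mem (inf_le_DD hKS hq) (inf_le_DD hK1m hq'm)) (inf_le_DD hK2 hr))
      (inf_le_DD hK3m hr'm)
  have hsw : w * s = s * w := by
    rw [hs]
    have h1 : Commute (q * q' * (r * r')) w := (show Commute (q * q') w from hqw).mul_left hrw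
    have h2 : q * q' * r * r' = q * q' * (r * r') := by group
    rw [h2]; exact h1.symm.eq
  have hst : t * s = s * t := by
    rw [hs]
    have h1 : Commute (q * q' * (r * r')) t := (show Commute (q * q') t from hdq.2).mul_left hdr.2
    have h2 : q * q' * r * r' = q * q' * (r * r') := by group
    rw [h2]; exact h1.symm.eq
  have hsz : z * s = s * z := by
    rw [hz]; exact (mem_centralizer_singleton_iff.1 (hSC hsS)).symm
  have hqs : q * s = s * q := by
    have c1 : Commute q q' := hdq.1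
    have c2 : Commute q r := h.comm hS hKS hK2 hK20.symm hq hr
    have c3 : Commute q r' := h.comm hS hKS hK3m hK30.symm hq hr'm
    rw [hs]
    exact ((((Commute.refl q).mul_right c1).mul_right c2).mul_right c3).eq
  -- `s ≠ t`, `s ≠ z`
  have hsnt : s ≠ t := by
    intro h1
    apply hK1ne
    rw [← h1]
    exact mem_normalizer_iff_cj.1 (h.DD_le_normalizer hS hKS hsD)
  have hsnz : s ≠ z := by
    intro h1
    obtain ⟨c, v, n, hg⟩ := h.exists_gq hK (syl_inf hS hKS)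
    obtain ⟨y, hy, -, hyq⟩ := hg.exists_inverting hq hq4
    have c1 : Commute y q' := h.comm hS hKS hK1m hK1ne.symm hy hq'm
    have c2 : Commute y r := h.comm hS hKS hK2 hK20.symm hy hr
    have c3 : Commute y r' := h.comm hS hKS hK3m hK30.symm hy hr'm
    have c4 : Commute y z := by
      rw [hz]; exact mem_centralizer_singleton_iff.1 (hSC hy.2)
    have h2 : q = s * (q' * r * r')⁻¹ := by rw [hs]; group
    have c5 : Commute y q := by
      rw [h2, h1]
      exact c4.mul_right ((c1.mul_right c2).mul_right c3).inv_right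
    rw [c5.eq, mul_inv_cancel_right] at hyq
    have h3 : q * q = 1 := by nth_rewrite 2 [hyq]; exact mul_inv_cancel q
    have h4 := orderOf_dvd_of_pow_eq_one (by rw [pow_two]; exact h3 : q ^ 2 = 1)
    rw [hq4] at h4
    omega
  -- the Sylow subgroup of `C(s)`
  have hSM : (S : Subgroup G) ≤ M := hSC.trans (b.centralizer_le e.toEqZ hK hKM)
  have hCs : centralizer {zz J} ≤ M := b.centralizer_le e.toEqZ hJ (by rw [hJs]; exact hSM hsS)
  have hzS : z ∈ (S : Subgroup G) := by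
    rw [hz]; exact (h.zz_mem_inf hS hKS).2
  obtain ⟨Y, hRY, hYC, hJY⟩ := e.exists_sylow_ge (R := zpowers z ⊔ zpowers t) hJ
    (hS.to_le (sup_le (zpowers_le.2 hzS) (zpowers_le.2 htS))) (by
      rw [hJs]
      exact sup_le (zpowers_le.2 (mem_centralizer_singleton_iff.2 hsz))
        (zpowers_le.2 (mem_centralizer_singleton_iff.2 hst)))
  have hzY : zz K ∈ (Y : Subgroup G) := by rw [← hz]; exact hRY (mem_sup_left (mem_zpowers z))
  have htY : zz L ∈ (Y : Subgroup G) := by rw [← ht]; exact hRY (mem_sup_right (mem_zpowers t))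
  have hzD : zz K ∈ DD Om (Y : Subgroup G) := e.mem_DD hI hK Y hJY (by rw [hJs, ← hz]; exact hsnz) hzY
    (y := q) hq.1 (h.sq_eq_zz hK hq.1 hq4) (by rw [hJs]; exact hqs)
  have htD : zz L ∈ DD Om (Y : Subgroup G) := e.mem_DD hI hL Y hJY (by rw [hJs, ← ht]; exact hsnt) htY
    (y := w) hw.1 (h.sq_eq_zz hL hw.1 hw4) (by rw [hJs]; exact hsw)
  refine b.good Y (hYC.trans hCs) _ (mul_mem hzD htD) ?_ ?_
  · calc zz K * zz L * (zz K * zz L) = zz K * (zz L * zz K) * zz L := by group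
      _ = (zz K * zz K) * (zz L * zz L) := by rw [← hc]; group
      _ = 1 := by rw [h.zz_mul hK, h.zz_mul hL, one_mul]
  · intro h1
    apply hne
    rw [eq_inv_of_mul_eq_one_left h1, h.zz_inv hL]

/-- if the centralisers of the products `z_K z_L` are in `M ≠ G` then S1175 and Bender's theorem give a
contradiction -/
theorem false_of_mul_le (e : EqZ Om) (b : Big Om M) (hM : M ≠ ⊤) (hB : CloEnd.Bend G) (hC : CloEnd.Crit1175 G)
    (h3 : ∀ K ∈ Om, ∀ L ∈ Om, zz K ∈ M → zz L ∈ M → zz K ≠ zz L → zz K * zz L = zz L * zz K →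
      centralizer {zz K * zz L} ≤ M) : False := by
  have h := e.hyp
  obtain ⟨S, hSM⟩ := b.syl
  obtain ⟨K, hK⟩ := h.OmS_nonempty S e.ne
  obtain ⟨L, hL, hLK⟩ := e.two S K hK
  have c := b.clo e
  have hKM : zz K ∈ M := hSM (h.zz_mem_inf S.isPGroup' hK).2
  have hw : CloEnd.Good M (zz K) :=
    ⟨hKM, h.zz_mul hK.1, h.zz_ne hK.1, b.centralizer_le e hK.1 hKM⟩
  have hQQ : ∀ J ∈ OmS Om (S : Subgroup G), J ⊓ (S : Subgroup G) ∈ QQ Om M := fun J hJ =>
    ⟨inf_le_right.trans hSM, J, hJ.1, syl_inf S.isPGroup' hJ⟩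
  have hne : K ⊓ (S : Subgroup G) ≠ L ⊓ (S : Subgroup G) := by
    intro h1
    obtain ⟨x, hx, hx4⟩ := h.exists_four S.isPGroup' hL
    have hxK : x ∈ K := by
      rw [← h1] at hx
      exact hx.1
    exact not_mem_of_four h S.isPGroup' hK hL hLK.symm hx hx4 hxK
  refine CloEnd.false_of_central (c.two' S.isPGroup' hSM (hQQ K hK) (hQQ L hL) inf_le_right inf_le_right hne) hB hC
    hM c.hTwo hw S (h.zz_mem_inf S.isPGroup' hK).2 (fun s hs => e.comm_zz S.isPGroup' hK hs) ?_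
  intro g hg hcg hgne
  rw [← h.zz_cj hK.1] at hcg hgne ⊢
  refine h3 _ hK.1 _ (h.conj K hK.1 g) hKM ?_ hgne.symm hcg
  rw [h.zz_cj hK.1]
  exact M.mul_mem (M.mul_mem hg hKM) (M.inv_mem hg)

/-- **the end of r = 1, n = 4** : no proper subgroup `M` contains a Sylow 2-subgroup `S` and the centralisers of the
involutions of `D(S)` -/
theorem false_of_big (e : EqFour Om) (hI : Inner Om) (b : Big Om M) (hM : M ≠ ⊤) (hB : CloEnd.Bend G)
    (hC : CloEnd.Crit1175 G) : False :=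
  b.false_of_mul_le e.toEqZ hM hB hC fun _ hK _ hL hKM hLM hne hc =>
    b.centralizer_mul_le e hI hK hL hKM hLM hne hc

end Big

end Cfsg.Agent.Cit.EqClose
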