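import Cfsg.Agent.Cit.CorTwo
import Cfsg.Agent.Cit.PairComm
import Cfsg.Agent.Cit.OneQuat
import Cfsg.Agent.Cit.OneBasic
import Cfsg.Agent.Cit.ThreeQuat
import Cfsg.Agent.Cit.OneF.RR

/-!
# All members of `Om(S)` over one involution, `|Om(S)| ≥ 3`: the final contradiction (bb R18, #8381, #8810)

* `Same Om` : all members of `Om(P)` have the same involution, for every 2-subgroup `P`;
* `Tw Om z t` : `t = x y`, `x ∈ K ⊓ S`, `y ∈ L ⊓ S`, `x² = y² = z`, `K ≠ L` in `Om(S)`, `zz K = zz L = z`;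
* `Star Om z` : `z` centralises every `z`-invariant 2-subgroup of `C(t)`, for all `t` with `Tw Om z t`.

`false_of_star` : if there are three members over `z`, `Star Om z` holds and `z' = zz L ≠ z` commutes with `z`, then
a contradiction follows as soon as certain `t₁`, `t₂` normalise a common `J ∈ Om` with `zz J = z'`.

Only HYP is used; cores and all types are allowed.
-/

set_option autoImplicit false
set_option linter.style.haveILetI false
set_option linter.unusedSectionVars false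

namespace Cfsg.Agent.Cit.SameStar

open Subgroup Cfsg Cit OneBasic OneF

variable {G : Type*} [Group G] {Om : Set (Subgroup G)}

/-! ### An involution acting on a quaternion group and centralising the element `w` of order four -/

section Quat

variable {Q : Subgroup G} {x y z : G} {n : ℕ}

/-- elements of `⟨x⟩` inverted by `g`, where `g` centralises the element of order four of `⟨x⟩` -/
theorem eq_or_of_inv [Finite G] (hq : GQ Q x y z n) (hQ : IsPGroup 2 Q) {g c : G}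
    (hgw : g * x ^ 2 ^ n = x ^ 2 ^ n * g) (hc : c ∈ zpowers x) (hgc : g * c * g⁻¹ = c⁻¹) : c = 1 ∨ c = z := by
  by_cases hc1 : c = 1
  · exact Or.inl hc1
  right
  have hcQ : c ∈ Q := hq.zpowers_le hc
  have hcp : IsPGroup 2 (zpowers c) := isPGroup_zpowers_of_mem hQ hcQ
  have hwQ : x ^ 2 ^ n ∈ Q := Q.pow_mem hq.c_mem _
  -- the involution
  have hzc : z ∈ zpowers c := by
    haveI : Fact (Nat.Prime 2) := ⟨Nat.prime_two⟩
    have h2 : 2 ∣ Nat.card (zpowers c) := by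
      obtain ⟨k, hk⟩ := IsPGroup.iff_card.1 hcp
      rcases Nat.eq_zero_or_pos k with rfl | hk0
      · exfalso
        rw [pow_zero, Nat.card_zpowers, orderOf_eq_one_iff] at hk
        exact hc1 hk
      · rw [hk]; exact dvd_pow_self 2 hk0.ne'
    obtain ⟨j, hj⟩ := exists_prime_orderOf_dvd_card' 2 h2
    have h3 := pow_orderOf_eq_one j
    rw [hj, pow_two] at h3
    have h4 : (j : G) = z := hq.eq_z ((zpowers_le.2 hcQ) j.2) (congrArg Subtype.val h3) (by
      intro h5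
      have h6 : j = 1 := Subtype.ext h5
      rw [h6, orderOf_one] at hj
      omega)
    rw [← h4]
    exact j.2
  -- no element of order four is inverted
  have key : ∀ u ∈ zpowers c, u * u = z → False := by
    intro u hu huu
    have huQ : u ∈ Q := (zpowers_le.2 hcQ) hu
    have hux : u ∈ zpowers x := (zpowers_le.2 hc) hu
    have hu4 : orderOf u = 4 := GQ.orderOf_of_sq huu hq.z_mul hq.z_ne
    have h1 : g * u * g⁻¹ = u⁻¹ := inv_zpowers hgc hu
    have h2 : u * x ^ 2 ^ n = x ^ 2 ^ n * u :=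
      (comm_zpowers ((Commute.refl x).pow_left (2 ^ n)).eq hux).symm
    have h3 : g * u * g⁻¹ = u := by
      rcases hq.comm_four huQ hwQ hu4 hq.orderOf_w h2 with h4 | h4
      · rw [h4, hgw, mul_inv_cancel_right]
      · rw [h4, mul_inv_eq_iff_eq_mul]
        exact ((show Commute g (x ^ 2 ^ n) from hgw).inv_right).eq
    exact hq.ne_inv_of_four huQ hu4 (h3.symm.trans h1)
  rcases exists_root hq.z_mul hq.z_ne hzc hcp with h1 | h1 | ⟨d, hd, hd4⟩
  · exact h1
  · exact (key c (mem_zpowers c) h1).elim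
  · exact (key (d * d) (mul_mem hd hd) hd4).elim

/-- an involution normalising `Q` and `⟨x⟩` and centralising `x ^ 2 ^ n` multiplies the elements of `Q` by `1`, `z` -/
theorem fix_or [Finite G] (hq : GQ Q x y z n) (hQ : IsPGroup 2 Q) {g : G} (hgQ : g ∈ normalizer (Q : Set G))
    (hgx : g * x * g⁻¹ ∈ zpowers x) (hgg : g * g = 1) (hgw : g * x ^ 2 ^ n = x ^ 2 ^ n * g) :
    ∀ q ∈ Q, g * q * g⁻¹ = q ∨ g * q * g⁻¹ = q * z := by
  have hginv : g⁻¹ = g := inv_eq_of_mul_eq_one_right hgg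
  have hgz : g * z = z * g := by
    rw [← hq.w_sq, ← mul_assoc, hgw, mul_assoc, hgw, ← mul_assoc]
  have hconj : ∀ a b : G, g * (a * b) * g⁻¹ = (g * a * g⁻¹) * (g * b * g⁻¹) := fun a b => by group
  have hgzi : g * z * g⁻¹ = z := by rw [hgz, mul_inv_cancel_right]
  -- the general step
  have step : ∀ a ∈ Q, a⁻¹ * (g * a * g⁻¹) ∈ zpowers x → g * a * g⁻¹ = a ∨ g * a * g⁻¹ = a * z := by
    intro a ha hax
    obtain ⟨c, hc⟩ : ∃ c, c = a⁻¹ * (g * a * g⁻¹) := ⟨_, rfl⟩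
    rw [← hc] at hax
    have h1 : g * c * g⁻¹ = c⁻¹ := by
      rw [hc, hginv]
      calc g * (a⁻¹ * (g * a * g)) * g = (g * a⁻¹ * g) * a * (g * g) := by group
        _ = (g⁻¹ * a⁻¹ * g⁻¹) * a := by rw [hgg, mul_one, hginv]
        _ = (a⁻¹ * (g * a * g))⁻¹ := by group
    have h2 : g * a * g⁻¹ = a * c := by rw [hc]; group
    rcases eq_or_of_inv hq hQ hgw hax h1 with h3 | h3
    · left; rw [h2, h3, mul_one]
    · right; rw [h2, h3]
  have hx := step x hq.c_mem (mul_mem (inv_mem (mem_zpowers x)) hgx)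
  have hy := step y hq.v_mem (by
    obtain ⟨j, hj⟩ := hq.exists_act hgQ (by rw [hginv]; rw [hginv] at hgx; exact hgx)
    rw [hj, inv_mul_cancel_left]
    exact zpow_mem (mem_zpowers x) j)
  -- the subgroup of good elements
  let A : Subgroup G :=
    { carrier := {q | q ∈ Q ∧ (g * q * g⁻¹ = q ∨ g * q * g⁻¹ = q * z)}
      one_mem' := ⟨Q.one_mem, Or.inl (by group)⟩
      mul_mem' := by
        rintro a b ⟨ha, ha'⟩ ⟨hb, hb'⟩
        refine ⟨Q.mul_mem ha hb, ?_⟩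
        have hzb := hq.z_comm hb
        rw [hconj]
        rcases ha' with h1 | h1 <;> rcases hb' with h2 | h2 <;> rw [h1, h2]
        · left; rfl
        · right; group
        · right
          calc a * z * b = a * (z * b) := by group
            _ = a * b * z := by rw [← hzb]; group
        · left
          calc a * z * (b * z) = a * (z * b) * z := by group
            _ = a * b * (z * z) := by rw [← hzb]; group
            _ = a * b := by rw [hq.z_mul, mul_one]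
      inv_mem' := by
        rintro a ⟨ha, ha'⟩
        refine ⟨Q.inv_mem ha, ?_⟩
        have h0 : g * a⁻¹ * g⁻¹ = (g * a * g⁻¹)⁻¹ := by group
        rw [h0]
        rcases ha' with h1 | h1 <;> rw [h1]
        · left; rfl
        · right
          rw [mul_inv_rev, hq.z_inv]
          exact ((show Commute a z from hq.z_comm ha).inv_left).eq.symm }
  have hA : Q ≤ A := hq.le_of_mem (H := A) ⟨hq.c_mem, hx⟩ hq.v_mem hq.v_not_mem ⟨hq.v_mem, hy⟩
  exact fun q hqQ => (hA hqQ).2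

end Quat

/-! ### `Same`, `Tw`, `Star` -/

/-- all members of `Om(P)` have the same involution -/
def Same (Om : Set (Subgroup G)) : Prop :=
  ∀ P : Subgroup G, IsPGroup 2 P → ∀ K ∈ OmS Om P, ∀ L ∈ OmS Om P, zz K = zz L

/-- `t ∈ TT(z)` -/
def Tw (Om : Set (Subgroup G)) (z t : G) : Prop :=
  ∃ S K L : Subgroup G, IsPGroup 2 S ∧ K ∈ OmS Om S ∧ L ∈ OmS Om S ∧ K ≠ L ∧ zz K = z ∧ zz L = z ∧
    ∃ x ∈ K ⊓ S, ∃ y ∈ L ⊓ S, x * x = z ∧ y * y = z ∧ t = x * y

/-- `z` centralises the `z`-invariant 2-subgroups of `C(t)`, `t ∈ TT(z)` -/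
def Star (Om : Set (Subgroup G)) (z : G) : Prop :=
  ∀ t, Tw Om z t → ∀ R : Subgroup G, IsPGroup 2 R → (∀ r ∈ R, r * t = t * r) → z ∈ normalizer (R : Set G) →
    ∀ r ∈ R, z * r = r * z

section Basic

variable [Finite G] {z t : G}

theorem Tw.zz_mul (h : Hyp Om) (ht : Tw Om z t) : z * z = 1 := by
  obtain ⟨S, K, L, hS, hK, hL, hne, hzK, hzL, x, hx, y, hy, hxx, hyy, rfl⟩ := ht
  rw [← hzK]; exact h.zz_mul hK.1

theorem Tw.comm (ht : Tw Om z t) : t * z = z * t := by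
  obtain ⟨S, K, L, hS, hK, hL, hne, hzK, hzL, x, hx, y, hy, hxx, hyy, rfl⟩ := ht
  have h1 : x * z = z * x := by rw [← hxx, mul_assoc]
  have h2 : y * z = z * y := by rw [← hyy, mul_assoc]
  calc x * y * z = x * (y * z) := by group
    _ = (x * z) * y := by rw [h2]; group
    _ = z * (x * y) := by rw [h1]; group

theorem Tw.sq (h : Hyp Om) (ht : Tw Om z t) : t * t = 1 := by
  have hzz := ht.zz_mul h
  obtain ⟨S, K, L, hS, hK, hL, hne, hzK, hzL, x, hx, y, hy, hxx, hyy, rfl⟩ := ht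
  have h1 : x * y = y * x := h.comm hS hK hL hne hx hy
  calc x * y * (x * y) = x * (y * x) * y := by group
    _ = x * x * (y * y) := by rw [← h1]; group
    _ = 1 := by rw [hxx, hyy, hzz]

theorem Tw.mul_z (h : Hyp Om) (ht : Tw Om z t) : Tw Om z (t * z) := by
  have hzz := ht.zz_mul h
  obtain ⟨S, K, L, hS, hK, hL, hne, hzK, hzL, x, hx, y, hy, hxx, hyy, rfl⟩ := ht
  have h2 : y * z = z * y := by rw [← hyy, mul_assoc]
  have hzm : z ∈ L ⊓ S := by rw [← hzL]; exact h.zz_mem_inf hS hL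
  refine ⟨S, K, L, hS, hK, hL, hne, hzK, hzL, x, hx, y * z, mul_mem hy hzm, hxx, ?_, by group⟩
  calc y * z * (y * z) = y * (z * y) * z := by group
    _ = (y * y) * (z * z) := by rw [← h2]; group
    _ = z := by rw [hyy, hzz, mul_one]

theorem Tw.conj (h : Hyp Om) (ht : Tw Om z t) (g : G) : Tw Om (g * z * g⁻¹) (g * t * g⁻¹) := by
  obtain ⟨S, K, L, hS, hK, hL, hne, hzK, hzL, x, hx, y, hy, hxx, hyy, rfl⟩ := ht
  refine ⟨cj g S, cj g K, cj g L, isPGroup_cj hS, cj_mem_OmS h.conj g hK, cj_mem_OmS h.conj g hL,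
    fun h1 => hne (cj_inj.1 h1), by rw [h.zz_cj hK.1, hzK], by rw [h.zz_cj hL.1, hzL],
    g * x * g⁻¹, ?_, g * y * g⁻¹, ?_, ?_, ?_, by group⟩
  · rw [← cj_inf]; exact conj_mem_cj hx
  · rw [← cj_inf]; exact conj_mem_cj hy
  · rw [← hxx]; group
  · rw [← hyy]; group

end Basic

/-- a 2-group of involution-centralising elements: `z` does not centralise a Sylow 2-subgroup of a member over
another involution -/
theorem not_cent [Finite G] (h : Hyp Om) (same : Same Om) {K J Q : Subgroup G} (hK : K ∈ Om) (hJ : J ∈ Om)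
    (hQ : Syl Q J) (hne : zz J ≠ zz K) : ¬ ∀ q ∈ Q, zz K * q = q * zz K := by
  intro h1
  obtain ⟨S, hS, -, hJS, hKS⟩ := PairComm.exists_common' h hJ hK hQ fun a ha => (h1 a ha).symm
  exact hne (same S hS J hJS K hKS)

section Main

variable [Finite G]

/-- an element normalising `⟨x⟩` fixes or inverts the element of order four of `⟨x⟩` -/
theorem w_or {Q : Subgroup G} {x y z : G} {n : ℕ} (hq : GQ Q x y z n) {g : G}
    (hgx : g * x * g⁻¹ ∈ zpowers x) :
    g * x ^ 2 ^ n * g⁻¹ = x ^ 2 ^ n ∨ g * x ^ 2 ^ n * g⁻¹ = (x ^ 2 ^ n)⁻¹ := by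
  have h1 : g * x ^ 2 ^ n * g⁻¹ = (g * x * g⁻¹) ^ 2 ^ n := conj_pow.symm
  have h2 : g * x ^ 2 ^ n * g⁻¹ ∈ zpowers x := by rw [h1]; exact pow_mem hgx _
  have h3 : orderOf (g * x ^ 2 ^ n * g⁻¹) = 4 := by
    rw [← hq.orderOf_w]
    exact (MulAut.conj g).orderOf_eq (x ^ 2 ^ n)
  exact hq.comm_four (hq.zpowers_le h2) (Q.pow_mem hq.c_mem _) h3 hq.orderOf_w
    (comm_zpowers ((Commute.refl x).pow_left (2 ^ n)).eq h2).symm

theorem mem_normalizer_zpowers {g x : G} (h : g * x * g⁻¹ ∈ zpowers x) :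
    g ∈ normalizer (zpowers x : Set G) := by
  rw [mem_normalizer_iff_cj]
  have h1 : cj g (zpowers x) ≤ zpowers x := by
    rintro _ ⟨_, ⟨i, rfl⟩, rfl⟩
    change g * x ^ i * g⁻¹ ∈ zpowers x
    rw [← conj_zpow]
    exact zpow_mem h i
  exact eq_of_le_of_card_ge h1 (card_cj g _).ge

/-- a member `J` over another involution commuting with `z` is not normalised by `t₁`, `t₂` -/
theorem false_aux (h : Hyp Om) (same : Same Om) {z : G} {K : Subgroup G} (hK : K ∈ Om) (hzK : zz K = z)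
    (star : Star Om z) {J : Subgroup G} (hJ : J ∈ Om) (hne : zz J ≠ z) (hc : z * zz J = zz J * z)
    {t₁ t₂ : G} (h1 : Tw Om z t₁) (h2 : Tw Om z t₂) (h12 : Tw Om z (t₁ * t₂)) (hcomm : t₁ * t₂ = t₂ * t₁)
    (hn1 : t₁ ∈ normalizer (J : Set G)) (hn2 : t₂ ∈ normalizer (J : Set G)) : False := by
  have hzz : z * z = 1 := h1.zz_mul h
  have hzinv : z⁻¹ = z := inv_eq_of_mul_eq_one_right hzz
  have p2 : ∀ a : G, a * a = 1 → IsPGroup 2 (zpowers a) := by
    intro a ha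
    haveI : Fact (Nat.Prime 2) := ⟨Nat.prime_two⟩
    refine IsPGroup.of_card (n := orderOf a - 1) ?_
    rw [Nat.card_zpowers]
    have h3 : orderOf a ∣ 2 := orderOf_dvd_of_pow_eq_one (by rw [pow_two]; exact ha)
    rcases (Nat.dvd_prime Nat.prime_two).1 h3 with h4 | h4 <;> rw [h4] <;> norm_num
  have hP1 : IsPGroup 2 (zpowers t₁ ⊔ zpowers t₂ : Subgroup G) :=
    exists_two_of_commute (p2 _ (h1.sq h)) (p2 _ (h2.sq h)) hcomm
  have hP : IsPGroup 2 (zpowers z ⊔ (zpowers t₁ ⊔ zpowers t₂) : Subgroup G) := by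
    refine isPGroup_sup_of_normalizes (p2 _ hzz) hP1 ?_
    rw [zpowers_le]
    apply mem_normalizer_of_cent
    have h3 : zpowers t₁ ⊔ zpowers t₂ ≤ centralizer {z} := by
      rw [sup_le_iff, zpowers_le, zpowers_le, mem_centralizer_singleton_iff, mem_centralizer_singleton_iff]
      exact ⟨h1.comm, h2.comm⟩
    exact fun a ha => (mem_centralizer_singleton_iff.1 (h3 ha)).symm
  have hPC : zpowers z ⊔ (zpowers t₁ ⊔ zpowers t₂) ≤ centralizer {zz J} := by
    rw [sup_le_iff, sup_le_iff, zpowers_le, zpowers_le, zpowers_le, mem_centralizer_singleton_iff,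
      mem_centralizer_singleton_iff, mem_centralizer_singleton_iff]
    exact ⟨hc, h.comm_zz hJ hn1, h.comm_zz hJ hn2⟩
  obtain ⟨T, hT, hPT⟩ := Cit.exists_syl_ge hP hPC
  have hzT : z ∈ T := hPT (mem_sup_left (mem_zpowers z))
  have ht1T : t₁ ∈ T := hPT (mem_sup_right (mem_sup_left (mem_zpowers t₁)))
  have ht2T : t₂ ∈ T := hPT (mem_sup_right (mem_sup_right (mem_zpowers t₂)))
  have hTp := hT.2.1
  have hJT : J ∈ OmS Om T := h.mem_OmS_of_syl hJ hT
  have hQ : Syl (J ⊓ T) J := syl_inf hTp hJT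
  -- the 2-group `A` normalising `J`
  obtain ⟨A, hA⟩ : ∃ A, A = T ⊓ normalizer (J : Set G) := ⟨_, rfl⟩
  have hAp : IsPGroup 2 A := by rw [hA]; exact hTp.to_le inf_le_left
  have hAQ : A ≤ normalizer ((J ⊓ T : Subgroup G) : Set G) := by
    rw [hA]
    intro g hg
    rw [mem_normalizer_iff_cj, cj_inf, mem_normalizer_iff_cj.1 hg.2, mem_normalizer_iff_cj.1 (le_normalizer hg.1)]
  obtain ⟨x, y, n, gq, hx⟩ := h.exists_gq_cyclic hJ hQ hAp hAQ
  have hQp : IsPGroup 2 (J ⊓ T : Subgroup G) := hTp.to_le inf_le_right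
  obtain ⟨w, hw⟩ : ∃ w, w = x ^ 2 ^ n := ⟨_, rfl⟩
  have hwQ : w ∈ J ⊓ T := by rw [hw]; exact (J ⊓ T).pow_mem gq.c_mem _
  have hw4 : orderOf w = 4 := by rw [hw]; exact gq.orderOf_w
  have hyw : y * w ≠ w * y := by
    rw [hw, gq.conj_pow]
    intro h3
    have h4 : (x ^ 2 ^ n)⁻¹ = x ^ 2 ^ n := mul_right_cancel h3
    exact gq.ne_inv_of_four (hw ▸ hwQ) (hw ▸ hw4) h4.symm
  have hwor : ∀ g ∈ A, g * w * g⁻¹ = w ∨ g * w * g⁻¹ = w⁻¹ := fun g hg => by
    rw [hw]; exact w_or gq (hx g hg)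
  have ht1A : t₁ ∈ A := by rw [hA]; exact ⟨ht1T, hn1⟩
  have ht2A : t₂ ∈ A := by rw [hA]; exact ⟨ht2T, hn2⟩
  -- some `t` centralises `w`
  obtain ⟨t, ht, htA, htw⟩ : ∃ t, Tw Om z t ∧ t ∈ A ∧ t * w * t⁻¹ = w := by
    rcases hwor t₁ ht1A with h3 | h3
    · exact ⟨t₁, h1, ht1A, h3⟩
    rcases hwor t₂ ht2A with h4 | h4
    · exact ⟨t₂, h2, ht2A, h4⟩
    refine ⟨t₁ * t₂, h12, mul_mem ht1A ht2A, ?_⟩
    calc t₁ * t₂ * w * (t₁ * t₂)⁻¹ = t₁ * (t₂ * w * t₂⁻¹) * t₁⁻¹ := by group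
      _ = (t₁ * w * t₁⁻¹)⁻¹ := by rw [h4]; group
      _ = w := by rw [h3, inv_inv]
  have htw' : w * t = t * w := (mul_inv_eq_iff_eq_mul.1 htw).symm
  have htz : t * z = z * t := ht.comm
  -- `z` normalises `J`
  have hzJ : z ∈ normalizer (J : Set G) := by
    by_contra hzJ
    have hne' : cj z J ≠ J := fun h3 => hzJ (mem_normalizer_iff_cj.2 h3)
    have hJ' : cj z J ∈ OmS Om T := cj_mem_OmS' h.conj (le_normalizer hzT) hJT
    obtain ⟨w', hw'⟩ : ∃ w', w' = z * w * z⁻¹ := ⟨_, rfl⟩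
    have hw'm : w' ∈ cj z J ⊓ T := by
      rw [hw']; exact ⟨conj_mem_cj hwQ.1, T.mul_mem (T.mul_mem hzT hwQ.2) (T.inv_mem hzT)⟩
    have hw't : w' * t = t * w' := by
      rw [hw']
      calc z * w * z⁻¹ * t = z * w * (z⁻¹ * t) := by group
        _ = z * w * (t * z⁻¹) := by rw [((show Commute t z from htz).inv_right).eq.symm]
        _ = z * (w * t) * z⁻¹ := by group
        _ = (z * t) * w * z⁻¹ := by rw [htw']; group
        _ = t * (z * w * z⁻¹) := by rw [← htz]; group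
    have hR : IsPGroup 2 (zpowers w ⊔ zpowers w' : Subgroup G) :=
      hTp.to_le (sup_le (zpowers_le.2 hwQ.2) (zpowers_le.2 hw'm.2))
    have hRt : zpowers w ⊔ zpowers w' ≤ centralizer {t} := by
      rw [sup_le_iff, zpowers_le, zpowers_le, mem_centralizer_singleton_iff, mem_centralizer_singleton_iff]
      exact ⟨htw', hw't⟩
    have hzp : ∀ a : G, cj z (zpowers a) = zpowers (z * a * z⁻¹) := fun a => MonoidHom.map_zpowers _ a
    have hzN : z ∈ normalizer ((zpowers w ⊔ zpowers w' : Subgroup G) : Set G) := by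
      rw [mem_normalizer_iff_cj, cj_sup, hzp, hzp, ← hw', hw', hzinv]
      have h3 : z * (z * w * z) * z = w := by
        calc z * (z * w * z) * z = (z * z) * w * (z * z) := by group
          _ = w := by rw [hzz, one_mul, mul_one]
      rw [h3, sup_comm]
    have h3 := star t ht _ hR (fun r hr => mem_centralizer_singleton_iff.1 (hRt hr)) hzN w
      (mem_sup_left (mem_zpowers w))
    have h4 : w' = w := by rw [hw', h3, mul_inv_cancel_right]
    rw [h4] at hw'm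
    exact hyw (h.comm hTp hJT hJ' hne'.symm gq.v_mem hw'm)
  have hzA : z ∈ A := by rw [hA]; exact ⟨hzT, hzJ⟩
  have hzw : z * w = w * z := by
    refine star t ht (zpowers w) (isPGroup_zpowers_of_mem hTp hwQ.2) ?_ ?_ w (mem_zpowers w)
    · intro r hr
      exact (comm_zpowers htw'.symm hr).symm
    · apply mem_normalizer_zpowers
      rcases hwor z hzA with h3 | h3 <;> rw [h3]
      · exact mem_zpowers w
      · exact inv_mem (mem_zpowers w)
  have f1 := fix_or gq hQp (hAQ htA) (hx t htA) (ht.sq h) (by rw [← hw]; exact htw'.symm)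
  have f2 := fix_or gq hQp (hAQ hzA) (hx z hzA) hzz (by rw [← hw]; exact hzw)
  -- `z` does not centralise `Q`
  obtain ⟨q, hq, hqz⟩ : ∃ q ∈ J ⊓ T, z * q ≠ q * z := by
    by_contra h3
    push Not at h3
    refine not_cent h same hK hJ hQ (by rw [hzK]; exact hne) ?_
    rw [hzK]
    exact h3
  have hzq : z * q * z⁻¹ = q * zz J := by
    rcases f2 q hq with h3 | h3
    · exact absurd (mul_inv_eq_iff_eq_mul.1 h3) hqz
    · exact h3
  have hq1 : q ≠ 1 := by
    rintro rfl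
    exact hqz (by rw [mul_one, one_mul])
  have hJq : zz J ∈ zpowers q :=
    AutQuat.IsQ.mem_zpowers (h.isGQ hJ hQ) (fun s hs => h.uniq J hJ s hs.1) hq hq1
  have hst : ∀ s, Tw Om z s → q * s = s * q → False := by
    intro s hs hqs
    refine hqz (star s hs (zpowers q) (isPGroup_zpowers_of_mem hTp hq.2) ?_ ?_ q (mem_zpowers q))
    · intro r hr
      exact (comm_zpowers hqs.symm hr).symm
    · apply mem_normalizer_zpowers
      rw [hzq]
      exact mul_mem (mem_zpowers q) hJq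
  have htq : t * q * t⁻¹ = q * zz J := by
    rcases f1 q hq with h3 | h3
    · exact (hst t ht (mul_inv_eq_iff_eq_mul.1 h3).symm).elim
    · exact h3
  refine hst (t * z) (ht.mul_z h) ?_
  have htJ : t * zz J * t⁻¹ = zz J := by
    have h3 : t ∈ normalizer (J : Set G) := by rw [hA] at htA; exact htA.2
    rw [h.comm_zz hJ h3, mul_inv_cancel_right]
  have h3 : (t * z) * q * (t * z)⁻¹ = q := by
    calc (t * z) * q * (t * z)⁻¹ = t * (z * q * z⁻¹) * t⁻¹ := by group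
      _ = (t * q * t⁻¹) * (t * zz J * t⁻¹) := by rw [hzq]; group
      _ = q * (zz J * zz J) := by rw [htq, htJ]; group
      _ = q := by rw [h.zz_mul hJ, mul_one]
  exact (mul_inv_eq_iff_eq_mul.1 h3).symm

theorem isPGroup_of_sq {a : G} (ha : a * a = 1) : IsPGroup 2 (zpowers a) := by
  haveI : Fact (Nat.Prime 2) := ⟨Nat.prime_two⟩
  refine IsPGroup.of_card (n := orderOf a - 1) ?_
  rw [Nat.card_zpowers]
  have h3 : orderOf a ∣ 2 := orderOf_dvd_of_pow_eq_one (by rw [pow_two]; exact ha)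
  rcases (Nat.dvd_prime Nat.prime_two).1 h3 with h4 | h4 <;> rw [h4] <;> norm_num

/-- the elements `t₁`, `t₂` -/
theorem exists_two (h : Hyp Om) (same : Same Om) {K₁ K₂ K₃ L : Subgroup G} {z : G} (hK₁ : K₁ ∈ Om)
    (hK₂ : K₂ ∈ Om) (hK₃ : K₃ ∈ Om) (hz₁ : zz K₁ = z) (hz₂ : zz K₂ = z) (hz₃ : zz K₃ = z) (h12 : K₁ ≠ K₂)
    (h13 : K₁ ≠ K₃) (h23 : K₂ ≠ K₃) (hL : L ∈ Om) (hne : zz L ≠ z) (hc : z * zz L = zz L * z) :
    ∃ t₁ t₂, Tw Om z t₁ ∧ Tw Om z t₂ ∧ Tw Om z (t₁ * t₂) ∧ t₁ * t₂ = t₂ * t₁ ∧ t₁ * zz L = zz L * t₁ ∧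
      t₂ * zz L = zz L * t₂ := by
  have hzz : z * z = 1 := by rw [← hz₁]; exact h.zz_mul hK₁
  obtain ⟨z', hz'⟩ : ∃ z', z' = zz L := ⟨_, rfl⟩
  have hzz' : z' * z' = 1 := by rw [hz']; exact h.zz_mul hL
  have hzinv' : z'⁻¹ = z' := inv_eq_of_mul_eq_one_right hzz'
  rw [← hz'] at hne hc ⊢
  have hP : IsPGroup 2 (zpowers z ⊔ zpowers z' : Subgroup G) :=
    exists_two_of_commute (isPGroup_of_sq hzz) (isPGroup_of_sq hzz') hc
  have hPC : zpowers z ⊔ zpowers z' ≤ centralizer {z} := by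
    rw [sup_le_iff, zpowers_le, zpowers_le, mem_centralizer_singleton_iff, mem_centralizer_singleton_iff]
    exact ⟨rfl, hc.symm⟩
  obtain ⟨T, hT, hPT⟩ := Cit.exists_syl_ge hP hPC
  have hTp := hT.2.1
  have hzT : z ∈ T := hPT (mem_sup_left (mem_zpowers z))
  have hzT' : z' ∈ T := hPT (mem_sup_right (mem_zpowers z'))
  have hmem : ∀ K ∈ Om, zz K = z → K ∈ OmS Om T := fun K hK hzK => by
    rw [← hzK] at hT
    exact h.mem_OmS_of_syl hK hT
  by_cases hmv : ∃ K ∈ Om, zz K = z ∧ z' ∉ normalizer (K : Set G)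
  · -- `z'` moves a member over `z`
    obtain ⟨K, hK, hzK, hzK'⟩ := hmv
    have hne' : K ≠ cj z' K := fun h3 => hzK' (mem_normalizer_iff_cj.2 h3.symm)
    have hKT := hmem K hK hzK
    have hKT' : cj z' K ∈ OmS Om T := cj_mem_OmS' h.conj (le_normalizer hzT') hKT
    have hzKc : zz (cj z' K) = z := by rw [h.zz_cj hK, hzK, ← hc, mul_inv_cancel_right]
    obtain ⟨c, v, n, gq⟩ := h.exists_gq hK (syl_inf hTp hKT)
    rw [hzK] at gq
    obtain ⟨q₁, hq₁, q₂, hq₂, h4₁, h4₂, h4₃, hq⟩ := gq.exists_pair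
    have hcm : ∀ q ∈ K ⊓ T, z' * q * z' ∈ cj z' K ⊓ T := fun q hq => by
      have h3 : z' * q * z'⁻¹ ∈ cj z' K ⊓ T :=
        ⟨conj_mem_cj hq.1, T.mul_mem (T.mul_mem hzT' hq.2) (T.inv_mem hzT')⟩
      rwa [hzinv'] at h3
    have hcc : ∀ a ∈ K ⊓ T, ∀ b ∈ K ⊓ T, a * (z' * b * z') = (z' * b * z') * a := fun a ha b hb =>
      h.comm hTp hKT hKT' hne' ha (hcm b hb)
    have hTw : ∀ q ∈ K ⊓ T, orderOf q = 4 → Tw Om z (q * (z' * q * z')) := by
      intro q hq h4
      have hqq : q * q = z := gq.sq_of_four hq h4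
      refine ⟨T, K, cj z' K, hTp, hKT, hKT', hne', hzK, hzKc, q, hq, _, hcm q hq, hqq, ?_, rfl⟩
      calc z' * q * z' * (z' * q * z') = z' * q * (z' * z') * q * z' := by group
        _ = z' * (q * q) * z' := by rw [hzz']; group
        _ = z * (z' * z') := by rw [hqq, ← hc]; group
        _ = z := by rw [hzz', mul_one]
    have hfix : ∀ q ∈ K ⊓ T, q * (z' * q * z') * z' = z' * (q * (z' * q * z')) := by
      intro q hq
      calc q * (z' * q * z') * z' = q * z' * q * (z' * z') := by group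
        _ = (z' * z') * (q * z' * q) := by rw [hzz', mul_one, one_mul]
        _ = z' * ((z' * q * z') * q) := by group
        _ = z' * (q * (z' * q * z')) := by rw [hcc q hq q hq]
    have hprod : ∀ a ∈ K ⊓ T, ∀ b ∈ K ⊓ T, (a * (z' * a * z')) * (b * (z' * b * z')) =
        (a * b) * (z' * (a * b) * z') := by
      intro a ha b hb
      calc (a * (z' * a * z')) * (b * (z' * b * z')) = a * ((z' * a * z') * b) * (z' * b * z') := by group
        _ = a * (b * (z' * a * z')) * (z' * b * z') := by rw [hcc b hb a ha]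
        _ = (a * b) * (z' * a * (z' * z') * b * z') := by group
        _ = (a * b) * (z' * (a * b) * z') := by rw [hzz']; group
    refine ⟨_, _, hTw q₁ hq₁ h4₁, hTw q₂ hq₂ h4₂, ?_, ?_, hfix q₁ hq₁, hfix q₂ hq₂⟩
    · rw [hprod q₁ hq₁ q₂ hq₂]
      exact hTw _ (mul_mem hq₁ hq₂) h4₃
    · rw [hprod q₁ hq₁ q₂ hq₂, hprod q₂ hq₂ q₁ hq₁, hq]
      have h5 : z * (z' * (q₁ * q₂ * z) * z') = z' * (q₁ * q₂) * z' := by
        calc z * (z' * (q₁ * q₂ * z) * z') = (z * z') * (q₁ * q₂) * (z * z') := by group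
          _ = z' * z * (q₁ * q₂) * (z * z') := by rw [hc]
          _ = z' * (z * (q₁ * q₂)) * z * z' := by group
          _ = z' * ((q₁ * q₂) * z) * z * z' := by rw [gq.z_comm (mul_mem hq₁ hq₂)]
          _ = z' * (q₁ * q₂) * (z * z) * z' := by group
          _ = z' * (q₁ * q₂) * z' := by rw [hzz]; group
      rw [mul_assoc (q₁ * q₂) z, h5]
  · -- `z'` normalises all members over `z`
    push Not at hmv
    have hw : ∀ K ∈ Om, zz K = z → ∃ w ∈ K ⊓ T, w * w = z ∧ z' * w * z' = w⁻¹ := by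
      intro K hK hzK
      have hKT := hmem K hK hzK
      have hQ := syl_inf hTp hKT
      obtain ⟨c, v, n, gq⟩ := h.exists_gq hK hQ
      have hzN : z' ∈ normalizer ((K ⊓ T : Subgroup G) : Set G) := by
        rw [mem_normalizer_iff_cj, cj_inf, mem_normalizer_iff_cj.1 (hmv K hK hzK),
          mem_normalizer_iff_cj.1 (le_normalizer hzT')]
      obtain ⟨w, hw, hw4, hwi⟩ := gq.exists_inverted hQ.2.1 hzN hzz' (by
        intro h3
        refine not_cent h same hL hK hQ ?_ ?_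
        · rw [← hz', hzK]; exact hne.symm
        · rw [← hz']; exact h3)
      refine ⟨w, hw, ?_, ?_⟩
      · rw [← hzK]; exact gq.sq_of_four hw hw4
      · rwa [hzinv'] at hwi
    obtain ⟨w₁, hw₁, hs₁, hi₁⟩ := hw K₁ hK₁ hz₁
    obtain ⟨w₂, hw₂, hs₂, hi₂⟩ := hw K₂ hK₂ hz₂
    obtain ⟨w₃, hw₃, hs₃, hi₃⟩ := hw K₃ hK₃ hz₃
    have m₁ := hmem K₁ hK₁ hz₁
    have m₂ := hmem K₂ hK₂ hz₂
    have m₃ := hmem K₃ hK₃ hz₃
    have c12 : w₁ * w₂ = w₂ * w₁ := h.comm hTp m₁ m₂ h12 hw₁ hw₂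
    have c13 : w₁ * w₃ = w₃ * w₁ := h.comm hTp m₁ m₃ h13 hw₁ hw₃
    have c23 : w₂ * w₃ = w₃ * w₂ := h.comm hTp m₂ m₃ h23 hw₂ hw₃
    have hinv : ∀ w : G, w * w = z → w⁻¹ = w * z := fun w h3 => by
      rw [inv_eq_iff_mul_eq_one, ← mul_assoc, h3, hzz]
    have hfix : ∀ a b : G, a * a = z → b * b = z → z' * a * z' = a⁻¹ → z' * b * z' = b⁻¹ →
        a * b * z' = z' * (a * b) := by
      intro a b ha hb hia hib
      have hbz : b * z = z * b := by rw [← hb, mul_assoc]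
      have h3 : z' * (a * b) * z' = a * b := by
        calc z' * (a * b) * z' = z' * a * (z' * z') * b * z' := by rw [hzz']; group
          _ = (z' * a * z') * (z' * b * z') := by group
          _ = (a * z) * (b * z) := by rw [hia, hib, hinv a ha, hinv b hb]
          _ = a * (z * b) * z := by group
          _ = a * b * (z * z) := by rw [← hbz]; group
          _ = a * b := by rw [hzz, mul_one]
      calc a * b * z' = (z' * (a * b) * z') * z' := by rw [h3]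
        _ = z' * (a * b) * (z' * z') := by group
        _ = z' * (a * b) := by rw [hzz', mul_one]
    have hzm : z ∈ K₁ ⊓ T := by rw [← hz₁]; exact h.zz_mem_inf hTp m₁
    have hw1z : w₁ * z = z * w₁ := by rw [← hs₁, mul_assoc]
    refine ⟨w₁ * w₂, w₂ * w₃, ⟨T, K₁, K₂, hTp, m₁, m₂, h12, hz₁, hz₂, w₁, hw₁, w₂, hw₂, hs₁, hs₂, rfl⟩,
      ⟨T, K₂, K₃, hTp, m₂, m₃, h23, hz₂, hz₃, w₂, hw₂, w₃, hw₃, hs₂, hs₃, rfl⟩,
      ⟨T, K₁, K₃, hTp, m₁, m₃, h13, hz₁, hz₃, w₁ * z, mul_mem hw₁ hzm, w₃, hw₃, ?_, hs₃, ?_⟩, ?_,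
      hfix _ _ hs₁ hs₂ hi₁ hi₂, hfix _ _ hs₂ hs₃ hi₂ hi₃⟩
    · calc w₁ * z * (w₁ * z) = w₁ * (z * w₁) * z := by group
        _ = (w₁ * w₁) * (z * z) := by rw [← hw1z]; group
        _ = z := by rw [hs₁, hzz, mul_one]
    · calc w₁ * w₂ * (w₂ * w₃) = w₁ * (w₂ * w₂) * w₃ := by group
        _ = w₁ * z * w₃ := by rw [hs₂]
    · calc w₁ * w₂ * (w₂ * w₃) = w₁ * (w₂ * w₂) * w₃ := by group
        _ = (w₁ * z) * w₃ := by rw [hs₂]
        _ = z * (w₁ * w₃) := by rw [hw1z]; group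
        _ = (w₂ * w₂) * w₃ * w₁ := by rw [c13, hs₂]; group
        _ = w₂ * (w₂ * w₃) * w₁ := by group
        _ = w₂ * (w₃ * w₂) * w₁ := by rw [c23]
        _ = w₂ * w₃ * (w₂ * w₁) := by group
        _ = w₂ * w₃ * (w₁ * w₂) := by rw [c12]

/-- **the final contradiction**: three members over `z`, `Star Om z`, `z' = zz L ≠ z` commuting with `z` -/
theorem false_of_star (h : Hyp Om) (same : Same Om) {K₁ K₂ K₃ L : Subgroup G} {z : G} (hK₁ : K₁ ∈ Om)
    (hK₂ : K₂ ∈ Om) (hK₃ : K₃ ∈ Om) (hz₁ : zz K₁ = z) (hz₂ : zz K₂ = z) (hz₃ : zz K₃ = z) (h12 : K₁ ≠ K₂)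
    (h13 : K₁ ≠ K₃) (h23 : K₂ ≠ K₃) (star : Star Om z) (hL : L ∈ Om) (hne : zz L ≠ z)
    (hc : z * zz L = zz L * z)
    (fix : ∀ t₁ t₂, Tw Om z t₁ → Tw Om z t₂ → Tw Om z (t₁ * t₂) → t₁ * t₂ = t₂ * t₁ → t₁ * zz L = zz L * t₁ →
      t₂ * zz L = zz L * t₂ → ∃ J ∈ Om, zz J = zz L ∧ t₁ ∈ normalizer (J : Set G) ∧
      t₂ ∈ normalizer (J : Set G)) : False := by
  obtain ⟨t₁, t₂, a1, a2, a3, a4, a5, a6⟩ := exists_two h same hK₁ hK₂ hK₃ hz₁ hz₂ hz₃ h12 h13 h23 hL hne hc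
  obtain ⟨J, hJ, hzJ, b1, b2⟩ := fix t₁ t₂ a1 a2 a3 a4 a5 a6
  rw [← hzJ] at hne hc
  exact false_aux h same hK₁ hz₁ star hJ hne hc a1 a2 a3 a4 b1 b2

end Main

end Cfsg.Agent.Cit.SameStar
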