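import Cfsg.Agent.Cit.EqType
import Cfsg.Agent.Cit.SameStar

/-!
# All `z_K`, `K ∈ Om(S)`, equal, `|Om(S)| ≥ 3`: existence of a commuting pair of type I

bb R18 (helper174), class free form of #8092 (1).  `EqZ Om`, `K₁, K₂, K₃ ∈ Om(T)` different, `z = zz K_i`,
`t = x₁ x₂`, `x_i ∈ K_i ⊓ T` of order four.

`NoOne Om` : there is no pair of type I.

* `Fr.false_of_nondeg` : if some `g z g⁻¹ ≠ z`, `g ∈ C(t)`, commutes with `z`, then `¬ NoOne Om`;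
* `exists_typeOne` : if some `zz L ≠ z` commutes with `z` then there is a pair of type I.
-/

set_option autoImplicit false
set_option linter.style.haveILetI false
set_option linter.unusedSectionVars false

namespace Cfsg.Agent.Cit.EqExist

open Subgroup Cfsg Cfsg.Agent.Cit.EqClose Cfsg.Agent.Cit.EqType

variable {G : Type*} [Group G]

/-- there is no commuting pair of type I -/
def NoOne (Om : Set (Subgroup G)) : Prop :=
  ∀ K ∈ Om, ∀ L ∈ Om, zz K ≠ zz L → ∀ x ∈ K, x * x = zz K → x * zz L ≠ zz L * x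

section Basic

variable [Finite G] {Om : Set (Subgroup G)} {K L J T : Subgroup G}

/-- an element of order four of `J ⊓ T` is not central in `J ⊓ T` -/
theorem not_central (h : Hyp Om) (hT : IsPGroup 2 T) (hJ : J ∈ OmS Om T) {x : G} (hx : x ∈ J ⊓ T)
    (hxx : x * x = zz J) : ∃ q ∈ J ⊓ T, q * x ≠ x * q := by
  obtain ⟨c, v, n, hc⟩ := h.exists_gq hJ.1 (syl_inf hT hJ)
  obtain ⟨y, hy, -, hyx⟩ := hc.exists_inverting hx (h.orderOf_of_sq hJ.1 hxx)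
  refine ⟨y, hy, fun h1 => ?_⟩
  rw [h1, mul_inv_cancel_right] at hyx
  have h2 : x * x = 1 := by nth_rewrite 2 [hyx]; exact mul_inv_cancel x
  exact h.zz_ne hJ.1 (by rw [← hxx, h2])

/-- the intersection of two members of `Om(T)` -/
theorem mem_two (h : Hyp Om) (hT : IsPGroup 2 T) (hK : K ∈ OmS Om T) (hL : L ∈ OmS Om T) (hne : K ≠ L)
    {x : G} (hx : x ∈ K ⊓ T) (hxL : x ∈ L) : x = 1 ∨ x = zz K := by
  by_cases h2 : x * x = 1
  · by_cases h1 : x = 1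
    · exact Or.inl h1
    · exact Or.inr (h.eq_zz hK.1 hx.1 h2 h1)
  exfalso
  obtain ⟨g, hg, hgg⟩ := CloseFus.exists_pow_sq h hK.1 (syl_inf hT hK) hx h2
  have hgK : g ∈ K ⊓ T := (zpowers_le.2 hx) hg
  have hgL : g ∈ L ⊓ T := ⟨(zpowers_le.2 hxL) hg, hgK.2⟩
  exact not_mem_of_four h hT hK hL hne hgL (h.orderOf_of_sq hK.1 hgg) hgK.1

/-- `t` centralises a Sylow 2-subgroup of a member over `ζ` -/
def Perp (Om : Set (Subgroup G)) (t ζ : G) : Prop :=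
  ∃ L ∈ Om, zz L = ζ ∧ ∃ Q, Syl Q L ∧ ∀ q ∈ Q, q * t = t * q

theorem Perp.conj (h : Hyp Om) {t ζ : G} (hp : Perp Om t ζ) {g : G} (hg : g * t = t * g) :
    Perp Om t (g * ζ * g⁻¹) := by
  obtain ⟨L, hL, hz, Q, hQ, hc⟩ := hp
  refine ⟨cj g L, h.conj L hL g, by rw [h.zz_cj hL, hz], cj g Q, hQ.cj g, ?_⟩
  rintro _ ⟨q, hq, rfl⟩
  change g * q * g⁻¹ * t = t * (g * q * g⁻¹)
  have h1 : g⁻¹ * t = t * g⁻¹ := by rw [inv_mul_eq_iff_eq_mul, ← mul_assoc, hg, mul_inv_cancel_right]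
  calc g * q * g⁻¹ * t = g * q * (g⁻¹ * t) := by group
    _ = g * (q * t) * g⁻¹ := by rw [h1]; group
    _ = (g * t) * q * g⁻¹ := by rw [hc q hq]; group
    _ = t * (g * q * g⁻¹) := by rw [hg]; group

/-- (U) -/
theorem Perp.ne (e : EqZ Om) {t ζ : G} (hp : Perp Om t ζ) (ht : t ≠ 1) (hJ : J ∈ Om) : zz J ≠ ζ * t := by
  obtain ⟨L, hL, hz, Q, hQ, hc⟩ := hp
  intro h1
  have h2 : zz L = zz J := by
    refine zz_eq_of_comm e hL hJ hQ fun q hq => ?_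
    rw [h1, ← hz, ← mul_assoc, mem_centralizer_singleton_iff.1 (e.hyp.le_centralizer hL (hQ.1 hq)), mul_assoc,
      hc q hq, mul_assoc]
  rw [h1, hz] at h2
  exact ht (mul_eq_left.1 h2.symm)

/-- (D) an involution `f` normalising `K`, inverting `x ∈ K ⊓ T` of order four and centralising no element of order
four of `K ⊓ T` is conjugate to `f x` or `f x⁻¹` under `K ⊓ T` -/
theorem exists_mul (h : Hyp Om) (hT : IsPGroup 2 T) (hK : K ∈ OmS Om T) {f x : G} (hff : f * f = 1) (hfT : f ∈ T)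
    (hfK : f ∈ normalizer (K : Set G)) (hno : ∀ y ∈ K ⊓ T, y * y = zz K → y * f ≠ f * y) (hx : x ∈ K ⊓ T)
    (hxx : x * x = zz K) (hfx : f * x * f⁻¹ = x⁻¹) :
    ∃ q ∈ K ⊓ T, q⁻¹ * f * q = f * x ∨ q⁻¹ * f * q = f * x⁻¹ := by
  have hfi : f⁻¹ = f := inv_eq_of_mul_eq_one_right hff
  have hzz := h.zz_mul hK.1
  have hx4 := h.orderOf_of_sq hK.1 hxx
  have hxi : x⁻¹ = x * zz K := by rw [inv_eq_iff_mul_eq_one, ← mul_assoc, hxx, hzz]
  have hfz : f * zz K = zz K * f := h.comm_zz hK.1 hfK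
  have hfQ : f ∈ normalizer ((K ⊓ T : Subgroup G) : Set G) := by
    rw [mem_normalizer_iff_cj, cj_inf, mem_normalizer_iff_cj.1 hfK, mem_normalizer_iff_cj.1 (le_normalizer hfT)]
  obtain ⟨c, v, n, hc⟩ := h.exists_gq hK.1 (syl_inf hT hK)
  obtain ⟨u, hu, hu4, hux⟩ := hc.exists_inverting hx hx4
  have huu : u * u = zz K := h.sq_eq_zz hK.1 hu.1 hu4
  have huz : u * zz K = zz K * u := by rw [← huu, mul_assoc]
  obtain ⟨g, hg⟩ : ∃ g, g = f * u * f⁻¹ * u⁻¹ := ⟨_, rfl⟩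
  have hgQ : g ∈ K ⊓ T := by
    rw [hg]; exact mul_mem ((mem_normalizer_iff.1 hfQ u).1 hu) (inv_mem hu)
  have hux' : u⁻¹ * x * u = x⁻¹ := by
    have h1 : u * x⁻¹ * u⁻¹ = x := by
      calc u * x⁻¹ * u⁻¹ = (u * x * u⁻¹)⁻¹ := by group
        _ = x := by rw [hux, inv_inv]
    calc u⁻¹ * x * u = u⁻¹ * (u * x⁻¹ * u⁻¹) * u := by rw [h1]
      _ = x⁻¹ := by group
  have hfx' : f⁻¹ * x⁻¹ * f = x := by
    rw [← hfx]; group
  have hgx : g * x = x * g := by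
    rw [← mul_inv_eq_iff_eq_mul]
    calc g * x * g⁻¹ = f * (u * (f⁻¹ * (u⁻¹ * x * u) * f) * u⁻¹) * f⁻¹ := by rw [hg]; group
      _ = f * (u * x * u⁻¹) * f⁻¹ := by rw [hux', hfx']
      _ = (f * x * f⁻¹)⁻¹ := by rw [hux]; group
      _ = x := by rw [hfx, inv_inv]
  have hfg : f * g * f⁻¹ = g⁻¹ := by
    calc f * g * f⁻¹ = (f * f) * u * (f * f)⁻¹ * (f * u⁻¹ * f⁻¹) := by rw [hg]; group
      _ = g⁻¹ := by rw [hff, hg]; group
  have hfgj : ∀ j : ℤ, f * g ^ j * f⁻¹ = g ^ (-j) := by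
    intro j
    rw [← conj_zpow, hfg, inv_zpow, zpow_neg]
  have hgg : g * g ≠ 1 := by
    intro h1
    by_cases h2 : g = 1
    · apply hno u hu huu
      rw [hg, mul_inv_eq_one, mul_inv_eq_iff_eq_mul] at h2
      exact h2.symm
    · have h3 := h.eq_zz hK.1 hgQ.1 h1 h2
      rw [hg, mul_inv_eq_iff_eq_mul] at h3
      have h4 : f * (x * u) * f⁻¹ = x * u := by
        calc f * (x * u) * f⁻¹ = (f * x * f⁻¹) * (f * u * f⁻¹) := by group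
          _ = x * zz K * (zz K * u) := by rw [hfx, h3, hxi]
          _ = x * (zz K * zz K) * u := by group
          _ = x * u := by rw [hzz, mul_one]
      refine hno (x * u) (mul_mem hx hu) ?_ (mul_inv_eq_iff_eq_mul.1 h4).symm
      calc x * u * (x * u) = x * (u * x * u⁻¹) * (u * u) := by group
        _ = zz K := by rw [hux, mul_inv_cancel, one_mul, huu]
  obtain ⟨w, hw, hww⟩ := CloseFus.exists_pow_sq h hK.1 (syl_inf hT hK) hgQ hgg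
  obtain ⟨j, hj⟩ := mem_zpowers_iff.1 hw
  have hwx : w = x ∨ w = x⁻¹ := by
    refine hc.comm_four ((zpowers_le.2 hgQ) hw) hx (h.orderOf_of_sq hK.1 hww) hx4 ?_
    rw [← hj]
    exact ((show Commute g x from hgx).zpow_left j).eq
  have key : ∃ q ∈ K ⊓ T, q⁻¹ * f * q = f * w := by
    rcases Int.even_or_odd' j with ⟨i, hi | hi⟩
    · refine ⟨g ^ i, zpow_mem hgQ i, ?_⟩
      rw [← hj, hi]
      calc (g ^ i)⁻¹ * f * g ^ i = g ^ (-i) * f * g ^ i := by rw [zpow_neg]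
        _ = (f * g ^ i * f⁻¹) * f * g ^ i := by rw [hfgj]
        _ = f * (g ^ i * g ^ i) := by group
        _ = f * g ^ (2 * i) := by rw [← zpow_add, two_mul]
    · refine ⟨u⁻¹ * g ^ i, mul_mem (inv_mem hu) (zpow_mem hgQ i), ?_⟩
      rw [← hj, hi]
      calc (u⁻¹ * g ^ i)⁻¹ * f * (u⁻¹ * g ^ i) = g ^ (-i) * (u * f * u⁻¹) * g ^ i := by rw [zpow_neg]; group
        _ = g ^ (-i) * (f * g) * g ^ i := by
            congr 2
            rw [hg]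
            calc u * f * u⁻¹ = u * f⁻¹ * u⁻¹ := by rw [hfi]
              _ = (f * f) * u * f⁻¹ * u⁻¹ := by rw [hff, one_mul]
              _ = f * (f * u * f⁻¹ * u⁻¹) := by group
        _ = (f * g ^ i * f⁻¹) * (f * g) * g ^ i := by rw [hfgj]
        _ = f * (g ^ i * g * g ^ i) := by group
        _ = f * g ^ (2 * i + 1) := by
            congr 1
            rw [← zpow_add_one, ← zpow_add]
            congr 1
            ring
  obtain ⟨q, hq, hqf⟩ := key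
  refine ⟨q, hq, ?_⟩
  rcases hwx with h1 | h1
  · left; rw [hqf, h1]
  · right; rw [hqf, h1]

end Basic

/-! ### Nondegenerate `t` -/

/-- `t = x₁ x₂` in a 2-group `T`, and a third member `K₃` -/
structure Fr (Om : Set (Subgroup G)) (z t : G) (T K₁ K₂ K₃ : Subgroup G) (x₁ x₂ : G) : Prop where
  two : IsPGroup 2 T
  m₁ : K₁ ∈ OmS Om T
  m₂ : K₂ ∈ OmS Om T
  m₃ : K₃ ∈ OmS Om T
  n₁₂ : K₁ ≠ K₂
  n₁₃ : K₁ ≠ K₃
  n₂₃ : K₂ ≠ K₃
  z₁ : zz K₁ = z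
  x₁_mem : x₁ ∈ K₁ ⊓ T
  x₂_mem : x₂ ∈ K₂ ⊓ T
  x₁_sq : x₁ * x₁ = z
  x₂_sq : x₂ * x₂ = z
  t_eq : t = x₁ * x₂

namespace Fr

variable [Finite G] {Om : Set (Subgroup G)} {z t : G} {T K₁ K₂ K₃ : Subgroup G} {x₁ x₂ : G}

theorem z₂ (f : Fr Om z t T K₁ K₂ K₃ x₁ x₂) (e : EqZ Om) : zz K₂ = z := by
  rw [← f.z₁]; exact e.eq_zz f.two f.m₂ f.m₁

theorem z₃ (f : Fr Om z t T K₁ K₂ K₃ x₁ x₂) (e : EqZ Om) : zz K₃ = z := by
  rw [← f.z₁]; exact e.eq_zz f.two f.m₃ f.m₁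

theorem zz_mul (f : Fr Om z t T K₁ K₂ K₃ x₁ x₂) (e : EqZ Om) : z * z = 1 := by
  rw [← f.z₁]; exact e.hyp.zz_mul f.m₁.1

theorem comm (f : Fr Om z t T K₁ K₂ K₃ x₁ x₂) (e : EqZ Om) : x₁ * x₂ = x₂ * x₁ :=
  e.hyp.comm f.two f.m₁ f.m₂ f.n₁₂ f.x₁_mem f.x₂_mem

theorem swap (f : Fr Om z t T K₁ K₂ K₃ x₁ x₂) (e : EqZ Om) : Fr Om z t T K₂ K₁ K₃ x₂ x₁ :=
  ⟨f.two, f.m₂, f.m₁, f.m₃, f.n₁₂.symm, f.n₂₃, f.n₁₃, f.z₂ e, f.x₂_mem, f.x₁_mem, f.x₂_sq, f.x₁_sq, by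
    rw [f.t_eq, f.comm e]⟩

theorem x₁z (f : Fr Om z t T K₁ K₂ K₃ x₁ x₂) : x₁ * z = z * x₁ := by rw [← f.x₁_sq, mul_assoc]

theorem x₁_inv (f : Fr Om z t T K₁ K₂ K₃ x₁ x₂) (e : EqZ Om) : x₁⁻¹ = x₁ * z := by
  rw [inv_eq_iff_mul_eq_one, ← mul_assoc, f.x₁_sq, f.zz_mul e]

theorem x₁t (f : Fr Om z t T K₁ K₂ K₃ x₁ x₂) (e : EqZ Om) : x₁ * t = t * x₁ := by
  rw [f.t_eq, mul_assoc, ← f.comm e]

theorem tz (f : Fr Om z t T K₁ K₂ K₃ x₁ x₂) (e : EqZ Om) : t * z = z * t := by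
  rw [f.t_eq, mul_assoc, (f.swap e).x₁z, ← mul_assoc, f.x₁z, mul_assoc]

theorem tt (f : Fr Om z t T K₁ K₂ K₃ x₁ x₂) (e : EqZ Om) : t * t = 1 := by
  rw [f.t_eq]
  calc x₁ * x₂ * (x₁ * x₂) = x₁ * (x₂ * x₁) * x₂ := by group
    _ = x₁ * x₁ * (x₂ * x₂) := by rw [← f.comm e]; group
    _ = 1 := by rw [f.x₁_sq, f.x₂_sq, f.zz_mul e]

theorem t_mem (f : Fr Om z t T K₁ K₂ K₃ x₁ x₂) : t ∈ T := by
  rw [f.t_eq]; exact T.mul_mem f.x₁_mem.2 f.x₂_mem.2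

/-- `t` centralises the other members of `Om(T)` -/
theorem comm_t (f : Fr Om z t T K₁ K₂ K₃ x₁ x₂) (e : EqZ Om) {J : Subgroup G} (hJ : J ∈ OmS Om T) (h1 : J ≠ K₁)
    (h2 : J ≠ K₂) {q : G} (hq : q ∈ J ⊓ T) : q * t = t * q := by
  have a1 := e.hyp.comm f.two hJ f.m₁ h1 hq f.x₁_mem
  have a2 := e.hyp.comm f.two hJ f.m₂ h2 hq f.x₂_mem
  rw [f.t_eq, ← mul_assoc, a1, mul_assoc, a2, mul_assoc]

theorem t_ne (f : Fr Om z t T K₁ K₂ K₃ x₁ x₂) (e : EqZ Om) : t ≠ 1 := by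
  intro h1
  have h4 := e.hyp.orderOf_of_sq f.m₂.1 (by rw [f.x₂_sq, f.z₂ e])
  have h4' := e.hyp.orderOf_of_sq f.m₁.1 (by rw [f.x₁_sq, f.z₁])
  refine (mul_four e.hyp f.two f.m₁ f.m₂ f.n₁₂ (by rw [f.z₁, f.z₂ e]) f.x₁_mem h4' f.x₂_mem h4).2.2.1 ?_
  rw [← f.t_eq, h1]

theorem perp (f : Fr Om z t T K₁ K₂ K₃ x₁ x₂) (e : EqZ Om) : Perp Om t z :=
  ⟨K₃, f.m₃.1, f.z₃ e, K₃ ⊓ T, syl_inf f.two f.m₃, fun _ hq => f.comm_t e f.m₃ f.n₁₃.symm f.n₂₃.symm hq⟩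

/-- an element of `T` commuting with `t` permutes `{K₁, K₂}` -/
theorem cj_or (f : Fr Om z t T K₁ K₂ K₃ x₁ x₂) (e : EqZ Om) {g : G} (hg : g ∈ T) (hgt : g * t = t * g) :
    cj g K₁ = K₁ ∨ cj g K₁ = K₂ := by
  have h := e.hyp
  by_contra hcon
  push Not at hcon
  obtain ⟨h1, h2⟩ := hcon
  have hJ : cj g K₁ ∈ OmS Om T := cj_mem_OmS' h.conj (le_normalizer hg) f.m₁
  have hJ2 : cj g K₂ ∈ OmS Om T := cj_mem_OmS' h.conj (le_normalizer hg) f.m₂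
  have hx1 : g * x₁ * g⁻¹ ∈ cj g K₁ ⊓ T :=
    ⟨conj_mem_cj f.x₁_mem.1, T.mul_mem (T.mul_mem hg f.x₁_mem.2) (T.inv_mem hg)⟩
  have hx2 : g * x₂ * g⁻¹ ∈ cj g K₂ ⊓ T :=
    ⟨conj_mem_cj f.x₂_mem.1, T.mul_mem (T.mul_mem hg f.x₂_mem.2) (T.inv_mem hg)⟩
  have hne : cj g K₁ ≠ cj g K₂ := fun h3 => f.n₁₂ (cj_inj.1 h3)
  obtain ⟨q, hq, hqx⟩ := not_central h f.two hJ hx1 (by
    rw [h.zz_cj f.m₁.1, f.z₁, ← f.x₁_sq]; group)
  apply hqx
  have a1 := f.comm_t e hJ h1 h2 hq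
  have a2 : q * (g * x₂ * g⁻¹) = g * x₂ * g⁻¹ * q := h.comm f.two hJ hJ2 hne hq hx2
  have a3 : g * x₁ * g⁻¹ = t * (g * x₂ * g⁻¹)⁻¹ := by
    rw [eq_mul_inv_iff_mul_eq]
    calc g * x₁ * g⁻¹ * (g * x₂ * g⁻¹) = g * (x₁ * x₂) * g⁻¹ := by group
      _ = t := by rw [← f.t_eq, hgt, mul_inv_cancel_right]
  rw [a3]
  exact ((show Commute q t from a1).mul_right (show Commute q (g * x₂ * g⁻¹) from a2).inv_right).eq

/-- (α), (β) -/
theorem beta (f : Fr Om z t T K₁ K₂ K₃ x₁ x₂) (e : EqZ Om) (hno : NoOne Om) {L : Subgroup G} (hL : L ∈ Om)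
    (hzT : zz L ∈ T) (hne : zz L ≠ z) (hzt : zz L * t = t * zz L) (hp : Perp Om t (zz L)) :
    cj (zz L) K₁ = K₂ ∧ zz L * x₁ * (zz L)⁻¹ = x₂ := by
  have h := e.hyp
  obtain ⟨z', hz'⟩ : ∃ z', z' = zz L := ⟨_, rfl⟩
  have hzz' : z' * z' = 1 := by rw [hz']; exact h.zz_mul hL
  have hzi : z'⁻¹ = z' := inv_eq_of_mul_eq_one_right hzz'
  have hno1 : ∀ y ∈ K₁ ⊓ T, y * y = zz K₁ → y * z' ≠ z' * y := fun y hy hyy => by
    rw [hz']; exact hno K₁ f.m₁.1 L hL (by rw [f.z₁]; exact hne.symm) y hy.1 hyy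
  have hno2 : ∀ y ∈ K₂ ⊓ T, y * y = zz K₂ → y * z' ≠ z' * y := fun y hy hyy => by
    rw [hz']; exact hno K₂ f.m₂.1 L hL (by rw [f.z₂ e]; exact hne.symm) y hy.1 hyy
  -- no conjugate of `z'` is `z' t`
  have hU : ∀ g : G, g⁻¹ * z' * g ≠ z' * t := by
    intro g hg
    refine hp.ne e (f.t_ne e) (h.conj L hL g⁻¹) ?_
    rw [h.zz_cj hL, ← hz', inv_inv, hg]
  rw [← hz'] at hzT hne hzt hp ⊢
  have hx1 : z' * x₁ * z'⁻¹ ∈ cj z' K₁ ⊓ T :=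
    ⟨conj_mem_cj f.x₁_mem.1, T.mul_mem (T.mul_mem hzT f.x₁_mem.2) (T.inv_mem hzT)⟩
  have hx2 : z' * x₂ * z'⁻¹ ∈ cj z' K₂ ⊓ T :=
    ⟨conj_mem_cj f.x₂_mem.1, T.mul_mem (T.mul_mem hzT f.x₂_mem.2) (T.inv_mem hzT)⟩
  have hci : ∀ y : G, z'⁻¹ * y⁻¹ * z' = (z' * y * z'⁻¹)⁻¹ := by
    intro y
    simp only [mul_inv_rev, hzi, mul_assoc]
  have hprod : (z' * x₁ * z'⁻¹) * (z' * x₂ * z'⁻¹) = x₁ * x₂ := by
    calc z' * x₁ * z'⁻¹ * (z' * x₂ * z'⁻¹) = z' * (x₁ * x₂) * z'⁻¹ := by group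
      _ = x₁ * x₂ := by rw [← f.t_eq, hzt, mul_inv_cancel_right]
  have hz'z : z' * z = z * z' := by
    have := e.comm_zz f.two f.m₁ hzT
    rwa [f.z₁] at this
  have hx1z := f.x₁z
  have hx2z := (f.swap e).x₁z
  have hzz := f.zz_mul e
  have hcx := f.comm e
  rcases f.cj_or e hzT hzt with h1 | h1
  · -- (α)
    exfalso
    have h2 : cj z' K₂ = K₂ := by
      rcases (f.swap e).cj_or e hzT hzt with h3 | h3
      · exact h3
      · rw [← h1] at h3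
        exact absurd (cj_inj.1 h3).symm f.n₁₂
    rw [h1] at hx1
    rw [h2] at hx2
    have hcx' : (z' * x₁ * z'⁻¹) * x₂ = x₂ * (z' * x₁ * z'⁻¹) := h.comm f.two f.m₁ f.m₂ f.n₁₂ hx1 f.x₂_mem
    have h4 : x₁⁻¹ * (z' * x₁ * z'⁻¹) = x₂ * (z' * x₂ * z'⁻¹)⁻¹ := by
      rw [inv_mul_eq_iff_eq_mul, ← mul_assoc, ← hprod, mul_inv_cancel_right]
    have h5 : x₁⁻¹ * (z' * x₁ * z'⁻¹) = 1 ∨ x₁⁻¹ * (z' * x₁ * z'⁻¹) = z := by
      rw [← f.z₁]
      refine mem_two h f.two f.m₁ f.m₂ f.n₁₂ (mul_mem (inv_mem f.x₁_mem) hx1) ?_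
      rw [h4]
      exact K₂.mul_mem f.x₂_mem.1 (K₂.inv_mem hx2.1)
    rcases h5 with h5 | h5
    · rw [inv_mul_eq_one] at h5
      exact hno1 x₁ f.x₁_mem (by rw [f.x₁_sq, f.z₁]) (eq_mul_inv_iff_mul_eq.1 h5)
    have h6 : x₂ * (z' * x₂ * z'⁻¹)⁻¹ = z := by rw [← h4, h5]
    have h7 : z' * x₁ * z'⁻¹ = x₁⁻¹ := by
      rw [inv_mul_eq_iff_eq_mul] at h5
      rw [h5, f.x₁_inv e]
    have h8 : z' * x₂ * z'⁻¹ = x₂⁻¹ := by
      rw [mul_inv_eq_iff_eq_mul] at h6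
      have h9 : z' * x₂ * z'⁻¹ = z * x₂ := by
        calc z' * x₂ * z'⁻¹ = (z * z) * (z' * x₂ * z'⁻¹) := by rw [hzz, one_mul]
          _ = z * (z * (z' * x₂ * z'⁻¹)) := by group
          _ = z * x₂ := by rw [← h6]
      rw [h9, (f.swap e).x₁_inv e, hx2z]
    obtain ⟨q₁, hq₁, hc₁⟩ := exists_mul h f.two f.m₁ hzz' hzT (mem_normalizer_iff_cj.2 h1) hno1 f.x₁_mem
      (by rw [f.x₁_sq, f.z₁]) h7
    obtain ⟨q₂, hq₂, hc₂⟩ := exists_mul h f.two f.m₂ hzz' hzT (mem_normalizer_iff_cj.2 h2) hno2 f.x₂_mem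
      (by rw [f.x₂_sq, f.z₂ e]) h8
    have hqx : q₂⁻¹ * x₁ = x₁ * q₂⁻¹ :=
      (h.comm f.two f.m₁ f.m₂ f.n₁₂ f.x₁_mem (inv_mem hq₂)).symm
    have hqx' : q₂⁻¹ * x₁⁻¹ = x₁⁻¹ * q₂⁻¹ :=
      (h.comm f.two f.m₁ f.m₂ f.n₁₂ (inv_mem f.x₁_mem) (inv_mem hq₂)).symm
    have hxz' : x₁⁻¹ * z' * x₁ = z' * z := by
      calc x₁⁻¹ * z' * x₁ = z' * (z'⁻¹ * x₁⁻¹ * z') * x₁ := by group
        _ = z' * (z' * x₁ * z'⁻¹)⁻¹ * x₁ := by rw [hci]
        _ = z' * (x₁ * x₁) := by rw [h7]; group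
        _ = z' * z := by rw [f.x₁_sq]
    -- the product
    have hP : ∀ a b : G, q₁⁻¹ * z' * q₁ = z' * a → q₂⁻¹ * z' * q₂ = z' * b → q₂⁻¹ * a = a * q₂⁻¹ →
        (q₁ * q₂)⁻¹ * z' * (q₁ * q₂) = z' * (b * a) := by
      intro a b ha hb hqa
      calc (q₁ * q₂)⁻¹ * z' * (q₁ * q₂) = q₂⁻¹ * (q₁⁻¹ * z' * q₁) * q₂ := by group
        _ = q₂⁻¹ * z' * (a * q₂) := by rw [ha]; group
        _ = q₂⁻¹ * z' * (q₂ * (q₂⁻¹ * a) * q₂) := by group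
        _ = (q₂⁻¹ * z' * q₂) * a := by rw [hqa]; group
        _ = z' * (b * a) := by rw [hb]; group
    have hend : ∀ g : G, g⁻¹ * z' * g = z' * (t * z) → False := by
      intro g hg
      apply hU (g * x₁)
      calc (g * x₁)⁻¹ * z' * (g * x₁) = x₁⁻¹ * (g⁻¹ * z' * g) * x₁ := by group
        _ = (x₁⁻¹ * z' * x₁) * (x₁⁻¹ * (t * z) * x₁) := by rw [hg]; group
        _ = z' * z * (t * z) := by
            rw [hxz']
            congr 1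
            calc x₁⁻¹ * (t * z) * x₁ = x₁⁻¹ * t * (z * x₁) := by group
              _ = x₁⁻¹ * (t * x₁) * z := by rw [← hx1z]; group
              _ = t * z := by rw [← f.x₁t e]; group
        _ = z' * (z * z) * t := by rw [f.tz e]; group
        _ = z' * t := by rw [hzz, mul_one]
    have hxi1 := f.x₁_inv e
    have hxi2 := (f.swap e).x₁_inv e
    rcases hc₁ with hc₁ | hc₁ <;> rcases hc₂ with hc₂ | hc₂
    · apply hU (q₁ * q₂)
      rw [hP _ _ hc₁ hc₂ hqx, ← hcx, ← f.t_eq]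
    · apply hend (q₁ * q₂)
      rw [hP _ _ hc₁ hc₂ hqx, hxi2, hx2z, mul_assoc, ← hcx, ← f.t_eq, f.tz e]
    · apply hend (q₁ * q₂)
      rw [hP _ _ hc₁ hc₂ hqx', hxi1, ← mul_assoc x₂, ← hcx, ← f.t_eq]
    · apply hU (q₁ * q₂)
      rw [hP _ _ hc₁ hc₂ hqx', hxi1, hxi2]
      congr 1
      calc x₂ * z * (x₁ * z) = x₂ * (z * x₁) * z := by group
        _ = (x₂ * x₁) * (z * z) := by rw [← hx1z]; group
        _ = t := by rw [hzz, mul_one, ← hcx, ← f.t_eq]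
  · -- (β)
    refine ⟨h1, ?_⟩
    have h2 : cj z' K₂ = K₁ := by
      rw [← h1, ← cj_mul, hzz', cj_one]
    rw [h1] at hx1
    rw [h2] at hx2
    have hcx' : (z' * x₁ * z'⁻¹) * (z' * x₂ * z'⁻¹) = (z' * x₂ * z'⁻¹) * (z' * x₁ * z'⁻¹) :=
      (h.comm f.two f.m₁ f.m₂ f.n₁₂ hx2 hx1).symm
    have h4 : x₂⁻¹ * (z' * x₁ * z'⁻¹) = x₁ * (z' * x₂ * z'⁻¹)⁻¹ := by
      rw [inv_mul_eq_iff_eq_mul, ← mul_assoc, ← hcx, ← hprod, mul_inv_cancel_right]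
    have h5 : x₂⁻¹ * (z' * x₁ * z'⁻¹) = 1 ∨ x₂⁻¹ * (z' * x₁ * z'⁻¹) = z := by
      rw [← f.z₂ e]
      refine mem_two h f.two f.m₂ f.m₁ f.n₁₂.symm (mul_mem (inv_mem f.x₂_mem) hx1) ?_
      rw [h4]
      exact K₁.mul_mem f.x₁_mem.1 (K₁.inv_mem hx2.1)
    rcases h5 with h5 | h5
    · rw [inv_mul_eq_one] at h5
      exact h5.symm
    exfalso
    rw [inv_mul_eq_iff_eq_mul] at h5
    apply hU x₁
    calc x₁⁻¹ * z' * x₁ = z' * (z'⁻¹ * x₁⁻¹ * z') * x₁ := by group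
      _ = z' * (z' * x₁ * z'⁻¹)⁻¹ * x₁ := by rw [hci]
      _ = z' * ((x₂ * z)⁻¹ * x₁) := by rw [h5]; group
      _ = z' * t := by
          congr 1
          rw [← (f.swap e).x₁_inv e, inv_inv, ← hcx, f.t_eq]

/-- a good choice of the 2-group -/
theorem exists_fr (f : Fr Om z t T K₁ K₂ K₃ x₁ x₂) (e : EqZ Om) :
    ∃ R T₁, Syl R (centralizer {t} ⊓ centralizer {z}) ∧ R ≤ T₁ ∧ Fr Om z t T₁ K₁ K₂ K₃ x₁ x₂ := by
  have h := e.hyp
  have hTz : T ≤ centralizer {z} := fun x hx => by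
    rw [mem_centralizer_singleton_iff, ← f.z₁]; exact e.comm_zz f.two f.m₁ hx
  obtain ⟨R, hR, hPR⟩ := exists_syl_ge (P := T ⊓ centralizer {t}) (C := centralizer {t} ⊓ centralizer {z})
    (f.two.to_le inf_le_left) (le_inf inf_le_right (inf_le_left.trans hTz))
  obtain ⟨T₁, hT₁, hRT⟩ := exists_syl_ge hR.2.1 (hR.1.trans inf_le_right)
  have hx₁ : x₁ ∈ T₁ := hRT (hPR ⟨f.x₁_mem.2, mem_centralizer_singleton_iff.2 (f.x₁t e)⟩)
  have hx₂ : x₂ ∈ T₁ := hRT (hPR ⟨f.x₂_mem.2, mem_centralizer_singleton_iff.2 ((f.swap e).x₁t e)⟩)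
  refine ⟨R, T₁, hR, hRT, hT₁.2.1, ?_, ?_, ?_, f.n₁₂, f.n₁₃, f.n₂₃, f.z₁, ⟨f.x₁_mem.1, hx₁⟩, ⟨f.x₂_mem.1, hx₂⟩,
    f.x₁_sq, f.x₂_sq, f.t_eq⟩
  · exact h.mem_OmS_of_syl f.m₁.1 (by rw [f.z₁]; exact hT₁)
  · exact h.mem_OmS_of_syl f.m₂.1 (by rw [f.z₂ e]; exact hT₁)
  · exact h.mem_OmS_of_syl f.m₃.1 (by rw [f.z₃ e]; exact hT₁)

end Fr

/-- `ζ ∈ z^{C(t)}` -/
def Zt (z t ζ : G) : Prop := ∃ g, g * t = t * g ∧ ζ = g * z * g⁻¹

theorem Zt.conj {z t ζ k : G} (h1 : Zt z t ζ) (hk : k * t = t * k) : Zt z t (k * ζ * k⁻¹) := by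
  obtain ⟨g, hg, rfl⟩ := h1
  exact ⟨k * g, by rw [mul_assoc, hg, ← mul_assoc, hk, mul_assoc], by group⟩

theorem comm_inv' {k t : G} (hk : k * t = t * k) : k⁻¹ * t = t * k⁻¹ :=
  ((show Commute k t from hk).inv_left).eq

theorem exists_mem_of_two [Finite G] {R C : Subgroup G} (hR : Syl R C) {x : G} (hx : x * x = 1) (hxC : x ∈ C) :
    ∃ k ∈ C, k * x * k⁻¹ ∈ R := by
  obtain ⟨R', hR', hxR⟩ := exists_syl_ge (SameStar.isPGroup_of_sq hx) (zpowers_le.2 hxC)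
  obtain ⟨k, hk, hkR⟩ := hR'.exists_conj hR
  exact ⟨k, hk, by rw [← hkR]; exact conj_mem_cj (hxR (mem_zpowers x))⟩

namespace Fr

variable [Finite G] {Om : Set (Subgroup G)} {z t ζ ζ' : G} {T K₁ K₂ K₃ : Subgroup G} {x₁ x₂ : G}

theorem exists_zz (f : Fr Om z t T K₁ K₂ K₃ x₁ x₂) (e : EqZ Om) (hζ : Zt z t ζ) : ∃ L ∈ Om, zz L = ζ := by
  obtain ⟨g, -, rfl⟩ := hζ
  exact ⟨cj g K₁, e.hyp.conj _ f.m₁.1 g, by rw [e.hyp.zz_cj f.m₁.1, f.z₁]⟩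

theorem perp_of (f : Fr Om z t T K₁ K₂ K₃ x₁ x₂) (e : EqZ Om) (hζ : Zt z t ζ) : Perp Om t ζ := by
  obtain ⟨g, hg, rfl⟩ := hζ
  exact (f.perp e).conj e.hyp hg

theorem comm_of (f : Fr Om z t T K₁ K₂ K₃ x₁ x₂) (e : EqZ Om) (hζ : Zt z t ζ) : ζ * t = t * ζ := by
  obtain ⟨g, hg, rfl⟩ := hζ
  have h1 := comm_inv' hg
  have h2 := f.tz e
  calc g * z * g⁻¹ * t = g * (z * t) * g⁻¹ := by rw [mul_assoc, h1]; group
    _ = (g * t) * z * g⁻¹ := by rw [← h2]; group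
    _ = t * (g * z * g⁻¹) := by rw [hg]; group

theorem conj_x₁ (f : Fr Om z t T K₁ K₂ K₃ x₁ x₂) (e : EqZ Om) {z' : G} (hz' : z' * z' = 1)
    (hb : z' * x₁ * z'⁻¹ = x₂) : x₁⁻¹ * z' * x₁ = z' * (z * t) := by
  have hzi : z'⁻¹ = z' := inv_eq_of_mul_eq_one_right hz'
  calc x₁⁻¹ * z' * x₁ = z' * (z'⁻¹ * x₁⁻¹ * z'⁻¹⁻¹) * x₁ := by rw [inv_inv]; group
    _ = z' * (z' * x₁ * z'⁻¹)⁻¹ * x₁ := by rw [hzi]; simp only [mul_inv_rev, hzi, mul_assoc]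
    _ = z' * (x₂⁻¹ * x₁) := by rw [hb]; group
    _ = z' * (z * t) := by
        congr 1
        rw [(f.swap e).x₁_inv e, (f.swap e).x₁z, mul_assoc, ← f.comm e, ← f.t_eq]

theorem p1 (f : Fr Om z t T K₁ K₂ K₃ x₁ x₂) (e : EqZ Om) (hno : NoOne Om) (hζ : Zt z t ζ) (hne : ζ ≠ z)
    (hc : ζ * z = z * ζ) : Zt z t (ζ * (z * t)) := by
  have h := e.hyp
  obtain ⟨R, T₁, hR, hRT, f₁⟩ := f.exists_fr e
  obtain ⟨L, hL, hzL⟩ := f.exists_zz e hζ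
  have hζζ : ζ * ζ = 1 := by rw [← hzL]; exact h.zz_mul hL
  obtain ⟨k, hk, hkR⟩ := exists_mem_of_two hR hζζ
    ⟨mem_centralizer_singleton_iff.2 (f.comm_of e hζ), mem_centralizer_singleton_iff.2 hc⟩
  have hkt := mem_centralizer_singleton_iff.1 hk.1
  have hkz := mem_centralizer_singleton_iff.1 hk.2
  have hζ' := hζ.conj hkt
  have hz2 : zz (cj k L) = k * ζ * k⁻¹ := by rw [h.zz_cj hL, hzL]
  have hne' : k * ζ * k⁻¹ ≠ z := by
    intro h1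
    apply hne
    have h2 : k * ζ = z * k := by rw [← h1]; group
    rw [← hkz] at h2
    exact mul_left_cancel h2
  obtain ⟨-, hb⟩ := f₁.beta e hno (h.conj L hL k) (by rw [hz2]; exact hRT hkR) (by rw [hz2]; exact hne')
    (by rw [hz2]; exact f.comm_of e hζ') (by rw [hz2]; exact f.perp_of e hζ')
  rw [hz2] at hb
  have hb' := f₁.conj_x₁ e (by rw [← hz2]; exact h.zz_mul (h.conj L hL k)) hb
  have h1 : Zt z t (k * ζ * k⁻¹ * (z * t)) := by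
    rw [← hb']
    have := hζ'.conj (comm_inv' (f.x₁t e))
    rwa [inv_inv] at this
  have h2 := h1.conj (comm_inv' hkt)
  have h3 : k⁻¹ * (k * ζ * k⁻¹ * (z * t)) * k⁻¹⁻¹ = ζ * (z * t) := by
    rw [inv_inv]
    calc k⁻¹ * (k * ζ * k⁻¹ * (z * t)) * k = ζ * k⁻¹ * z * (t * k) := by group
      _ = ζ * k⁻¹ * (z * k) * t := by rw [← hkt]; group
      _ = ζ * (z * t) := by rw [← hkz]; group
  rwa [h3] at h2

theorem p2 (f : Fr Om z t T K₁ K₂ K₃ x₁ x₂) (e : EqZ Om) (hno : NoOne Om) (hζ : Zt z t ζ) (hζ' : Zt z t ζ')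
    (hne : ζ' ≠ ζ) (hc : ζ' * ζ = ζ * ζ') : Zt z t (ζ' * (ζ * t)) := by
  obtain ⟨g, hg, rfl⟩ := hζ
  have hg' := comm_inv' hg
  have h1 : Zt z t (g⁻¹ * ζ' * g) := by
    have := hζ'.conj hg'
    rwa [inv_inv] at this
  have h2 := f.p1 e hno h1 (by
    rintro h3
    apply hne
    rw [← h3]; group) (by
    calc g⁻¹ * ζ' * g * z = g⁻¹ * (ζ' * (g * z * g⁻¹)) * g := by group
      _ = z * (g⁻¹ * ζ' * g) := by rw [hc]; group)
  have h3 := h2.conj hg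
  have h4 : g * (g⁻¹ * ζ' * g * (z * t)) * g⁻¹ = ζ' * (g * z * g⁻¹ * t) := by
    calc g * (g⁻¹ * ζ' * g * (z * t)) * g⁻¹ = ζ' * g * z * (t * g⁻¹) := by group
      _ = ζ' * (g * z * g⁻¹ * t) := by rw [← hg']; group
  rwa [h4] at h3

/-- **`t` nondegenerate gives a pair of type I** -/
theorem false_of_nondeg (f : Fr Om z t T K₁ K₂ K₃ x₁ x₂) (e : EqZ Om) (hno : NoOne Om) (hζ : Zt z t ζ)
    (hne : ζ ≠ z) (hc : ζ * z = z * ζ) : False := by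
  have h := e.hyp
  obtain ⟨R, T₁, hR, hRT, f₁⟩ := f.exists_fr e
  -- `ζ ∈ R`
  obtain ⟨z', hz'R, hz't, hne', hc'⟩ : ∃ z' ∈ R, Zt z t z' ∧ z' ≠ z ∧ z' * z = z * z' := by
    obtain ⟨L, hL, hzL⟩ := f.exists_zz e hζ
    have hζζ : ζ * ζ = 1 := by rw [← hzL]; exact h.zz_mul hL
    obtain ⟨k, hk, hkR⟩ := exists_mem_of_two hR hζζ
      ⟨mem_centralizer_singleton_iff.2 (f.comm_of e hζ), mem_centralizer_singleton_iff.2 hc⟩
    have hkt := mem_centralizer_singleton_iff.1 hk.1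
    have hkz := mem_centralizer_singleton_iff.1 hk.2
    refine ⟨_, hkR, hζ.conj hkt, fun h1 => hne ?_, mem_centralizer_singleton_iff.1 (hR.1 hkR).2⟩
    have h2 : k * ζ = z * k := by rw [← h1]; group
    rw [← hkz] at h2
    exact mul_left_cancel h2
  obtain ⟨L, hL, hzL⟩ := f.exists_zz e hz't
  have hzz' : z' * z' = 1 := by rw [← hzL]; exact h.zz_mul hL
  have hzi : z'⁻¹ = z' := inv_eq_of_mul_eq_one_right hzz'
  have hzz := f.zz_mul e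
  have htt := f.tt e
  have htz := f.tz e
  have hci : ∀ y : G, z'⁻¹ * y⁻¹ * z' = (z' * y * z'⁻¹)⁻¹ := by
    intro y
    simp only [mul_inv_rev, hzi, mul_assoc]
  have hz'T : z' ∈ T₁ := hRT hz'R
  have hz'tc := f.comm_of e hz't
  obtain ⟨hb1, hb2⟩ := f₁.beta e hno hL (by rw [hzL]; exact hz'T) (by rw [hzL]; exact hne')
    (by rw [hzL]; exact hz'tc) (by rw [hzL]; exact f.perp_of e hz't)
  rw [hzL] at hb1 hb2
  -- `z' z` is not in `ZZ`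
  have hNZ : ∀ J ∈ Om, zz J ≠ z' * z := by
    intro J hJ h1
    refine (f.perp_of e (f.p1 e hno hz't hne' hc')).ne e (f.t_ne e) hJ ?_
    rw [h1, mul_assoc, mul_assoc, htt, mul_one]
  have hz3 := f.z₃ e
  by_cases hK3 : cj z' K₃ = K₃
  · obtain ⟨w, hw, hw4, hwz⟩ := e.exists_pm f₁.two f₁.m₃ hz'T (mem_normalizer_iff_cj.2 hK3)
    have hww := h.sq_eq_zz f.m₃.1 hw.1 hw4
    rcases hwz with hwz | hwz
    · refine hno K₃ f.m₃.1 L hL (by rw [hz3, hzL]; exact hne'.symm) w hw.1 hww ?_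
      rw [hzL]
      exact (mul_inv_eq_iff_eq_mul.1 hwz).symm
    · refine hNZ (cj w⁻¹ L) (h.conj L hL w⁻¹) ?_
      rw [h.zz_cj hL, hzL, inv_inv]
      calc w⁻¹ * z' * w = z' * (z'⁻¹ * w⁻¹ * z') * w := by group
        _ = z' * (w * w) := by rw [hci, hwz]; group
        _ = z' * z := by rw [hww, hz3]
  · obtain ⟨k, hk, hk4⟩ := h.exists_four f₁.two f₁.m₃
    have hkk : k * k = z := by rw [h.sq_eq_zz f.m₃.1 hk.1 hk4, hz3]
    have hkz : k * z = z * k := by rw [← hkk, mul_assoc]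
    obtain ⟨k', hk'⟩ : ∃ k', k' = z' * k * z'⁻¹ := ⟨_, rfl⟩
    have hJ : cj z' K₃ ∈ OmS Om T₁ := cj_mem_OmS' h.conj (le_normalizer hz'T) f₁.m₃
    have hk'm : k' ∈ cj z' K₃ ⊓ T₁ := by
      rw [hk']
      exact ⟨conj_mem_cj hk.1, T₁.mul_mem (T₁.mul_mem hz'T hk.2) (T₁.inv_mem hz'T)⟩
    have hJ1 : cj z' K₃ ≠ K₁ := by
      intro h1
      apply f.n₂₃
      rw [← hb1, ← h1, ← cj_mul, hzz', cj_one]
    have hJ2 : cj z' K₃ ≠ K₂ := by
      intro h1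
      rw [← hb1] at h1
      exact f.n₁₃ (cj_inj.1 h1).symm
    have hkt := f₁.comm_t e f₁.m₃ f.n₁₃.symm f.n₂₃.symm hk
    have hk't := f₁.comm_t e hJ hJ1 hJ2 hk'm
    have hkk'c : k * k' = k' * k := h.comm f₁.two f₁.m₃ hJ (Ne.symm hK3) hk hk'm
    have hk'k' : k' * k' = z := by
      rw [hk']
      calc z' * k * z'⁻¹ * (z' * k * z'⁻¹) = z' * (k * k) * z'⁻¹ := by group
        _ = z := by rw [hkk, hc', mul_inv_cancel_right]
    have hk'i : k'⁻¹ = k' * z := by rw [inv_eq_iff_mul_eq_one, ← mul_assoc, hk'k', hzz]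
    have hk'z : k' * z = z * k' := by rw [← hk'k', mul_assoc]
    -- `z''`
    obtain ⟨z'', hz''⟩ : ∃ z'', z'' = k⁻¹ * z' * k := ⟨_, rfl⟩
    have hz''t : Zt z t z'' := by
      have := hz't.conj (comm_inv' hkt)
      rw [inv_inv] at this
      rwa [hz'']
    have hz''e : z'' = z' * (z * (k * k')) := by
      calc z'' = z' * (z'⁻¹ * k⁻¹ * z') * k := by rw [hz'']; group
        _ = z' * (k'⁻¹ * k) := by rw [hci, hk']; group
        _ = z' * (z * (k * k')) := by rw [hk'i, hk'z, hkk'c, mul_assoc]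
    have hτ : z' * (k * k') = k * k' * z' := by
      rw [← mul_inv_eq_iff_eq_mul]
      calc z' * (k * k') * z'⁻¹ = (z' * k * z'⁻¹) * (z' * k' * z'⁻¹) := by group
        _ = k' * (z' * z' * k * (z' * z')⁻¹) := by rw [← hk', hk']; group
        _ = k * k' := by rw [hzz', hkk'c]; group
    have hzτ : z * (k * k') = k * k' * z := by
      rw [← mul_assoc, ← hkz, mul_assoc, ← hk'z, mul_assoc]
    have hne'' : z'' ≠ z' := by
      intro h1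
      rw [hz''e] at h1
      have h2 : z * (k * k') = 1 := mul_eq_left.1 h1
      have h3 : k' = k := by
        have h4 : k * k' = z := by
          calc k * k' = z * z * (k * k') := by rw [hzz, one_mul]
            _ = z * (z * (k * k')) := by group
            _ = z := by rw [h2, mul_one]
        rw [← hkk] at h4
        exact mul_left_cancel h4
      refine not_mem_of_four h f₁.two f₁.m₃ hJ (Ne.symm hK3) hk'm ?_ (h3 ▸ hk.1)
      rw [h3]; exact hk4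
    have hcc : z'' * z' = z' * z'' := by
      rw [hz''e]
      calc z' * (z * (k * k')) * z' = z' * (z * (k * k' * z')) := by group
        _ = z' * ((z * z') * (k * k')) := by rw [← hτ]; group
        _ = z' * (z' * (z * (k * k'))) := by rw [← hc']; group
    have hz3t := f.p2 e hno hz't hz''t hne'' hcc
    have hz3e : z'' * (z' * t) = z * (k * k') * t := by
      calc z'' * (z' * t) = (z'' * z') * t := by group
        _ = z' * z' * (z * (k * k')) * t := by rw [hcc, hz''e]; group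
        _ = z * (k * k') * t := by rw [hzz', one_mul]
    rw [hz3e] at hz3t
    obtain ⟨J, hJm, hzJ⟩ := f.exists_zz e hz3t
    have hx1k : x₁ * k = k * x₁ := h.comm f₁.two f₁.m₁ f₁.m₃ f.n₁₃ f₁.x₁_mem hk
    have hx1k' : x₁ * k' = k' * x₁ := h.comm f₁.two f₁.m₁ hJ (Ne.symm hJ1) f₁.x₁_mem hk'm
    refine hno K₁ f.m₁.1 J hJm ?_ x₁ f.x₁_mem.1 (by rw [f.x₁_sq, f.z₁]) ?_
    · rw [hzJ, f.z₁]
      intro h1
      -- `k k' t = 1`
      have h2 : k * k' * t = 1 := by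
        have : z * (k * k' * t) = z * 1 := by rw [mul_one, ← mul_assoc, ← h1]
        exact mul_left_cancel this
      have h3 : k = t * k'⁻¹ := by
        have h4 : k * k' = t := by
          calc k * k' = k * k' * (t * t) := by rw [htt, mul_one]
            _ = k * k' * t * t := by group
            _ = t := by rw [h2, one_mul]
        rw [← h4, mul_inv_cancel_right]
      obtain ⟨q, hq, hqk⟩ := not_central h f₁.two f₁.m₃ hk (by rw [hkk, hz3])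
      apply hqk
      have a1 := f₁.comm_t e f₁.m₃ f.n₁₃.symm f.n₂₃.symm hq
      have a2 : q * k' = k' * q := h.comm f₁.two f₁.m₃ hJ (Ne.symm hK3) hq hk'm
      rw [h3]
      exact ((show Commute q t from a1).mul_right (show Commute q k' from a2).inv_right).eq
    · rw [hzJ]
      exact (((show Commute x₁ z from f.x₁z).mul_right ((show Commute x₁ k from hx1k).mul_right
        (show Commute x₁ k' from hx1k'))).mul_right (show Commute x₁ t from f.x₁t e)).eq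

end Fr

/-! ### All `t` degenerate -/

section Deg

variable [Finite G] {Om : Set (Subgroup G)} {z t : G}

open SameStar

/-- an element of a 2-group `P` which commutes with none of its other conjugates is central in `P` -/
theorem central_of_isolated {P : Subgroup G} (hP : IsPGroup 2 P) (hz : z ∈ P)
    (h1 : ∀ g ∈ P, g * z * g⁻¹ * z = z * (g * z * g⁻¹) → g * z * g⁻¹ = z) : ∀ r ∈ P, z * r = r * z := by
  haveI : Fact (Nat.Prime 2) := ⟨Nat.prime_two⟩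
  by_contra hcon
  push Not at hcon
  obtain ⟨r, hr, hrz⟩ := hcon
  haveI : Group.IsNilpotent P := hP.isNilpotent
  obtain ⟨C, hC⟩ : ∃ C : Subgroup P, C = centralizer {(⟨z, hz⟩ : P)} := ⟨_, rfl⟩
  have hlt : C < ⊤ := by
    rw [lt_top_iff_ne_top]
    intro h2
    have h3 : (⟨r, hr⟩ : P) ∈ C := by rw [h2]; exact mem_top _
    rw [hC, mem_centralizer_singleton_iff] at h3
    exact hrz (congrArg Subtype.val h3).symm
  have hN := Group.normalizerCondition_of_isNilpotent (G := P) C hlt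
  obtain ⟨g, hg, hgC⟩ := SetLike.exists_of_lt hN
  have hzC : (⟨z, hz⟩ : P) ∈ C := by rw [hC, mem_centralizer_singleton_iff]
  have h4 := (mem_normalizer_iff.1 hg _).1 hzC
  rw [hC, mem_centralizer_singleton_iff] at h4
  have h5 := h1 g g.2 (congrArg Subtype.val h4)
  apply hgC
  rw [hC, mem_centralizer_singleton_iff]
  exact Subtype.ext (mul_inv_eq_iff_eq_mul.1 h5)

/-- `t` is degenerate -/
def Deg (z t : G) : Prop := ∀ ζ, Zt z t ζ → ζ * z = z * ζ → ζ = z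

theorem star_of (h : Hyp Om) (hd : ∀ t, Tw Om z t → Deg z t) : Star Om z := by
  intro t ht R hR hRt hzR r hr
  have hzz := ht.zz_mul h
  have hzt : z * t = t * z := ht.comm.symm
  have hP : IsPGroup 2 (R ⊔ zpowers z : Subgroup G) :=
    hR.to_sup_of_normal_left' (isPGroup_of_sq hzz) (zpowers_le.2 hzR)
  have hPt : R ⊔ zpowers z ≤ centralizer {t} :=
    sup_le (fun x hx => mem_centralizer_singleton_iff.2 (hRt x hx))
      (zpowers_le.2 (mem_centralizer_singleton_iff.2 hzt))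
  exact central_of_isolated hP (mem_sup_right (mem_zpowers z)) (fun g hg hc =>
    hd t ht _ ⟨g, mem_centralizer_singleton_iff.1 (hPt hg), rfl⟩ hc) r (mem_sup_left hr)

/-- `t ∈ TT(z) ∩ C(z')` normalises the members over `z'` -/
theorem mem_normalizer_of_tw (e : EqZ Om) (hno : NoOne Om) {K L : Subgroup G} (hK : K ∈ Om) (hzK : zz K = z)
    (star : Star Om z) (ht : Tw Om z t) (hL : L ∈ Om) (hne : zz L ≠ z) (hc : z * zz L = zz L * z)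
    (htz : t * zz L = zz L * t) : t ∈ normalizer (L : Set G) := by
  have h := e.hyp
  rw [mem_normalizer_iff_cj]
  by_contra hmv
  have hzz := ht.zz_mul h
  have htt := ht.sq h
  have hzt : z * t = t * z := ht.comm.symm
  have hti : t⁻¹ = t := inv_eq_of_mul_eq_one_right htt
  have hzi : z⁻¹ = z := inv_eq_of_mul_eq_one_right hzz
  have hP : IsPGroup 2 (zpowers z ⊔ zpowers t : Subgroup G) :=
    OneF.exists_two_of_commute (isPGroup_of_sq hzz) (isPGroup_of_sq htt) hzt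
  have hPC : zpowers z ⊔ zpowers t ≤ centralizer {zz L} := by
    rw [sup_le_iff, zpowers_le, zpowers_le, mem_centralizer_singleton_iff, mem_centralizer_singleton_iff]
    exact ⟨hc, htz⟩
  obtain ⟨S, hS, hPS⟩ := Cit.exists_syl_ge hP hPC
  have hSp := hS.2.1
  have hzS : z ∈ S := hPS (mem_sup_left (mem_zpowers z))
  have htS : t ∈ S := hPS (mem_sup_right (mem_zpowers t))
  have hLS : L ∈ OmS Om S := h.mem_OmS_of_syl hL hS
  have hcS : ∀ g ∈ S, ∀ J ∈ OmS Om S, cj g J ∈ OmS Om S := fun g hg J hJ =>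
    cj_mem_OmS' h.conj (le_normalizer hg) hJ
  have hmS : ∀ g ∈ S, ∀ J : Subgroup G, ∀ q ∈ J ⊓ S, g * q * g⁻¹ ∈ cj g J ⊓ S := fun g hg J q hq =>
    ⟨conj_mem_cj hq.1, S.mul_mem (S.mul_mem hg hq.2) (S.inv_mem hg)⟩
  obtain ⟨J, hJ⟩ : ∃ J, J = cj t L := ⟨_, rfl⟩
  have hJS : J ∈ OmS Om S := by rw [hJ]; exact hcS t htS L hLS
  have hJne : J ≠ L := by rw [hJ]; exact hmv
  have htJ : cj t J = L := by rw [hJ, ← cj_mul, htt, cj_one]
  -- the elements `q q^t`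
  have hqt : ∀ q ∈ L ⊓ S, t * q * t⁻¹ ∈ J ⊓ S := fun q hq => by rw [hJ]; exact hmS t htS L q hq
  have hqq : ∀ q ∈ L ⊓ S, z * (q * (t * q * t⁻¹)) * z⁻¹ = q * (t * q * t⁻¹) := by
    intro q hq
    have h1 : q * (t * q * t⁻¹) = t * q * t⁻¹ * q := h.comm hSp hLS hJS hJne.symm hq (hqt q hq)
    have h2 : q * (t * q * t⁻¹) * t = t * (q * (t * q * t⁻¹)) := by
      rw [h1]
      calc t * q * t⁻¹ * q * t = t * (q * (t⁻¹ * q * t)) := by group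
        _ = t * (q * (t * q * t⁻¹)) := by rw [hti]
      rw [h1]
    rw [mul_inv_eq_iff_eq_mul]
    refine star t ht (S ⊓ centralizer {t}) (hSp.to_le inf_le_left)
      (fun r hr => mem_centralizer_singleton_iff.1 hr.2) (le_normalizer ⟨hzS, mem_centralizer_singleton_iff.2 hzt⟩)
      _ ⟨S.mul_mem hq.2 (hqt q hq).2, mem_centralizer_singleton_iff.2 h2⟩
  have hsplit : ∀ q, z * (q * (t * q * t⁻¹)) * z⁻¹ = (z * q * z⁻¹) * (z * (t * q * t⁻¹) * z⁻¹) := by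
    intro q; group
  -- no element of order four of `L ⊓ S` commutes with `z`
  have hnoz : ∀ q ∈ L ⊓ S, q * q = zz L → z * q * z⁻¹ ≠ q := by
    intro q hq hqq' h1
    refine hno L hL K hK (by rw [hzK]; exact hne) q hq.1 hqq' ?_
    rw [hzK]
    exact (mul_inv_eq_iff_eq_mul.1 h1).symm
  obtain ⟨c, v, n, hgq⟩ := h.exists_gq hL (syl_inf hSp hLS)
  have hzz' := h.zz_mul hL
  -- an automorphism `q ↦ q` or `q z'` fixes some element of order four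
  have hfix : ∀ g : G, (∀ q ∈ L ⊓ S, q⁻¹ * (g * q * g⁻¹) = 1 ∨ q⁻¹ * (g * q * g⁻¹) = zz L) →
      ∃ q ∈ L ⊓ S, orderOf q = 4 ∧ g * q * g⁻¹ = q := by
    intro g hg
    obtain ⟨q₁, hq₁, q₂, hq₂, h4₁, h4₂, h4₃, -⟩ := hgq.exists_pair
    rcases hg q₁ hq₁ with h1 | h1
    · exact ⟨q₁, hq₁, h4₁, (inv_mul_eq_one.1 h1).symm⟩
    rcases hg q₂ hq₂ with h2 | h2
    · exact ⟨q₂, hq₂, h4₂, (inv_mul_eq_one.1 h2).symm⟩
    refine ⟨q₁ * q₂, mul_mem hq₁ hq₂, h4₃, ?_⟩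
    rw [inv_mul_eq_iff_eq_mul] at h1 h2
    have h3 := mem_centralizer_singleton_iff.1 (h.le_centralizer hL hq₂.1)
    calc g * (q₁ * q₂) * g⁻¹ = (g * q₁ * g⁻¹) * (g * q₂ * g⁻¹) := by group
      _ = q₁ * zz L * (q₂ * zz L) := by rw [h1, h2]
      _ = q₁ * (zz L * q₂) * zz L := by group
      _ = q₁ * q₂ * (zz L * zz L) := by rw [← h3]; group
      _ = q₁ * q₂ := by rw [hzz', mul_one]
  by_cases hzL : cj z L = L
  · -- (ii)
    have hzJ : cj z J = J := by rw [hJ, ← cj_mul, hzt, cj_mul, hzL]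
    obtain ⟨q, hq, hq4, hqf⟩ := hfix z (by
      intro q hq
      have ha := hmS z hzS L q hq
      rw [hzL] at ha
      have hb := hmS z hzS J _ (hqt q hq)
      rw [hzJ] at hb
      refine mem_two h hSp hLS hJS hJne.symm (mul_mem (inv_mem hq) ha) ?_
      have h1 : q⁻¹ * (z * q * z⁻¹) = (t * q * t⁻¹) * (z * (t * q * t⁻¹) * z⁻¹)⁻¹ := by
        rw [inv_mul_eq_iff_eq_mul, ← mul_assoc q, eq_mul_inv_iff_mul_eq, ← hsplit, hqq q hq]
      rw [h1]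
      exact J.mul_mem (hqt q hq).1 (J.inv_mem hb.1))
    exact hnoz q hq (h.sq_eq_zz hL hq.1 hq4) hqf
  by_cases hzJ : cj z L = J
  · -- (iii)
    have hzJ' : cj z J = L := by rw [← hzJ, ← cj_mul, hzz, cj_one]
    obtain ⟨q, hq, hq4, hqf⟩ := hfix (z * t) (by
      intro q hq
      have ha := hmS z hzS L q hq
      rw [hzJ] at ha
      have hb := hmS z hzS J _ (hqt q hq)
      rw [hzJ'] at hb
      have hbe : z * t * q * (z * t)⁻¹ = z * (t * q * t⁻¹) * z⁻¹ := by group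
      rw [hbe]
      refine mem_two h hSp hLS hJS hJne.symm (mul_mem (inv_mem hq) hb) ?_
      have hab : (z * q * z⁻¹) * (z * (t * q * t⁻¹) * z⁻¹) = (z * (t * q * t⁻¹) * z⁻¹) * (z * q * z⁻¹) :=
        (h.comm hSp hLS hJS hJne.symm hb ha).symm
      have h1 : q⁻¹ * (z * (t * q * t⁻¹) * z⁻¹) = (t * q * t⁻¹) * (z * q * z⁻¹)⁻¹ := by
        rw [inv_mul_eq_iff_eq_mul, ← mul_assoc q, eq_mul_inv_iff_mul_eq, ← hab, ← hsplit, hqq q hq]
      rw [h1]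
      exact J.mul_mem (hqt q hq).1 (J.inv_mem ha.1))
    have hqt' : q * (t * z) = t * z * q := by
      rw [← hzt]
      exact (mul_inv_eq_iff_eq_mul.1 hqf).symm
    have hztz : z * (t * z) = t * z * z := by rw [← mul_assoc, hzt]
    have h3 := star (t * z) (ht.mul_z h) (S ⊓ centralizer {t * z}) (hSp.to_le inf_le_left)
      (fun r hr => mem_centralizer_singleton_iff.1 hr.2)
      (le_normalizer ⟨hzS, mem_centralizer_singleton_iff.2 hztz⟩) q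
      ⟨hq.2, mem_centralizer_singleton_iff.2 hqt'⟩
    exact hnoz q hq (h.sq_eq_zz hL hq.1 hq4) (mul_inv_eq_iff_eq_mul.2 h3)
  · -- (i)
    have hzJ' : cj z J ≠ L := by
      intro h1
      apply hzJ
      rw [← h1, ← cj_mul, hzz, cj_one]
    obtain ⟨q, hq, hq4⟩ := h.exists_four hSp hLS
    obtain ⟨p, hp, hpq⟩ := not_central h hSp hLS hq (h.sq_eq_zz hL hq.1 hq4)
    apply hpq
    have ha := hmS z hzS L q hq
    have hb := hmS z hzS J _ (hqt q hq)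
    have a1 : Commute p (z * q * z⁻¹) := h.comm hSp hLS (hcS z hzS L hLS) (Ne.symm hzL) hp ha
    have a2 : Commute p (z * (t * q * t⁻¹) * z⁻¹) := h.comm hSp hLS (hcS z hzS J hJS) (Ne.symm hzJ') hp hb
    have a3 : Commute p (t * q * t⁻¹) := h.comm hSp hLS hJS hJne.symm hp (hqt q hq)
    have h1 : q = (z * q * z⁻¹) * (z * (t * q * t⁻¹) * z⁻¹) * (t * q * t⁻¹)⁻¹ := by
      rw [← hsplit, hqq q hq, mul_inv_cancel_right]
    rw [h1]
    exact ((a1.mul_right a2).mul_right a3.inv_right).eq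

/-- three members over `z` -/
theorem exists_third {K₁ K₂ K₃ K L : Subgroup G} (h12 : K₁ ≠ K₂) (h13 : K₁ ≠ K₃) (h23 : K₂ ≠ K₃) :
    ∃ J, (J = K₁ ∨ J = K₂ ∨ J = K₃) ∧ K ≠ J ∧ L ≠ J := by
  by_contra hcon
  push Not at hcon
  have a1 := hcon K₁ (Or.inl rfl)
  have a2 := hcon K₂ (Or.inr (Or.inl rfl))
  have a3 := hcon K₃ (Or.inr (Or.inr rfl))
  by_cases b1 : K = K₁
  · have b2 := a2 (fun h => h12 (b1 ▸ h))
    have b3 := a3 (fun h => h13 (b1 ▸ h))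
    exact h23 (b2 ▸ b3)
  · have b1' := a1 b1
    by_cases b2 : K = K₂
    · have b3 := a3 (fun h => h23 (b2 ▸ h))
      exact h13 (b1' ▸ b3)
    · have b2' := a2 b2
      exact h12 (b1' ▸ b2')

theorem exists_fr_of_tw (e : EqZ Om) {K₁ K₂ K₃ : Subgroup G} (hK₁ : K₁ ∈ Om) (hK₂ : K₂ ∈ Om) (hK₃ : K₃ ∈ Om)
    (hz₁ : zz K₁ = z) (hz₂ : zz K₂ = z) (hz₃ : zz K₃ = z) (h12 : K₁ ≠ K₂) (h13 : K₁ ≠ K₃) (h23 : K₂ ≠ K₃)
    (ht : Tw Om z t) : ∃ T K L J x y, Fr Om z t T K L J x y := by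
  have h := e.hyp
  obtain ⟨S, K, L, hS, hK, hL, hne, hzK, hzL, x, hx, y, hy, hxx, hyy, rfl⟩ := ht
  have hSz : S ≤ centralizer {z} := fun g hg => by
    rw [mem_centralizer_singleton_iff, ← hzK]; exact e.comm_zz hS hK hg
  obtain ⟨T, hT, hST⟩ := Cit.exists_syl_ge hS hSz
  obtain ⟨J, hJ, hKJ, hLJ⟩ := exists_third (K := K) (L := L) h12 h13 h23
  have hJm : J ∈ Om ∧ zz J = z := by
    rcases hJ with rfl | rfl | rfl
    · exact ⟨hK₁, hz₁⟩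
    · exact ⟨hK₂, hz₂⟩
    · exact ⟨hK₃, hz₃⟩
  refine ⟨T, K, L, J, x, y, hT.2.1, OmS_mono hST hK, OmS_mono hST hL,
    h.mem_OmS_of_syl hJm.1 (by rw [hJm.2]; exact hT), hne, hKJ, hLJ, hzK, ⟨hx.1, hST hx.2⟩, ⟨hy.1, hST hy.2⟩,
    hxx, hyy, rfl⟩

/-- **existence of a commuting pair of type I** -/
theorem not_noOne (e : EqZ Om) {K₁ K₂ K₃ L : Subgroup G} (hK₁ : K₁ ∈ Om) (hK₂ : K₂ ∈ Om) (hK₃ : K₃ ∈ Om)
    (hz₁ : zz K₁ = z) (hz₂ : zz K₂ = z) (hz₃ : zz K₃ = z) (h12 : K₁ ≠ K₂) (h13 : K₁ ≠ K₃) (h23 : K₂ ≠ K₃)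
    (hL : L ∈ Om) (hne : zz L ≠ z) (hc : z * zz L = zz L * z) : ¬ NoOne Om := by
  intro hno
  have hd : ∀ t, Tw Om z t → Deg z t := by
    intro t ht ζ hζ hζz
    by_contra hζne
    obtain ⟨T, K, L, J, x, y, f⟩ := exists_fr_of_tw e hK₁ hK₂ hK₃ hz₁ hz₂ hz₃ h12 h13 h23 ht
    exact f.false_of_nondeg e hno hζ hζne hζz
  have star := star_of e.hyp hd
  exact false_of_star e.hyp (fun P hP K hK L hL => e.eq_zz hP hK hL) hK₁ hK₂ hK₃ hz₁ hz₂ hz₃ h12 h13 h23 star hL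
    hne hc fun t₁ t₂ a1 a2 _ _ b1 b2 => ⟨L, hL, rfl, mem_normalizer_of_tw e hno hK₁ hz₁ star a1 hL hne hc b1,
      mem_normalizer_of_tw e hno hK₁ hz₁ star a2 hL hne hc b2⟩

theorem exists_typeOne (e : EqZ Om) {K₁ K₂ K₃ L : Subgroup G} (hK₁ : K₁ ∈ Om) (hK₂ : K₂ ∈ Om) (hK₃ : K₃ ∈ Om)
    (hz₁ : zz K₁ = z) (hz₂ : zz K₂ = z) (hz₃ : zz K₃ = z) (h12 : K₁ ≠ K₂) (h13 : K₁ ≠ K₃) (h23 : K₂ ≠ K₃)
    (hL : L ∈ Om) (hne : zz L ≠ z) (hc : z * zz L = zz L * z) :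
    ∃ K ∈ Om, ∃ L ∈ Om, zz K ≠ zz L ∧ TypeOne Om (zz K) (zz L) := by
  have h1 := not_noOne e hK₁ hK₂ hK₃ hz₁ hz₂ hz₃ h12 h13 h23 hL hne hc
  unfold NoOne at h1
  push Not at h1
  obtain ⟨K, hK, L, hL, hne, x, hx, hxx, hxz⟩ := h1
  exact ⟨L, hL, K, hK, hne.symm, K, hK, rfl, x, hx, hxx, hxz⟩

end Deg

end Cfsg.Agent.Cit.EqExist
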