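import Cfsg.Agent.Cit.EqTwo

/-!
# All involutions `z_K`, `K ∈ Om(S)`, equal, `|Om(S)| = 2`, the products of elements of order four are of the form `z_J`

helper980's THEOREM GEN2: structure `EqTT Om` ; LEMMA C1 for `n = 2` (`EqTT.exists_prod`: if `z`, `z'` is a commuting pair
of type I then `z' = w₀ w₁` with `wᵢ ∈ Kᵢ ⊓ S` of order four), hence `VGood`, hence (with S1175 and Bender's theorem) a
subgroup `M` with `Big Om M` is the whole group: `Big.eq_top_of_tt`.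
-/

set_option autoImplicit false
set_option linter.style.haveILetI false
set_option linter.unusedSectionVars false

namespace Cfsg.Agent.Cit.EqClose

open Subgroup Cfsg

variable {G : Type*} [Group G]

/-- `EqZ`, `|Om(S)| = 2` and the products `x y`, `x ∈ K ⊓ S`, `y ∈ L ⊓ S` of order four, are involutions `z_J` -/
structure EqTT (Om : Set (Subgroup G)) : Prop extends EqZ Om where
  card : ∀ S : Sylow 2 G, (OmS Om (S : Subgroup G)).ncard = 2
  tt : ∀ S : Sylow 2 G, ∀ K ∈ OmS Om (S : Subgroup G), ∀ L ∈ OmS Om (S : Subgroup G), K ≠ L →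
    ∀ x ∈ K ⊓ (S : Subgroup G), ∀ y ∈ L ⊓ (S : Subgroup G), orderOf x = 4 → orderOf y = 4 → ∃ J ∈ Om, zz J = x * y

namespace EqTT

variable [Finite G] {Om : Set (Subgroup G)}

theorem fin2 {P : Fin 2 → Prop} (h0 : P 0) (h1 : P 1) (i : Fin 2) : P i := by
  fin_cases i
  · exact h0
  · exact h1

/-- enumeration of `Om(S)` -/
theorem exists_enum (e : EqTT Om) (S : Sylow 2 G) : ∃ K : Fin 2 → Subgroup G, Function.Injective K ∧
    (∀ i, K i ∈ OmS Om (S : Subgroup G)) ∧ ∀ L ∈ OmS Om (S : Subgroup G), ∃ i, K i = L := by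
  have h1 : Nat.card (OmS Om (S : Subgroup G)) = 2 := by
    rw [Nat.card_coe_set_eq]; exact e.card S
  have f := Finite.equivFinOfCardEq h1
  refine ⟨fun i => (f.symm i : Subgroup G), fun i j hij => f.symm.injective (Subtype.ext hij),
    fun i => (f.symm i).2, fun L hL => ⟨f ⟨L, hL⟩, by simp⟩⟩

/-- **special Sylow subgroups** : `z' = w₀w₁` -/
theorem special (e : EqTT Om) (hI : Inner Om) {K' : Subgroup G} (hK' : K' ∈ Om) (T : Sylow 2 G)
    {K : Fin 2 → Subgroup G} (hinj : Function.Injective K) (hK : ∀ i, K i ∈ OmS Om (T : Subgroup G))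
    (hne : zz (K 0) ≠ zz K') (hc : zz (K 0) * zz K' = zz K' * zz (K 0)) {U : Subgroup G}
    (hU : Syl U (centralizer {zz (K 0)} ⊓ centralizer {zz K'})) (hUT : U ≤ T)
    {y : G} (hy : y ∈ K') (hyy : y * y = zz K') (hyz : y * zz (K 0) = zz (K 0) * y) :
    ∃ w : Fin 2 → G, (∀ i, w i ∈ K i ⊓ (T : Subgroup G)) ∧ (∀ i, w i * w i = zz (K 0)) ∧
      (∀ i, w i * zz K' = zz K' * w i) ∧ zz K' = w 0 * w 1 := by
  haveI : Fact (Nat.Prime 2) := ⟨Nat.prime_two⟩
  have h := e.hyp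
  obtain ⟨z, hz⟩ : ∃ z, z = zz (K 0) := ⟨_, rfl⟩
  obtain ⟨z', hz'⟩ : ∃ z', z' = zz K' := ⟨_, rfl⟩
  have hzi : ∀ i, zz (K i) = z := fun i => by rw [hz]; exact e.eqz T _ (hK i) _ (hK 0)
  have hzz : z * z = 1 := by rw [hz]; exact h.zz_mul (hK 0).1
  have hzz' : z' * z' = 1 := by rw [hz']; exact h.zz_mul hK'
  rw [← hz, ← hz'] at hne hc hU
  rw [← hz] at hyz
  rw [← hz'] at hyy
  rw [← hz, ← hz']
  obtain ⟨T', hUT', hT'C, hK'T⟩ := e.exists_sylow_ge hK' hU.2.1 (hU.1.trans (by rw [hz']; exact inf_le_right))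
  have memU : ∀ x ∈ (T : Subgroup G), x * z = z * x → x * z' = z' * x → x ∈ U := by
    intro x hx h1 h2
    have h3 : U = (T : Subgroup G) ⊓ (centralizer {z} ⊓ centralizer {z'}) :=
      hU.eq_of_le (le_inf hUT hU.1) inf_le_right (T.isPGroup'.to_le inf_le_left)
    rw [h3]
    exact ⟨hx, mem_centralizer_singleton_iff.2 h1, mem_centralizer_singleton_iff.2 h2⟩
  have memU' : ∀ x ∈ (T' : Subgroup G), x * z = z * x → x * z' = z' * x → x ∈ U := by
    intro x hx h1 h2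
    have h3 : U = (T' : Subgroup G) ⊓ (centralizer {z} ⊓ centralizer {z'}) :=
      hU.eq_of_le (le_inf hUT' hU.1) inf_le_right (T'.isPGroup'.to_le inf_le_left)
    rw [h3]
    exact ⟨hx, mem_centralizer_singleton_iff.2 h1, mem_centralizer_singleton_iff.2 h2⟩
  -- coordinates in `K i`
  have hI1 : ∀ i, ∃ c v n, GQ (K i ⊓ (T : Subgroup G)) c v z n ∧ z' * c = c * z' ∧ z' * v * z'⁻¹ = v * z := by
    intro i
    have h1 := hI (K i) (hK i).1 K' hK' (by rw [hzi, ← hz']; exact hne) (by rw [hzi, ← hz']; exact hc) y hy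
      (by rw [← hz']; exact hyy) (by rw [hzi]; exact hyz) U (by rw [hzi, ← hz']; exact hU) T hUT (hK i)
    rwa [hzi, ← hz'] at h1
  choose c v n hg hcz hvz using hI1
  obtain ⟨w, hw⟩ : ∃ w : Fin 2 → G, w = fun i => c i ^ 2 ^ n i := ⟨_, rfl⟩
  have hwi : ∀ i, w i = c i ^ 2 ^ n i := fun i => by rw [hw]
  have hwK : ∀ i, w i ∈ K i ⊓ (T : Subgroup G) := fun i => by rw [hwi]; exact pow_mem (hg i).c_mem _
  have hwz : ∀ i, w i * w i = z := fun i => by rw [hwi]; exact (hg i).w_sq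
  have hw4 : ∀ i, orderOf (w i) = 4 := fun i => by rw [hwi]; exact (hg i).orderOf_w
  have hwz' : ∀ i, w i * z' = z' * w i := fun i => by
    rw [hwi]; exact ((show Commute z' (c i) from hcz i).pow_right _).symm.eq
  -- exchange of the roles
  obtain ⟨c', v', n', hg', hc'z, hv'z⟩ : ∃ c v n, GQ (K' ⊓ (T' : Subgroup G)) c v z' n ∧ z * c = c * z ∧
      z * v * z⁻¹ = v * z' := by
    have h1 := hI K' hK' (K 0) (hK 0).1 (by rw [← hz, ← hz']; exact hne.symm) (by rw [← hz, ← hz']; exact hc.symm)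
      (w 0) (hwK 0).1 (by rw [← hz]; exact hwz 0) (by rw [← hz']; exact hwz' 0) U
      (by rw [← hz, ← hz', inf_comm]; exact hU) T' hUT' hK'T
    rwa [← hz, ← hz'] at h1
  have hKz : ∀ i, ∀ x ∈ K i, x * z = z * x := fun i x hx => by
    rw [← hzi i]; exact mem_centralizer_singleton_iff.1 (h.le_centralizer (hK i).1 hx)
  have hK'z : ∀ x ∈ K', x * z' = z' * x := fun x hx => by
    rw [hz']; exact mem_centralizer_singleton_iff.1 (h.le_centralizer hK' hx)
  have hcU : ∀ i, c i ∈ U := fun i => memU _ (hg i).c_mem.2 (hKz i _ (hg i).c_mem.1) (hcz i).symm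
  have hc'U : c' ∈ U := memU' _ hg'.c_mem.2 hc'z.symm (hK'z _ hg'.c_mem.1)
  have ord4 : ∀ {Q : Subgroup G} {c v z : G} {n : ℕ}, GQ Q c v z n → 4 ≤ orderOf c := by
    intro Q c v z n hq
    rw [hq.ord]
    calc 4 = 2 ^ 2 := rfl
      _ ≤ 2 ^ (n + 2) := Nat.pow_le_pow_right (by norm_num) (by omega)
  have hcK' : ∀ i, c i ∈ normalizer (K' : Set G) := fun i =>
    h.norm_four T.isPGroup' (hK i).1 hK' (hg i).c_mem.1 (hg i).c_mem.2 (ord4 (hg i)) (by
      rw [← hz']; exact (hcz i).symm)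
  have hc'K : ∀ i, c' ∈ normalizer (K i : Set G) := fun i =>
    h.norm_four T'.isPGroup' hK' (hK i).1 hg'.c_mem.1 hg'.c_mem.2 (ord4 hg') (by
      rw [hzi]; exact hc'z.symm)
  have norm_inf : ∀ (A B : Subgroup G) (x : G), x ∈ normalizer (A : Set G) → x ∈ B →
      x ∈ normalizer ((A ⊓ B : Subgroup G) : Set G) := by
    intro A B x h1 h2
    rw [mem_normalizer_iff_cj, cj_inf, mem_normalizer_iff_cj.1 h1, mem_normalizer_iff_cj.1 (le_normalizer h2)]
  -- `c i` and `c'` commute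
  have hcc : ∀ i, c i * c' = c' * c i := by
    intro i
    have h1 : c i * c' * (c i)⁻¹ ∈ zpowers c' := by
      refine mem_zpowers_of_comm hg' hc'z hv'z
        ((mem_normalizer_iff.1 (norm_inf _ _ _ (hcK' i) (hUT' (hcU i))) c').1 hg'.c_mem) ?_
      have a1 := hKz i _ (hg i).c_mem.1
      calc c i * c' * (c i)⁻¹ * z = c i * c' * ((c i)⁻¹ * z * c i) * (c i)⁻¹ := by group
        _ = c i * c' * z * (c i)⁻¹ := by rw [mul_assoc (c i)⁻¹ z, ← a1]; group
        _ = c i * z * c' * (c i)⁻¹ := by rw [mul_assoc (c i), ← hc'z]; group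
        _ = z * (c i * c' * (c i)⁻¹) := by rw [a1]; group
    have h2 : c' * c i * c'⁻¹ ∈ zpowers (c i) := by
      refine mem_zpowers_of_comm (hg i) (hcz i) (hvz i)
        ((mem_normalizer_iff.1 (norm_inf _ _ _ (hc'K i) (hUT hc'U)) (c i)).1 (hg i).c_mem) ?_
      have a1 := hK'z _ hg'.c_mem.1
      calc c' * c i * c'⁻¹ * z' = c' * c i * (c'⁻¹ * z' * c') * c'⁻¹ := by group
        _ = c' * c i * z' * c'⁻¹ := by rw [mul_assoc c'⁻¹ z', ← a1]; group
        _ = c' * z' * c i * c'⁻¹ := by rw [mul_assoc c', ← hcz i]; group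
        _ = z' * (c' * c i * c'⁻¹) := by rw [a1]; group
    have h3 : c i * c' * (c i)⁻¹ * c'⁻¹ = 1 := by
      refine eq_one_of_mem_mem h T.isPGroup' (hK i) hK' (by rw [hzi, ← hz']; exact hne)
        (g := c i * c' * (c i)⁻¹ * c'⁻¹) ?_ ?_ ?_
      · have a : c i * c' * (c i)⁻¹ * c'⁻¹ = c i * (c' * c i * c'⁻¹)⁻¹ := by group
        rw [a]
        exact (K i).mul_mem (hg i).c_mem.1 ((K i).inv_mem ((zpowers_le.2 (hg i).c_mem.1) h2))
      · exact mul_mem (mul_mem (mul_mem (hUT (hcU i)) (hUT hc'U)) (inv_mem (hUT (hcU i)))) (inv_mem (hUT hc'U))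
      · exact K'.mul_mem ((zpowers_le.2 hg'.c_mem.1) h1) (K'.inv_mem hg'.c_mem.1)
    rw [mul_inv_eq_one, mul_inv_eq_iff_eq_mul] at h3
    exact h3
  have hwc' : ∀ i, w i * c' = c' * w i := fun i => by
    rw [hwi]; exact ((show Commute c' (c i) from (hcc i).symm).pow_right _).symm.eq
  -- the action of `w i`
  have hact : ∀ i, ∃ j : ℕ, w i * v' * (w i)⁻¹ = v' * c' ^ j ∧ c' ^ j * c' ^ j = z' := by
    intro i
    refine exists_act_four hg' hc'z hv'z (hwz i) ?_ (hwc' i)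
    refine norm_inf _ _ _ ?_ (hUT' ?_)
    · rw [hwi]; exact pow_mem (hcK' i) _
    · rw [hwi]; exact pow_mem (hcU i) _
  choose j hj hjj using hact
  obtain ⟨s, hs⟩ : ∃ s, s = w 0 * w 1 := ⟨_, rfl⟩
  have hsc : s * c' = c' * s := by
    have a := fun i => (show Commute (w i) c' from hwc' i)
    rw [hs]
    exact (a 0).mul_left (a 1)
  have hsv : s * v' * s⁻¹ = v' * c' ^ (j 0 + j 1) := by
    have a := fun i => (show Commute (w i) c' from hwc' i)
    rw [hs]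
    exact act_mul (a 0).eq (hj 0) (hj 1)
  have hD2 : c' ^ (j 0 + j 1) * c' ^ (j 0 + j 1) = 1 := by
    have a : c' ^ (j 0 + j 1) * c' ^ (j 0 + j 1) =
        (c' ^ j 0 * c' ^ j 0) * (c' ^ j 1 * c' ^ j 1) := by
      simp only [← pow_add]
      congr 1
      ring
    rw [a, hjj, hjj, hzz']
  have hsz : s * z = z * s := by
    rw [hs]
    have a := fun i => (show Commute (w i) z from hKz i _ (hwK i).1)
    exact (a 0).mul_left (a 1)
  have hsz' : s * z' = z' * s := by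
    rw [hs]
    have a := fun i => (show Commute (w i) z' from hwz' i)
    exact (a 0).mul_left (a 1)
  have hwinv : (w 0)⁻¹ = z * w 0 := by
    rw [inv_eq_iff_mul_eq_one, ← mul_assoc, hKz 0 _ (hwK 0).1, mul_assoc, hwz, hzz]
  have h01 : K 0 ≠ K 1 := fun h1 => absurd (hinj h1) (by decide)
  have main : ∀ x : Fin 2 → G, (∀ i, x i ∈ K i ⊓ (T : Subgroup G)) → (∀ i, orderOf (x i) = 4) →
      (∀ q ∈ K' ⊓ (T' : Subgroup G), q * (x 0 * x 1) = (x 0 * x 1) * q) →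
      z' = x 0 * x 1 := by
    intro x h1 h2 h3
    obtain ⟨L, hL, hLs⟩ := e.tt T _ (hK 0) _ (hK 1) h01 _ (h1 0) _ (h1 1) (h2 0) (h2 1)
    rw [hz', ← hLs]
    exact e.zz_eq_of_cent hK' hL (syl_inf T'.isPGroup' hK'T) (by rw [hLs]; exact h3)
  by_cases hD : c' ^ (j 0 + j 1) = 1
  · refine ⟨w, hwK, hwz, hwz', main w hwK hw4 ?_⟩
    rw [← hs]
    rw [hD, mul_one] at hsv
    exact comm_of_gq hg' hsc (mul_inv_eq_iff_eq_mul.1 hsv)
  · have hDz : c' ^ (j 0 + j 1) = z' := hg'.eq_z (pow_mem hg'.c_mem _) hD2 hD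
    rw [hDz] at hsv
    obtain ⟨x, hx⟩ : ∃ x : Fin 2 → G, x = ![(w 0)⁻¹, w 1] := ⟨_, rfl⟩
    have hx0 : x 0 = (w 0)⁻¹ := by rw [hx]; rfl
    have hx1 : x 1 = w 1 := by rw [hx]; rfl
    have hprod : x 0 * x 1 = z * s := by
      rw [hx0, hx1, hwinv, hs]; group
    have hxK : ∀ i, x i ∈ K i ⊓ (T : Subgroup G) := by
      refine fin2 ?_ ?_
      · rw [hx0]; exact inv_mem (hwK 0)
      · rw [hx1]; exact hwK 1
    have hxz : ∀ i, x i * x i = z := by
      refine fin2 ?_ ?_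
      · rw [hx0]
        calc (w 0)⁻¹ * (w 0)⁻¹ = (w 0 * w 0)⁻¹ := by group
          _ = z := by rw [hwz]; exact inv_eq_of_mul_eq_one_right hzz
      · rw [hx1]; exact hwz 1
    have hxz' : ∀ i, x i * z' = z' * x i := by
      refine fin2 ?_ ?_
      · rw [hx0]; exact (show Commute (w 0) z' from hwz' 0).inv_left.eq
      · rw [hx1]; exact hwz' 1
    have hx4 : ∀ i, orderOf (x i) = 4 := fun i =>
      GQ.orderOf_of_sq (hxz i) hzz (by rw [hz]; exact h.zz_ne (hK 0).1)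
    refine ⟨x, hxK, hxz, hxz', main x hxK hx4 ?_⟩
    rw [hprod]
    refine comm_of_gq hg' ?_ ?_
    · exact ((show Commute z c' from hc'z).mul_left (show Commute s c' from hsc)).eq
    · have h1 : (z * s) * v' * (z * s)⁻¹ = v' := by
        calc (z * s) * v' * (z * s)⁻¹ = (s * z) * v' * (s * z)⁻¹ := by rw [hsz]
          _ = s * (z * v' * z⁻¹) * s⁻¹ := by group
          _ = (s * v' * s⁻¹) * (s * z' * s⁻¹) := by rw [hv'z]; group
          _ = v' * z' * z' := by rw [hsv, hsz', mul_inv_cancel_right]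
          _ = v' := by rw [mul_assoc, hzz', mul_one]
      exact mul_inv_eq_iff_eq_mul.1 h1

/-- factorisation of `z' = w₀ w₁` -/
theorem factor {w : Fin 2 → G} {z' : G} (hz : z' = w 0 * w 1)
    (hc : ∀ i j, w i * w j = w j * w i) (i : Fin 2) :
    ∃ r, z' = w i * r ∧ ∀ v : G, (∀ j, j ≠ i → w j * v = v * w j) → r * v = v * r := by
  revert i
  refine fin2 ?_ ?_
  · exact ⟨w 1, hz, fun v hv => hv 1 (by decide)⟩
  · exact ⟨w 0, by rw [hz]; exact hc 0 1, fun v hv => hv 0 (by decide)⟩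

/-- **LEMMA C1** : in a commuting pair of type I, `z' = w₀w₁` with `wᵢ ∈ Kᵢ ⊓ S` of order four, for every Sylow
2-subgroup `S` containing `z'` with `K ∈ Om(S)` -/
theorem exists_prod (e : EqTT Om) (hI : Inner Om) {K' : Subgroup G} (hK' : K' ∈ Om) (S : Sylow 2 G)
    {K : Fin 2 → Subgroup G} (hinj : Function.Injective K) (hK : ∀ i, K i ∈ OmS Om (S : Subgroup G))
    (hne : zz (K 0) ≠ zz K') (hz'S : zz K' ∈ (S : Subgroup G))
    {y : G} (hy : y ∈ K') (hyy : y * y = zz K') (hyz : y * zz (K 0) = zz (K 0) * y) :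
    ∃ w : Fin 2 → G, (∀ i, w i ∈ K i ⊓ (S : Subgroup G)) ∧ (∀ i, w i * w i = zz (K 0)) ∧
      zz K' = w 0 * w 1 := by
  haveI : Fact (Nat.Prime 2) := ⟨Nat.prime_two⟩
  have h := e.hyp
  have hc : zz (K 0) * zz K' = zz K' * zz (K 0) := (e.comm_zz S.isPGroup' (hK 0) hz'S).symm
  have hSz : (S : Subgroup G) ≤ centralizer {zz (K 0)} :=
    le_normalizer.trans (e.normalizer_le S.isPGroup' (hK 0))
  obtain ⟨U, hU, hSU⟩ := Cit.exists_syl_ge (P := (S : Subgroup G) ⊓ centralizer {zz K'})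
    (C := centralizer {zz (K 0)} ⊓ centralizer {zz K'}) (S.isPGroup'.to_le inf_le_left) (inf_le_inf_right _ hSz)
  obtain ⟨T, hUT, hTC, hKT⟩ := e.exists_sylow_ge (hK 0).1 hU.2.1 (hU.1.trans inf_le_left)
  have hKiz : ∀ i, zz (K i) = zz (K 0) := fun i => e.eqz S _ (hK i) _ (hK 0)
  have hKT' : ∀ i, K i ∈ OmS Om (T : Subgroup G) := fun i => (e.mem_OmS_iff T hKT).2 ⟨(hK i).1, hKiz i⟩
  obtain ⟨w, hwK, hww, hwz, hprod⟩ := e.special hI hK' T hinj hKT' hne hc hU hUT hy hyy hyz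
  have hz'T : zz K' ∈ (T : Subgroup G) := by
    rw [hprod]
    exact mul_mem (hwK 0).2 (hwK 1).2
  have hw4 : ∀ i, orderOf (w i) = 4 := fun i =>
    GQ.orderOf_of_sq (hww i) (h.zz_mul (hK 0).1) (h.zz_ne (hK 0).1)
  have hcomm : ∀ i j, i ≠ j → ∀ v ∈ K i ⊓ (T : Subgroup G), w j * v = v * w j := fun i j hij v hv =>
    h.comm T.isPGroup' (hKT' j) (hKT' i) (fun h1 => hij (hinj h1).symm) (hwK j) hv
  have hwc : ∀ i j, w i * w j = w j * w i := by
    intro i j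
    by_cases hij : j = i
    · rw [hij]
    · exact hcomm j i hij _ (hwK j)
  have hz'D : zz K' ∈ DD Om (T : Subgroup G) := by
    rw [hprod]
    exact mul_mem (inf_le_DD (hKT' 0) (hwK 0)) (inf_le_DD (hKT' 1) (hwK 1))
  refine ⟨w, fun i => ⟨(hwK i).1, ?_⟩, hww, hprod⟩
  obtain ⟨r, hr, hrc⟩ := factor hprod hwc i
  have hrv : ∀ v ∈ K i ⊓ (T : Subgroup G), r * v = v * r := fun v hv =>
    hrc v (fun j hj => hcomm i j (Ne.symm hj) v hv)
  obtain ⟨x, hx, hxx, hxz⟩ := EqFour.transfer h (hK i).1 S.isPGroup' T.isPGroup' (syl_inf S.isPGroup' (hK i))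
    (syl_inf T.isPGroup' (hKT' i)) hz'S hz'T (h.DD_le_normalizer T.isPGroup' (hKT' i) hz'D) hr (hwK i)
    (by rw [hww, hKiz i]) hrv (h.zz_mul hK')
  have hxU : x ∈ U := hSU ⟨hx.2, mem_centralizer_singleton_iff.2 hxz⟩
  have hxT : x ∈ K i ⊓ (T : Subgroup G) := ⟨hx.1, hUT hxU⟩
  have hxw : x * w i = w i * x := by
    have h1 : x * w i * r = w i * x * r := by
      calc x * w i * r = x * zz K' := by rw [hr]; group
        _ = w i * (r * x) := by rw [hxz, hr]; group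
        _ = w i * x * r := by rw [hrv x hxT]; group
    exact mul_right_cancel h1
  obtain ⟨c, v, n, hg⟩ := h.exists_gq (hK i).1 (syl_inf T.isPGroup' (hKT' i))
  have hx4 : orderOf x = 4 := GQ.orderOf_of_sq hxx (h.zz_mul (hK i).1) (h.zz_ne (hK i).1)
  rcases hg.comm_four hxT (hwK i) hx4 (hw4 i) hxw with h1 | h1
  · rw [← h1]; exact hx.2
  · have h2 : w i = x⁻¹ := by rw [h1, inv_inv]
    rw [h2]; exact (S : Subgroup G).inv_mem hx.2

end EqTT

namespace Big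

variable [Finite G] {Om : Set (Subgroup G)} {M : Subgroup G}

/-- the elements `t z_L` are good -/
theorem vgood_of_tt (e : EqTT Om) (hI : Inner Om) (b : Big Om M) : VGood Om M := by
  intro S hSM K hK K' hK' hne x hx y hy hx4 hy4 L hL Q hQ hQc hxy
  have h := e.hyp
  obtain ⟨J, hJ, hJt⟩ := e.tt S K hK K' hK' hne x hx y hy hx4 hy4
  rw [← hJt] at hQc hxy ⊢
  have hJM : zz J ∈ M := by
    rw [hJt]
    exact M.mul_mem (hSM hx.2) (hSM hy.2)
  have hCJ := b.centralizer_le e.toEqZ hJ hJM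
  -- an element of order four of `Q`
  obtain ⟨c, v, n, hg⟩ := h.exists_gq hL hQ
  have hwQ : c ^ 2 ^ n ∈ Q := pow_mem hg.c_mem _
  have hww : c ^ 2 ^ n * c ^ 2 ^ n = zz L := hg.w_sq
  have hwJ := hQc _ hwQ
  have hLJ : zz L * zz J = zz J * zz L := by
    rw [← hww, mul_assoc, hwJ, ← mul_assoc, hwJ, mul_assoc]
  have hLM : zz L ∈ M := by
    rw [← hww]
    exact M.mul_mem (hCJ (mem_centralizer_singleton_iff.2 hwJ)) (hCJ (mem_centralizer_singleton_iff.2 hwJ))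
  obtain ⟨S2, hLS, hSC, hJS⟩ := e.exists_sylow_ge (R := zpowers (zz L)) hJ (CloEnd.isPGroup_zpowers (h.zz_mul hL))
    (zpowers_le.2 (mem_centralizer_singleton_iff.2 hLJ))
  obtain ⟨K1, hinj, hK1, -⟩ := e.exists_enum S2
  have h0 : zz (K1 0) = zz J := e.eqz S2 _ (hK1 0) _ hJS
  obtain ⟨w, hw, hwz, hp⟩ := e.exists_prod hI hL S2 hinj hK1 (by rw [h0]; exact hxy) (hLS (mem_zpowers _)) (hQ.1 hwQ)
    hww (by rw [h0]; exact hwJ)
  have hzz : zz J * zz J = 1 := h.zz_mul hJ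
  have h01 : K1 0 ≠ K1 1 := fun h1 => absurd (hinj h1) (by decide)
  have hw4 : ∀ i, orderOf (w i) = 4 := fun i =>
    GQ.orderOf_of_sq (hwz i) (by rw [h0]; exact hzz) (h.zz_ne (hK1 0).1)
  obtain ⟨J2, hJ2, hJ2e⟩ := e.tt S2 _ (hK1 0) _ (hK1 1) h01 (w 0)⁻¹ (inv_mem (hw 0)) (w 1) (hw 1)
    (by rw [orderOf_inv]; exact hw4 0) (hw4 1)
  have hinv : (w 0)⁻¹ = zz J * w 0 := by
    rw [inv_eq_iff_mul_eq_one, ← h0, ← hwz 0]
    have h2 : w 0 * w 0 * (w 0 * w 0) = 1 := by rw [hwz 0, h0]; exact hzz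
    calc w 0 * (w 0 * w 0 * w 0) = w 0 * w 0 * (w 0 * w 0) := by group
      _ = 1 := h2
  have hfin : zz J * zz L = zz J2 := by
    rw [hJ2e, hinv, hp]; group
  rw [hfin]
  exact b.centralizer_le e.toEqZ hJ2 (by rw [← hfin]; exact M.mul_mem hJM hLM)

/-- **GEN2** -/
theorem eq_top_of_tt (e : EqTT Om) (hI : Inner Om) (b : Big Om M) (hB : CloEnd.Bend G) (hC : CloEnd.Crit1175 G) :
    M = ⊤ := by
  by_contra hM
  exact b.false_of_big_two e.toEqZ e.card (b.vgood_of_tt e hI) hM hB hC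

end Big

end Cfsg.Agent.Cit.EqClose
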