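import Cfsg.Agent.Cit.EqExist
import Cfsg.Agent.Cit.EqInner
import Cfsg.Agent.Cit.OneK1

/-!
# All `z_K`, `K ∈ Om(S)`, equal, and a pair of type I: `|Om(S)| = 4`

bb R18 (helper174), class free form of #8092 (2), (3).

`TI Om z z' U T T'` : `EqZ Om`, `(z, z')` a commuting pair of type I, `PairS z z' U T T'`.
`W z z' T K w` : `w ∈ K ⊓ T`, `w² = z`, `w ∈ C(z')` (so `z'` acts on `K ⊓ T` as `w`).
-/

set_option autoImplicit false
set_option linter.style.haveILetI false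
set_option linter.unusedSectionVars false

namespace Cfsg.Agent.Cit.EqHad

open Subgroup Cfsg Cfsg.Agent.Cit.EqClose Cfsg.Agent.Cit.EqType

variable {G : Type*} [Group G]

/-- the members over `z` -/
def Mz (Om : Set (Subgroup G)) (z : G) : Set (Subgroup G) := {K | K ∈ Om ∧ zz K = z}

/-- a commuting pair of type I -/
structure TI (Om : Set (Subgroup G)) (z z' : G) (U T T' : Subgroup G) : Prop where
  e : EqZ Om
  p : PairS z z' U T T'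
  ne : z ≠ z'
  kz : (Mz Om z).Nonempty
  one : TypeOne Om z z'

/-- `w` is the element of order four of `K ⊓ T` as which `z'` acts -/
structure W (z z' : G) (T K : Subgroup G) (w : G) : Prop where
  mem : w ∈ K ⊓ T
  sq : w * w = z
  comm : w * z' = z' * w

section Basic

variable [Finite G] {Om : Set (Subgroup G)} {z z' : G} {U T T' : Subgroup G}

theorem mz_ncard (e : EqZ Om) {K : Subgroup G} (hK : K ∈ Mz Om z) (S : Sylow 2 G) :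
    (Mz Om z).ncard = (OmS Om (S : Subgroup G)).ncard := by
  obtain ⟨T₀, -, -, hT₀⟩ := e.exists_sylow_ge hK.1 (R := ⊥) IsPGroup.of_bot bot_le
  have h1 : Mz Om z = OmS Om (T₀ : Subgroup G) := by
    ext L
    rw [e.mem_OmS_iff T₀ hT₀, hK.2]
    rfl
  obtain ⟨g, hg⟩ := exists_cj_sylow S T₀
  rw [h1, ← hg, ncard_OmS_cj e.hyp.conj]

namespace TI

variable (a : TI Om z z' U T T')

include a

theorem symm : TI Om z' z U T' T := by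
  obtain ⟨K, hK, hz⟩ := a.kz
  obtain ⟨L, hL, hz', -⟩ := id a.one
  refine ⟨a.e, a.p.symm, a.ne.symm, ⟨L, hL, hz'⟩, ?_⟩
  subst hz
  exact a.one.symm a.e hK a.ne

theorem two : IsPGroup 2 T := a.p.sylT.2.1

theorem mem_OmS {K : Subgroup G} (hK : K ∈ Mz Om z) : K ∈ OmS Om T := by
  have := a.p.sylT
  rw [← hK.2] at this
  exact a.e.hyp.mem_OmS_of_syl hK.1 this

theorem OmS_eq : OmS Om T = Mz Om z := by
  ext K
  refine ⟨fun h1 => ⟨h1.1, ?_⟩, fun h1 => a.mem_OmS h1⟩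
  obtain ⟨L, hL⟩ := a.kz
  rw [← hL.2]
  exact a.e.eq_zz a.two h1 (a.mem_OmS hL)

theorem zz_mul : z * z = 1 := by
  obtain ⟨L, hL⟩ := a.kz
  rw [← hL.2]; exact a.e.hyp.zz_mul hL.1

theorem z_ne : z ≠ 1 := by
  obtain ⟨L, hL⟩ := a.kz
  rw [← hL.2]; exact a.e.hyp.zz_ne hL.1

theorem comm : z * z' = z' * z := a.one.comm

theorem inner {K : Subgroup G} (hK : K ∈ Mz Om z) : z' ∈ normalizer (K : Set G) ∧ ∃ c v n,
    EqType.Inner z z' (K ⊓ T) c v n ∧ ∀ g ∈ T ⊓ normalizer (K : Set G), g * c * g⁻¹ ∈ zpowers c := by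
  obtain ⟨hK, rfl⟩ := hK
  exact a.one.inner a.e hK a.ne a.p

theorem exists_w {K : Subgroup G} (hK : K ∈ Mz Om z) : ∃ w, W z z' T K w := by
  obtain ⟨-, c, v, n, hi, -⟩ := a.inner hK
  exact ⟨c ^ 2 ^ n, (K ⊓ T).pow_mem hi.gq.c_mem _, hi.gq.w_sq, ((show Commute c z' from hi.comm.symm).pow_left _).eq⟩

end TI

/-- a 2-element in two members with different involutions is trivial -/
theorem eq_one_of_mem (h : Hyp Om) {K L S : Subgroup G} (hS : IsPGroup 2 S) (hK : K ∈ OmS Om S) (hL : L ∈ Om)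
    (hz : zz K ≠ zz L) {g : G} (hgK : g ∈ K) (hgS : g ∈ S) (hgL : g ∈ L) : g = 1 :=
  eq_one_of_mem_mem h hS hK hL hz hgK hgS hgL

namespace W

variable {K L : Subgroup G} {w w' : G}

theorem mem_U (hw : W z z' T K w) (a : TI Om z z' U T T') : w ∈ U := a.p.mem hw.mem.2 hw.comm

theorem order (hw : W z z' T K w) (a : TI Om z z' U T T') (hK : K ∈ Mz Om z) : orderOf w = 4 :=
  a.e.hyp.orderOf_of_sq hK.1 (by rw [hw.sq, hK.2])

theorem mulz (hw : W z z' T K w) (a : TI Om z z' U T T') (hK : K ∈ Mz Om z) : W z z' T K (w * z) := by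
  have hzm : z ∈ K ⊓ T := by rw [← hK.2]; exact a.e.hyp.zz_mem_inf a.two (a.mem_OmS hK)
  have hwz : w * z = z * w := by rw [← hw.sq, mul_assoc]
  refine ⟨mul_mem hw.mem hzm, ?_, ?_⟩
  · calc w * z * (w * z) = w * (z * w) * z := by group
      _ = w * w * (z * z) := by rw [← hwz]; group
      _ = z := by rw [hw.sq, a.zz_mul, mul_one]
  · rw [mul_assoc, a.comm, ← mul_assoc, hw.comm, mul_assoc]

/-- elements of order `≥ 4` of `K ⊓ U` normalise the members over `z'` -/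
theorem norm_of {K : Subgroup G} (a : TI Om z z' U T T') (hK : K ∈ Mz Om z) (hL : L ∈ Mz Om z') {c : G} (hc : c ∈ K)
    (hcU : c ∈ U) (hc4 : 4 ≤ orderOf c) : c ∈ normalizer (L : Set G) :=
  a.e.hyp.h3 K hK.1 L hL.1 c hc (isPGroup_zpowers a.p.syl.2.1 hcU) hc4 (by rw [hL.2]; exact a.p.comm_right hcU)

theorem norm (hw : W z z' T K w) (a : TI Om z z' U T T') (hK : K ∈ Mz Om z) (hL : L ∈ Mz Om z') :
    w ∈ normalizer (L : Set G) := norm_of a hK hL hw.mem.1 (hw.mem_U a) (hw.order a hK).ge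

theorem norm_inf (hw : W z z' T K w) (a : TI Om z z' U T T') (hK : K ∈ Mz Om z) (hL : L ∈ Mz Om z') :
    w ∈ normalizer ((L ⊓ T' : Subgroup G) : Set G) := by
  rw [mem_normalizer_iff_cj, cj_inf, mem_normalizer_iff_cj.1 (hw.norm a hK hL),
    mem_normalizer_iff_cj.1 (le_normalizer (a.p.le' (hw.mem_U a)))]

/-- elements of `K ⊓ U`, `L ⊓ U` of order `≥ 4` commute -/
theorem commute_of (a : TI Om z z' U T T') (hK : K ∈ Mz Om z) (hL : L ∈ Mz Om z') {c d : G} (hc : c ∈ K)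
    (hcU : c ∈ U) (hc4 : 4 ≤ orderOf c) (hd : d ∈ L) (hdU : d ∈ U) (hd4 : 4 ≤ orderOf d) : c * d = d * c := by
  have h1 := norm_of a hK hL hc hcU hc4
  have h2 := norm_of a.symm hL hK hd hdU hd4
  have hK1 : c * d * c⁻¹ * d⁻¹ ∈ K := by
    have h3 : d * c⁻¹ * d⁻¹ ∈ K := (mem_normalizer_iff.1 h2 _).1 (K.inv_mem hc)
    have h4 : c * d * c⁻¹ * d⁻¹ = c * (d * c⁻¹ * d⁻¹) := by group
    rw [h4]
    exact K.mul_mem hc h3
  have hL1 : c * d * c⁻¹ * d⁻¹ ∈ L := L.mul_mem ((mem_normalizer_iff.1 h1 _).1 hd) (L.inv_mem hd)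
  have hU1 : c * d * c⁻¹ * d⁻¹ ∈ T := a.p.le (U.mul_mem (U.mul_mem (U.mul_mem hcU hdU) (U.inv_mem hcU)) (U.inv_mem hdU))
  have h5 := eq_one_of_mem a.e.hyp a.two (a.mem_OmS hK) hL.1 (by rw [hK.2, hL.2]; exact a.ne) hK1 hU1 hL1
  rw [mul_inv_eq_one, mul_inv_eq_iff_eq_mul] at h5
  exact h5

theorem commute (hw : W z z' T K w) (a : TI Om z z' U T T') (hK : K ∈ Mz Om z) (hL : L ∈ Mz Om z')
    (hw' : W z' z T' L w') : w * w' = w' * w :=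
  commute_of a hK hL hw.mem.1 (hw.mem_U a) (hw.order a hK).ge hw'.mem.1 (hw'.mem_U a.symm)
    (hw'.order a.symm hL).ge

/-- `w` is unique up to inversion -/
theorem eq_or (hw : W z z' T K w) (a : TI Om z z' U T T') (hK : K ∈ Mz Om z) (hw' : W z z' T K w') :
    w' = w ∨ w' = w * z := by
  obtain ⟨-, c, v, n, hi, -⟩ := a.inner hK
  have h1 : ∀ x, W z z' T K x → x = c ^ 2 ^ n ∨ x = (c ^ 2 ^ n)⁻¹ := by
    intro x hx
    have h2 := mem_zpowers_of_comm hi.gq hi.comm hi.act hx.mem hx.comm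
    obtain ⟨k, hk⟩ := mem_zpowers_iff.1 h2
    refine hi.gq.comm_four hx.mem ((K ⊓ T).pow_mem hi.gq.c_mem _) (hx.order a hK) hi.gq.orderOf_w ?_
    rw [← hk]
    exact (((Commute.refl c).zpow_left k).pow_right _).eq
  have h3 : (c ^ 2 ^ n)⁻¹ = c ^ 2 ^ n * z := by
    rw [inv_eq_iff_mul_eq_one, ← mul_assoc, hi.gq.w_sq, a.zz_mul]
  have h4 : c ^ 2 ^ n * z * z = c ^ 2 ^ n := by rw [mul_assoc, a.zz_mul, mul_one]
  rcases h1 _ hw with h5 | h5 <;> rcases h1 _ hw' with h6 | h6 <;> rw [h5, h6]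
  · exact Or.inl rfl
  · right; rw [h3]
  · right; rw [h3, h4]
  · exact Or.inl rfl

/-- the action of `w` on `L ⊓ T'` -/
theorem act (hw : W z z' T K w) (a : TI Om z z' U T T') (hK : K ∈ Mz Om z) (hL : L ∈ Mz Om z') {c v : G} {n : ℕ}
    (hi : EqType.Inner z' z (L ⊓ T') c v n) :
    w * c = c * w ∧ ∃ i : ℕ, w * v * w⁻¹ = v * c ^ i ∧ c ^ i * c ^ i = z' := by
  have hcU : c ∈ U := a.symm.p.mem hi.gq.c_mem.2 hi.comm.symm
  have hc4 : 4 ≤ orderOf c := by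
    rw [hi.gq.ord]
    calc 4 = 2 ^ 2 := by norm_num
      _ ≤ 2 ^ (n + 2) := Nat.pow_le_pow_right (by norm_num) (by omega)
  have hwc : w * c = c * w := commute_of a hK hL hw.mem.1 (hw.mem_U a) (hw.order a hK).ge hi.gq.c_mem.1 hcU hc4
  exact ⟨hwc, exists_act_four hi.gq hi.comm hi.act hw.sq (hw.norm_inf a hK hL) hwc⟩

end W

/-- `t` centralises the Sylow 2-subgroup `L ⊓ T'` of `L` -/
def Ct (T' : Subgroup G) (t : G) (L : Subgroup G) : Prop := ∀ q ∈ L ⊓ T', q * t = t * q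

/-- `t = w₁ w₂` or `t z` centralises `L ⊓ T'` -/
theorem TI.dich (a : TI Om z z' U T T') {K₁ K₂ L : Subgroup G} {w₁ w₂ : G} (hK₁ : K₁ ∈ Mz Om z)
    (hK₂ : K₂ ∈ Mz Om z) (hw₁ : W z z' T K₁ w₁) (hw₂ : W z z' T K₂ w₂) (hL : L ∈ Mz Om z') :
    Ct T' (w₁ * w₂) L ∨ Ct T' (w₁ * w₂ * z) L := by
  obtain ⟨-, c, v, n, hi, -⟩ := a.symm.inner hL
  obtain ⟨hc₁, i, hi₁, hs₁⟩ := hw₁.act a hK₁ hL hi
  obtain ⟨hc₂, j, hi₂, hs₂⟩ := hw₂.act a hK₂ hL hi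
  have hzz' := a.symm.zz_mul
  have h1 := act_mul hc₁ hi₁ hi₂
  have hc : (w₁ * w₂) * c = c * (w₁ * w₂) := by rw [mul_assoc, hc₂, ← mul_assoc, hc₁, mul_assoc]
  have h2 : c ^ (i + j) * c ^ (i + j) = 1 := by
    calc c ^ (i + j) * c ^ (i + j) = (c ^ i * c ^ i) * (c ^ j * c ^ j) := by
          rw [← pow_add, ← pow_add, ← pow_add, ← pow_add]
          congr 1; ring
      _ = 1 := by rw [hs₁, hs₂, hzz']
  have hmem : c ^ (i + j) ∈ L ⊓ T' := (L ⊓ T').pow_mem hi.gq.c_mem _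
  by_cases h3 : c ^ (i + j) = 1
  · left
    rw [h3, mul_one] at h1
    exact comm_of_gq hi.gq hc (mul_inv_eq_iff_eq_mul.1 h1)
  · right
    have h4 := hi.gq.eq_z hmem h2 h3
    rw [h4] at h1
    have hzc : z * c = c * z := hi.comm
    refine comm_of_gq hi.gq ?_ (mul_inv_eq_iff_eq_mul.1 ?_)
    · rw [mul_assoc, hzc, ← mul_assoc, hc, mul_assoc]
    · have h5 : (w₁ * w₂) * z' * (w₁ * w₂)⁻¹ = z' := by
        rw [mul_assoc w₁, hw₂.comm, ← mul_assoc, hw₁.comm]; group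
      calc w₁ * w₂ * z * v * (w₁ * w₂ * z)⁻¹ = (w₁ * w₂) * (z * v * z⁻¹) * (w₁ * w₂)⁻¹ := by group
        _ = ((w₁ * w₂) * v * (w₁ * w₂)⁻¹) * ((w₁ * w₂) * z' * (w₁ * w₂)⁻¹) := by rw [hi.act]; group
        _ = v := by rw [h1, h5, mul_assoc, hzz', mul_one]

/-- not both `t` and `t z` centralise `L ⊓ T'` -/
theorem TI.not_both (a : TI Om z z' U T T') {L : Subgroup G} {t : G} (hL : L ∈ Mz Om z') (h1 : Ct T' t L)
    (h2 : Ct T' (t * z) L) : False := by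
  obtain ⟨K, hK⟩ := a.kz
  apply a.ne
  rw [← hK.2, ← hL.2]
  refine (zz_eq_of_comm a.e hL.1 hK.1 (syl_inf a.symm.two (a.symm.mem_OmS hL)) fun q hq => ?_).symm
  have h3 := h2 q hq
  rw [← mul_assoc, h1 q hq, mul_assoc, mul_assoc] at h3
  rw [hK.2]
  exact mul_left_cancel h3

/-- the configuration: two members over `z` -/
structure Two (Om : Set (Subgroup G)) (z z' : G) (T K₁ K₂ : Subgroup G) (w₁ w₂ : G) : Prop where
  m₁ : K₁ ∈ Mz Om z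
  m₂ : K₂ ∈ Mz Om z
  ne : K₁ ≠ K₂
  w₁ : W z z' T K₁ w₁
  w₂ : W z z' T K₂ w₂

namespace Two

variable {K₁ K₂ : Subgroup G} {w₁ w₂ t : G}

theorem comm (b : Two Om z z' T K₁ K₂ w₁ w₂) (a : TI Om z z' U T T') : w₁ * w₂ = w₂ * w₁ :=
  a.e.hyp.comm a.two (a.mem_OmS b.m₁) (a.mem_OmS b.m₂) b.ne b.w₁.mem b.w₂.mem

theorem mulz (b : Two Om z z' T K₁ K₂ w₁ w₂) (a : TI Om z z' U T T') : Two Om z z' T K₁ K₂ w₁ (w₂ * z) :=
  ⟨b.m₁, b.m₂, b.ne, b.w₁, b.w₂.mulz a b.m₂⟩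

theorem sq (b : Two Om z z' T K₁ K₂ w₁ w₂) (a : TI Om z z' U T T') : w₁ * w₂ * (w₁ * w₂) = 1 := by
  calc w₁ * w₂ * (w₁ * w₂) = w₁ * (w₂ * w₁) * w₂ := by group
    _ = w₁ * w₁ * (w₂ * w₂) := by rw [← b.comm a]; group
    _ = 1 := by rw [b.w₁.sq, b.w₂.sq, a.zz_mul]

theorem comm_z (b : Two Om z z' T K₁ K₂ w₁ w₂) : w₁ * w₂ * z = z * (w₁ * w₂) := by
  have h1 : w₁ * z = z * w₁ := by rw [← b.w₁.sq, mul_assoc]
  have h2 : w₂ * z = z * w₂ := by rw [← b.w₂.sq, mul_assoc]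
  rw [mul_assoc, h2, ← mul_assoc, h1, mul_assoc]

theorem comm_z' (b : Two Om z z' T K₁ K₂ w₁ w₂) : w₁ * w₂ * z' = z' * (w₁ * w₂) := by
  rw [mul_assoc, b.w₂.comm, ← mul_assoc, b.w₁.comm, mul_assoc]

theorem w₁t (b : Two Om z z' T K₁ K₂ w₁ w₂) (a : TI Om z z' U T T') : w₁ * (w₁ * w₂) = w₁ * w₂ * w₁ := by
  rw [mul_assoc, ← b.comm a]

theorem w₂t (b : Two Om z z' T K₁ K₂ w₁ w₂) (a : TI Om z z' U T T') : w₂ * (w₁ * w₂) = w₁ * w₂ * w₂ := by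
  rw [← mul_assoc, ← b.comm a]

theorem symm (b : Two Om z z' T K₁ K₂ w₁ w₂) : Two Om z z' T K₂ K₁ w₂ w₁ :=
  ⟨b.m₂, b.m₁, b.ne.symm, b.w₂, b.w₁⟩

/-- `w₁` does not lie in a member normalised... : `K₁ ∉ Om(R)` for a 2-group `R ≤ C(w₁ w₂)` containing
`w₁`, `w₂` -/
theorem not_mem (b : Two Om z z' T K₁ K₂ w₁ w₂) (a : TI Om z z' U T T') {R : Subgroup G} (hR : IsPGroup 2 R)
    (hRt : ∀ r ∈ R, r * (w₁ * w₂) = w₁ * w₂ * r) (h1 : w₁ ∈ R) (h2 : w₂ ∈ R) : K₁ ∉ OmS Om R := by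
  intro hK
  have h := a.e.hyp
  have hw₂4 := b.w₂.order a b.m₂
  have hw₂K : w₂ ∈ normalizer (K₁ : Set G) :=
    h.h3 K₂ b.m₂.1 K₁ b.m₁.1 w₂ b.w₂.mem.1 (isPGroup_zpowers hR h2) hw₂4.ge
      (by rw [b.m₁.2, ← b.w₂.sq, mul_assoc])
  have h3 := h.rigid b.m₁.1 (syl_inf a.two (a.mem_OmS b.m₁)) (syl_inf hR hK) hw₂K (isPGroup_zpowers hR h2)
    (fun x hx => h.comm a.two (a.mem_OmS b.m₂) (a.mem_OmS b.m₁) b.ne.symm b.w₂.mem hx) (by
      rw [mem_normalizer_iff_cj, cj_inf, mem_normalizer_iff_cj.1 hw₂K, mem_normalizer_iff_cj.1 (le_normalizer h2)])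
  obtain ⟨q, hq, hqw⟩ := EqExist.not_central h hR hK (x := w₁) ⟨b.w₁.mem.1, h1⟩ (by rw [b.w₁.sq, b.m₁.2])
  apply hqw
  have h4 := hRt q hq.2
  have h5 := h3 q hq
  have h6 : w₁ = w₁ * w₂ * w₂⁻¹ := by group
  rw [h6]
  exact ((show Commute q (w₁ * w₂) from h4).mul_right (show Commute w₂ q from h5).symm.inv_right).eq

/-- the members over `z'` centralised by `t` -/
def Pt (Om : Set (Subgroup G)) (z' : G) (T' : Subgroup G) (t : G) : Set (Subgroup G) :=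
  {L | L ∈ Mz Om z' ∧ Ct T' t L}

/-- **conjugation in `C(t)`** -/
theorem exists_conj (b : Two Om z z' T K₁ K₂ w₁ w₂) (a : TI Om z z' U T T') {K₃ : Subgroup G}
    (h3 : K₃ ∈ Mz Om z) (h13 : K₁ ≠ K₃) (h23 : K₂ ≠ K₃) (hne : (Pt Om z' T' (w₁ * w₂)).Nonempty) :
    ∃ (g : G) (R₁ R₂ : Subgroup G), g * (w₁ * w₂) = w₁ * w₂ * g ∧ IsPGroup 2 R₁ ∧ IsPGroup 2 R₂ ∧
      (∀ r ∈ R₂, r * (w₁ * w₂) = w₁ * w₂ * r) ∧ w₁ ∈ R₁ ∧ w₂ ∈ R₁ ∧ cj g R₁ = R₂ ∧ T' ⊓ centralizer {w₁ * w₂} ≤ R₂ ∧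
      g * z * g⁻¹ = z' ∧ OmS Om R₁ = Mz Om z \ {K₁, K₂} ∧ OmS Om R₂ = Pt Om z' T' (w₁ * w₂) := by
  have h := a.e.hyp
  obtain ⟨t, ht⟩ : ∃ t, t = w₁ * w₂ := ⟨_, rfl⟩
  obtain ⟨R₁, hR₁, hT₁⟩ := Cit.exists_syl_ge (P := T ⊓ centralizer {t}) (C := centralizer {t})
    (a.two.to_le inf_le_left) inf_le_right
  obtain ⟨R₂, hR₂, hT₂⟩ := Cit.exists_syl_ge (P := T' ⊓ centralizer {t}) (C := centralizer {t})
    (a.symm.two.to_le inf_le_left) inf_le_right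
  obtain ⟨g, hg, hgR⟩ := hR₁.exists_conj hR₂
  have hgt := mem_centralizer_singleton_iff.1 hg
  have hR₁t : ∀ r ∈ R₁, r * t = t * r := fun r hr => mem_centralizer_singleton_iff.1 (hR₁.1 hr)
  have hR₂t : ∀ r ∈ R₂, r * t = t * r := fun r hr => mem_centralizer_singleton_iff.1 (hR₂.1 hr)
  have hw₁t : w₁ * t = t * w₁ := by rw [ht]; exact b.w₁t a
  have hw₂t : w₂ * t = t * w₂ := by rw [ht]; exact b.w₂t a
  have hw₁R : w₁ ∈ R₁ := hT₁ ⟨b.w₁.mem.2, mem_centralizer_singleton_iff.2 hw₁t⟩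
  have hw₂R : w₂ ∈ R₁ := hT₁ ⟨b.w₂.mem.2, mem_centralizer_singleton_iff.2 hw₂t⟩
  -- `Om(R₁)`
  have hm₁ : ∀ K ∈ Mz Om z, K₁ ≠ K → K₂ ≠ K → K ∈ OmS Om R₁ := by
    intro K hK h1 h2
    refine mem_OmS_of_le hK.1 (syl_inf a.two (a.mem_OmS hK)) fun q hq => hT₁ ⟨hq.2, ?_⟩
    refine mem_centralizer_singleton_iff.2 ?_
    rw [ht]
    have a1 := h.comm a.two (a.mem_OmS hK) (a.mem_OmS b.m₁) h1.symm hq b.w₁.mem
    have a2 := h.comm a.two (a.mem_OmS hK) (a.mem_OmS b.m₂) h2.symm hq b.w₂.mem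
    rw [← mul_assoc, a1, mul_assoc, a2, mul_assoc]
  have hz₁ : ∀ K ∈ OmS Om R₁, zz K = z := by
    intro K hK
    rw [← h3.2]
    exact a.e.eq_zz hR₁.2.1 hK (hm₁ K₃ h3 h13 h23)
  have hO₁ : OmS Om R₁ = Mz Om z \ {K₁, K₂} := by
    ext K
    constructor
    · intro hK
      refine ⟨⟨hK.1, hz₁ K hK⟩, ?_⟩
      rintro (rfl | h4)
      · exact b.not_mem a hR₁.2.1 (by rw [← ht]; exact hR₁t) hw₁R hw₂R hK
      · rw [Set.mem_singleton_iff] at h4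
        subst h4
        refine b.symm.not_mem a hR₁.2.1 (fun r hr => ?_) hw₂R hw₁R hK
        rw [← b.comm a, ← ht]
        exact hR₁t r hr
    · rintro ⟨hK, h4⟩
      exact hm₁ K hK (fun h5 => h4 (Or.inl h5.symm)) (fun h5 => h4 (Or.inr h5.symm))
  -- `Om(R₂)`
  have hm₂ : ∀ L ∈ Pt Om z' T' t, L ∈ OmS Om R₂ := by
    intro L hL
    exact mem_OmS_of_le hL.1.1 (syl_inf a.symm.two (a.symm.mem_OmS hL.1)) fun q hq =>
      hT₂ ⟨hq.2, mem_centralizer_singleton_iff.2 (hL.2 q hq)⟩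
  obtain ⟨L₀, hL₀⟩ := hne
  rw [← ht] at hL₀
  have hz₂ : ∀ L ∈ OmS Om R₂, zz L = z' := by
    intro L hL
    rw [← hL₀.1.2]
    exact a.e.eq_zz hR₂.2.1 hL (hm₂ L₀ hL₀)
  have hzU : z ∈ U := by
    have h4 : z ∈ T := by
      have := h.zz_mem_inf a.two (a.mem_OmS b.m₁)
      rw [b.m₁.2] at this
      exact this.2
    exact a.p.mem h4 a.comm
  have htU : t ∈ U := by rw [ht]; exact U.mul_mem (b.w₁.mem_U a) (b.w₂.mem_U a)
  have hzt : z * t = t * z := by rw [ht]; exact b.comm_z.symm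
  have hzR : z ∈ R₂ := hT₂ ⟨a.p.le' hzU, mem_centralizer_singleton_iff.2 hzt⟩
  have htR : t ∈ R₂ := hT₂ ⟨a.p.le' htU, mem_centralizer_singleton_iff.2 rfl⟩
  have htz : (t * z) * (t * z) = 1 := by
    calc t * z * (t * z) = t * (z * t) * z := by group
      _ = t * t * (z * z) := by rw [hzt]; group
      _ = 1 := by rw [a.zz_mul, ht, b.sq a, one_mul]
  have hO₂ : OmS Om R₂ = Pt Om z' T' t := by
    ext L
    refine ⟨fun hL => ?_, hm₂ L⟩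
    have hLm : L ∈ Mz Om z' := ⟨hL.1, hz₂ L hL⟩
    refine ⟨hLm, ?_⟩
    have h4 := a.dich b.m₁ b.m₂ b.w₁ b.w₂ hLm
    rw [← ht] at h4
    rcases h4 with h4 | h4
    · exact h4
    exfalso
    have hzN : z ∈ normalizer (L : Set G) := (a.symm.inner hLm).1
    have htN : t ∈ normalizer (L : Set G) := by
      rw [ht]; exact mul_mem (b.w₁.norm a b.m₁ hLm) (b.w₂.norm a b.m₂ hLm)
    have htzN : t * z ∈ normalizer (L : Set G) := mul_mem htN hzN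
    have h5 := h.rigid hL.1 (syl_inf a.symm.two (a.symm.mem_OmS hLm)) (syl_inf hR₂.2.1 hL) htzN
      (isPGroup_zpowers hR₂.2.1 (R₂.mul_mem htR hzR)) (fun x hx => (h4 x hx).symm) (by
        rw [mem_normalizer_iff_cj, cj_inf, mem_normalizer_iff_cj.1 htzN,
          mem_normalizer_iff_cj.1 (le_normalizer (R₂.mul_mem htR hzR))])
    apply a.ne
    rw [← b.m₁.2, ← hLm.2]
    refine (zz_eq_of_comm a.e hL.1 b.m₁.1 (syl_inf hR₂.2.1 hL) fun q hq => ?_).symm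
    have h6 := h5 q hq
    have h7 := hR₂t q hq.2
    rw [b.m₁.2]
    have h8 : z = t⁻¹ * (t * z) := by group
    rw [h8]
    exact ((show Commute q t from h7).inv_right.mul_right (show Commute (t * z) q from h6).symm).eq
  refine ⟨g, R₁, R₂, by rw [← ht]; exact hgt, hR₁.2.1, hR₂.2.1, by rw [← ht]; exact hR₂t, hw₁R, hw₂R, hgR,
    by rw [← ht]; exact hT₂, ?_, hO₁, by rw [← ht]; exact hO₂⟩
  have h4 : cj g K₃ ∈ OmS Om R₂ := by
    rw [← hgR]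
    exact cj_mem_OmS h.conj g (hm₁ K₃ h3 h13 h23)
  rw [← hz₂ _ h4, h.zz_cj h3.1, h3.2]

theorem ncard_pt (b : Two Om z z' T K₁ K₂ w₁ w₂) (a : TI Om z z' U T T') {K₃ : Subgroup G}
    (h3 : K₃ ∈ Mz Om z) (h13 : K₁ ≠ K₃) (h23 : K₂ ≠ K₃) (hne : (Pt Om z' T' (w₁ * w₂)).Nonempty) :
    (Pt Om z' T' (w₁ * w₂)).ncard + 2 = (Mz Om z).ncard := by
  obtain ⟨g, R₁, R₂, hgt, -, -, -, -, -, hgR, -, -, hO₁, hO₂⟩ := b.exists_conj a h3 h13 h23 hne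
  rw [← hO₂, ← hgR, ncard_OmS_cj a.e.hyp.conj, hO₁]
  have h1 : ({K₁, K₂} : Set (Subgroup G)) ⊆ Mz Om z := by
    rintro K (rfl | rfl)
    · exact b.m₁
    · exact b.m₂
  have h2 := Set.ncard_sdiff_add_ncard_of_subset h1 (Set.toFinite _)
  rwa [Set.ncard_pair b.ne] at h2

/-- `P(t)` and `P(t z)` partition the members over `z'` -/
theorem ncard_add (b : Two Om z z' T K₁ K₂ w₁ w₂) (a : TI Om z z' U T T') :
    (Pt Om z' T' (w₁ * w₂)).ncard + (Pt Om z' T' (w₁ * (w₂ * z))).ncard = (Mz Om z').ncard := by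
  rw [← Set.ncard_union_eq]
  · congr 1
    ext L
    constructor
    · rintro (h1 | h1)
      · exact h1.1
      · exact h1.1
    · intro hL
      rcases a.dich b.m₁ b.m₂ b.w₁ b.w₂ hL with h1 | h1
      · exact Or.inl ⟨hL, h1⟩
      · refine Or.inr ⟨hL, ?_⟩
        rw [mul_assoc] at h1
        exact h1
  · rw [Set.disjoint_left]
    intro L h1 h2
    refine a.not_both h1.1 h1.2 ?_
    rw [mul_assoc]
    exact h2.2

/-- `P(t) ≠ ∅` -/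
theorem nonempty (b : Two Om z z' T K₁ K₂ w₁ w₂) (a : TI Om z z' U T T') {K₃ : Subgroup G}
    (h3 : K₃ ∈ Mz Om z) (h13 : K₁ ≠ K₃) (h23 : K₂ ≠ K₃) : (Pt Om z' T' (w₁ * w₂)).Nonempty := by
  by_contra hemp
  rw [Set.not_nonempty_iff_eq_empty] at hemp
  have h1 := b.ncard_add a
  rw [hemp, Set.ncard_empty, zero_add] at h1
  have hne : (Pt Om z' T' (w₁ * (w₂ * z))).Nonempty := by
    rw [← Set.ncard_pos (Set.toFinite _), h1, Set.ncard_pos (Set.toFinite _)]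
    exact a.symm.kz
  have h2 := (b.mulz a).ncard_pt a h3 h13 h23 hne
  obtain ⟨S⟩ : Nonempty (Sylow 2 G) := inferInstance
  obtain ⟨L, hL⟩ := a.symm.kz
  rw [h1, mz_ncard a.e b.m₁ S, mz_ncard a.e hL S] at h2
  omega

/-- **HADAMARD** : `|Om(S)| = 4` -/
theorem ncard_eq_four (b : Two Om z z' T K₁ K₂ w₁ w₂) (a : TI Om z z' U T T') {K₃ : Subgroup G}
    (h3 : K₃ ∈ Mz Om z) (h13 : K₁ ≠ K₃) (h23 : K₂ ≠ K₃) (S : Sylow 2 G) :
    (OmS Om (S : Subgroup G)).ncard = 4 := by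
  have h1 := b.ncard_pt a h3 h13 h23 (b.nonempty a h3 h13 h23)
  have h2 := (b.mulz a).ncard_pt a h3 h13 h23 ((b.mulz a).nonempty a h3 h13 h23)
  have h4 := b.ncard_add a
  obtain ⟨L, hL⟩ := a.symm.kz
  rw [mz_ncard a.e hL S] at h4
  rw [mz_ncard a.e b.m₁ S] at h1 h2
  omega

/-- `t = w₁ w₂` is also a product of elements `y₁`, `y₂` for the pair `(z', z)` -/
theorem exists_two (b : Two Om z z' T K₁ K₂ w₁ w₂) (a : TI Om z z' U T T') {K₃ : Subgroup G}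
    (h3 : K₃ ∈ Mz Om z) (h13 : K₁ ≠ K₃) (h23 : K₂ ≠ K₃) :
    ∃ L₁ L₂ y₁ y₂, Two Om z' z T' L₁ L₂ y₁ y₂ ∧ w₁ * w₂ = y₁ * y₂ ∧ L₁ ∉ Pt Om z' T' (w₁ * w₂) ∧
      L₂ ∉ Pt Om z' T' (w₁ * w₂) := by
  have h := a.e.hyp
  obtain ⟨g, R₁, R₂, hgt, hR₁, hR₂, hRt, hw₁R, hw₂R, hgR, hTR, hgz, hO₁, hO₂⟩ :=
    b.exists_conj a h3 h13 h23 (b.nonempty a h3 h13 h23)
  have key : ∀ K, K = K₁ ∨ K = K₂ → cj g K ∈ Mz Om z' ∧ cj g K ∉ Pt Om z' T' (w₁ * w₂) := by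
    intro K hK
    have hKm : K ∈ Mz Om z := by
      rcases hK with rfl | rfl
      · exact b.m₁
      · exact b.m₂
    refine ⟨⟨h.conj K hKm.1 g, by rw [h.zz_cj hKm.1, hKm.2, hgz]⟩, fun h1 => ?_⟩
    rw [← hO₂, ← hgR] at h1
    have h2 := cj_mem_OmS h.conj g⁻¹ h1
    rw [cj_inv_cj, cj_inv_cj, hO₁] at h2
    rcases hK with rfl | rfl
    · exact h2.2 (Or.inl rfl)
    · exact h2.2 (Or.inr rfl)
  obtain ⟨hL₁, hP₁⟩ := key K₁ (Or.inl rfl)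
  obtain ⟨hL₂, hP₂⟩ := key K₂ (Or.inr rfl)
  have hne : cj g K₁ ≠ cj g K₂ := fun h1 => b.ne (cj_inj.1 h1)
  have hy₁R : g * w₁ * g⁻¹ ∈ R₂ := by rw [← hgR]; exact conj_mem_cj hw₁R
  have hy₂R : g * w₂ * g⁻¹ ∈ R₂ := by rw [← hgR]; exact conj_mem_cj hw₂R
  have hy₁K : g * w₁ * g⁻¹ ∈ cj g K₁ := conj_mem_cj b.w₁.mem.1
  have hy₂K : g * w₂ * g⁻¹ ∈ cj g K₂ := conj_mem_cj b.w₂.mem.1
  have hprod : w₁ * w₂ = (g * w₁ * g⁻¹) * (g * w₂ * g⁻¹) := by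
    calc w₁ * w₂ = g * (w₁ * w₂) * g⁻¹ := by rw [hgt, mul_inv_cancel_right]
      _ = (g * w₁ * g⁻¹) * (g * w₂ * g⁻¹) := by group
  have hsq₁ : (g * w₁ * g⁻¹) * (g * w₁ * g⁻¹) = z' := by
    calc (g * w₁ * g⁻¹) * (g * w₁ * g⁻¹) = g * (w₁ * w₁) * g⁻¹ := by group
      _ = z' := by rw [b.w₁.sq, hgz]
  have hsq₂ : (g * w₂ * g⁻¹) * (g * w₂ * g⁻¹) = z' := by
    calc (g * w₂ * g⁻¹) * (g * w₂ * g⁻¹) = g * (w₂ * w₂) * g⁻¹ := by group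
      _ = z' := by rw [b.w₂.sq, hgz]
  have hy₁₂ : (g * w₁ * g⁻¹) * (g * w₂ * g⁻¹) = (g * w₂ * g⁻¹) * (g * w₁ * g⁻¹) :=
    h.comm_of_zz_eq hR₂ hL₁.1 hL₂.1 (by rw [hL₁.2, hL₂.2]) hne hy₁K hy₁R hy₂K hy₂R
  have hzz' := a.symm.zz_mul
  -- comparison with the elements `w'` of `T'`
  have cmp : ∀ (A B : Subgroup G) (y y' : G), A ∈ Mz Om z' → B ∈ Mz Om z' → A ≠ B → y ∈ A → y ∈ R₂ → y' ∈ B →
      y' ∈ R₂ → y * y = z' → w₁ * w₂ = y * y' → W z' z T' A y := by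
    intro A B y y' hA hB hAB hyA hyR hyB hyR' hyy hpr
    obtain ⟨w', hw'⟩ := a.symm.exists_w hA
    have c₁ := b.w₁.commute a b.m₁ hA hw'
    have c₂ := b.w₂.commute a b.m₂ hA hw'
    have hw't : w' * (w₁ * w₂) = w₁ * w₂ * w' := by
      rw [← mul_assoc, ← c₁, mul_assoc, ← c₂, mul_assoc]
    have hw'R : w' ∈ R₂ := hTR ⟨hw'.mem.2, mem_centralizer_singleton_iff.2 hw't⟩
    have c₃ : w' * y' = y' * w' :=
      h.comm_of_zz_eq hR₂ hA.1 hB.1 (by rw [hA.2, hB.2]) hAB hw'.mem.1 hw'R hyB hyR'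
    have c₄ : Commute w' y := by
      have h1 : y = (w₁ * w₂) * y'⁻¹ := by rw [hpr, mul_inv_cancel_right]
      rw [h1]
      exact (show Commute w' (w₁ * w₂) from hw't).mul_right (show Commute w' y' from c₃).inv_right
    have h2 : (y * w') * (y * w') = 1 := by
      calc (y * w') * (y * w') = y * (w' * y) * w' := by group
        _ = (y * y) * (w' * w') := by rw [c₄.eq]; group
        _ = 1 := by rw [hyy, hw'.sq, hzz']
    by_cases h4 : y * w' = 1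
    · have h5 : y = w' * z' := by
        rw [eq_inv_of_mul_eq_one_left h4, inv_eq_iff_mul_eq_one, ← mul_assoc, hw'.sq, hzz']
      rw [h5]
      exact hw'.mulz a.symm hA
    · have h5 := h.eq_zz hA.1 (A.mul_mem hyA hw'.mem.1) h2 h4
      rw [hA.2, ← hw'.sq] at h5
      rw [mul_right_cancel h5]
      exact hw'
  refine ⟨cj g K₁, cj g K₂, _, _, ⟨hL₁, hL₂, hne, cmp _ _ _ _ hL₁ hL₂ hne hy₁K hy₁R hy₂K hy₂R hsq₁ hprod,
    cmp _ _ _ _ hL₂ hL₁ hne.symm hy₂K hy₂R hy₁K hy₁R hsq₂ ?_⟩, hprod, hP₁, hP₂⟩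
  rw [hprod, hy₁₂]

/-- **the product formula** : `z` is a product of four elements `y_i` -/
theorem exists_prod (b : Two Om z z' T K₁ K₂ w₁ w₂) (a : TI Om z z' U T T') {K₃ : Subgroup G}
    (h3 : K₃ ∈ Mz Om z) (h13 : K₁ ≠ K₃) (h23 : K₂ ≠ K₃) :
    ∃ (L : Fin 4 → Subgroup G) (y : Fin 4 → G), Function.Injective L ∧ (∀ i, L i ∈ Mz Om z') ∧
      (∀ i, W z' z T' (L i) (y i)) ∧ z = y 0 * y 1 * y 2 * y 3 := by
  obtain ⟨L₁, L₂, y₁, y₂, c, hc, hP₁, hP₂⟩ := b.exists_two a h3 h13 h23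
  obtain ⟨L₃, L₄, y₃, y₄, d, hd, hP₃, hP₄⟩ := (b.mulz a).exists_two a h3 h13 h23
  have key : ∀ L, L ∈ Mz Om z' → L ∉ Pt Om z' T' (w₁ * (w₂ * z)) → L ∈ Pt Om z' T' (w₁ * w₂) := by
    intro L hL h1
    rcases a.dich b.m₁ b.m₂ b.w₁ b.w₂ hL with h2 | h2
    · exact ⟨hL, h2⟩
    · rw [mul_assoc] at h2
      exact absurd ⟨hL, h2⟩ h1
  have h3' := key L₃ d.m₁ hP₃
  have h4' := key L₄ d.m₂ hP₄
  have e13 : L₁ ≠ L₃ := fun h => hP₁ (h ▸ h3')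
  have e14 : L₁ ≠ L₄ := fun h => hP₁ (h ▸ h4')
  have e23 : L₂ ≠ L₃ := fun h => hP₂ (h ▸ h3')
  have e24 : L₂ ≠ L₄ := fun h => hP₂ (h ▸ h4')
  refine ⟨![L₁, L₂, L₃, L₄], ![y₁, y₂, y₃, y₄], ?_, ?_, ?_, ?_⟩
  · intro i j hij
    fin_cases i <;> fin_cases j <;> first
      | rfl
      | exact absurd hij c.ne
      | exact absurd hij e13
      | exact absurd hij e14
      | exact absurd hij e23
      | exact absurd hij e24
      | exact absurd hij d.ne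
      | exact absurd hij c.ne.symm
      | exact absurd hij e13.symm
      | exact absurd hij e14.symm
      | exact absurd hij e23.symm
      | exact absurd hij e24.symm
      | exact absurd hij d.ne.symm
  · exact fin4 c.m₁ c.m₂ d.m₁ d.m₂
  · exact fin4 c.w₁ c.w₂ d.w₁ d.w₂
  · change z = y₁ * y₂ * y₃ * y₄
    rw [← hc, mul_assoc, ← hd, ← mul_assoc w₁ w₂ z, ← mul_assoc, b.sq a, one_mul]

end Two

/-- three members over `z` -/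
theorem exists_three {A : Set (Subgroup G)} (hA : 3 ≤ A.ncard) :
    ∃ K₁ K₂ K₃, K₁ ∈ A ∧ K₂ ∈ A ∧ K₃ ∈ A ∧ K₁ ≠ K₂ ∧ K₁ ≠ K₃ ∧ K₂ ≠ K₃ := by
  obtain ⟨B, hBA, hB⟩ := Set.exists_subset_card_eq hA
  obtain ⟨K₁, K₂, K₃, h12, h13, h23, rfl⟩ := Set.ncard_eq_three.1 hB
  exact ⟨K₁, K₂, K₃, hBA (by simp), hBA (by simp), hBA (by simp), h12, h13, h23⟩

namespace TI

theorem ncard_eq_four (a : TI Om z z' U T T') (h3 : 3 ≤ (Mz Om z).ncard) (S : Sylow 2 G) :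
    (OmS Om (S : Subgroup G)).ncard = 4 := by
  obtain ⟨K₁, K₂, K₃, m₁, m₂, m₃, h12, h13, h23⟩ := exists_three h3
  obtain ⟨w₁, hw₁⟩ := a.exists_w m₁
  obtain ⟨w₂, hw₂⟩ := a.exists_w m₂
  exact Two.ncard_eq_four ⟨m₁, m₂, h12, hw₁, hw₂⟩ a m₃ h13 h23 S

theorem exists_prod (a : TI Om z z' U T T') (h3 : 3 ≤ (Mz Om z).ncard) :
    ∃ (L : Fin 4 → Subgroup G) (y : Fin 4 → G), Function.Injective L ∧ (∀ i, L i ∈ Mz Om z') ∧
      (∀ i, W z' z T' (L i) (y i)) ∧ z = y 0 * y 1 * y 2 * y 3 := by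
  obtain ⟨K₁, K₂, K₃, m₁, m₂, m₃, h12, h13, h23⟩ := exists_three h3
  obtain ⟨w₁, hw₁⟩ := a.exists_w m₁
  obtain ⟨w₂, hw₂⟩ := a.exists_w m₂
  exact Two.exists_prod ⟨m₁, m₂, h12, hw₁, hw₂⟩ a m₃ h13 h23

end TI

end Basic

end Cfsg.Agent.Cit.EqHad
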