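import Cfsg.Agent.Cit.EqCfg

/-!
# All involutions `z_K`, `K ∈ Om(S)`, equal, `|Om(S)| = 4`: interface of the core part

For every configuration `Cfg Om S K x` (`z = zz (K 0)`, `t = x 0 x 1`, `s = x 0 x 1 x 2 x 3`, `A = ⟨z, t, s⟩`):

* `GenStmt Om` : `C(t) / O(C(t))` is generated by the centralisers of `z` and of the `t r r'`;
* `TorStmt Om` : the hypotheses of THEOREM F hold for `A`;
* `DFStmt Om` : `DF A = ⊥`.
-/

set_option autoImplicit false

namespace Cfsg.Agent.Cit.EqCfg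

open Subgroup Cfsg Cfsg.Agent.Cit Cfsg.Agent.Cit.EqClose UseT

variable {G : Type*} [Group G] [Finite G]

/-- a subgroup of `C(t) / O(C(t))`, `t = x 0 x 1`, which contains the centralisers of (the images of) `z` and of all
`t r r'`, `r ∈ K 2 ⊓ S`, `r' ∈ K 3 ⊓ S` of order four, is everything -/
def GenStmt (Om : Set (Subgroup G)) : Prop :=
  ∀ (S : Sylow 2 G) (K : Fin 4 → Subgroup G) (x : Fin 4 → G), Cfg Om S K x →
    ∀ M : Subgroup (HQ (centralizer ({x 0 * x 1} : Set G))),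
      (∀ q : centralizer ({x 0 * x 1} : Set G), (q : G) = zz (K 0) →
        centralizer {qm (centralizer ({x 0 * x 1} : Set G)) q} ≤ M) →
      (∀ r ∈ K 2 ⊓ (S : Subgroup G), orderOf r = 4 → ∀ r' ∈ K 3 ⊓ (S : Subgroup G), orderOf r' = 4 →
        ∀ q : centralizer ({x 0 * x 1} : Set G), (q : G) = x 0 * x 1 * r * r' →
          centralizer {qm (centralizer ({x 0 * x 1} : Set G)) q} ≤ M) → M = ⊤

/-- the hypotheses of THEOREM F hold for `A = ⟨z, t, s⟩` -/
def TorStmt (Om : Set (Subgroup G)) : Prop :=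
  ∀ (S : Sylow 2 G) (K : Fin 4 → Subgroup G) (x : Fin 4 → G), Cfg Om S K x →
    TorFunctor.Tor (AA (zz (K 0)) (x 0 * x 1) (x 0 * x 1 * x 2 * x 3))

/-- the group `D(A)` of THEOREM F is trivial for `A = ⟨z, t, s⟩` -/
def DFStmt (Om : Set (Subgroup G)) : Prop :=
  ∀ (S : Sylow 2 G) (K : Fin 4 → Subgroup G) (x : Fin 4 → G), Cfg Om S K x →
    TorFunctor.DF (AA (zz (K 0)) (x 0 * x 1) (x 0 * x 1 * x 2 * x 3)) = ⊥

end Cfsg.Agent.Cit.EqCfg
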