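import Cfsg.Agent.Cit.EqEnd

/-!
# All involutions `z_K`, `K ∈ Om(S)`, equal, `|Om(S)| = 2`: the closing argument

bb R18 #8168 (4). `Big Om M` (`M` contains a Sylow 2-subgroup of `G` and the centralisers of the involutions of `D(S)`)
and `VGood Om M` (the centralisers of `t z_L`, `t = x y` with `x`, `y` of order four in the two members of `Om(S)`,
`t` centralising a Sylow 2-subgroup of `L`) imply that `C(z_K z_L) ≤ M` for commuting `z_K ≠ z_L` in `M`; with S1175 and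
Bender's theorem `M = G`.
-/

set_option autoImplicit false
set_option linter.style.haveILetI false
set_option linter.unusedSectionVars false

namespace Cfsg.Agent.Cit.EqClose

open Subgroup Cfsg

variable {G : Type*} [Group G]

/-- the elements `t z_L`, `t` perpendicular to `L`, are good -/
def VGood (Om : Set (Subgroup G)) (M : Subgroup G) : Prop :=
  ∀ S : Sylow 2 G, (S : Subgroup G) ≤ M → ∀ K ∈ OmS Om (S : Subgroup G), ∀ K' ∈ OmS Om (S : Subgroup G), K ≠ K' →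
    ∀ x ∈ K ⊓ (S : Subgroup G), ∀ y ∈ K' ⊓ (S : Subgroup G), orderOf x = 4 → orderOf y = 4 → ∀ L ∈ Om,
    ∀ Q : Subgroup G, Syl Q L → (∀ q ∈ Q, q * (x * y) = (x * y) * q) → x * y ≠ zz L → centralizer {x * y * zz L} ≤ M

namespace Big

variable [Finite G] {Om : Set (Subgroup G)} {M : Subgroup G}

/-- **(h3)** for `|Om(S)| = 2` -/
theorem centralizer_mul_le_two (e : EqZ Om) (h2 : ∀ S : Sylow 2 G, (OmS Om (S : Subgroup G)).ncard = 2)
    (b : Big Om M) (hV : VGood Om M) {K L : Subgroup G} (hK : K ∈ Om)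
    (hL : L ∈ Om) (hKM : zz K ∈ M) (hLM : zz L ∈ M) (hne : zz K ≠ zz L) (hc : zz K * zz L = zz L * zz K) :
    centralizer {zz K * zz L} ≤ M := by
  have h := e.hyp
  obtain ⟨z, hz⟩ : ∃ z, z = zz K := ⟨_, rfl⟩
  obtain ⟨t, ht⟩ : ∃ t, t = zz L := ⟨_, rfl⟩
  have hzz : z * z = 1 := by rw [hz]; exact h.zz_mul hK
  have htt : t * t = 1 := by rw [ht]; exact h.zz_mul hL
  have hti : t⁻¹ = t := inv_eq_of_mul_eq_one_right htt
  by_cases hf1 : cj (zz L) K = K
  · exact b.centralizer_mul_le_of_fixed e hK hL hKM hLM hne hf1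
  -- the Sylow subgroup `S`
  obtain ⟨S, hRS, hSC, hKS⟩ := e.exists_sylow_ge (R := zpowers (zz L)) hK (CloEnd.isPGroup_zpowers (h.zz_mul hL))
    (zpowers_le.2 (mem_centralizer_singleton_iff.2 hc.symm))
  have htS : t ∈ (S : Subgroup G) := by rw [ht]; exact hRS (mem_zpowers _)
  have hS := S.isPGroup'
  have hSM : (S : Subgroup G) ≤ M := hSC.trans (b.centralizer_le e hK hKM)
  rw [← ht] at hf1
  have hK1 : cj t K ∈ OmS Om (S : Subgroup G) := cj_mem_OmS' h.conj (le_normalizer htS) hKS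
  have hconjS : ∀ q ∈ (S : Subgroup G), t * q * t⁻¹ ∈ (S : Subgroup G) := fun q hq =>
    mul_mem (mul_mem htS hq) ((S : Subgroup G).inv_mem htS)
  have hd : ∀ q ∈ K ⊓ (S : Subgroup G),
      q * (t * q * t⁻¹) = (t * q * t⁻¹) * q ∧ q * (t * q * t⁻¹) * t = t * (q * (t * q * t⁻¹)) := by
    intro q hq
    have h1 : q * (t * q * t⁻¹) = (t * q * t⁻¹) * q :=
      h.comm hS hKS hK1 (Ne.symm hf1) hq ⟨conj_mem_cj hq.1, hconjS q hq.2⟩
    refine ⟨h1, ?_⟩
    have h2 : t * (t * q * t⁻¹) * t⁻¹ = q := by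
      rw [hti]
      calc t * (t * q * t) * t = (t * t) * q * (t * t) := by group
        _ = q := by rw [htt]; group
    have h3 : t * (q * (t * q * t⁻¹)) * t⁻¹ = q * (t * q * t⁻¹) := by
      calc t * (q * (t * q * t⁻¹)) * t⁻¹ = (t * q * t⁻¹) * (t * (t * q * t⁻¹) * t⁻¹) := by group
        _ = q * (t * q * t⁻¹) := by rw [h2, h1]
    exact (mul_inv_eq_iff_eq_mul.1 h3).symm
  -- the Sylow subgroup `T`
  obtain ⟨T, hRT, hTC, hLT⟩ := e.exists_sylow_ge (R := (S : Subgroup G) ⊓ centralizer {zz L}) hL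
    (hS.to_le inf_le_left) inf_le_right
  have hdT : ∀ q ∈ K ⊓ (S : Subgroup G), q * (t * q * t⁻¹) ∈ (T : Subgroup G) := by
    intro q hq
    refine hRT ⟨mul_mem hq.2 (hconjS q hq.2), mem_centralizer_singleton_iff.2 ?_⟩
    rw [← ht]
    exact (hd q hq).2
  -- some diagonal element fixes `L`
  have two_moves : ∀ a ∈ (T : Subgroup G), ∀ a' ∈ (T : Subgroup G), cj a L ≠ L → cj a' L ≠ L → cj (a * a') L = L := by
    intro a ha a' ha' h1 h3
    obtain ⟨X, Y, hXY, hO⟩ := Set.ncard_eq_two.1 (h2 T)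
    have m0 : L ∈ OmS Om (T : Subgroup G) := hLT
    have m1 : cj a L ∈ OmS Om (T : Subgroup G) := cj_mem_OmS' h.conj (le_normalizer ha) hLT
    have m2 : cj a' L ∈ OmS Om (T : Subgroup G) := cj_mem_OmS' h.conj (le_normalizer ha') hLT
    have m3 : cj (a * a') L ∈ OmS Om (T : Subgroup G) := cj_mem_OmS' h.conj (le_normalizer (mul_mem ha ha')) hLT
    have h4 : cj (a * a') L ≠ cj a L := fun h5 => h3 (cj_inj.1 (by rw [← cj_mul]; exact h5))
    rw [hO] at m0 m1 m2 m3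
    simp only [Set.mem_insert_iff, Set.mem_singleton_iff] at m0 m1 m2 m3
    rcases m0 with m0 | m0 <;> rcases m1 with m1 | m1 <;> rcases m3 with m3 | m3
    all_goals first
      | exact m3.trans m0.symm
      | exact absurd (m1.trans m0.symm) h1
      | exact absurd (m3.trans m1.symm) h4
  obtain ⟨q, hq, hq4, hqL⟩ : ∃ q ∈ K ⊓ (S : Subgroup G), orderOf q = 4 ∧ cj (q * (t * q * t⁻¹)) L = L := by
    obtain ⟨c, v, n, hg⟩ := h.exists_gq hK (syl_inf hS hKS)
    obtain ⟨q1, hq1, q2, hq2, h14, h24, h124, -⟩ := hg.exists_pair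
    by_cases c1 : cj (q1 * (t * q1 * t⁻¹)) L = L
    · exact ⟨q1, hq1, h14, c1⟩
    by_cases c2 : cj (q2 * (t * q2 * t⁻¹)) L = L
    · exact ⟨q2, hq2, h24, c2⟩
    refine ⟨q1 * q2, mul_mem hq1 hq2, h124, ?_⟩
    have h3 : q2 * (t * q1 * t⁻¹) = (t * q1 * t⁻¹) * q2 :=
      h.comm hS hKS hK1 (Ne.symm hf1) hq2 ⟨conj_mem_cj hq1.1, hconjS q1 hq1.2⟩
    have h4 : (q1 * q2) * (t * (q1 * q2) * t⁻¹) = q1 * (t * q1 * t⁻¹) * (q2 * (t * q2 * t⁻¹)) := by
      calc (q1 * q2) * (t * (q1 * q2) * t⁻¹) = q1 * (q2 * (t * q1 * t⁻¹)) * (t * q2 * t⁻¹) := by group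
        _ = q1 * (t * q1 * t⁻¹) * (q2 * (t * q2 * t⁻¹)) := by rw [h3]; group
    rw [h4]
    exact two_moves _ (hdT q1 hq1) _ (hdT q2 hq2) c1 c2
  obtain ⟨q', hq'⟩ : ∃ q', q' = t * q * t⁻¹ := ⟨_, rfl⟩
  have hdq := hd q hq
  have hyT := hdT q hq
  have hq'm : q' ∈ cj t K ⊓ (S : Subgroup G) := by rw [hq']; exact ⟨conj_mem_cj hq.1, hconjS q hq.2⟩
  have hq'4 : orderOf q' = 4 := by rw [hq', ← hq4]; exact (MulAut.conj t).orderOf_eq q
  rw [← hq'] at hdq hqL hyT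
  obtain ⟨y, hy⟩ : ∃ y, y = q * q' := ⟨_, rfl⟩
  rw [← hy] at hdq hqL hyT
  obtain ⟨hyD, hyy, hy1, -⟩ := mul_four h hS hKS hK1 (Ne.symm hf1) (e.eqz S _ hKS _ hK1) hq hq4 hq'm hq'4
  rw [← hy] at hyD hyy hy1
  -- `y ≠ t`
  have hyt' : q * q' ≠ zz L := by
    intro h1
    refine hf1 ?_
    rw [ht, ← h1]
    rw [hy] at hyD
    exact mem_normalizer_iff_cj.1 (h.DD_le_normalizer hS hKS hyD)
  -- `C(y t) ≤ M`
  have hCyt : centralizer {y * t} ≤ M := by
    by_cases hcent : ∀ x ∈ L ⊓ (T : Subgroup G), x * y = y * x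
    · rw [ht, hy]
      exact hV S hSM K hKS _ hK1 (Ne.symm hf1) q hq q' hq'm hq4 hq'4 L hL _ (syl_inf T.isPGroup' hLT)
        (by rw [← hy]; exact hcent) hyt'
    · push Not at hcent
      have hQ := syl_inf T.isPGroup' hLT
      have hnQ : y ∈ normalizer ((L ⊓ (T : Subgroup G) : Subgroup G) : Set G) := by
        rw [mem_normalizer_iff_cj, cj_inf, hqL, mem_normalizer_iff_cj.1 (le_normalizer hyT)]
      obtain ⟨x, hx, hxz, -⟩ := exists_conj_mul (z := zz L) (y := y) hQ.2.1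
        (fun t ht h2 h1 => h.eq_zz hL ht.1 h2 h1) hyy hnQ (by
          obtain ⟨x, hx, hxy⟩ := hcent
          exact ⟨x, hx, fun h1 => hxy h1.symm⟩)
      have hyt : y * t = x * y * x⁻¹ := by rw [hxz, ← ht]; exact hdq.2
      rw [hyt, ← cj_centralizer]
      have hxM : x ∈ M := b.centralizer_le e hL hLM (h.le_centralizer hL hx.1)
      intro g hg
      rw [mem_cj] at hg
      have h2 : g = x * (x⁻¹ * g * x) * x⁻¹ := by group
      rw [h2]
      exact M.mul_mem (M.mul_mem hxM (b.good S hSM y hyD hyy hy1 hg)) (M.inv_mem hxM)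
  -- `q (y t) q⁻¹ = z t`
  have hqq : q * q = z := by rw [hz]; exact h.sq_eq_zz hK hq.1 hq4
  have hkey : z * t = q * (y * t) * q⁻¹ := by
    have h3 : t * q⁻¹ = q'⁻¹ * t := by rw [hq']; group
    calc z * t = q * q * q' * (q'⁻¹ * t) := by rw [hqq]; group
      _ = q * (y * t) * q⁻¹ := by rw [← h3, hy]; group
  rw [← hz, ← ht, hkey, ← cj_centralizer]
  have hqM : q ∈ M := hSM hq.2
  intro g hg
  rw [mem_cj] at hg
  have h5 : g = q * (q⁻¹ * g * q) * q⁻¹ := by group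
  rw [h5]
  exact M.mul_mem (M.mul_mem hqM (hCyt hg)) (M.inv_mem hqM)

/-- **the end of r = 1, n = 2, branch (B)** -/
theorem false_of_big_two (e : EqZ Om) (h2 : ∀ S : Sylow 2 G, (OmS Om (S : Subgroup G)).ncard = 2)
    (b : Big Om M) (hV : VGood Om M) (hM : M ≠ ⊤) (hB : CloEnd.Bend G) (hC : CloEnd.Crit1175 G) : False := by
  refine b.false_of_mul_le e hM hB hC ?_
  intro K hK L hL hKM hLM hne hc
  exact b.centralizer_mul_le_two e h2 hV hK hL hKM hLM hne hc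

end Big

end Cfsg.Agent.Cit.EqClose
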