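import Cfsg.Agent.Cit.EqCenTwo
import Cfsg.Agent.Cit.CoreTools
import Cfsg.Agent.Cit.OneK1

/-!
# (2B) at `t = x₀ x₁` in the case `EqFour`

`Dat F D K₂ K₃ J τ y₂ y₃ n` : a family `F` with trivial cores in a finite group `X`, `D` a normal component of `X`
containing all members of `F`, `K₂`, `K₃` the members over `z = zz K₂`, `τ` central, `y₂ ∈ K₂`, `y₃ ∈ K₃` of order
four, `s = zz J = τ y₂ y₃`, and `n` permutes `z, s, s z` cyclically.

* `Dat.le_cent_XX` : `XX z` centralises `K₂` and `K₃`;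
* `Dat.le_centralizer` : `XX z ⊓ XX s ⊓ XX (s z)` centralises `D` (Bender, S1175).
-/

set_option autoImplicit false
set_option linter.style.haveILetI false
set_option linter.unusedSectionVars false

namespace Cfsg.Agent.Cit.EqTwoB

open Subgroup Cfsg Cfsg.Agent.Cit Cfsg.Agent.Cit.EqClose Cfsg.Agent.Cit.EqCenTwo
open Cfsg.Agent.SignalizersComponents.Components

universe u

/-- the data -/
structure Dat {X : Type*} [Group X] (F : Set (Subgroup X)) (D K₂ K₃ J : Subgroup X) (τ y₂ y₃ n : X) : Prop where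
  hyp : Hyp F
  ty : ∀ K ∈ F, TyTwo K
  core : ∀ K ∈ F, OO K = ⊥
  eqz : ∀ R : Subgroup X, IsPGroup 2 R → ∀ K ∈ OmS F R, ∀ L ∈ OmS F R, zz K = zz L
  comp : IsComponent D
  nor : D.Normal
  le : ∀ K ∈ F, K ≤ D
  mem₂ : K₂ ∈ F
  mem₃ : K₃ ∈ F
  ne : K₂ ≠ K₃
  zz₃ : zz K₃ = zz K₂
  all : ∀ K ∈ F, zz K = zz K₂ → K = K₂ ∨ K = K₃
  cen : ∀ g, g * τ = τ * g
  y₂_mem : y₂ ∈ K₂
  y₃_mem : y₃ ∈ K₃
  y₂_sq : y₂ * y₂ = zz K₂
  y₃_sq : y₃ * y₃ = zz K₂
  J_mem : J ∈ F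
  zz_J : zz J = τ * (y₂ * y₃)
  n_z : n * zz K₂ * n⁻¹ = zz J
  n_s : n * zz J * n⁻¹ = zz J * zz K₂

namespace Dat

variable {X : Type u} [Group X] [Finite X] {F : Set (Subgroup X)} {D K₂ K₃ J : Subgroup X} {τ y₂ y₃ n : X}

/-- `Δ` -/
def De (z s : X) : Subgroup X := XX z ⊓ XX s ⊓ XX (s * z)

/-- the two members over `z` commute -/
theorem comm (d : Dat F D K₂ K₃ J τ y₂ y₃ n) {a b : X} (ha : a ∈ K₂) (hb : b ∈ K₃) : a * b = b * a := by
  rcases d.hyp.h2 _ d.mem₂ _ d.mem₃ d.zz₃.symm with h1 | h1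
  · exact absurd h1 d.ne
  · rw [d.core _ d.mem₂, bot_inf_eq, le_bot_iff, commutator_eq_bot_iff_le_centralizer] at h1
    exact (mem_centralizer_iff.1 (h1 ha) b hb).symm

theorem zz_mul (d : Dat F D K₂ K₃ J τ y₂ y₃ n) : zz K₂ * zz K₂ = 1 := d.hyp.zz_mul d.mem₂

theorem le_cent (d : Dat F D K₂ K₃ J τ y₂ y₃ n) {K : Subgroup X} (hK : K = K₂ ∨ K = K₃) :
    K ≤ centralizer {zz K₂} := by
  rcases hK with rfl | rfl
  · exact d.hyp.le_centralizer d.mem₂
  · rw [← d.zz₃]; exact d.hyp.le_centralizer d.mem₃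

/-- elements of `C(z)` permute `K₂`, `K₃` -/
theorem cj_eq (d : Dat F D K₂ K₃ J τ y₂ y₃ n) {g : X} (hg : g ∈ centralizer {zz K₂}) {K : Subgroup X}
    (hK : K = K₂ ∨ K = K₃) : cj g K = K₂ ∨ cj g K = K₃ := by
  have h1 : K ∈ F ∧ zz K = zz K₂ := by
    rcases hK with rfl | rfl
    · exact ⟨d.mem₂, rfl⟩
    · exact ⟨d.mem₃, d.zz₃⟩
  refine d.all _ (d.hyp.conj K h1.1 g) ?_
  rw [d.hyp.zz_cj h1.1, h1.2, mem_centralizer_singleton_iff.1 hg, mul_inv_cancel_right]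

/-- `XX z` normalises `K₂` and `K₃` -/
theorem XX_le_normalizer (d : Dat F D K₂ K₃ J τ y₂ y₃ n) {K : Subgroup X} (hK : K = K₂ ∨ K = K₃) :
    XX (zz K₂) ≤ normalizer (K : Set X) := by
  intro u hu
  have huz := XX_le _ hu
  have key : ∀ v ∈ XX (zz K₂), cj (v * v) K = K := by
    intro v hv
    have hvz := XX_le _ hv
    rw [cj_mul]
    have e1 := d.cj_eq hvz hK
    have e2 := d.cj_eq hvz (Or.inl rfl : K₂ = K₂ ∨ K₂ = K₃)
    have e3 := d.cj_eq hvz (Or.inr rfl : K₃ = K₂ ∨ K₃ = K₃)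
    have hinj : cj v K₂ ≠ cj v K₃ := fun h => d.ne (by
      have := congrArg (cj v⁻¹) h
      rwa [cj_inv_cj, cj_inv_cj] at this)
    rcases hK with rfl | rfl
    · rcases e2 with h2 | h2
      · rw [h2, h2]
      · rw [h2]
        rcases e3 with h3 | h3
        · exact h3
        · exact absurd (h2.trans h3.symm) hinj
    · rcases e3 with h3 | h3
      · rw [h3]
        rcases e2 with h2 | h2
        · exact absurd (h2.trans h3.symm) hinj
        · exact h2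
      · rw [h3, h3]
  have h1 := CoreTools.mem_zpowers_sq hu
  have h2 : u * u ∈ normalizer (K : Set X) := mem_normalizer_iff_cj.2 (key u hu)
  exact (zpowers_le.2 h2) h1

/-- **`XX z` centralises `K₂` and `K₃`** -/
theorem le_cent_XX (d : Dat F D K₂ K₃ J τ y₂ y₃ n) {K : Subgroup X} (hK : K = K₂ ∨ K = K₃) {u k : X}
    (hu : u ∈ XX (zz K₂)) (hk : k ∈ K) : u * k = k * u := by
  have hc : OO K = ⊥ := by
    rcases hK with rfl | rfl
    · exact d.core _ d.mem₂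
    · exact d.core _ d.mem₃
  have hn := d.XX_le_normalizer hK
  have h1 : XX (zz K₂) ⊓ K ≤ OO K := by
    refine le_OO inf_le_right ?_ fun h2 => odd_XX (zz K₂) (h2.trans (card_dvd_of_le inf_le_left))
    intro g hg
    rw [mem_normalizer_iff_cj, cj_inf, mem_normalizer_iff_cj.1 (le_normalizer hg),
      mem_normalizer_iff_cj.1 (centralizer_le_normalizer_XX _ (d.le_cent hK hg))]
  have h2 : u * k * u⁻¹ * k⁻¹ ∈ XX (zz K₂) ⊓ K := by
    constructor
    · have h3 := CoreTools.conj_mem_XX (mem_centralizer_singleton_iff.1 (d.le_cent hK hk)) ((XX _).inv_mem hu)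
      have h4 : u * k * u⁻¹ * k⁻¹ = u * (k * u⁻¹ * k⁻¹) := by group
      rw [h4]; exact (XX _).mul_mem hu h3
    · exact K.mul_mem ((mem_normalizer_iff.1 (hn hu) k).1 hk) (K.inv_mem hk)
  have h3 := h1 h2
  rw [hc, mem_bot, mul_inv_eq_one, mul_inv_eq_iff_eq_mul] at h3
  exact h3

/-- `y₂y₃` is conjugate to `a₂a₃` under an element `k ∈ D` centralising `z` and `XX z` -/
theorem exists_conj (d : Dat F D K₂ K₃ J τ y₂ y₃ n) {a₂ a₃ : X} (h2 : a₂ ∈ K₂) (h3 : a₃ ∈ K₃)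
    (h2' : a₂ * a₂ = zz K₂) (h3' : a₃ * a₃ = zz K₂) :
    ∃ k ∈ D, k * zz K₂ = zz K₂ * k ∧ (∀ u ∈ XX (zz K₂), u * k = k * u) ∧ k * (y₂ * y₃) * k⁻¹ = a₂ * a₃ := by
  obtain ⟨k, hk, hk'⟩ := d.hyp.conj_four' d.mem₂ (d.ty _ d.mem₂) d.y₂_mem h2 d.y₂_sq h2'
  obtain ⟨l, hl, hl'⟩ := d.hyp.conj_four' d.mem₃ (d.ty _ d.mem₃) d.y₃_mem h3 (by rw [d.zz₃]; exact d.y₃_sq)
    (by rw [d.zz₃]; exact h3')
  refine ⟨k * l, D.mul_mem (d.le _ d.mem₂ hk) (d.le _ d.mem₃ hl), ?_, fun u hu => ?_, ?_⟩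
  · have e1 := mem_centralizer_singleton_iff.1 (d.le_cent (Or.inl rfl) hk)
    have e2 := mem_centralizer_singleton_iff.1 (d.le_cent (Or.inr rfl) hl)
    rw [mul_assoc, e2, ← mul_assoc, e1, mul_assoc]
  · rw [← mul_assoc, d.le_cent_XX (Or.inl rfl) hu hk, mul_assoc, d.le_cent_XX (Or.inr rfl) hu hl, mul_assoc]
  · have e1 : l * y₂ = y₂ * l := (d.comm d.y₂_mem hl).symm
    have e2 : k * (l * y₃ * l⁻¹) = (l * y₃ * l⁻¹) * k := d.comm hk (by rw [hl']; exact h3)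
    calc k * l * (y₂ * y₃) * (k * l)⁻¹ = k * (l * y₂) * y₃ * l⁻¹ * k⁻¹ := by group
      _ = k * (y₂ * l) * y₃ * l⁻¹ * k⁻¹ := by rw [e1]
      _ = k * y₂ * (l * y₃ * l⁻¹) * k⁻¹ := by group
      _ = k * y₂ * k⁻¹ * (k * (l * y₃ * l⁻¹)) * k⁻¹ := by group
      _ = k * y₂ * k⁻¹ * ((l * y₃ * l⁻¹) * k) * k⁻¹ := by rw [e2]
      _ = (k * y₂ * k⁻¹) * (l * y₃ * l⁻¹) := by group
      _ = a₂ * a₃ := by rw [hk', hl']

/-- elements of `C(z)` map `s` to a conjugate under an element centralising `z` and `XX z` -/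
theorem exists_conj_s (d : Dat F D K₂ K₃ J τ y₂ y₃ n) {g : X} (hg : g * zz K₂ = zz K₂ * g) :
    ∃ k ∈ D, k * zz K₂ = zz K₂ * k ∧ (∀ u ∈ XX (zz K₂), u * k = k * u) ∧ g * zz J * g⁻¹ = k * zz J * k⁻¹ := by
  have hg' : g ∈ centralizer {zz K₂} := mem_centralizer_singleton_iff.2 hg
  have hsq : ∀ y : X, y * y = zz K₂ → (g * y * g⁻¹) * (g * y * g⁻¹) = zz K₂ := by
    intro y hy
    calc (g * y * g⁻¹) * (g * y * g⁻¹) = g * (y * y) * g⁻¹ := by group
      _ = zz K₂ := by rw [hy, hg, mul_inv_cancel_right]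
  have hconj : ∀ k : X, k * zz J * k⁻¹ = τ * (k * (y₂ * y₃) * k⁻¹) := by
    intro k
    rw [d.zz_J]
    calc k * (τ * (y₂ * y₃)) * k⁻¹ = (k * τ) * (y₂ * y₃) * k⁻¹ := by group
      _ = τ * (k * (y₂ * y₃) * k⁻¹) := by rw [d.cen k]; group
  have h2 : g * y₂ * g⁻¹ ∈ cj g K₂ := conj_mem_cj d.y₂_mem
  have h3 : g * y₃ * g⁻¹ ∈ cj g K₃ := conj_mem_cj d.y₃_mem
  have hinj : cj g K₂ ≠ cj g K₃ := fun h => d.ne (by
    have := congrArg (cj g⁻¹) h
    rwa [cj_inv_cj, cj_inv_cj] at this)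
  have hsplit : g * (y₂ * y₃) * g⁻¹ = (g * y₂ * g⁻¹) * (g * y₃ * g⁻¹) := by group
  rcases d.cj_eq hg' (Or.inl rfl : K₂ = K₂ ∨ K₂ = K₃) with e2 | e2
  · rcases d.cj_eq hg' (Or.inr rfl : K₃ = K₂ ∨ K₃ = K₃) with e3 | e3
    · exact absurd (e2.trans e3.symm) hinj
    · rw [e2] at h2
      rw [e3] at h3
      obtain ⟨k, hk, hkz, hku, hke⟩ := d.exists_conj h2 h3 (hsq _ d.y₂_sq) (hsq _ d.y₃_sq)
      exact ⟨k, hk, hkz, hku, by rw [hconj, hconj, hke, hsplit]⟩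
  · rcases d.cj_eq hg' (Or.inr rfl : K₃ = K₂ ∨ K₃ = K₃) with e3 | e3
    · rw [e2] at h2
      rw [e3] at h3
      obtain ⟨k, hk, hkz, hku, hke⟩ := d.exists_conj h3 h2 (hsq _ d.y₃_sq) (hsq _ d.y₂_sq)
      refine ⟨k, hk, hkz, hku, ?_⟩
      rw [hconj, hconj, hke, hsplit, d.comm h3 h2]
    · exact absurd (e2.trans e3.symm) hinj

/-- **`C(z)` normalises `Δ`** -/
theorem cent_le (d : Dat F D K₂ K₃ J τ y₂ y₃ n) :
    centralizer {zz K₂} ≤ normalizer (De (zz K₂) (zz J) : Set X) := by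
  have key : ∀ g ∈ centralizer {zz K₂}, cj g (De (zz K₂) (zz J)) ≤ De (zz K₂) (zz J) := by
    intro g hg
    have hg1 := mem_centralizer_singleton_iff.1 hg
    obtain ⟨k, -, hkz, hku, hke⟩ := d.exists_conj_s hg1
    rintro _ ⟨u, ⟨⟨hu1, hu2⟩, hu3⟩, rfl⟩
    change g * u * g⁻¹ ∈ De (zz K₂) (zz J)
    have hw1 : g * u * g⁻¹ ∈ XX (zz K₂) := CoreTools.conj_mem_XX hg1 hu1
    have hk : k⁻¹ * (g * u * g⁻¹) * k = g * u * g⁻¹ := by
      rw [mul_assoc, hku _ hw1, ← mul_assoc, inv_mul_cancel, one_mul]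
    have hmem : ∀ a : X, u ∈ XX a → g * a * g⁻¹ = k * a * k⁻¹ → g * u * g⁻¹ ∈ XX a := by
      intro a ha hga
      have h1 : g * u * g⁻¹ ∈ XX (g * a * g⁻¹) := by
        rw [← cj_XX]; exact conj_mem_cj ha
      rw [hga, ← cj_XX, mem_cj, hk] at h1
      exact h1
    refine ⟨⟨hw1, hmem _ hu2 hke⟩, hmem _ hu3 ?_⟩
    calc g * (zz J * zz K₂) * g⁻¹ = (g * zz J * g⁻¹) * (g * zz K₂ * g⁻¹) := by group
      _ = (k * zz J * k⁻¹) * (k * zz K₂ * k⁻¹) := by
          rw [hke, hg1, mul_inv_cancel_right, hkz, mul_inv_cancel_right]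
      _ = k * (zz J * zz K₂) * k⁻¹ := by group
  intro g hg
  rw [mem_normalizer_iff_cj]
  refine le_antisymm (key g hg) ?_
  have h1 := cj_mono g (key g⁻¹ (inv_mem hg))
  rwa [cj_cj_inv] at h1

/-- `z` and `s` commute -/
theorem comm_zs (d : Dat F D K₂ K₃ J τ y₂ y₃ n) : zz K₂ * zz J = zz J * zz K₂ := by
  have e1 := mem_centralizer_singleton_iff.1 (d.le_cent (Or.inl rfl) d.y₂_mem)
  have e2 := mem_centralizer_singleton_iff.1 (d.le_cent (Or.inr rfl) d.y₃_mem)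
  rw [d.zz_J]
  calc zz K₂ * (τ * (y₂ * y₃)) = (zz K₂ * τ) * (y₂ * y₃) := by group
    _ = τ * (zz K₂ * y₂) * y₃ := by rw [d.cen]; group
    _ = τ * y₂ * (zz K₂ * y₃) := by rw [← e1]; group
    _ = τ * (y₂ * y₃) * zz K₂ := by rw [← e2]; group

/-- `n` normalises `Δ` -/
theorem n_mem (d : Dat F D K₂ K₃ J τ y₂ y₃ n) : n ∈ normalizer (De (zz K₂) (zz J) : Set X) := by
  have h1 : n * (zz J * zz K₂) * n⁻¹ = zz K₂ := by
    calc n * (zz J * zz K₂) * n⁻¹ = (n * zz J * n⁻¹) * (n * zz K₂ * n⁻¹) := by group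
      _ = (zz J * zz K₂) * zz J := by rw [d.n_s, d.n_z]
      _ = (zz K₂ * zz J) * zz J := by rw [d.comm_zs]
      _ = zz K₂ * (zz J * zz J) := by group
      _ = zz K₂ := by rw [d.hyp.zz_mul d.J_mem, mul_one]
  rw [mem_normalizer_iff_cj, De, cj_inf, cj_inf, cj_XX, cj_XX, cj_XX, d.n_z, d.n_s, h1]
  apply le_antisymm
  · rintro u ⟨⟨hu1, hu2⟩, hu3⟩; exact ⟨⟨hu3, hu1⟩, hu2⟩
  · rintro u ⟨⟨hu1, hu2⟩, hu3⟩; exact ⟨⟨hu2, hu3⟩, hu1⟩

/-- **`C(s)` normalises `Δ`** -/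
theorem cent_le_s (d : Dat F D K₂ K₃ J τ y₂ y₃ n) :
    centralizer {zz J} ≤ normalizer (De (zz K₂) (zz J) : Set X) := by
  intro g hg
  rw [mem_centralizer_singleton_iff] at hg
  have h1 : n⁻¹ * g * n ∈ normalizer (De (zz K₂) (zz J) : Set X) := by
    refine d.cent_le (mem_centralizer_singleton_iff.2 ?_)
    have h2 : zz K₂ = n⁻¹ * zz J * n := by rw [← d.n_z]; group
    rw [h2]
    calc n⁻¹ * g * n * (n⁻¹ * zz J * n) = n⁻¹ * (g * zz J) * n := by group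
      _ = n⁻¹ * (zz J * g) * n := by rw [hg]
      _ = n⁻¹ * zz J * n * (n⁻¹ * g * n) := by group
  have h3 : g = n * (n⁻¹ * g * n) * n⁻¹ := by group
  rw [h3]
  exact mul_mem (mul_mem d.n_mem h1) (inv_mem d.n_mem)

/-! ### The family in `D` -/

theorem not_mem (d : Dat F D K₂ K₃ J τ y₂ y₃ n) : D ∉ F := by
  intro hD
  have h1 : OO D = ⊥ := d.core D hD
  have hz : zz K₂ = zz D :=
    d.hyp.uniq D hD _ (d.le _ d.mem₂ (d.hyp.zz_mem d.mem₂)) (d.hyp.orderOf_zz d.mem₂)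
  have hz3 : zz K₃ = zz D :=
    d.hyp.uniq D hD _ (d.le _ d.mem₃ (d.hyp.zz_mem d.mem₃)) (d.hyp.orderOf_zz d.mem₃)
  have key : ∀ K ∈ F, zz K = zz D → K = D := by
    intro K hK hKz
    rcases d.hyp.h2 _ hD _ hK hKz.symm with h2 | h2
    · exact h2.symm
    · exfalso
      rw [h1, bot_inf_eq, le_bot_iff, commutator_eq_bot_iff_le_centralizer] at h2
      refine d.hyp.not_le_centralizer_self hK fun x hx y hy => ?_
      exact mem_centralizer_iff.1 (h2 (d.le K hK hx)) y hy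
  exact d.ne ((key _ d.mem₂ hz).trans (key _ d.mem₃ hz3).symm)

theorem τ_mem (d : Dat F D K₂ K₃ J τ y₂ y₃ n) : τ ∈ D := by
  have h1 : τ = zz J * (y₂ * y₃)⁻¹ := by rw [d.zz_J]; group
  rw [h1]
  exact D.mul_mem (d.le _ d.J_mem (d.hyp.zz_mem d.J_mem))
    (D.inv_mem (D.mul_mem (d.le _ d.mem₂ d.y₂_mem) (d.le _ d.mem₃ d.y₃_mem)))

/-- transfer of `TyTwo` to subgroups -/
theorem _root_.Cfsg.Agent.Cit.EqTwoB.tyTwo_of_map {G : Type*} [Group G] {H : Subgroup G} {K : Subgroup H}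
    (h : TyTwo (K.map H.subtype)) : TyTwo K := by
  intro x hx
  have h1 : {c : G | c ∈ K.map H.subtype ∧ Odd (orderOf c)} ⊆
      ((closure {c : H | c ∈ K ∧ Odd (orderOf c)}).map H.subtype : Subgroup G) := by
    rintro _ ⟨⟨c, hc, rfl⟩, ho⟩
    refine ⟨c, Subgroup.subset_closure ⟨hc, ?_⟩, rfl⟩
    have h2 : orderOf (c : G) = orderOf c := orderOf_coe c
    rw [coe_subtype, h2] at ho
    exact ho
  obtain ⟨y, hy, hyx⟩ := (closure_le _).2 h1 (h ⟨x, hx, rfl⟩)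
  have h2 : y = x := Subtype.ext hyx
  rw [← h2]
  exact hy

theorem K₂_restr (d : Dat F D K₂ K₃ J τ y₂ y₃ n) : K₂.subgroupOf D ∈ restr F D :=
  subgroupOf_mem_restr d.mem₂ (d.le _ d.mem₂)

theorem K₃_restr (d : Dat F D K₂ K₃ J τ y₂ y₃ n) : K₃.subgroupOf D ∈ restr F D :=
  subgroupOf_mem_restr d.mem₃ (d.le _ d.mem₃)

theorem zz_coe (d : Dat F D K₂ K₃ J τ y₂ y₃ n) {K : Subgroup X} (hK : K ∈ F) :
    ((zz (K.subgroupOf D) : D) : X) = zz K := by
  rw [zz_map d.hyp (subgroupOf_mem_restr hK (d.le _ hK)), map_subgroupOf_eq_of_le (d.le _ hK)]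

theorem eqz_restr (d : Dat F D K₂ K₃ J τ y₂ y₃ n) {T : Subgroup D} (hT : IsPGroup 2 T) {K L : Subgroup D}
    (hK : K ∈ OmS (restr F D) T) (hL : L ∈ OmS (restr F D) T) : zz K = zz L := by
  apply Subtype.ext
  rw [zz_map d.hyp hK.1, zz_map d.hyp hL.1]
  exact d.eqz _ (hT.map _) _ (mem_OmS_restr.1 hK) _ (mem_OmS_restr.1 hL)

/-- a Sylow 2-subgroup `T` of `D` with `K₂ ∈ Om(T)`; then `Om(T) = {K₂, K₃}` -/
theorem exists_T (d : Dat F D K₂ K₃ J τ y₂ y₃ n) : ∃ T : Sylow 2 D,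
    OmS (restr F D) (T : Subgroup D) = {K₂.subgroupOf D, K₃.subgroupOf D} := by
  obtain ⟨T, hT, -⟩ := (d.hyp.restr D).exists_sylow d.K₂_restr
  refine ⟨T, Set.Subset.antisymm ?_ ?_⟩
  · intro K hK
    have h1 : zz (K.map D.subtype) = zz K₂ := by
      rw [← zz_map d.hyp hK.1, d.eqz_restr T.isPGroup' hK hT, d.zz_coe d.mem₂]
    rcases d.all _ hK.1 h1 with h2 | h2
    · left
      rw [← h2, subgroupOf, comap_map_eq_self_of_injective D.subtype_injective]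
    · right
      rw [Set.mem_singleton_iff, ← h2, subgroupOf, comap_map_eq_self_of_injective D.subtype_injective]
  · rintro K (rfl | hK)
    · exact hT
    · rw [Set.mem_singleton_iff.1 hK]
      refine (d.hyp.restr D).mem_OmS_of_zz_eq T hT d.K₃_restr ?_
      apply Subtype.ext
      rw [d.zz_coe d.mem₃, d.zz_coe d.mem₂, d.zz₃]

theorem ne_restr (d : Dat F D K₂ K₃ J τ y₂ y₃ n) : K₂.subgroupOf D ≠ K₃.subgroupOf D := by
  intro h
  have h1 := congrArg (Subgroup.map D.subtype) h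
  rw [map_subgroupOf_eq_of_le (d.le _ d.mem₂), map_subgroupOf_eq_of_le (d.le _ d.mem₃)] at h1
  exact d.ne h1

/-- the Sylow 2-subgroups of `D` -/
theorem _root_.Cfsg.Agent.Cit.EqTwoB.exists_cj {G : Type*} [Group G] [Finite G] (T T' : Sylow 2 G) :
    ∃ g : G, (T' : Subgroup G) = cj g (T : Subgroup G) := by
  haveI : Fact (Nat.Prime 2) := ⟨Nat.prime_two⟩
  obtain ⟨g, hg⟩ := MulAction.exists_smul_eq G T T'
  refine ⟨g, ?_⟩
  rw [← hg]
  ext x
  rw [mem_cj, Sylow.coe_subgroup_smul, Subgroup.mem_pointwise_smul_iff_inv_smul_mem]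
  simp [MulAut.smul_def]

theorem card_restr (d : Dat F D K₂ K₃ J τ y₂ y₃ n) (T : Sylow 2 D) :
    (OmS (restr F D) (T : Subgroup D)).ncard = 2 := by
  obtain ⟨T₀, hT₀⟩ := d.exists_T
  obtain ⟨g, hg⟩ := exists_cj T₀ T
  rw [hg, OmS_cj (d.hyp.restr D).conj, Set.ncard_image_of_injective _ fun K L hKL => cj_inj.mp hKL, hT₀,
    Set.ncard_pair d.ne_restr]

/-- the product of elements of order four of `K₂` and `K₃`, in any order -/
theorem exists_conj' (d : Dat F D K₂ K₃ J τ y₂ y₃ n) {K L : Subgroup X} (hK : K = K₂ ∨ K = K₃)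
    (hL : L = K₂ ∨ L = K₃) (hne : K ≠ L) {a b : X} (ha : a ∈ K) (hb : b ∈ L) (ha4 : orderOf a = 4)
    (hb4 : orderOf b = 4) :
    ∃ k ∈ D, k * zz K₂ = zz K₂ * k ∧ k * zz J * k⁻¹ = τ * (a * b) := by
  have hsq : ∀ {K : Subgroup X} {a : X}, (K = K₂ ∨ K = K₃) → a ∈ K → orderOf a = 4 → a * a = zz K₂ := by
    intro K a hK ha ha4
    rcases hK with rfl | rfl
    · exact d.hyp.sq_of_orderOf d.mem₂ ha ha4
    · rw [← d.zz₃]; exact d.hyp.sq_of_orderOf d.mem₃ ha ha4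
  have ha' := hsq hK ha ha4
  have hb' := hsq hL hb hb4
  have hconj : ∀ k : X, k * zz J * k⁻¹ = τ * (k * (y₂ * y₃) * k⁻¹) := by
    intro k
    rw [d.zz_J]
    calc k * (τ * (y₂ * y₃)) * k⁻¹ = (k * τ) * (y₂ * y₃) * k⁻¹ := by group
      _ = τ * (k * (y₂ * y₃) * k⁻¹) := by rw [d.cen k]; group
  rcases hK with rfl | rfl
  · rcases hL with rfl | rfl
    · exact absurd rfl hne
    · obtain ⟨k, hk, hkz, -, hke⟩ := d.exists_conj ha hb ha' hb'
      exact ⟨k, hk, hkz, by rw [hconj, hke]⟩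
  · rcases hL with rfl | rfl
    · obtain ⟨k, hk, hkz, -, hke⟩ := d.exists_conj hb ha hb' ha'
      exact ⟨k, hk, hkz, by rw [hconj, hke, d.comm hb ha]⟩
    · exact absurd rfl hne

theorem isPGroup_center (hO : pPrimeCore 2 X = ⊥) (d : Dat F D K₂ K₃ J τ y₂ y₃ n) :
    IsPGroup 2 (center D) := by
  haveI : Fact (Nat.Prime 2) := ⟨Nat.prime_two⟩
  have h1 : (center D).map D.subtype ≤ pCore 2 X := by
    rintro _ ⟨x, hx, rfl⟩
    refine CoreTools.mem_pCore_of_mem_center hO d.comp x.2 ?_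
    rw [mem_centralizer_iff]
    intro y hy
    exact congrArg Subtype.val (mem_center_iff.1 hx ⟨y, hy⟩)
  have h2 : IsPGroup 2 ((center D).map D.subtype) := (Lib.Cores.pCore_isPGroup 2).to_le h1
  intro x
  obtain ⟨k, hk⟩ := h2 ⟨_, x, x.2, rfl⟩
  refine ⟨k, ?_⟩
  have h3 := congrArg Subtype.val hk
  apply Subtype.ext
  apply Subtype.ext
  simpa using h3

/-- **the family `restr F D` modulo `Z(D)`** -/
theorem eqTZ (hO : pPrimeCore 2 X = ⊥) (d : Dat F D K₂ K₃ J τ y₂ y₃ n) :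
    EqTZ (restr F D) (center D) ⟨τ, d.τ_mem⟩ := by
  haveI : Fact (Nat.Prime 2) := ⟨Nat.prime_two⟩
  refine { hyp := d.hyp.restr D, ne := ⟨_, d.K₂_restr⟩, ty := fun K hK => tyTwo_of_map (d.ty _ hK),
           eqz := fun T K hK L hL => d.eqz_restr T.isPGroup' hK hL, two := ?_, cen := le_rfl,
           pg := d.isPGroup_center hO, mem := ?_, nz := ?_, card := d.card_restr, tt := ?_ }
  · intro T K hK
    by_contra hcon
    push Not at hcon
    have h1 : OmS (restr F D) (T : Subgroup D) ⊆ {K} := fun L hL => hcon L hL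
    have h2 := Set.ncard_le_ncard h1 (Set.toFinite _)
    rw [d.card_restr T, Set.ncard_singleton] at h2
    omega
  · rw [mem_center_iff]
    intro y
    exact Subtype.ext (d.cen y)
  · intro K hK hc
    have hKD : K.map D.subtype ≤ D := by
      rintro _ ⟨x, -, rfl⟩
      exact x.2
    have h1 := CoresH.zz_notMem_center d.hyp d.comp.2 hK hKD d.not_mem
    apply h1
    have h2 : (⟨zz (K.map D.subtype), hKD (d.hyp.zz_mem hK)⟩ : D) = zz K :=
      Subtype.ext (zz_map d.hyp hK).symm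
    rw [h2]
    exact hc
  · intro T K hK L hL hne x hx y hy hx4 hy4
    obtain ⟨T₀, hT₀⟩ := d.exists_T
    obtain ⟨g, hg⟩ := exists_cj T₀ T
    have hK' := hK
    have hL' := hL
    rw [hg, OmS_cj (d.hyp.restr D).conj] at hK' hL'
    obtain ⟨K', hK', rfl⟩ := hK'
    obtain ⟨L', hL', rfl⟩ := hL'
    rw [hT₀] at hK' hL'
    have hne' : K' ≠ L' := fun h => hne (by rw [h])
    have hcase : ∀ {K' : Subgroup D}, K' ∈ ({K₂.subgroupOf D, K₃.subgroupOf D} : Set (Subgroup D)) →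
        K'.map D.subtype = K₂ ∨ K'.map D.subtype = K₃ := by
      rintro K' (rfl | h)
      · exact Or.inl (map_subgroupOf_eq_of_le (d.le _ d.mem₂))
      · rw [Set.mem_singleton_iff.1 h]
        exact Or.inr (map_subgroupOf_eq_of_le (d.le _ d.mem₃))
    have hord : ∀ a : D, orderOf ((g⁻¹ * a * g : D) : X) = orderOf a := by
      intro a
      rw [orderOf_coe]
      have h1 := (MulAut.conj g⁻¹).orderOf_eq a
      rw [MulAut.conj_apply, inv_inv] at h1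
      exact h1
    have hx' : ((g⁻¹ * x * g : D) : X) ∈ K'.map D.subtype := ⟨_, mem_cj.1 hx.1, rfl⟩
    have hy' : ((g⁻¹ * y * g : D) : X) ∈ L'.map D.subtype := ⟨_, mem_cj.1 hy.1, rfl⟩
    obtain ⟨k, hk, -, hke⟩ := d.exists_conj' (hcase hK') (hcase hL')
      (fun h => hne' (Subgroup.map_injective D.subtype_injective h)) hx' hy' (by rw [hord, hx4]) (by rw [hord, hy4])
    have hJ : cj ((g : X) * k) J ∈ F := d.hyp.conj J d.J_mem _
    refine ⟨(cj ((g : X) * k) J).subgroupOf D, subgroupOf_mem_restr hJ (d.le _ hJ), ?_⟩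
    apply Subtype.ext
    rw [d.zz_coe hJ, d.hyp.zz_cj d.J_mem]
    calc (g : X) * k * zz J * ((g : X) * k)⁻¹ = (g : X) * (k * zz J * k⁻¹) * (g : X)⁻¹ := by group
      _ = (g : X) * (τ * (((g⁻¹ * x * g : D) : X) * ((g⁻¹ * y * g : D) : X))) * (g : X)⁻¹ := by rw [hke]
      _ = ((g : X) * τ) * ((g : X)⁻¹ * (x * y) * (g : X)) * (g : X)⁻¹ := by
          simp only [Subgroup.coe_mul, Subgroup.coe_inv]; group
      _ = τ * (x * y) := by rw [d.cen]; group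
      _ = _ := by simp only [Subgroup.coe_mul]

/-- **`D` normalises `Δ`** -/
theorem le_normalizer (hB : ∀ (X : Type u) [Group X] [Finite X] [IsSimpleGroup X], CloEnd.Bend X)
    (hC : ∀ (X : Type u) [Group X] [Finite X] [IsSimpleGroup X], CloEnd.Crit1175 X)
    (hO : pPrimeCore 2 X = ⊥) (d : Dat F D K₂ K₃ J τ y₂ y₃ n) :
    D ≤ normalizer (De (zz K₂) (zz J) : Set X) := by
  obtain ⟨T₀, hT₀⟩ := d.exists_T
  haveI : IsSimpleGroup (D ⧸ center D) := d.comp.2.2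
  have e := d.eqTZ hO
  have hzz : ∀ K ∈ OmS (restr F D) (T₀ : Subgroup D), ((zz K : D) : X) = zz K₂ := by
    intro K hK
    rw [d.eqz_restr T₀.isPGroup' hK (by rw [hT₀]; exact Or.inl rfl), d.zz_coe d.mem₂]
  have hcz : ∀ K ∈ OmS (restr F D) (T₀ : Subgroup D),
      centralizer {zz K} ≤ (normalizer (De (zz K₂) (zz J) : Set X)).subgroupOf D := by
    intro K hK g hg
    rw [mem_subgroupOf]
    refine d.cent_le (mem_centralizer_singleton_iff.2 ?_)
    have h1 := congrArg Subtype.val (mem_centralizer_singleton_iff.1 hg)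
    rw [Subgroup.coe_mul, Subgroup.coe_mul, hzz K hK] at h1
    exact h1
  have hmem₂ : K₂.subgroupOf D ∈ OmS (restr F D) (T₀ : Subgroup D) := by rw [hT₀]; exact Or.inl rfl
  have hsyl : (T₀ : Subgroup D) ≤ (normalizer (De (zz K₂) (zz J) : Set X)).subgroupOf D := by
    refine le_trans (fun s hs => ?_) (hcz _ hmem₂)
    have h1 := cj_mem_OmS (d.hyp.restr D).conj s hmem₂
    rw [mem_normalizer_iff_cj.1 (Subgroup.le_normalizer hs)] at h1
    have h2 := d.eqz_restr T₀.isPGroup' h1 hmem₂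
    rw [(d.hyp.restr D).zz_cj d.K₂_restr] at h2
    rw [mem_centralizer_singleton_iff, ← mul_inv_eq_iff_eq_mul]
    exact h2
  have htop := e.eq_top hB hC T₀ hsyl hcz ?_
  · exact subgroupOf_eq_top.1 htop
  · intro K hK L hL hne x hx y hy hx4 hy4 g hg
    rw [mem_subgroupOf]
    rw [hT₀] at hK hL
    have hcase : ∀ {K' : Subgroup D}, K' ∈ ({K₂.subgroupOf D, K₃.subgroupOf D} : Set (Subgroup D)) →
        K'.map D.subtype = K₂ ∨ K'.map D.subtype = K₃ := by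
      rintro K' (rfl | h)
      · exact Or.inl (map_subgroupOf_eq_of_le (d.le _ d.mem₂))
      · rw [Set.mem_singleton_iff.1 h]
        exact Or.inr (map_subgroupOf_eq_of_le (d.le _ d.mem₃))
    obtain ⟨k, hk, hkz, hke⟩ := d.exists_conj' (hcase hK) (hcase hL)
      (fun h => hne (Subgroup.map_injective D.subtype_injective h)) (a := (x : X)) (b := (y : X)) ⟨x, hx.1, rfl⟩
      ⟨y, hy.1, rfl⟩ (by rw [orderOf_coe, hx4]) (by rw [orderOf_coe, hy4])
    have hkN : k ∈ normalizer (De (zz K₂) (zz J) : Set X) := d.cent_le (mem_centralizer_singleton_iff.2 hkz)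
    have hg1 : (g : X) * (τ * ((x : X) * y)) = (τ * ((x : X) * y)) * g :=
      congrArg Subtype.val (mem_centralizer_singleton_iff.1 hg)
    rw [← hke] at hg1
    have h2 : k⁻¹ * (g : X) * k ∈ normalizer (De (zz K₂) (zz J) : Set X) := by
      refine d.cent_le_s (mem_centralizer_singleton_iff.2 ?_)
      calc k⁻¹ * (g : X) * k * zz J = k⁻¹ * ((g : X) * (k * zz J * k⁻¹)) * k := by group
        _ = k⁻¹ * ((k * zz J * k⁻¹) * g) * k := by rw [hg1]
        _ = zz J * (k⁻¹ * (g : X) * k) := by group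
    have h3 : (g : X) = k * (k⁻¹ * (g : X) * k) * k⁻¹ := by group
    rw [h3]
    exact mul_mem (mul_mem hkN h2) (inv_mem hkN)

/-- **`Δ` centralises `D`** -/
theorem le_centralizer (hB : ∀ (X : Type u) [Group X] [Finite X] [IsSimpleGroup X], CloEnd.Bend X)
    (hC : ∀ (X : Type u) [Group X] [Finite X] [IsSimpleGroup X], CloEnd.Crit1175 X)
    (hO : pPrimeCore 2 X = ⊥) (hev : Comp.EvQ X) (d : Dat F D K₂ K₃ J τ y₂ y₃ n) :
    De (zz K₂) (zz J) ≤ centralizer (D : Set X) := by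
  have hN := d.le_normalizer hB hC hO
  haveI hDn : D.Normal := d.nor
  have hodd : ¬ 2 ∣ Nat.card (De (zz K₂) (zz J) ⊓ D : Subgroup X) := fun h =>
    odd_XX (zz K₂) (h.trans (card_dvd_of_le (inf_le_left.trans (inf_le_left.trans inf_le_left))))
  have hnn : ((De (zz K₂) (zz J) ⊓ D : Subgroup X).subgroupOf D).Normal :=
    normal_subgroupOf_of_le_normalizer (by
      intro g hg
      rw [mem_normalizer_iff_cj, cj_inf, mem_normalizer_iff_cj.1 (hN hg),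
        mem_normalizer_iff_cj.1 (Subgroup.le_normalizer hg)])
  have hcen : De (zz K₂) (zz J) ⊓ D ≤ centralizer (D : Set X) := by
    rcases quasisimple_normal d.comp.2 _ hnn with h1 | h1
    · exfalso
      rw [subgroupOf_eq_top] at h1
      exact hodd ((hev D d.comp.2).trans (card_dvd_of_le h1))
    · intro x hx
      rw [mem_centralizer_iff]
      intro y hy
      have h2 : (⟨x, hx.2⟩ : D) ∈ center D := h1 hx
      exact congrArg Subtype.val (mem_center_iff.1 h2 ⟨y, hy⟩)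
  intro u hu
  have hperf : ⁅D, D⁆ = D := by
    have h1 : _root_.commutator D = ⊤ := d.comp.2.1.commutator_eq_top
    have h2 := Subgroup.map_subtype_commutator D
    rw [h1, ← MonoidHom.range_eq_map, Subgroup.range_subtype] at h2
    exact h2.symm
  refine CoreTools.mem_centralizer_of_commutator hperf ?_ ?_
  · intro e he
    refine hcen ⟨?_, ?_⟩
    · have h1 := (mem_normalizer_iff.1 (hN (D.inv_mem he)) u).1 hu
      rw [inv_inv] at h1
      have h2 := (De (zz K₂) (zz J)).mul_mem h1 ((De (zz K₂) (zz J)).inv_mem hu)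
      have h3 : e⁻¹ * u * e * u⁻¹ = e⁻¹ * (u * e * u⁻¹) := by group
      rwa [h3] at h2
    · exact D.mul_mem (D.inv_mem he) (hDn.conj_mem e he u)
  · intro e he
    exact hDn.conj_mem e he u

end Dat

end Cfsg.Agent.Cit.EqTwoB
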