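import Cfsg.Agent.Cit.EqClose
import Cfsg.Agent.Lib.DihedralRecog

/-!
# All involutions `z_K`, `K ∈ Om(S)`, equal: the types of a commuting pair `z ≠ z'`

bb R18 #8092 (T), class free. `z = zz K`, `z' = zz L` (`K, L ∈ Om`) different and commuting.

`PairS z z' U T T'` : `U` Sylow in `C(z) ⊓ C(z')`, `U ≤ T` Sylow in `C(z)`, `U ≤ T'` Sylow in `C(z')`.
`Inner z z' Q c v n` : `Q = ⟨c, v⟩` generalised quaternion (`GQ Q c v z n`), `z'` centralises `c`, `v ↦ v z`
(so `z'` acts as `c ^ 2 ^ n`, of order four, and `C_Q(z') = ⟨c⟩`).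

* `TypeOne Om z z'` : some `y ∈ L ∈ Om`, `y² = z' = zz L`, commutes with `z`.
* `TypeOne.inner` : then `z'` normalises every `K ∈ Om` with `zz K = z` and `Inner z z' (K ⊓ T) c v n`;
* `TypeOne.exists_four`, `TypeOne.symm` : the exchange.
-/

set_option autoImplicit false
set_option linter.style.haveILetI false
set_option linter.unusedSectionVars false

namespace Cfsg.Agent.Cit.EqType

open Subgroup Cfsg Cfsg.Agent.Cit.EqClose

variable {G : Type*} [Group G]

/-- the set-up for a commuting pair of involutions -/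
structure PairS (z z' : G) (U T T' : Subgroup G) : Prop where
  syl : Syl U (centralizer {z} ⊓ centralizer {z'})
  sylT : Syl T (centralizer {z})
  sylT' : Syl T' (centralizer {z'})
  le : U ≤ T
  le' : U ≤ T'

namespace PairS

variable {z z' : G} {U T T' : Subgroup G}

theorem symm (p : PairS z z' U T T') : PairS z' z U T' T :=
  ⟨by rw [inf_comm]; exact p.syl, p.sylT', p.sylT, p.le', p.le⟩

theorem inf [Finite G] (p : PairS z z' U T T') : T ⊓ centralizer {z'} ≤ U := by
  have h1 := p.syl.eq_of_le (R := T ⊓ centralizer {z'}) (le_inf p.le (p.syl.1.trans inf_le_right))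
    (inf_le_inf_right _ p.sylT.1) (p.sylT.2.1.to_le inf_le_left)
  exact h1.ge

theorem mem [Finite G] (p : PairS z z' U T T') {x : G} (hx : x ∈ T) (hz : x * z' = z' * x) : x ∈ U :=
  p.inf ⟨hx, mem_centralizer_singleton_iff.2 hz⟩

theorem comm_left (p : PairS z z' U T T') {x : G} (hx : x ∈ U) : x * z = z * x :=
  mem_centralizer_singleton_iff.1 (p.syl.1 hx).1

theorem comm_right (p : PairS z z' U T T') {x : G} (hx : x ∈ U) : x * z' = z' * x :=
  mem_centralizer_singleton_iff.1 (p.syl.1 hx).2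

end PairS

theorem exists_pairS [Finite G] {z z' : G} {P : Subgroup G} (hP : IsPGroup 2 P)
    (hP1 : P ≤ centralizer {z} ⊓ centralizer {z'}) : ∃ U T T', PairS z z' U T T' ∧ P ≤ U := by
  obtain ⟨U, hU, hPU⟩ := exists_syl_ge hP hP1
  obtain ⟨T, hT, hUT⟩ := exists_syl_ge hU.2.1 (hU.1.trans inf_le_left)
  obtain ⟨T', hT', hUT'⟩ := exists_syl_ge hU.2.1 (hU.1.trans inf_le_right)
  exact ⟨U, T, T', ⟨hU, hT, hT', hUT, hUT'⟩, hPU⟩

/-- `z'` acts on the generalised quaternion group `Q = ⟨c, v⟩` as the element `c ^ 2 ^ n` of order four -/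
structure Inner (z z' : G) (Q : Subgroup G) (c v : G) (n : ℕ) : Prop where
  gq : GQ Q c v z n
  comm : z' * c = c * z'
  act : z' * v * z'⁻¹ = v * z

/-- an element of square `z'` of a member with involution `z'` commutes with `z` -/
def TypeOne (Om : Set (Subgroup G)) (z z' : G) : Prop :=
  ∃ L ∈ Om, zz L = z' ∧ ∃ y ∈ L, y * y = z' ∧ y * z = z * y

section Main

variable [Finite G] {Om : Set (Subgroup G)} {K L U T T' : Subgroup G}

/-- a Sylow 2-subgroup of a member centralises no other `zz L` -/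
theorem zz_eq_of_comm (e : EqZ Om) (hK : K ∈ Om) (hL : L ∈ Om) {Q : Subgroup G} (hQ : Syl Q K)
    (hc : ∀ q ∈ Q, q * zz L = zz L * q) : zz K = zz L := by
  obtain ⟨T, hT, hQT⟩ := exists_syl_ge hQ.2.1 (C := centralizer {zz L})
    fun q hq => mem_centralizer_singleton_iff.2 (hc q hq)
  exact e.eq_zz hT.2.1 (mem_OmS_of_le hK hQ hQT) (e.hyp.mem_OmS_of_syl hL hT)

theorem PairS.mem_OmS (e : EqZ Om) (p : PairS (zz K) (zz L) U T T') {J : Subgroup G} (hJ : J ∈ Om)
    (hz : zz J = zz K) : J ∈ OmS Om T := by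
  have := p.sylT
  rw [← hz] at this
  exact e.hyp.mem_OmS_of_syl hJ this

/-- the centraliser of a `c ↦ c z`, `v` fixed automorphism in a generalised quaternion group -/
theorem isQ_of_coord {Q : Subgroup G} {c v z f : G} {n : ℕ} (h : GQ Q c v z n) (hn : n ≠ 0)
    (hc : f * c * f⁻¹ = c * z) (hv : f * v = v * f) : AutQuat.IsQ (Q ⊓ centralizer {f}) := by
  obtain ⟨m, rfl⟩ := Nat.exists_eq_succ_of_ne_zero hn
  have hcz : Commute c z := h.commute_c_z
  have hzz := h.z_mul
  have hc2 : f * (c * c) * f⁻¹ = c * c := by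
    calc f * (c * c) * f⁻¹ = (f * c * f⁻¹) * (f * c * f⁻¹) := by group
      _ = c * z * (c * z) := by rw [hc]
      _ = c * (z * c) * z := by group
      _ = c * (c * z) * z := by rw [hcz.eq]
      _ = c * c * (z * z) := by group
      _ = c * c := by rw [hzz, mul_one]
  have hc2' : (c * c) * f = f * (c * c) := by
    rw [mul_inv_eq_iff_eq_mul] at hc2; exact hc2.symm
  have hcf : c * f ≠ f * c := by
    intro h1
    rw [← h1, mul_inv_cancel_right] at hc
    exact h.z_ne (mul_left_cancel (a := c) (by rw [mul_one]; exact hc.symm))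
  have hmem : ∀ i : ℕ, c ^ i * f = f * c ^ i → Even i := by
    intro i hi
    by_contra hodd
    rw [Nat.not_even_iff_odd] at hodd
    obtain ⟨k, rfl⟩ := hodd
    apply hcf
    have h1 : Commute (c ^ (2 * k)) f := by
      rw [pow_mul, pow_two]
      exact (show Commute (c * c) f from hc2').pow_left k
    rw [pow_succ] at hi
    have h2 : c ^ (2 * k) * (c * f) = c ^ (2 * k) * (f * c) := by
      rw [← mul_assoc, hi, ← mul_assoc, ← mul_assoc, h1.eq]
    exact mul_left_cancel h2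
  have heq : Q ⊓ centralizer {f} = Subgroup.closure {c * c, v} := by
    apply le_antisymm
    · rintro q ⟨hq, hqf⟩
      have hqf' := mem_centralizer_singleton_iff.1 hqf
      have hcc : ∀ i : ℕ, Even i → c ^ i ∈ Subgroup.closure {c * c, v} := by
        rintro i ⟨k, rfl⟩
        have : c ^ (k + k) = (c * c) ^ k := by rw [← two_mul, pow_mul, pow_two]
        rw [this]
        exact pow_mem (Subgroup.subset_closure (by simp)) k
      rcases h.cov q hq with ⟨i, rfl⟩ | ⟨i, rfl⟩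
      · exact hcc i (hmem i hqf')
      · refine mul_mem (Subgroup.subset_closure (by simp)) (hcc i (hmem i ?_))
        have h2 : v * (c ^ i * f) = v * (f * c ^ i) := by
          rw [← mul_assoc, hqf', ← mul_assoc, ← mul_assoc, hv]
        exact mul_left_cancel h2
    · rw [Subgroup.closure_le]
      rintro x (rfl | rfl)
      · exact ⟨Q.mul_mem h.c_mem h.c_mem, mem_centralizer_singleton_iff.2 hc2'⟩
      · exact ⟨h.v_mem, mem_centralizer_singleton_iff.2 hv.symm⟩
  rw [heq]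
  refine ⟨m, ?_⟩
  refine Lib.DihedralRecog.closure_quaternion (c * c) v ?_ ?_ ?_ ?_
  · rw [← pow_two, orderOf_pow, h.ord]
    have : 2 ^ (m + 1 + 2) = 2 * (2 * 2 ^ (m + 1)) := by ring
    rw [Nat.succ_eq_add_one, this, Nat.gcd_mul_right_left, Nat.mul_div_cancel_left _ (by norm_num)]
  · rw [h.v_sq, ← h.z_eq, ← pow_two, ← pow_mul]
    congr 1
    rw [Nat.succ_eq_add_one]; ring
  · have h1 := h.conj
    calc v * (c * c) * v⁻¹ = (v * c * v⁻¹) * (v * c * v⁻¹) := by group
      _ = (c * c)⁻¹ := by rw [h1]; group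
  · intro hvc
    apply h.v_not_mem
    have h2 : zpowers (c * c) ≤ zpowers c :=
      zpowers_le.2 (mul_mem (mem_zpowers c) (mem_zpowers c))
    exact h2 hvc

/-- another choice of the second generator -/
theorem gq_mul {Q : Subgroup G} {c v z : G} {n : ℕ} (h : GQ Q c v z n) : GQ Q c (v * c) z n := by
  refine ⟨h.c_mem, Q.mul_mem h.v_mem h.c_mem, h.ord, h.z_eq, ?_, ?_, ?_⟩
  · have := h.sq_out 1
    rwa [pow_one] at this
  · calc v * c * c * (v * c)⁻¹ = v * c * v⁻¹ := by group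
      _ = c⁻¹ := h.conj
  · intro x hx
    rcases h.cov x hx with ⟨i, hi⟩ | ⟨i, hi⟩
    · exact Or.inl ⟨i, hi⟩
    · right
      refine ⟨i + (2 ^ (n + 2) - 1), ?_⟩
      have h1 : 1 ≤ 2 ^ (n + 2) := Nat.one_le_two_pow
      have h2 : c * c ^ (i + (2 ^ (n + 2) - 1)) = c ^ i := by
        rw [← pow_succ', show i + (2 ^ (n + 2) - 1) + 1 = i + 2 ^ (n + 2) by omega, pow_add, h.pow_ord, mul_one]
      rw [mul_assoc, h2, hi]

/-- **type I, first half** -/
theorem exists_inner (e : EqZ Om) (hK : K ∈ Om) (hL : L ∈ Om) (p : PairS (zz K) (zz L) U T T')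
    (hne : zz K ≠ zz L) {y : G} (hyU : y ∈ U) (hyL : y ∈ L) (hy2 : y * y = zz L) :
    zz L ∈ normalizer (K : Set G) ∧ ∃ c v n, Inner (zz K) (zz L) (K ⊓ T) c v n ∧
      ∀ g ∈ T ⊓ normalizer (K : Set G), g * c * g⁻¹ ∈ zpowers c := by
  have h := e.hyp
  have hT2 := p.sylT.2.1
  have hT'2 := p.sylT'.2.1
  have hy4 : orderOf y = 4 := h.orderOf_of_sq hL hy2
  have hyN : y ∈ normalizer (K : Set G) :=
    h.h3 L hL K hK y hyL (isPGroup_zpowers p.syl.2.1 hyU) hy4.ge (p.comm_left hyU)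
  obtain ⟨f, hf⟩ : ∃ f, f = zz L := ⟨_, rfl⟩
  have hfN : f ∈ normalizer (K : Set G) := by rw [hf, ← hy2]; exact mul_mem hyN hyN
  refine ⟨by rw [← hf]; exact hfN, ?_⟩
  have hff : f * f = 1 := by rw [hf]; exact h.zz_mul hL
  have hfi : f⁻¹ = f := inv_eq_of_mul_eq_one_right hff
  have hfU : f ∈ U := by rw [hf, ← hy2]; exact mul_mem hyU hyU
  -- the Sylow subgroup `Q = K ⊓ T`
  have hKT : K ∈ OmS Om T := p.mem_OmS e hK rfl
  have hQ : Syl (K ⊓ T) K := syl_inf hT2 hKT
  have hPn : T ⊓ normalizer (K : Set G) ≤ normalizer ((K ⊓ T : Subgroup G) : Set G) := by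
    rintro t ⟨ht, htK⟩
    rw [mem_normalizer_iff_cj, cj_inf, mem_normalizer_iff_cj.1 htK, mem_normalizer_iff_cj.1 (le_normalizer ht)]
  obtain ⟨c, v, n, hq, hqP⟩ := h.exists_gq_cyclic hK hQ (hT2.to_le inf_le_left) hPn
  have hyP : y ∈ T ⊓ normalizer (K : Set G) := ⟨p.le hyU, hyN⟩
  have hfP : f ∈ T ⊓ normalizer (K : Set G) := ⟨p.le hfU, hfN⟩
  have hfQ := hPn hfP
  have hconj : ∀ g ∈ T ⊓ normalizer (K : Set G), ∀ x ∈ zpowers c, g * x * g⁻¹ ∈ zpowers c := by
    intro g hg x hx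
    obtain ⟨k, rfl⟩ := mem_zpowers_iff.1 hx
    rw [← conj_zpow]
    exact zpow_mem (hqP g hg) k
  have hcomm : ∀ x ∈ zpowers c, ∀ x' ∈ zpowers c, x * x' = x' * x := by
    intro x hx x' hx'
    obtain ⟨k, rfl⟩ := mem_zpowers_iff.1 hx
    obtain ⟨k', rfl⟩ := mem_zpowers_iff.1 hx'
    rw [← zpow_add, ← zpow_add, add_comm]
  have hzz := h.zz_mul hK
  have hcz : c * zz K = zz K * c := hq.commute_c_z
  have hvz : v * zz K = zz K * v := hq.commute_v_z
  -- the element `w`
  obtain ⟨w, hw⟩ : ∃ w, w = c ^ 2 ^ n := ⟨_, rfl⟩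
  have hwc : w ∈ zpowers c := by rw [hw]; exact pow_mem (mem_zpowers c) _
  have hww : w * w = zz K := by rw [hw]; exact hq.w_sq
  have hwz : w * zz K = zz K * w := by rw [← hww, mul_assoc]
  have hzf : zz K * f = f * zz K := (p.comm_left hfU).symm
  have hsq : ∀ g, g * zz K = zz K * g → g * w * g⁻¹ ∈ zpowers c → g * w * g⁻¹ = w ∨ g * w * g⁻¹ = w * zz K := by
    intro g hgz hg
    rw [hw] at hg ⊢
    refine hq.eq_w_of_sq hg ?_
    rw [← hw]
    calc g * w * g⁻¹ * (g * w * g⁻¹) = g * (w * w) * g⁻¹ := by group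
      _ = zz K := by rw [hww, hgz, mul_inv_cancel_right]
  have hyw := hsq y (p.comm_left hyU) (hconj y hyP w hwc)
  have hfw : f * w * f⁻¹ = w := by
    have h1 : f * w * f⁻¹ = y * (y * w * y⁻¹) * y⁻¹ := by rw [hf, ← hy2]; group
    rw [h1]
    rcases hyw with h2 | h2
    · rw [h2, h2]
    · rw [h2]
      calc y * (w * zz K) * y⁻¹ = (y * w * y⁻¹) * (y * zz K * y⁻¹) := by group
        _ = w * zz K * zz K := by rw [h2, p.comm_left hyU, mul_inv_cancel_right]
        _ = w := by rw [mul_assoc, hzz, mul_one]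
  -- `f c f⁻¹ = c` or `c z`
  have hfc : f * c * f⁻¹ = c ∨ f * c * f⁻¹ = c * zz K := by
    obtain ⟨d, hd⟩ : ∃ d, d = c⁻¹ * (f * c * f⁻¹) := ⟨_, rfl⟩
    have hfcc := hconj f hfP c (mem_zpowers c)
    have hdc : d ∈ zpowers c := by rw [hd]; exact mul_mem (inv_mem (mem_zpowers c)) hfcc
    have hfd : f * d * f⁻¹ = d⁻¹ := by
      have h1 := hcomm _ hfcc c (mem_zpowers c)
      calc f * d * f⁻¹ = (f * c * f⁻¹)⁻¹ * ((f * f) * c * (f * f)⁻¹) := by rw [hd]; group
        _ = (f * c * f⁻¹)⁻¹ * c := by rw [hff]; group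
        _ = d⁻¹ := by rw [hd]; group
    have hd2 : d * d = 1 := by
      by_contra hne2
      obtain ⟨g, hg, hgg⟩ := CloseFus.exists_pow_sq h hK hQ (hq.zpowers_le hdc) hne2
      have hgc : g ∈ zpowers c := (zpowers_le.2 hdc) hg
      have h2 : f * g * f⁻¹ = g⁻¹ := by
        obtain ⟨j, rfl⟩ := mem_zpowers_iff.1 hg
        rw [← conj_zpow, hfd, inv_zpow]
      have h3 : f * g * f⁻¹ = g := by
        have h4 : g = w ∨ g = w * zz K := by
          rw [hw]; exact hq.eq_w_of_sq hgc hgg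
        rcases h4 with h4 | h4
        · rw [h4, hfw]
        · rw [h4]
          calc f * (w * zz K) * f⁻¹ = (f * w * f⁻¹) * (f * zz K * f⁻¹) := by group
            _ = w * zz K := by rw [hfw, ← hzf, mul_inv_cancel_right]
      have h4 : g * g = 1 := by
        nth_rewrite 2 [← h3]
        rw [h2, mul_inv_cancel]
      exact h.zz_ne hK (by rw [← hgg, h4])
    by_cases hd1 : d = 1
    · left
      rw [hd, inv_mul_eq_one] at hd1
      exact hd1.symm
    · right
      have := h.eq_zz hK (hQ.1 (hq.zpowers_le hdc)) hd2 hd1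
      rw [← this, hd]; group
  -- `f v f⁻¹ = v` or `v z`
  have hfv : f * v * f⁻¹ = v ∨ f * v * f⁻¹ = v * zz K := by
    obtain ⟨j, hj⟩ := hq.exists_act hfQ (by
      have := hconj f⁻¹ (inv_mem hfP) c (mem_zpowers c)
      rwa [inv_inv] at this)
    have h1 : c ^ j * (f * c ^ j * f⁻¹) = 1 := by
      have h2 : f * (f * v * f⁻¹) * f⁻¹ = v := by
        calc f * (f * v * f⁻¹) * f⁻¹ = (f * f) * v * (f * f)⁻¹ := by group
          _ = v := by rw [hff]; group
      rw [hj] at h2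
      have h3 : v * (c ^ j * (f * c ^ j * f⁻¹)) = v := by
        calc v * (c ^ j * (f * c ^ j * f⁻¹)) = (v * c ^ j) * (f * c ^ j * f⁻¹) := by group
          _ = (f * v * f⁻¹) * (f * c ^ j * f⁻¹) := by rw [hj]
          _ = f * (v * c ^ j) * f⁻¹ := by group
          _ = v := h2
      exact mul_eq_left.1 h3
    have hcj : c ^ j ∈ zpowers c := zpow_mem (mem_zpowers c) j
    have h2 : f * c ^ j * f⁻¹ = (c ^ j)⁻¹ := (eq_inv_of_mul_eq_one_right h1)
    -- as before
    have h3 : c ^ j * c ^ j = 1 := by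
      by_contra hne2
      obtain ⟨g, hg, hgg⟩ := CloseFus.exists_pow_sq h hK hQ (hq.zpowers_le hcj) hne2
      have hgc : g ∈ zpowers c := (zpowers_le.2 hcj) hg
      have h4 : f * g * f⁻¹ = g⁻¹ := by
        obtain ⟨i, rfl⟩ := mem_zpowers_iff.1 hg
        rw [← conj_zpow, h2, inv_zpow]
      have h5 : f * g * f⁻¹ = g := by
        have h6 : g = w ∨ g = w * zz K := by
          rw [hw]; exact hq.eq_w_of_sq hgc hgg
        rcases h6 with h6 | h6
        · rw [h6, hfw]
        · rw [h6]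
          calc f * (w * zz K) * f⁻¹ = (f * w * f⁻¹) * (f * zz K * f⁻¹) := by group
            _ = w * zz K := by rw [hfw, ← hzf, mul_inv_cancel_right]
      have h6 : g * g = 1 := by
        nth_rewrite 2 [← h5]
        rw [h4, mul_inv_cancel]
      exact h.zz_ne hK (by rw [← hgg, h6])
    by_cases h4 : c ^ j = 1
    · left; rw [hj, h4, mul_one]
    · right; rw [hj, h.eq_zz hK (hQ.1 (hq.zpowers_le hcj)) h3 h4]
  rcases hfc with hfc | hfc
  · -- inner case
    rcases hfv with hfv | hfv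
    · exfalso
      apply hne
      refine zz_eq_of_comm e hK hL hQ ?_
      rw [← hf]
      intro q hqq
      have h1 : K ⊓ T ≤ centralizer {f} := by
        refine hq.le_of_mem (q := v) ?_ hq.v_mem hq.v_not_mem ?_
        · exact mem_centralizer_singleton_iff.2 (mul_inv_eq_iff_eq_mul.1 hfc).symm
        · exact mem_centralizer_singleton_iff.2 (mul_inv_eq_iff_eq_mul.1 hfv).symm
      exact mem_centralizer_singleton_iff.1 (h1 hqq)
    · rw [← hf]
      exact ⟨c, v, n, ⟨hq, mul_inv_eq_iff_eq_mul.1 hfc, hfv⟩, hqP⟩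
  · -- field case
    exfalso
    have hn : n ≠ 0 := by
      rintro rfl
      rw [pow_zero, pow_one] at hw
      rw [hw, hfc] at hfw
      exact h.zz_ne hK (mul_eq_left.1 hfw)
    have hR : AutQuat.IsQ (K ⊓ T ⊓ centralizer {f}) := by
      rcases hfv with hfv | hfv
      · exact isQ_of_coord hq hn hfc (mul_inv_eq_iff_eq_mul.1 hfv)
      · refine isQ_of_coord (gq_mul hq) hn hfc ?_
        refine mul_inv_eq_iff_eq_mul.1 ?_
        calc f * (v * c) * f⁻¹ = (f * v * f⁻¹) * (f * c * f⁻¹) := by group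
          _ = v * zz K * (c * zz K) := by rw [hfv, hfc]
          _ = v * (zz K * c) * zz K := by group
          _ = v * c * (zz K * zz K) := by rw [← hcz]; group
          _ = v * c := by rw [hzz, mul_one]
    obtain ⟨R, hRe⟩ : ∃ R, R = K ⊓ T ⊓ centralizer {f} := ⟨_, rfl⟩
    rw [← hRe] at hR
    have hRU : R ≤ U := by
      rw [hRe, hf]
      exact (inf_le_inf_right _ inf_le_right).trans p.inf
    have hRK : R ≤ K := by rw [hRe]; exact inf_le_left.trans inf_le_left
    have hRL : R ≤ normalizer (L : Set G) := by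
      refine hR.le_of_four fun x hx hx4 => ?_
      exact h.h3 K hK L hL x (hRK hx) (isPGroup_zpowers p.syl.2.1 (hRU hx)) hx4.ge (p.comm_right (hRU hx))
    have hLT : L ∈ OmS Om T' := p.symm.mem_OmS e hL rfl
    have hQ' : Syl (L ⊓ T') L := syl_inf hT'2 hLT
    have hRQ : R ≤ normalizer ((L ⊓ T' : Subgroup G) : Set G) := by
      intro x hx
      rw [mem_normalizer_iff_cj, cj_inf, mem_normalizer_iff_cj.1 (hRL hx),
        mem_normalizer_iff_cj.1 (le_normalizer (p.le' (hRU hx)))]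
    have hzR : zz K ∈ R := by
      rw [hRe]
      exact ⟨hq.z_mem, mem_centralizer_singleton_iff.2 hzf⟩
    obtain ⟨c', v', n', hq'⟩ := h.exists_gq hL hQ'
    have hcom := AutQuat.IsQ.commute_of_normalizes (Q := L ⊓ T') (R := R) (h.isGQ hL hQ') hR hq'.z_mem
      (h.orderOf_zz hL) hzR (h.orderOf_zz hK) (fun t ht ht2 => h.uniq K hK t (hRK ht) ht2) hne.symm hRQ (by
        intro x hx hx4 hxz
        have hxU : x ∈ U := p.symm.mem hx.2 hxz
        have hxK : x ∈ normalizer (K : Set G) :=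
          h.h3 L hL K hK x hx.1 (isPGroup_zpowers p.syl.2.1 hxU) hx4 hxz
        have hxf : x * f = f * x := by rw [hf]; exact p.comm_right hxU
        rw [mem_normalizer_iff_cj, hRe, cj_inf, cj_inf, mem_normalizer_iff_cj.1 hxK,
          mem_normalizer_iff_cj.1 (le_normalizer (p.le hxU)), cj_centralizer, hxf, mul_inv_cancel_right])
    apply hne
    refine (zz_eq_of_comm e hL hK hQ' fun q hqq => ?_).symm
    exact (hcom _ hzR q hqq).symm

/-- **type I** : `z'` acts on `K ⊓ T` as the element of order four of an invariant cyclic subgroup of index two,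
for every member `K` over `z` -/
theorem TypeOne.inner (e : EqZ Om) (hK : K ∈ Om) {z' : G} (h1 : TypeOne Om (zz K) z') (hne : zz K ≠ z')
    (p : PairS (zz K) z' U T T') : z' ∈ normalizer (K : Set G) ∧ ∃ c v n, Inner (zz K) z' (K ⊓ T) c v n ∧
      ∀ g ∈ T ⊓ normalizer (K : Set G), g * c * g⁻¹ ∈ zpowers c := by
  have h := e.hyp
  obtain ⟨L, hL, hz, y, hyL, hy2, hyz⟩ := h1
  have hy4 : orderOf y = 4 := by
    rw [← hz] at hy2; exact h.orderOf_of_sq hL hy2
  have hyp : IsPGroup 2 (zpowers y) := by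
    refine IsPGroup.of_card (n := 2) ?_
    rw [Nat.card_zpowers, hy4]
    norm_num
  have hyz' : y * z' = z' * y := by rw [← hy2, mul_assoc]
  obtain ⟨U₁, hU₁, hyU₁⟩ := exists_syl_ge hyp (C := centralizer {zz K} ⊓ centralizer {z'})
    (zpowers_le.2 ⟨mem_centralizer_singleton_iff.2 hyz, mem_centralizer_singleton_iff.2 hyz'⟩)
  obtain ⟨k, hk, hkU⟩ := hU₁.exists_conj p.syl
  have hkz' := mem_centralizer_singleton_iff.1 hk.2
  have hzk : zz (cj k L) = z' := by
    rw [h.zz_cj hL, hz, hkz', mul_inv_cancel_right]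
  have hyk : k * y * k⁻¹ ∈ U := by
    rw [← hkU]; exact conj_mem_cj (hyU₁ (mem_zpowers y))
  rw [← hzk] at p hne ⊢
  refine exists_inner e hK (h.conj L hL k) p hne hyk (conj_mem_cj hyL) ?_
  calc k * y * k⁻¹ * (k * y * k⁻¹) = k * (y * y) * k⁻¹ := by group
    _ = zz (cj k L) := by rw [hy2, hzk, hkz', mul_inv_cancel_right]

theorem TypeOne.comm {z z' : G} (h1 : TypeOne Om z z') : z * z' = z' * z := by
  obtain ⟨L, hL, hz, y, hyL, hy2, hyz⟩ := h1
  rw [← hy2, ← mul_assoc, ← hyz, mul_assoc, ← hyz, mul_assoc]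

theorem exists_pairS' (z z' : G) : ∃ U T T', PairS z z' U T T' := by
  obtain ⟨U, T, T', p, -⟩ := exists_pairS (z := z) (z' := z') (P := ⊥) IsPGroup.of_bot bot_le
  exact ⟨U, T, T', p⟩

/-- the exchange: every member over `z` contains an element of order four commuting with `z'` -/
theorem TypeOne.exists_four (e : EqZ Om) (hK : K ∈ Om) {z' : G} (h1 : TypeOne Om (zz K) z') (hne : zz K ≠ z') :
    ∃ x ∈ K, x * x = zz K ∧ x * z' = z' * x := by
  obtain ⟨U, T, T', p⟩ := exists_pairS' (zz K) z'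
  obtain ⟨-, c, v, n, hi, -⟩ := h1.inner e hK hne p
  refine ⟨c ^ 2 ^ n, K.pow_mem hi.gq.c_mem.1 _, hi.gq.w_sq, ?_⟩
  exact ((show Commute c z' from hi.comm.symm).pow_left _).eq

theorem TypeOne.symm (e : EqZ Om) (hK : K ∈ Om) {z' : G} (h1 : TypeOne Om (zz K) z') (hne : zz K ≠ z') :
    TypeOne Om z' (zz K) := by
  obtain ⟨x, hx, hx2, hxz⟩ := h1.exists_four e hK hne
  exact ⟨K, hK, rfl, x, hx, hx2, hxz⟩

theorem TypeOne.conj (h : Hyp Om) {z z' : G} (h1 : TypeOne Om z z') (g : G) :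
    TypeOne Om (g * z * g⁻¹) (g * z' * g⁻¹) := by
  obtain ⟨L, hL, hz, y, hyL, hy2, hyz⟩ := h1
  refine ⟨cj g L, h.conj L hL g, by rw [h.zz_cj hL, hz], g * y * g⁻¹, conj_mem_cj hyL, ?_, ?_⟩
  · rw [← hy2]; group
  · calc g * y * g⁻¹ * (g * z * g⁻¹) = g * (y * z) * g⁻¹ := by group
      _ = g * z * g⁻¹ * (g * y * g⁻¹) := by rw [hyz]; group

end Main

end Cfsg.Agent.Cit.EqType
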