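import Cfsg.Agent.Cit.ExLocal
import Cfsg.Agent.S0276

/-!
# (EX): the parabolics of the members are good (project CIT)

THEOREM `In.good`: `G` simple, one class, commuting graph connected, (C) and THEOREM T at the involutions `zz K`,
trivial cores, every piece of `C(zz N) / O(C(zz N))` which is not a member has a chart. Then all members are `SL(2, F)`,
`F` of characteristic `p`, and `Good p X (zz K)` for all `K ∈ Om` and `X ≤ K`, `|X| = |F|`.
-/

set_option autoImplicit false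
set_option linter.dupNamespace false
set_option linter.style.haveILetI false
set_option linter.unusedSectionVars false

namespace Cfsg.Agent.Cit.ExMain

open Subgroup Cfsg Relation Cfsg.Agent.Cit.UseT Cfsg.Agent.Cit.PieceLift Cfsg.Agent.Cit.PieceG
open Cfsg.Agent.Cit.PieceLoc Cfsg.Agent.Cit.FrameOf Cfsg.Agent.Cit.ParabSL2 Cfsg.Agent.Cit.Exact
open Cfsg.Agent.Cit.TypeDet Cfsg.Agent.Cit.GoodOf Cfsg.Agent.Cit.ExLocal Cfsg.Agent.Cit.ExConst
open scoped commutatorElement

/-! ### Fields -/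

theorem card_eq_of_sl {F F' : Type*} [Field F] [Fintype F] [Field F'] [Fintype F']
    (e : Matrix.SpecialLinearGroup (Fin 2) F ≃* Matrix.SpecialLinearGroup (Fin 2) F') :
    Fintype.card F = Fintype.card F' := by
  have h1 := S0276.card_sl_two (F := F) (q := Fintype.card F) rfl
  have h2 := S0276.card_sl_two (F := F') (q := Fintype.card F') rfl
  have h3 : Nat.card (Matrix.SpecialLinearGroup (Fin 2) F) = Nat.card (Matrix.SpecialLinearGroup (Fin 2) F') :=
    Nat.card_congr e.toEquiv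
  rw [h1, h2] at h3
  have a1 : 1 < Fintype.card F := Fintype.one_lt_card
  have a2 : 1 < Fintype.card F' := Fintype.one_lt_card
  generalize Fintype.card F = q at *
  generalize Fintype.card F' = q' at *
  by_contra hne
  rcases lt_or_gt_of_ne hne with h | h
  · have h4 : q ^ 2 ≤ q' ^ 2 := Nat.pow_le_pow_left h.le 2
    have h5 : 0 < q' ^ 2 - 1 := by
      have := Nat.pow_lt_pow_left a2 (two_ne_zero); omega
    have h6 : q * (q ^ 2 - 1) ≤ q * (q' ^ 2 - 1) := Nat.mul_le_mul_left _ (by omega)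
    have h7 : q * (q' ^ 2 - 1) < q' * (q' ^ 2 - 1) := Nat.mul_lt_mul_of_pos_right h h5
    omega
  · have h4 : q' ^ 2 ≤ q ^ 2 := Nat.pow_le_pow_left (le_of_lt h) 2
    have h5 : 0 < q ^ 2 - 1 := by
      have := Nat.pow_lt_pow_left a1 (two_ne_zero); omega
    have h6 : q' * (q' ^ 2 - 1) ≤ q' * (q ^ 2 - 1) := Nat.mul_le_mul_left _ (by omega)
    have h7 : q' * (q ^ 2 - 1) < q * (q ^ 2 - 1) := Nat.mul_lt_mul_of_pos_right h h5
    omega

/-- a piece of chart kind, `K_r ≃ SL(2, F)`, `F` of characteristic `p` -/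
def IsCh {X : Type*} [Group X] (Om : Set (Subgroup X)) (D : Subgroup X) : Prop :=
  ∃ (p : ℕ) (c : Nodes.Chart.Chart Om p D) (F : Type) (_ : Field F) (_ : Fintype F), CharP F p ∧
    ∀ r ∈ c.R, Nonempty (Matrix.SpecialLinearGroup (Fin 2) F ≃* ↥(c.Z r ⊔ c.Z (-r)))

theorem odd_card {F : Type*} [Field F] [Fintype F] {p : ℕ} [CharP F p] (h2 : p ≠ 2) : Odd (Fintype.card F) := by
  obtain ⟨n, hp, hn⟩ := FiniteField.card F p
  rw [hn]
  exact (hp.odd_of_ne_two h2).pow

variable {G : Type*} [Group G] [Finite G] {Om : Set (Subgroup G)}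

/-- the input of (EX) -/
structure In (Om : Set (Subgroup G)) : Prop extends LB Om where
  ne : Om.Nonempty
  one : ∀ K ∈ Om, ∀ L ∈ Om, ∃ g, cj g K = L
  conn : ∀ C : Set (Subgroup G), C ⊆ Om → C.Nonempty → (∀ K ∈ C, ∀ L ∈ Om, cm K L → L ∈ C) → C = Om
  ch : ∀ N ∈ Om, ∀ K ∈ Om, K ≤ centralizer {zz N} → PT Om (centralizer {zz N}) K ∉ fb Om (centralizer {zz N}) →
    IsCh (fb Om (centralizer {zz N})) (PT Om (centralizer {zz N}) K)
  solv : ∀ X : Subgroup G, ¬ 2 ∣ Nat.card X → Group.IsSolvable X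

namespace In

variable (i : In Om)

include i

/-- there is a non-single piece -/
theorem exists_ns [IsSimpleGroup G] : ∃ N ∈ Om, ∃ K ∈ Om, cm K N ∧ ¬ Sg Om N K := by
  by_contra hcon
  push Not at hcon
  obtain ⟨K, hK⟩ := i.ne
  have h1 : {J | J ∈ Om ∧ (J = K ∨ cm J K)} = Om := by
    refine i.conn _ (fun J hJ => hJ.1) ⟨K, hK, Or.inl rfl⟩ ?_
    rintro J ⟨hJ, hJK⟩ L hL hJL
    refine ⟨hL, ?_⟩
    rcases hJK with rfl | hJK
    · exact Or.inr (cm_symm hJL)
    · exact LB.Sg.spec i.toLB hJ hK (i.toLB.le_of_cm hJ (cm_symm hJK)) (hcon J hJ K hK (cm_symm hJK)) hL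
        (i.toLB.le_of_cm hJ (cm_symm hJL))
  have h2 : sSup Om ≤ normalizer (K : Set G) := by
    refine sSup_le fun J hJ => ?_
    rw [← h1] at hJ
    rcases hJ.2 with rfl | h3
    · exact le_normalizer
    · exact (cm_iff_le_centralizer.1 h3).trans (centralizer_le_normalizer _)
  have h3 : sSup Om = ⊤ := by
    rcases (normal_sSup i.hyp.conj).eq_bot_or_eq_top with h3 | h3
    · exfalso
      apply i.toLB.not_cm_self hK
      intro x hx y _
      have h4 : x ∈ sSup Om := le_sSup hK hx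
      rw [h3, Subgroup.mem_bot] at h4
      rw [h4, one_mul, mul_one]
    · exact h3
  rw [h3, top_le_iff, normalizer_eq_top_iff] at h2
  have hz := i.hyp.le_centralizer hK
  rcases h2.eq_bot_or_eq_top with h4 | h4
  · apply i.toLB.not_cm_self hK
    intro x hx y _
    rw [h4, Subgroup.mem_bot] at hx
    rw [hx, one_mul, mul_one]
  · have h5 : zz K ∈ center G := by
      rw [mem_center_iff]
      intro g
      have h6 : g ∈ K := by rw [h4]; trivial
      exact mem_centralizer_singleton_iff.1 (hz h6)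
    rcases (inferInstance : (center G).Normal).eq_bot_or_eq_top with h6 | h6
    · rw [h6, Subgroup.mem_bot] at h5
      exact i.hyp.zz_ne hK h5
    · apply i.toLB.not_cm_self hK
      intro x _ y _
      have h7 : x ∈ center G := by rw [h6]; trivial
      exact (mem_center_iff.1 h7 y).symm

/-- **good pairs, right part**; `K ≃ SL(2, F)` -/
theorem rk {N K : Subgroup G} (hN : N ∈ Om) (hK : K ∈ Om) (hKN : cm K N) (hns : ¬ Sg Om N K) :
    ∃ (p : ℕ) (F : Type) (_ : Field F) (_ : Fintype F), CharP F p ∧ p ≠ 2 ∧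
      Nonempty (Matrix.SpecialLinearGroup (Fin 2) F ≃* K) ∧
      Rk Om p K (zz N) (PT Om (centralizer {zz N}) K) := by
  have hKN' : K ≤ centralizer {zz N} := i.toLB.le_of_cm hN hKN
  have C := i.cor N hN
  have hnf : PT Om (centralizer {zz N}) K ∉ fb Om (centralizer {zz N}) :=
    (i.toLB.cases C hK hKN').resolve_left hns
  obtain ⟨p, c, F, hF1, hF2, hcp, hsl⟩ := i.ch N hN K hK hKN' hnf
  refine ⟨p, F, hF1, hF2, hcp, c.odd, ?_, ⟨C, qp_PT C hK hKN' hnf, bar_le_PT, hnf, ⟨c⟩⟩⟩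
  obtain ⟨r, hr, g, hg, h1⟩ := c.om_conj _ (bar_mem hK hKN') bar_le_PT
  obtain ⟨e⟩ := hsl r hr
  have h2 : bar (centralizer {zz N}) K = cj g (c.Z r ⊔ c.Z (-r)) := h1
  exact ⟨((e.trans (cjEquiv g _)).trans (MulEquiv.subgroupCongr h2.symm)).trans
    (barEquiv hKN' (i.core K hK)).symm⟩

/-- the links -/
theorem links {F₀ : Type*} [Field F₀] [Fintype F₀] (hF₀ : Odd (Fintype.card F₀))
    (hsl : ∀ K ∈ Om, Nonempty (Matrix.SpecialLinearGroup (Fin 2) F₀ ≃* K)) :
    Links Om (bb (Fintype.card F₀)) where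
  equi K hK g := by
    obtain ⟨e⟩ := hsl K hK
    exact bb_cj i.hyp hK hF₀ e g
  link N hN K hK M hM hc := by
    have hKm := (i.toLB.mem_Cen_iff hN).1 hK
    have hMm := (i.toLB.mem_Cen_iff hN).1 hM
    obtain ⟨h1, -, h2⟩ := i.toLB.PT_eq_of_chn hN hK hc
    by_cases hs : Sg Om N K
    · rw [h2 hs]
    have hcm : cm K N := (Red.mem_Cen_single.1 hK).2
    obtain ⟨p, F, hF1, hF2, hcp, hp2, ⟨e⟩, r⟩ := i.rk hN hKm.1 hcm hs
    have l := i.toLB.lk i.one hN hKm.1 hcm hs
    obtain ⟨e₀⟩ := hsl K hKm.1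
    have hq : Fintype.card F = Fintype.card F₀ := card_eq_of_sl (e.trans e₀.symm)
    have hF : Odd (Fintype.card F) := odd_card hp2
    have R := l.res r hF i.solv e (root_le e) (card_root e)
    obtain ⟨c⟩ := r.chart
    have hb : DL Om (centralizer {zz N}) (PT Om (centralizer {zz N}) K) ≤
        centralizer (bb (Fintype.card F₀) K : Set G) := by
      rw [← hq, bb_eq i.hyp hKm.1 hF e (root_le e) (card_root e)]
      intro d hd
      rw [mem_centralizer_iff]
      exact fun b hb => (R.bb_comm d hd b hb).symm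
    have h3 := CorOf.lnk_of_chart (i.cor N hN) hKm.1 hMm.1 hKm.2.1 hMm.2.1 c r.nmem h1 hb
    refine (h3.2.eq fun g => ?_).symm
    exact bb_cj i.hyp hKm.1 hF₀ e₀ g

/-- the frames -/
theorem frames : Red.Frames Om (sylFrames Om) := by
  refine frames_of i.hyp i.one (fun S K hK L hL hKL => ?_) (fun K hK => i.toLB.not_cm_self hK)
  exact CoresComm.comm_of_OmS i.hyp S.isPGroup' hK hL hKL (i.ty K hK.1) (i.ty L hL.1) (i.core K hK.1)
    (i.core L hL.1)

/-- **(EX)**: the parabolics of the members are good -/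
theorem good [IsSimpleGroup G] : ∃ (p : ℕ) (F : Type) (_ : Field F) (_ : Fintype F), p.Prime ∧ CharP F p ∧
    Odd (Fintype.card F) ∧ (∀ K ∈ Om, Nonempty (Matrix.SpecialLinearGroup (Fin 2) F ≃* K)) ∧
    ∀ K ∈ Om, ∀ X ≤ K, Nat.card X = Fintype.card F → Good p X (zz K) := by
  obtain ⟨N, hN, K, hK, hKN, hns⟩ := i.exists_ns
  obtain ⟨p, F, hF1, hF2, hcp, hp2, ⟨e⟩, r⟩ := i.rk hN hK hKN hns
  have hp : p.Prime := by
    obtain ⟨c⟩ := r.chart
    exact c.prime
  have hF : Odd (Fintype.card F) := odd_card hp2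
  have hsl : ∀ L ∈ Om, Nonempty (Matrix.SpecialLinearGroup (Fin 2) F ≃* L) := by
    intro L hL
    obtain ⟨g, rfl⟩ := i.one K hK L hL
    exact ⟨e.trans (cjEquiv g K)⟩
  have hb : bb (Fintype.card F) K = ⊥ := by
    have h1 := (ExConst.normal i.frames i.conn (i.links hF hsl) K hK).1
    rcases h1.eq_bot_or_eq_top with h2 | h2
    · exact h2
    · exfalso
      apply not_dvd_bb i.hyp hK hF e
      rw [h2]
      have h3 : Nat.card (⊤ : Subgroup G) = Nat.card G := Subgroup.card_top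
      rw [h3, ← i.hyp.orderOf_zz hK]
      exact orderOf_dvd_natCard _
  have l := i.toLB.lk i.one hN hK hKN hns
  have hK0 : ∀ X ≤ K, Nat.card X = Fintype.card F → Good p X (zz K) := by
    intro X hXK hX
    have R := l.res r hF i.solv e hXK hX
    refine R.good hp (long_of_hyp i.hyp hK hF e hXK hX) (isPGroup_of_card hX) ?_
    rw [← bb_eq i.hyp hK hF e hXK hX]
    exact hb
  refine ⟨p, F, hF1, hF2, hp, hcp, hF, hsl, ?_⟩
  intro L hL X hXL hX
  obtain ⟨g, rfl⟩ := i.one K hK L hL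
  have h1 : cj g⁻¹ X ≤ K := by
    have := cj_mono g⁻¹ hXL
    rwa [cj_inv_cj] at this
  have h2 := (hK0 _ h1 ((card_cj _ _).trans hX)).conj (g := g)
  rw [cj_cj_inv] at h2
  rw [i.hyp.zz_cj hK]
  exact h2

end In

end Cfsg.Agent.Cit.ExMain
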