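import Cfsg.Agent.Cit.CTEnd
import Cfsg.Agent.Cit.HexFactBMain

/-!
# `ExcFact` and `CTStmt`, unconditional
-/

set_option autoImplicit false

namespace Cfsg.Agent.Cit.ExcFactOf

open Subgroup Cfsg Cfsg.Agent.Cit Cfsg.Agent.Cit.HexBase Cfsg.Agent.Cit.CTEnd

universe u

theorem ocen_equiv {X : Type u} {L : Type*} [Group X] [Group L] (e : X ≃* L) (h : OCen L) : OCen X := by
  intro w hw h1
  have k := h (e w) (by rw [← map_mul, hw, map_one]) (fun h2 => h1 (e.injective (by rw [h2, map_one])))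
  rw [OO_def, map_eq_bot_iff_of_injective _ (subtype_injective _)] at k ⊢
  have hmem : ∀ x : X, x ∈ centralizer ({w} : Set X) ↔ e x ∈ centralizer ({e w} : Set L) := by
    intro x
    rw [mem_centralizer_singleton_iff, mem_centralizer_singleton_iff, ← map_mul, ← map_mul, e.injective.eq_iff]
  let f : ↥(centralizer ({w} : Set X)) ≃* ↥(centralizer ({e w} : Set L)) :=
    { toFun := fun x => ⟨e x, (hmem x).1 x.2⟩
      invFun := fun y => ⟨e.symm y, (hmem _).2 (by rw [e.apply_symm_apply]; exact y.2)⟩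
      left_inv := fun x => Subtype.ext (e.symm_apply_apply _)
      right_inv := fun y => Subtype.ext (e.apply_symm_apply _)
      map_mul' := fun x y => Subtype.ext (map_mul e _ _) }
  rw [oddCore, ← Lib.Cores.map_equiv_pPrimeCore f.symm 2]
  rw [oddCore] at k
  rw [k, Subgroup.map_bot]

theorem ocen {X : Type u} [Group X] [Finite X] {p : ℕ} (hp : p.Prime) (hp2 : p ≠ 2) (hX : IsG2D4 p X) : OCen X := by
  obtain ⟨F, i1, i2, i3, h⟩ := hX
  have h2 : (2 : F) ≠ 0 := two_ne_of_char hp hp2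
  rcases h with ⟨⟨e⟩⟩ | ⟨q, hq, hc, ⟨e⟩⟩
  · have : Finite ↥(Lie.chevG2.group F) := Finite.of_equiv _ e.toEquiv
    refine ocen_equiv e fun w hw h1 => ?_
    have c := HexG2.g2 F h2
    rw [OO_def, c.oddCore_centralizer h2 hw h1, Subgroup.map_bot]
  · have : Finite ↥(Lie.twistedD4 F q) := Finite.of_equiv _ e.toEquiv
    refine ocen_equiv e fun w hw h1 => ?_
    obtain ⟨σ, -, ⟨c⟩⟩ := HexD4.exists_d4 hc
    rw [OO_def, c.oddCore_centralizer h2 hw h1, Subgroup.map_bot]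

/-- **`ExcFact`** -/
theorem excFact : ExcFact.{u} := fun _ _ _ p hp hp2 hX =>
  ⟨fun _ _ hm hs hn hc hb hT =>
    (facts_of_iso HexFactBMain.h4_all HexFactBMain.h5_all ⟨p, hp, hp2, hX⟩ ⟨hm, hs, hn, hc, hb, hT⟩).1.inn,
    ocen hp hp2 hX⟩

/-- **(CT)** -/
theorem ctStmt : CoresG.CTStmt.{u} := CTEnd.ctStmt excFact

end Cfsg.Agent.Cit.ExcFactOf
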