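import Cfsg.Agent.Cit.GenPiece
import Cfsg.Agent.Cit.QuoCen
import Cfsg.Agent.Cit.ElevenFact
import Cfsg.Agent.Cit.TyTrans

/-!
# `ExcTrip` : the fact (F3) for the pieces `G₂(q)`, `³D₄(q)`, `M₁₁`

* `inf_center` : in a quasisimple group which is not itself a member, the members meet the centre trivially;
* `HexInn` : (F3) for the simple groups `G₂(q)`, `³D₄(q)`;
* `excTrip_of` : `GenChart.ExcTrip` from `HexInn`.
-/

set_option autoImplicit false
set_option linter.style.haveILetI false

namespace Cfsg.Agent.Cit.ExcTripOf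

open Subgroup Cfsg Cfsg.Agent.Cit Cfsg.Agent.Cit.GenChart

universe u

/-- in a quasisimple group which is not itself a member, the members meet the centre trivially -/
theorem inf_center {X : Type*} [Group X] [Finite X] {Om : Set (Subgroup X)} (h : Hyp Om) (hq : IsQuasisimple X)
    (h2 : IsPGroup 2 (center X)) (ht : (⊤ : Subgroup X) ∉ Om) {J : Subgroup X} (hJ : J ∈ Om) :
    J ⊓ center X = ⊥ := by
  haveI : Fact (Nat.Prime 2) := ⟨Nat.prime_two⟩
  by_contra hne
  have h1 : zz J ∈ center X := by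
    have h2 : IsPGroup 2 (J ⊓ center X : Subgroup X) := h2.to_le inf_le_right
    obtain ⟨t, ht, ht2⟩ : ∃ t ∈ J ⊓ center X, orderOf t = 2 := by
      have h3 : 2 ∣ Nat.card (J ⊓ center X : Subgroup X) := by
        obtain ⟨k, hk⟩ := (IsPGroup.iff_card.1 h2)
        rw [hk]
        refine dvd_pow_self 2 fun h4 => hne ?_
        rw [h4, pow_zero] at hk
        exact card_eq_one.1 hk
      obtain ⟨t, ht⟩ := exists_prime_orderOf_dvd_card' 2 h3
      exact ⟨t, t.2, by rw [orderOf_coe]; exact ht⟩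
    have h4 := h.uniq J hJ t ht.1 ht2
    rw [← h4]
    exact ht.2
  have h3 : centralizer {zz J} = (⊤ : Subgroup X) := by
    rw [eq_top_iff]
    intro x _
    rw [mem_centralizer_singleton_iff]
    exact mem_center_iff.1 h1 x
  have h4 : J.IsSubnormal := by
    have h5 := h.sub J hJ
    rw [h3] at h5
    exact Subgroup.IsSubnormal.trans le_top h5 Subgroup.IsSubnormal.top
  rcases SignalizersComponents.Components.quasisimple_subnormal hq h4 with h5 | h5
  · exact ht (h5 ▸ hJ)
  · refine h.not_le_centralizer_self hJ fun x hx => ?_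
    rw [mem_centralizer_iff]
    intro y _
    exact mem_center_iff.1 (h5 hx) y

/-- (F3) for the simple groups `G₂(q)`, `³D₄(q)` -/
def HexInn : Prop :=
  ∀ (X : Type u) [Group X] [Finite X] (K : Subgroup X) (w : X), (∃ p : ℕ, p.Prime ∧ p ≠ 2 ∧ IsG2D4 p X) →
    w ∈ K → w * w = 1 → w ≠ 1 → K ≤ centralizer {w} → (K.subgroupOf (centralizer {w})).IsSubnormal → IsType K →
    ∀ a : MulAut X, a * a = 1 → (∀ x ∈ K, a x = x) → a = 1 ∨ a = MulAut.conj w

/-- **(F3) for the pieces `G₂(q)`, `³D₄(q)`, `M₁₁`** -/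
theorem excTrip_of (hI : HexInn.{u}) : ExcTrip.{u} := by
  intro X _ _ Om D K hOm hty hc hq h2 hiso hK hKD
  by_cases hKe : K = D
  · subst hKe
    intro a _ _ haK
    left
    intro k hk
    rw [mem_centralizer_singleton_iff]
    exact mem_centralizer_iff.1 haK k hk
  have hnt : (⊤ : Subgroup D) ∉ restr Om D := by
    intro h
    rw [mem_restr, ← MonoidHom.range_eq_map, range_subtype] at h
    exact hKe (hOm.eq_of_le hK h hKD)
  have h' : Hyp (restr Om D) := hOm.restr D
  have hinf : ∀ J ∈ restr Om D, J ⊓ (QuotientGroup.mk' (center D)).ker = ⊥ := by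
    intro J hJ
    rw [QuotientGroup.ker_mk']
    exact inf_center h' hq h2 hnt hJ
  have hH : Hyp (img (QuotientGroup.mk' (center D)) (restr Om D)) :=
    QuoCen.hyp_img_central h' (QuotientGroup.mk'_surjective _) (by rw [QuotientGroup.ker_mk']) hinf
  have hK' : K.subgroupOf D ∈ restr Om D := subgroupOf_mem_restr hK hKD
  have hKm : (K.subgroupOf D).map (QuotientGroup.mk' (center D)) ∈
      img (QuotientGroup.mk' (center D)) (restr Om D) := ⟨_, hK', rfl⟩
  have hT' : ∀ J ∈ restr Om D, IsType J := fun J hJ => (Ty.restr hty D J hJ).isType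
  have hT := TyTrans.isType_img_inf hT' hinf _ hKm
  have hz : zz ((K.subgroupOf D).map (QuotientGroup.mk' (center D))) =
      QuotientGroup.mk ⟨zz K, hKD (hOm.zz_mem hK)⟩ := by
    rw [QuoCen.zz_map_of_inf h' hK' (hinf _ hK')]
    change QuotientGroup.mk' (center D) _ = QuotientGroup.mk' (center D) _
    congr 1
    apply Subtype.ext
    rw [zz_map hOm hK', map_subgroupOf_eq_of_le hKD]
  refine trip_of_quot hq hKD (hOm.zz_mem hK) (hOm.zz_mul hK) fun a ha hfix => ?_
  have hfix' : ∀ x ∈ (K.subgroupOf D).map (QuotientGroup.mk' (center D)), a x = x := by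
    rintro _ ⟨k, hk, rfl⟩
    exact hfix k hk
  rw [← hz]
  rcases hiso with hiso | hiso
  · exact hI _ _ _ hiso (hH.zz_mem hKm) (hH.zz_mul hKm) (hH.zz_ne hKm) (hH.le_centralizer hKm) (hH.sub _ hKm) hT
      a ha hfix'
  · refine ElevenFact.aut_eq_of_le hiso (hH.zz_mul hKm) (hH.zz_ne hKm) ?_ a hfix'
    rcases Eleven.eq_or_eq_of_sylow hiso (hH.orderOf_zz hKm) (hH.le_centralizer hKm) (hH.quat _ hKm) with h1 | h1
    · exact h1.symm.le
    · conv_rhs => rw [h1]
      exact Eleven.QQ_le_SS hiso (hH.orderOf_zz hKm)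

end Cfsg.Agent.Cit.ExcTripOf
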