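import Mathlib.GroupTheory.SpecificGroups.Alternating
import Cfsg.Prelude.Def_SporadicB
import Cfsg.Agent.Cit.Defs
import Cfsg.Agent.Lib.CoprimeCommutator

/-!
# Alternating groups have no classical involution

Let `z` be an involution of a group `G` isomorphic to an alternating group (any finite set) and `K ≤ C_G(z)`
subnormal in `C_G(z)` with `z` as its only involution.  Then every element of odd order of `K` is trivial on the
support of `z` (`fixes`), so `z` is not in `O^2(K)` and `K / O(K)` is a 2-group (`isPGroup_of_alt`).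
In particular `K / O(K)` is neither `SL(2, F)`, `F` of odd order, nor the double cover of `A_7`.
-/

set_option autoImplicit false
set_option linter.style.haveILetI false
set_option linter.unusedSectionVars false

namespace Cfsg.Agent.Cit.ExclAlt

open Subgroup Cfsg
open scoped commutatorElement

/-! ### The coprime argument -/

section abstract
variable {G : Type*} [Group G] [Finite G]

omit [Finite G] in
theorem le_of_le_commutator {A K : Subgroup G} (hK : K.IsSubnormal) (h : A ≤ ⁅A, K⁆) : A ≤ K := by
  induction hK with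
  | top => exact le_top
  | step H L hle _ hN ih =>
    have h1 : A ≤ L := ih (h.trans (commutator_mono le_rfl hle))
    have h2 : ⁅L, H⁆ ≤ H := by
      rw [commutator_le]
      intro l hl g hg
      have h3 := hN.conj_mem ⟨g, hle hg⟩ (mem_subgroupOf.2 hg) ⟨l, hl⟩
      have h4 : l * g * l⁻¹ ∈ H := mem_subgroupOf.1 h3
      rw [commutatorElement_def]
      exact H.mul_mem h4 (H.inv_mem hg)
    exact h.trans ((commutator_mono h1 le_rfl).trans h2)

/-- `K` subnormal in `C(z)` with only one involution `z`, `E` a normal subgroup of exponent two of `C(z)`: elements of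
odd order of `K` centralise `E` -/
theorem comm_of_odd {z : G} {K E : Subgroup G} (hK : K ≤ centralizer {z})
    (hs : (K.subgroupOf (centralizer {z})).IsSubnormal)
    (hu : ∀ t ∈ K, t * t = 1 → t ≠ 1 → t = z) (hE : E ≤ centralizer {z})
    (hEn : ∀ c ∈ centralizer ({z} : Set G), ∀ e ∈ E, c * e * c⁻¹ ∈ E) (hE2 : ∀ e ∈ E, e * e = 1)
    {x : G} (hx : x ∈ K) (ho : Odd (orderOf x)) : ∀ e ∈ E, x * e = e * x := by
  haveI : Fact (Nat.Prime 2) := ⟨Nat.prime_two⟩
  let C := centralizer ({z} : Set G)
  let K' : Subgroup C := K.subgroupOf C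
  let E' : Subgroup C := E.subgroupOf C
  let x' : C := ⟨x, hK hx⟩
  let A : Subgroup C := zpowers x'
  have hE'n : E'.Normal := by
    constructor
    intro e he c
    exact hEn c c.2 e he
  have hE'2 : IsPGroup 2 E' := by
    intro e
    refine ⟨1, ?_⟩
    apply Subtype.ext; apply Subtype.ext
    have := hE2 _ e.2
    simpa [pow_two] using this
  have hAo : Nat.card A = orderOf x := by
    rw [Nat.card_zpowers]
    exact (Subgroup.orderOf_coe x').symm
  have hcop : (Nat.card A).Coprime (Nat.card E') := by
    obtain ⟨n, hn⟩ := IsPGroup.iff_card.1 hE'2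
    rw [hAo, hn]
    apply Nat.Coprime.pow_right
    rw [Nat.coprime_two_right]; exact ho
  have hAE : A ≤ normalizer (E' : Set C) := by
    rw [normalizer_eq_top]; exact le_top
  have h1 := Lib.CoprimeCommutator.commutator_commutator_eq A E' hAE hcop
  have hAK : A ≤ K' := by
    rw [zpowers_le]; exact hx
  have h2 : ⁅E', A⁆ ≤ K' := le_of_le_commutator hs (by
    conv_lhs => rw [← h1]
    exact commutator_mono le_rfl hAK)
  have h3 : ⁅E', A⁆ ≤ E' := Lib.CoprimeCommutator.commutator_le_left hAE
  have h4 : A ≤ centralizer ((⁅E', A⁆ : Subgroup C) : Set C) := by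
    intro a _
    rw [mem_centralizer_iff]
    intro d hd
    have hd1 : (d : G) * d = 1 := hE2 _ (h3 hd)
    by_cases h : (d : G) = 1
    · have : d = 1 := Subtype.ext h
      rw [this]; simp
    · have hz : (d : G) = z := hu _ (h2 hd) hd1 h
      apply Subtype.ext
      have := mem_centralizer_singleton_iff.1 a.2
      change (d : G) * a = a * d
      rw [hz]; exact this.symm
  have h5 := Lib.CoprimeCommutator.le_centralizer_of_commutator A E' hAE hcop h4
  intro e he
  have h6 := h5 (mem_zpowers x')
  rw [mem_centralizer_iff] at h6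
  have h7 := h6 ⟨e, hE he⟩ he
  have h8 := congrArg (fun y : C => (y : G)) h7
  exact h8.symm

/-- if the elements of odd order generate a group without involutions then `K / O(K)` is a 2-group -/
theorem isPGroup_of_closure {K : Type*} [Group K] [Finite K]
    (h : ∀ t ∈ closure {x : K | Odd (orderOf x)}, t * t = 1 → t = 1) : IsPGroup 2 (K ⧸ oddCore K) := by
  haveI : Fact (Nat.Prime 2) := ⟨Nat.prime_two⟩
  have hn : (closure {x : K | Odd (orderOf x)}).Normal := by
    constructor
    intro n hn g
    have h1 : closure {x : K | Odd (orderOf x)} ≤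
        (closure {x : K | Odd (orderOf x)}).comap (MulAut.conj g).toMonoidHom := by
      rw [closure_le]
      intro x hx
      apply Subgroup.subset_closure
      change Odd (orderOf (MulAut.conj g x))
      rw [(MulAut.conj g).orderOf_eq]
      exact hx
    exact h1 hn
  have hodd : (Nat.card (closure {x : K | Odd (orderOf x)})).Coprime 2 := by
    rw [Nat.coprime_comm]
    refine (Nat.Prime.coprime_iff_not_dvd Nat.prime_two).2 fun h2 => ?_
    obtain ⟨t, ht⟩ := exists_prime_orderOf_dvd_card' (G := closure {x : K | Odd (orderOf x)}) 2 h2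
    have h3 : t ^ 2 = 1 := by rw [← ht]; exact pow_orderOf_eq_one t
    have h4 : (t : K) = 1 := h t t.2 (by
      have := congrArg (fun y : closure {x : K | Odd (orderOf x)} => (y : K)) h3
      simpa [pow_two] using this)
    have h5 : t = 1 := Subtype.ext h4
    rw [h5, orderOf_one] at ht
    omega
  have hle : closure {x : K | Odd (orderOf x)} ≤ oddCore K := Lib.Cores.le_pPrimeCore hn hodd
  intro q
  obtain ⟨k, rfl⟩ := QuotientGroup.mk_surjective q
  obtain ⟨a, m, hm, he⟩ := Nat.exists_eq_two_pow_mul_odd (orderOf_pos k).ne'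
  refine ⟨a, ?_⟩
  rw [← QuotientGroup.mk_pow, QuotientGroup.eq_one_iff]
  apply hle
  apply Subgroup.subset_closure
  change Odd (orderOf (k ^ 2 ^ a))
  rw [orderOf_pow, he]
  have h1 : Nat.gcd (2 ^ a * m) (2 ^ a) = 2 ^ a := Nat.gcd_eq_right (dvd_mul_right _ _)
  rw [h1, Nat.mul_div_cancel_left _ (by positivity)]
  exact hm

end abstract

/-! ### Permutations -/

section perm
variable {α : Type*} [Fintype α] [DecidableEq α]

open Equiv

omit [Fintype α] [DecidableEq α] in
theorem AIS (f : Perm α) (a : α) : f (f⁻¹ a) = a := f.apply_symm_apply a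

/-- the even permutations which preserve every orbit of the involution `z` -/
def EE (z : Perm α) (hz : z * z = 1) : Subgroup (alternatingGroup α) where
  carrier := {g | ∀ a, (g : Perm α) a = a ∨ (g : Perm α) a = z a}
  one_mem' := fun a => Or.inl rfl
  mul_mem' := by
    intro g h hg hh a
    have hzz : ∀ a, z (z a) = a := fun a => by rw [← Perm.mul_apply, hz]; rfl
    change (g : Perm α) ((h : Perm α) a) = a ∨ (g : Perm α) ((h : Perm α) a) = z a
    rcases hh a with h1 | h1
    · rw [h1]; exact hg a
    · rw [h1]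
      rcases hg (z a) with h2 | h2
      · right; exact h2
      · left; rw [h2, hzz]
  inv_mem' := by
    intro g hg a
    have hzz : ∀ a, z (z a) = a := fun a => by rw [← Perm.mul_apply, hz]; rfl
    change (g : Perm α)⁻¹ a = a ∨ (g : Perm α)⁻¹ a = z a
    rcases hg ((g : Perm α)⁻¹ a) with h1 | h1
    · left
      rw [AIS] at h1
      exact h1.symm
    · right
      rw [AIS] at h1
      rw [← hzz ((g : Perm α)⁻¹ a), ← h1]

theorem mem_EE {z : Perm α} {hz : z * z = 1} {g : alternatingGroup α} :
    g ∈ EE z hz ↔ ∀ a, (g : Perm α) a = a ∨ (g : Perm α) a = z a := Iff.rfl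

theorem EE_two {z : Perm α} {hz : z * z = 1} {g : alternatingGroup α} (hg : g ∈ EE z hz) : g * g = 1 := by
  have hzz : ∀ a, z (z a) = a := fun a => by rw [← Perm.mul_apply, hz]; rfl
  apply Subtype.ext
  ext a
  change (g : Perm α) ((g : Perm α) a) = a
  rcases hg a with h1 | h1
  · rw [h1, h1]
  · rw [h1]
    rcases hg (z a) with h2 | h2
    · rw [h2]
      by_contra h3
      have h4 : (g : Perm α) (z a) = (g : Perm α) a := by rw [h2, h1]
      exact h3 ((g : Perm α).injective h4)
    · rw [h2, hzz]

theorem EE_conj {z : alternatingGroup α} {hz : (z : Perm α) * z = 1} {c g : alternatingGroup α}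
    (hc : c ∈ centralizer ({z} : Set (alternatingGroup α))) (hg : g ∈ EE (z : Perm α) hz) :
    c * g * c⁻¹ ∈ EE (z : Perm α) hz := by
  intro a
  have h1 : (c : Perm α) * z = z * c := by
    have := mem_centralizer_singleton_iff.1 hc
    exact congrArg (fun y : alternatingGroup α => (y : Perm α)) this
  have h2 : ∀ b, (c : Perm α) ((z : Perm α) b) = (z : Perm α) ((c : Perm α) b) := fun b => by
    rw [← Perm.mul_apply, h1]; rfl
  change (c : Perm α) ((g : Perm α) ((c : Perm α)⁻¹ a)) = a ∨ (c : Perm α) ((g : Perm α) ((c : Perm α)⁻¹ a)) = (z : Perm α) a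
  rcases hg ((c : Perm α)⁻¹ a) with h3 | h3
  · left; rw [h3, AIS]
  · right; rw [h3, h2, AIS]

theorem EE_le {z : alternatingGroup α} {hz : (z : Perm α) * z = 1} :
    EE (z : Perm α) hz ≤ centralizer ({z} : Set (alternatingGroup α)) := by
  have hzz : ∀ a, (z : Perm α) ((z : Perm α) a) = a := fun a => by rw [← Perm.mul_apply, hz]; rfl
  intro g hg
  rw [mem_centralizer_singleton_iff]
  apply Subtype.ext
  ext a
  change (g : Perm α) ((z : Perm α) a) = (z : Perm α) ((g : Perm α) a)
  rcases hg a with h1 | h1
  · rcases hg ((z : Perm α) a) with h2 | h2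
    · rw [h1, h2]
    · rw [h1, h2, hzz]
      rw [hzz] at h2
      have h4 : (g : Perm α) ((z : Perm α) a) = (g : Perm α) a := by rw [h2, h1]
      exact ((g : Perm α).injective h4).symm
  · rw [h1, hzz]
    rcases hg ((z : Perm α) a) with h2 | h2
    · have h4 : (g : Perm α) ((z : Perm α) a) = (g : Perm α) a := by rw [h2, h1]
      have h5 := (g : Perm α).injective h4
      rw [h2, h5]
    · rw [h2, hzz]

/-- the product of two transpositions of `z` -/
def e2 (z : Perm α) (a b : α) (ha : z a ≠ a) (hb : z b ≠ b) : alternatingGroup α :=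
  ⟨swap a (z a) * swap b (z b), by
    rw [Perm.mem_alternatingGroup, Perm.sign_mul, Perm.sign_swap (Ne.symm ha), Perm.sign_swap (Ne.symm hb)]
    decide⟩

theorem e2_mem {z : Perm α} (hz : z * z = 1) {a b : α} (ha : z a ≠ a) (hb : z b ≠ b) (h1 : b ≠ a) (h2 : b ≠ z a) :
    e2 z a b ha hb ∈ EE z hz := by
  have hzz : ∀ a, z (z a) = a := fun a => by rw [← Perm.mul_apply, hz]; rfl
  intro c
  change swap a (z a) (swap b (z b) c) = c ∨ swap a (z a) (swap b (z b) c) = z c
  have h3 : z b ≠ a := fun h => h2 (by rw [← h, hzz])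
  have h4 : z b ≠ z a := fun h => h1 (z.injective h)
  by_cases hcb : c = b
  · right
    rw [hcb, swap_apply_left, swap_apply_of_ne_of_ne h3 h4]
  · by_cases hcb' : c = z b
    · right
      rw [hcb', swap_apply_right, swap_apply_of_ne_of_ne h1 h2, hzz]
    · rw [swap_apply_of_ne_of_ne hcb hcb']
      by_cases hca : c = a
      · right; rw [hca, swap_apply_left]
      · by_cases hca' : c = z a
        · right; rw [hca', swap_apply_right, hzz]
        · left; rw [swap_apply_of_ne_of_ne hca hca']

theorem fix_of_pow {x : Perm α} (ho : Odd (orderOf x)) {a : α} (h : x (x (x (x a))) = a) : x a = a := by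
  have h4 : (x ^ 4) a = a := by
    simp only [pow_succ, pow_zero, one_mul, Perm.mul_apply]; exact h
  have hc : Nat.Coprime (orderOf x) 4 := by
    have : Nat.Coprime (orderOf x) 2 := by rw [Nat.coprime_two_right]; exact ho
    have h2 := Nat.Coprime.pow_right 2 this
    norm_num at h2; exact h2
  obtain ⟨m, hm⟩ := exists_pow_eq_self_of_coprime (x := x) (n := 4) hc.symm
  have h5 : ∀ n : ℕ, ((x ^ 4) ^ n) a = a := by
    intro n
    induction n with
    | zero => simp
    | succ n ih => rw [pow_succ, Perm.mul_apply, h4, ih]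
  rw [← hm]
  exact h5 m

variable {G : Type*} [Group G] [Finite G]

/-- elements of odd order of `K` fix the points moved by `z` -/
theorem fixes (f : G ≃* alternatingGroup α) {z : G} {K : Subgroup G} (hz : z * z = 1)
    (hK : K ≤ centralizer {z}) (hs : (K.subgroupOf (centralizer {z})).IsSubnormal)
    (hu : ∀ t ∈ K, t * t = 1 → t ≠ 1 → t = z) {x : G} (hx : x ∈ K) (ho : Odd (orderOf x))
    {a : α} (ha : (f z : Perm α) a ≠ a) : (f x : Perm α) a = a := by
  have hz' : (f z : Perm α) * f z = 1 := by
    have := congrArg (fun y : G => (f y : Perm α)) hz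
    simpa using this
  have hzz : ∀ a, (f z : Perm α) ((f z : Perm α) a) = a := fun a => by rw [← Perm.mul_apply, hz']; rfl
  have hcomm := comm_of_odd (E := (EE (f z : Perm α) hz').comap f.toMonoidHom) hK hs hu (by
      intro g hg
      have h1 := EE_le (hz := hz') hg
      rw [mem_centralizer_singleton_iff] at h1 ⊢
      apply f.injective
      rw [map_mul, map_mul]; exact h1)
    (fun c hc e he => by
      have h1 : f c ∈ centralizer ({f z} : Set (alternatingGroup α)) := by
        rw [mem_centralizer_singleton_iff] at hc ⊢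
        rw [← map_mul, hc, map_mul]
      have h2 := EE_conj (hz := hz') h1 he
      change f (c * e * c⁻¹) ∈ EE (f z : Perm α) hz'
      rw [map_mul, map_mul, map_inv]
      exact h2)
    (fun e he => by
      have h1 := EE_two (hz := hz') he
      apply f.injective
      rw [map_mul, map_one]; exact h1) hx ho
  have hxz : ∀ b, (f x : Perm α) ((f z : Perm α) b) = (f z : Perm α) ((f x : Perm α) b) := fun b => by
    have h1 := congrArg (fun y : G => (f y : Perm α) b) (mem_centralizer_singleton_iff.1 (hK hx))
    simpa using h1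
  -- the square of `x` preserves every block
  have h2 : ∀ a, (f z : Perm α) a ≠ a → (f x : Perm α) ((f x : Perm α) a) = a ∨
      (f x : Perm α) ((f x : Perm α) a) = (f z : Perm α) a := by
    intro a ha
    by_cases h3 : (f x : Perm α) a = a
    · left; rw [h3, h3]
    by_cases h4 : (f x : Perm α) a = (f z : Perm α) a
    · left; rw [h4, hxz, h4, hzz]
    have hb : (f z : Perm α) ((f x : Perm α) a) ≠ (f x : Perm α) a := fun h => by
      rw [← hxz] at h
      exact ha ((f x : Perm α).injective h)
    have h5 := hcomm (f.symm (e2 (f z : Perm α) a ((f x : Perm α) a) ha hb)) (by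
      change f (f.symm _) ∈ EE (f z : Perm α) hz'
      rw [f.apply_symm_apply]
      exact e2_mem hz' ha hb h3 h4)
    have h6 : (f x : Perm α) (swap a ((f z : Perm α) a) (swap ((f x : Perm α) a) ((f z : Perm α) ((f x : Perm α) a))
          ((f x : Perm α) a)))
        = swap a ((f z : Perm α) a) (swap ((f x : Perm α) a) ((f z : Perm α) ((f x : Perm α) a))
          ((f x : Perm α) ((f x : Perm α) a))) := by
      have h7 := congrArg f h5
      rw [map_mul, map_mul, f.apply_symm_apply] at h7
      exact congrArg (fun y : alternatingGroup α => (y : Perm α) ((f x : Perm α) a)) h7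
    have h7 : (f z : Perm α) ((f x : Perm α) a) ≠ a := fun h => h4 (by rw [← hzz ((f x : Perm α) a), h])
    have h8 : (f z : Perm α) ((f x : Perm α) a) ≠ (f z : Perm α) a := fun h => h3 ((f z : Perm α).injective h)
    rw [swap_apply_left, swap_apply_of_ne_of_ne h7 h8, hxz] at h6
    by_contra h9
    rw [not_or] at h9
    have h10 : (f x : Perm α) ((f x : Perm α) a) ≠ (f x : Perm α) a := fun h => h3 ((f x : Perm α).injective h)
    have h11 : (f x : Perm α) ((f x : Perm α) a) ≠ (f z : Perm α) ((f x : Perm α) a) := fun h => by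
      rw [← hxz] at h
      exact h4 ((f x : Perm α).injective h)
    rw [swap_apply_of_ne_of_ne h10 h11, swap_apply_of_ne_of_ne h9.1 h9.2] at h6
    rw [← hxz, ← hxz] at h6
    exact ha ((f x : Perm α).injective ((f x : Perm α).injective h6))
  apply fix_of_pow (x := (f x : Perm α))
  · rw [Subgroup.orderOf_coe, f.orderOf_eq]; exact ho
  · rcases h2 a ha with h3 | h3
    · rw [h3, h3]
    · rw [h3]
      have h4 : (f z : Perm α) ((f z : Perm α) a) ≠ (f z : Perm α) a := by rw [hzz]; exact Ne.symm ha
      rcases h2 _ h4 with h5 | h5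
      · exfalso
        rw [hxz, hxz, h3, hzz] at h5
        exact ha h5.symm
      · rw [h5, hzz]

/-- **no classical involution in an alternating group**: `z ∉ O^2(K)`, so `K / O(K)` is a 2-group -/
theorem isPGroup_of_alt (f : G ≃* alternatingGroup α) {z : G} {K : Subgroup G} (hz : z * z = 1) (hz1 : z ≠ 1)
    (hK : K ≤ centralizer {z}) (hs : (K.subgroupOf (centralizer {z})).IsSubnormal)
    (hu : ∀ t ∈ K, t * t = 1 → t ≠ 1 → t = z) : IsPGroup 2 (K ⧸ oddCore K) := by
  apply isPGroup_of_closure
  intro t ht htt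
  have h1 : ∃ a, (f z : Perm α) a ≠ a := by
    by_contra h
    push Not at h
    have h2 : f z = 1 := Subtype.ext (Equiv.ext h)
    exact hz1 (f.injective (by rw [h2, map_one]))
  obtain ⟨a, ha⟩ := h1
  have h2 : closure {x : K | Odd (orderOf x)} ≤
      ((MulAction.stabilizer (Perm α) a).comap ((alternatingGroup α).subtype.comp f.toMonoidHom)).comap
        K.subtype := by
    rw [closure_le]
    intro x hx
    change (f (x : G) : Perm α) a = a
    refine fixes f hz hK hs hu x.2 ?_ ha
    rw [Subgroup.orderOf_coe]; exact hx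
  by_contra h3
  have h4 : (t : G) = z := hu t t.2 (congrArg (fun y : K => (y : G)) htt) (fun h => h3 (Subtype.ext h))
  have h5 : (f (t : G) : Perm α) a = a := h2 ht
  rw [h4] at h5
  exact ha h5

end perm

/-! ### `SL(2, F)` and the double cover of `A_7` are not 2-groups -/

theorem eq_one_of_cube {X : Type*} [Group X] (h : IsPGroup 2 X) {x : X} (hx : x ^ 3 = 1) : x = 1 := by
  obtain ⟨k, hk⟩ := h x
  have h1 : orderOf x ∣ 2 ^ k := orderOf_dvd_of_pow_eq_one hk
  have h2 : orderOf x ∣ 3 := orderOf_dvd_of_pow_eq_one hx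
  have h3 : Nat.Coprime (2 ^ k) 3 := Nat.Coprime.pow_left k (by decide)
  exact orderOf_eq_one_iff.1 (Nat.dvd_one.1 (h3 ▸ Nat.dvd_gcd h1 h2))

theorem not_isPGroup_sl2 {F : Type*} [Field F] : ¬ IsPGroup 2 (Matrix.SpecialLinearGroup (Fin 2) F) := by
  intro h
  let x : Matrix.SpecialLinearGroup (Fin 2) F := ⟨!![0, -1; 1, -1], by simp [Matrix.det_fin_two_of]⟩
  have h1 : x ^ 3 = 1 := by
    apply Subtype.ext
    rw [Matrix.SpecialLinearGroup.coe_pow, pow_succ, pow_two]
    ext i j
    fin_cases i <;> fin_cases j <;> simp [x, Matrix.mul_apply, Fin.sum_univ_two]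
  have h2 := eq_one_of_cube h h1
  have h3 := congrArg (fun y : Matrix.SpecialLinearGroup (Fin 2) F => y 1 0) h2
  simp [x] at h3

theorem not_isPGroup_seven {X : Type*} [Group X] (h : IsNonsplitDoubleCover X ↥(alternatingGroup (Fin 7))) :
    ¬ IsPGroup 2 X := by
  intro hX
  obtain ⟨-, ⟨e⟩, -⟩ := h
  have h1 : IsPGroup 2 (alternatingGroup (Fin 7)) :=
    (hX.to_quotient (Subgroup.center X)).of_equiv e
  have h2 : (⟨Equiv.swap (0 : Fin 7) 1 * Equiv.swap (1 : Fin 7) 2, by
      rw [Equiv.Perm.mem_alternatingGroup, Equiv.Perm.sign_mul, Equiv.Perm.sign_swap (by decide),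
        Equiv.Perm.sign_swap (by decide)]
      decide⟩ : alternatingGroup (Fin 7)) ^ 3 = 1 := by
    apply Subtype.ext
    decide
  have h3 := congrArg (fun y : alternatingGroup (Fin 7) => (y : Equiv.Perm (Fin 7)) 0) (eq_one_of_cube h1 h2)
  revert h3
  decide

/-! ### Members of a family with Hyp -/

section hyp
variable {G : Type*} [Group G] [Finite G] {Om : Set (Subgroup G)}

theorem _root_.Cfsg.Agent.Cit.Hyp.isPGroup_of_alt (h : Hyp Om) {K : Subgroup G} (hK : K ∈ Om) {α : Type*}
    [Fintype α] [DecidableEq α] (f : G ≃* alternatingGroup α) : IsPGroup 2 (K ⧸ oddCore K) :=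
  ExclAlt.isPGroup_of_alt f (h.zz_mul hK) (h.zz_ne hK) (h.le_centralizer hK) (h.sub K hK)
    (fun _ ht h2 h1 => h.eq_zz hK ht h2 h1)

/-- **no member `K` with `K / O(K) = SL(2, F)`, `F` of odd order, or the double cover of `A_7` in an alternating
group** -/
theorem _root_.Cfsg.Agent.Cit.Hyp.false_of_alt (h : Hyp Om) {K : Subgroup G} (hK : K ∈ Om) {α : Type*}
    [Fintype α] [DecidableEq α] (f : G ≃* alternatingGroup α)
    (hJ : (∃ (F : Type) (_ : Field F), Nonempty (K ⧸ oddCore K ≃* Matrix.SpecialLinearGroup (Fin 2) F)) ∨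
      IsNonsplitDoubleCover (K ⧸ oddCore K) ↥(alternatingGroup (Fin 7))) : False := by
  have h1 := h.isPGroup_of_alt hK f
  rcases hJ with ⟨F, _, ⟨e⟩⟩ | h2
  · exact not_isPGroup_sl2 (h1.of_equiv e)
  · exact not_isPGroup_seven h2 h1

end hyp

end Cfsg.Agent.Cit.ExclAlt
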