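import Cfsg.Agent.Cit.Excl
import Cfsg.Agent.J4Type.DuadM24
import Cfsg.Agent.J4Type.FusionComm
import Cfsg.Prelude.Def_Spor_Mathieu

/-!
# Exclusions (R18, D8): the Mathieu groups `M22`, `M23`

In `M22` and `M23` no involution `z` has a subgroup `K` subnormal in `C(z)` with `z` as its only involution and without
subgroup of index two (LEMMA E with `B` = pointwise stabiliser of the octad of fixed points of `z`).
-/

set_option autoImplicit false
set_option linter.style.haveILetI false

namespace Cfsg.Agent.Cit.ExclM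

open Subgroup Equiv Cfsg Cfsg.Agent.SporadicA.OctadFix Cfsg.Agent.J4Type
open scoped Pointwise

theorem no_hom {G : Type*} [Group G] [Finite G] (φ : G →* Perm GolayPt) (hφ : Function.Injective φ)
    (hM : ∀ g, φ g ∈ M24) (hpt : ∀ g, φ g none = none)
    (hB : ∀ O ∈ octads, ∀ z : G, (∀ x, φ z x = x ↔ x ∈ O) → fixOct O ≤ φ.range)
    {z : G} (hz : orderOf z = 2) {K : Subgroup G}
    (hKz : K ≤ centralizer {z}) (hzK : z ∈ K) (hsn : (K.subgroupOf (centralizer {z})).IsSubnormal)
    (huniq : ∀ t ∈ K, orderOf t = 2 → t = z) (hno : ∀ Y ≤ K, Y.relIndex K ≠ 2) : False := by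
  have hz2 : z * z = 1 := by
    rw [← pow_two, ← hz]; exact pow_orderOf_eq_one z
  have hz1 : z ≠ 1 := by
    rintro rfl
    simp at hz
  obtain ⟨O, hO, hfix⟩ := DuadM24.fix_octad (hM z) (by rw [← map_mul, hz2, map_one])
    (fun h => hz1 (hφ (by rw [h, map_one]))) (hpt z)
  have hzO : φ z ∈ fixOct O := mem_fixOct.2 ⟨hM z, fun p hp => (hfix p).mpr hp⟩
  have hKO : ∀ k ∈ K, ∀ p, φ k p ∈ O ↔ p ∈ O := by
    intro k hk p
    have h1 := mem_centralizer_singleton_iff.mp (hKz hk)
    have h2 : φ k (φ z p) = φ z (φ k p) := by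
      rw [← Perm.mul_apply, ← Perm.mul_apply, ← map_mul, ← map_mul, h1]
    rw [← hfix, ← hfix, ← h2]
    exact (φ k).injective.eq_iff
  set B : Subgroup G := (fixOct O).comap φ with hBdef
  have hBC : B ≤ centralizer {z} := by
    intro b hb
    rw [mem_centralizer_singleton_iff]
    apply hφ
    rw [map_mul, map_mul]
    exact FusionComm.fixOct_comm hO hb hzO
  have hKB : ∀ k ∈ K, ∀ b ∈ B, k * b * k⁻¹ ∈ B := by
    intro k hk b hb
    have hb' := mem_fixOct.1 (mem_comap.1 hb)
    rw [hBdef, mem_comap, mem_fixOct]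
    refine ⟨hM _, fun p hp => ?_⟩
    rw [map_mul, map_mul, map_inv, Perm.mul_apply, Perm.mul_apply]
    have h1 : (φ k)⁻¹ p ∈ O := by
      rw [← hKO k hk, Excl.pai]
      exact hp
    rw [hb'.2 _ h1, Excl.pai]
  have hB2 : ∀ b ∈ B, b * b = 1 := by
    intro b hb
    apply hφ
    rw [map_mul, map_one]
    exact fixOct_sq hO hb
  have hE := Excl.lemmaE hKz hsn hBC hKB hB2 z huniq hno
  have hle : K ≤ (fixingSubgroup (Perm GolayPt) {p : GolayPt | p ∉ O}).comap φ := by
    refine Excl.le_of_odd hno ?_ ?_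
    · intro k hk x _ hx
      rw [mem_comap, mem_fixingSubgroup_iff] at hx ⊢
      intro p hp
      change φ (k * x * k⁻¹) p = p
      rw [map_mul, map_mul, map_inv, Perm.mul_apply, Perm.mul_apply]
      have h1 : (φ k)⁻¹ p ∉ O := by
        rw [← hKO k hk, Excl.pai]
        exact hp
      have h2 : φ x ((φ k)⁻¹ p) = (φ k)⁻¹ p := hx _ h1
      rw [h2, Excl.pai]
    · intro x hx hodd
      rw [mem_comap, mem_fixingSubgroup_iff]
      intro p hp
      change φ x p = p
      have hq : φ x p ∉ O := fun h => hp ((hKO x hx p).1 h)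
      obtain ⟨b, ⟨hb, hbp⟩, -⟩ := existsUnique_fixOct hO hp hq
      obtain ⟨b', rfl⟩ := hB O hO z hfix hb
      have hcomm := hE x hx b' hb
      have key : ∀ m : ℕ, φ (x ^ m) p = φ (b' ^ m) p := by
        intro m
        induction m with
        | zero => simp
        | succ m ih =>
          rw [pow_succ', pow_succ, map_mul, map_mul, Perm.mul_apply, Perm.mul_apply, ih, hbp,
            ← Perm.mul_apply, ← Perm.mul_apply, ← map_mul, ← map_mul, ((show Commute x b' from hcomm).pow_right m).eq]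
      have h1 := key (orderOf x)
      rw [pow_orderOf_eq_one, map_one, Perm.one_apply] at h1
      obtain ⟨k, hk⟩ := hodd
      rw [hk, pow_succ, pow_mul, pow_two, hB2 b' hb, one_pow, one_mul, hbp] at h1
      exact h1.symm
  obtain ⟨p, hp⟩ := FusionComm.exists_out hO
  have h1 := hle hzK
  rw [mem_comap, mem_fixingSubgroup_iff] at h1
  exact hp ((hfix p).1 (h1 p hp))

section

variable {G : Type*} [Group G] {z : G} (hz : orderOf z = 2) {K : Subgroup G}
    (hKz : K ≤ centralizer {z}) (hzK : z ∈ K) (hsn : (K.subgroupOf (centralizer {z})).IsSubnormal)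
    (huniq : ∀ t ∈ K, orderOf t = 2 → t = z) (hno : ∀ Y ≤ K, Y.relIndex K ≠ 2)
include hz hKz hzK hsn huniq hno

/-- `M23` has no such `K` -/
theorem no_M23 (h : Spor.IsoM23 G) : False := by
  obtain ⟨e⟩ := h
  haveI : Finite G := Finite.of_equiv _ e.symm.toEquiv
  have hr : (Spor.M23.subtype.comp e.toMonoidHom).range = Spor.M23 := by
    rw [MonoidHom.range_comp, MonoidHom.range_eq_top.mpr e.surjective, ← MonoidHom.range_eq_map, range_subtype]
  refine no_hom (Spor.M23.subtype.comp e.toMonoidHom) ((Subgroup.subtype_injective _).comp e.injective)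
    (fun g => (e g).2.1) (fun g => (e g).2.2) ?_ hz hKz hzK hsn huniq hno
  intro O hO z hfix
  rw [hr]
  intro b hb
  have hb' := mem_fixOct.1 hb
  exact ⟨hb'.1, hb'.2 _ ((hfix none).1 (e z).2.2)⟩

/-- `M22` has no such `K` -/
theorem no_M22 (h : Spor.IsoM22 G) : False := by
  obtain ⟨e⟩ := h
  haveI : Finite G := Finite.of_equiv _ e.symm.toEquiv
  have hr : (Spor.M22.subtype.comp e.toMonoidHom).range = Spor.M22 := by
    rw [MonoidHom.range_comp, MonoidHom.range_eq_top.mpr e.surjective, ← MonoidHom.range_eq_map, range_subtype]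
  refine no_hom (Spor.M22.subtype.comp e.toMonoidHom) ((Subgroup.subtype_injective _).comp e.injective)
    (fun g => (e g).2.1.1) (fun g => (e g).2.1.2) ?_ hz hKz hzK hsn huniq hno
  intro O hO z hfix
  rw [hr]
  intro b hb
  have hb' := mem_fixOct.1 hb
  exact ⟨⟨hb'.1, hb'.2 _ ((hfix none).1 (e z).2.1.2)⟩, hb'.2 _ ((hfix (some 0)).1 (e z).2.2)⟩

end

end Cfsg.Agent.Cit.ExclM
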