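import Cfsg.Agent.GH.Defs
import Cfsg.Agent.Intrinsic.Lifting
import Cfsg.Agent.Intrinsic.TypeGTwo
import Cfsg.Agent.StandardComponent.CoverExtra
import Cfsg.Agent.Cit.Defs
import Cfsg.Agent.J2Sylow.Functor
import Cfsg.Agent.S0215

/-!
# Exclusions (R18, D8): the McLaughlin group

A simple group of the order of `McL` with a 2-component `2.A_n` (`n ≥ 8`) containing the involution has one class of
involutions, and no involution `z` has a subgroup `K ≤ C(z)`, subnormal, `z` its only involution, `4 ∣ |K|`.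
-/

set_option autoImplicit false
set_option linter.unusedSectionVars false

namespace Cfsg.Agent.Cit.ExclMcL

open Subgroup Equiv Cfsg Cfsg.Agent.Cit
open Cfsg.Agent.Intrinsic Cfsg.Agent.Intrinsic.Basic Cfsg.Agent.GH.Defs
open Cfsg.Agent.SporRec.TwoAn
open Cfsg.Agent.SignalizersComponents.IntrinsicBasic
open scoped commutatorElement

variable {G : Type*} [Group G] [Finite G]

theorem card_eq {n : ℕ} {t : G} {L : Subgroup G} (hn : 8 ≤ n) (hp : IsPair n t L) :
    Nat.card L = Nat.card (oddCore ↥L) * n.factorial := by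
  obtain ⟨C⟩ := TypeGTwo.exists_cover hp (by omega)
  have h1 := StandardComponent.CoverExtra.card_eq C (by rw [Fintype.card_fin]; omega)
  rw [Fintype.card_fin] at h1
  rw [← h1, mul_comm]
  exact Subgroup.card_eq_card_quotient_mul_card_subgroup (oddCore ↥L)

/-- the order of `G` bounds `n`, and `L` has odd index -/
theorem n_le {n : ℕ} {t : G} {L : Subgroup G} (hn : 8 ≤ n) (hp : IsPair n t L) (hG : Nat.card G = 898128000) :
    n ≤ 9 ∧ 2 ^ 7 ∣ Nat.card L := by
  have h1 := card_eq hn hp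
  have h2 : n.factorial ∣ Nat.card G := (Dvd.intro_left _ h1.symm).trans L.card_subgroup_dvd_card
  rw [hG] at h2
  constructor
  · by_contra h
    have h3 : (10).factorial ∣ 898128000 := (Nat.factorial_dvd_factorial (by omega)).trans h2
    revert h3
    decide
  · have h3 : (8).factorial ∣ n.factorial := Nat.factorial_dvd_factorial hn
    have h4 : 2 ^ 7 ∣ (8).factorial := by decide
    rw [h1]
    exact (h4.trans h3).trans (Dvd.intro_left _ rfl)

theorem exists_sylow {n : ℕ} {t : G} {L : Subgroup G} (hn : 8 ≤ n) (hp : IsPair n t L)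
    (hG : Nat.card G = 898128000) : ∃ P : Sylow 2 G, (P : Subgroup G) ≤ L := by
  have h2 : Fact (Nat.Prime 2) := ⟨Nat.prime_two⟩
  obtain ⟨K, hK⟩ := Sylow.exists_subgroup_card_pow_prime 2 (n_le hn hp hG).2
  have hfac : (Nat.card G).factorization 2 = 7 := by
    rw [hG, show (898128000 : ℕ) = 2 ^ 7 * 7016625 by norm_num, Nat.factorization_mul (by norm_num) (by norm_num),
      Finsupp.add_apply, Nat.Prime.factorization_pow Nat.prime_two, Finsupp.single_eq_same,
      Nat.factorization_eq_zero_of_not_dvd (by norm_num)]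
  have hcard : Nat.card (K.map L.subtype) = 2 ^ (Nat.card G).factorization 2 := by
    rw [Nat.card_congr (K.equivMapOfInjective _ L.subtype_injective).symm.toEquiv, hK, hfac]
  exact ⟨Sylow.ofCard _ hcard, map_subtype_le K⟩

section cover

variable {n : ℕ} {t : G} {L : Subgroup G} (hn : 8 ≤ n) (hp : IsPair n t L)
  (C : Cover (Fin n) (↥L ⧸ oddCore ↥L))

include hn hp C

omit [Finite G] C in
theorem comm_t {x : G} (hx : x ∈ L) : x * t = t * x := mem_centralizer_singleton_iff.mp (hp.comp.le hx)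

/-- an element of `L` acting trivially is in `core L` or `t * core L` -/
theorem mem_core_or {x : G} (hx : x ∈ L) (h : C.π (QuotientGroup.mk ⟨x, hx⟩) = 1) :
    x ∈ core L ∨ t * x ∈ core L := by
  have ht : C.z = QuotientGroup.mk ⟨t, hp.mem⟩ := by
    have h1 : (QuotientGroup.mk ⟨t, hp.mem⟩ : ↥L ⧸ oddCore ↥L) ∈ center (↥L ⧸ oddCore ↥L) := by
      rw [mem_center_iff]
      intro g
      obtain ⟨g, rfl⟩ := QuotientGroup.mk_surjective g
      rw [← QuotientGroup.mk_mul, ← QuotientGroup.mk_mul]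
      congr 1
      exact Subtype.ext (comm_t hn hp g.2)
    rcases (C.mem_center_iff (by rw [Fintype.card_fin]; omega)).mp h1 with h2 | h2
    · exfalso
      rw [QuotientGroup.eq_one_iff, ← mem_core_iff] at h2
      have h3 := eq_one_of_mem_core_sq h2 hp.sq
      have h4 := hp.inv
      rw [h3, orderOf_one] at h4
      exact absurd h4 (by norm_num)
    · exact h2.symm
  rcases (C.ker _).mp h with h1 | h1
  · left
    rw [QuotientGroup.eq_one_iff, ← mem_core_iff] at h1
    exact h1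
  · right
    have h2 : (QuotientGroup.mk (⟨t, hp.mem⟩ * ⟨x, hx⟩ : ↥L) : ↥L ⧸ oddCore ↥L) = 1 := by
      rw [QuotientGroup.mk_mul, h1, ← ht, C.z_mul_z]
    rw [QuotientGroup.eq_one_iff] at h2
    exact ⟨_, h2, rfl⟩

/-- a 2-element of `L` acting trivially is `1` or `t` -/
theorem eq_one_or {x : G} (hx : x ∈ L) (h : C.π (QuotientGroup.mk ⟨x, hx⟩) = 1) {k : ℕ} (hk : x ^ 2 ^ k = 1) :
    x = 1 ∨ x = t := by
  rcases mem_core_or hn hp C hx h with h1 | h1
  · exact Or.inl (eq_one_of_mem_core h1 hk)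
  · right
    have h2 : (t * x) ^ 2 ^ (k + 1) = 1 := by
      have hc : Commute t x := (comm_t hn hp hx).symm
      rw [hc.mul_pow, pow_succ, pow_mul, pow_mul, hk, one_pow, mul_one, ← pow_mul, mul_comm, pow_mul, pow_two, hp.sq,
        one_pow]
    have h3 := eq_one_of_mem_core h1 h2
    rw [← hp.sq] at h3
    exact mul_left_cancel h3

/-- the involutions `≠ t` of `L` are conjugate in `L` -/
theorem conj_of_invol (hn9 : n ≤ 9) {s s' : G} (hs : s ∈ L) (hs' : s' ∈ L) (h1 : s * s = 1) (h1' : s' * s' = 1)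
    (hs1 : s ≠ 1) (hst : s ≠ t) (hs1' : s' ≠ 1) (hst' : s' ≠ t) : ∃ g ∈ L, g * s * g⁻¹ = s' := by
  have hpi : ∀ (x : G) (hx : x ∈ L), x * x = 1 → x ≠ 1 → x ≠ t → C.π (QuotientGroup.mk ⟨x, hx⟩) ≠ 1 := by
    intro x hx hxx hx1 hxt h
    rcases eq_one_or hn hp C hx h (k := 1) (by rw [pow_one, pow_two, hxx]) with h2 | h2
    · exact hx1 h2
    · exact hxt h2
  have hsq : ∀ (x : G) (hx : x ∈ L), x * x = 1 →
      (QuotientGroup.mk ⟨x, hx⟩ : ↥L ⧸ oddCore ↥L) * QuotientGroup.mk ⟨x, hx⟩ = 1 := by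
    intro x hx hxx
    rw [← QuotientGroup.mk_mul, ← QuotientGroup.mk_one]
    congr 1
    exact Subtype.ext hxx
  obtain ⟨w, hw⟩ := StandardComponent.CoverExtra.exists_conj_of_card_lt C (by rw [Fintype.card_fin]; omega)
    (hsq s hs h1) (hsq s' hs' h1') (hpi s hs h1 hs1 hst) (hpi s' hs' h1' hs1' hst')
  obtain ⟨w, rfl⟩ := QuotientGroup.mk_surjective w
  have h3 : (w * ⟨s, hs⟩ * w⁻¹ : ↥L)⁻¹ * ⟨s', hs'⟩ ∈ oddCore ↥L := by
    rw [← QuotientGroup.eq]
    exact hw
  have h4 : ((w : G) * s * (w : G)⁻¹)⁻¹ * s' ∈ core L := ⟨_, h3, rfl⟩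
  have hwL : (w : G) * s * (w : G)⁻¹ ∈ L := L.mul_mem (L.mul_mem w.2 hs) (L.inv_mem w.2)
  obtain ⟨o, ho, hos⟩ := Lifting.exists_conj_eq (odd_card_core L) (v := (w : G) * s * (w : G)⁻¹) (v' := s') (n := 1)
    (m := 1) (by
      rw [pow_one, pow_two]
      calc (w : G) * s * (w : G)⁻¹ * ((w : G) * s * (w : G)⁻¹) = (w : G) * (s * s) * (w : G)⁻¹ := by group
        _ = 1 := by rw [h1]; group) (by rw [pow_one, pow_two, h1']) (le_normalizer_core L hwL) h4
  refine ⟨o * w, L.mul_mem (core_le L ho) w.2, ?_⟩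
  rw [← hos]; group

end cover

/-- **One class of involutions.** -/
theorem isConj [IsSimpleGroup G] {n : ℕ} {t : G} {L : Subgroup G} (hn : 8 ≤ n) (hp : IsPair n t L)
    (hG : Nat.card G = 898128000) :
    (∃ s ∈ L, orderOf s = 2 ∧ s ≠ t) ∧ ∀ x : G, orderOf x = 2 → ∃ g, g * t * g⁻¹ = x := by
  have h2 : Fact (Nat.Prime 2) := ⟨Nat.prime_two⟩
  obtain ⟨P, hP⟩ := exists_sylow hn hp hG
  obtain ⟨C⟩ := TypeGTwo.exists_cover hp (by omega)
  have ht1 : t ≠ 1 := by
    intro h
    have h3 := hp.inv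
    rw [h, orderOf_one] at h3
    exact absurd h3 (by norm_num)
  -- `t ∈ P`
  have htP : t ∈ P := by
    have h3 : IsPGroup 2 (zpowers t) := IsPGroup.of_card (n := 1) (by rw [Nat.card_zpowers, hp.inv, pow_one])
    have h4 := h3.inf_normalizer_sylow P
    have h5 : t ∈ zpowers t ⊓ normalizer (P : Set G) := by
      refine ⟨mem_zpowers t, ?_⟩
      have hc : ∀ x ∈ (P : Subgroup G), t * x * t⁻¹ = x := fun x hx => by
        rw [← comm_t hn hp (hP hx), mul_inv_cancel_right]
      exact Cfsg.Agent.J2Sylow.Functor.mem_normalizer_of_conj' (fun y hy => by rw [hc y hy]; exact hy)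
    rw [h4] at h5
    exact h5.2
  -- `t` is not isolated
  have hex : ∃ g : G, g * t * g⁻¹ ∈ P ∧ g * t * g⁻¹ ≠ t := by
    by_contra h
    push Not at h
    obtain ⟨N, hN, hodd, hc⟩ := S0215.result P t hp.inv htP h
    rcases hN.eq_bot_or_eq_top with hN1 | hN1
    · have h3 : t ∈ center G := by
        rw [mem_center_iff]
        intro g
        have h4 := hc g
        rw [hN1, mem_bot] at h4
        exact (mul_inv_eq_iff_eq_mul.mp (mul_inv_eq_one.mp h4)).symm
      rcases (inferInstance : (center G).Normal).eq_bot_or_eq_top with h4 | h4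
      · rw [h4, mem_bot] at h3
        exact ht1 h3
      · have hcom : ∀ a b : G, a * b = b * a := fun a b => by
          have h5 : b ∈ center G := by rw [h4]; exact mem_top b
          exact mem_center_iff.mp h5 a
        let _ : CommGroup G := { (inferInstance : Group G) with mul_comm := hcom }
        have h6 := IsSimpleGroup.prime_card (α := G)
        rw [hG] at h6
        norm_num at h6
    · rw [hN1, Subgroup.card_top, hG] at hodd
      exact absurd hodd (by decide)
  obtain ⟨g, hgP, hgt⟩ := hex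
  set s := g * t * g⁻¹ with hs
  have hs2 : s * s = 1 := by
    have : s * s = g * (t * t) * g⁻¹ := by rw [hs]; group
    rw [this, hp.sq]; group
  have hs1 : s ≠ 1 := by
    intro h
    apply ht1
    calc t = g⁻¹ * s * g := by rw [hs]; group
      _ = 1 := by rw [h]; group
  refine ⟨⟨s, hP hgP, orderOf_eq_prime (by rw [pow_two, hs2]) hs1, hgt⟩, ?_⟩
  intro x hx
  have hx2 : x * x = 1 := by rw [← pow_two, ← hx, pow_orderOf_eq_one]
  -- `x` is conjugate into `P`
  obtain ⟨Q, hQ⟩ := (IsPGroup.of_card (p := 2) (n := 1) (G := zpowers x) (by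
    rw [Nat.card_zpowers, hx, pow_one])).exists_le_sylow
  obtain ⟨k, hk⟩ := MulAction.exists_smul_eq G Q P
  have hxP : k * x * k⁻¹ ∈ P := by
    rw [← hk]
    exact Subgroup.smul_mem_pointwise_smul x (MulAut.conj k) _ (hQ (mem_zpowers x))
  have hy2 : (k * x * k⁻¹) * (k * x * k⁻¹) = 1 := by
    calc (k * x * k⁻¹) * (k * x * k⁻¹) = k * (x * x) * k⁻¹ := by group
      _ = 1 := by rw [hx2]; group
  have hy1 : k * x * k⁻¹ ≠ 1 := by
    intro h
    have h3 : x = 1 := by
      calc x = k⁻¹ * (k * x * k⁻¹) * k := by group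
        _ = 1 := by rw [h]; group
    rw [h3, orderOf_one] at hx
    exact absurd hx (by norm_num)
  by_cases hyt : k * x * k⁻¹ = t
  · exact ⟨k⁻¹, by rw [← hyt]; group⟩
  · obtain ⟨l, -, hl⟩ := conj_of_invol hn hp C (n_le hn hp hG).1 (hP hgP) (hP hxP) hs2 hy2 hs1 hgt hy1 hyt
    refine ⟨k⁻¹ * l * g, ?_⟩
    calc k⁻¹ * l * g * t * (k⁻¹ * l * g)⁻¹ = k⁻¹ * (l * (g * t * g⁻¹) * l⁻¹) * k := by group
      _ = x := by rw [← hs, hl]; group

/-- **Exclusion of `McL`.** -/
theorem no_McL [IsSimpleGroup G] (hG : Nat.card G = 898128000) (h : HasAltCover G) {z : G} (hz : orderOf z = 2)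
    {K : Subgroup G} (hKz : K ≤ centralizer {z}) (hsn : (K.subgroupOf (centralizer {z})).IsSubnormal)
    (huniq : ∀ t ∈ K, orderOf t = 2 → t = z) (h4 : 4 ∣ Nat.card K) : False := by
  classical
  have h2 : Fact (Nat.Prime 2) := ⟨Nat.prime_two⟩
  obtain ⟨n, t, L0, hn, hc0, htL0, hcov⟩ := h
  have hp0 : IsPair n t L0 := ⟨hc0.inv, htL0, hc0.comp, hcov⟩
  obtain ⟨g, hg⟩ := (isConj hn hp0 hG).2 z hz
  have hp := hp0.cj g
  rw [hg] at hp
  generalize Cfsg.Agent.SignalizersComponents.IntrinsicBasic.cj g L0 = L at hp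
  obtain ⟨⟨s, hsL, hs2, hsz⟩, -⟩ := isConj hn hp hG
  obtain ⟨P, hP⟩ := exists_sylow hn hp hG
  obtain ⟨C⟩ := TypeGTwo.exists_cover hp (by omega)
  have hLK : ¬ L ≤ K := fun h => hsz (huniq s (h hsL) hs2)
  have hfix := fun (a : G) (ha : a ∈ K) => hp.comp.fixes_of_subnormal hKz hsn hLK (a := a) ha
  -- `2`-elements of `K`
  have hPH : (P : Subgroup G) ≤ centralizer ({z} : Set G) := hP.trans hp.comp.le
  have key : ∀ k ∈ K, ∀ j : ℕ, k ^ 2 ^ j = 1 → k = 1 ∨ k = z := by
    intro k hk j hj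
    have hkH := hKz hk
    set H := centralizer ({z} : Set G) with hH
    have hcomm := (hp.comp.le_or_comm hKz hsn).resolve_left hLK
    let PH : Sylow 2 H := P.subtype hPH
    let q : H →* H ⧸ oddCore ↥H := QuotientGroup.mk' _
    have hq : Function.Surjective q := QuotientGroup.mk'_surjective _
    let PQ : Sylow 2 (H ⧸ oddCore ↥H) := PH.mapSurjective hq
    have hkcomm : ∀ x (hx : x ∈ L), q ⟨k, hkH⟩ * q ⟨x, hp.comp.le hx⟩ = q ⟨x, hp.comp.le hx⟩ * q ⟨k, hkH⟩ := by
      intro x hx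
      have h5 : ⁅x, k⁆ ∈ core H := hcomm (commutator_mem_commutator hx hk)
      have h6 : q ⁅(⟨x, hp.comp.le hx⟩ : H), ⟨k, hkH⟩⁆ = 1 := by
        rw [QuotientGroup.mk'_apply, QuotientGroup.eq_one_iff]
        obtain ⟨y, hy, hyx⟩ := h5
        have h7 : ⁅(⟨x, hp.comp.le hx⟩ : H), ⟨k, hkH⟩⁆ = y := Subtype.ext hyx.symm
        rw [h7]; exact hy
      rw [map_commutatorElement, commutatorElement_eq_one_iff_mul_comm] at h6
      exact h6.symm
    have hkP : q ⟨k, hkH⟩ ∈ PQ := by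
      have h5 : IsPGroup 2 (zpowers (q ⟨k, hkH⟩)) := by
        rintro ⟨_, i, rfl⟩
        refine ⟨j, Subtype.ext ?_⟩
        change (q ⟨k, hkH⟩ ^ i) ^ 2 ^ j = 1
        have h6 : q ⟨k, hkH⟩ ^ 2 ^ j = 1 := by
          rw [← map_pow]
          have h7 : (⟨k, hkH⟩ : H) ^ 2 ^ j = 1 := Subtype.ext hj
          rw [h7, map_one]
        rw [← zpow_natCast, ← zpow_mul, mul_comm, zpow_mul, zpow_natCast, h6, one_zpow]
      have h6 := h5.inf_normalizer_sylow PQ
      have h7 : q ⟨k, hkH⟩ ∈ zpowers (q ⟨k, hkH⟩) ⊓ normalizer (PQ : Set (H ⧸ oddCore ↥H)) := by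
        refine ⟨mem_zpowers _, ?_⟩
        have h8 : ∀ y ∈ (PQ : Subgroup (H ⧸ oddCore ↥H)), q ⟨k, hkH⟩ * y * (q ⟨k, hkH⟩)⁻¹ = y := by
          rintro _ ⟨x, hx, rfl⟩
          have h9 := hkcomm x (hP hx)
          rw [mul_inv_eq_iff_eq_mul]
          exact h9
        exact Cfsg.Agent.J2Sylow.Functor.mem_normalizer_of_conj' (fun y hy => by rw [h8 y hy]; exact hy)
      rw [h6] at h7
      exact h7.2
    obtain ⟨x, hx, hxk⟩ := hkP
    have hxL : (x : G) ∈ L := hP hx
    have h5 : (x : G)⁻¹ * k ∈ core H := by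
      have h6 : x⁻¹ * ⟨k, hkH⟩ ∈ oddCore ↥H := by
        rw [← QuotientGroup.eq]
        exact hxk
      exact ⟨_, h6, rfl⟩
    -- `x` acts trivially
    have h6 : Fixes (x : G) L := by
      refine ⟨le_normalizer hxL, fun y hy => ?_⟩
      rw [hp.comp.core_eq]
      refine ⟨L.mul_mem (L.mul_mem (L.mul_mem hxL hy) (L.inv_mem hxL)) (L.inv_mem hy), ?_⟩
      have h7 := hkcomm y hy
      have h8 : q x = q ⟨k, hkH⟩ := hxk
      rw [← h8] at h7
      have h9 : q ⁅x, (⟨y, hp.comp.le hy⟩ : H)⁆ = 1 := by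
        rw [map_commutatorElement, commutatorElement_eq_one_iff_mul_comm]
        exact h7
      rw [QuotientGroup.mk'_apply, QuotientGroup.eq_one_iff] at h9
      exact ⟨_, h9, rfl⟩
    obtain ⟨m, hm⟩ : ∃ m : ℕ, (x : G) ^ 2 ^ m = 1 := by
      obtain ⟨m, hm⟩ := P.isPGroup' ⟨(x : G), hx⟩
      exact ⟨m, congrArg Subtype.val hm⟩
    rcases eq_one_or hn hp C hxL (TypeGTwo.π_of_fixes (by omega) C hxL h6) hm with h7 | h7
    · left
      rw [h7, inv_one, one_mul] at h5
      exact eq_one_of_mem_core h5 hj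
    · right
      rw [h7] at h5
      have hkz : Commute z⁻¹ k := (Commute.inv_left (show Commute z k from (mem_centralizer_singleton_iff.mp hkH).symm))
      have h8 : (z⁻¹ * k) ^ 2 ^ (j + 1) = 1 := by
        have h9 : z ^ 2 = 1 := by rw [← hz, pow_orderOf_eq_one]
        rw [hkz.mul_pow, pow_succ, pow_mul k, hj, one_pow, mul_one, mul_comm, pow_mul, inv_pow, h9, inv_one, one_pow]
      have h9 := eq_one_of_mem_core h5 h8
      exact (inv_mul_eq_one.mp h9).symm
  obtain ⟨A, hA⟩ := Sylow.exists_subgroup_card_pow_prime 2 (n := 2) (G := K) (by norm_num; exact h4)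
  have hAle : ∀ a : A, (a : K) = 1 ∨ ((a : K) : G) = z := by
    intro a
    have h5 : a ^ 2 ^ 2 = 1 := by rw [← hA, pow_card_eq_one']
    have h6 : ((a : K) : G) ^ 2 ^ 2 = 1 := congrArg (fun x : A => ((x : K) : G)) h5
    rcases key _ (a : K).2 2 h6 with h7 | h7
    · exact Or.inl (Subtype.ext h7)
    · exact Or.inr h7
  have hinj : Function.Injective (fun a : A => if (a : K) = 1 then (0 : Fin 2) else 1) := by
    intro a b hab
    simp only at hab
    split_ifs at hab with h5 h6 h6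
    · exact Subtype.ext (h5.trans h6.symm)
    · exact absurd hab (by decide)
    · exact absurd hab (by decide)
    · exact Subtype.ext (Subtype.ext (((hAle a).resolve_left h5).trans ((hAle b).resolve_left h6).symm))
  have h5 := Nat.card_le_card_of_injective _ hinj
  rw [hA, Nat.card_eq_fintype_card, Fintype.card_fin] at h5
  norm_num at h5

/-- The form for `Hyp Om`. -/
theorem hyp_no_McL [IsSimpleGroup G] {Om : Set (Subgroup G)} (h : Hyp Om) {K : Subgroup G} (hK : K ∈ Om)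
    (hA : HasAltCover G) (hM : IsMcL G) : False := by
  refine no_McL hM.2 hA (h.orderOf_zz hK) (h.le_centralizer hK) (h.sub K hK) (h.uniq K hK) ?_
  obtain ⟨S, n, ⟨e⟩⟩ := h.quat K hK
  have h1 : Nat.card (S : Subgroup K) = 4 * 2 ^ (n + 1) := by
    rw [Nat.card_congr e.toEquiv, Nat.card_eq_fintype_card, QuaternionGroup.card]
  exact (Dvd.intro _ h1.symm).trans (S : Subgroup K).card_subgroup_dvd_card

end Cfsg.Agent.Cit.ExclMcL
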