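import Cfsg.Agent.Cit.ExclM
import Cfsg.Agent.Cit.Defs
import Cfsg.Agent.S1663
import Cfsg.Agent.S1664

/-!
# Exclusions (R18, D8): simple groups of order 443520 and 10200960; the form for `Hyp Om`
-/

set_option autoImplicit false

namespace Cfsg.Agent.Cit.ExclOrder

open Subgroup Equiv Cfsg Cfsg.Agent.Cit

variable {G : Type*} [Group G] [Finite G]

section

variable {z : G} (hz : orderOf z = 2) {K : Subgroup G}
    (hKz : K ≤ centralizer {z}) (hzK : z ∈ K) (hsn : (K.subgroupOf (centralizer {z})).IsSubnormal)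
    (huniq : ∀ t ∈ K, orderOf t = 2 → t = z) (hno : ∀ Y ≤ K, Y.relIndex K ≠ 2)
include hz hKz hzK hsn huniq hno

theorem no_IsM22 (h : Cfsg.IsM22 G) : False := ExclM.no_M22 hz hKz hzK hsn huniq hno (S1663.result h)

theorem no_IsM23 (h : Cfsg.IsM23 G) : False := ExclM.no_M23 hz hKz hzK hsn huniq hno (S1664.result h)

end

section

variable {Om : Set (Subgroup G)} (h : Hyp Om) {K : Subgroup G} (hK : K ∈ Om) (hno : ∀ Y ≤ K, Y.relIndex K ≠ 2)
include h hK hno

theorem hyp_no_alt {α : Type*} [Fintype α] [DecidableEq α] (e : G ≃* alternatingGroup α) : False :=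
  Excl.no_alt e (h.orderOf_zz hK) (h.le_centralizer hK) (h.zz_mem hK) (h.sub K hK) (h.uniq K hK) hno

theorem hyp_no_IsM22 (h1 : Cfsg.IsM22 G) : False :=
  no_IsM22 (h.orderOf_zz hK) (h.le_centralizer hK) (h.zz_mem hK) (h.sub K hK) (h.uniq K hK) hno h1

theorem hyp_no_IsM23 (h1 : Cfsg.IsM23 G) : False :=
  no_IsM23 (h.orderOf_zz hK) (h.le_centralizer hK) (h.zz_mem hK) (h.sub K hK) (h.uniq K hK) hno h1

end

end Cfsg.Agent.Cit.ExclOrder
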