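import Cfsg.Agent.Cit.CoreTwoEq
import Cfsg.Agent.Cit.ExclOrder
import Cfsg.Agent.Cit.ExclMcL

/-!
# `CoreTwoEq.ExclStmt` : `M₂₂`, `M₂₃`, `McL` are excluded in the branch `|Om(S)| = 2`, `z_K = z_L`

`ExclOrder` (`M₂₂`, `M₂₃` from their orders: S1663, S1664) and `ExclMcL` (`McL` with a cover of `A_n`, `n ≥ 8`).
-/

set_option autoImplicit false

namespace Cfsg.Agent.Cit.ExclStmt

open Subgroup Cfsg

universe u

theorem exclStmt : CoreTwoEq.ExclStmt.{u} := by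
  intro G _ _ _ hG Om h hne hT
  obtain ⟨K, hK⟩ := hne
  have hno := CoreTwoEq.relIndex_ne_two (hT K hK)
  rcases hG with h1 | h1 | ⟨hA, h1⟩
  · exact ExclOrder.hyp_no_IsM22 h hK hno h1
  · exact ExclOrder.hyp_no_IsM23 h hK hno h1
  · exact ExclMcL.hyp_no_McL h hK hA h1

end Cfsg.Agent.Cit.ExclStmt
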