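import Cfsg.Agent.S0509
import Cfsg.Agent.Cit.CoreTwoEq

/-!
# `CoreTwoEq.H509` from S0509

Only the last file of the assembly of S1310 should import this file.
-/

set_option autoImplicit false

namespace Cfsg.Agent.Cit.ExtH509

universe u

theorem h509 : CoreTwoEq.H509.{u} := by
  rintro G _ _ _ S ⟨F, hF1, hF2, hF, P, e⟩
  exact S0509.result hF S P e

end Cfsg.Agent.Cit.ExtH509
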