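import Cfsg.Agent.Cit.OneCompD
import Cfsg.Agent.Cit.LemmaB

/-!
# THEOREM R, unconditional from the two type conditions
-/

set_option autoImplicit false

namespace Cfsg.Agent.Cit.OneComp

open Subgroup Cfsg Cfsg.Agent.Cit

variable {G : Type*} [Group G]

/-- LEMMA B in the form used by `OneComp` -/
theorem lemB_of_types [Finite G] {Om : Set (Subgroup G)} (h : Hyp Om) {K : Subgroup G} (hK : K ∈ Om)
    (h1 : TyOne K) (h2 : TyTwo K) : LemB K :=
  fun _ _ hQ hM hO hz => h.lemmaB hK h1 h2 hM hO hz hQ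

end Cfsg.Agent.Cit.OneComp
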