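import Cfsg.Agent.Cit.QuoCen
import Cfsg.Agent.Cit.OneComp

/-!
# THEOREM R (e): reduction to `F*` simple

`O(G) = 1`, `L` a component, `OmL Om L` the members of `Om` acting nontrivially on `L` (all satisfying LEMMA B and
generated by elements of odd order). `HL Om L = L ⟨OmL Om L⟩`, `CL Om L = C_{HL}(L)`. Then

* (e4) `CL_le_center`, `isPGroup_CL`;
* (e2) `inf_CL` : `K ⊓ CL = 1`;
* (e1) `hyp_quo` : HYP holds for the images of the members of `OmL Om L` in `Y = HL / CL`;
* (e3) `Lbar_normal`, `Lbar_simple`, `centralizer_Lbar`.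
-/

set_option autoImplicit false
set_option linter.style.haveILetI false
set_option linter.unusedSectionVars false

namespace Cfsg.Agent.Cit.OneCompE

open Subgroup Cfsg Cfsg.Agent.Cit.OneComp Cfsg.Agent.Cit.Comp
open Cfsg.Agent.SignalizersComponents.Components

variable {G : Type*} [Group G]

/-- the members of `Om` acting nontrivially on `L` -/
def OmL (Om : Set (Subgroup G)) (L : Subgroup G) : Set (Subgroup G) :=
  {K | K ∈ Om ∧ ¬ L ≤ centralizer {zz K}}

/-- `L ⟨OmL Om L⟩` -/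
def HL (Om : Set (Subgroup G)) (L : Subgroup G) : Subgroup G := L ⊔ sSup (OmL Om L)

/-- `C_{HL}(L)` -/
def CL (Om : Set (Subgroup G)) (L : Subgroup G) : Subgroup (HL Om L) :=
  (centralizer (L : Set G)).subgroupOf (HL Om L)

/-- the members of `OmL Om L`, as subgroups of `HL Om L` -/
def OmH (Om : Set (Subgroup G)) (L : Subgroup G) : Set (Subgroup (HL Om L)) :=
  restr (OmL Om L) (HL Om L)

/-- the image of `L` in `HL / CL` -/
def Lbar (Om : Set (Subgroup G)) (L : Subgroup G) [(CL Om L).Normal] : Subgroup (HL Om L ⧸ CL Om L) :=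
  (L.subgroupOf (HL Om L)).map (QuotientGroup.mk' (CL Om L))

variable {Om : Set (Subgroup G)} {L K : Subgroup G}

theorem le_HL : L ≤ HL Om L := le_sup_left

theorem mem_le_HL (hK : K ∈ OmL Om L) : K ≤ HL Om L := (le_sSup hK).trans le_sup_right

theorem subgroupOf_mem_OmH (hK : K ∈ OmL Om L) : K.subgroupOf (HL Om L) ∈ OmH Om L :=
  subgroupOf_mem_restr hK (mem_le_HL hK)

theorem HL_le {X : Subgroup G} (h1 : L ≤ X) (h2 : ∀ K ∈ OmL Om L, K ≤ X) : HL Om L ≤ X :=
  sup_le h1 (sSup_le h2)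

section

variable [Finite G] (h : Hyp Om) (hO : pPrimeCore 2 G = ⊥) (hev : EvQ G)
  (hB : ∀ K ∈ OmL Om L, LemB K) (hT2 : ∀ K ∈ OmL Om L, TyTwo K) (hL : IsComponent L)

include h hO hB hL in
theorem HL_le_normalizer : HL Om L ≤ normalizer (L : Set G) :=
  HL_le le_normalizer fun _ hK => (syl_le_component h hO hK.1 (hB _ hK) hL hK.2).1

include h hO hev hB hL in
theorem HL_le_centralizer_component {L' : Subgroup G} (hL' : IsComponent L') (hne : L' ≠ L) :
    HL Om L ≤ centralizer (L' : Set G) := by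
  refine HL_le ?_ fun K hK => comm_other h hO hev hK.1 (hB _ hK) hL hK.2 hL' hne
  intro x hx
  rw [mem_centralizer_iff]
  exact fun y hy => (comm_of_ne hL hL' (Ne.symm hne) hx hy).symm

include h hO hB hT2 hL in
theorem HL_le_centralizer_pCore : HL Om L ≤ centralizer (pCore 2 G : Set G) := by
  haveI : Fact (Nat.Prime 2) := ⟨Nat.prime_two⟩
  refine HL_le ?_ fun K hK => comm_pCore h hO hK.1 (hB _ hK) (hT2 _ hK) hL hK.2
  have h2 := (component_le_layer hL).trans (layer_le_centralizer_fitting (G := G))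
  intro x hx
  rw [mem_centralizer_iff]
  exact fun y hy => mem_centralizer_iff.1 (h2 hx) y (Lib.Cores.pCore_le_fittingSubgroup 2 hy)

include h hO hev hB hT2 hL

theorem mem_pCore_of_mem {x : G} (hx : x ∈ HL Om L) (hxL : x ∈ centralizer (L : Set G)) : x ∈ pCore 2 G := by
  apply centralizer_genFit_le hO
  refine mem_centralizer_genFit hO (fun L' hL' => ?_) (HL_le_centralizer_pCore h hO hB hT2 hL hx)
  by_cases hne : L' = L
  · rw [hne]; exact hxL
  · exact HL_le_centralizer_component h hO hev hB hL hL' hne hx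

/-- (e4) -/
theorem CL_le_center : CL Om L ≤ center (HL Om L) := by
  intro x hx
  rw [mem_center_iff]
  intro y
  apply Subtype.ext
  have h1 := mem_pCore_of_mem h hO hev hB hT2 hL x.2 hx
  exact (mem_centralizer_iff.1 (HL_le_centralizer_pCore h hO hB hT2 hL y.2) _ h1).symm

/-- (e4) -/
theorem isPGroup_CL : IsPGroup 2 (CL Om L) := by
  have h1 : IsPGroup 2 (pCore 2 G) := Lib.Cores.pCore_isPGroup 2
  intro x
  obtain ⟨n, hn⟩ := h1 ⟨((x : HL Om L) : G), mem_pCore_of_mem h hO hev hB hT2 hL (x : HL Om L).2 x.2⟩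
  refine ⟨n, Subtype.ext (Subtype.ext ?_)⟩
  have h2 : ((x : HL Om L) : G) ^ 2 ^ n = 1 := congrArg Subtype.val hn
  simpa using h2

theorem CL_normal : (CL Om L).Normal := by
  refine ⟨fun n hn g => ?_⟩
  have h1 := mem_center_iff.1 (CL_le_center h hO hev hB hT2 hL hn) g
  rw [h1, mul_assoc, mul_inv_cancel, mul_one]
  exact hn

/-- (e2) -/
theorem inf_CL {J : Subgroup (HL Om L)} (hJ : J ∈ OmH Om L) : J ⊓ CL Om L = ⊥ := by
  have hK : J.map (HL Om L).subtype ∈ OmL Om L := hJ
  rw [eq_bot_iff]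
  rintro x ⟨hx1, hx2⟩
  have h1 := inf_centralizer_eq_bot h hO hev hK.1 (hB _ hK) (hT2 _ hK) hL hK.2
  have h2 : (x : G) ∈ J.map (HL Om L).subtype ⊓ centralizer (L : Set G) := ⟨⟨x, hx1, rfl⟩, hx2⟩
  rw [h1, mem_bot] at h2
  rw [mem_bot]
  exact Subtype.ext h2

omit hev hT2 in
/-- HYP for the members acting nontrivially on `L` -/
theorem hyp_OmH : Hyp (OmH Om L) := by
  refine QuoCen.hyp_subset (h.restr (HL Om L)) (fun J hJ => hJ.1) ?_
  intro J hJ g
  change (cj g J).map (HL Om L).subtype ∈ OmL Om L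
  have hJ' : J.map (HL Om L).subtype ∈ OmL Om L := hJ
  rw [cj_map]
  refine ⟨h.conj _ hJ'.1 _, fun hle => hJ'.2 ?_⟩
  rw [h.zz_cj hJ'.1, ← cj_centralizer] at hle
  have h2 : cj ((HL Om L).subtype g) L = L :=
    mem_normalizer_iff_cj.1 (HL_le_normalizer h hO hB hL g.2)
  exact cj_le_cj.1 (h2.le.trans hle)

/-- **(e1)** -/
theorem hyp_quo [(CL Om L).Normal] : Hyp (img (QuotientGroup.mk' (CL Om L)) (OmH Om L)) := by
  refine QuoCen.hyp_img_central (hyp_OmH h hO hB hL) (QuotientGroup.mk'_surjective _) ?_ ?_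
  · rw [QuotientGroup.ker_mk']
    exact CL_le_center h hO hev hB hT2 hL
  · intro J hJ
    rw [QuotientGroup.ker_mk']
    exact inf_CL h hO hev hB hT2 hL hJ

omit hev hT2 in
/-- (e3) -/
theorem Lbar_normal [(CL Om L).Normal] : (Lbar Om L).Normal := by
  have h1 : (L.subgroupOf (HL Om L)).Normal :=
    (normal_subgroupOf_iff_le_normalizer le_HL).2 (HL_le_normalizer h hO hB hL)
  exact h1.map _ (QuotientGroup.mk'_surjective _)

omit [Finite G] h hO hev hB hT2 hL in
/-- the kernel of `L → HL / CL` is `Z(L)` -/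
theorem exists_equiv [(CL Om L).Normal] : Nonempty (Lbar Om L ≃* (L ⧸ center L)) := by
  let f : L →* (HL Om L ⧸ CL Om L) := (QuotientGroup.mk' (CL Om L)).comp (Subgroup.inclusion le_HL)
  have hr : f.range = Lbar Om L := by
    ext y
    constructor
    · rintro ⟨x, rfl⟩
      exact ⟨Subgroup.inclusion le_HL x, x.2, rfl⟩
    · rintro ⟨x, hx, rfl⟩
      exact ⟨⟨x, hx⟩, rfl⟩
  have hk : f.ker = center L := by
    ext x
    rw [MonoidHom.mem_ker]
    change ((Subgroup.inclusion le_HL x : HL Om L) : HL Om L ⧸ CL Om L) = 1 ↔ _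
    rw [QuotientGroup.eq_one_iff, mem_center_iff]
    change (x : G) ∈ centralizer (L : Set G) ↔ _
    rw [mem_centralizer_iff]
    constructor
    · intro h1 y
      exact Subtype.ext (h1 y y.2)
    · intro h1 y hy
      exact congrArg Subtype.val (h1 ⟨y, hy⟩)
  exact ⟨((QuotientGroup.quotientMulEquivOfEq hk.symm).trans
    ((QuotientGroup.quotientKerEquivRange f).trans (MulEquiv.subgroupCongr hr))).symm⟩

omit [Finite G] h hO hev hB hT2 in
/-- **(e3)** -/
theorem Lbar_simple [(CL Om L).Normal] : IsSimpleGroup (Lbar Om L) := by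
  obtain ⟨e⟩ := exists_equiv (Om := Om) (L := L)
  haveI := hL.2.2
  exact e.isSimpleGroup

omit [Finite G] h hO hev hB hT2 in
/-- **(e3)** -/
theorem centralizer_Lbar [(CL Om L).Normal] (hcen : CL Om L ≤ center (HL Om L)) :
    centralizer (Lbar Om L : Set (HL Om L ⧸ CL Om L)) = ⊥ := by
  rw [eq_bot_iff]
  intro y hy
  obtain ⟨x, rfl⟩ := QuotientGroup.mk_surjective y
  rw [mem_bot, QuotientGroup.eq_one_iff]
  -- `[l, x] ∈ CL` for all `l ∈ L`
  have h1 : ∀ l : L, (Subgroup.inclusion le_HL l) * x * (Subgroup.inclusion le_HL l)⁻¹ * x⁻¹ ∈ CL Om L := by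
    intro l
    have h2 := mem_centralizer_iff.1 hy ((Subgroup.inclusion le_HL l : HL Om L) : HL Om L ⧸ CL Om L)
      ⟨Subgroup.inclusion le_HL l, l.2, rfl⟩
    rw [← QuotientGroup.eq_one_iff, QuotientGroup.mk_mul, QuotientGroup.mk_mul, QuotientGroup.mk_mul,
      h2, QuotientGroup.mk_inv, QuotientGroup.mk_inv]
    group
  -- a homomorphism from `L` to the centre
  let φ : L →* center (HL Om L) :=
    { toFun := fun l => ⟨_, hcen (h1 l)⟩
      map_one' := by apply Subtype.ext; simp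
      map_mul' := by
        intro a b
        apply Subtype.ext
        change Subgroup.inclusion le_HL (a * b) * x * (Subgroup.inclusion le_HL (a * b))⁻¹ * x⁻¹ = _
        rw [map_mul]
        set A : HL Om L := Subgroup.inclusion le_HL a
        set B : HL Om L := Subgroup.inclusion le_HL b
        have h3 : A * (B * x * B⁻¹ * x⁻¹) = B * x * B⁻¹ * x⁻¹ * A := mem_center_iff.1 (hcen (h1 b)) A
        change A * B * x * (A * B)⁻¹ * x⁻¹ = (A * x * A⁻¹ * x⁻¹) * (B * x * B⁻¹ * x⁻¹)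
        have h4 : A * x * A⁻¹ * x⁻¹ * (B * x * B⁻¹ * x⁻¹) = B * x * B⁻¹ * x⁻¹ * (A * x * A⁻¹ * x⁻¹) :=
          mem_center_iff.1 (hcen (h1 b)) (A * x * A⁻¹ * x⁻¹)
        rw [h4]
        calc A * B * x * (A * B)⁻¹ * x⁻¹ = A * (B * x * B⁻¹ * x⁻¹) * (x * A⁻¹ * x⁻¹) := by group
          _ = (B * x * B⁻¹ * x⁻¹) * A * (x * A⁻¹ * x⁻¹) := by rw [h3]
          _ = _ := by group }
  have h2 : ∀ l : L, φ l = 1 := by
    intro l
    have h3 : commutator L ≤ φ.ker := by
      rw [_root_.commutator_def, Subgroup.commutator_le]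
      intro a _ b _
      rw [MonoidHom.mem_ker, map_commutatorElement, commutatorElement_eq_one_iff_mul_comm]
      exact Subtype.ext (mem_center_iff.1 (φ b).2 (φ a : HL Om L))
    have h4 := hL.2.1
    have h5 : l ∈ commutator L := by rw [h4.commutator_eq_top]; trivial
    exact h3 h5
  change (x : G) ∈ centralizer (L : Set G)
  rw [mem_centralizer_iff]
  intro l hl
  have h3 := congrArg (fun u : center (HL Om L) => ((u : HL Om L) : G)) (h2 ⟨l, hl⟩)
  have h4 : l * (x : G) * l⁻¹ * (x : G)⁻¹ = 1 := h3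
  rw [mul_inv_eq_one, mul_inv_eq_iff_eq_mul] at h4
  exact h4

end

end Cfsg.Agent.Cit.OneCompE
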