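import Cfsg.Agent.Cit.TDef
import Cfsg.Agent.Cit.TyTrans

/-!
# One type: transport of `Uni Om`

`Uni Om` : all quotients `K / O(K)`, `K ∈ Om`, are isomorphic.  Subfamilies, one class, restriction to subgroups,
`Om[H]`, images with odd kernel or kernel meeting the members trivially.
-/

set_option autoImplicit false
set_option linter.style.haveILetI false

namespace Cfsg.Agent.Cit

open Subgroup Cfsg

universe u

section

variable {G G' : Type*} [Group G] [Group G'] {f : G →* G'} {Om : Set (Subgroup G)}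

theorem Uni.mono {Om' : Set (Subgroup G)} (h : Uni Om) (hs : Om' ⊆ Om) : Uni Om' :=
  fun K hK J hJ => h K (hs hK) J (hs hJ)

/-- one class -/
theorem Uni.of_conj (h : ∀ K ∈ Om, ∀ J ∈ Om, ∃ g, J = cj g K) : Uni Om := by
  intro K hK J hJ
  obtain ⟨g, rfl⟩ := h K hK J hJ
  exact ⟨TyTrans.quotCj g K⟩

theorem uni_cls (K : Subgroup G) : Uni (cls K) := by
  refine Uni.of_conj ?_
  rintro _ ⟨a, rfl⟩ _ ⟨b, rfl⟩
  exact ⟨b * a⁻¹, by rw [← cj_mul]; simp⟩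

/-- all members of type `SL₂(3)` -/
theorem Uni.of_isT (h : ∀ K ∈ Om, SolvTwo.IsT K) : Uni Om := by
  intro K hK J hJ
  obtain ⟨e⟩ := h K hK
  obtain ⟨e'⟩ := h J hJ
  exact ⟨e.trans e'.symm⟩

/-- a family of images of the members of `Om` with isomorphic quotients -/
theorem Uni.of_rel {Om' : Set (Subgroup G')} (h : Uni Om)
    (hr : ∀ J ∈ Om', ∃ K ∈ Om, Nonempty ((↥K ⧸ oddCore ↥K) ≃* (↥J ⧸ oddCore ↥J))) : Uni Om' := by
  intro J hJ J' hJ'
  obtain ⟨K, hK, ⟨e⟩⟩ := hr J hJ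
  obtain ⟨K', hK', ⟨e'⟩⟩ := hr J' hJ'
  obtain ⟨i⟩ := h K hK K' hK'
  exact ⟨e.symm.trans (i.trans e')⟩

theorem Uni.restr (h : Uni Om) (H : Subgroup G) : Uni (restr Om H) :=
  h.of_rel fun J hJ => ⟨_, hJ, ⟨(TyTrans.quotRestr J).symm⟩⟩

theorem Uni.restrX [Finite G] (h : Uni Om) (H : Subgroup G) : Uni (SubCent.restrX Om H) := by
  refine h.of_rel ?_
  rintro _ ⟨K, hK, rfl⟩
  exact ⟨K, hK.1, ⟨(SubCent.quotEquiv hK).symm⟩⟩

theorem Uni.img_odd [Finite G] (h : Uni Om) (hker : ¬ 2 ∣ Nat.card f.ker) : Uni (img f Om) := by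
  refine h.of_rel ?_
  rintro _ ⟨K, hK, rfl⟩
  exact ⟨K, hK, ⟨TyTrans.quotMapOdd K hker⟩⟩

theorem Uni.img_inf (h : Uni Om) (hi : ∀ K ∈ Om, K ⊓ f.ker = ⊥) : Uni (img f Om) := by
  refine h.of_rel ?_
  rintro _ ⟨K, hK, rfl⟩
  exact ⟨K, hK, ⟨TyTrans.quotMapInf (hi K hK)⟩⟩

end

section

variable {G : Type u} [Group G] {Om : Set (Subgroup G)}

theorem MinG.uni {L : Subgroup G} (h : MinG Om L) : Uni Om := Uni.of_conj h.cls

theorem MinS.uni (h : MinS Om) : Uni Om := Uni.of_conj h.cls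

end

end Cfsg.Agent.Cit
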