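import Cfsg.Agent.Cit.TLift
import Cfsg.Agent.Cit.UniOm
import Cfsg.Agent.Cit.OneCompB
import Cfsg.Agent.Cit.OneCompE

/-!
# THEOREM T: the case `F*` simple

`Core`, `Q1`, `Q2` : the three leaves of THEOREM T.

* `hasPieces_of_simple` : if `F` is a simple normal subgroup of `Y` with `C_Y(F) = 1` and THEOREM T holds for all
  smaller groups then `Ob` has pieces;
* `pc_eq_of_simple` : if moreover `Y = ⟨Ob⟩` then `F` is the only piece.
-/

set_option autoImplicit false
set_option linter.unusedSectionVars false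
set_option linter.style.haveILetI false

namespace Cfsg.Agent.Cit

open Subgroup Cfsg

universe u

/-- the simple core case -/
def CoreLeaf : Prop := ∀ (G : Type u) [Group G] [Finite G] (Om : Set (Subgroup G)), MinS Om → HasPieces Om

/-- several classes in one simple group -/
def Q1Leaf : Prop := ∀ (G : Type u) [Group G] [Finite G] (Om : Set (Subgroup G)), IsSimpleGroup G → Hyp Om →
  (∀ K ∈ Om, Ty K) → Uni Om → Om.Nonempty → TLt.{u} (Nat.card G) → (∀ K ∈ Om, HasPieces (cls K)) → HasPieces Om

/-- `q = 3` : the members lie in `F*(G)` -/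
def Q2Leaf : Prop := ∀ (G : Type u) [Group G] [Finite G] (Om : Set (Subgroup G)) (L : Subgroup G),
  MinG Om L → L = ⊤

/-- quasisimple groups have even order -/
def EvLeaf : Prop := ∀ (G : Type u) [Group G] [Finite G], Comp.EvQ G

theorem center_eq_bot_of_simple {G : Type*} [Group G] [IsSimpleGroup G] (hna : ¬ IsMulCommutative G) :
    center G = ⊥ := by
  rcases (inferInstance : (center G).Normal).eq_bot_or_eq_top with h1 | h1
  · exact h1
  · exfalso
    refine hna ⟨⟨fun a b => ?_⟩⟩
    exact mem_center_iff.mp (h1 ▸ mem_top b : b ∈ center G) a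

theorem quasisimple_of_simple {G : Type*} [Group G] [IsSimpleGroup G] (hna : ¬ IsMulCommutative G) :
    IsQuasisimple G := by
  have hc := center_eq_bot_of_simple hna
  refine ⟨?_, ?_⟩
  · have h1 : commutator G = ⊤ := by
      rcases (inferInstance : (commutator G).Normal).eq_bot_or_eq_top with h1 | h1
      · exfalso
        refine hna ⟨⟨fun a b => ?_⟩⟩
        rw [_root_.commutator_def, Subgroup.commutator_eq_bot_iff_le_centralizer] at h1
        exact (mem_centralizer_iff.mp (h1 (mem_top a)) b (mem_top b)).symm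
      · exact h1
    exact ⟨h1⟩
  · have e : G ⧸ center G ≃* G :=
      (QuotientGroup.quotientMulEquivOfEq hc).trans QuotientGroup.quotientBot
    exact e.isSimpleGroup

section

variable {Y : Type*} [Group Y] [Finite Y] {F : Subgroup Y} (hn : F.Normal) (hs : IsSimpleGroup F)
  (hc : centralizer (F : Set Y) = ⊥)

include hn hs hc

/-- every nontrivial normal subgroup contains `F` -/
theorem le_of_normal_simple {N : Subgroup Y} (hN : N.Normal) (hne : N ≠ ⊥) : F ≤ N := by
  rcases (inferInstance : (N.subgroupOf F).Normal).eq_bot_or_eq_top with h | h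
  · exfalso
    apply hne
    rw [eq_bot_iff, ← hc]
    have h1 : Disjoint N F := by rwa [← subgroupOf_eq_bot]
    intro x hx
    rw [mem_centralizer_iff]
    intro y hy
    exact (commute_of_normal_of_disjoint N F hN hn h1 x y hx hy).symm
  · exact subgroupOf_eq_top.1 h

/-- a subgroup of odd order normalised by everything is trivial -/
theorem oddCore_eq_bot_of_simple (he : 2 ∣ Nat.card F) : pPrimeCore 2 Y = ⊥ := by
  by_contra hne
  have h1 := le_of_normal_simple hn hs hc (Lib.Cores.pPrimeCore_normal (G := Y) 2) hne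
  exact not_two_dvd_oddCore Y (he.trans (card_dvd_of_le h1))

variable {Ob : Set (Subgroup Y)} (h : Hyp Ob)

include h in
theorem le_sSup_of_simple (hne : Ob.Nonempty) : F ≤ sSup Ob := by
  have hN : (sSup Ob).Normal := by
    rw [← normalizer_eq_top_iff, eq_top_iff]
    refine OneComp.le_normalizer_of_cj_le fun g _ => ?_
    rw [Cit.cj_le_iff]
    refine sSup_le fun K hK => ?_
    rw [← Cit.cj_le_iff]
    exact le_sSup (h.conj K hK g)
  refine le_of_normal_simple hn hs hc hN ?_
  obtain ⟨K, hK⟩ := hne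
  intro h0
  have h1 := le_sSup hK (h.zz_mem hK)
  rw [h0, mem_bot] at h1
  exact h.zz_ne hK h1

include h in
/-- no member is normal -/
theorem not_normal_of_simple {K : Subgroup Y} (hK : K ∈ Ob) : ¬ K.Normal := by
  intro hKn
  have h1 : F ≤ centralizer {zz K} := by
    refine le_trans ?_ (h.normalizer_le hK)
    rw [normalizer_eq_top_iff.2 hKn]
    exact le_top
  have h2 : zz K ∈ centralizer (F : Set Y) := by
    rw [mem_centralizer_iff]
    exact fun y hy => (mem_centralizer_singleton_iff.1 (h1 hy))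
  rw [hc, mem_bot] at h2
  exact h.zz_ne hK h2

include h in
/-- `F` is the only piece -/
theorem pc_eq_of_simple (hp : HasPieces Ob) (hgen : sSup Ob = ⊤) {K : Subgroup Y} (hK : K ∈ Ob) :
    pc Ob K = F ∧ F ∉ Ob := by
  have hDn : (pc Ob K).Normal := by
    rw [← normalizer_eq_top_iff, eq_top_iff, ← hgen]
    exact sSup_le_normalizer_pc hK
  have hne : pc Ob K ≠ ⊥ := by
    intro h0
    have h1 := le_pc (Om := Ob) (h.zz_mem hK)
    rw [h0, mem_bot] at h1
    exact h.zz_ne hK h1
  have hFD := le_of_normal_simple hn hs hc hDn hne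
  rcases hp.eq_or_quasisimple h hK with h1 | ⟨h1, h2, -⟩
  · exact absurd (h1 ▸ hDn) (not_normal_of_simple hn hs hc h hK)
  · have h3 : (F.subgroupOf (pc Ob K)).Normal := inferInstance
    have h4 : pc Ob K = F := by
      rcases SignalizersComponents.LayerBasic.quasisimple_normal h2 _ h3 with h4 | h4
      · exact le_antisymm (subgroupOf_eq_top.1 h4) hFD
      · exfalso
        haveI := hs.toNontrivial
        obtain ⟨x, hx⟩ := exists_ne (1 : F)
        have h5 : (x : Y) ∈ centralizer (F : Set Y) := by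
          rw [mem_centralizer_iff]
          intro y hy
          have h6 : (⟨x, hFD x.2⟩ : pc Ob K) ∈ center (pc Ob K) := h4 x.2
          exact congrArg Subtype.val (mem_center_iff.1 h6 ⟨y, hFD hy⟩)
        rw [hc, mem_bot] at h5
        exact hx (Subtype.ext h5)
    exact ⟨h4, h4 ▸ h1⟩

end

/-- **THEOREM T when `F*` is simple** -/
theorem hasPieces_of_simple (hcore : CoreLeaf.{u}) (hQ1 : Q1Leaf.{u}) (hQ2 : Q2Leaf.{u}) (hev : EvLeaf.{u})
    {Y : Type u} [Group Y] [Finite Y] {F : Subgroup Y} (hn : F.Normal) (hs : IsSimpleGroup F)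
    (hc : centralizer (F : Set Y) = ⊥) {Ob : Set (Subgroup Y)} (h : Hyp Ob) (hT : ∀ K ∈ Ob, Ty K)
    (hU : Uni Ob) (hne : Ob.Nonempty) (ind : TLt.{u} (Nat.card Y)) : HasPieces Ob := by
  have hnab : ¬ IsMulCommutative F := by
    intro h1
    haveI := hs.toNontrivial
    obtain ⟨x, hx⟩ := exists_ne (1 : F)
    have h5 : (x : Y) ∈ centralizer (F : Set Y) := by
      rw [mem_centralizer_iff]
      intro y hy
      exact congrArg Subtype.val (h1.is_comm.comm (⟨y, hy⟩ : F) x)
    rw [hc, mem_bot] at h5
    exact hx (Subtype.ext h5)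
  have hqs : IsQuasisimple F := by
    haveI := hs
    exact quasisimple_of_simple hnab
  have heven : 2 ∣ Nat.card F := hev Y F hqs
  -- a family generating a proper subgroup
  have key : ∀ Oc : Set (Subgroup Y), Hyp Oc → (∀ K ∈ Oc, Ty K) → Uni Oc → Oc.Nonempty → sSup Oc ≠ ⊤ →
      HasPieces Oc ∧ ∀ K ∈ Oc, K ≤ F := by
    intro Oc hOc hTc hUc hnec hlt
    set H := sSup Oc with hH
    have hFH : F ≤ H := le_sSup_of_simple hn hs hc hOc hnec
    have hcard : Nat.card H < Nat.card Y := by
      have h1 : Nat.card H ∣ Nat.card Y := card_subgroup_dvd_card H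
      refine lt_of_le_of_ne (Nat.le_of_dvd Nat.card_pos h1) fun h2 => hlt ?_
      exact (card_eq_iff_eq_top H).1 h2
    have hle : ∀ K ∈ Oc, K ≤ H := fun K hK => le_sSup hK
    have hTT := ind H hcard (restr Oc H) (hOc.restr H) (Ty.restr hTc H) (hUc.restr H)
    -- `F` in `H`
    have hnF : (F.subgroupOf H).Normal := inferInstance
    haveI := hs
    have hsF : IsSimpleGroup (F.subgroupOf H) := (subgroupOfEquivOfLe hFH).isSimpleGroup
    have hcF : centralizer ((F.subgroupOf H : Subgroup H) : Set H) = ⊥ := by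
      rw [eq_bot_iff]
      intro x hx
      have h1 : (x : Y) ∈ centralizer (F : Set Y) := by
        rw [mem_centralizer_iff]
        intro y hy
        exact congrArg Subtype.val (mem_centralizer_iff.1 hx ⟨y, hFH hy⟩ hy)
      rw [hc, mem_bot] at h1
      rw [mem_bot]
      exact Subtype.ext h1
    have heF : 2 ∣ Nat.card (F.subgroupOf H) := by
      rw [Nat.card_congr (subgroupOfEquivOfLe hFH).toEquiv]
      exact heven
    have hO := oddCore_eq_bot_of_simple hnF hsF hcF heF
    have hp := (tt_iff_hasPieces (hOc.restr H) hO).1 hTT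
    refine ⟨hp.of_restr hOc hle, fun K hK => ?_⟩
    have hgen : sSup (restr Oc H) = ⊤ := by
      apply Subgroup.map_injective H.subtype_injective
      rw [← MonoidHom.range_eq_map, range_subtype]
      refine le_antisymm (map_subtype_le _) (sSup_le fun K hK => ?_)
      rw [← map_subgroupOf_eq_of_le (hle K hK)]
      exact Subgroup.map_mono (le_sSup (subgroupOf_mem_restr hK (hle K hK)))
    have h1 := (pc_eq_of_simple hnF hsF hcF (hOc.restr H) hp hgen
      (subgroupOf_mem_restr hK (hle K hK))).1
    have h2 : K.subgroupOf H ≤ F.subgroupOf H := h1 ▸ le_pc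
    intro x hx
    exact h2 (x := ⟨x, hle K hK hx⟩) hx
  by_cases hgen : sSup Ob = ⊤
  · -- `F = ⊤`
    have hF : F = ⊤ := by
      by_cases hall : ∀ K ∈ Ob, K ≤ F
      · rw [← top_le_iff, ← hgen]
        exact sSup_le hall
      · push Not at hall
        obtain ⟨K, hK, hKF⟩ := hall
        have hcl : sSup (cls K) = ⊤ := by
          by_contra hlt
          exact hKF ((key (cls K) (h.of_cls hK) (fun J hJ => hT J (h.cls_subset hK hJ)) (uni_cls K)
            ⟨K, self_mem_cls K⟩ hlt).2 K (self_mem_cls K))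
        refine hQ2 Y (cls K) F ⟨h.of_cls hK, fun J hJ => hT J (h.cls_subset hK hJ), ⟨K, self_mem_cls K⟩, ?_,
          hcl, hn, hs, hnab, hc, ind⟩
        rintro _ ⟨a, rfl⟩ _ ⟨b, rfl⟩
        exact ⟨b * a⁻¹, by rw [← cj_mul]; simp⟩
    subst hF
    haveI := hs
    haveI hsY : IsSimpleGroup Y := (topEquiv (G := Y)).symm.isSimpleGroup
    refine hQ1 Y Ob hsY h hT hU hne ind fun K hK => hcore Y (cls K) ?_
    refine ⟨h.of_cls hK, fun J hJ => hT J (h.cls_subset hK hJ), ⟨K, self_mem_cls K⟩, ?_, hsY, ind⟩
    rintro _ ⟨a, rfl⟩ _ ⟨b, rfl⟩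
    exact ⟨b * a⁻¹, by rw [← cj_mul]; simp⟩
  · exact (key Ob h hT hU hne hgen).1

end Cfsg.Agent.Cit
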