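import Cfsg.Agent.Cit.ThreeBEnd
import Cfsg.Agent.Cit.CoreThree
import Cfsg.Agent.Cit.UseT3
import Cfsg.Agent.Cit.TypeDet.Trans

/-!
# The branch `|Om(S)| = 3`, `z₁ z₂ z₃ = 1`, different pieces (`DisFourStmt`)

`DisFourStmt` of `Cit/CoreThree.lean` from Goldschmidt's theorem (`GoldStmt`, S1169) and Bender's theorem
(`BendSimple`).

* `pc_self_of_cent` : a piece of `K` centralised by `zz K` is `K`.
* `exists_same_tr` : if the other two members of `Om(S)` are in different pieces of `C(zz K)` modulo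
  the core then every member covered by `C(zz K)` has the trace of a member of `Om(S)`.
* `thr` : the configuration `ThreeB.Thr`; `typ` : `ThreeB.Typ`.
-/

set_option autoImplicit false
set_option linter.style.haveILetI false
set_option linter.unusedSectionVars false

namespace Cfsg.Agent.Cit.ThreeB

open Subgroup Cfsg Cfsg.Agent.Cit.UseT Cfsg.Agent.Cit.CoreThree SubCent

universe u

/-! ### The types -/

section Types

variable {G : Type*} [Group G] [Finite G]

theorem killQ {L : Subgroup G} (h : IsType L) : KillQ L :=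
  fun _ hx _ hy h1 h2 => AutAct.triv_of_comm h le_rfl hx hy h1 h2

theorem le_commutator_of_syl {L Q : Subgroup G} (h : IsType L) (hQ : Syl Q L) : Q ≤ ⁅L, L⁆ := by
  intro x hx
  obtain ⟨k, hk⟩ := hQ.2.1 ⟨x, hx⟩
  have h1 : (⟨x, hQ.1 hx⟩ : L) ∈ commutator L :=
    AutAct.mem_commutator_of_tyTwo h.tyTwo (hQ.1 hx) (congrArg Subtype.val hk : x ^ 2 ^ k = 1)
  rw [← Subgroup.map_subtype_commutator]
  exact ⟨_, h1, rfl⟩

theorem typ {Om : Set (Subgroup G)} (h : ∀ K ∈ Om, IsType K) : Typ Om where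
  killQ := fun L hL => killQ (h L hL)
  perf := fun L hL _ hQ => le_commutator_of_syl (h L hL) hQ

end Types

/-! ### Pieces centralised by the involution -/

section Pieces

variable {X : Type*} [Group X] [Finite X] {Om : Set (Subgroup X)}

/-- if `zz K` centralises the members of the piece of `K` then the piece is `K` -/
theorem pc_self_of_cent (h : Hyp Om) (hc : ∀ J ∈ Om, OO J = ⊥) {K : Subgroup X} (hK : K ∈ Om)
    (hcent : ∀ x ∈ pc Om K, x * zz K = zz K * x) : pc Om K = K := by
  refine pc_eq_self fun J hJ hne => ?_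
  by_cases hp : pc Om J = pc Om K
  · obtain ⟨Q, hQ⟩ := Hyp.exists_syl J
    obtain ⟨S, hS, -, hJS, hKS⟩ := PairComm.exists_common' h hJ hK hQ fun a ha =>
      hcent a (hp ▸ le_pc (hQ.1 ha))
    exact comm_of_core h hc hS hJS hKS hne
  · exact (le_pc.trans (pc_comm hJ hK hp)).trans (centralizer_le le_pc)

/-- a member different from `K = pc K` commutes with `K` -/
theorem comm_of_self (h : Hyp Om) {K J : Subgroup X} (hK : K ∈ Om) (hJ : J ∈ Om) (hne : J ≠ K)
    (hp : pc Om K = K) : J ≤ centralizer (K : Set X) := by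
  have h1 : pc Om J ≠ pc Om K := by
    intro h2
    apply hne
    refine h.eq_of_le hJ hK ?_
    rw [← hp, ← h2]
    exact le_pc
  have h3 := pc_comm hJ hK h1
  rw [hp] at h3
  exact le_pc.trans h3

/-- no member commutes with all members of `Om(S)`, `S` a Sylow 2-subgroup -/
theorem not_comm_all (h : Hyp Om) (S : Sylow 2 X) {J : Subgroup X} (hJ : J ∈ Om)
    (hc : ∀ N ∈ OmS Om (S : Subgroup X), J ≤ centralizer (N : Set X)) : False := by
  haveI : Fact (Nat.Prime 2) := ⟨Nat.prime_two⟩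
  obtain ⟨Q, hQ⟩ := Hyp.exists_syl J
  set D := DD Om (S : Subgroup X) with hD
  have hDQ : D ≤ normalizer (Q : Set X) := by
    refine le_trans ?_ (centralizer_le_normalizer _)
    rw [hD, DD_le_iff]
    intro N hN x hx
    rw [mem_centralizer_iff]
    intro y hy
    exact (mem_centralizer_iff.1 (hc N hN (hQ.1 hy)) x hx.1).symm
  have hT : IsPGroup 2 (Q ⊔ D : Subgroup X) := by
    rw [sup_comm]
    exact IsPGroup.to_sup_of_normal_right' (S.isPGroup'.to_le DD_le) hQ.2.1 hDQ
  have h1 := OmS_eq_of_sylow h.conj S hT (le_sup_right)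
  have h2 : J ∈ OmS Om (Q ⊔ D : Subgroup X) := mem_OmS_of_le hJ hQ le_sup_left
  rw [h1] at h2
  exact h.not_le_centralizer_self hJ (hc J h2)

end Pieces

/-! ### The traces in `C(zz K)` -/

section Trace

variable {G : Type u} [Group G] [Finite G] {Om : Set (Subgroup G)}

theorem mem_cov_of_OmS (h : Hyp Om) {S : Subgroup G} (hS : IsPGroup 2 S) {K N : Subgroup G}
    (hK : K ∈ OmS Om S) (hN : N ∈ OmS Om S) : N ∈ cov Om (centralizer {zz K}) := by
  by_cases hne : N = K
  · rw [hne]
    exact mem_cov_of_le hK.1 (h.le_centralizer hK.1)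
  · exact PairComm.mem_cov h hS hN hK hne

theorem exists_same_tr (h : Hyp Om) (ty : ∀ K ∈ Om, IsType K) (S : Sylow 2 G)
    {K L M : Subgroup G} (hE : OmS Om (S : Subgroup G) = {K, L, M}) (hmul : zz K * zz M = zz L)
    (hmul' : zz K * zz L = zz M)
    (hp : HasPieces (fam Om (centralizer {zz K}))) (hne : PP Om K L ≠ PP Om K M) {J : Subgroup G}
    (hJ : J ∈ cov Om (centralizer {zz K})) :
    ∃ N ∈ OmS Om (S : Subgroup G), tr (centralizer {zz K}) J = tr (centralizer {zz K}) N := by
  haveI : Fact (Nat.Prime 2) := ⟨Nat.prime_two⟩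
  have hS := S.isPGroup'
  have hK : K ∈ OmS Om (S : Subgroup G) := by rw [hE]; simp
  have hL : L ∈ OmS Om (S : Subgroup G) := by rw [hE]; simp
  have hM : M ∈ OmS Om (S : Subgroup G) := by rw [hE]; simp
  have cK := mem_cov_of_OmS h hS hK hK
  have cL := mem_cov_of_OmS h hS hK hL
  have cM := mem_cov_of_OmS h hS hK hM
  have hDH : DD Om (S : Subgroup G) ≤ centralizer {zz K} := h.DD_le_centralizer hS hK
  have hcc : ∀ N ∈ OmS Om (S : Subgroup G), N ∈ cov Om (centralizer {zz K}) :=
    fun N hN => mem_cov_of_OmS h hS hK hN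
  unfold PP at hne
  set H := centralizer {zz K} with hH
  have hF := hyp_fam h ty H
  have hc := hp.core
  -- the piece of `K`
  have pK : pc (fam Om H) (tr H K) = tr H K := px_eq_tr_of_central h ty hc cK (hH ▸ le_rfl)
  -- `zz K` is central
  have hzc : ∀ y : HQ H, y * zz (tr H K) = zz (tr H K) * y := by
    intro y
    obtain ⟨x, rfl⟩ := qm_surjective H y
    rw [zz_tr h ty cK, ← map_mul, ← map_mul]
    congr 1
    apply Subtype.ext
    exact mem_centralizer_singleton_iff.1 (hH ▸ x.2)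
  -- the pieces of `L` and `M`
  have key : ∀ {A B : Subgroup G} (cA : A ∈ cov Om H) (cB : B ∈ cov Om H),
      pc (fam Om H) (tr H A) ≠ pc (fam Om H) (tr H B) → zz K * zz B = zz A →
      pc (fam Om H) (tr H A) = tr H A := by
    intro A B cA cB hne hAB
    refine pc_self_of_cent hF hc (tr_mem cA) fun x hx => ?_
    have e1 : zz (tr H A) = zz (tr H K) * zz (tr H B) := by
      rw [zz_tr h ty cA, zz_tr h ty cK, zz_tr h ty cB, ← map_mul]
      congr 1
      exact Subtype.ext hAB.symm
    have h1 : zz (tr H B) ∈ pc (fam Om H) (tr H B) := le_pc (hF.zz_mem (tr_mem cB))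
    have h2 : x * zz (tr H B) = zz (tr H B) * x :=
      (mem_centralizer_iff.1 (pc_comm (tr_mem cA) (tr_mem cB) hne hx) _ h1).symm
    rw [e1, ← mul_assoc, hzc x, mul_assoc, h2, mul_assoc]
  have pL := key cL cM hne hmul
  have pM := key cM cL (Ne.symm hne) hmul'
  -- a Sylow 2-subgroup of `H` containing `D(S)`
  obtain ⟨T, hT, hDT⟩ := exists_syl_ge (hS.to_le DD_le) hDH
  have hTS : OmS Om T = OmS Om (S : Subgroup G) := OmS_eq_of_sylow h.conj S hT.2.1 hDT
  obtain ⟨P, hP⟩ := hT.exists_sylow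
  set P' : Sylow 2 (HQ H) := P.mapSurjective (qm_surjective H) with hP'
  have hP'S : (P' : Subgroup (HQ H)) = (T.subgroupOf H).map (qm H) := by
    rw [hP', ← hP]; rfl
  have hO : OmS (fam Om H) (P' : Subgroup (HQ H)) = tr H '' (OmS Om (S : Subgroup G) ∩ cov Om H) := by
    rw [hP'S, OmS_fam h ty hT.2.1 hT.1, hTS]
  by_contra hcon
  push Not at hcon
  refine not_comm_all hF P' (tr_mem hJ) fun N hN => ?_
  rw [hO] at hN
  obtain ⟨N', ⟨hN1, hN2⟩, rfl⟩ := hN
  refine comm_of_self hF (tr_mem hN2) (tr_mem hJ) (hcon N' hN1) ?_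
  rw [hE] at hN1
  simp only [Set.mem_insert_iff, Set.mem_singleton_iff] at hN1
  rcases hN1 with rfl | rfl | rfl
  · exact pK
  · exact pL
  · exact pM

/-- modulo `O(C(zz K))` the involution of a covered member is one of `z₁`, `z₂`, `z₃` -/
theorem exists_zz_mul (h : Hyp Om) (ty : ∀ K ∈ Om, IsType K) {S : Sylow 2 G} {K J : Subgroup G}
    (hK : K ∈ OmS Om (S : Subgroup G)) (hJ : J ∈ cov Om (centralizer {zz K}))
    (he : ∃ N ∈ OmS Om (S : Subgroup G), tr (centralizer {zz K}) J = tr (centralizer {zz K}) N) :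
    ∃ N ∈ OmS Om (S : Subgroup G), zz N * zz J ∈ XX (zz K) := by
  obtain ⟨N, hN, he⟩ := he
  refine ⟨N, hN, ?_⟩
  have cN := mem_cov_of_OmS h S.isPGroup' hK hN
  obtain ⟨x, hx, hxJ⟩ := (tr_eq_iff h ty cN hJ).1 he.symm
  rw [← hxJ, h.zz_cj hN.1]
  have hx' : (x : G) ∈ XX (zz K) := ⟨x, hx, rfl⟩
  have hz : zz N ∈ centralizer {zz K} := zz_mem_of_cov h cN
  have h1 : zz N * x * (zz N)⁻¹ ∈ XX (zz K) := (mem_normalizer_iff.1 (le_normalizer_XX _ hz) _).1 hx'
  rw [h.zz_inv hN.1] at h1
  have h2 := mul_mem h1 (inv_mem hx')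
  convert h2 using 1
  group

end Trace

/-! ### The configuration -/

section Main

variable {G : Type u} [Group G] [Finite G] {Om : Set (Subgroup G)}

theorem exists_thr (hm : MinS Om) (t : TriFact.Pre Om) (hd : Dis Om) :
    ∃ (S : Subgroup G) (K : Fin 3 → Subgroup G), Thr Om S K := by
  obtain ⟨S, K, hK, L, hL, M, hM, hKL, hKM, hne⟩ := hd
  have h := hm.hyp
  have ty := hm.isType
  have hS := S.isPGroup'
  have hLM : L ≠ M := by rintro rfl; exact hne rfl
  obtain ⟨M', hE, -, hLM'⟩ := exists_three t.three S hK hL hKL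
  have hMM : M = M' := by
    rw [hE] at hM
    simp only [Set.mem_insert_iff, Set.mem_singleton_iff] at hM
    rcases hM with h1 | h1 | h1
    · exact (hKM h1.symm).elim
    · exact (hLM h1.symm).elim
    · exact h1
  subst hMM
  -- products
  have hmul : ∀ {A B C : Subgroup G}, A ∈ OmS Om (S : Subgroup G) → B ∈ OmS Om (S : Subgroup G) →
      A ≠ B → (∀ N ∈ OmS Om (S : Subgroup G), N ≠ A → N ≠ B → N = C) → zz A * zz B = zz C := by
    intro A B C hA hB hAB hC
    obtain ⟨N, hN, h1, h2, h3⟩ := t.mul S A hA B hB hAB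
    rw [h3, hC N hN h1 h2]
  have hall : ∀ N ∈ OmS Om (S : Subgroup G), N = K ∨ N = L ∨ N = M := by
    intro N hN
    rw [hE] at hN
    simpa only [Set.mem_insert_iff, Set.mem_singleton_iff] using hN
  have mKL : zz K * zz L = zz M := hmul hK hL hKL fun N hN h1 h2 => by
    rcases hall N hN with h3 | h3 | h3 <;> tauto
  have mKM : zz K * zz M = zz L := hmul hK hM hKM fun N hN h1 h2 => by
    rcases hall N hN with h3 | h3 | h3 <;> tauto
  -- T for `K`
  have hp := hm.fam_cent (h.zz_ne hK.1)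
  have hTK : ∀ J ∈ cov Om (centralizer {zz K}), ∃ N ∈ OmS Om (S : Subgroup G), zz N * zz J ∈ XX (zz K) :=
    fun J hJ => exists_zz_mul h ty hK hJ (exists_same_tr h ty S hE mKM mKL hp hne hJ)
  -- T for all members of `Om(S)`
  have hT : ∀ A ∈ OmS Om (S : Subgroup G), ∀ J ∈ cov Om (centralizer {zz A}),
      ∃ N ∈ OmS Om (S : Subgroup G), zz N * zz J ∈ XX (zz A) := by
    intro A hA J hJ
    obtain ⟨g, hg⟩ := hm.cls K hK.1 A hA.1
    obtain ⟨n, hn, hnK⟩ := TypeDet.exists_normalizer_cj h S hK hA hg.symm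
    have e1 : zz A = n * zz K * n⁻¹ := by rw [← hnK, h.zz_cj hK.1]
    have hJ' : cj n⁻¹ J ∈ cov Om (centralizer {zz K}) := by
      have h1 := cj_mem_cov h.conj (g := n⁻¹) hJ
      rwa [e1, ← cj_centralizer, cj_inv_cj] at h1
    obtain ⟨N, hN, hNJ⟩ := hTK _ hJ'
    refine ⟨cj n N, TypeDet.cj_mem_OmS_of_normalizer h S hn hN, ?_⟩
    rw [h.zz_cj hJ.1] at hNJ
    rw [e1, XX_cj, mem_cj, h.zz_cj hN.1]
    convert hNJ using 1
    group
  -- the family
  set F : Fin 3 → Subgroup G := ![K, L, M] with hF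
  have hF0 : F 0 = K := rfl
  have hF1 : F 1 = L := rfl
  have hF2 : F 2 = M := rfl
  have hFm : ∀ i, F i ∈ OmS Om (S : Subgroup G) := by
    intro i
    fin_cases i
    · exact hK
    · exact hL
    · exact hM
  have hFe : ∀ N ∈ OmS Om (S : Subgroup G), ∃ i, N = F i := by
    intro N hN
    rcases hall N hN with rfl | rfl | rfl
    exacts [⟨0, rfl⟩, ⟨1, rfl⟩, ⟨2, rfl⟩]
  have hFi : ∀ i j, F i = F j → i = j := by
    intro i j hij
    fin_cases i <;> fin_cases j
    all_goals first
      | rfl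
      | exact (hKL hij).elim
      | exact (hKM hij).elim
      | exact (hLM hij).elim
      | exact (hKL hij.symm).elim
      | exact (hKM hij.symm).elim
      | exact (hLM hij.symm).elim
  refine ⟨S, F, ?_⟩
  exact {
    hyp := h
    syl := ⟨S, rfl⟩
    omS := fun N => ⟨hFe N, fun ⟨i, hi⟩ => hi ▸ hFm i⟩
    inj := fun i j hij => hFi i j (t.inj (hFm i).1 (hFm j).1 hij)
    prod := by
      intro i j k hij hjk hik
      refine hmul (hFm i) (hFm j) (fun e => hij (hFi i j e)) ?_
      intro N hN h1 h2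
      obtain ⟨l, rfl⟩ := hFe N hN
      obtain ⟨k', h3, h4, h5⟩ := third i j hij
      have h6 : k = k' := by
        rcases h5 k with h6 | h6 | h6
        · exact (hik h6.symm).elim
        · exact (hjk h6.symm).elim
        · exact h6
      have h7 : l = k' := by
        rcases h5 l with h7 | h7 | h7
        · exact (h1 (by rw [h7])).elim
        · exact (h2 (by rw [h7])).elim
        · exact h7
      rw [h7, h6]
    T := by
      intro i J hJ
      obtain ⟨N, hN, h1⟩ := hT (F i) (hFm i) J hJ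
      obtain ⟨j, rfl⟩ := hFe N hN
      exact ⟨j, h1⟩ }

end Main

/-- Goldschmidt's theorem on strongly closed abelian 2-subgroups (S1169) -/
def GoldStmt : Prop := ∀ (G : Type u) [Group G] [Finite G] [IsSimpleGroup G] (S : Sylow 2 G) (A : Subgroup G),
  A ≠ ⊥ → IsMulCommutative A → IsStronglyClosed A (S : Subgroup G) →
    IsMulCommutative (S : Subgroup G) ∨ ∃ H : Subgroup G, IsStronglyEmbedded H

/-- Bender's theorem for simple groups -/
def BendSimple : Prop := ∀ (G : Type u) [Group G] [Finite G] [IsSimpleGroup G], CloEnd.Bend G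

/-- **`DisFourStmt`** -/
theorem dis_four (gold : GoldStmt.{u}) (bend : BendSimple.{u}) : DisFourStmt.{u} := by
  intro G _ _ Om hm t _ hd
  haveI := hm.simple
  obtain ⟨S, K, h⟩ := exists_thr hm t hd
  exact h.false (typ hm.isType) (fun P A h1 h2 h3 => gold G P A h1 h2 h3) fun _ H hH => bend G H hH

end Cfsg.Agent.Cit.ThreeB
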