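import Cfsg.Agent.S0205
import Cfsg.Agent.S1169
import Cfsg.Agent.S1174
import Cfsg.Agent.S1175
import Cfsg.Agent.StrongEmb.Strong
import Cfsg.Agent.Cit.TSimple
import Cfsg.Agent.Cit.CoresG
import Cfsg.Agent.Cit.CloEnd
import Cfsg.Agent.Cit.CoreThree
import Cfsg.Agent.Cit.ThreeBMin

/-!
# The external inputs of THEOREM T (project CIT, S1310)

`oddStmt`, `evLeaf` : the odd order theorem (S0205); `bend` : Bender's theorem for simple groups; `c74`, `c75` : S1174,
S1175; `gold` : S1169.  Only the last file of the assembly should import this file.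
-/

set_option autoImplicit false

namespace Cfsg.Agent.Cit.ExtIn

open Subgroup Cfsg

universe u

theorem oddStmt : CoresG.OddStmt.{u} := fun X _ _ h => S0205.result (G := X) (Nat.odd_iff.2 (by omega))

theorem evLeaf : EvLeaf.{u} := fun G _ _ => Comp.evQ_of_solvable fun D h => S0205.result (G := D) h

theorem bend (G : Type u) [Group G] [Finite G] [IsSimpleGroup G] : CloEnd.Bend G := by
  intro H hH
  by_cases hna : ∃ a b : G, a * b ≠ b * a
  · exact StrongEmb.Strong.result hna H hH
  · exfalso
    push Not at hna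
    have hn : H.Normal := ⟨fun n hn g => by rw [hna g n, mul_assoc, mul_inv_cancel, mul_one]; exact hn⟩
    rcases hn.eq_bot_or_eq_top with h | h
    · have h1 := hH.2.1
      rw [h, card_bot] at h1
      exact absurd h1 (by decide)
    · exact hH.1 h

theorem c74 (G : Type u) [Group G] [Finite G] [IsSimpleGroup G] : CloEnd.Crit1174 G :=
  fun S T h1 h2 h3 => S1174.result S T h1 h2 h3

theorem c75 (G : Type u) [Group G] [Finite G] [IsSimpleGroup G] : CloEnd.Crit1175 G :=
  fun M h1 z h2 h3 h4 h5 h6 => S1175.result M h1 z h2 h3 h4 h5 h6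

theorem critStmt : CoreThree.CritStmt.{u} := fun G _ _ _ => c75 G

theorem bendStmt : CoreThree.BendStmt.{u} := fun G _ _ _ => bend G

theorem gold : ThreeB.GoldStmt.{u} := fun _ _ _ _ S A h1 h2 h3 => S1169.result S A h1 h2 h3

end Cfsg.Agent.Cit.ExtIn
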