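import Cfsg.Agent.Cit.CT
import Cfsg.Agent.FixBN.FixSplit
import Cfsg.Agent.FixBN.OfRGD
import Cfsg.Agent.Nodes.Chart

/-!
# THEOREM FIX for quasisimple subgroups `L` with `L/Z(L)` of Lie type

`fixP_of_hasSplit` : `Z(L)` a 2-group, `L/Z(L)` with a split (B,N)-pair of odd characteristic `p` ⟹ `FixP p L`.
-/

set_option autoImplicit false
set_option linter.style.haveILetI false

namespace Cfsg.Agent.Cit.CT

open Subgroup Cfsg Cfsg.Agent.Cit

variable {G : Type*} [Group G]

/-- conjugation by an element of the normaliser -/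
def nAut {L : Subgroup G} {b : G} (hb : b ∈ normalizer (L : Set G)) : L ≃* L where
  toFun x := ⟨b * x * b⁻¹, (mem_normalizer_iff.1 hb x).1 x.2⟩
  invFun x := ⟨b⁻¹ * x * b, by
    rw [mem_normalizer_iff.1 hb]
    have h1 : b * (b⁻¹ * (x : G) * b) * b⁻¹ = x := by group
    rw [h1]; exact x.2⟩
  left_inv x := Subtype.ext (by
    show b⁻¹ * (b * (x : G) * b⁻¹) * b = x
    group)
  right_inv x := Subtype.ext (by
    show b * (b⁻¹ * (x : G) * b) * b⁻¹ = x
    group)
  map_mul' x y := Subtype.ext (by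
    show b * ((x : G) * y) * b⁻¹ = b * x * b⁻¹ * (b * y * b⁻¹)
    group)

theorem coe_nAut {L : Subgroup G} {b : G} (hb : b ∈ normalizer (L : Set G)) (x : L) :
    (nAut hb x : G) = b * x * b⁻¹ := rfl

/-- the automorphism of `L/Z(L)` induced by `b ∈ N(L)` -/
noncomputable def qAut {L : Subgroup G} {b : G} (hb : b ∈ normalizer (L : Set G)) :
    (L ⧸ center L) ≃* (L ⧸ center L) :=
  QuotientGroup.congr (center L) (center L) (nAut hb) ((characteristic_iff_map_eq.1 inferInstance) (nAut hb))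

theorem qAut_mk {L : Subgroup G} {b : G} (hb : b ∈ normalizer (L : Set G)) (x : L) :
    qAut hb (QuotientGroup.mk' (center L) x) = QuotientGroup.mk' (center L) (nAut hb x) := rfl

theorem nAut_of_comm {L : Subgroup G} {b : G} (hb : b ∈ normalizer (L : Set G)) {x : L}
    (h : (x : G) * b = b * x) : nAut hb x = x := by
  apply Subtype.ext
  rw [coe_nAut, ← h]; group

theorem qAut_qAut {L : Subgroup G} {b : G} (hb : b ∈ normalizer (L : Set G)) (h2 : b * b = 1)
    (g : L ⧸ center L) : qAut hb (qAut hb g) = g := by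
  obtain ⟨x, rfl⟩ := QuotientGroup.mk'_surjective (center L) g
  rw [qAut_mk, qAut_mk]
  congr 1
  apply Subtype.ext
  rw [coe_nAut, coe_nAut]
  calc b * (b * (x : G) * b⁻¹) * b⁻¹ = (b * b) * x * (b * b)⁻¹ := by group
    _ = x := by rw [h2]; group

/-- **the image of `O(C_L(b))` in `L/Z(L)`**, for `Z(L)` a 2-group -/
theorem exists_image [Finite G] {L : Subgroup G} (hZ : IsPGroup 2 (center L)) {b : G} (hbL : b ∈ normalizer (L : Set G)) :
    (∀ x ∈ OO (L ⊓ centralizer {b}), ∀ hx : x ∈ L, (⟨x, hx⟩ : L) ∈ center L → x = 1) ∧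
    (∀ x ∈ ((OO (L ⊓ centralizer {b})).subgroupOf L).map (QuotientGroup.mk' (center L)), qAut hbL x = x) ∧
    (∀ g, qAut hbL g = g → ∀ x ∈ ((OO (L ⊓ centralizer {b})).subgroupOf L).map (QuotientGroup.mk' (center L)),
      g * x * g⁻¹ ∈ ((OO (L ⊓ centralizer {b})).subgroupOf L).map (QuotientGroup.mk' (center L))) ∧
    Nat.card (((OO (L ⊓ centralizer {b})).subgroupOf L).map (QuotientGroup.mk' (center L))) =
      Nat.card (OO (L ⊓ centralizer {b})) := by
  set C : Subgroup G := L ⊓ centralizer {b} with hC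
  set W : Subgroup G := OO C with hW
  have hWC : W ≤ C := OO_le C
  have hWL : W ≤ L := hWC.trans inf_le_left
  have hWodd : ¬ 2 ∣ Nat.card W := odd_OO C
  let π : L →* L ⧸ center L := QuotientGroup.mk' (center L)
  have hπ : ∀ x, π x = 1 ↔ x ∈ center L := fun x => QuotientGroup.eq_one_iff x
  have hτπ : ∀ x : L, qAut hbL (π x) = π (nAut hbL x) := fun x => rfl
  -- elements of `L` fixed modulo `Z(L)` normalise `C` and `W`
  have hnC : ∀ g : L, qAut hbL (π g) = π g → ∀ x ∈ W, (g : G) * x * (g : G)⁻¹ ∈ W := by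
    intro g hg x hx
    have h1 : (nAut hbL g)⁻¹ * g ∈ center L := by
      rw [hτπ] at hg
      rw [← hπ, map_mul, map_inv, hg, inv_mul_cancel]
    set z0 : L := (nAut hbL g)⁻¹ * g with hz0
    have h2 : b * (g : G) * b⁻¹ = g * (z0 : G)⁻¹ := by
      rw [hz0]
      simp only [Subgroup.coe_mul, Subgroup.coe_inv, coe_nAut]
      group
    have hgC : (g : G) ∈ normalizer (C : Set G) := by
      have key : ∀ c ∈ C, (g : G) * c * (g : G)⁻¹ ∈ C := by
        rintro c ⟨hcL, hcb⟩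
        have hcb' := mem_centralizer_singleton_iff.1 hcb
        refine ⟨L.mul_mem (L.mul_mem g.2 hcL) (L.inv_mem g.2), ?_⟩
        refine mem_centralizer_singleton_iff.2 ?_
        have h3 : c * (z0 : G) = z0 * c := by
          have := mem_center_iff.1 h1 ⟨c, hcL⟩
          exact congrArg Subtype.val this
        have h4 : (z0 : G)⁻¹ * c * z0 = c := by rw [mul_assoc, h3]; group
        have h5 : b * ((g : G) * c * (g : G)⁻¹) * b⁻¹ = g * c * (g : G)⁻¹ := by
          calc b * ((g : G) * c * (g : G)⁻¹) * b⁻¹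
              = (b * g * b⁻¹) * (b * c * b⁻¹) * (b * g * b⁻¹)⁻¹ := by group
            _ = (g * (z0 : G)⁻¹) * c * (g * (z0 : G)⁻¹)⁻¹ := by
                rw [h2, ← hcb']; group
            _ = g * ((z0 : G)⁻¹ * c * z0) * (g : G)⁻¹ := by group
            _ = _ := by rw [h4]
        rw [mul_inv_eq_iff_eq_mul] at h5
        exact h5.symm
      rw [mem_normalizer_iff_cj]
      apply Subgroup.eq_of_le_of_card_ge
      · rintro y hy
        rw [mem_cj] at hy
        have h6 := key _ hy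
        have h7 : (g : G) * ((g : G)⁻¹ * y * g) * (g : G)⁻¹ = y := by group
        rwa [h7] at h6
      · rw [card_cj]
    have h8 : cj (g : G) W = W := by
      rw [hW, ← OO_cj, mem_normalizer_iff_cj.1 hgC]
    rw [← h8]
    exact conj_mem_cj hx
  have hinj : ∀ x ∈ W, ∀ hx : x ∈ L, (⟨x, hx⟩ : L) ∈ center L → x = 1 := by
    intro x hxW hx h1
    obtain ⟨k, hk⟩ := hZ ⟨_, h1⟩
    have hk' : x ^ 2 ^ k = 1 := congrArg (fun y : center L => ((y : L) : G)) hk
    exact eq_one_of_odd hWodd hxW hk'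
  refine ⟨hinj, ?_, ?_, ?_⟩
  · rintro _ ⟨x, hx, rfl⟩
    have h1 := mem_centralizer_singleton_iff.1 (hWC (mem_subgroupOf.1 hx)).2
    show qAut hbL (π x) = π x
    rw [hτπ, nAut_of_comm hbL h1]
  · rintro g hg _ ⟨x, hx, rfl⟩
    obtain ⟨g, rfl⟩ := QuotientGroup.mk'_surjective (center L) g
    refine ⟨g * x * g⁻¹, ?_, by simp only [map_mul, map_inv]⟩
    exact hnC g hg x (mem_subgroupOf.1 hx)
  · have h1 : Function.Injective (π.comp (inclusion hWL)) := by
      rw [← MonoidHom.ker_eq_bot_iff, eq_bot_iff]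
      intro x hx
      rw [MonoidHom.mem_ker] at hx
      have h2 : inclusion hWL x ∈ center L := (hπ _).1 hx
      rw [mem_bot]
      exact Subtype.ext (hinj x x.2 _ h2)
    have h2 : (W.subgroupOf L).map π = (π.comp (inclusion hWL)).range := by
      rw [MonoidHom.range_comp, inclusion_range]
    change Nat.card ((W.subgroupOf L).map π) = _
    rw [h2]
    exact (Nat.card_congr (MonoidHom.ofInjective h1).toEquiv).symm

/-- **THEOREM FIX** for `L` -/
theorem fixP_of_hasSplit [Finite G] {p : ℕ} [Fact p.Prime] (hp2 : p ≠ 2) {L : Subgroup G}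
    (hZ : IsPGroup 2 (center L)) (hS : FixBN.HasSplit p (L ⧸ center L)) : FixP p L := by
  intro b hb hbL
  obtain ⟨hinj, hfix, hnorm, hcard⟩ := exists_image hZ hbL
  have hWC : OO (L ⊓ centralizer {b}) ≤ L ⊓ centralizer {b} := OO_le _
  have hWL := hWC.trans inf_le_left
  have hodd := odd_OO (L ⊓ centralizer {b})
  obtain ⟨h1, h2⟩ := FixBN.fix_of_hasSplit hp2 hS (qAut hbL) (qAut_qAut hbL hb) hfix hnorm (by
      rw [hcard]
      exact Nat.odd_iff.2 (by omega))
  rw [hcard] at h1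
  refine ⟨h1, ?_⟩
  intro v hvL hvb hvp w hw
  obtain ⟨k, hk⟩ := hvp ⟨v, mem_zpowers v⟩
  have hk' : v ^ p ^ k = 1 := congrArg Subtype.val hk
  have h3 := h2 (QuotientGroup.mk' (center L) ⟨v, hvL⟩) (by
      rw [qAut_mk, nAut_of_comm hbL hvb]) ⟨k, by
      rw [← map_pow]
      have : (⟨v, hvL⟩ : L) ^ p ^ k = 1 := Subtype.ext hk'
      rw [this, map_one]⟩ (QuotientGroup.mk' (center L) ⟨w, hWL hw⟩) ⟨⟨w, hWL hw⟩, mem_subgroupOf.2 hw, rfl⟩
  have h4 : (⟨v, hvL⟩ * ⟨w, hWL hw⟩ * (⟨v, hvL⟩ : L)⁻¹ * (⟨w, hWL hw⟩ : L)⁻¹ : L) ∈ center L := by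
    rw [← QuotientGroup.eq_one_iff]
    change QuotientGroup.mk' (center L) _ = 1
    simp only [map_mul, map_inv]
    rw [h3]; group
  have h5 : v * w * v⁻¹ * w⁻¹ ∈ OO (L ⊓ centralizer {b}) := by
    have hvC : v ∈ L ⊓ centralizer {b} := ⟨hvL, mem_centralizer_singleton_iff.2 hvb⟩
    exact mul_mem ((mem_normalizer_iff.1 (le_normalizer_OO _ hvC) w).1 hw) (inv_mem hw)
  have h6 := hinj _ h5 (hWL h5) h4
  rw [mul_inv_eq_one, mul_inv_eq_iff_eq_mul] at h6
  exact h6

/-! ### Charts -/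

section Chart

open Cfsg.Agent.Nodes.Chart Cfsg.Agent.Nodes.RGDLib Cfsg.Agent.Nodes.BNOf Cfsg.Agent.Tits.Roots

variable {Om : Set (Subgroup G)} {p : ℕ} {L : Subgroup G}

theorem chart_X_le (c : Chart Om p L) {x : c.I → ℤ} (hx : IsRoot c.cs c.h x) : c.X x ≤ L :=
  (X_le_G1 hx).trans c.gen.le

theorem chart_n_mem (c : Chart Om p L) (i : c.I) : c.n i ∈ L := by
  have hR := c.cls.rgd
  have hne : ∃ u ∈ c.X (-sr i), u ≠ 1 := by
    by_contra hcon
    push Not at hcon
    apply hR.notp i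
    have h1 : c.X (-sr i) = ⊥ := (eq_bot_iff_forall _).2 hcon
    rw [h1, sup_bot_eq]
    exact hR.pgrp i
  obtain ⟨u, hu, hu1⟩ := hne
  obtain ⟨a, ha, t, ht, b, hb, e⟩ := hR.rk1 i u hu hu1
  have h1 : c.n i = t⁻¹ * a⁻¹ * u * b⁻¹ := by rw [e]; group
  rw [h1]
  exact L.mul_mem (L.mul_mem (L.mul_mem (L.inv_mem (c.T_le ht))
    (L.inv_mem (chart_X_le c (isRoot_sr c.cs c.h i) ha))) (chart_X_le c (isRoot_sr c.cs c.h i).neg hu))
    (L.inv_mem (chart_X_le c (isRoot_sr c.cs c.h i) hb))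

/-- `L/Z(L)` has a split (B,N)-pair of characteristic `p` -/
theorem hasSplit_of_chart [Finite G] (c : Chart Om p L) (hq : IsQuasisimple L) :
    FixBN.HasSplit p (L ⧸ center L) := by
  haveI : Fact p.Prime := ⟨c.prime⟩
  haveI : Nonempty c.I := c.ne
  haveI : IsSimpleGroup (L ⧸ center L) := hq.2
  have R1 := rgd_restrict c.cls.rgd L (fun x hx => chart_X_le c hx) (chart_n_mem c)
  have R2 := rgd_map_of_ker_le_center R1 (QuotientGroup.mk' (center L)) (by rw [QuotientGroup.ker_mk'])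
  refine FixBN.OfRGD.hasSplit_of_isSimpleGroup R2 (rgd_gen_of_G1 R2 ?_)
  have h1 : G1 c.cs c.h (fun x => (c.X x).subgroupOf L) = ⊤ := by
    have h2 := (iSup_subgroupOf (K := L) (fun z : {x : c.I → ℤ // IsRoot c.cs c.h x} => c.X z.1)
      (fun z => chart_X_le c z.2))
    have h3 : (⨆ z : {x : c.I → ℤ // IsRoot c.cs c.h x}, c.X z.1) = L := c.gen
    rw [h3, subgroupOf_self] at h2
    exact h2.symm
  have h4 : (G1 c.cs c.h (fun x => (c.X x).subgroupOf L)).map (QuotientGroup.mk' (center L)) =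
      G1 c.cs c.h (fun x => ((c.X x).subgroupOf L).map (QuotientGroup.mk' (center L))) :=
    Subgroup.map_iSup _ _
  rw [← h4, h1, ← MonoidHom.range_eq_map, QuotientGroup.range_mk']

/-- **THEOREM FIX for pieces with a chart** -/
theorem fixP_of_chart [Finite G] (c : Chart Om p L) (hq : IsQuasisimple L) (hZ : IsPGroup 2 (center L)) :
    FixP p L := by
  haveI : Fact p.Prime := ⟨c.prime⟩
  exact fixP_of_hasSplit c.odd hZ (hasSplit_of_chart c hq)

end Chart

end Cfsg.Agent.Cit.CT
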