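import Cfsg.Agent.Nodes.KindsOf
import Cfsg.Agent.Nodes.KindA
import Cfsg.Agent.Nodes.KindB
import Cfsg.Agent.Nodes.KindC
import Cfsg.Agent.Nodes.KindD
import Cfsg.Agent.Nodes.KindE
import Cfsg.Agent.Nodes.KindF
import Cfsg.Agent.Nodes.RKindsBC
import Cfsg.Agent.Nodes.Relabel
import Cfsg.Agent.Nodes.TyStd
import Cfsg.Agent.Cit.TDef

/-!
# The types of the pieces with two commuting members with the same involution (project CIT, `|Om(S)| = 4`, `τ = 2`)

* `exists_frame` : every typed chart has a maximal frame of orthogonal classical roots with `fsz τ` members;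
* `card_eq` : a maximal commuting family of members of `Om` in a chart group of type `τ` has `fsz τ` members;
* `types` : two commuting members `K`, `K'` with `zz K = zz K'` and no third one commuting with both: the chart is (after a
  relabelling) of type `B 2`, `B 3` or `D 3`, and `Z r = X r`.
-/

set_option autoImplicit false
set_option linter.unusedSectionVars false
set_option linter.dupNamespace false

namespace Cfsg.Agent.Cit.FourTypes

open CoxeterSystem Cfsg.Agent.ChevalleyStructure.CoxeterGeom Cfsg.Agent.Tits.Roots Cfsg.Agent.Tits.Core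
  Cfsg.Agent.Tits.RootComb Cfsg.Agent.Nodes.Comb Cfsg.Agent.Nodes.Reps Cfsg.Agent.Nodes.BNOf
  Cfsg.Agent.Nodes.RGDLib Cfsg.Agent.Nodes.Chart Cfsg.Agent.Nodes.Coroot Cfsg.Agent.Nodes.Perp
  Cfsg.Agent.Nodes.ChartFrame Cfsg.Agent.Nodes.KindBase Cfsg.Agent.Nodes.TyStd
open Cfsg.Agent.Cit.TypeDet (cm OmIn)

variable {G : Type*} [Group G] {Om : Set (Subgroup G)} {p : ℕ} {D : Subgroup G}

/-- the size of the frames -/
def fsz : Nodes.Chart.Ty → ℕ
  | .A n => (n + 1) / 2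
  | .B n => 2 * (n / 2)
  | .C n => n
  | .D n => 2 * (n / 2)
  | .E6 => 4
  | .E7 => 7
  | .E8 => 8
  | .F4 => 4
  | .G2 => 1

/-- a frame of the standard root system gives a frame of a standardised chart -/
theorem exists_of_std (c : Chart Om p D) {τ : Nodes.Chart.Ty} (hτ : c.IsTy τ) {κ : Type} (g : κ → Fin τ.rk → ℤ)
    (H : ∀ [Fintype τ.M.Group], ∃ R' : Set (Fin τ.rk → ℤ),
      (∀ i, sr i ∈ R' ↔ τ.long i) ∧
      (∀ r ∈ R', ∀ s ∈ R', ∃ w, s = rep τ.M.toCoxeterSystem τ.isCartan w r) ∧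
      FrameSys τ.M.toCoxeterSystem τ.isCartan R' g) :
    ∃ (c' : Chart Om p D) (hI : c'.I = Fin τ.rk), c'.IsTy τ ∧
      ∃ g' : κ → c'.I → ℤ, (∀ k i, g' k i = g k (cast hI i)) ∧ FrameSys c'.cs c'.h c'.R g' := by
  have hf : Finite τ.M.Group := finite_of_isTy c hτ τ.M.toCoxeterSystem
  let _ : Fintype τ.M.Group := Fintype.ofFinite _
  obtain ⟨R', h1, h2, h3⟩ := H
  obtain ⟨e, hM, hA, hR, h4⟩ := exists_chart_of_isTy c hτ (W' := τ.M.Group) τ.M.toCoxeterSystem (R' := R')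
    h3.root h3.act h1 h2
  exact ⟨reindex c e hM hA τ.M.toCoxeterSystem τ.isCartan h3.root h3.act hR h2, rfl, h4, g, fun _ _ => rfl, h3⟩


/-- every typed chart has a frame system with `fsz τ` members -/
theorem exists_frame (c : Chart Om p D) {τ : Nodes.Chart.Ty} (hτ : c.IsTy τ) (ok : KindOk τ) :
    ∃ (c' : Chart Om p D) (κ : Type) (_ : Fintype κ) (g : κ → c'.I → ℤ), c'.IsTy τ ∧
      FrameSys c'.cs c'.h c'.R g ∧ Fintype.card κ = fsz τ := by
  have hI : c.I ≃ Fin τ.rk := hτ.choose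
  cases τ with
  | A n =>
    obtain ⟨c', hI, h1, g', -, h2⟩ := exists_of_std c hτ (Nodes.KindA.g n) (by
      intro _
      exact ⟨{x | IsRoot (Ty.A n).M.toCoxeterSystem (Ty.A n).isCartan x},
        fun i => ⟨fun _ => trivial, fun _ => isRoot_sr _ _ i⟩,
        fun r hr s hs => by
          obtain ⟨w, hw⟩ := Nodes.KindA.trans (Ty.A n).M.toCoxeterSystem (Ty.A n).isCartan hr hs
          exact ⟨w, hw.symm⟩,
        Nodes.KindA.frameSys _ _⟩)
    exact ⟨c', _, inferInstance, g', h1, h2, Fintype.card_fin _⟩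
  | B n =>
    obtain ⟨c', hI, h1, g', -, h2⟩ := exists_of_std c hτ (Nodes.KindB.fr n) (by
      intro _
      exact ⟨_, fun i => Nodes.RKindsBC.sr_mem_RB, Nodes.KindBC.trans_RB _, Nodes.KindB.frameSys _⟩)
    exact ⟨c', _, inferInstance, g', h1, h2, Fintype.card_fin _⟩
  | C n =>
    obtain ⟨c', hI, h1, g', -, h2⟩ := exists_of_std c hτ (Nodes.KindC.fr n) (by
      intro _
      exact ⟨_, fun i => Nodes.RKindsBC.sr_mem_RC, Nodes.KindBC.trans_RC _, Nodes.KindC.frameSys _⟩)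
    exact ⟨c', _, inferInstance, g', h1, h2, Fintype.card_fin _⟩
  | D n =>
    have hn : 4 ≤ n := ok
    obtain ⟨c', hI, h1, g', -, h2⟩ := exists_of_std c hτ (Nodes.KindD.g (n := n - 2)) (by
      intro _
      exact ⟨{x | IsRoot (Ty.D n).M.toCoxeterSystem (Ty.D n).isCartan x},
        fun i => ⟨fun _ => trivial, fun _ => isRoot_sr _ _ i⟩,
        fun r hr s hs => by
          obtain ⟨w, hw⟩ := Nodes.KindD.trans (Ty.D n).M.toCoxeterSystem (by omega : 1 ≤ n - 2) hr hs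
          exact ⟨w, hw.symm⟩,
        Nodes.KindD.frameSys _⟩)
    refine ⟨c', _, inferInstance, g', h1, h2, ?_⟩
    rw [Nodes.KindD.card_ix]
    change 2 * ((n - 2 + 2) / 2) = 2 * (n / 2)
    rw [Nat.sub_add_cancel (by omega)]
  | E6 =>
    obtain ⟨c', hI, h1, g', -, h2⟩ := exists_of_std c hτ Nodes.KindE.fr6 (by
      intro _
      exact ⟨Nodes.KindE.R6 (Ty.E6).M.toCoxeterSystem (Ty.E6).isCartan,
        fun i => ⟨fun _ => trivial, fun _ => isRoot_sr _ _ i⟩,
        fun r hr s hs => by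
          obtain ⟨w, hw⟩ := Nodes.KindE.trans6 (Ty.E6).M.toCoxeterSystem (Ty.E6).isCartan hr hs
          exact ⟨w, hw.symm⟩,
        Nodes.KindE.frameSys6 _ _⟩)
    exact ⟨c', _, inferInstance, g', h1, h2, Fintype.card_fin _⟩
  | E7 =>
    obtain ⟨c', hI, h1, g', -, h2⟩ := exists_of_std c hτ Nodes.KindE.fr7 (by
      intro _
      exact ⟨Nodes.KindE.R7 (Ty.E7).M.toCoxeterSystem (Ty.E7).isCartan,
        fun i => ⟨fun _ => trivial, fun _ => isRoot_sr _ _ i⟩,
        fun r hr s hs => by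
          obtain ⟨w, hw⟩ := Nodes.KindE.trans7 (Ty.E7).M.toCoxeterSystem (Ty.E7).isCartan hr hs
          exact ⟨w, hw.symm⟩,
        Nodes.KindE.frameSys7 _ _⟩)
    exact ⟨c', _, inferInstance, g', h1, h2, Fintype.card_fin _⟩
  | E8 =>
    obtain ⟨c', hI, h1, g', -, h2⟩ := exists_of_std c hτ Nodes.KindE.fr8 (by
      intro _
      exact ⟨Nodes.KindE.R8 (Ty.E8).M.toCoxeterSystem (Ty.E8).isCartan,
        fun i => ⟨fun _ => trivial, fun _ => isRoot_sr _ _ i⟩,
        fun r hr s hs => by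
          obtain ⟨w, hw⟩ := Nodes.KindE.trans8 (Ty.E8).M.toCoxeterSystem (Ty.E8).isCartan hr hs
          exact ⟨w, hw.symm⟩,
        Nodes.KindE.frameSys8 _ _⟩)
    exact ⟨c', _, inferInstance, g', h1, h2, Fintype.card_fin _⟩
  | F4 =>
    obtain ⟨c', hI, h1, g', -, h2⟩ := exists_of_std c hτ Nodes.KindF.fr (by
      intro _
      refine ⟨Nodes.KindF.R (Ty.F4).M.toCoxeterSystem (Ty.F4).isCartan, ?_,
        fun r hr s hs => by
          obtain ⟨w, hw⟩ := Nodes.KindF.trans (Ty.F4).M.toCoxeterSystem (Ty.F4).isCartan hr hs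
          exact ⟨w, hw.symm⟩,
        Nodes.KindF.frameSys _ _⟩
      intro i
      have h3 : ∀ i : Fin 4, Nodes.KindChev.qf
          (ChevalleyStructure.CoxeterGeomTypes.cartanOf Cfsg.Lie.chevF4 4) Nodes.KindF.d (sr i) (sr i) = 4 ↔
          2 ≤ (i : ℕ) := by decide +kernel
      exact ⟨fun h4 => (h3 i).1 h4.2, fun h4 => ⟨isRoot_sr _ _ i, (h3 i).2 h4⟩⟩)
    exact ⟨c', _, inferInstance, g', h1, h2, Fintype.card_fin _⟩
  | G2 => exact ok.elim


/-- if two roots are orthogonal then every root is joined to another one -/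
theorem exists_joined (c : Chart Om p D) {s₀ s₁ : c.I → ℤ} (h0 : IsRoot c.cs c.h s₀) (h1 : IsRoot c.cs c.h s₁)
    (ho : form c.cs c.h s₀ s₁ = 0) {r : c.I → ℤ} (hr : IsRoot c.cs c.h r) :
    ∃ x, IsRoot c.cs c.h x ∧ x ≠ r ∧ x ≠ -r ∧ form c.cs c.h x r ≠ 0 := by
  obtain ⟨w, i, rfl⟩ := hr
  have hne : ({i} : Set c.I) ≠ Set.univ := by
    intro hu
    have hsub : ∀ j, j = i := fun j => by
      have : j ∈ ({i} : Set c.I) := by rw [hu]; trivial
      exact this
    have hz : ∀ x : c.I → ℤ, x = x i • sr i := by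
      intro x
      funext j
      rw [hsub j, Pi.smul_apply, sr_self, smul_eq_mul, mul_one]
    have hp := form_pos c.cs c.h (sr_ne_zero i)
    rw [hz s₀, hz s₁, form_smul_left, form_smul_right] at ho
    have n0 : s₀ i ≠ 0 := fun e => h0.ne_zero (by rw [hz s₀, e, zero_smul])
    have n1 : s₁ i ≠ 0 := fun e => h1.ne_zero (by rw [hz s₁, e, zero_smul])
    rcases mul_eq_zero.1 ho with e | e
    · exact n0 e
    · rcases mul_eq_zero.1 e with e | e
      · exact n1 e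
      · exact hp.ne' e
  obtain ⟨a, ha, b, hb, hab⟩ := c.irr {i} ⟨i, rfl⟩ hne
  have hai : a = i := ha
  subst hai
  have hba : b ≠ a := fun e => hb e
  have hf : form c.cs c.h (sr b) (sr a) ≠ 0 := by
    intro e
    have h2 := two_form c.cs c.h a (sr b)
    rw [e, mul_zero, Nodes.OrthRoot.pairing_sr] at h2
    have hp := form_pos c.cs c.h (sr_ne_zero a)
    rcases mul_eq_zero.1 h2.symm with h3 | h3
    · have h4 := c.h.rel a b hba.symm
      omega
    · exact hp.ne' h3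
  refine ⟨rep c.cs c.h w (sr b), ⟨w, b, rfl⟩, ?_, ?_, by rw [form_rep]; exact hf⟩
  · intro e
    have := congrFun (rep_injective_apply c.cs c.h w e) b
    rw [sr_self, sr_ne hba] at this
    exact one_ne_zero this
  · intro e
    rw [← map_neg] at e
    have := congrFun (rep_injective_apply c.cs c.h w e) b
    rw [sr_self, Pi.neg_apply, sr_ne hba] at this
    norm_num at this


/-! ### Relabelling: `C 2` and `B 2` -/

section Relabel

open Cfsg.Agent.Nodes.Relabel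

/-- relabelling of a chart (the definition in `Nodes.Relabel.exists_chart_relabel`) -/
noncomputable def relabel (C : Chart Om p D) {A' : C.I → C.I → ℤ} (h' : IsCartan C.M A') {d : C.I → ℤ}
    (S : Scal C.A A' d) : Chart Om p D where
  prime := C.prime
  odd := C.odd
  I := C.I
  W := C.W
  M := C.M
  cs := C.cs
  A := A'
  h := h'
  T := C.T
  n := C.n
  X := relX C.cs C.h d C.X
  R := relR C.cs C.h h' d C.R
  Z := relX C.cs C.h d C.Z
  z := relz C.cs C.h d C.z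
  cls := cls_relabel S h' C.cls
  irr := C.irr
  ne := C.ne
  T_le := C.T_le
  gen := by rw [G1_relabel S h', C.gen]
  trans := trans_relR S h' C.trans
  Rne := by
    obtain ⟨r, hr⟩ := C.Rne
    obtain ⟨r', hr', -⟩ := exists_relR S h' C.cls.root hr
    exact ⟨r', hr'⟩
  om := by
    rintro r' ⟨hr', r, hr, hrr⟩
    rw [relX_eq hrr, relX_eq hrr.neg]
    exact C.om r hr
  om_conj := by
    intro K hK hKL
    obtain ⟨r, hr, g, hg, e⟩ := C.om_conj K hK hKL
    obtain ⟨r', hr', hrr⟩ := exists_relR S h' C.cls.root hr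
    refine ⟨r', hr', g, hg, ?_⟩
    rw [relX_eq hrr, relX_eq hrr.neg]
    exact e

theorem mem_R_relabel (C : Chart Om p D) {A' : C.I → C.I → ℤ} (h' : IsCartan C.M A') {d : C.I → ℤ}
    (S : Scal C.A A' d) (i : C.I) : sr i ∈ (relabel C h' S).R ↔ sr i ∈ C.R := by
  have hray : Ray C.cs C.h d (sr i) (sr i) := ray_sr S h' i
  constructor
  · rintro ⟨-, r, hr, hrr⟩
    rwa [ray_unique hray hrr]
  · intro hi
    exact ⟨isRoot_sr _ _ i, sr i, hi, hray⟩

theorem relabel_Z_eq_X (C : Chart Om p D) {A' : C.I → C.I → ℤ} (h' : IsCartan C.M A') {d : C.I → ℤ}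
    (S : Scal C.A A' d) (hZ : ∀ r ∈ C.R, C.Z r = C.X r) :
    ∀ r ∈ (relabel C h' S).R, (relabel C h' S).Z r = (relabel C h' S).X r := by
  rintro r' ⟨hr', r, hr, hrr⟩
  change relX C.cs C.h d C.Z r' = relX C.cs C.h d C.X r'
  rw [relX_eq hrr, relX_eq hrr]
  exact hZ r hr

theorem typeC_two : ∀ i j : Fin 2, Nodes.TypeC.A 2 j i = Nodes.TypeC.A 2 (Equiv.swap 0 1 i) (Equiv.swap 0 1 j) := by
  intro i j
  rw [Nodes.TypeC.A_apply, Nodes.TypeC.A_apply]
  revert i j
  decide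

/-- **a chart of type `C 2` may be relabelled to a chart of type `B 2`.** -/
theorem exists_B_two (c : Chart Om p D) (hτ : c.IsTy (.C 2)) (hZ : ∀ r ∈ c.R, c.Z r = c.X r) :
    ∃ c' : Chart Om p D, c'.IsTy (.B 2) ∧ ∀ r ∈ c'.R, c'.Z r = c'.X r := by
  obtain ⟨e, hA, hl⟩ := hτ
  have h' : IsCartan c.M (fun i j => c.A j i) := ⟨fun i => c.h.diag i, fun i j hij => by
    have h1 := c.h.rel j i hij.symm
    rw [c.M.symmetric] at h1
    exact h1⟩
  have S := scal_transpose (cs := c.cs) c.h h' (fun _ _ => rfl)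
  refine ⟨relabel c h' S, ⟨Equiv.trans (β := Fin 2) (γ := Fin 2) e (Equiv.swap 0 1), ?_, ?_⟩, relabel_Z_eq_X c h' S hZ⟩
  · intro i j
    exact (hA j i).trans (typeC_two (e i) (e j))
  · intro i
    have key : ∀ j : Fin 2, (j : ℕ) + 1 = 2 ↔ ((Equiv.swap (0 : Fin 2) 1 j : Fin 2) : ℕ) + 1 < 2 := by decide
    exact (mem_R_relabel c h' S i).trans ((hl i).trans (key (e i)))

theorem typeA_three : ∀ i j : Fin 3, Nodes.RootsA.AA 3 i j =
    Nodes.TypeD.A 1 (Equiv.swap (0 : Fin 3) 1 i) (Equiv.swap (0 : Fin 3) 1 j) := by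
  intro i j
  rw [Nodes.TypeD.A_apply]
  revert i j
  decide

/-- **`A 3 = D 3`** -/
theorem isTy_D_three {c : Chart Om p D} (hτ : c.IsTy (.A 3)) : c.IsTy (.D 3) := by
  obtain ⟨e, hA, hl⟩ := hτ
  refine ⟨Equiv.trans (β := Fin 3) (γ := Fin 3) e (Equiv.swap 0 1), fun i j => ?_, fun i => ?_⟩
  · exact (hA i j).trans (typeA_three (e i) (e j))
  · exact hl i

end Relabel


/-! ### The types -/

section AFour

variable {W : Type*} [Group W] [Fintype W] (cs : CoxeterSystem (LieRecognition.BNCox.cA 4) W)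
  (h : IsCartan (LieRecognition.BNCox.cA 4) (Nodes.RootsA.AA 4))

theorem sep_A_four (k l : Fin ((4 + 1) / 2)) (hkl : k ≠ l) : ∃ x : Fin 4 → ℤ, IsRoot cs h x ∧
    form cs h x (Nodes.KindA.g 4 k) = 0 ∧ form cs h x (Nodes.KindA.g 4 l) ≠ 0 ∧
      x ≠ Nodes.KindA.g 4 l ∧ x ≠ -Nodes.KindA.g 4 l := by
  have hv : ∀ (k : Fin ((4 + 1) / 2)) (e : Fin 2), Nodes.KindA.fi 4 k e ≠ (4 : Fin 5) := by decide
  have hne : Nodes.KindA.fi 4 l 0 ≠ (4 : Fin 5) := hv l 0
  have hor : ∀ m, form cs h (Nodes.RootsA.rtA (Nodes.KindA.fi 4 l 0) (4 : Fin 5)) (Nodes.KindA.g 4 m) = 0 ↔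
      m ≠ l := by
    intro m
    rw [← cpr_zero_iff cs h _ (Nodes.KindA.isRoot_g cs h m), Nodes.KindA.cpr_g_zero_iff cs h hne]
    constructor
    · rintro ⟨h1, -⟩ rfl
      exact h1 0 rfl
    · intro hml
      exact ⟨fun e h => hml (Nodes.KindA.fi_inj h).1.symm, fun e => (hv m e).symm⟩
  have hcl : cpr cs h (Nodes.RootsA.rtA (Nodes.KindA.fi 4 l 0) (4 : Fin 5)) (Nodes.KindA.g 4 l) = 1 := by
    unfold Nodes.KindA.g
    have h0 : Nodes.KindA.fi 4 l 0 ≠ Nodes.KindA.fi 4 l 1 := Nodes.KindA.fi_ne l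
    rw [Nodes.KindA.cpr_rtA cs h _ _ h0, if_pos rfl, if_neg h0, if_neg (hv l 0).symm, if_neg (hv l 1).symm]
    norm_num
  have hself := cpr_self cs h (Nodes.KindA.isRoot_g cs h l)
  refine ⟨_, Nodes.RootsA.isRoot_rtA cs h hne, (hor k).2 hkl, fun h => (hor l).1 h rfl, ?_, ?_⟩
  · intro h'
    rw [h', hself] at hcl
    norm_num at hcl
  · intro h'
    rw [h', cpr_neg cs h _ (Nodes.KindA.isRoot_g cs h l), hself] at hcl
    norm_num at hcl

end AFour

/-- type `A 4`: the two members of the frame are separated by a root -/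
theorem exists_A_four (c : Chart Om p D) (hτ : c.IsTy (.A 4)) :
    ∃ (c' : Chart Om p D) (g' : Fin ((4 + 1) / 2) → c'.I → ℤ), FrameSys c'.cs c'.h c'.R g' ∧
      ∀ k l, k ≠ l → ∃ x, IsRoot c'.cs c'.h x ∧ form c'.cs c'.h x (g' k) = 0 ∧
        form c'.cs c'.h x (g' l) ≠ 0 ∧ x ≠ g' l ∧ x ≠ -g' l := by
  have hf : Finite (Ty.A 4).M.Group := finite_of_isTy c hτ (Ty.A 4).M.toCoxeterSystem
  let _ : Fintype (Ty.A 4).M.Group := Fintype.ofFinite _
  have hFS := Nodes.KindA.frameSys (Ty.A 4).M.toCoxeterSystem (Ty.A 4).isCartan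
  obtain ⟨e, hM, hA, hR, h4⟩ := exists_chart_of_isTy c hτ (W' := (Ty.A 4).M.Group) (Ty.A 4).M.toCoxeterSystem
    (R' := {x | IsRoot (Ty.A 4).M.toCoxeterSystem (Ty.A 4).isCartan x}) hFS.root hFS.act
    (fun i => ⟨fun _ => trivial, fun _ => isRoot_sr _ _ i⟩) (fun r hr s hs => by
      obtain ⟨w, hw⟩ := Nodes.KindA.trans (Ty.A 4).M.toCoxeterSystem (Ty.A 4).isCartan hr hs
      exact ⟨w, hw.symm⟩)
  exact ⟨reindex c e hM hA (Ty.A 4).M.toCoxeterSystem (Ty.A 4).isCartan hFS.root hFS.act hR (fun r hr s hs => by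
      obtain ⟨w, hw⟩ := Nodes.KindA.trans (Ty.A 4).M.toCoxeterSystem (Ty.A 4).isCartan hr hs
      exact ⟨w, hw.symm⟩), Nodes.KindA.g 4, hFS, sep_A_four _ _⟩

/-- the involutions of orthogonal classical roots with `z r = z s`: then `X r = Z r` -/
theorem X_le_Z (c : Chart Om p D) {r s : c.I → ℤ} (hr : r ∈ c.R) (hs : s ∈ c.R) (ho : form c.cs c.h r s = 0)
    (hz : c.z r = c.z s) : ∀ r ∈ c.R, c.Z r = c.X r := by
  have h1 : c.Z r = c.X r := by
    refine le_antisymm (c.cls.le r hr) fun a ha => ?_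
    refine mem_Z_of_comm c.cls c.prime c.odd hr ha ?_
    have h2 := Nodes.ZRel.z_cent_of_orth c.cls hs (c.cls.root r hr) ho ha
    rw [hz, ← h2, mul_assoc, c.cls.z_sq s hs, mul_one]
  intro y hy
  obtain ⟨w, rfl⟩ := c.trans r hr y hy
  obtain ⟨k, hk⟩ := exists_rp c.cs c.cls.rgd.nsys w
  rw [← c.cls.rgd.conj_rp hk (c.cls.root r hr), ← Nodes.ClsNorm.conj_Z c.cls hk hr, h1]

variable [Finite G]

/-- **the possible types** of a chart with two commuting members with the same involution, no third member commuting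
with both -/
theorem types (hyp : Hyp Om) (c : Chart Om p D) {τ : Nodes.Chart.Ty} (hτ : c.IsTy τ) (ok : KindOk τ)
    (zx : (∀ r ∈ c.R, c.Z r = c.X r) ∨ ∃ n, τ = .C n) {K K' : Subgroup G} (hK : K ∈ Om) (hK' : K' ∈ Om)
    (hKD : K ≤ D) (hKD' : K' ≤ D) (hc : cm K K') (hzz : zz K = zz K')
    (hmax : ∀ L ∈ Om, L ≤ D → cm L K → cm L K' → False) :
    ∃ c' : Chart Om p D, (c'.IsTy (.B 2) ∨ c'.IsTy (.B 3) ∨ c'.IsTy (.D 3)) ∧ ∀ r ∈ c'.R, c'.Z r = c'.X r := by
  set F : Fin 2 → Subgroup G := ![K, K'] with hF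
  have hF2 : ∀ i, F i ∈ TypeDet.OmIn Om D := by
    intro i
    fin_cases i
    · exact ⟨hK, hKD⟩
    · exact ⟨hK', hKD'⟩
  have hc2 : ∀ i j, i ≠ j → cm (F i) (F j) := by
    intro i j hij
    fin_cases i <;> fin_cases j
    · exact absurd rfl hij
    · exact hc
    · exact TypeDet.cm_symm hc
    · exact absurd rfl hij
  have hmax2 : ∀ L' ∈ TypeDet.OmIn Om D, ¬ ∀ k, cm L' (F k) := fun L hL h => hmax L hL.1 hL.2 (h 0) (h 1)
  -- the size of the frame
  have hsz : fsz τ = 2 := by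
    obtain ⟨c', κ, _, g, h1, FS, hcard⟩ := exists_frame c hτ ok
    obtain ⟨s, d, F'⟩ := exists_frameIn (C := c') hF2 hc2
    obtain ⟨σ, -, -⟩ := F'.exists_std hyp.conj hmax2 FS
    rw [← hcard, ← Fintype.card_congr σ, Fintype.card_fin]
  -- equal involutions in every chart
  have hz : ∀ (c' : Chart Om p D) {s : Fin 2 → c'.I → ℤ} {d : G}, FrameIn c' F s d → c'.z (s 0) = c'.z (s 1) := by
    intro c' s d F'
    have h1 : ∀ r ∈ c'.R, c'.z r ≠ 1 := by
      intro r hr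
      obtain ⟨x, hx, h1, h2, h3⟩ := exists_joined c' (c'.cls.root _ (F'.R 0)) (c'.cls.root _ (F'.R 1))
        (F'.orth 0 1 (by decide)) (c'.cls.root r hr)
      exact Nodes.StdConn.z_ne_one c'.cls c'.prime c'.odd hr hx h1 h2 h3
    have h2 := Nodes.KindsOf.FrameIn_zz hyp F' hF2 h1 0
    have h3 := Nodes.KindsOf.FrameIn_zz hyp F' hF2 h1 1
    rw [← h2, ← h3]
    change d * zz K * d⁻¹ = d * zz K' * d⁻¹
    rw [hzz]
  cases τ with
  | A n =>
    have h2 : (n + 1) / 2 = 2 := hsz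
    by_cases h3 : n = 3
    · subst h3
      exact ⟨c, Or.inr (Or.inr (isTy_D_three hτ)), zx.resolve_right (by rintro ⟨m, hm⟩; cases hm)⟩
    · have h4 : n = 4 := by omega
      subst h4
      exfalso
      obtain ⟨c', g, FS, hsep⟩ := exists_A_four c hτ
      obtain ⟨s, d, F'⟩ := exists_frameIn (C := c') hF2 hc2
      obtain ⟨σ, d', F''⟩ := F'.exists_std hyp.conj hmax2 FS
      have h5 := hz c' F''
      have h6 : σ 0 ≠ σ 1 := fun h => by
        have := σ.injective h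
        exact absurd this (by decide)
      obtain ⟨x, hx, e1, e2, e3, e4⟩ := hsep (σ 0) (σ 1) h6
      exact Nodes.ZRel.z_ne c'.cls c'.prime c'.odd (FS.mem _) (FS.mem _) hx e1 e2 e3 e4 h5.symm
  | B n =>
    have h2 : 2 * (n / 2) = 2 := hsz
    have h3 : 3 ≤ n := ok
    have h4 : n = 3 := by omega
    subst h4
    exact ⟨c, Or.inr (Or.inl hτ), zx.resolve_right (by rintro ⟨m, hm⟩; cases hm)⟩
  | C n =>
    have h2 : n = 2 := hsz
    subst h2
    obtain ⟨s, d, F'⟩ := exists_frameIn (C := c) hF2 hc2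
    obtain ⟨c', h3, h4⟩ := exists_B_two c hτ (X_le_Z c (F'.R 0) (F'.R 1) (F'.orth 0 1 (by decide)) (hz c F'))
    exact ⟨c', Or.inl h3, h4⟩
  | D n =>
    have h2 : 2 * (n / 2) = 2 := hsz
    have h3 : 4 ≤ n := ok
    omega
  | E6 => exact absurd (hsz : (4 : ℕ) = 2) (by decide)
  | E7 => exact absurd (hsz : (7 : ℕ) = 2) (by decide)
  | E8 => exact absurd (hsz : (8 : ℕ) = 2) (by decide)
  | F4 => exact absurd (hsz : (4 : ℕ) = 2) (by decide)
  | G2 => exact ok.elim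

end Cfsg.Agent.Cit.FourTypes
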