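import Cfsg.Agent.Cit.CoreOneHex
import Cfsg.Agent.Cit.HexMem

/-!
# THEOREM T for the groups `G₂(q)`, `³D₄(q)`, several classes of members allowed

`HFour c` : (H4) : a subnormal subgroup `K` of `C(z)` of the right type with `z ∈ K` is `K₁` or `K₄`.
`hasPieces_of_hFour` : `G ≃* L`, `L` with a `HexGrp`, (H4) ⟹ `HasPieces Om`.
-/

set_option autoImplicit false
set_option linter.style.haveILetI false

namespace Cfsg.Agent.Cit.HexPieces

open Subgroup Cfsg

section Hex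

variable {E : Type*} [Field E] {σ : E ≃+* E} {L : Type*} [Group L]

/-- (H4) -/
def HFour (c : HexBase.HexGrp σ L) : Prop := ∀ K : Subgroup L, K ≤ centralizer ({c.z} : Set L) →
  (K.subgroupOf (centralizer ({c.z} : Set L))).IsSubnormal → IsType K → c.z ∈ K → K = c.K1 ∨ K = c.K4

variable [Finite E] [Finite L] (c : HexBase.HexGrp σ L) (h2 : (2 : E) ≠ 0) (h4 : HFour c)
  {Om : Set (Subgroup L)} (h : Hyp Om) (ty : ∀ K ∈ Om, Ty K) {K J M : Subgroup L}

include h4 h ty in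
omit [Finite E] in
theorem eq_of_zz (hK : K ∈ Om) (hz : zz K = c.z) : K = c.K1 ∨ K = c.K4 := by
  refine h4 K ?_ ?_ (ty K hK).isType ?_
  · rw [← hz]; exact h.le_centralizer hK
  · rw [← hz]; exact h.sub _ hK
  · rw [← hz]; exact h.zz_mem hK

include c h2 h in
theorem exists_cj (hK : K ∈ Om) : ∃ g, zz (cj g K) = c.z := by
  obtain ⟨g, hg⟩ := isConj_iff.1 (c.isConj_z h2 (h.zz_mul hK) (h.zz_ne hK))
  exact ⟨g, by rw [h.zz_cj hK]; exact hg⟩

include h2 h in
omit [Finite E] in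
theorem zz_of_le_K4 (hJ : J ∈ Om) (hJ4 : J ≤ c.K4) : zz J = c.z := by
  obtain ⟨w, hw⟩ := hJ4 (h.zz_mem hJ)
  rcases c.p4_sq h2 (w := w) (by rw [hw]; exact h.zz_mul hJ) with h1 | h1
  · exact absurd (hw.symm.trans h1) (h.zz_ne hJ)
  · exact hw.symm.trans h1

include h2 h in
omit [Finite E] in
theorem zz_of_le_K1 (hJ : J ∈ Om) (hJ1 : J ≤ c.K1) : zz J = c.z := by
  obtain ⟨w, hw⟩ := hJ1 (h.zz_mem hJ)
  rcases c.pb_sq h2 (x := w) (by rw [hw]; exact h.zz_mul hJ) with h1 | h1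
  · exact absurd (hw.symm.trans h1) (h.zz_ne hJ)
  · exact hw.symm.trans h1

include h2 in
omit [Finite L] in
theorem le_K4 (hc : c.K1 ≤ centralizer (J : Set L)) : J ≤ c.K4 := fun j hj =>
  c.centralizer_K1 h2 fun x => mem_centralizer_iff.1 (hc ⟨x, rfl⟩) j hj

include h2 in
omit [Finite L] in
theorem le_K1 (hc : c.K4 ≤ centralizer (J : Set L)) : J ≤ c.K1 := fun j hj =>
  c.centralizer_K4 h2 fun x => mem_centralizer_iff.1 (hc ⟨x, rfl⟩) j hj

omit [Finite E] [Finite L] in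
theorem cj_le_centralizer {A B : Subgroup L} (hAB : A ≤ centralizer (B : Set L)) (g : L) :
    cj g A ≤ centralizer (cj g B : Set L) := by
  rintro _ ⟨a, ha, rfl⟩
  rw [mem_centralizer_iff]
  rintro _ ⟨b, hb, rfl⟩
  have := mem_centralizer_iff.1 (hAB ha) b hb
  change g * b * g⁻¹ * (g * a * g⁻¹) = g * a * g⁻¹ * (g * b * g⁻¹)
  calc g * b * g⁻¹ * (g * a * g⁻¹) = g * (b * a) * g⁻¹ := by group
    _ = g * (a * b) * g⁻¹ := by rw [this]
    _ = _ := by group

include c h2 h4 h ty in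
theorem zz_eq (hK : K ∈ Om) (hJ : J ∈ Om) (hc : K ≤ centralizer (J : Set L)) : zz K = zz J := by
  obtain ⟨g, hg⟩ := exists_cj c h2 h hK
  have hK' := h.conj K hK g
  have hJ' := h.conj J hJ g
  have hc' := cj_le_centralizer hc g
  have h1 : zz (cj g J) = c.z := by
    rcases eq_of_zz c h4 h ty hK' hg with h5 | h5
    · rw [h5] at hc'
      exact zz_of_le_K4 c h2 h hJ' (le_K4 c h2 hc')
    · rw [h5] at hc'
      exact zz_of_le_K1 c h2 h hJ' (le_K1 c h2 hc')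
  rw [← hg, h.zz_cj hK, h.zz_cj hJ] at h1
  exact (mul_left_cancel (mul_right_cancel h1)).symm

include c h2 h4 h ty in
theorem three (hK : K ∈ Om) (hJ : J ∈ Om) (hM : M ∈ Om) (h1 : K ≤ centralizer (J : Set L))
    (h3 : K ≤ centralizer (M : Set L)) : K = J ∨ K = M ∨ J = M := by
  obtain ⟨g, hg⟩ := exists_cj c h2 h hK
  have e1 : zz (cj g J) = c.z := by rw [h.zz_cj hJ, ← zz_eq c h2 h4 h ty hK hJ h1, ← h.zz_cj hK, hg]
  have e2 : zz (cj g M) = c.z := by rw [h.zz_cj hM, ← zz_eq c h2 h4 h ty hK hM h3, ← h.zz_cj hK, hg]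
  have hK' := eq_of_zz c h4 h ty (h.conj K hK g) hg
  have hJ' := eq_of_zz c h4 h ty (h.conj J hJ g) e1
  have hM' := eq_of_zz c h4 h ty (h.conj M hM g) e2
  rcases hK' with a | a <;> rcases hJ' with b | b <;> rcases hM' with d | d
  · exact Or.inl (cj_inj.1 (a.trans b.symm))
  · exact Or.inl (cj_inj.1 (a.trans b.symm))
  · exact Or.inr (Or.inl (cj_inj.1 (a.trans d.symm)))
  · exact Or.inr (Or.inr (cj_inj.1 (b.trans d.symm)))
  · exact Or.inr (Or.inr (cj_inj.1 (b.trans d.symm)))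
  · exact Or.inr (Or.inl (cj_inj.1 (a.trans d.symm)))
  · exact Or.inl (cj_inj.1 (a.trans b.symm))
  · exact Or.inl (cj_inj.1 (a.trans b.symm))

end Hex

section Group

variable {G : Type*} [Group G] [Finite G] {Om : Set (Subgroup G)}

/-- the leaf `G₂(q)`, `³D₄(q)`, from (H4) -/
theorem hasPieces_of_hFour [IsSimpleGroup G] (h : Hyp Om) (ty : ∀ K ∈ Om, Ty K) (hne : Om.Nonempty)
    {E : Type*} [Field E] [Finite E] {σ : E ≃+* E} {L : Type*} [Group L] [Finite L] (c : HexBase.HexGrp σ L)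
    (h2 : (2 : E) ≠ 0) (h4 : HFour c) (e : G ≃* L) {p : ℕ} (hp : p.Prime) (hp2 : p ≠ 2) (iso : IsG2D4 p G) :
    HasPieces Om := by
  obtain ⟨K₀, hK₀⟩ := id hne
  have hna := OneLeafBase.not_isMulCommutative h hK₀
  have h' := h.img (f := e.toMonoidHom) e.surjective (not_two_dvd_ker_of_injective e.toMonoidHom e.injective)
  have ty' := Ty.img ty e.toMonoidHom (not_two_dvd_ker_of_injective e.toMonoidHom e.injective)
  have hmem : ∀ {K : Subgroup G}, K ∈ Om → K.map e.toMonoidHom ∈ Cit.img e.toMonoidHom Om :=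
    fun hK => ⟨_, hK, rfl⟩
  have hz : ∀ {K : Subgroup G}, K ∈ Om → zz (K.map e.toMonoidHom) = e (zz K) := fun hK =>
    zz_map_of_injective h hK e.toMonoidHom e.injective
  have hinj : Function.Injective (fun K : Subgroup G => K.map e.toMonoidHom) :=
    Subgroup.map_injective e.injective
  have hc := fun {K J : Subgroup G} => (map_le_centralizer_map (f := e.toMonoidHom) e.injective (K := K) (L := J))
  apply OneLeafBase.hasPieces_of_top (fun K hK => CoreOneHex.oo_eq_bot c h2 h e hK)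
  refine Piece.exc (OneLeafBase.isQuasisimple_top hna) (OneLeafBase.isPGroup_center_top hna 2) p hp hp2
    (iso.congr (OneLeafBase.topQuot hna).symm) ⟨K₀, hK₀, le_top⟩ ?_ ?_
  · intro K hK J hJ _ _ _ hKJ d _
    have h1 := zz_eq c h2 h4 h' ty' (hmem hK) (hmem hJ) (hc.2 hKJ)
    rw [hz hK, hz hJ] at h1
    rw [e.injective h1, h.zz_mul hJ, one_mul, mul_one]
  · intro K hK J hJ M hM _ _ _ hKJ hKM _
    rcases three c h2 h4 h' ty' (hmem hK) (hmem hJ) (hmem hM) (hc.2 hKJ) (hc.2 hKM) with h1 | h1 | h1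
    · exact Or.inl (hinj h1)
    · exact Or.inr (Or.inl (hinj h1))
    · exact Or.inr (Or.inr (hinj h1))

omit [Finite G] in
theorem hFour {E : Type*} [Field E] [Finite E] {σ : E ≃+* E} {L : Type*} [Group L] [Finite L]
    (c : HexBase.HexGrp σ L) (h2 : (2 : E) ≠ 0) : HFour c :=
  fun _ hKz hs hK _ => c.eq_K1_or_eq_K4 h2 hK hKz hs

/-- **THEOREM T for `G₂(q)`, `³D₄(q)`** -/
theorem hasPieces_of_isG2D4 [IsSimpleGroup G] (h : Hyp Om) (ty : ∀ K ∈ Om, Ty K) (hne : Om.Nonempty)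
    {p : ℕ} (hp : p.Prime) (hp2 : p ≠ 2) (iso : IsG2D4 p G) : HasPieces Om := by
  obtain ⟨F, _, _, _, hG⟩ := id iso
  have h2 := CoreOneHex.two_ne_zero_of_char hp2 F
  rcases hG with ⟨⟨e⟩⟩ | ⟨q, hq, hF, ⟨e⟩⟩
  · exact hasPieces_of_hFour h ty hne (HexG2.g2 F h2) h2 (hFour _ h2) e hp hp2 iso
  · obtain ⟨σ, -, ⟨c⟩⟩ := HexD4.exists_d4 hF
    exact hasPieces_of_hFour h ty hne c h2 (hFour _ h2) e hp hp2 iso

end Group

end Cfsg.Agent.Cit.HexPieces
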