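import Cfsg.Agent.Cit.CoresG
import Cfsg.Agent.Cit.FixComp

/-!
# THEOREM FIX for the pieces with a chart, in the form used by `CoresG`
-/

set_option autoImplicit false
set_option linter.style.haveILetI false

namespace Cfsg.Agent.Cit.CoresG

open Subgroup Cfsg Cfsg.Agent.Cit Cfsg.Agent.Cit.Comp Cfsg.Agent.Cit.OneComp

universe u

/-- an abelian group with trivial `O(A)` is a 2-group -/
theorem isPGroup_of_comm {A : Type*} [Group A] [Finite A] (hc : ∀ x y : A, x * y = y * x)
    (hO : pPrimeCore 2 A = ⊥) : IsPGroup 2 A := by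
  intro x
  obtain ⟨k, m, hm, hk⟩ := Nat.exists_eq_two_pow_mul_odd (orderOf_pos x).ne'
  refine ⟨k, ?_⟩
  have h1 : orderOf (x ^ 2 ^ k) = m := by
    rw [orderOf_pow, hk, Nat.gcd_eq_right (Dvd.intro _ rfl)]
    exact Nat.mul_div_cancel_left m (by positivity)
  have h2 : zpowers (x ^ 2 ^ k) ≤ pPrimeCore 2 A := by
    refine Lib.Cores.le_pPrimeCore ⟨fun y hy g => ?_⟩ ?_
    · rw [hc g y, mul_assoc, mul_inv_cancel, mul_one]; exact hy
    · rw [Nat.card_zpowers, h1]
      exact Nat.Coprime.symm ((Nat.Prime.coprime_iff_not_dvd Nat.prime_two).2 (by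
        rw [← even_iff_two_dvd, Nat.not_even_iff_odd]; exact hm))
  rw [hO, le_bot_iff, zpowers_eq_bot] at h2
  exact h2

variable {G : Type*} [Group G] [Finite G]

/-- the centre of a subnormal subgroup is a 2-group if `O(G) = 1` -/
theorem isPGroup_center (hO : pPrimeCore 2 G = ⊥) {D : Subgroup G} (hD : D.IsSubnormal) :
    IsPGroup 2 (center D) := by
  refine isPGroup_of_comm (fun x y => Subtype.ext (mem_center_iff.1 y.2 x)) ?_
  have h1 := OO_eq_bot_of_isSubnormal hO hD
  have h2 : pPrimeCore 2 D = ⊥ := by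
    rw [OO, oddCore] at h1
    exact (map_eq_bot_iff_of_injective _ D.subtype_injective).1 h1
  have h3 := Lib.Cores.map_subtype_pPrimeCore (G := D) 2 (N := center D) inferInstance
  rw [h2, inf_bot_eq] at h3
  exact (map_eq_bot_iff_of_injective _ (center D).subtype_injective).1 h3

theorem fixStmt : FixStmt.{u} := by
  intro X _ _ Om _ hO p D hD hc
  obtain ⟨c⟩ := hc
  exact CT.fixP_of_chart c hD.2 (isPGroup_center hO hD.1)

end Cfsg.Agent.Cit.CoresG
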