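import Cfsg.Agent.Cit.GenChart
import Cfsg.Agent.Cit.TPieces

/-!
# GEN for the pieces of THEOREM T

* `gen_single`, `gen_of_trip` : `GenP D K` if `K = D`, resp. if every element of order at most two which normalises `D`
  and centralises `K` acts on `D` trivially or like `zz K` (`Trip D K`);
* `trip_of_quot` : `Trip D K` from the corresponding fact on the simple group `D / Z(D)` (helper713's (F3));
* `ExcTrip` : `Trip D K` for the pieces `G₂(q)`, `³D₄(q)`, `M₁₁`;
* `gen_of_piece` : `GenP D K` for all pieces.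
-/

set_option autoImplicit false
set_option linter.unusedSectionVars false
set_option linter.dupNamespace false
set_option linter.style.haveILetI false

namespace Cfsg.Agent.Cit.GenChart

open Subgroup Cfsg Cfsg.Agent.Cit
open scoped commutatorElement

universe u

section

variable {G : Type*} [Group G]

theorem gen_single (K : Subgroup G) : GenP K K := by
  intro a b _ _ _ _ _ haK _ N n1 _ _
  refine le_trans (le_inf le_rfl ?_) n1
  intro k hk
  rw [mem_centralizer_singleton_iff]
  exact mem_centralizer_iff.1 haK k hk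

/-- an element of order at most two which normalises `D` and centralises `K` acts on `D` trivially or like `zz K` -/
def Trip (D K : Subgroup G) : Prop :=
  ∀ a : G, a * a = 1 → a ∈ normalizer (D : Set G) → a ∈ centralizer (K : Set G) →
    D ≤ centralizer {a} ∨ D ≤ centralizer {a * zz K}

theorem gen_of_trip {D K : Subgroup G} (hz : zz K ∈ K) (h : Trip D K) : GenP D K := by
  intro a b ha hb _ haD hbD haK hbK N n1 n2 n3
  rcases h a ha haD haK with h1 | h1
  · exact (le_inf le_rfl h1).trans n1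
  rcases h b hb hbD hbK with h2 | h2
  · exact (le_inf le_rfl h2).trans n2
  refine (le_inf le_rfl fun d hd => ?_).trans n3
  have e1 := mem_centralizer_singleton_iff.1 (h1 hd)
  have e2 := mem_centralizer_singleton_iff.1 (h2 hd)
  rw [mem_centralizer_singleton_iff]
  have hzb : zz K * b = b * zz K := mem_centralizer_iff.1 hbK _ hz
  -- `d` commutes with `(a z) * (b z)⁻¹ = a b⁻¹` and `b⁻¹ = b`
  have hbi : b⁻¹ = b := inv_eq_of_mul_eq_one_right hb
  have e3 : a * b = (a * zz K) * (b * zz K)⁻¹ := by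
    rw [mul_inv_rev, hbi]
    group
  have e4 : d * (b * zz K)⁻¹ = (b * zz K)⁻¹ * d := by
    rw [eq_inv_mul_iff_mul_eq, ← mul_assoc, ← e2, mul_inv_cancel_right]
  calc d * (a * b) = (d * (a * zz K)) * (b * zz K)⁻¹ := by rw [e3]; group
    _ = (a * zz K) * (d * (b * zz K)⁻¹) := by rw [e1]; group
    _ = (a * zz K) * (b * zz K)⁻¹ * d := by rw [e4]; group
    _ = a * b * d := by rw [e3]

/-- an automorphism-like map trivial modulo the centre of a perfect group is trivial -/
theorem comm_of_center {D : Subgroup G} (hD : ⁅D, D⁆ = D) {c : G} (hc : c ∈ normalizer (D : Set G))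
    (h : ∀ d ∈ D, d⁻¹ * (c * d * c⁻¹) ∈ centralizer (D : Set G)) : D ≤ centralizer {c} := by
  -- `d ↦ d⁻¹ d^c` is a homomorphism on `D`
  have hcD : ∀ d ∈ D, c * d * c⁻¹ ∈ D := fun d hd => (mem_normalizer_iff.1 hc d).1 hd
  have key : ∀ x ∈ D, ∀ y ∈ D, c * ⁅x, y⁆ * c⁻¹ = ⁅x, y⁆ := by
    intro x hx y hy
    obtain ⟨u, hu⟩ : ∃ u, u = x⁻¹ * (c * x * c⁻¹) := ⟨_, rfl⟩
    obtain ⟨v, hv⟩ : ∃ v, v = y⁻¹ * (c * y * c⁻¹) := ⟨_, rfl⟩
    have hu' := h x hx
    have hv' := h y hy
    rw [← hu] at hu'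
    rw [← hv] at hv'
    have e1 : c * x * c⁻¹ = x * u := by rw [hu]; group
    have e2 : c * y * c⁻¹ = y * v := by rw [hv]; group
    have hvD : v ∈ D := by rw [hv]; exact D.mul_mem (D.inv_mem hy) (hcD y hy)
    have hux : x * u = u * x := mem_centralizer_iff.1 hu' x hx
    have huy : y * u = u * y := mem_centralizer_iff.1 hu' y hy
    have huv : v * u = u * v := mem_centralizer_iff.1 hu' v hvD
    have hvx : x * v = v * x := mem_centralizer_iff.1 hv' x hx
    have hvy : y * v = v * y := mem_centralizer_iff.1 hv' y hy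
    have e3 : c * ⁅x, y⁆ * c⁻¹ = ⁅c * x * c⁻¹, c * y * c⁻¹⁆ := by
      simp only [commutatorElement_def]; group
    rw [e3, e1, e2, commutatorElement_def, commutatorElement_def]
    calc x * u * (y * v) * (x * u)⁻¹ * (y * v)⁻¹
        = x * (u * y) * v * u⁻¹ * x⁻¹ * v⁻¹ * y⁻¹ := by group
      _ = x * y * (u * v) * u⁻¹ * x⁻¹ * v⁻¹ * y⁻¹ := by rw [← huy]; group
      _ = x * y * (v * x⁻¹) * v⁻¹ * y⁻¹ := by rw [← huv]; group
      _ = x * y * (x⁻¹ * v) * v⁻¹ * y⁻¹ := by
          have : v * x⁻¹ = x⁻¹ * v := by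
            rw [eq_inv_mul_iff_mul_eq, ← mul_assoc, hvx, mul_inv_cancel_right]
          rw [this]
      _ = x * y * x⁻¹ * y⁻¹ := by group
  have hle : ⁅D, D⁆ ≤ centralizer {c} := by
    rw [Subgroup.commutator_le]
    intro x hx y hy
    rw [mem_centralizer_singleton_iff]
    have := key x hx y hy
    rw [mul_inv_eq_iff_eq_mul] at this
    exact this.symm
  rwa [hD] at hle

/-- `Trip` from the fact (F3) on `D / Z(D)` -/
theorem trip_of_quot {D K : Subgroup G} (hD : IsQuasisimple D) (hKD : K ≤ D) (hz : zz K ∈ K)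
    (hz2 : zz K * zz K = 1)
    (hf : ∀ a : MulAut (↥D ⧸ center ↥D), a * a = 1 →
      (∀ k : D, (k : G) ∈ K → a (QuotientGroup.mk k) = QuotientGroup.mk k) →
        a = 1 ∨ a = MulAut.conj (QuotientGroup.mk ⟨zz K, hKD hz⟩)) : Trip D K := by
  intro a ha haD haK
  have hperf : ⁅D, D⁆ = D := by
    have h1 := hD.1.commutator_eq_top
    have h2 := congrArg (Subgroup.map D.subtype) h1
    rw [_root_.commutator_def, map_commutator, ← MonoidHom.range_eq_map, range_subtype] at h2
    exact h2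
  -- the automorphism of `D`
  let φ : MulAut D := (MulAut.conjNormal (H := D.subgroupOf (normalizer (D : Set G))) ⟨a, haD⟩ |> fun e =>
    (subgroupOfEquivOfLe le_normalizer).symm.trans (e.trans (subgroupOfEquivOfLe le_normalizer)))
  have hφ : ∀ d : D, ((φ d : D) : G) = a * d * a⁻¹ := fun d => rfl
  have hφc : (center D).map (φ : D →* D) = center D := by
    have : (center D).Characteristic := inferInstance
    exact Subgroup.characteristic_iff_map_eq.1 this φ
  let ψ : MulAut (↥D ⧸ center ↥D) := QuotientGroup.congr (center D) (center D) φ hφc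
  have hψ : ∀ d : D, ψ (QuotientGroup.mk d) = QuotientGroup.mk (φ d) := fun d => rfl
  have hψψ : ψ * ψ = 1 := by
    ext x
    obtain ⟨d, rfl⟩ := QuotientGroup.mk_surjective x
    rw [MulAut.mul_apply, hψ, hψ, MulAut.one_apply]
    congr 1
    apply Subtype.ext
    rw [hφ, hφ]
    have hai : a⁻¹ = a := inv_eq_of_mul_eq_one_right ha
    calc a * (a * d * a⁻¹) * a⁻¹ = (a * a) * d * (a * a)⁻¹ := by group
      _ = d := by rw [ha]; group
  have hψK : ∀ k : D, (k : G) ∈ K → ψ (QuotientGroup.mk k) = QuotientGroup.mk k := by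
    intro k hk
    rw [hψ]
    congr 1
    apply Subtype.ext
    rw [hφ, mul_inv_eq_iff_eq_mul]
    exact (mem_centralizer_iff.1 haK k hk).symm
  have hcen : ∀ {x : D}, x ∈ center D → (x : G) ∈ centralizer (D : Set G) := by
    intro x hx
    rw [mem_centralizer_iff]
    intro y hy
    exact congrArg Subtype.val (mem_center_iff.1 hx ⟨y, hy⟩)
  rcases hf ψ hψψ hψK with h1 | h1
  · left
    refine comm_of_center hperf haD fun d hd => ?_
    have h2 := congrArg (fun f : MulAut (↥D ⧸ center ↥D) => f (QuotientGroup.mk (⟨d, hd⟩ : D))) h1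
    simp only [MulAut.one_apply] at h2
    rw [hψ] at h2
    have h3 := QuotientGroup.eq.1 h2.symm
    exact hcen h3
  · right
    have hzD := hKD hz
    refine comm_of_center hperf (mul_mem haD (le_normalizer hzD)) fun d hd => ?_
    obtain ⟨z, hzz⟩ : ∃ z : D, z = ⟨zz K, hzD⟩ := ⟨_, rfl⟩
    have hz2' : z * z = 1 := by rw [hzz]; exact Subtype.ext hz2
    have h2 : ψ (QuotientGroup.mk (z * ⟨d, hd⟩ * z⁻¹)) = QuotientGroup.mk (⟨d, hd⟩ : D) := by
      rw [h1, MulAut.conj_apply, ← hzz, ← QuotientGroup.mk_inv, ← QuotientGroup.mk_mul, ← QuotientGroup.mk_mul]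
      congr 1
      calc z * (z * ⟨d, hd⟩ * z⁻¹) * z⁻¹ = (z * z) * ⟨d, hd⟩ * (z * z)⁻¹ := by group
        _ = ⟨d, hd⟩ := by rw [hz2']; group
    rw [hψ] at h2
    have h3 := hcen (QuotientGroup.eq.1 h2.symm)
    have h4 : (((⟨d, hd⟩ : D)⁻¹ * φ (z * ⟨d, hd⟩ * z⁻¹) : D) : G) =
        d⁻¹ * (a * zz K * d * (a * zz K)⁻¹) := by
      rw [coe_mul, hφ, hzz]
      simp only [coe_inv, coe_mul]
      group
    rw [h4] at h3
    exact h3



end

/-- (F3) for the pieces `G₂(q)`, `³D₄(q)`, `M₁₁`: an element of order at most two which normalises the piece `D` and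
centralises the member `K` acts on `D` trivially or like `zz K` -/
def ExcTrip : Prop :=
  ∀ (X : Type u) [Group X] [Finite X] (Om : Set (Subgroup X)) (D K : Subgroup X), Hyp Om → (∀ J ∈ Om, Ty J) →
    (∀ J ∈ Om, OO J = ⊥) → IsQuasisimple D → IsPGroup 2 (center D) →
    ((∃ p : ℕ, p.Prime ∧ p ≠ 2 ∧ IsG2D4 p (↥D ⧸ center D)) ∨ Spor.IsoM11 (↥D ⧸ center D)) →
    K ∈ Om → K ≤ D → Trip D K

/-- **GEN for the pieces of THEOREM T** -/
theorem gen_of_piece (hE : ExcTrip.{u}) {X : Type u} [Group X] [Finite X] {Om : Set (Subgroup X)} (hOm : Hyp Om)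
    (hty : ∀ J ∈ Om, Ty J) (hc : ∀ J ∈ Om, OO J = ⊥) {D : Subgroup X} (h : Piece Om D) {K : Subgroup X} (hK : K ∈ Om)
    (hKD : K ≤ D) : GenP D K := by
  cases h with
  | single mem => rw [hOm.eq_of_le hK mem hKD]; exact gen_single D
  | chart nmem qs two p c τ kind ok small sl zx => exact gen_of_chart c qs hK hKD
  | exc qs two p prime odd iso ne zzc three =>
    exact gen_of_trip (hOm.zz_mem hK) (hE X Om D K hOm hty hc qs two (Or.inl ⟨p, prime, odd, iso⟩) hK hKD)
  | mathieu qs two iso ne mem =>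
    exact gen_of_trip (hOm.zz_mem hK) (hE X Om D K hOm hty hc qs two (Or.inr iso) hK hKD)

end Cfsg.Agent.Cit.GenChart
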