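import Cfsg.Agent.Cit.UseT
import Cfsg.Agent.Cit.PieceG

/-!
# The two families on `H / O(H)` agree for trivial cores

`O(K) = 1` for the members of `Om`: `fam Om H = fb Om H` (`UseT`, `PieceG`) and `tr H K = bar H K` for `K ≤ H`.
-/

set_option autoImplicit false
set_option linter.unusedSectionVars false

namespace Cfsg.Agent.Cit.FamFb

open Subgroup Cfsg Cfsg.Agent.Cit.UseT Cfsg.Agent.Cit.PieceG Cfsg.Agent.Cit.SubCent

variable {G : Type*} [Group G] [Finite G] {Om : Set (Subgroup G)} {H K : Subgroup G}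

theorem rd_subgroupOf (ty : Ty K) (hKH : K ≤ H) : rd (K.subgroupOf H) = K.subgroupOf H := by
  refine RdOm.rd_eq_self (Ty.of_map H.subtype H.subtype_injective ?_)
  rwa [map_subgroupOf_eq_of_le hKH]

/-- traces and images -/
theorem tr_eq_bar (ty : Ty K) (hKH : K ≤ H) : tr H K = bar H K := by
  unfold tr bar
  rw [rd_subgroupOf ty hKH]

/-- with trivial cores the covered members are the contained ones -/
theorem mem_cov_iff (core : ∀ K ∈ Om, OO K = ⊥) : K ∈ cov Om H ↔ K ∈ Om ∧ K ≤ H := by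
  constructor
  · rintro ⟨hK, h1⟩
    refine ⟨hK, fun k hk => ?_⟩
    obtain ⟨o, ho, h2⟩ := h1 k hk
    rw [core K hK, mem_bot] at ho
    rwa [ho, mul_one] at h2
  · rintro ⟨hK, h1⟩
    exact mem_cov_of_le hK h1

theorem fam_eq_fb (ty : ∀ K ∈ Om, Ty K) (core : ∀ K ∈ Om, OO K = ⊥) (H : Subgroup G) : fam Om H = fb Om H := by
  ext J
  constructor
  · intro hJ
    obtain ⟨K, hK, rfl⟩ := exists_tr hJ
    obtain ⟨hK1, hKH⟩ := (mem_cov_iff core).1 hK
    rw [tr_eq_bar (ty K hK1) hKH]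
    exact bar_mem hK1 hKH
  · intro hJ
    obtain ⟨K, hK, hKH, rfl⟩ := exists_bar hJ
    rw [← tr_eq_bar (ty K hK) hKH]
    exact tr_mem ((mem_cov_iff core).2 ⟨hK, hKH⟩)

end Cfsg.Agent.Cit.FamFb
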