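import Cfsg.Agent.Cit.FourAlt
import Cfsg.Agent.Cit.CoreFourInj

/-!
# `CoreFourInj.AltStmt`
-/

set_option autoImplicit false
set_option linter.unusedSectionVars false
set_option linter.dupNamespace false

namespace Cfsg.Agent.Cit.FourAltStmt

open Cfsg.Agent.Cit.CoreFourInj

universe u

theorem altStmt : AltStmt.{u} := by
  intro G _ _ Om _ b _ _ _ _ S ι _ K hK hc _ _ hr k i j hij hB
  exact FourAlt.halt ⟨b.core, b.cor⟩ hK hc (FourIn.max_of_range b S hr) k i j hij hB

end Cfsg.Agent.Cit.FourAltStmt
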