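import Cfsg.Agent.Cit.CorOf
import Cfsg.Agent.Cit.EqFourMain

/-!
# All involutions `z_K`, `K ∈ Om(S)`, equal (`EqFour Om`): the condition (C) for `C(z)` and `C(x_k x_l)`

`EqCor Om` : for the members `K 0, …, K 3` of `Om(S)` and elements `x i ∈ K i ⊓ S` of order four the groups
`K i ⊓ S` centralise `O(C(z))`, and `K i ⊓ S` centralises `O(C(x k x l))` if `i ≠ k, l`.

* `EqCor.cz`, `EqCor.ct` : `CorG Om (C(z))`, `CorG Om (C(x k x l))`;
* `Xs.mem_of_le` : the members in `C(x k x l)` commuting (on 2-subgroups) with `K i` are `K i`, `K j`.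
-/

set_option autoImplicit false
set_option linter.style.haveILetI false
set_option linter.unusedSectionVars false

namespace Cfsg.Agent.Cit.TypeD4Cor

open Subgroup Cfsg Cfsg.Agent.Cit.EqClose Cfsg.Agent.Cit.EqHad Cfsg.Agent.Cit.UseT Cfsg.Agent.Cit.PieceG
open scoped commutatorElement

universe u

/-- (C) for `C(z)` and `C(x k x l)` -/
def EqCor {G : Type*} [Group G] (Om : Set (Subgroup G)) : Prop :=
  ∀ (S : Sylow 2 G) (K : Fin 4 → Subgroup G) (x : Fin 4 → G), Xs Om (S : Subgroup G) K x →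
    (∀ i, K i ⊓ (S : Subgroup G) ≤ centralizer (OO (centralizer {zz (K 0)}) : Set G)) ∧
    ∀ k l i, k ≠ l → i ≠ k → i ≠ l →
      K i ⊓ (S : Subgroup G) ≤ centralizer (OO (centralizer {x k * x l}) : Set G)

section

variable {G : Type*} [Group G] [Finite G] {Om : Set (Subgroup G)} {S : Sylow 2 G} {K : Fin 4 → Subgroup G}
  {x : Fin 4 → G}

theorem zz_eq (e : EqFour Om) (hX : Xs Om (S : Subgroup G) K x) (i : Fin 4) : zz (K i) = zz (K 0) :=
  e.eqz S _ (hX.mem i) _ (hX.mem 0)

theorem sq (e : EqFour Om) (hX : Xs Om (S : Subgroup G) K x) (i : Fin 4) : x i * x i = zz (K 0) := by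
  rw [e.hyp.sq_eq_zz (hX.mem i).1 (hX.x_mem i).1 (hX.four i), zz_eq e hX i]

/-- the members with involution `z` are the `K i` -/
theorem all (e : EqFour Om) (hX : Xs Om (S : Subgroup G) K x) {J : Subgroup G} (hJ : J ∈ Om)
    (hz : zz J = zz (K 0)) : ∃ i, J = K i := by
  have h1 : J ∈ OmS Om (S : Subgroup G) := e.hyp.mem_OmS_of_zz_eq S (hX.mem 0) hJ hz
  have h2 : Set.range K = OmS Om (S : Subgroup G) := by
    apply Set.eq_of_subset_of_ncard_le
    · rintro _ ⟨i, rfl⟩
      exact hX.mem i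
    · rw [e.card S, Set.ncard_range_of_injective hX.inj]
      simp
    · exact Set.toFinite _
  rw [← h2] at h1
  obtain ⟨i, hi⟩ := h1
  exact ⟨i, hi.symm⟩

/-- `K k` does not centralise `x k * x l` -/
theorem not_comm (e : EqFour Om) (hX : Xs Om (S : Subgroup G) K x) {k l : Fin 4} (hkl : k ≠ l) :
    ¬ ∀ q ∈ K k ⊓ (S : Subgroup G), q * (x k * x l) = x k * x l * q := by
  intro h1
  obtain ⟨c, v, n, hq⟩ := e.hyp.exists_gq (hX.mem k).1 (syl_inf hX.two (hX.mem k))
  obtain ⟨u, hu, -, hux⟩ := hq.exists_inverting (hX.x_mem k) (hX.four k)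
  have h2 := h1 u hu
  have h3 : u * x l = x l * u := e.hyp.comm hX.two (hX.mem k) (hX.mem l) (fun h => hkl (hX.inj h)) hu (hX.x_mem l)
  have h4 : u * x k = x k * u := by
    have h5 : u * x k * x l = x k * u * x l := by
      calc u * x k * x l = u * (x k * x l) := by group
        _ = x k * x l * u := h2
        _ = x k * u * x l := by rw [mul_assoc, ← h3]; group
    exact mul_right_cancel h5
  rw [h4, mul_inv_cancel_right] at hux
  have h5 : x k * x k = 1 := by nth_rewrite 2 [hux]; exact mul_inv_cancel _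
  have h6 := orderOf_dvd_of_pow_eq_one (by rw [pow_two]; exact h5 : (x k) ^ 2 = 1)
  rw [hX.four k] at h6
  omega

theorem mul_comm' (e : EqFour Om) (hX : Xs Om (S : Subgroup G) K x) (k l : Fin 4) : x k * x l = x l * x k :=
  hX.comm e.hyp k l

theorem t_sq (e : EqFour Om) (hX : Xs Om (S : Subgroup G) K x) (k l : Fin 4) :
    x k * x l * (x k * x l) = 1 := by
  calc x k * x l * (x k * x l) = x k * (x l * x k) * x l := by group
    _ = x k * x k * (x l * x l) := by rw [← mul_comm' e hX k l]; group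
    _ = 1 := by rw [sq e hX, sq e hX, e.hyp.zz_mul (hX.mem 0).1]

theorem t_ne (e : EqFour Om) (hX : Xs Om (S : Subgroup G) K x) {k l : Fin 4} (hkl : k ≠ l) :
    x k * x l ≠ 1 := by
  intro h1
  apply not_comm e hX hkl
  intro q _
  rw [h1, mul_one, one_mul]

/-- members in `C(x k x l)` with involution `z` are `K i`, `i ≠ k, l` -/
theorem mem_of_le (e : EqFour Om) (hX : Xs Om (S : Subgroup G) K x) {k l : Fin 4} (hkl : k ≠ l) {J : Subgroup G}
    (hJ : J ∈ Om) (hz : zz J = zz (K 0)) (hJt : J ≤ centralizer {x k * x l}) :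
    ∃ i, i ≠ k ∧ i ≠ l ∧ J = K i := by
  obtain ⟨i, rfl⟩ := all e hX hJ hz
  refine ⟨i, ?_, ?_, rfl⟩
  · rintro rfl
    exact not_comm e hX hkl fun q hq => mem_centralizer_singleton_iff.1 (hJt hq.1)
  · rintro rfl
    refine not_comm e hX hkl.symm fun q hq => ?_
    rw [mul_comm' e hX i k]
    exact mem_centralizer_singleton_iff.1 (hJt hq.1)

variable (c : EqCor Om)

include c

/-- the members commute with the 2-subgroups of the others -/
theorem comm_inf (e : EqFour Om) (hX : Xs Om (S : Subgroup G) K x) {i j : Fin 4} (hij : i ≠ j) :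
    ∀ a ∈ K i, ∀ y ∈ K j ⊓ (S : Subgroup G), a * y = y * a := by
  have h1 := (c S K x hX).1 j
  rw [← zz_eq e hX i] at h1
  exact CorOf.comm_inf e.hyp hX.two (hX.mem i) (hX.mem j) (fun h => hij (hX.inj h))
    (CoresCore.OO_le_XX e.hyp (hX.mem i).1) (odd_OO _) h1

theorem le_ct (e : EqFour Om) (hX : Xs Om (S : Subgroup G) K x) {i k l : Fin 4} (hik : i ≠ k) (hil : i ≠ l) :
    K i ≤ centralizer {x k * x l} := by
  intro a ha
  rw [mem_centralizer_singleton_iff]
  have h1 := comm_inf c e hX hik a ha _ (hX.x_mem k)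
  have h2 := comm_inf c e hX hil a ha _ (hX.x_mem l)
  calc a * (x k * x l) = (a * x k) * x l := by group
    _ = x k * (a * x l) := by rw [h1]; group
    _ = x k * x l * a := by rw [h2]; group

end

end Cfsg.Agent.Cit.TypeD4Cor
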