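import Cfsg.Agent.Cit.CoreFour
import Cfsg.Agent.Cit.EqCard
import Cfsg.Agent.Cit.EqInner
import Cfsg.Agent.Cit.EqEnd
import Cfsg.Agent.Cit.UseT3
import Cfsg.Agent.Cit.TypeD4Cor

/-!
# `FourEq` : `|Om(S)| = 4`, all `zz K`, `K ∈ Om(S)`, equal. SKELETON

bb R18 #8092.

* `eqFour_of_card_four` (helper174, `EqCard`): `EqFour Om`;
* `close` (helper435, `EqEnd`): `Big Om M → M = ⊤`;
* `CorStmt` (input, helper980): `TypeD4Cor.EqCor Om`;
* `IdStmt` (input, helper82): the identification;
* `fourEq` : `CoreFour.FourEq`.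
-/

set_option autoImplicit false
set_option linter.unusedSectionVars false
set_option linter.style.haveILetI false
set_option linter.dupNamespace false

namespace Cfsg.Agent.Cit.FourEq

open Subgroup Cfsg Cfsg.Agent.Cit Branches EqClose UseT TypeD4Cor

universe u

/-- the cores (helper980) -/
def CorStmt : Prop := ∀ (G : Type u) [Group G] [Finite G] (Om : Set (Subgroup G)), MinS Om → EqFour Om → EqCor Om

/-- the identification (helper82) -/
def IdStmt : Prop := ∀ (G : Type u) [Group G] [Finite G] (Om : Set (Subgroup G)), MinS Om → EqFour Om → EqCor Om →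
  (∀ M : Subgroup G, Big Om M → M = ⊤) → HasPieces Om

/-- the closing argument (helper435) -/
theorem close {G : Type u} [Group G] [Finite G] {Om : Set (Subgroup G)} (e : EqFour Om) (hB : CloEnd.Bend G)
    (hC : CloEnd.Crit1175 G) (M : Subgroup G) (b : Big Om M) : M = ⊤ := by
  by_contra hM
  exact b.false_of_big e e.toEqZ.inner hM hB hC

/-- **`CoreFour.FourEq`** -/
theorem fourEq (hB : ∀ (G : Type u) [Group G] [Finite G] [IsSimpleGroup G], CloEnd.Bend G)
    (hC : ∀ (G : Type u) [Group G] [Finite G] [IsSimpleGroup G], CloEnd.Crit1175 G) (h1 : CorStmt.{u})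
    (h2 : IdStmt.{u}) : CoreFour.FourEq.{u} := by
  intro G _ _ Om ms hc he
  haveI := ms.simple
  have e : EqFour Om := EqCard.eqFour_of_card_four ms hc he
  exact h2 G Om ms e (h1 G Om ms e) fun M b => close e (hB G) (hC G) M b

end Cfsg.Agent.Cit.FourEq
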