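import Mathlib
import Cfsg.Agent.Cit.DispFourEnd
import Cfsg.Agent.Cit.CoreFourInj

/-!
# `CoreFourInj.OutStmt` (project CIT, S1310)

The identification of four members with different involutions: no hypotheses besides `In4`.
-/

set_option autoImplicit false

namespace Cfsg.Agent.Cit.FourOut

universe u

theorem outStmt : CoreFourInj.OutStmt.{u} :=
  fun _ _ _ _ _ _ _ _ _ _ _ _ _ _ _ _ I => I.out

end Cfsg.Agent.Cit.FourOut
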