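import Cfsg.Agent.Cit.TwoW
import Cfsg.Agent.Cit.EqTwo
import Cfsg.Agent.Cit.AutAct

/-!
# Branch (B), (8e): a subgroup `M` containing `C(z)` and the normal closures `D_v`, `D_{zv}` is big

bb R18 #11656 (2). `OneCls Om u D`: `D` centralises `u`, contains the members which centralise `u`, and permutes them
transitively. `big`: `C(z) ≤ M`, `D_v ≤ M`, `D_{zv} ≤ M` imply `EqClose.Big Om M` and `EqClose.VGood Om M`.
-/

set_option autoImplicit false
set_option linter.style.haveILetI false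
set_option linter.unusedSectionVars false

namespace Cfsg.Agent.Cit.TwoWM

open Subgroup Cfsg

variable {G : Type*} [Group G]

/-- `D` centralises `u`, contains the members centralising `u` and is transitive on its members -/
structure OneCls (Om : Set (Subgroup G)) (u : G) (D : Subgroup G) : Prop where
  comm : ∀ d ∈ D, d * u = u * d
  mem : ∀ L ∈ Om, (∀ a ∈ L, a * u = u * a) → L ≤ D
  cj : ∀ L ∈ Om, ∀ L' ∈ Om, L ≤ D → L' ≤ D → ∃ d ∈ D, L' = cj d L

variable [Finite G] {Om : Set (Subgroup G)} {M : Subgroup G}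

theorem exists_mul_of_mem_sup {A B : Subgroup G} (hc : ∀ a ∈ A, ∀ b ∈ B, a * b = b * a) {f : G} (hf : f ∈ A ⊔ B) :
    ∃ a ∈ A, ∃ b ∈ B, f = a * b := by
  let F : Subgroup G :=
    { carrier := {f | ∃ a ∈ A, ∃ b ∈ B, f = a * b}
      one_mem' := ⟨1, A.one_mem, 1, B.one_mem, (mul_one _).symm⟩
      mul_mem' := by
        rintro _ _ ⟨a, ha, b, hb, rfl⟩ ⟨a', ha', b', hb', rfl⟩
        refine ⟨a * a', A.mul_mem ha ha', b * b', B.mul_mem hb hb', ?_⟩
        calc a * b * (a' * b') = a * (b * a') * b' := by group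
          _ = _ := by rw [← hc a' ha' b hb]; group
      inv_mem' := by
        rintro _ ⟨a, ha, b, hb, rfl⟩
        refine ⟨a⁻¹, A.inv_mem ha, b⁻¹, B.inv_mem hb, ?_⟩
        rw [hc a⁻¹ (A.inv_mem ha) b⁻¹ (B.inv_mem hb)]; group }
  have h1 : A ⊔ B ≤ F := sup_le (fun a ha => ⟨a, ha, 1, B.one_mem, (mul_one _).symm⟩)
    (fun b hb => ⟨1, A.one_mem, b, hb, (one_mul _).symm⟩)
  exact h1 hf

/-- the square of an element of `K ∩ R` which lies in another member `L` over the same involution -/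
theorem sq_cases {Om : Set (Subgroup G)} (h : Hyp Om) {K L R : Subgroup G} (hR : IsPGroup 2 R) (hK : K ∈ OmS Om R)
    (hL : L ∈ OmS Om R) (hne : K ≠ L) {a : G} (ha : a ∈ K ⊓ R) (haL : a * a ∈ L) : a * a = 1 ∨ orderOf a = 4 := by
  obtain ⟨k, hk⟩ := IsPGroup.iff_card.1 (isPGroup_zpowers hR ha.2)
  rw [Nat.card_zpowers] at hk
  rcases Nat.lt_or_ge k 3 with h3 | h3
  · interval_cases k
    · left
      have := orderOf_dvd_iff_pow_eq_one.1 (show orderOf a ∣ 2 by rw [hk]; norm_num)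
      rwa [pow_two] at this
    · left
      have := orderOf_dvd_iff_pow_eq_one.1 (show orderOf a ∣ 2 by rw [hk]; norm_num)
      rwa [pow_two] at this
    · right
      rw [hk]; norm_num
  · exfalso
    obtain ⟨j, rfl⟩ := Nat.exists_eq_add_of_le h3
    have h4 : orderOf (a ^ 2 ^ (j + 1)) = 4 := by
      rw [orderOf_pow' a (by positivity), hk, Nat.gcd_eq_right (pow_dvd_pow 2 (by omega))]
      rw [Nat.pow_div (by omega) (by norm_num)]
      have : 3 + j - (j + 1) = 2 := by omega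
      rw [this]
    have h5 : a ^ 2 ^ (j + 1) ∈ L := by
      have : a ^ 2 ^ (j + 1) = (a * a) ^ 2 ^ j := by rw [← pow_two, ← pow_mul, pow_succ']
      rw [this]
      exact L.pow_mem haL _
    exact EqClose.not_mem_of_four h hR hL hK hne.symm ⟨K.pow_mem ha.1 _, R.pow_mem ha.2 _⟩ h4 h5

/-- conjugation by elements of `M` preserves `C(u) ≤ M` -/
theorem centralizer_le_conj {m u : G} (hm : m ∈ M) (hu : centralizer {u} ≤ M) :
    centralizer {m * u * m⁻¹} ≤ M := by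
  rw [← cj_centralizer]
  intro g hg
  rw [mem_cj] at hg
  have h5 : g = m * (m⁻¹ * g * m) * m⁻¹ := by group
  rw [h5]
  exact M.mul_mem (M.mul_mem hm (hu hg)) (M.inv_mem hm)

/-- Frattini argument -/
theorem OneCls.centralizer_le (h : Hyp Om) {u : G} {D K : Subgroup G} (hD : OneCls Om u D) (hDM : D ≤ M)
    (hK : K ∈ Om) (hKM : centralizer {zz K} ≤ M) (hKu : ∀ a ∈ K, a * u = u * a) : centralizer {u} ≤ M := by
  intro d hd
  rw [mem_centralizer_singleton_iff] at hd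
  have h1 : K ≤ D := hD.mem K hK hKu
  have h2 : Cit.cj d K ≤ D := by
    refine hD.mem _ (h.conj K hK d) ?_
    rintro _ ⟨a, ha, rfl⟩
    simp only [MulEquiv.coe_toMonoidHom, MulAut.conj_apply]
    calc d * a * d⁻¹ * u = d * a * (d⁻¹ * u * d) * d⁻¹ := by group
      _ = d * (a * u) * d⁻¹ := by
          have h3 : d⁻¹ * u * d = u := by rw [mul_assoc, ← hd]; group
          rw [h3]; group
      _ = (d * u) * a * d⁻¹ := by rw [hKu a ha]; group
      _ = u * (d * a * d⁻¹) := by rw [hd]; group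
  obtain ⟨e, he, h3⟩ := hD.cj K hK _ (h.conj K hK d) h1 h2
  have h4 : e⁻¹ * d ∈ normalizer (K : Set G) := by
    rw [mem_normalizer_iff_cj, cj_mul, h3, cj_inv_cj]
  have h5 : d = e * (e⁻¹ * d) := by group
  rw [h5]
  exact M.mul_mem (hDM he) (hKM (h.normalizer_le hK h4))

/-- an involution normalising `K` and centralising a Sylow 2-subgroup centralises `K` if `O(K) = 1` -/
theorem comm_of_perp {K Q : Subgroup G} (hty : IsType K) (hO : OO K = ⊥) (hQ : Syl Q K) {u : G}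
    (hu : u ∈ normalizer (K : Set G)) (huu : u * u = 1) (hc : ∀ q ∈ Q, u * q = q * u) :
    ∀ a ∈ K, a * u = u * a := by
  intro a ha
  have h1 := AutAct.triv_of_cent hty hQ hu (b := 1) (by rw [pow_one, pow_two, huu]) hc a ha
  rw [hO, mem_bot, mul_inv_eq_one, mul_inv_eq_iff_eq_mul] at h1
  exact h1.symm

variable {K K' J Q Q' QJ Dv Da : Subgroup G} {x y b c : G}

/-- `v ∈ N(J)` -/
theorem v_mem_normalizer_J (h : TwoE Om) (w : WD Om K K' J Q Q' QJ x y b c) :
    zz J * (x * y) ∈ normalizer (J : Set G) := by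
  obtain ⟨R, hR, hQR, hQ'R, -⟩ := w.two
  refine mul_mem (le_normalizer (h.hyp.zz_mem w.hJ)) (mul_mem ?_ ?_)
  · exact h.hyp.norm_four hR w.tt.hK w.hJ w.tt.hx (hQR w.xQ) (by rw [w.tt.ox]) w.sx
  · exact h.hyp.norm_four hR w.tt.hK' w.hJ w.tt.hy (hQ'R w.yQ) (by rw [w.tt.oy]) w.sy

/-- `v ∈ N(K)` -/
theorem v_mem_normalizer_K (h : TwoE Om) (w : WD Om K K' J Q Q' QJ x y b c) :
    zz J * (x * y) ∈ normalizer (K : Set G) := by
  rcases h.cj_or w.tt.hK w.tt.hK' w.tt.ne w.tt.hz (w.zv h.hyp).symm with ⟨h1, -⟩ | ⟨h1, -⟩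
  · exact mem_normalizer_iff_cj.2 h1
  · exfalso
    apply h.hyp.not_mem_of_four w.tt.hK w.tt.hK' w.tt.ne w.tt.hz w.tt.hx w.tt.ox
    rw [← h1, mem_cj]
    have h2 : (zz J * (x * y))⁻¹ * x * (zz J * (x * y)) = x := by
      rw [mul_assoc, ← w.vQ x w.xQ]; group
    rw [h2]
    exact w.tt.hx

/-- `[K, v] = 1` -/
theorem comm_v_K (h : TwoE Om) (hty : ∀ K ∈ Om, IsType K) (hO : ∀ K ∈ Om, OO K = ⊥)
    (w : WD Om K K' J Q Q' QJ x y b c) : ∀ a ∈ K, a * (zz J * (x * y)) = (zz J * (x * y)) * a :=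
  comm_of_perp (hty K w.tt.hK) (hO K w.tt.hK) w.hQ (v_mem_normalizer_K h w) (w.vv h.hyp) w.vQ

/-- `[J, v] = 1` -/
theorem comm_v_J (h : TwoE Om) (hty : ∀ K ∈ Om, IsType K) (hO : ∀ K ∈ Om, OO K = ⊥)
    (w : WD Om K K' J Q Q' QJ x y b c) : ∀ a ∈ J, a * (zz J * (x * y)) = (zz J * (x * y)) * a :=
  comm_of_perp (hty J w.hJ) (hO J w.hJ) w.hQJ (v_mem_normalizer_J h w) (w.vv h.hyp) w.vQJ

/-- `[K, z v] = 1` -/
theorem comm_zv_K (h : TwoE Om) (hty : ∀ K ∈ Om, IsType K) (hO : ∀ K ∈ Om, OO K = ⊥)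
    (w : WD Om K K' J Q Q' QJ x y b c) :
    ∀ a ∈ K, a * (zz K * (zz J * (x * y))) = (zz K * (zz J * (x * y))) * a := by
  intro a ha
  have h1 := comm_v_K h hty hO w a ha
  have h2 : a * zz K = zz K * a := h.hyp.comm_zz w.tt.hK (le_normalizer ha)
  calc a * (zz K * (zz J * (x * y))) = (a * zz K) * (zz J * (x * y)) := by group
    _ = zz K * (a * (zz J * (x * y))) := by rw [h2]; group
    _ = _ := by rw [h1]; group

/-- **(8e)** -/
theorem big (h : TwoE Om) (hty : ∀ K ∈ Om, IsType K) (hO : ∀ K ∈ Om, OO K = ⊥)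
    (w : WD Om K K' J Q Q' QJ x y b c) (hz : centralizer {zz K} ≤ M)
    (hv : OneCls Om (zz J * (x * y)) Dv) (hvM : Dv ≤ M)
    (ha : OneCls Om (zz K * (zz J * (x * y))) Da) (haM : Da ≤ M) :
    EqClose.Big Om M ∧ EqClose.VGood Om M := by
  haveI : Fact (Nat.Prime 2) := ⟨Nat.prime_two⟩
  have hH := h.hyp
  have hJM : J ≤ M := (hv.mem J w.hJ (comm_v_J h hty hO w)).trans hvM
  have hKM : K ≤ M := (hH.le_centralizer w.tt.hK).trans hz
  have hK'M : K' ≤ M := by
    refine (hH.le_centralizer w.tt.hK').trans ?_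
    rw [w.tt.hz]
    exact hz
  have hgM : c⁻¹ * b ∈ M := M.mul_mem (M.inv_mem (hJM (w.hQJ.1 w.cQ))) (hKM (w.hQ.1 w.bQ))
  have hCv : centralizer {zz J * (x * y)} ≤ M := hv.centralizer_le hH hvM w.tt.hK hz (comm_v_K h hty hO w)
  have hCa : centralizer {zz K * (zz J * (x * y))} ≤ M :=
    ha.centralizer_le hH haM w.tt.hK hz (comm_zv_K h hty hO w)
  have hCt : centralizer {x * y} ≤ M := by
    have h1 : x * y = (c⁻¹ * b)⁻¹ * (zz K * (zz J * (x * y))) * (c⁻¹ * b)⁻¹⁻¹ := by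
      rw [← w.gt hH]; group
    rw [h1]
    exact centralizer_le_conj (M.inv_mem hgM) hCa
  -- `[K, K'] = 1`
  have hKK' : ∀ a ∈ K, ∀ a' ∈ K', a * a' = a' * a := by
    intro a ha a' ha'
    rcases hH.h2 K w.tt.hK K' w.tt.hK' w.tt.hz.symm with h1 | h1
    · exact absurd h1 w.tt.ne
    · have h2 : a * a' * a⁻¹ * a'⁻¹ ∈ OO K := (h1 (commutator_mem_commutator ha ha')).1
      rw [hO K w.tt.hK] at h2
      have h3 := mem_bot.1 h2
      rw [mul_inv_eq_one, mul_inv_eq_iff_eq_mul] at h3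
      exact h3
  -- elements of order four
  have hfour : ∀ q ∈ K, ∀ q' ∈ K', orderOf q = 4 → orderOf q' = 4 → ∃ m ∈ M, q * q' = m * (x * y) * m⁻¹ := by
    intro q hq q' hq' h4 h4'
    obtain ⟨k, hk, hkq⟩ := AutAct.conj_four (hty K w.tt.hK) (hH.uniq K w.tt.hK) w.tt.hx hq
      (hH.sq_eq_zz w.tt.hK w.tt.hx w.tt.ox) (hH.sq_eq_zz w.tt.hK hq h4)
    obtain ⟨k', hk', hkq'⟩ := AutAct.conj_four (hty K' w.tt.hK') (hH.uniq K' w.tt.hK') w.tt.hy hq'
      (hH.sq_eq_zz w.tt.hK' w.tt.hy w.tt.oy) (hH.sq_eq_zz w.tt.hK' hq' h4')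
    refine ⟨k * k', M.mul_mem (hKM hk) (hK'M hk'), ?_⟩
    have e1 : k' * x * k'⁻¹ = x := by rw [← hKK' x w.tt.hx k' hk', mul_inv_cancel_right]
    have e2 : k * (k' * y * k'⁻¹) * k⁻¹ = k' * y * k'⁻¹ := by
      rw [hkq', hKK' k hk q' hq', mul_inv_cancel_right]
    calc q * q' = (k * x * k⁻¹) * (k' * y * k'⁻¹) := by rw [hkq, hkq']
      _ = (k * (k' * x * k'⁻¹) * k⁻¹) * (k * (k' * y * k'⁻¹) * k⁻¹) := by rw [e1, e2]
      _ = k * k' * (x * y) * (k * k')⁻¹ := by group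
  -- the Sylow subgroup `S₀`
  obtain ⟨S0, hKS0, -⟩ := hH.exists_sylow w.tt.hK
  have hS0C : (S0 : Subgroup G) ≤ centralizer {zz K} := fun g hg =>
    mem_centralizer_singleton_iff.2 (h.comm_of_mem S0.isPGroup' hKS0 hg)
  have hS0M : (S0 : Subgroup G) ≤ M := hS0C.trans hz
  have hK'S0 : K' ∈ OmS Om (S0 : Subgroup G) := hH.mem_OmS_of_zz_eq S0 hKS0 w.tt.hK' w.tt.hz
  -- reduction to `S₀`
  have hred : ∀ S : Sylow 2 G, (S : Subgroup G) ≤ M → ∃ m ∈ M, (S : Subgroup G) = Cit.cj m (S0 : Subgroup G) := by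
    intro S hS
    obtain ⟨m, hm, hmS⟩ := (CloPoint.Clo.syl_of_sylow hS0M).exists_conj (CloPoint.Clo.syl_of_sylow hS)
    exact ⟨m, hm, hmS.symm⟩
  have hmem : ∀ S : Sylow 2 G, ∀ m, (S : Subgroup G) = Cit.cj m (S0 : Subgroup G) → ∀ L ∈ OmS Om (S : Subgroup G),
      L = Cit.cj m K ∨ L = Cit.cj m K' := by
    intro S m hmS L hL
    rw [hmS, OmS_cj hH.conj] at hL
    obtain ⟨L0, hL0, rfl⟩ := hL
    rcases h.pair S0.isPGroup' hKS0 hK'S0 hL0 w.tt.ne with h1 | h1
    · left; rw [h1]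
    · right; rw [h1]
  -- products of elements of order 4
  have hprod : ∀ S : Sylow 2 G, (S : Subgroup G) ≤ M → ∀ K1 ∈ OmS Om (S : Subgroup G),
      ∀ K2 ∈ OmS Om (S : Subgroup G), K1 ≠ K2 → ∀ q ∈ K1, ∀ q' ∈ K2, q * q' = q' * q → orderOf q = 4 →
      orderOf q' = 4 → ∃ m ∈ M, q * q' = m * (x * y) * m⁻¹ := by
    intro S hS K1 hK1 K2 hK2 hne q hq q' hq' hcq h4 h4'
    obtain ⟨m, hm, hmS⟩ := hred S hS
    have key : ∀ p p' : G, p ∈ Cit.cj m K → p' ∈ Cit.cj m K' → orderOf p = 4 → orderOf p' = 4 →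
        ∃ m ∈ M, p * p' = m * (x * y) * m⁻¹ := by
      intro p p' hp hp' hp4 hp4'
      rw [mem_cj] at hp hp'
      have o1 : orderOf (m⁻¹ * p * m) = 4 := by
        have := (MulAut.conj m⁻¹).orderOf_eq p
        simp only [MulAut.conj_apply, inv_inv] at this
        rw [this, hp4]
      have o2 : orderOf (m⁻¹ * p' * m) = 4 := by
        have := (MulAut.conj m⁻¹).orderOf_eq p'
        simp only [MulAut.conj_apply, inv_inv] at this
        rw [this, hp4']
      obtain ⟨n, hn, hnp⟩ := hfour _ hp _ hp' o1 o2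
      refine ⟨m * n, M.mul_mem hm hn, ?_⟩
      calc p * p' = m * ((m⁻¹ * p * m) * (m⁻¹ * p' * m)) * m⁻¹ := by group
        _ = m * (n * (x * y) * n⁻¹) * m⁻¹ := by rw [hnp]
        _ = _ := by group
    rcases hmem S m hmS K1 hK1 with h1 | h1 <;> rcases hmem S m hmS K2 hK2 with h2 | h2
    · exact absurd (h1.trans h2.symm) hne
    · exact key q q' (by rw [← h1]; exact hq) (by rw [← h2]; exact hq') h4 h4'
    · rw [hcq]
      exact key q' q (by rw [← h2]; exact hq') (by rw [← h1]; exact hq) h4' h4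
    · exact absurd (h1.trans h2.symm) hne
  refine ⟨⟨⟨S0, hS0M⟩, ?_⟩, ?_⟩
  · intro S hS f hf hff hf1
    obtain ⟨m, hm, hmS⟩ := hred S hS
    have hK1 : Cit.cj m K ∈ OmS Om (S : Subgroup G) := by rw [hmS]; exact cj_mem_OmS hH.conj m hKS0
    have hK2 : Cit.cj m K' ∈ OmS Om (S : Subgroup G) := by rw [hmS]; exact cj_mem_OmS hH.conj m hK'S0
    have hne : Cit.cj m K ≠ Cit.cj m K' := fun h1 => w.tt.ne (cj_inj.1 h1)
    have hzz : zz (Cit.cj m K) = zz (Cit.cj m K') := h.eqz S _ hK1 _ hK2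
    have hSp := S.isPGroup'
    have hcomm : ∀ a ∈ Cit.cj m K ⊓ (S : Subgroup G), ∀ a' ∈ Cit.cj m K' ⊓ (S : Subgroup G), a * a' = a' * a :=
      fun a ha a' ha' => hH.comm hSp hK1 hK2 hne ha ha'
    have hDD : DD Om (S : Subgroup G) ≤ (Cit.cj m K ⊓ (S : Subgroup G)) ⊔ (Cit.cj m K' ⊓ (S : Subgroup G)) := by
      rw [DD_le_iff]
      intro L hL
      rcases hmem S m hmS L hL with h1 | h1
      · rw [h1]; exact le_sup_left
      · rw [h1]; exact le_sup_right
    obtain ⟨q, hq, q', hq', rfl⟩ := exists_mul_of_mem_sup hcomm (hDD hf)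
    have hqq' := hcomm q hq q' hq'
    have hzM : centralizer {zz (Cit.cj m K)} ≤ M := by
      rw [hH.zz_cj w.tt.hK]
      exact centralizer_le_conj hm hz
    have h1 : (q * q) * (q' * q') = 1 := by
      calc (q * q) * (q' * q') = q * (q * q') * q' := by group
        _ = q * (q' * q) * q' := by rw [← hqq']
        _ = q * q' * (q * q') := by group
        _ = 1 := hff
    have h2 : q * q = (q' * q')⁻¹ := eq_inv_of_mul_eq_one_left h1
    have h3 : q' * q' = (q * q)⁻¹ := eq_inv_of_mul_eq_one_right h1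
    rcases sq_cases hH hSp hK1 hK2 hne hq (by
      rw [h2]; exact (Cit.cj m K').inv_mem ((Cit.cj m K').mul_mem hq'.1 hq'.1)) with h4 | h4
    · -- `f = zz K`
      have h5 : q' * q' = 1 := by rw [h3, h4, inv_one]
      have h6 : q * q' = zz (Cit.cj m K) := by
        rcases eq_or_ne q 1 with h7 | h7
        · rcases eq_or_ne q' 1 with h8 | h8
          · exact absurd (by rw [h7, h8, one_mul]) hf1
          · rw [h7, one_mul, hzz]
            exact hH.eq_zz hK2.1 hq'.1 h5 h8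
        · have h9 := hH.eq_zz hK1.1 hq.1 h4 h7
          rcases eq_or_ne q' 1 with h8 | h8
          · rw [h8, mul_one, h9]
          · exfalso
            apply hf1
            rw [h9, hH.eq_zz hK2.1 hq'.1 h5 h8, ← hzz, hH.zz_mul hK1.1]
      rw [h6]
      exact hzM
    · rcases sq_cases hH hSp hK2 hK1 hne.symm hq' (by
        rw [h3]; exact (Cit.cj m K).inv_mem ((Cit.cj m K).mul_mem hq.1 hq.1)) with h5 | h5
      · exfalso
        have h6 : q * q = 1 := by rw [h2, h5, inv_one]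
        have h7 := orderOf_dvd_of_pow_eq_one (by rw [pow_two]; exact h6 : q ^ 2 = 1)
        rw [h4] at h7
        omega
      · obtain ⟨n, hn, hnq⟩ := hprod S hS _ hK1 _ hK2 hne q hq.1 q' hq'.1 hqq' h4 h5
        rw [hnq]
        exact centralizer_le_conj hn hCt
  · intro S hS K1 hK1 K2 hK2 hne q hq q' hq' h4 h4' L hL QL hQL hc _
    have hqq' := hH.comm S.isPGroup' hK1 hK2 hne hq hq'
    obtain ⟨n, hn, hnq⟩ := hprod S hS K1 hK1 K2 hK2 hne q hq.1 q' hq'.1 hqq' h4 h4'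
    -- reduction to `t`
    have hred2 : ∀ L ∈ Om, ∀ QL : Subgroup G, Syl QL L → (∀ p ∈ QL, p * (x * y) = (x * y) * p) →
        centralizer {x * y * zz L} ≤ M := by
      intro L hL QL hQL hc
      obtain ⟨QJ', hQJ', hcJ⟩ := w.Perp_t h w.hJ rfl
      obtain ⟨R, hR, hQR⟩ := OneBasic.exists_syl_ge hQL.2.1
        (fun p hp => mem_centralizer_singleton_iff.2 (hc p hp) : QL ≤ centralizer {x * y})
      obtain ⟨R', hR', hQR'⟩ := OneBasic.exists_syl_ge hQJ'.2.1
        (fun p hp => mem_centralizer_singleton_iff.2 (hcJ p hp).symm : QJ' ≤ centralizer {x * y})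
      obtain ⟨g, hg, hgR⟩ := hR'.exists_conj hR
      have e1 : Cit.cj g J ∈ OmS Om R := by
        rw [← hgR]
        exact cj_mem_OmS hH.conj g (mem_OmS_of_le w.hJ hQJ' hQR')
      have e2 : L ∈ OmS Om R := mem_OmS_of_le hL hQL hQR
      have e3 : zz L = g * zz J * g⁻¹ := by
        rw [h.zz_eq hR.2.1 e2 e1, hH.zz_cj w.hJ]
      have e4 : x * y * zz L = g * (zz J * (x * y)) * g⁻¹ := by
        rw [e3, w.st]
        have e5 : x * y = g * (x * y) * g⁻¹ := by
          rw [mem_centralizer_singleton_iff.1 hg, mul_inv_cancel_right]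
        calc x * y * (g * zz J * g⁻¹) = g * (x * y) * g⁻¹ * (g * zz J * g⁻¹) := by rw [← e5]
          _ = _ := by group
      rw [e4]
      exact centralizer_le_conj (hCt hg) hCv
    have f1 : q * q' * zz L = n * (x * y * zz (Cit.cj n⁻¹ L)) * n⁻¹ := by
      rw [hnq, hH.zz_cj hL]; group
    rw [f1]
    refine centralizer_le_conj hn (hred2 _ (hH.conj L hL _) (Cit.cj n⁻¹ QL) (hQL.cj _) ?_)
    rintro _ ⟨p, hp, rfl⟩
    simp only [MulEquiv.coe_toMonoidHom, MulAut.conj_apply, inv_inv]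
    have f2 : x * y = n⁻¹ * (q * q') * n := by rw [hnq]; group
    rw [f2]
    calc n⁻¹ * p * n * (n⁻¹ * (q * q') * n) = n⁻¹ * (p * (q * q')) * n := by group
      _ = n⁻¹ * (q * q' * p) * n := by rw [hc p hp]
      _ = _ := by group

end Cfsg.Agent.Cit.TwoWM
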