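import Cfsg.Agent.Cit.TwoW
import Cfsg.Agent.Cit.UseT3
import Cfsg.Agent.Cit.AutAct

/-!
# Branch (B): the use of THEOREM T for `C(v)`, `C(t)`, `C(zv)` (R18, Z3, (8b))

`t = x y`, `z = zz K`, `s = zz J`, `v = s t` as in `WD`.

* `cov_of_perp`, `perp_of_cov`: an involution `b` is perpendicular to `M` iff `M` is covered by `C(b)`.
* `eq_or_of_comm`: if `J`, `J'` are mates covered by `H`, the members of the family of `H / O(H)` commuting with the trace
  of `J` are the traces of `J`, `J'`.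
* `px_v`, `all_v`, `px_v_not_mem`, `v_mem_px` : all members covered by `C(v)` are in one piece, which contains `v`.
* `F0`, `F0'`: no member is perpendicular to `t` and to `z` or `z t`.
* `dich`: `J`, `J'` mates covered by `C(u)`: either `(B')` their traces are the only members and `zz J` is central modulo
  `O(C(u))`, or `(B'')` all members are in one piece; `Cen u s`, `cen_iff` (transport from `t`, `s` to `z v`, `z`).
-/

set_option autoImplicit false
set_option linter.style.haveILetI false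
set_option linter.unusedSectionVars false

namespace Cfsg.Agent.Cit.TwoWT

open Subgroup Cfsg SubCent UseT
open scoped commutatorElement

universe u

variable {G : Type u} [Group G] [Finite G] {Om : Set (Subgroup G)}

/-! ### Perpendicular = covered -/

/-- an element centralising a Sylow 2-subgroup of a member normalises it -/
theorem norm_of_cent (hOm : Hyp Om) {K Q : Subgroup G} (hK : K ∈ Om) (hQ : Syl Q K) {r : G}
    (hrQ : ∀ x ∈ Q, r * x = x * r) : r ∈ normalizer (K : Set G) := by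
  obtain ⟨c, v, n, hq⟩ := hOm.exists_gq hK hQ
  have hzQ : zz K ∈ Q := hq.z_mem
  have hrz : r * zz K * r⁻¹ = zz K := by rw [hrQ _ hzQ, mul_inv_cancel_right]
  have hcjQ : Cit.cj r Q = Q := by
    rw [← mem_normalizer_iff_cj]
    refine centralizer_le_normalizer _ (mem_centralizer_iff.2 fun x hx => (hrQ x hx).symm)
  rw [mem_normalizer_iff_cj]
  rcases hOm.h2 K hK _ (hOm.conj K hK r) (by rw [hOm.zz_cj hK, hrz]) with h1 | h1
  · exact h1.symm
  · exfalso
    have h2 : v ∈ Cit.cj r K := by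
      have h3 := cj_mono r hQ.1
      rw [hcjQ] at h3
      exact h3 hq.v_mem
    have h3 := (h1.trans inf_le_left) (commutator_mem_commutator (hQ.1 hq.c_mem) h2)
    have h4 : ⁅c, v⁆ ∈ Q := by
      rw [commutatorElement_def]
      exact Q.mul_mem (Q.mul_mem (Q.mul_mem hq.c_mem hq.v_mem) (Q.inv_mem hq.c_mem)) (Q.inv_mem hq.v_mem)
    obtain ⟨k, hk⟩ := hQ.2.1 ⟨_, h4⟩
    have h5 : ⁅c, v⁆ = 1 := eq_one_of_odd (odd_OO K) h3 (a := k) (congrArg Subtype.val hk)
    exact hq.not_comm (commutatorElement_eq_one_iff_mul_comm.1 h5).symm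

theorem cov_iff_triv (hOm : Hyp Om) {b : G} (hb : b * b = 1) {M : Subgroup G} :
    M ∈ cov Om (centralizer {b}) ↔ M ∈ Om ∧ AutAct.Triv b M := by
  rw [mem_cov_cent hOm (b := b) (a := 1) (by rw [pow_one, pow_two, hb])]
  refine and_congr_right fun _ => ⟨fun h k hk => ?_, fun h k hk => ?_⟩
  · have h1 := (OO M).inv_mem (h k hk)
    have h2 : (k * b * k⁻¹ * b⁻¹)⁻¹ = b * k * b⁻¹ * k⁻¹ := by group
    rwa [h2] at h1
  · have h1 := (OO M).inv_mem (h k hk)
    have h2 : (b * k * b⁻¹ * k⁻¹)⁻¹ = k * b * k⁻¹ * b⁻¹ := by group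
    rwa [h2] at h1

theorem triv_of_perp (hOm : Hyp Om) (hty : ∀ K ∈ Om, IsType K) {M : Subgroup G} (hM : M ∈ Om) {b : G}
    (hb : b * b = 1) (hp : TwoE.Perp b M) : AutAct.Triv b M := by
  obtain ⟨Q, hQ, hc⟩ := hp
  exact AutAct.triv_of_cent (hty M hM) hQ (norm_of_cent hOm hM hQ hc) (b := 1) (by rw [pow_one, pow_two, hb]) hc

/-- perpendicular members are covered -/
theorem cov_of_perp (hOm : Hyp Om) (hty : ∀ K ∈ Om, IsType K) {M : Subgroup G} (hM : M ∈ Om) {b : G}
    (hb : b * b = 1) (hp : TwoE.Perp b M) : M ∈ cov Om (centralizer {b}) :=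
  (cov_iff_triv hOm hb).2 ⟨hM, triv_of_perp hOm hty hM hb hp⟩

/-- covered members are perpendicular -/
theorem perp_of_cov {M : Subgroup G} {b : G} (hM : M ∈ cov Om (centralizer {b})) : TwoE.Perp b M := by
  obtain ⟨Q, hQ⟩ := Hyp.exists_syl (M ⊓ centralizer {b})
  exact ⟨Q, syl_of_syl_inf hM hQ, fun q hq => (mem_centralizer_singleton_iff.1 (hQ.1 hq).2).symm⟩

/-! ### Commuting traces -/

variable {H : Subgroup G}

/-- commuting involutions with the same image are equal -/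
theorem eq_of_qm_eq {a b : G} (ha : a ∈ H) (hb : b ∈ H) (haa : a * a = 1) (hbb : b * b = 1) (hab : a * b = b * a)
    (he : qm H ⟨a, ha⟩ = qm H ⟨b, hb⟩) : a = b := by
  have h1 : (⟨a, ha⟩ * (⟨b, hb⟩ : H)) ∈ pPrimeCore 2 ↥H := by
    rw [← ker_qm, MonoidHom.mem_ker, map_mul, he, ← map_mul]
    have : (⟨b, hb⟩ : H) * ⟨b, hb⟩ = 1 := Subtype.ext hbb
    rw [this, map_one]
  have h2 : (⟨a, ha⟩ * (⟨b, hb⟩ : H)) ^ 2 ^ 1 = 1 := by
    apply Subtype.ext
    change (a * b) ^ 2 ^ 1 = 1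
    rw [pow_one, pow_two]
    calc a * b * (a * b) = a * (b * a) * b := by group
      _ = (a * a) * (b * b) := by rw [← hab]; group
      _ = 1 := by rw [haa, hbb, one_mul]
  have h3 : (⟨a, ha⟩ * (⟨b, hb⟩ : H)) = 1 := by
    have h4 : (a * b) ∈ OO H := ⟨_, h1, rfl⟩
    exact Subtype.ext (eq_one_of_odd (odd_OO H) h4 (congrArg Subtype.val h2))
  have h4 : a * b = 1 := congrArg Subtype.val h3
  calc a = a * (b * b) := by rw [hbb, mul_one]
    _ = (a * b) * b := by group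
    _ = b := by rw [h4, one_mul]

/-- commuting traces have the same involution -/
theorem zz_tr_of_comm (h : TwoE Om) (hty : ∀ K ∈ Om, IsType K) {K L : Subgroup G} (hK : K ∈ cov Om H)
    (hL : L ∈ cov Om H) (hc : tr H K ≤ centralizer (tr H L : Set (HQ H))) : zz (tr H K) = zz (tr H L) := by
  obtain ⟨x, hx, S, hS, -, h1, h2, -⟩ := exists_adj h.hyp hty hK hL hc
  have h3 := h.zz_eq hS h1 h2
  have h4 : tr H (cj (x : G) K) = tr H K := ((tr_eq_iff h.hyp hty hK (cj_mem_cov' h.hyp hK x.2)).2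
    ⟨x, hx, rfl⟩).symm
  rw [← h4, zz_tr h.hyp hty (cj_mem_cov' h.hyp hK x.2), zz_tr h.hyp hty hL]
  congr 1
  exact Subtype.ext h3

/-- members with different commuting involutions are in the same piece -/
theorem px_eq_of_ne (h : TwoE Om) (hty : ∀ K ∈ Om, IsType K) {K L : Subgroup G} (hK : K ∈ cov Om H)
    (hL : L ∈ cov Om H) (hne : zz K ≠ zz L) (hc : zz K * zz L = zz L * zz K) : px Om H K = px Om H L := by
  refine px_eq_of_not_comm hK hL fun h1 => hne ?_
  have h2 := zz_tr_of_comm h hty hK hL h1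
  rw [zz_tr h.hyp hty hK, zz_tr h.hyp hty hL] at h2
  exact eq_of_qm_eq (zz_mem_of_cov h.hyp hK) (zz_mem_of_cov h.hyp hL) (h.hyp.zz_mul hK.1) (h.hyp.zz_mul hL.1) hc h2

/-- the traces commuting with the trace of `J` are the traces of the members with involution `zz J` -/
theorem eq_or_of_comm (h : TwoE Om) (hty : ∀ K ∈ Om, IsType K) {J J' M : Subgroup G} (hJ : J ∈ cov Om H)
    (hJ' : J' ∈ Om) (hne : J ≠ J') (hz : zz J' = zz J) (hM : M ∈ cov Om H)
    (hc : tr H M ≤ centralizer (tr H J : Set (HQ H))) : tr H M = tr H J ∨ tr H M = tr H J' := by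
  obtain ⟨x, hx, S, hS, -, h1, h2, -⟩ := exists_adj h.hyp hty hM hJ hc
  have h3 := h.zz_eq hS h1 h2
  have hMx := cj_mem_cov' h.hyp hM x.2
  have h4 : tr H (cj (x : G) M) = tr H M := ((tr_eq_iff h.hyp hty hM hMx).2 ⟨x, hx, rfl⟩).symm
  rcases h.eq_or hJ.1 hJ' hMx.1 hne hz h3 with h5 | h5
  · left; rw [← h4, h5]
  · right; rw [← h4, h5]

/-- mates have different traces -/
theorem tr_ne_of_mate (h : TwoE Om) (hty : ∀ K ∈ Om, IsType K) {J J' : Subgroup G} (hJ : J ∈ cov Om H)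
    (hJ' : J' ∈ cov Om H) (hne : J ≠ J') (hz : zz J' = zz J) : tr H J ≠ tr H J' := by
  intro he
  obtain ⟨x, hx, hxJ⟩ := (tr_eq_iff h.hyp hty hJ hJ').1 he
  have h1 : (x : G) * zz J = zz J * x := by
    have h2 : zz (cj (x : G) J) = zz J := by rw [hxJ, hz]
    rw [h.hyp.zz_cj hJ.1, mul_inv_eq_iff_eq_mul] at h2
    exact h2
  rcases h.cj_or hJ.1 hJ'.1 hne hz h1 with ⟨h2, -⟩ | ⟨-, h2⟩
  · exact hne (h2.symm.trans hxJ)
  · -- `x` swaps `J` and `J'`: of even order
    have h3 : cj ((x : G) * x) J = J := by rw [cj_mul, hxJ, h2]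
    have h4 : Odd (orderOf (x : G)) := by
      rw [← Nat.not_even_iff_odd, even_iff_two_dvd]
      intro h5
      have h6 : (x : G) ∈ OO H := ⟨x, hx, rfl⟩
      apply odd_OO H
      refine h5.trans ?_
      rw [← Subgroup.orderOf_mk (x : G) h6]
      exact orderOf_dvd_natCard _
    obtain ⟨k, hk⟩ := h4
    have h5 : cj (((x : G) * x) ^ k) J = J := by
      rw [← mem_normalizer_iff_cj] at h3 ⊢
      exact pow_mem h3 k
    have h6 : (x : G) ^ (2 * k + 1) = 1 := by rw [← hk, pow_orderOf_eq_one]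
    have h7 : cj ((x : G) ^ (2 * k + 1)) J = J' := by
      rw [pow_succ', pow_mul, pow_two, cj_mul, h5, hxJ]
    rw [h6, cj_one] at h7
    exact hne h7

/-- two different traces in a piece -/
theorem px_not_mem (hOm : Hyp Om) (hty : ∀ K ∈ Om, IsType K) {K L : Subgroup G} (hK : K ∈ cov Om H)
    (hL : L ∈ cov Om H) (hne : tr H K ≠ tr H L) (he : px Om H K = px Om H L) : px Om H K ∉ fam Om H := by
  intro h1
  have h2 := (hyp_fam hOm hty H).eq_of_le (tr_mem hK) h1 tr_le_px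
  have h3 := (hyp_fam hOm hty H).eq_of_le (tr_mem hL) h1 (by rw [he]; exact tr_le_px)
  exact hne (h2.trans h3.symm)

/-! ### `C(v)` -/

section V

variable {K K' J Q Q' QJ : Subgroup G} {x y b c : G}

theorem cov_v (h : TwoE Om) (hty : ∀ K ∈ Om, IsType K) (w : WD Om K K' J Q Q' QJ x y b c) {M : Subgroup G}
    (hM : M ∈ Om) (hz : zz M = zz K ∨ zz M = zz J ∨ zz M = zz K * zz J) :
    M ∈ cov Om (centralizer {zz J * (x * y)}) := by
  refine cov_of_perp h.hyp hty hM (w.vv h.hyp) ?_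
  rcases hz with hz | hz | hz
  · exact w.Perp_v_z h hM hz
  · exact w.Perp_v_s h hM hz
  · exact w.Perp_v_zs h hM hz

theorem cov_v_K (h : TwoE Om) (hty : ∀ K ∈ Om, IsType K) (w : WD Om K K' J Q Q' QJ x y b c) :
    K ∈ cov Om (centralizer {zz J * (x * y)}) := cov_v h hty w w.tt.hK (Or.inl rfl)

theorem cov_v_J (h : TwoE Om) (hty : ∀ K ∈ Om, IsType K) (w : WD Om K K' J Q Q' QJ x y b c) :
    J ∈ cov Om (centralizer {zz J * (x * y)}) := cov_v h hty w w.hJ (Or.inr (Or.inl rfl))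

/-- the six members are in one piece -/
theorem px_v (h : TwoE Om) (hty : ∀ K ∈ Om, IsType K) (w : WD Om K K' J Q Q' QJ x y b c) {M : Subgroup G}
    (hM : M ∈ Om) (hz : zz M = zz K ∨ zz M = zz J ∨ zz M = zz K * zz J) :
    px Om (centralizer {zz J * (x * y)}) M = px Om (centralizer {zz J * (x * y)}) K := by
  have hc := cov_v h hty w hM hz
  have hKJ := px_eq_of_ne h hty (cov_v_K h hty w) (cov_v_J h hty w) w.ne.symm (w.sz h.hyp).symm
  rcases hz with hz | hz | hz
  · rw [hKJ]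
    exact px_eq_of_ne h hty hc (cov_v_J h hty w) (by rw [hz]; exact w.ne.symm) (by rw [hz]; exact (w.sz h.hyp).symm)
  · exact px_eq_of_ne h hty hc (cov_v_K h hty w) (by rw [hz]; exact w.ne) (by rw [hz]; exact w.sz h.hyp)
  · refine px_eq_of_ne h hty hc (cov_v_K h hty w) ?_ ?_
    · rw [hz]
      intro h1
      exact h.hyp.zz_ne w.hJ (mul_left_cancel (h1.trans (mul_one _).symm))
    · rw [hz, mul_assoc, w.sz h.hyp]

/-- all members covered by `C(v)` are in one piece -/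
theorem all_v (h : TwoE Om) (hty : ∀ K ∈ Om, IsType K) (w : WD Om K K' J Q Q' QJ x y b c) {M : Subgroup G}
    (hM : M ∈ cov Om (centralizer {zz J * (x * y)})) :
    px Om (centralizer {zz J * (x * y)}) M = px Om (centralizer {zz J * (x * y)}) K := by
  by_contra hne
  have hKJ := px_v h hty w w.hJ (Or.inr (Or.inl rfl))
  have h1 := px_comm hM (cov_v_K h hty w) hne
  have e1 := zz_tr_of_comm h hty hM (cov_v_K h hty w)
    ((tr_le_px.trans h1).trans (centralizer_le tr_le_px))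
  have e2 := zz_tr_of_comm h hty hM (cov_v_J h hty w)
    ((tr_le_px.trans h1).trans (centralizer_le (by rw [← hKJ]; exact tr_le_px)))
  rw [e1, zz_tr h.hyp hty (cov_v_K h hty w), zz_tr h.hyp hty (cov_v_J h hty w)] at e2
  exact w.ne (eq_of_qm_eq _ _ (h.hyp.zz_mul w.tt.hK) (h.hyp.zz_mul w.hJ) (w.sz h.hyp).symm e2).symm

theorem px_v_not_mem (h : TwoE Om) (hty : ∀ K ∈ Om, IsType K) (w : WD Om K K' J Q Q' QJ x y b c) :
    px Om (centralizer {zz J * (x * y)}) K ∉ fam Om (centralizer {zz J * (x * y)}) := by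
  refine px_not_mem h.hyp hty (cov_v_K h hty w) (cov_v_J h hty w) ?_ (px_v h hty w w.hJ (Or.inr (Or.inl rfl))).symm
  intro he
  have e2 : zz (tr (centralizer {zz J * (x * y)}) K) = zz (tr (centralizer {zz J * (x * y)}) J) := by rw [he]
  rw [zz_tr h.hyp hty (cov_v_K h hty w), zz_tr h.hyp hty (cov_v_J h hty w)] at e2
  exact w.ne (eq_of_qm_eq _ _ (h.hyp.zz_mul w.tt.hK) (h.hyp.zz_mul w.hJ) (w.sz h.hyp).symm e2).symm

theorem comm_xv (w : WD Om K K' J Q Q' QJ x y b c) : x * (zz J * (x * y)) = (zz J * (x * y)) * x :=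
  (w.vQ x w.xQ).symm

theorem comm_yv (w : WD Om K K' J Q Q' QJ x y b c) : y * (zz J * (x * y)) = (zz J * (x * y)) * y :=
  (w.vQ' y w.yQ).symm

/-- `v` is in the piece -/
theorem v_mem_px (h : TwoE Om) (hty : ∀ K ∈ Om, IsType K) (w : WD Om K K' J Q Q' QJ x y b c) :
    qm (centralizer {zz J * (x * y)}) ⟨zz J * (x * y), mem_centralizer_singleton_iff.2 rfl⟩ ∈
      px Om (centralizer {zz J * (x * y)}) K := by
  set H := centralizer {zz J * (x * y)} with hH
  have hs : zz J ∈ H := mem_centralizer_singleton_iff.2 w.sv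
  have hx : x ∈ H := mem_centralizer_singleton_iff.2 (comm_xv w)
  have hy : y ∈ H := mem_centralizer_singleton_iff.2 (comm_yv w)
  have e : (⟨zz J * (x * y), mem_centralizer_singleton_iff.2 rfl⟩ : H) = ⟨zz J, hs⟩ * (⟨x, hx⟩ * ⟨y, hy⟩) := rfl
  rw [e, map_mul, map_mul]
  refine mul_mem ?_ (mul_mem ?_ ?_)
  · rw [← px_v h hty w w.hJ (Or.inr (Or.inl rfl))]
    refine tr_le_px (mem_tr hty (cov_v_J h hty w) (x := ⟨zz J, hs⟩) (h.hyp.zz_mem w.hJ) (a := 1) ?_)
    apply Subtype.ext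
    change zz J ^ 2 ^ 1 = 1
    rw [pow_one, pow_two, h.hyp.zz_mul w.hJ]
  · refine tr_le_px (mem_tr hty (cov_v_K h hty w) (x := ⟨x, hx⟩) w.tt.hx (a := 2) ?_)
    apply Subtype.ext
    change x ^ 2 ^ 2 = 1
    have h4 := pow_orderOf_eq_one x
    rw [w.tt.ox] at h4
    exact h4
  · rw [← px_v h hty w w.tt.hK' (Or.inl w.tt.hz)]
    refine tr_le_px (mem_tr hty (cov_v h hty w w.tt.hK' (Or.inl w.tt.hz)) (x := ⟨y, hy⟩) w.tt.hy (a := 2) ?_)
    apply Subtype.ext
    change y ^ 2 ^ 2 = 1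
    have h4 := pow_orderOf_eq_one y
    rw [w.tt.oy] at h4
    exact h4

end V

/-! ### (F0) -/

/-- `x y` is not perpendicular to `K` -/
theorem not_perp_self (h : TwoE Om) {K K' : Subgroup G} {x y : G} (p : TTp Om K K' x y) :
    ¬ TwoE.Perp (x * y) K := by
  rintro ⟨Q, hQ, hc⟩
  obtain ⟨R, hR, hxR, hyR⟩ := p.two
  have hxy := p.comm h.hyp
  have hQX : Q ≤ centralizer {x * y} ⊓ normalizer (K : Set G) :=
    le_inf (fun q hq => mem_centralizer_singleton_iff.2 (hc q hq).symm) (hQ.1.trans le_normalizer)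
  obtain ⟨T, hT, hQT⟩ := OneBasic.exists_syl_ge hQ.2.1 hQX
  have hyK : y ∈ normalizer (K : Set G) := h.hyp.le_normalizer_of_zz p.hK p.hK' p.hz p.hy
  have hxC : x ∈ centralizer {x * y} := mem_centralizer_singleton_iff.2
    ((Commute.refl x).mul_right hxy).eq
  have hyC : y ∈ centralizer {x * y} := mem_centralizer_singleton_iff.2
    ((show Commute y x from hxy.symm).mul_right (Commute.refl y)).eq
  obtain ⟨T1, hT1, hT1'⟩ := OneBasic.exists_syl_ge (A := R ⊓ (centralizer {x * y} ⊓ normalizer (K : Set G)))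
    (M := centralizer {x * y} ⊓ normalizer (K : Set G)) (hR.to_le inf_le_left) inf_le_right
  obtain ⟨g, hg, hgT⟩ := hT1.exists_conj hT
  have hxT1 : x ∈ T1 := hT1' ⟨hxR, hxC, le_normalizer p.hx⟩
  have hyT1 : y ∈ T1 := hT1' ⟨hyR, hyC, hyK⟩
  have hgt : g * (x * y) * g⁻¹ = x * y := by
    rw [mem_centralizer_singleton_iff.1 hg.1, mul_inv_cancel_right]
  have hgK : cj g K = K := mem_normalizer_iff_cj.1 hg.2
  have hgK' : cj g K' = K' := mem_normalizer_iff_cj.1 (h.normalizer_le p.hK p.hK' p.ne p.hz hg.2)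
  have hxT : g * x * g⁻¹ ∈ T := by rw [← hgT]; exact conj_mem_cj hxT1
  have hyT : g * y * g⁻¹ ∈ T := by rw [← hgT]; exact conj_mem_cj hyT1
  have hxK : g * x * g⁻¹ ∈ K := by
    have := conj_mem_cj (g := g) p.hx
    rwa [hgK] at this
  have hyK' : g * y * g⁻¹ ∈ K' := by
    have := conj_mem_cj (g := g) p.hy
    rwa [hgK'] at this
  have hQe : Q = K ⊓ T := hQ.eq_of_le (le_inf hQ.1 hQT) inf_le_left (hT.2.1.to_le inf_le_right)
  have hxQ : g * x * g⁻¹ ∈ Q := by rw [hQe]; exact ⟨hxK, hxT⟩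
  have hx4 : orderOf (g * x * g⁻¹) = 4 := by rw [← p.ox]; exact (MulAut.conj g).orderOf_eq x
  apply h.hyp.not_cent_of_four p.hK hQ hxQ hx4
  intro q hq
  have h1 : q * (g * y * g⁻¹) = (g * y * g⁻¹) * q :=
    h.hyp.comm_of_zz_eq hT.2.1 p.hK p.hK' p.hz.symm p.ne (hQ.1 hq) (hQT hq) hyK' hyT
  have h2 : (g * x * g⁻¹) * (g * y * g⁻¹) = x * y := by
    calc (g * x * g⁻¹) * (g * y * g⁻¹) = g * (x * y) * g⁻¹ := by group
      _ = x * y := hgt
  have h3 : g * x * g⁻¹ = (x * y) * (g * y * g⁻¹)⁻¹ := by rw [← h2]; group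
  have h4 : (g * y * g⁻¹)⁻¹ * q = q * (g * y * g⁻¹)⁻¹ := by
    rw [inv_mul_eq_iff_eq_mul, ← mul_assoc, ← h1, mul_inv_cancel_right]
  calc g * x * g⁻¹ * q = (x * y) * ((g * y * g⁻¹)⁻¹ * q) := by rw [h3]; group
    _ = (x * y * q) * (g * y * g⁻¹)⁻¹ := by rw [h4]; group
    _ = q * (x * y * (g * y * g⁻¹)⁻¹) := by rw [hc q hq]; group
    _ = q * (g * x * g⁻¹) := by rw [← h3]

/-- **(F0)** no member is perpendicular to `t = x y` and to `z` -/
theorem F0 (h : TwoE Om) {K K' M : Subgroup G} {x y : G} (p : TTp Om K K' x y) (hM : M ∈ Om)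
    (h1 : TwoE.Perp (x * y) M) (h2 : TwoE.Perp (zz K) M) : False := by
  obtain ⟨Q, hQ, hc⟩ := h2
  have h3 := h.zz_eq_of_cent hM p.hK hQ hc
  rcases h.eq_or p.hK p.hK' hM p.ne p.hz h3.symm with h4 | h4
  · rw [h4] at h1
    exact not_perp_self h p h1
  · rw [h4, p.comm h.hyp] at h1
    exact not_perp_self h p.symm h1

/-- **(F0)** no member is perpendicular to `t = x y` and to `z t` -/
theorem F0' (h : TwoE Om) (hty : ∀ K ∈ Om, IsType K) {K K' M : Subgroup G} {x y : G} (p : TTp Om K K' x y)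
    (hM : M ∈ Om) (h1 : TwoE.Perp (x * y) M) (h2 : TwoE.Perp (x * y * zz K) M) : False := by
  have hzt : x * y * zz K = zz K * (x * y) := by
    have e1 := p.sqx h.hyp
    rw [← e1]
    have hc : Commute x (x * y) := (Commute.refl x).mul_right (p.comm h.hyp)
    exact (hc.mul_left hc).symm.eq
  have hs : (x * y * zz K) * (x * y * zz K) = 1 := by
    calc (x * y * zz K) * (x * y * zz K) = (zz K * (x * y)) * (x * y * zz K) := by rw [hzt]
      _ = zz K * ((x * y) * (x * y)) * zz K := by group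
      _ = 1 := by rw [p.sq h.hyp, mul_one, h.hyp.zz_mul p.hK]
  have e1 := triv_of_perp h.hyp hty hM (p.sq h.hyp) h1
  have e2 := triv_of_perp h.hyp hty hM hs h2
  -- `z = t (t z)` acts trivially
  obtain ⟨Q, hQ, hc⟩ := h1
  have hn1 := norm_of_cent h.hyp hM hQ hc
  have e3 : AutAct.Triv (zz K) M := by
    intro k hk
    have hk2 := e2 k hk
    have hk3 : (x * y * zz K) * k * (x * y * zz K)⁻¹ ∈ M := by
      have := M.mul_mem (OO_le M hk2) hk
      rwa [inv_mul_cancel_right] at this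
    have hk4 := e1 _ hk3
    have e5 : x * y * (x * y * zz K * k * (x * y * zz K)⁻¹) * (x * y)⁻¹ = zz K * k * (zz K)⁻¹ := by
      have e6 : x * y * (x * y * zz K) = zz K := by rw [← mul_assoc, p.sq h.hyp, one_mul]
      calc x * y * (x * y * zz K * k * (x * y * zz K)⁻¹) * (x * y)⁻¹
          = (x * y * (x * y * zz K)) * k * (x * y * (x * y * zz K))⁻¹ := by group
        _ = _ := by rw [e6]
    rw [e5] at hk4
    have h5 := (OO M).mul_mem hk4 hk2
    have e7 : zz K * k * (zz K)⁻¹ * (x * y * zz K * k * (x * y * zz K)⁻¹)⁻¹ *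
        (x * y * zz K * k * (x * y * zz K)⁻¹ * k⁻¹) = zz K * k * (zz K)⁻¹ * k⁻¹ := by group
    rwa [e7] at h5
  have hcov : M ∈ cov Om (centralizer {zz K}) := (cov_iff_triv h.hyp (h.hyp.zz_mul p.hK)).2 ⟨hM, e3⟩
  exact F0 h p hM ⟨Q, hQ, hc⟩ (perp_of_cov hcov)

/-! ### The dichotomy -/

/-- `s` is central modulo `O(C(u))` -/
def Cen (u s : G) : Prop := ∀ g : G, g * u = u * g → g * s * g⁻¹ * s⁻¹ ∈ OO (centralizer {u})

theorem Cen.cj {u s : G} (h : Cen u s) (a : G) : Cen (a * u * a⁻¹) (a * s * a⁻¹) := by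
  intro g hg
  have h1 : (a⁻¹ * g * a) * u = u * (a⁻¹ * g * a) := by
    calc (a⁻¹ * g * a) * u = a⁻¹ * (g * (a * u * a⁻¹)) * a := by group
      _ = a⁻¹ * ((a * u * a⁻¹) * g) * a := by rw [hg]
      _ = _ := by group
  have h2 := conj_mem_cj (g := a) (h _ h1)
  rw [← OO_cj, cj_centralizer] at h2
  have h3 : a * ((a⁻¹ * g * a) * s * (a⁻¹ * g * a)⁻¹ * s⁻¹) * a⁻¹ =
      g * (a * s * a⁻¹) * g⁻¹ * (a * s * a⁻¹)⁻¹ := by group
  rwa [h3] at h2

theorem cen_iff_qm {u s : G} (hs : s ∈ centralizer {u}) :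
    Cen u s ↔ ∀ g : HQ (centralizer {u}), g * qm _ ⟨s, hs⟩ = qm _ ⟨s, hs⟩ * g := by
  have key : ∀ g : ↥(centralizer {u}), (g : G) * s * (g : G)⁻¹ * s⁻¹ ∈ OO (centralizer {u}) ↔
      qm _ g * qm _ ⟨s, hs⟩ = qm _ ⟨s, hs⟩ * qm _ g := by
    intro g
    have e : (g : G) * s * (g : G)⁻¹ * s⁻¹ = ((g * ⟨s, hs⟩ * g⁻¹ * (⟨s, hs⟩ : ↥(centralizer {u}))⁻¹ :
      ↥(centralizer {u})) : G) := rfl
    have e2 : ∀ r : ↥(centralizer {u}), (r : G) ∈ OO (centralizer {u}) ↔ qm _ r = 1 := by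
      intro r
      rw [← MonoidHom.mem_ker, ker_qm]
      constructor
      · rintro ⟨r', hr', he⟩
        rwa [← Subtype.ext (a1 := r') (a2 := r) he]
      · exact fun h => ⟨r, h, rfl⟩
    rw [e, e2, map_mul, map_mul, map_mul, map_inv, map_inv, mul_inv_eq_one, mul_inv_eq_iff_eq_mul]
  constructor
  · intro h g
    obtain ⟨g, rfl⟩ := qm_surjective _ g
    exact (key g).1 (h g (mem_centralizer_singleton_iff.1 g.2))
  · intro h g hg
    exact (key ⟨g, mem_centralizer_singleton_iff.2 hg⟩).2 (h _)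

/-- **the dichotomy (B') / (B'')** for `C(u)`, `J`, `J'` mates covered by `C(u)` -/
theorem dich (h : TwoE Om) (hty : ∀ K ∈ Om, IsType K) {u : G} (hp : HasPieces (fam Om (centralizer {u})))
    {J J' : Subgroup G} (hJ : J ∈ cov Om (centralizer {u})) (hJ' : J' ∈ cov Om (centralizer {u})) (hne : J ≠ J')
    (hz : zz J' = zz J) :
    (Cen u (zz J) ∧ px Om (centralizer {u}) J ≠ px Om (centralizer {u}) J' ∧
      ∀ M ∈ cov Om (centralizer {u}), tr (centralizer {u}) M = tr (centralizer {u}) J ∨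
        tr (centralizer {u}) M = tr (centralizer {u}) J') ∨
    (¬ Cen u (zz J) ∧ px Om (centralizer {u}) J ∉ fam Om (centralizer {u}) ∧
      ∀ M ∈ cov Om (centralizer {u}), px Om (centralizer {u}) M = px Om (centralizer {u}) J) := by
  set H := centralizer {u} with hH
  have hzJ : zz J ∈ H := zz_mem_of_cov h.hyp hJ
  by_cases he : px Om H J = px Om H J'
  · right
    have hnm := px_not_mem h.hyp hty hJ hJ' (tr_ne_of_mate h hty hJ hJ' hne hz) he
    refine ⟨fun hc => ?_, hnm, ?_⟩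
    · -- a central involution
      rw [cen_iff_qm hzJ] at hc
      rcases px_eq_or h.hyp hty hp hJ with h1 | ⟨-, h1, -⟩
      · rw [h1] at hnm
        exact hnm (tr_mem hJ)
      · -- all members have the involution of `J`, so commute or are equal: `pc_eq_self`
        have h2 : px Om H J = tr H J := by
          refine pc_eq_self fun M' hM' hne' => ?_
          obtain ⟨M, hM, rfl⟩ := exists_tr hM'
          have hF := hyp_fam h.hyp hty H
          obtain ⟨Q, hQ⟩ := Hyp.exists_syl (tr H M)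
          obtain ⟨S, hS, -, hLS, hKS⟩ := PairComm.exists_common' hF (tr_mem hM) (tr_mem hJ) hQ fun a _ => by
            rw [zz_tr h.hyp hty hJ]; exact hc a
          exact comm_of_core hF hp.core hS hLS hKS hne'
        rw [h2] at hnm
        exact hnm (tr_mem hJ)
    · intro M hM
      by_contra hM1
      have h1 := px_comm hM hJ hM1
      rcases eq_or_of_comm h hty hJ hJ'.1 hne hz hM ((tr_le_px.trans h1).trans (centralizer_le tr_le_px)) with h2 | h2
      · exact hM1 (by rw [px, h2]; rfl)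
      · exact hM1 (by rw [he, px, h2]; rfl)
  · left
    have hall : ∀ M ∈ cov Om H, tr H M = tr H J ∨ tr H M = tr H J' := by
      intro M hM
      by_cases h1 : px Om H M = px Om H J
      · have h2 : px Om H M ≠ px Om H J' := fun h3 => he (h1.symm.trans h3)
        have h3 := px_comm hM hJ' h2
        exact (eq_or_of_comm h hty hJ' hJ.1 hne.symm hz.symm hM
          ((tr_le_px.trans h3).trans (centralizer_le tr_le_px))).symm
      · have h3 := px_comm hM hJ h1
        exact eq_or_of_comm h hty hJ hJ'.1 hne hz hM ((tr_le_px.trans h3).trans (centralizer_le tr_le_px))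
    refine ⟨?_, he, hall⟩
    rw [cen_iff_qm hzJ]
    intro g
    obtain ⟨g, rfl⟩ := qm_surjective _ g
    have hgJ := cj_mem_cov' h.hyp hJ g.2
    have e1 : zz (tr H (cj (g : G) J)) = zz (tr H J) := by
      rcases hall _ hgJ with h1 | h1
      · rw [h1]
      · rw [h1, zz_tr h.hyp hty hJ, zz_tr h.hyp hty hJ']
        congr 1
        exact Subtype.ext hz
    rw [zz_tr h.hyp hty hgJ, zz_tr h.hyp hty hJ] at e1
    have e2 : (⟨zz (cj (g : G) J), zz_mem_of_cov h.hyp hgJ⟩ : ↥H) = g * ⟨zz J, hzJ⟩ * g⁻¹ :=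
      Subtype.ext (h.hyp.zz_cj hJ.1 _)
    rw [e2, map_mul, map_mul, map_inv, mul_inv_eq_iff_eq_mul] at e1
    exact e1

section T

variable {K K' J Q Q' QJ : Subgroup G} {x y b c : G}

/-- the members over `s` are covered by `C(t)` -/
theorem cov_t (h : TwoE Om) (hty : ∀ K ∈ Om, IsType K) (w : WD Om K K' J Q Q' QJ x y b c) {M : Subgroup G}
    (hM : M ∈ Om) (hz : zz M = zz J) : M ∈ cov Om (centralizer {x * y}) :=
  cov_of_perp h.hyp hty hM (w.tt.sq h.hyp) (w.Perp_t h hM hz)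

theorem zvzv (h : TwoE Om) (w : WD Om K K' J Q Q' QJ x y b c) :
    (zz K * (zz J * (x * y))) * (zz K * (zz J * (x * y))) = 1 := by
  calc (zz K * (zz J * (x * y))) * (zz K * (zz J * (x * y)))
      = zz K * ((zz J * (x * y)) * zz K) * (zz J * (x * y)) := by group
    _ = (zz K * zz K) * ((zz J * (x * y)) * (zz J * (x * y))) := by rw [← w.zv h.hyp]; group
    _ = 1 := by rw [h.hyp.zz_mul w.tt.hK, w.vv h.hyp, one_mul]

/-- the members over `z` are covered by `C(z v)` -/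
theorem cov_a (h : TwoE Om) (hty : ∀ K ∈ Om, IsType K) (w : WD Om K K' J Q Q' QJ x y b c) {M : Subgroup G}
    (hM : M ∈ Om) (hz : zz M = zz K) : M ∈ cov Om (centralizer {zz K * (zz J * (x * y))}) :=
  cov_of_perp h.hyp hty hM (zvzv h w) (w.Perp_zv h hM hz)

/-- `(B')` for `t` iff `(B')` for `z v` -/
theorem cen_iff (h : TwoE Om) (w : WD Om K K' J Q Q' QJ x y b c) :
    Cen (x * y) (zz J) ↔ Cen (zz K * (zz J * (x * y))) (zz K) := by
  constructor
  · intro h1
    have h2 := h1.cj (c⁻¹ * b)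
    rwa [w.gt h.hyp, w.gs h.hyp] at h2
  · intro h1
    have h2 := h1.cj (c⁻¹ * b)⁻¹
    have e1 : (c⁻¹ * b)⁻¹ * (zz K * (zz J * (x * y))) * (c⁻¹ * b)⁻¹⁻¹ = x * y := by
      rw [← w.gt h.hyp]; group
    have e2 : (c⁻¹ * b)⁻¹ * zz K * (c⁻¹ * b)⁻¹⁻¹ = zz J := by
      rw [← w.gs h.hyp]; group
    rwa [e1, e2] at h2

end T

end Cfsg.Agent.Cit.TwoWT
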