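import Cfsg.Agent.Cit.QOne
import Cfsg.Agent.Cit.HexPieces
import Cfsg.Agent.Nodes.Q1Chart

/-!
# Q1: the inputs plugged in

`hasPieces` : `G` simple, all members of `Om` of one type, every class has pieces ⟹ `Om` has pieces.
-/

set_option autoImplicit false

namespace Cfsg.Agent.Cit.QOneEnd

open Subgroup Cfsg

universe u

theorem chartStmt : QOne.ChartStmt.{u} := fun _ _ _ _ _ c _ hyp hτ ok _ hcen =>
  Nodes.Q1Chart.exists_family hyp c hτ ok hcen

theorem excStmt : QOne.ExcStmt.{u} := fun _ _ _ _ _ _ h ty _ hne hp h2 iso =>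
  HexPieces.hasPieces_of_isG2D4 h ty hne hp h2 iso

/-- **Several classes in a simple group** -/
theorem hasPieces {G : Type u} [Group G] [Finite G] [IsSimpleGroup G] {Om : Set (Subgroup G)} (h : Hyp Om)
    (ty : ∀ K ∈ Om, Ty K) (huni : QOne.UniOm Om) (hne : Om.Nonempty) (hp : ∀ K ∈ Om, HasPieces (cls K)) :
    HasPieces Om :=
  QOne.hasPieces chartStmt excStmt h ty huni hne hp

/-- **the leaf Q1 of THEOREM T** -/
theorem q1Leaf : Q1Leaf.{u} := fun _ _ _ _ hs h ty hU hne _ hp =>
  haveI := hs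
  hasPieces h ty hU hne hp

end Cfsg.Agent.Cit.QOneEnd
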