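import Mathlib.LinearAlgebra.Matrix.SpecialLinearGroup
import Mathlib.Tactic

/-!
# Computations in `SL₂(3)`
-/

set_option autoImplicit false

namespace Cfsg.Agent.Cit.LongSL3

abbrev S3 := Matrix.SpecialLinearGroup (Fin 2) (ZMod 3)

theorem sl3_fact1 : ∀ c : S3, c * c * c = 1 → c ≠ 1 → ∀ x : S3, x * x * (x * x) = 1 →
    ∃ u v : S3, u * u * (u * u) = 1 ∧ v * v * (v * v) = 1 ∧
      x = (u * c * u⁻¹ * c⁻¹) * (v * c * v⁻¹ * c⁻¹) := by
  decide +kernel

theorem sl3_fact2 : ∀ c : S3, c * c * c = 1 → c ≠ 1 → ∀ g : S3, ∃ x : S3, ∃ k : Fin 3,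
    x * x * (x * x) = 1 ∧ g = x * c ^ (k : ℕ) := by
  decide +kernel

theorem sl3_fact3 : ∀ x y : S3, x * x * (x * x) = 1 → y * y * (y * y) = 1 →
    x * y * (x * y) * ((x * y) * (x * y)) = 1 := by
  decide +kernel

theorem sl3_fact4 : ∃ x y : S3, x * x * (x * x) = 1 ∧ y * y * (y * y) = 1 ∧ x * y ≠ y * x := by
  decide +kernel

theorem sl3_fact5 : ∃ c : S3, c * c * c = 1 ∧ c ≠ 1 := by
  decide +kernel

theorem sl3_center : ∀ x : S3, (∀ y, x * y = y * x) → x * x = 1 := by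
  decide +kernel

/-- in `SL₂(3)` two elements of order dividing 4 generate a group in which all commutators are ±1 -/
theorem sl3_fact6 : ∀ x y : S3, x * x * (x * x) = 1 → y * y * (y * y) = 1 →
    (x * y * x⁻¹ * y⁻¹) * (x * y * x⁻¹ * y⁻¹) = 1 := by
  decide +kernel

/-- if all elements of order dividing 4 commute with `x` of order dividing 4, then `x ^ 2 = 1` -/
theorem sl3_fact7 : ∀ x : S3, x * x * (x * x) = 1 → (∀ y : S3, y * y * (y * y) = 1 → x * y = y * x) →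
    x * x = 1 := by
  decide +kernel

theorem sl3_fact8 : ∀ x y : S3, (x * y * x⁻¹ * y⁻¹) * (x * y * x⁻¹ * y⁻¹) *
    ((x * y * x⁻¹ * y⁻¹) * (x * y * x⁻¹ * y⁻¹)) = 1 := by
  decide +kernel

theorem sl3_fact9 : ∀ x y : S3, x * x = 1 → x * y = y * x := by
  decide +kernel

theorem sl3_card : Fintype.card S3 = 24 := by decide +kernel

end Cfsg.Agent.Cit.LongSL3
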