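import Cfsg.Agent.SignalizersComponents.SLQuasisimple
import Cfsg.Agent.SignalizersComponents.Components
import Cfsg.Agent.SignalizersComponents.ComponentNormalize
import Cfsg.Agent.LieClassical.FieldTransfer
import Cfsg.Agent.Cit.LongSL3

/-!
# Subnormal `SL₂`-subgroups of an involution centraliser (abstract part)

`X` is a finite group with two commuting subnormal subgroups `E₁ ≅ SL₂(F)` and `E₂` (`≅ SL₂(F)`, quasisimple
or trivial) whose product has an abelian centraliser.  A subnormal `K ≅ SL₂(F')` which shares an involution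
with `E₁` (and, in the first alternative, `E₂`) is `E₁` or `E₂`.
-/

set_option autoImplicit false

namespace Cfsg.Agent.Cit.LongAbs

open Subgroup Cfsg Cfsg.Agent.SignalizersComponents Cfsg.Agent.SignalizersComponents.Components
  Cfsg.Agent.Cit.LongSL3
open scoped commutatorElement

theorem equiv_S3 {F : Type*} [Field F] [Fintype F] (h : Fintype.card F = 3) :
    Nonempty (Matrix.SpecialLinearGroup (Fin 2) F ≃* S3) :=
  ⟨Cfsg.Agent.LieClassical.FieldTransfer.slCongr
    (ZMod.ringEquivOfPrime F Nat.prime_three h).symm⟩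

theorem quasisimple_SL2 {F : Type*} [Field F] [Fintype F] (ho : Odd (Fintype.card F))
    (h : Fintype.card F ≠ 3) : IsQuasisimple (Matrix.SpecialLinearGroup (Fin 2) F) := by
  apply SLQuasisimple.isQuasisimple_two
  rw [Nat.card_eq_fintype_card]
  have h1 : 1 < Fintype.card F := Fintype.one_lt_card
  obtain ⟨k, hk⟩ := ho
  omega

variable {X : Type*} [Group X]

theorem le_of_le_commutator {A K : Subgroup X} (hK : K.IsSubnormal) (h : A ≤ ⁅A, K⁆) : A ≤ K := by
  induction hK with
  | top => exact le_top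
  | step H L hle _ hN ih =>
    have h1 : A ≤ L := ih (h.trans (commutator_mono le_rfl hle))
    have h2 : ⁅L, H⁆ ≤ H := by
      rw [commutator_le]
      intro l hl g hg
      have h3 := hN.conj_mem ⟨g, hle hg⟩ (mem_subgroupOf.2 hg) ⟨l, hl⟩
      have h4 : l * g * l⁻¹ ∈ H := mem_subgroupOf.1 h3
      rw [commutatorElement_def]
      exact H.mul_mem h4 (H.inv_mem hg)
    exact h.trans ((commutator_mono h1 le_rfl).trans h2)

/-! ### subgroups isomorphic to `SL₂(3)` -/

/-- the elements of order dividing 4 -/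
def QQ4 (E : Subgroup X) : Subgroup X := closure {x | x ∈ E ∧ x * x * (x * x) = 1}

section S3
variable {E : Subgroup X} (e : E ≃* S3)
include e

theorem mem_QQ4 {x : X} : x ∈ QQ4 E ↔ x ∈ E ∧ x * x * (x * x) = 1 := by
  constructor
  · intro hx
    refine closure_induction (p := fun y _ => y ∈ E ∧ y * y * (y * y) = 1) ?_ ?_ ?_ ?_ hx
    · intro y hy; exact hy
    · exact ⟨E.one_mem, by simp⟩
    · rintro a b _ _ ⟨ha, ha'⟩ ⟨hb, hb'⟩
      refine ⟨E.mul_mem ha hb, ?_⟩
      have h := sl3_fact3 (e ⟨a, ha⟩) (e ⟨b, hb⟩)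
        (by rw [← map_mul, ← map_mul, ← map_one e]; congr 1; exact Subtype.ext ha')
        (by rw [← map_mul, ← map_mul, ← map_one e]; congr 1; exact Subtype.ext hb')
      rw [← map_mul, ← map_mul, ← map_mul, ← map_one e] at h
      exact congrArg Subtype.val (e.injective h)
    · rintro a _ ⟨ha, ha'⟩
      refine ⟨E.inv_mem ha, ?_⟩
      have : a⁻¹ * a⁻¹ * (a⁻¹ * a⁻¹) = (a * a * (a * a))⁻¹ := by group
      rw [this, ha', inv_one]
  · intro h; exact subset_closure h

theorem QQ4_le : QQ4 E ≤ E := fun _ hx => ((mem_QQ4 e).1 hx).1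

/-- elements `x` of order dividing 4 as product of commutators with `c` -/
theorem exists_comm {c x : X} (hc : c ∈ E) (hc3 : c * c * c = 1) (hc1 : c ≠ 1) (hx : x ∈ QQ4 E) :
    ∃ u ∈ QQ4 E, ∃ v ∈ QQ4 E, x = (u * c * u⁻¹ * c⁻¹) * (v * c * v⁻¹ * c⁻¹) := by
  obtain ⟨hxE, hx4⟩ := (mem_QQ4 e).1 hx
  obtain ⟨u, v, hu, hv, huv⟩ := sl3_fact1 (e ⟨c, hc⟩)
    (by rw [← map_mul, ← map_mul, ← map_one e]; congr 1; exact Subtype.ext hc3)
    (by
      intro h
      rw [← map_one e] at h
      exact hc1 (congrArg Subtype.val (e.injective h)))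
    (e ⟨x, hxE⟩) (by rw [← map_mul, ← map_mul, ← map_one e]; congr 1; exact Subtype.ext hx4)
  refine ⟨e.symm u, (mem_QQ4 e).2 ⟨(e.symm u).2, ?_⟩, e.symm v, (mem_QQ4 e).2 ⟨(e.symm v).2, ?_⟩, ?_⟩
  · have h := congrArg (fun y => ((e.symm y : E) : X)) hu
    simpa using h
  · have h := congrArg (fun y => ((e.symm y : E) : X)) hv
    simpa using h
  · have h := congrArg (fun y => ((e.symm y : E) : X)) huv
    simpa using h

theorem QQ4_le_commutator {c c1 c2 : X} (hc : c = c1 * c2) (hc1 : c1 ∈ E) (h3 : c1 * c1 * c1 = 1)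
    (h1 : c1 ≠ 1) (h2 : ∀ u ∈ E, u * c2 = c2 * u) : QQ4 E ≤ ⁅QQ4 E, zpowers c⁆ := by
  have key : ∀ u ∈ QQ4 E, u * c1 * u⁻¹ * c1⁻¹ ∈ ⁅QQ4 E, zpowers c⁆ := by
    intro u hu
    have h4 : u * c1 * u⁻¹ * c1⁻¹ = ⁅u, c⁆ := by
      rw [commutatorElement_def, hc]
      have h5 := h2 u⁻¹ (E.inv_mem (QQ4_le e hu))
      have h6 := h2 c1⁻¹ (E.inv_mem hc1)
      calc u * c1 * u⁻¹ * c1⁻¹ = u * c1 * u⁻¹ * (c2 * c2⁻¹) * c1⁻¹ := by group
        _ = u * c1 * (u⁻¹ * c2) * c2⁻¹ * c1⁻¹ := by group
        _ = u * c1 * (c2 * u⁻¹) * c2⁻¹ * c1⁻¹ := by rw [h5]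
        _ = u * (c1 * c2) * u⁻¹ * (c1 * c2)⁻¹ := by group
    rw [h4]
    exact commutator_mem_commutator hu (mem_zpowers c)
  intro x hx
  obtain ⟨u, hu, v, hv, rfl⟩ := exists_comm e hc1 h3 h1 hx
  exact mul_mem (key u hu) (key v hv)

theorem exists_mul_pow {c g : X} (hc : c ∈ E) (hc3 : c * c * c = 1) (hc1 : c ≠ 1) (hg : g ∈ E) :
    ∃ x ∈ QQ4 E, ∃ k : ℕ, g = x * c ^ k := by
  obtain ⟨x, k, hx, hk⟩ := sl3_fact2 (e ⟨c, hc⟩)
    (by rw [← map_mul, ← map_mul, ← map_one e]; congr 1; exact Subtype.ext hc3)
    (by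
      intro h
      rw [← map_one e] at h
      exact hc1 (congrArg Subtype.val (e.injective h)))
    (e ⟨g, hg⟩)
  refine ⟨e.symm x, (mem_QQ4 e).2 ⟨(e.symm x).2, ?_⟩, k, ?_⟩
  · have h := congrArg (fun y => ((e.symm y : E) : X)) hx
    simpa using h
  · have h := congrArg (fun y => ((e.symm y : E) : X)) hk
    simpa using h

theorem exists_three : ∃ c ∈ E, c * c * c = 1 ∧ c ≠ 1 := by
  obtain ⟨c, hc, hc1⟩ := sl3_fact5
  refine ⟨e.symm c, (e.symm c).2, ?_, ?_⟩
  · have h := congrArg (fun y => ((e.symm y : E) : X)) hc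
    simpa using h
  · intro h
    apply hc1
    have h2 : e.symm c = 1 := Subtype.ext h
    simpa using congrArg e h2

/-- `E` is generated by its elements of order 3 -/
theorem le_of_three {H : Subgroup X} (h : ∀ c ∈ E, c * c * c = 1 → c ∈ H) : E ≤ H := by
  obtain ⟨c, hc, hc3, hc1⟩ := exists_three e
  have hcH := h c hc hc3
  have key : ∀ u ∈ E, u * c * u⁻¹ * c⁻¹ ∈ H := by
    intro u hu
    refine H.mul_mem (h _ (E.mul_mem (E.mul_mem hu hc) (E.inv_mem hu)) ?_) (H.inv_mem hcH)
    calc u * c * u⁻¹ * (u * c * u⁻¹) * (u * c * u⁻¹) = u * (c * c * c) * u⁻¹ := by group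
      _ = 1 := by rw [hc3]; group
  intro g hg
  obtain ⟨x, hx, k, rfl⟩ := exists_mul_pow e hc hc3 hc1 hg
  obtain ⟨u, hu, v, hv, rfl⟩ := exists_comm e hc hc3 hc1 hx
  exact H.mul_mem (H.mul_mem (key u (QQ4_le e hu)) (key v (QQ4_le e hv))) (H.pow_mem hcH k)

theorem card_E : Nat.card E = 24 := by
  rw [Nat.card_congr e.toEquiv, Nat.card_eq_fintype_card, sl3_card]

theorem nonabelian : ∃ x ∈ QQ4 E, ∃ y ∈ QQ4 E, x * y ≠ y * x := by
  obtain ⟨x, y, hx, hy, hxy⟩ := sl3_fact4
  refine ⟨e.symm x, (mem_QQ4 e).2 ⟨(e.symm x).2, ?_⟩, e.symm y, (mem_QQ4 e).2 ⟨(e.symm y).2, ?_⟩, ?_⟩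
  · have h := congrArg (fun y => ((e.symm y : E) : X)) hx
    simpa using h
  · have h := congrArg (fun y => ((e.symm y : E) : X)) hy
    simpa using h
  · intro h
    apply hxy
    have h2 : e.symm (x * y) = e.symm (y * x) := by
      apply Subtype.ext
      simpa using h
    exact e.symm.injective h2

theorem isSolvable_E : Group.IsSolvable E := by
  have h : Group.IsSolvable S3 := by
    have d1 : ∀ x ∈ derivedSeries S3 1, x * x * (x * x) = 1 := by
      intro x hx
      have h0 : derivedSeries S3 1 ≤ QQ4 (⊤ : Subgroup S3) := by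
        rw [derivedSeries_succ, derivedSeries_zero, commutator_le]
        intro a _ b _
        refine (mem_QQ4 Subgroup.topEquiv).2 ⟨mem_top _, ?_⟩
        exact sl3_fact8 a b
      exact ((mem_QQ4 (E := (⊤ : Subgroup S3)) Subgroup.topEquiv).1 (h0 hx)).2
    have d2 : ∀ x ∈ derivedSeries S3 2, x * x = 1 := by
      intro x hx
      rw [derivedSeries_succ] at hx
      refine closure_induction (p := fun y _ => y * y = 1) ?_ ?_ ?_ ?_ hx
      · rintro _ ⟨a, ha, b, hb, rfl⟩
        exact sl3_fact6 a b (d1 a ha) (d1 b hb)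
      · simp
      · intro a b _ _ ha hb
        calc a * b * (a * b) = a * (b * a) * b := by group
          _ = a * (a * b) * b := by rw [sl3_fact9 a b ha]
          _ = (a * a) * (b * b) := by group
          _ = 1 := by rw [ha, hb, one_mul]
      · intro a _ ha
        calc a⁻¹ * a⁻¹ = (a * a)⁻¹ := by group
          _ = 1 := by rw [ha, inv_one]
    refine ⟨⟨3, ?_⟩⟩
    rw [eq_bot_iff, derivedSeries_succ, commutator_le]
    intro a ha b _
    rw [mem_bot, commutatorElement_def, sl3_fact9 a b (d2 a ha)]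
    group
  exact Group.isSolvable_of_isSolvable_injective (f := e.toMonoidHom) e.injective

end S3

theorem mem_sup_comm {E1 E2 : Subgroup X} (hc : ∀ x ∈ E1, ∀ y ∈ E2, x * y = y * x) {x : X}
    (hx : x ∈ E1 ⊔ E2) : ∃ a ∈ E1, ∃ b ∈ E2, x = a * b := by
  rw [sup_eq_closure] at hx
  refine closure_induction (p := fun y _ => ∃ a ∈ E1, ∃ b ∈ E2, y = a * b) ?_ ?_ ?_ ?_ hx
  · rintro y (hy | hy)
    · exact ⟨y, hy, 1, E2.one_mem, by simp⟩
    · exact ⟨1, E1.one_mem, y, hy, by simp⟩
  · exact ⟨1, E1.one_mem, 1, E2.one_mem, by simp⟩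
  · rintro _ _ _ _ ⟨a, ha, b, hb, rfl⟩ ⟨a', ha', b', hb', rfl⟩
    refine ⟨a * a', E1.mul_mem ha ha', b * b', E2.mul_mem hb hb', ?_⟩
    have := hc a' ha' b hb
    calc a * b * (a' * b') = a * (b * a') * b' := by group
      _ = a * (a' * b) * b' := by rw [this]
      _ = a * a' * (b * b') := by group
  · rintro _ _ ⟨a, ha, b, hb, rfl⟩
    refine ⟨a⁻¹, E1.inv_mem ha, b⁻¹, E2.inv_mem hb, ?_⟩
    have := hc a ha b hb
    rw [this]
    group

/-- a quasisimple subnormal subgroup and a subnormal `SL₂(F')` are equal or commute -/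
theorem eq_or_commute [Finite X] {K E : Subgroup X} {F' : Type*} [Field F'] [Fintype F']
    (ho : Odd (Fintype.card F')) (hK : K.IsSubnormal)
    (eK : K ≃* Matrix.SpecialLinearGroup (Fin 2) F') (hE : IsComponent E) :
    K = E ∨ ⁅K, E⁆ = ⊥ := by
  rcases component_le_or_commutator_eq_bot hE hK with h | h
  · by_cases h3 : Fintype.card F' = 3
    · exfalso
      obtain ⟨f⟩ := equiv_S3 h3
      have h1 : Group.IsSolvable K := isSolvable_E (eK.trans f)
      exact quasisimple_not_isSolvable hE.2
        (Group.isSolvable_of_isSolvable_injective (f := inclusion h) (inclusion_injective h))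
    · have hKc : IsComponent K := ⟨hK, ComponentNormalize.quasisimple_congr eK.symm
        (quasisimple_SL2 ho h3)⟩
      by_cases hne : K = E
      · exact Or.inl hne
      · exact Or.inr (component_commutator_eq_bot_of_ne hKc hE hne)
  · right; rwa [commutator_comm]

theorem not_comm_of_equiv {K : Subgroup X} {F' : Type*} [Field F'] [Fintype F']
    (ho : Odd (Fintype.card F')) (eK : K ≃* Matrix.SpecialLinearGroup (Fin 2) F') :
    ¬ ∀ x ∈ K, ∀ y ∈ K, x * y = y * x := by
  intro h
  by_cases h3 : Fintype.card F' = 3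
  · obtain ⟨f⟩ := equiv_S3 h3
    obtain ⟨x, hx, y, hy, hxy⟩ := nonabelian (eK.trans f)
    exact hxy (h x (QQ4_le (eK.trans f) hx) y (QQ4_le (eK.trans f) hy))
  · have hq : IsQuasisimple K := ComponentNormalize.quasisimple_congr eK.symm (quasisimple_SL2 ho h3)
    apply quasisimple_not_isMulCommutative hq
    exact ⟨⟨fun a b => Subtype.ext (h a a.2 b b.2)⟩⟩

/-- **Abstract form of F(L)**. -/
theorem eq_or_eq [Finite X] {K E1 E2 : Subgroup X} {F F' : Type*} [Field F] [Fintype F]
    [Field F'] [Fintype F'] (ho : Odd (Fintype.card F)) (ho' : Odd (Fintype.card F'))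
    (hK : K.IsSubnormal) (eK : K ≃* Matrix.SpecialLinearGroup (Fin 2) F')
    (h1 : E1.IsSubnormal) (e1 : E1 ≃* Matrix.SpecialLinearGroup (Fin 2) F) (h2 : E2.IsSubnormal)
    (hc : ∀ x ∈ E1, ∀ y ∈ E2, x * y = y * x) {z : X} (hzK : z ∈ K) 
    (hE2 : Nonempty (E2 ≃* Matrix.SpecialLinearGroup (Fin 2) F) ∨
      (IsQuasisimple E2 ∧ z ∉ E2 ∧ (Fintype.card F = 3 → center E2 = ⊥)) ∨ E2 = ⊥)
    (hab : ∀ x ∈ centralizer ((E1 ⊔ E2 : Subgroup X) : Set X),
      ∀ y ∈ centralizer ((E1 ⊔ E2 : Subgroup X) : Set X), x * y = y * x)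
    (h3 : Fintype.card F = 3 → ∀ x : X, x * x * x = 1 → x ∈ E1 ⊔ E2) : K = E1 ∨ K = E2 := by
  -- not both commutators are trivial
  have hnot : ¬ (⁅K, E1⁆ = ⊥ ∧ ⁅K, E2⁆ = ⊥) := by
    rintro ⟨ha, hb⟩
    rw [commutator_eq_bot_iff_le_centralizer] at ha hb
    have hle : K ≤ centralizer ((E1 ⊔ E2 : Subgroup X) : Set X) := by
      intro k hk
      rw [mem_centralizer_iff]
      intro w hw
      obtain ⟨a, ha', b, hb', rfl⟩ := mem_sup_comm hc hw
      have h4 := mem_centralizer_iff.1 (ha hk) a ha'
      have h5 := mem_centralizer_iff.1 (hb hk) b hb'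
      calc a * b * k = a * (b * k) := by group
        _ = (a * k) * b := by rw [h5]; group
        _ = k * (a * b) := by rw [h4]; group
    exact not_comm_of_equiv ho' eK (fun x hx y hy => hab x (hle hx) y (hle hy))
  by_cases hF : Fintype.card F = 3
  · -- E1 is SL₂(3)
    obtain ⟨f⟩ := equiv_S3 hF
    have hs1 : Group.IsSolvable E1 := isSolvable_E (e1.trans f)
    by_cases hF' : Fintype.card F' = 3
    · obtain ⟨f'⟩ := equiv_S3 hF'
      have eK' := eK.trans f'
      have e1' := e1.trans f
      rcases hE2 with ⟨⟨e2⟩⟩ | ⟨hq, hz, hce⟩ | hb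
      · -- both `SL₂(3)`
        have e2' := e2.trans f
        -- decomposition of the elements of order 3
        have hdec : ∀ c ∈ K, c * c * c = 1 → ∃ a ∈ E1, ∃ b ∈ E2, c = a * b ∧ a * a * a = 1 ∧
            b * b * b = 1 := by
          intro c _ hc3
          obtain ⟨a, ha, b, hb, hab'⟩ := mem_sup_comm hc (h3 hF c hc3)
          have hcab := hc a ha b hb
          have h6 : a * a * a * (b * b * b) = 1 := by
            rw [← hc3, hab']
            have e1 : a * b * (a * b) * (a * b) = a * (b * a) * (b * a) * b := by group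
            rw [e1, ← hcab]
            have e2 : a * (a * b) * (a * b) * b = a * a * (b * a) * b * b := by group
            rw [e2, ← hcab]
            group
          -- t := a³ is in the centre
          have ht : a * a * a = (b * b * b)⁻¹ := by rw [mul_eq_one_iff_eq_inv] at h6; exact h6
          have htE2 : a * a * a ∈ E2 := by
            rw [ht]; exact E2.inv_mem (E2.mul_mem (E2.mul_mem hb hb) hb)
          have htE1 : a * a * a ∈ E1 := E1.mul_mem (E1.mul_mem ha ha) ha
          have ht2 : (a * a * a) * (a * a * a) = 1 := by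
            have h7 := sl3_center (e1' ⟨_, htE1⟩) (by
              intro y
              have h8 := hc (e1'.symm y) (e1'.symm y).2 _ htE2
              have h9 : (⟨a * a * a, htE1⟩ : E1) * e1'.symm y = e1'.symm y * ⟨a * a * a, htE1⟩ :=
                Subtype.ext h8.symm
              simpa using congrArg e1' h9)
            rw [← map_mul, ← map_one e1'] at h7
            exact congrArg Subtype.val (e1'.injective h7)
          have htc : ∀ w ∈ E1 ⊔ E2, (a * a * a) * w = w * (a * a * a) := by
            intro w hw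
            obtain ⟨u, hu, v, hv, rfl⟩ := mem_sup_comm hc hw
            have h8 := hc u hu _ htE2
            have h9 := hc _ htE1 v hv
            calc a * a * a * (u * v) = (a * a * a * u) * v := by group
              _ = u * (a * a * a * v) := by rw [← h8]; group
              _ = u * v * (a * a * a) := by rw [h9]; group
          set t := a * a * a with htdef
          have hta : t * a = a * t := by rw [htdef]; group
          refine ⟨a * t, E1.mul_mem ha htE1, t * b, E2.mul_mem htE2 hb, ?_, ?_, ?_⟩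
          · rw [hab']
            calc a * b = a * (t * t) * b := by rw [ht2]; group
              _ = a * t * (t * b) := by group
          · calc a * t * (a * t) * (a * t) = a * (t * a) * (t * a) * t := by group
              _ = a * (a * t) * (a * t) * t := by rw [hta]
              _ = a * a * (t * a) * t * t := by group
              _ = a * a * (a * t) * t * t := by rw [hta]
              _ = (a * a * a) * (t * (t * t)) := by group
              _ = t * (t * (t * t)) := by rw [← htdef]
              _ = 1 := by rw [ht2, mul_one, ht2]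
          · have htb : t * b = b * t := htc b (le_sup_right (a := E1) hb)
            have hb3 : b * b * b = t := by
              have : t⁻¹ = t := inv_eq_of_mul_eq_one_left ht2
              rw [← this, ht, inv_inv]
            calc t * b * (t * b) * (t * b) = t * (b * t) * (b * t) * b := by group
              _ = t * t * b * (b * t) * b := by rw [← htb]; group
              _ = t * t * b * t * b * b := by rw [← htb]; group
              _ = t * t * t * (b * b * b) := by
                  rw [mul_assoc (t * t) b t, ← htb]; group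
              _ = (t * t) * (t * t) := by rw [hb3]; group
              _ = 1 := by rw [ht2, mul_one]
        have hQ1 : ∀ a ∈ E1, ∀ b ∈ E2, a * b ∈ K → a * a * a = 1 → a ≠ 1 → QQ4 E1 ≤ K := by
          intro a ha b hb habK ha3 ha1
          apply le_of_le_commutator hK
          refine (QQ4_le_commutator e1' (c := a * b) rfl ha ha3 ha1
            (fun u hu => hc u hu b hb)).trans (commutator_mono le_rfl ?_)
          rw [zpowers_le]; exact habK
        have hQ2 : ∀ a ∈ E1, ∀ b ∈ E2, a * b ∈ K → b * b * b = 1 → b ≠ 1 → QQ4 E2 ≤ K := by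
          intro a ha b hb habK hb3 hb1
          apply le_of_le_commutator hK
          refine (QQ4_le_commutator e2' (c := a * b) (hc a ha b hb) hb hb3 hb1
            (fun u hu => (hc a ha u hu).symm)).trans (commutator_mono le_rfl ?_)
          rw [zpowers_le]; exact habK
        have hno : ¬ (QQ4 E1 ≤ K ∧ QQ4 E2 ≤ K) := by
          rintro ⟨hA, hB⟩
          have q1 : QQ4 E1 ≤ QQ4 K := fun x hx => (mem_QQ4 eK').2 ⟨hA hx, ((mem_QQ4 e1').1 hx).2⟩
          have q2 : QQ4 E2 ≤ QQ4 K := fun x hx => (mem_QQ4 eK').2 ⟨hB hx, ((mem_QQ4 e2').1 hx).2⟩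
          -- cardinalities: QQ4 of each is carried by the isomorphism to the same set
          have card_eq : ∀ {E E' : Subgroup X} (e : E ≃* S3) (e' : E' ≃* S3),
              Nat.card (QQ4 E) = Nat.card (QQ4 E') := by
            intro E E' e e'
            refine Nat.card_congr ⟨fun x => ⟨e'.symm (e ⟨x, QQ4_le e x.2⟩), ?_⟩,
              fun x => ⟨e.symm (e' ⟨x, QQ4_le e' x.2⟩), ?_⟩, ?_, ?_⟩
            · refine (mem_QQ4 e').2 ⟨Subtype.property _, ?_⟩
              have h7 := ((mem_QQ4 e).1 x.2).2
              have h8 : (⟨(x : X), QQ4_le e x.2⟩ : E) * ⟨(x : X), QQ4_le e x.2⟩ *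
                (⟨(x : X), QQ4_le e x.2⟩ * ⟨(x : X), QQ4_le e x.2⟩) = 1 := Subtype.ext h7
              have h9 : e'.symm (e ⟨x, QQ4_le e x.2⟩) * e'.symm (e ⟨x, QQ4_le e x.2⟩) *
                  (e'.symm (e ⟨x, QQ4_le e x.2⟩) * e'.symm (e ⟨x, QQ4_le e x.2⟩)) = 1 := by
                rw [← map_mul, ← map_mul, ← map_mul, ← map_mul, h8, map_one, map_one]
              exact congrArg Subtype.val h9
            · refine (mem_QQ4 e).2 ⟨Subtype.property _, ?_⟩
              have h7 := ((mem_QQ4 e').1 x.2).2
              have h8 : (⟨(x : X), QQ4_le e' x.2⟩ : E') * ⟨(x : X), QQ4_le e' x.2⟩ *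
                (⟨(x : X), QQ4_le e' x.2⟩ * ⟨(x : X), QQ4_le e' x.2⟩) = 1 := Subtype.ext h7
              have h9 : e.symm (e' ⟨x, QQ4_le e' x.2⟩) * e.symm (e' ⟨x, QQ4_le e' x.2⟩) *
                  (e.symm (e' ⟨x, QQ4_le e' x.2⟩) * e.symm (e' ⟨x, QQ4_le e' x.2⟩)) = 1 := by
                rw [← map_mul, ← map_mul, ← map_mul, ← map_mul, h8, map_one, map_one]
              exact congrArg Subtype.val h9
            · intro x; simp
            · intro x; simp
          have r1 : QQ4 E1 = QQ4 K :=
            Subgroup.eq_of_le_of_card_ge q1 (card_eq eK' e1').le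
          have r2 : QQ4 E2 = QQ4 K :=
            Subgroup.eq_of_le_of_card_ge q2 (card_eq eK' e2').le
          obtain ⟨x, hx, y, hy, hxy⟩ := nonabelian e1'
          apply hxy
          have hy2 : y ∈ QQ4 E2 := by rw [r2, ← r1]; exact hy
          exact hc x (QQ4_le e1' hx) y (QQ4_le e2' hy2)
        obtain ⟨c, hcK, hc3, hc1⟩ := exists_three eK'
        obtain ⟨a, ha, b, hb, rfl, ha3, hb3⟩ := hdec c hcK hc3
        by_cases ha1 : a = 1
        · right
          have hb1 : b ≠ 1 := by rintro rfl; exact hc1 (by rw [ha1, mul_one])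
          have hQ := hQ2 a ha b hb hcK hb3 hb1
          have hbK : b ∈ K := by rw [ha1, one_mul] at hcK; exact hcK
          have hle : E2 ≤ K := by
            intro g hg
            obtain ⟨x, hx, k, rfl⟩ := exists_mul_pow e2' hb hb3 hb1 hg
            exact K.mul_mem (hQ hx) (K.pow_mem hbK k)
          exact (Subgroup.eq_of_le_of_card_ge hle (by rw [card_E eK', card_E e2'])).symm
        · by_cases hb1 : b = 1
          · left
            have hQ := hQ1 a ha b hb hcK ha3 ha1
            have haK : a ∈ K := by rw [hb1, mul_one] at hcK; exact hcK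
            have hle : E1 ≤ K := by
              intro g hg
              obtain ⟨x, hx, k, rfl⟩ := exists_mul_pow e1' ha ha3 ha1 hg
              exact K.mul_mem (hQ hx) (K.pow_mem haK k)
            exact (Subgroup.eq_of_le_of_card_ge hle (by rw [card_E eK', card_E e1'])).symm
          · exact absurd ⟨hQ1 a ha b hb hcK ha3 ha1, hQ2 a ha b hb hcK hb3 hb1⟩ hno
      · -- `E2` quasisimple
        rcases eq_or_commute ho' hK eK ⟨h2, hq⟩ with h | h
        · exact Or.inr h
        · left
          rw [commutator_eq_bot_iff_le_centralizer] at h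
          have hle : K ≤ E1 := by
            refine le_of_three eK' fun c hcK hc3 => ?_
            obtain ⟨a, ha, b, hb, rfl⟩ := mem_sup_comm hc (h3 hF c hc3)
            have hb0 : (⟨b, hb⟩ : E2) ∈ center E2 := by
              rw [mem_center_iff]
              intro w
              apply Subtype.ext
              have h8 := mem_centralizer_iff.1 (h hcK) w w.2
              have h9 := hc a ha w w.2
              have h10 : a * (w * b) = a * (b * w) := by
                calc a * (w * b) = (a * w) * b := by group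
                  _ = w * (a * b) := by rw [h9]; group
                  _ = a * b * w := h8
                  _ = a * (b * w) := by group
              exact mul_left_cancel h10
            rw [hce hF, mem_bot] at hb0
            have hb1 : b = 1 := congrArg Subtype.val hb0
            rw [hb1, mul_one]; exact ha
          exact Subgroup.eq_of_le_of_card_ge hle (by rw [card_E eK', card_E e1'])
      · left
        subst hb
        have hle : K ≤ E1 := by
          refine le_of_three eK' fun c hcK hc3 => ?_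
          have := h3 hF c hc3
          rwa [sup_bot_eq] at this
        exact Subgroup.eq_of_le_of_card_ge hle (by rw [card_E eK', card_E e1'])
    · -- K quasisimple
      exfalso
      have hKc : IsComponent K := ⟨hK, ComponentNormalize.quasisimple_congr eK.symm
        (quasisimple_SL2 ho' hF')⟩
      have hsolv : ∀ E : Subgroup X, E.IsSubnormal → Group.IsSolvable E → ⁅K, E⁆ = ⊥ := by
        intro E hE hsE
        rcases component_le_or_commutator_eq_bot hKc hE with h | h
        · exact absurd (Group.isSolvable_of_isSolvable_injective (f := inclusion h)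
            (inclusion_injective h)) (quasisimple_not_isSolvable hKc.2)
        · exact h
      refine hnot ⟨hsolv E1 h1 hs1, ?_⟩
      rcases hE2 with ⟨⟨e2⟩⟩ | ⟨hq, hz, -⟩ | hb
      · exact hsolv E2 h2 (isSolvable_E (e2.trans f))
      · rcases eq_or_commute ho' hK eK ⟨h2, hq⟩ with h | h
        · exact absurd (h ▸ hzK) hz
        · exact h
      · rw [hb]; exact commutator_bot_right K
  · -- E1 quasisimple
    have hq1 : IsQuasisimple E1 := ComponentNormalize.quasisimple_congr e1.symm
      (quasisimple_SL2 ho hF)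
    rcases eq_or_commute ho' hK eK ⟨h1, hq1⟩ with h | h
    · exact Or.inl h
    · rcases hE2 with ⟨⟨e2⟩⟩ | ⟨hq, hz, -⟩ | hb
      · have hq2 : IsQuasisimple E2 := ComponentNormalize.quasisimple_congr e2.symm
          (quasisimple_SL2 ho hF)
        rcases eq_or_commute ho' hK eK ⟨h2, hq2⟩ with h' | h'
        · exact Or.inr h'
        · exact absurd ⟨h, h'⟩ hnot
      · rcases eq_or_commute ho' hK eK ⟨h2, hq⟩ with h' | h'
        · exact Or.inr h'
        · exact absurd ⟨h, h'⟩ hnot
      · exact absurd ⟨h, by rw [hb]; exact commutator_bot_right K⟩ hnot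

end Cfsg.Agent.Cit.LongAbs
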