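import Cfsg.Agent.Cit.TBasic
import Cfsg.Agent.Cit.UniOm
import Cfsg.Agent.Cit.TyTrans

/-!
# `OmIn Om H` and the reduction `rd`

* `OmIn_eq` : `OmIn Om H = SubCent.restrX Om H`, so HYP and the type pass to it (`hyp_OmIn`, `isType_OmIn`).
* `hyp_of_rd` : HYP passes to `r '' Om` for every equivariant choice of subgroups `r K ≤ K` with `K = (r K) O(K)`.
* `pres_perfect`, `exists_mul_pres` (`K = pres K * O(K)` if `K / O(K)` is perfect), `ty_rd`, `hyp_rd`, `zz_rd`.
* `TLt.tt` : THEOREM T for smaller groups gives `TT (rd '' OmIn Om H)` for `H < G`.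
-/

set_option autoImplicit false
set_option linter.dupNamespace false
set_option linter.style.haveILetI false

namespace Cfsg.Agent.Cit.RdOm

open Subgroup Cfsg Cfsg.Agent.Cit

universe u

section

variable {G : Type*} [Group G] {Om : Set (Subgroup G)}

theorem OmIn_eq (H : Subgroup G) : OmIn Om H = SubCent.restrX Om H := by
  ext J
  constructor
  · rintro ⟨K, hK, rfl, hle⟩
    exact ⟨K, SubCent.mem_cov_iff.2 ⟨hK, hle⟩, rfl⟩
  · rintro ⟨K, hK, rfl⟩
    exact ⟨K, hK.1, rfl, (SubCent.mem_cov_iff.1 hK).2⟩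

theorem mem_OmIn {H K : Subgroup G} (hK : K ∈ SubCent.cov Om H) : K.subgroupOf H ∈ OmIn Om H := by
  rw [OmIn_eq]; exact ⟨K, hK, rfl⟩

theorem hyp_OmIn [Finite G] (h : Hyp Om) (H : Subgroup G) : Hyp (OmIn Om H) := by
  rw [OmIn_eq]; exact SubCent.hyp_restrX h H

theorem isType_OmIn [Finite G] (h : ∀ K ∈ Om, IsType K) (H : Subgroup G) : ∀ K ∈ OmIn Om H, IsType K := by
  rw [OmIn_eq]; exact TyTrans.isType_restrX h H

/-! ### Equivariant choices of covering subgroups -/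

/-- an equivariant choice of subgroups `r K ≤ K` covering `K / O(K)` -/
structure IsRd (Om : Set (Subgroup G)) (r : Subgroup G → Subgroup G) : Prop where
  le : ∀ K ∈ Om, r K ≤ K
  cov : ∀ K ∈ Om, ∀ k ∈ K, ∃ o ∈ OO K, k * o ∈ r K
  cj : ∀ K ∈ Om, ∀ g, r (Cit.cj g K) = Cit.cj g (r K)

namespace IsRd

variable {r : Subgroup G → Subgroup G}

theorem mem_cov (h : IsRd Om r) {K : Subgroup G} (hK : K ∈ Om) : K ∈ SubCent.cov Om (r K) := ⟨hK, h.cov K hK⟩

theorem inf_eq (h : IsRd Om r) {K : Subgroup G} (hK : K ∈ Om) : K ⊓ r K = r K := inf_eq_right.2 (h.le K hK)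

theorem normalizer_le (h : IsRd Om r) {K : Subgroup G} (hK : K ∈ Om) :
    normalizer (K : Set G) ≤ normalizer (r K : Set G) := by
  intro g hg
  rw [mem_normalizer_iff_cj] at hg ⊢
  rw [← h.cj K hK, hg]

variable [Finite G]

theorem syl (h : IsRd Om r) {K Q : Subgroup G} (hK : K ∈ Om) (hQ : Syl Q (r K)) : Syl Q K := by
  have h1 := SubCent.syl_of_syl_inf (h.mem_cov hK) (Q := Q)
  rw [h.inf_eq hK] at h1
  exact h1 hQ

theorem zz_eq (h : IsRd Om r) (hOm : Hyp Om) {K : Subgroup G} (hK : K ∈ Om) : zz (r K) = zz K := by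
  have h1 := SubCent.zz_inf hOm (h.mem_cov hK)
  rwa [h.inf_eq hK] at h1

theorem zz_mem (h : IsRd Om r) (hOm : Hyp Om) {K : Subgroup G} (hK : K ∈ Om) : zz K ∈ r K :=
  SubCent.zz_mem_of_cov hOm (h.mem_cov hK)

theorem OO_eq (h : IsRd Om r) {K : Subgroup G} (hK : K ∈ Om) : OO (r K) = OO K ⊓ r K := by
  have h1 := SubCent.OO_inf (h.mem_cov hK)
  rwa [h.inf_eq hK] at h1

/-- a Sylow 2-subgroup of `K` contained in `r K` -/
theorem syl' (h : IsRd Om r) {K Q : Subgroup G} (hK : K ∈ Om) (hQ : Syl Q K) (hQr : Q ≤ r K) :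
    Syl Q (r K) := by
  have h1 := SubCent.syl_inf_of_syl hQ hQr
  rwa [h.inf_eq hK] at h1

theorem injOn (h : IsRd Om r) (hOm : Hyp Om) {K L : Subgroup G} (hK : K ∈ Om) (hL : L ∈ Om)
    (he : r K = r L) : K = L := by
  refine SubCent.eq_of_inf_le hOm (h.mem_cov hK) hL ?_
  rw [h.inf_eq hK, he]
  exact h.le L hL

/-- **HYP passes to `r '' Om`** -/
theorem hyp (h : IsRd Om r) (hOm : Hyp Om) : Hyp (r '' Om) := by
  refine ⟨?_, ?_, ?_, ?_, ?_, ?_⟩
  · rintro _ ⟨K, hK, rfl⟩ g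
    exact ⟨Cit.cj g K, hOm.conj K hK g, h.cj K hK g⟩
  · rintro _ ⟨K, hK, rfl⟩
    obtain ⟨Q, hQ⟩ := Hyp.exists_syl (r K)
    obtain ⟨n, ⟨e⟩⟩ := hOm.isGQ hK (h.syl hK hQ)
    obtain ⟨S, hS⟩ := hQ.exists_sylow
    exact ⟨S, n, ⟨((MulEquiv.subgroupCongr hS).trans (subgroupOfEquivOfLe hQ.1)).trans e⟩⟩
  · rintro _ ⟨K, hK, rfl⟩ t ht ht2
    rw [h.zz_eq hOm hK]
    exact hOm.uniq K hK t (h.le K hK ht) ht2
  · rintro _ ⟨K, hK, rfl⟩
    rw [h.zz_eq hOm hK]
    refine IsSubnormal.trans (H := (r K).subgroupOf (centralizer {zz K}))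
      (K := K.subgroupOf (centralizer {zz K})) (fun x hx => h.le K hK hx) ?_ (hOm.sub K hK)
    refine Normal.isSubnormal ?_
    have hle : (r K).subgroupOf (centralizer {zz K}) ≤ K.subgroupOf (centralizer {zz K}) :=
      fun x hx => h.le K hK hx
    refine (normal_subgroupOf_iff_le_normalizer hle).2 ?_
    intro x hx
    have hx' : (x : G) ∈ K := hx
    have h1 := h.normalizer_le hK (le_normalizer hx')
    rw [mem_normalizer_iff] at h1 ⊢
    intro y
    exact h1 y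
  · rintro _ ⟨K, hK, rfl⟩ _ ⟨L, hL, rfl⟩ hKL
    rw [h.zz_eq hOm hK, h.zz_eq hOm hL] at hKL
    rcases hOm.h2 K hK L hL hKL with h1 | h1
    · left; rw [h1]
    · right
      rw [h.OO_eq hK, h.OO_eq hL]
      have h2 : ⁅r K, r L⁆ ≤ OO K ⊓ OO L := (commutator_mono (h.le K hK) (h.le L hL)).trans h1
      -- `L` normalises `K`, so it normalises `r K`
      have h3 : L ≤ normalizer (K : Set G) := SubCent.le_normalizer_of_comm
        (h1.trans (inf_le_left.trans (OO_le K)))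
      have h3' : K ≤ normalizer (L : Set G) := SubCent.le_normalizer_of_comm
        (by rw [commutator_comm]; exact h1.trans (inf_le_right.trans (OO_le L)))
      have h4 : ⁅r K, r L⁆ ≤ r K := by
        rw [commutator_comm]
        exact (commutator_mono ((h.le L hL).trans (h3.trans (h.normalizer_le hK))) le_rfl).trans
          (by rw [Subgroup.commutator_le]
              intro x hx y hy
              exact mul_mem ((mem_normalizer_iff.1 hx y).1 hy) (inv_mem hy))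
      have h4' : ⁅r K, r L⁆ ≤ r L :=
        (commutator_mono ((h.le K hK).trans (h3'.trans (h.normalizer_le hL))) le_rfl).trans
          (by rw [Subgroup.commutator_le]
              intro x hx y hy
              exact mul_mem ((mem_normalizer_iff.1 hx y).1 hy) (inv_mem hy))
      exact le_inf (le_inf (h2.trans inf_le_left) h4) (le_inf (h2.trans inf_le_right) h4')
  · rintro _ ⟨K, hK, rfl⟩ _ ⟨L, hL, rfl⟩ y hy hy2 hy4 hyz
    rw [h.zz_eq hOm hL] at hyz
    exact h.normalizer_le hL (hOm.h3 K hK L hL y (h.le K hK hy) hy2 hy4 hyz)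

/-- `(r K) / O(r K) ≃ K / O(K)` -/
noncomputable def quot (h : IsRd Om r) {K : Subgroup G} (hK : K ∈ Om) :
    (↥(r K) ⧸ oddCore ↥(r K)) ≃* (↥K ⧸ oddCore ↥K) := by
  have e1 : ↥(K.subgroupOf (r K)) ≃* ↥(r K) := by
    have h1 : K.subgroupOf (r K) = ⊤ := subgroupOf_eq_top.2 (h.le K hK)
    exact (MulEquiv.subgroupCongr h1).trans topEquiv
  exact (TyTrans.quotOfEquiv e1).symm.trans (SubCent.quotEquiv (h.mem_cov hK))

end IsRd

/-! ### `pres`, `rd` -/

theorem pres_le (K : Subgroup G) : pres K ≤ K := sSup_le fun _ hP => hP.1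

theorem pres_perfect (K : Subgroup G) : ⁅pres K, pres K⁆ = pres K := by
  apply le_antisymm
  · rw [Subgroup.commutator_le]
    intro x hx y hy
    exact mul_mem (mul_mem (mul_mem hx hy) (inv_mem hx)) (inv_mem hy)
  · refine sSup_le fun P hP => ?_
    have h1 : P ≤ pres K := le_sSup hP
    calc P = ⁅P, P⁆ := hP.2.symm
      _ ≤ _ := commutator_mono h1 h1

theorem pres_cj (g : G) (K : Subgroup G) : pres (cj g K) = cj g (pres K) := by
  have key : ∀ (g : G) (K : Subgroup G), cj g (pres K) ≤ pres (cj g K) := by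
    intro g K
    rw [Cit.cj_le_iff]
    refine sSup_le fun P hP => ?_
    rw [← Cit.cj_le_iff]
    refine le_sSup ⟨cj_mono g hP.1, ?_⟩
    rw [← cj_commutator, hP.2]
  refine le_antisymm ?_ (key g K)
  have h1 := key g⁻¹ (cj g K)
  rw [cj_inv_cj] at h1
  have h2 := cj_mono g h1
  rwa [cj_cj_inv] at h2

/-- a perfect subgroup covering a perfect quotient -/
theorem exists_perfect {X : Type*} [Group X] [Finite X] {N : Subgroup X} [N.Normal]
    (h : Group.IsPerfect (X ⧸ N)) : ∃ P : Subgroup X, ⁅P, P⁆ = P ∧ P ⊔ N = ⊤ := by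
  obtain ⟨P, hP⟩ := Set.Finite.exists_minimal (s := {P : Subgroup X | P ⊔ N = ⊤}) (Set.toFinite _)
    ⟨⊤, by simp⟩
  refine ⟨P, ?_, hP.prop⟩
  have h1 : ⁅P, P⁆ ≤ P := by
    rw [Subgroup.commutator_le]
    intro x hx y hy
    exact mul_mem (mul_mem (mul_mem hx hy) (inv_mem hx)) (inv_mem hy)
  refine le_antisymm h1 (hP.le_of_le ?_ h1)
  have h2 : P.map (QuotientGroup.mk' N) = ⊤ := by
    have h3 : (P ⊔ N).map (QuotientGroup.mk' N) = ⊤ := by
      have : P ⊔ N = ⊤ := hP.prop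
      rw [this]
      exact map_top_of_surjective _ (QuotientGroup.mk'_surjective N)
    rwa [Subgroup.map_sup, (map_eq_bot_iff N).2 (by rw [QuotientGroup.ker_mk']), sup_bot_eq] at h3
  have h3 : (⁅P, P⁆).map (QuotientGroup.mk' N) = ⊤ := by
    rw [map_commutator, h2]
    exact h.commutator_eq_top
  change ⁅P, P⁆ ⊔ N = ⊤
  have h4 : ((⁅P, P⁆).map (QuotientGroup.mk' N)).comap (QuotientGroup.mk' N) = ⊤ := by
    rw [h3, comap_top]
  rwa [comap_map_eq, QuotientGroup.ker_mk'] at h4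

/-- `K = pres K * O(K)` when `K / O(K)` is perfect -/
theorem exists_mul_pres [Finite G] {K : Subgroup G} (h : Group.IsPerfect (↥K ⧸ oddCore ↥K)) {k : G}
    (hk : k ∈ K) : ∃ o ∈ OO K, k * o ∈ pres K := by
  haveI : (oddCore ↥K).Normal := Lib.Cores.pPrimeCore_normal 2
  obtain ⟨P, hP, hPN⟩ := exists_perfect h
  have h1 : (⟨k, hk⟩ : K) ∈ P ⊔ oddCore ↥K := by rw [hPN]; trivial
  obtain ⟨x, hx, o, ho, hxo⟩ := mem_sup_of_normal_right.1 h1
  refine ⟨((o⁻¹ : K) : G), ⟨o⁻¹, inv_mem ho, rfl⟩, ?_⟩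
  have h2 : k * ((o⁻¹ : K) : G) = x := by
    have h3 := congrArg Subtype.val hxo
    change (x : G) * o = k at h3
    rw [← h3, coe_inv]
    group
  rw [h2]
  have h3 : P.map K.subtype ≤ pres K :=
    le_sSup ⟨map_subtype_le P, by rw [← map_commutator, hP]⟩
  exact h3 ⟨x, hx, rfl⟩

theorem isPerfect_of_isType {K : Subgroup G} (h : IsType K) (hT : ¬ SolvTwo.IsT K) :
    Group.IsPerfect (↥K ⧸ oddCore ↥K) := by
  rcases Ty.IsTy.cases h with h1 | h1
  · exact h1.quasisimple.1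
  · exact absurd h1 hT

theorem isT_cj {K : Subgroup G} (g : G) : SolvTwo.IsT (cj g K) ↔ SolvTwo.IsT K :=
  (TyTrans.isT_iff_of_quot (TyTrans.quotCj g K)).symm

theorem isRd_rd [Finite G] (h : ∀ K ∈ Om, IsType K) : IsRd Om rd where
  le K _ := by
    unfold rd
    split_ifs
    · exact le_rfl
    · exact pres_le K
  cov K hK k hk := by
    unfold rd
    split_ifs with hT
    · exact ⟨1, one_mem _, by rwa [mul_one]⟩
    · exact exists_mul_pres (isPerfect_of_isType (h K hK) hT) hk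
  cj K _ g := by
    unfold rd
    by_cases hT : SolvTwo.IsT K
    · rw [if_pos hT, if_pos ((isT_cj g).2 hT)]
    · rw [if_neg hT, if_neg (fun h1 => hT ((isT_cj g).1 h1)), pres_cj]

theorem hyp_rd [Finite G] (hOm : Hyp Om) (h : ∀ K ∈ Om, IsType K) : Hyp (rd '' Om) := (isRd_rd h).hyp hOm

theorem ty_rd [Finite G] (h : ∀ K ∈ Om, IsType K) : ∀ K ∈ rd '' Om, Ty K := by
  rintro _ ⟨K, hK, rfl⟩
  have e := (isRd_rd h).quot hK
  by_cases hT : SolvTwo.IsT K
  · exact Or.inl (TyTrans.isT_of_quot e.symm hT)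
  · refine Or.inr ⟨TyTrans.isType_of_quot e.symm (h K hK), ?_⟩
    unfold rd
    rw [if_neg hT, pres_perfect]

theorem uni_rd [Finite G] (h : ∀ K ∈ Om, IsType K) (hU : Uni Om) : Uni (rd '' Om) := by
  refine hU.of_rel ?_
  rintro _ ⟨K, hK, rfl⟩
  exact ⟨K, hK, ⟨((isRd_rd h).quot hK).symm⟩⟩

theorem uni_OmIn [Finite G] (hU : Uni Om) (H : Subgroup G) : Uni (OmIn Om H) := by
  rw [OmIn_eq]; exact hU.restrX H

theorem zz_rd [Finite G] (hOm : Hyp Om) (h : ∀ K ∈ Om, IsType K) {K : Subgroup G} (hK : K ∈ Om) :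
    zz (rd K) = zz K := (isRd_rd h).zz_eq hOm hK

/-- a reduced member is its own reduction -/
theorem rd_eq_self {K : Subgroup G} (h : Ty K) : rd K = K := by
  unfold rd
  split_ifs with hT
  · rfl
  · rcases h with h1 | h1
    · exact absurd h1 hT
    · exact le_antisymm (pres_le K) (le_sSup ⟨le_rfl, h1.2⟩)

theorem rd_image_eq (h : ∀ K ∈ Om, Ty K) : rd '' Om = Om := by
  ext K
  constructor
  · rintro ⟨J, hJ, rfl⟩
    rwa [rd_eq_self (h J hJ)]
  · intro hK
    exact ⟨K, hK, rd_eq_self (h K hK)⟩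

end

/-! ### THEOREM T for smaller groups -/

/-- `T` for a proper subgroup -/
theorem tt_of_lt {G : Type u} [Group G] [Finite G] {Om : Set (Subgroup G)} (hOm : Hyp Om)
    (h : ∀ K ∈ Om, IsType K) (hU : Uni Om) (ind : TLt.{u} (Nat.card G)) {H : Subgroup G} (hH : H ≠ ⊤) :
    TT (rd '' OmIn Om H) := by
  refine ind H ?_ _ (hyp_rd (hyp_OmIn hOm H) (isType_OmIn h H)) (ty_rd (isType_OmIn h H))
    (uni_rd (isType_OmIn h H) (uni_OmIn hU H))
  have h1 : Nat.card H ∣ Nat.card G := card_subgroup_dvd_card H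
  refine lt_of_le_of_ne (Nat.le_of_dvd Nat.card_pos h1) fun h2 => hH ?_
  exact (card_eq_iff_eq_top H).1 h2

end Cfsg.Agent.Cit.RdOm
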