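import Cfsg.Agent.Cit.TComp
import Cfsg.Agent.Cit.RdOm
import Cfsg.Agent.Cit.CoresComm
import Cfsg.Agent.Cit.LongAbs

/-!
# THEOREM T: the reduction

`tstmt` : THEOREM T follows from the leaves: `CoreLeaf` (simple core case), `Q1Leaf` (several classes in a simple
group), `Q2Leaf` (`q = 3` : the members lie in `F*(G)`), `EvLeaf` (quasisimple groups have even order).
-/

set_option autoImplicit false
set_option linter.unusedSectionVars false
set_option linter.style.haveILetI false

namespace Cfsg.Agent.Cit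

open Subgroup Cfsg Cfsg.Agent.Cit.OneCompE Cfsg.Agent.Cit.OneComp Cfsg.Agent.Cit.Comp
open Cfsg.Agent.SignalizersComponents.Components

universe u

theorem oddCore_eq_bot_of_OO {G : Type*} [Group G] {K : Subgroup G} (hO : OO K = ⊥) : oddCore K = ⊥ := by
  rw [OO, Subgroup.map_eq_bot_iff, ker_subtype, le_bot_iff] at hO
  exact hO

/-- a member of type `SL₂(3)` with trivial core is solvable -/
theorem isSolvable_of_isT {G : Type*} [Group G] {K : Subgroup G} (hT : SolvTwo.IsT K) (hO : OO K = ⊥) :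
    Group.IsSolvable K := by
  obtain ⟨e⟩ := hT
  let e1 : K ≃* SolvTwo.X :=
    (QuotientGroup.quotientBot.symm.trans
      (QuotientGroup.quotientMulEquivOfEq (oddCore_eq_bot_of_OO hO).symm)).trans e
  exact LongAbs.isSolvable_E e1

section

variable {G : Type u} [Group G] [Finite G] {Om : Set (Subgroup G)}

/-- members whose involution centralises all components -/
def BB (Om : Set (Subgroup G)) : Set (Subgroup G) :=
  {K | K ∈ Om ∧ ∀ L : Subgroup G, IsComponent L → L ≤ centralizer {zz K}}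

variable (h : Hyp Om) (hT : ∀ K ∈ Om, Ty K) (hO : pPrimeCore 2 G = ⊥) (hev : EvQ G)

include h hT hO hev

theorem BB_cases {K : Subgroup G} (hK : K ∈ BB Om) :
    (IsQuasisimple K ∧ IsComponent K) ∨ (SolvTwo.IsT K ∧ Group.IsSolvable K ∧
      ∀ L : Subgroup G, IsComponent L → K ≤ centralizer (L : Set G)) := by
  have h1 := OneCompD.OO_eq_bot h hO hev hK.1 hK.2
  by_cases h2 : SolvTwo.IsT K
  · have h3 := isSolvable_of_isT h2 h1
    exact Or.inr ⟨h2, h3, fun L hL => OneCompD.le_centralizer_component h hO hev hK.1 hK.2 h3 hL⟩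
  · have h3 := CoresComm.quasisimple_of_not_isT (hT K hK.1) h2 h1
    exact Or.inl ⟨h3, OneCompD.isComponent_of_quasisimple h hO hev hK.1 hK.2 h3⟩

/-- a component with `OmL ≠ ∅` commutes with the members of `BB` -/
theorem BB_comm_component {K L : Subgroup G} (hK : K ∈ BB Om) (hL : IsComponent L)
    (hne : L ≠ K) : K ≤ centralizer (L : Set G) := by
  rcases BB_cases h hT hO hev hK with ⟨h1, h2⟩ | ⟨h1, h2, h3⟩
  · exact component_le_centralizer_of_ne h2 hL hne.symm
  · exact h3 L hL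

omit hev hT in
/-- the members of type `SL₂(3)` centralising all components commute -/
theorem isT_comm {K J : Subgroup G} (hK : K ∈ Om) (hJ : J ∈ Om) (hTK : SolvTwo.IsT K) (hTJ : SolvTwo.IsT J)
    (hcK : ∀ L : Subgroup G, IsComponent L → K ≤ centralizer (L : Set G))
    (hcJ : ∀ L : Subgroup G, IsComponent L → J ≤ centralizer (L : Set G)) (hne : K ≠ J) :
    K ≤ centralizer (J : Set G) := by
  haveI : Fact (Nat.Prime 2) := ⟨Nat.prime_two⟩
  set C := centralizer (layer G : Set G) with hC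
  have hle : ∀ M : Subgroup G, (∀ L : Subgroup G, IsComponent L → M ≤ centralizer (L : Set G)) → M ≤ C := by
    intro M hM
    rw [hC, le_centralizer_iff]
    exact layer_le_iff.2 fun L hL => le_centralizer_iff.1 (hM L hL)
  have hKC := hle K hcK
  have hJC := hle J hcJ
  have hPC : pCore 2 G ≤ C := by
    rw [hC, le_centralizer_iff]
    have h1 := layer_le_centralizer_fitting (G := G)
    rwa [SignalizersComponents.PConstrained.fittingSubgroup_eq_pCore_of_pPrimeCore_eq_bot 2 hO] at h1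
  haveI hPn : (pCore 2 G).Normal := Lib.Cores.pCore_normal 2
  have hcent : centralizer (((pCore 2 G).subgroupOf C : Subgroup C) : Set C) ≤ (pCore 2 G).subgroupOf C := by
    intro x hx
    rw [mem_subgroupOf]
    refine centralizer_genFit_le hO (mem_centralizer_genFit hO (fun L hL => ?_) ?_)
    · have h1 : (x : G) ∈ centralizer (layer G : Set G) := x.2
      rw [mem_centralizer_iff] at h1 ⊢
      exact fun y hy => h1 y (component_le_layer hL hy)
    · rw [mem_centralizer_iff]
      intro y hy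
      exact congrArg Subtype.val (mem_centralizer_iff.1 hx ⟨y, hPC hy⟩ hy)
  set Oc : Set (Subgroup C) := {M | M ∈ restr Om C ∧ SolvTwo.IsT M} with hOc
  have hOcH : Hyp Oc := by
    refine (h.restr C).mono (fun M hM => hM.1) ?_
    intro M hM g
    exact ⟨(h.restr C).conj M hM.1 g, (RdOm.isT_cj g).2 hM.2⟩
  have hmem : ∀ M ∈ Om, SolvTwo.IsT M → ∀ hMC : M ≤ C, M.subgroupOf C ∈ Oc := by
    intro M hM hMT hMC
    refine ⟨subgroupOf_mem_restr hM hMC, ?_⟩
    exact TyTrans.isT_of_quot (TyTrans.quotSubgroupOf hMC).symm hMT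
  have hmain := SolvTwo.main hOcH (fun M hM => hM.2) ((pCore 2 G).subgroupOf C)
    ((Lib.Cores.pCore_isPGroup 2).comap_subtype) hcent
  have h1 := hmain.2 _ (hmem K hK hTK hKC) _ (hmem J hJ hTJ hJC) ?_
  · intro x hx
    rw [mem_centralizer_iff]
    intro y hy
    exact (congrArg Subtype.val (h1 ⟨x, hKC hx⟩ hx ⟨y, hJC hy⟩ hy)).symm
  · intro h2
    apply hne
    rw [← map_subgroupOf_eq_of_le hKC, ← map_subgroupOf_eq_of_le hJC, h2]

end

section

variable {G : Type u} [Group G] [Finite G] {Om : Set (Subgroup G)}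

/-- **THEOREM T for `O(G) = 1`** from the leaves -/
theorem hasPieces_of_leaves (hcore : CoreLeaf.{u}) (hQ1 : Q1Leaf.{u}) (hQ2 : Q2Leaf.{u}) (hev : EvLeaf.{u})
    (h : Hyp Om) (hT : ∀ K ∈ Om, Ty K) (hU : Uni Om) (hO : pPrimeCore 2 G = ⊥) (ind : TLt.{u} (Nat.card G)) :
    HasPieces Om := by
  have hev' : EvQ G := hev G
  have hcomp : ∀ L : Subgroup G, IsComponent L → (OmL Om L).Nonempty →
      Piece Om L ∧ ∀ K ∈ OmL Om L, K ≤ L ∧ OO K = ⊥ := fun L hL hne =>
    component_piece hcore hQ1 hQ2 hev h hT hU hO hL hne ind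
  have hdich : ∀ K ∈ Om, K ∈ BB Om ∨ ∃ L : Subgroup G, IsComponent L ∧ K ∈ OmL Om L := by
    intro K hK
    by_cases hall : ∀ L : Subgroup G, IsComponent L → L ≤ centralizer {zz K}
    · exact Or.inl ⟨hK, hall⟩
    · push Not at hall
      obtain ⟨L, hL, hLz⟩ := hall
      exact Or.inr ⟨L, hL, hK, hLz⟩
  have hBBc : ∀ K ∈ BB Om, ∀ J ∈ BB Om, K ≠ J → K ≤ centralizer (J : Set G) := by
    intro K hK J hJ hne
    rcases BB_cases h hT hO hev' hK with ⟨h1, h2⟩ | ⟨h1, h2, h3⟩
    · rw [le_centralizer_iff]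
      exact BB_comm_component h hT hO hev' hJ h2 hne
    · rcases BB_cases h hT hO hev' hJ with ⟨h4, h5⟩ | ⟨h4, h5, h6⟩
      · exact BB_comm_component h hT hO hev' hK h5 hne.symm
      · exact isT_comm h hO hK.1 hJ.1 h1 h4 h3 h6 hne
  refine ⟨?_, {L | IsComponent L ∧ (OmL Om L).Nonempty} ∪ BB Om, ?_, ?_, ?_⟩
  · intro K hK
    rcases hdich K hK with h1 | ⟨L, hL, hKL⟩
    · exact OneCompD.OO_eq_bot h hO hev' hK h1.2
    · exact ((hcomp L hL ⟨K, hKL⟩).2 K hKL).2
  · rintro D (hD | hD)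
    · exact (hcomp D hD.1 hD.2).1
    · exact Piece.single hD.1
  · rintro D (hD | hD) E (hE | hE) hne
    · exact component_le_centralizer_of_ne hD.1 hE.1 hne
    · rw [le_centralizer_iff]
      exact BB_comm_component h hT hO hev' hE hD.1 hne
    · exact BB_comm_component h hT hO hev' hD hE.1 hne.symm
    · exact hBBc D hD E hE hne
  · intro K hK
    rcases hdich K hK with h1 | ⟨L, hL, hKL⟩
    · exact ⟨K, Or.inr h1, le_rfl⟩
    · exact ⟨L, Or.inl ⟨hL, K, hKL⟩, ((hcomp L hL ⟨K, hKL⟩).2 K hKL).1⟩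

end

/-- **THEOREM T** from the leaves -/
theorem tstmt_of_leaves (hcore : CoreLeaf.{u}) (hQ1 : Q1Leaf.{u}) (hQ2 : Q2Leaf.{u}) (hev : EvLeaf.{u}) :
    TStmt.{u} := by
  have key : ∀ n : ℕ, ∀ (Y : Type u) [Group Y] [Finite Y], Nat.card Y = n → ∀ Om : Set (Subgroup Y), Hyp Om →
      (∀ K ∈ Om, Ty K) → Uni Om → TT Om := by
    intro n
    induction n using Nat.strong_induction_on with
    | _ n ih =>
      intro Y _ _ hn Om h hT hU
      have ind : TLt.{u} (Nat.card Y) := by
        intro Z _ _ hZ Oz h1 h2 h3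
        exact ih (Nat.card Z) (hn ▸ hZ) Z rfl Oz h1 h2 h3
      haveI : (pPrimeCore 2 Y).Normal := Lib.Cores.pPrimeCore_normal 2
      have h1 : Nat.card (Y ⧸ pPrimeCore 2 Y) ≤ Nat.card Y :=
        Nat.card_le_card_of_surjective _ (QuotientGroup.mk'_surjective (pPrimeCore 2 Y))
      have h2 : pPrimeCore 2 (Y ⧸ pPrimeCore 2 Y) = ⊥ := Lib.Cores.pPrimeCore_quotient_pPrimeCore 2
      have h3 : ¬ 2 ∣ Nat.card (QuotientGroup.mk' (pPrimeCore 2 Y)).ker := by
        rw [QuotientGroup.ker_mk']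
        exact not_two_dvd_oddCore Y
      exact hasPieces_of_leaves hcore hQ1 hQ2 hev h.img_mk (Ty.img hT _ h3) (hU.img_odd h3) h2 (ind.mono h1)
  exact fun Y _ _ Om h hT hU => key _ Y rfl Om h hT hU

end Cfsg.Agent.Cit
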