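import Cfsg.Agent.Cit.CoreThree
import Cfsg.Agent.Cit.CoresCore
import Cfsg.Agent.Cit.TypeDet.FramesOf

/-!
# `|Om(S)| = 3`, `|E(S)| ≥ 8`, different pieces: impossible

`disEight` : `CoreThree.DisEightStmt` (the cores are trivial by COROLLARY E; `TypeDet.Red.false_of_red` with three
classes).
-/

set_option autoImplicit false

namespace Cfsg.Agent.Cit.ThreeDis

open Subgroup Cfsg Cfsg.Agent.Cit.UseT Cfsg.Agent.Cit.SubCent Cfsg.Agent.Cit.CoreThree Cfsg.Agent.Cit.TypeDet
open Cfsg.Agent.Cit.CoresG Cfsg.Agent.Cit.Branches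

universe u

section

variable {G : Type*} [Group G] [Finite G] {Om : Set (Subgroup G)}

/-- a member commuting with `K` is covered by `C(zz K)` -/
theorem mem_cov_of_cm (h : Hyp Om) {K X : Subgroup G} (hK : K ∈ Om) (hX : X ∈ Om) (hc : cm X K) :
    X ∈ cov Om (centralizer {zz K}) := by
  refine (mem_cov_cent h (b := zz K) (a := 1) (by rw [pow_one, pow_two]; exact h.zz_mul hK)).2 ⟨hX, ?_⟩
  intro k hk
  rw [hc k hk _ (h.zz_mem hK)]
  simp

/-- an element centralising a Sylow 2-subgroup of a member normalises it -/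
theorem cj_eq_of_centralizer (h : Hyp Om) {X Q : Subgroup G} (hX : X ∈ Om) (hQ : Syl Q X) {x : G}
    (hx : ∀ q ∈ Q, x * q = q * x) : cj x X = X := by
  by_contra hne
  have h1 : cj x Q = Q := by
    apply le_antisymm
    · intro y hy
      rw [mem_cj] at hy
      have h2 := hx _ hy
      have h3 : y = x⁻¹ * y * x := by
        calc y = x * (x⁻¹ * y * x) * x⁻¹ := by group
          _ = (x⁻¹ * y * x) * x * x⁻¹ := by rw [h2]
          _ = x⁻¹ * y * x := by group
      rw [h3]; exact hy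
    · intro y hy
      rw [mem_cj]
      have h2 := hx _ hy
      have h3 : x⁻¹ * y * x = y := by
        calc x⁻¹ * y * x = x⁻¹ * (y * x) := by group
          _ = x⁻¹ * (x * y) := by rw [h2]
          _ = y := by group
      rw [h3]; exact hy
  have hQp := hQ.2.1
  have hXQ : X ∈ OmS Om Q := mem_OmS_of_le hX hQ le_rfl
  have hXQ' : cj x X ∈ OmS Om Q := by
    have := cj_mem_OmS h.conj x hXQ
    rwa [h1] at this
  obtain ⟨y, hy, hy4⟩ := h.exists_four hQp hXQ
  have hy' : y ∈ cj x X := by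
    have h2 : y ∈ cj x Q := by rw [h1]; exact hy.2
    exact cj_mono x hQ.1 h2
  rcases inf_inf_le h hQp hXQ hXQ' (Ne.symm hne) hy hy' with h2 | ⟨h2, -⟩
  · rw [h2, orderOf_one] at hy4; omega
  · rw [h2, h.orderOf_zz hX] at hy4; omega

/-- traces of non-commuting members commuting with `K` do not commute -/
theorem not_cm_tr (h : Hyp Om) (ty : ∀ K ∈ Om, IsType K) (hO : ∀ K ∈ Om, OO K = ⊥) (hE : CoreE Om)
    {K X Y : Subgroup G} (hK : K ∈ Om) (hX : X ∈ Red.Cen Om {K}) (hY : Y ∈ Red.Cen Om {K}) (hn : ¬ cm X Y) :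
    ¬ cm (tr (centralizer {zz K}) X) (tr (centralizer {zz K}) Y) := by
  intro hc
  rw [Red.mem_Cen_single] at hX hY
  obtain ⟨x, hx, S, hS, hSH, hXS, hYS, hne⟩ := exists_adj h ty (mem_cov_of_cm h hK hX.1 hX.2)
    (mem_cov_of_cm h hK hY.1 hY.2) (cm_iff_le_centralizer.1 hc)
  have hXK : X ≠ K := by
    rintro rfl
    exact h.not_le_centralizer_self hK (cm_iff_le_centralizer.1 hX.2)
  obtain ⟨T, hT⟩ := exists_sylow_of_comm (Om := Om) (C := {X, K}) (by
      rintro A (hA | hA)
      · rw [hA]; exact hX.1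
      · rw [Set.mem_singleton_iff.1 hA]; exact hK) (by
      rintro A (hA | hA) B (hB | hB) hAB
      · exact absurd (hA.trans hB.symm) hAB
      · rw [hA, Set.mem_singleton_iff.1 hB]; exact hX.2
      · rw [hB, Set.mem_singleton_iff.1 hA]; exact cm_symm hX.2
      · exact absurd ((Set.mem_singleton_iff.1 hA).trans (Set.mem_singleton_iff.1 hB).symm) hAB)
  have hXT : X ∈ OmS Om (T : Subgroup G) := hT (Or.inl rfl)
  have hKT : K ∈ OmS Om (T : Subgroup G) := hT (Or.inr rfl)
  have h1 := hE T X hXT (zz K) (zz_mem_ES hKT) (h.zz_ne hK)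
  have hxX : cj (x : G) X = X := by
    refine cj_eq_of_centralizer h hX.1 (syl_inf T.isPGroup' hXT) ?_
    intro q hq
    have h2 : (x : G) ∈ XX (zz K) := ⟨x, hx, rfl⟩
    have h3 := (commutator_eq_bot_iff_le_centralizer.1 h1) h2
    exact (mem_centralizer_iff.1 h3 q hq).symm
  rw [hxX] at hXS hne
  exact hn (cm_iff_le_centralizer.2 (comm_of_core h hO hS hXS hYS hne))

theorem chn_tr (h : Hyp Om) (ty : ∀ K ∈ Om, IsType K) (hO : ∀ K ∈ Om, OO K = ⊥) (hE : CoreE Om)
    {K X Y : Subgroup G} (hK : K ∈ Om) (hc : chn (Red.Cen Om {K}) X Y) :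
    chn (fam Om (centralizer {zz K})) (tr (centralizer {zz K}) X) (tr (centralizer {zz K}) Y) := by
  induction hc with
  | refl => exact Relation.ReflTransGen.refl
  | @tail A B _ h2 ih =>
    refine ih.tail ⟨?_, ?_, not_cm_tr h ty hO hE hK h2.1 h2.2.1 h2.2.2⟩
    · have h3 := Red.mem_Cen_single.1 h2.1
      exact tr_mem (mem_cov_of_cm h hK h3.1 h3.2)
    · have h3 := Red.mem_Cen_single.1 h2.2.1
      exact tr_mem (mem_cov_of_cm h hK h3.1 h3.2)

theorem pp_eq (h : Hyp Om) (ty : ∀ K ∈ Om, IsType K) (hO : ∀ K ∈ Om, OO K = ⊥) (hE : CoreE Om)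
    {K X Y : Subgroup G} (hK : K ∈ Om) (hc : chn (Red.Cen Om {K}) X Y) : PP Om K X = PP Om K Y :=
  pc_eq_of_chn (chn_tr h ty hO hE hK hc)

/-- **different pieces are impossible** if the members have trivial cores and the commuting graph is connected -/
theorem false_of_dis [IsSimpleGroup G] (h : Hyp Om) (ty : ∀ K ∈ Om, IsType K)
    (hcls : ∀ K ∈ Om, ∀ J ∈ Om, ∃ g, J = cj g K) (hc : Card Om 3) (hO : ∀ K ∈ Om, OO K = ⊥) (hE : CoreE Om)
    (hco : Conn Om) (hd : Dis Om) : False := by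
  obtain ⟨S, K, hK, L, hL, M, hM, hKL, hKM, hpp⟩ := hd
  have hLM : L ≠ M := fun e => hpp (by rw [e])
  have hcm : ∀ S : Sylow 2 G, ∀ K ∈ OmS Om (S : Subgroup G), ∀ L ∈ OmS Om (S : Subgroup G), K ≠ L → cm K L :=
    fun S K hK L hL hne => cm_iff_le_centralizer.2 (comm_of_core h hO S.isPGroup' hK hL hne)
  have hna : ∀ K ∈ Om, ¬ cm K K := fun K hK hc => h.not_le_centralizer_self hK (cm_iff_le_centralizer.1 hc)
  have hfr := frames_of h (fun K hK L hL => by
    obtain ⟨g, hg⟩ := hcls K hK L hL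
    exact ⟨g, hg.symm⟩) hcm hna
  set F := OmS Om (S : Subgroup G) with hF
  have hFF : F ∈ sylFrames Om := ⟨S, rfl⟩
  have hf := hfr.frm F hFF
  have hFe : F = {K, L, M} := by
    obtain ⟨N, hE', hKN, hLN⟩ := exists_three hc S hK hL hKL
    have h1 : M ∈ ({K, L, N} : Set (Subgroup G)) := hE' ▸ hM
    simp only [Set.mem_insert_iff, Set.mem_singleton_iff] at h1
    rcases h1 with h1 | h1 | h1
    · exact absurd h1.symm hKM
    · exact absurd h1.symm hLM
    · rw [h1]; exact hE'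
  have hn : ¬ chn (Red.Cen Om {K}) L M := fun hch => hpp (pp_eq h ty hO hE hK.1 hch)
  -- two different members are not connected in the centraliser of a third
  have key : ∀ A ∈ F, ∀ B ∈ F, ∀ N ∈ F, A ≠ B → A ≠ N → B ≠ N → ¬ chn (Red.Cen Om {N}) A B := by
    intro A hA B hB N hN hAB hAN hBN hch
    obtain ⟨g, hg1, hg2⟩ := hfr.trans F hFF F hFF N hN K hK
    have h1 : chn (Red.Cen Om {K}) (cj g A) (cj g B) := by
      refine TypeDet.chn_cj (g := g) (fun X hX => ?_) hch
      have := (Red.Cen_cj h.conj g (B := {N})).mpr hX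
      rwa [Set.image_singleton, hg2] at this
    have hA' : cj g A ∈ F := by rw [← hg1]; exact ⟨A, hA, rfl⟩
    have hB' : cj g B ∈ F := by rw [← hg1]; exact ⟨B, hB, rfl⟩
    have e1 : cj g A ≠ cj g B := fun e => hAB (cj_inj.1 e)
    have e2 : cj g A ≠ K := fun e => hAN (cj_inj.1 (e.trans hg2.symm))
    have e3 : cj g B ≠ K := fun e => hBN (cj_inj.1 (e.trans hg2.symm))
    rw [hFe] at hA' hB'
    simp only [Set.mem_insert_iff, Set.mem_singleton_iff] at hA' hB'
    rcases hA' with h2 | h2 | h2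
    · exact e2 h2
    · rcases hB' with h3 | h3 | h3
      · exact e3 h3
      · exact e1 (h2.trans h3.symm)
      · rw [h2, h3] at h1; exact hn h1
    · rcases hB' with h3 | h3 | h3
      · exact e3 h3
      · rw [h2, h3] at h1; exact hn (chn_symm h1)
      · exact e1 (h2.trans h3.symm)
  have happ : ∀ {A B : Subgroup G}, Red.app Om F A B → A = B := by
    intro A B hAB
    induction hAB with
    | rel A B h' =>
      obtain ⟨h1, h2, N, hN, hAN, hBN, hch⟩ := h'
      by_contra hne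
      exact key A h1 B h2 N hN hne hAN hBN hch
    | refl A => rfl
    | symm A B _ ih => exact ih.symm
    | trans A B C _ _ ih1 ih2 => exact ih1.trans ih2
  have third : ∀ A ∈ F, ∀ B ∈ F, A ≠ B → ∃ N ∈ F, A ≠ N ∧ B ≠ N := by
    intro A hA B hB hAB
    obtain ⟨N, hE', hAN, hBN⟩ := exists_three hc S hA hB hAB
    exact ⟨N, by rw [hF, hE']; simp, hAN, hBN⟩
  refine Red.false_of_red hfr hFF ?_ ?_ ⟨L, hL, M, hM, fun ha => hLM (happ ha)⟩
  · -- connectedness
    intro C hC hne hcl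
    apply Set.Subset.antisymm hC
    obtain ⟨A, hA⟩ := hne
    intro B hB
    have h1 := hco A (hC hA) B hB
    clear hB
    induction h1 with
    | refl => exact hA
    | @tail X Y _ h2 ih =>
      by_cases hXY : X = Y
      · rw [← hXY]; exact ih
      · obtain ⟨T, hXT, hYT⟩ := h2
        exact hcl X ih Y hYT.1 (hcm T X hXT Y hYT hXY)
  · intro A hA B hB hAB X hX Y hY
    have hne : A ≠ B := fun e => hAB (e ▸ Red.app_refl A)
    obtain ⟨N, hN, hAN, hBN⟩ := third A hA B hB hne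
    exact hf.cm_of_three hA hB hN hAB (fun ha => hAN (happ ha)) (fun ha => hBN (happ ha)) hX hY

end

/-- **`DisEightStmt`** -/
theorem disEight (hodd : OddStmt.{u}) (hfix : FixStmt.{u}) (hct : CTStmt.{u}) : DisEightStmt.{u} := by
  intro G _ _ Om hm hc hi h8 hco hE hd
  have := hm.simple
  have h8' := hd
  obtain ⟨S, -⟩ := h8'
  exact false_of_dis hm.hyp hm.isType hm.cls hc (hm.OO_eq_bot hodd hfix hct hco S (h8 S)) hE hco hd

end Cfsg.Agent.Cit.ThreeDis
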