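import Cfsg.Agent.Cit.EqGenTwo
import Cfsg.Agent.Cit.TwoW
import Cfsg.Agent.Cit.OneK1

/-!
# `|Om(S)| = 2`, equal involutions: conjugacy of the products `x y`, and subgroups containing `C(z)` and `C(x y)`

`TwoE Om`, the members generated by their elements of odd order.

* `TwoE.conj_pair` : the pairs `(x, y)`, `x ∈ K`, `y ∈ K'` of order four in a common 2-group (`TTp Om K K' x y`) are
  conjugate under `⟨K, K'⟩`; `TwoE.conj_any` : the pairs for different `K`, `K'`;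
* `TwoE.mem_DD` : the involutions of `D(S)`;
* `TwoE.big` : if `C(z_K)`, `C(x y) ≤ M` then `Big Om M`.
-/

set_option autoImplicit false
set_option linter.style.haveILetI false
set_option linter.unusedSectionVars false

namespace Cfsg.Agent.Cit

open Subgroup Cfsg OneBasic

variable {G : Type*} [Group G]

namespace TwoE

variable [Finite G] {Om : Set (Subgroup G)} {K K' L L' : Subgroup G} {x y x' y' : G}

theorem eqZ (h : TwoE Om) (hne : Om.Nonempty) (ty : ∀ K ∈ Om, TyTwo K) : EqClose.EqZ Om where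
  hyp := h.hyp
  ne := hne
  ty := ty
  eqz := h.eqz
  two := by
    intro S K hK
    by_contra hcon
    push Not at hcon
    have h1 : OmS Om (S : Subgroup G) = {K} :=
      Set.eq_singleton_iff_unique_mem.2 ⟨hK, hcon⟩
    have h2 := h.two S
    rw [h1, Set.ncard_singleton] at h2
    omega

/-- the Sylow subgroups of `C(zz K)` are Sylow subgroups of `G` -/
theorem exists_sylow_ge (h : TwoE Om) {R : Subgroup G} (hK : K ∈ Om) (hR : IsPGroup 2 R)
    (hRK : R ≤ centralizer {zz K}) :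
    ∃ T : Sylow 2 G, R ≤ T ∧ (T : Subgroup G) ≤ centralizer {zz K} ∧ K ∈ OmS Om (T : Subgroup G) := by
  haveI : Fact (Nat.Prime 2) := ⟨Nat.prime_two⟩
  obtain ⟨T0, hT0, hR0⟩ := Cit.exists_syl_ge hR hRK
  obtain ⟨T, hT, -⟩ := hT0.exists_sylow_ge
  have hKT : K ∈ OmS Om (T : Subgroup G) := OmS_mono hT (h.hyp.mem_OmS_of_syl hK hT0)
  exact ⟨T, hR0.trans hT, fun g hg => mem_centralizer_singleton_iff.2 (h.comm_of_mem T.isPGroup' hKT hg), hKT⟩

/-- a Sylow subgroup for a pair `(x, y)` -/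
theorem exists_sylow_pair (h : TwoE Om) (p : TTp Om K K' x y) :
    ∃ S : Sylow 2 G, (S : Subgroup G) ≤ centralizer {zz K} ∧ K ∈ OmS Om (S : Subgroup G) ∧
      K' ∈ OmS Om (S : Subgroup G) ∧ x ∈ (S : Subgroup G) ∧ y ∈ (S : Subgroup G) := by
  obtain ⟨R, hR, hx, hy⟩ := p.two
  have hxz : x ∈ centralizer {zz K} := h.hyp.le_centralizer p.hK p.hx
  have hyz : y ∈ centralizer {zz K} := by rw [← p.hz]; exact h.hyp.le_centralizer p.hK' p.hy
  obtain ⟨S, hRS, hSC, hKS⟩ := h.exists_sylow_ge (R := R ⊓ centralizer {zz K}) p.hK (hR.to_le inf_le_left)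
    inf_le_right
  exact ⟨S, hSC, hKS, h.hyp.mem_OmS_of_zz_eq S hKS p.hK' p.hz, hRS ⟨hx, hxz⟩, hRS ⟨hy, hyz⟩⟩

/-- **conjugacy of the pairs `(x, y)`** -/
theorem conj_pair (h : TwoE Om) (ty : ∀ K ∈ Om, TyTwo K) (p : TTp Om K K' x y) (p' : TTp Om K K' x' y') :
    ∃ g ∈ K ⊔ K', g * x * g⁻¹ = x' ∧ g * y * g⁻¹ = y' := by
  obtain ⟨k, hk, hkx⟩ := h.hyp.conj_four p.hK (ty K p.hK) p.hx p'.hx p.ox p'.ox
  have hkN : k ∈ normalizer (K' : Set G) := h.hyp.le_normalizer_of_zz p.hK' p.hK p.hz.symm hk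
  -- the pair `(x', y₂)`
  have p2 : TTp Om K K' x' (k * y * k⁻¹) := by
    have h1 := p.cj h.hyp k
    rwa [mem_normalizer_iff_cj.1 (le_normalizer hk), mem_normalizer_iff_cj.1 hkN, hkx] at h1
  obtain ⟨S, -, hKS, hK'S, hxS, hyS⟩ := h.exists_sylow_pair p'
  obtain ⟨S2, -, hKS2, hK'S2, hxS2, hyS2⟩ := h.exists_sylow_pair p2
  have hle : ∀ T : Sylow 2 G, K ∈ OmS Om (T : Subgroup G) → K' ∈ OmS Om (T : Subgroup G) → x' ∈ (T : Subgroup G) →
      Syl (K' ⊓ (T : Subgroup G)) (K' ⊓ centralizer {x'}) := by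
    intro T h1 h2 h3
    refine OneBasic.syl_of_le (syl_inf T.isPGroup' h2) (le_inf inf_le_left fun q hq => ?_) inf_le_left
    rw [mem_centralizer_singleton_iff]
    exact h.hyp.comm T.isPGroup' h2 h1 p.ne.symm hq ⟨p'.hx, h3⟩
  obtain ⟨c, hc, hcS⟩ := (hle S2 hKS2 hK'S2 hxS2).exists_conj (hle S hKS hK'S hxS)
  have hcx := mem_centralizer_singleton_iff.1 hc.2
  have hy3 : c * (k * y * k⁻¹) * c⁻¹ ∈ K' ⊓ (S : Subgroup G) := by
    rw [← hcS]; exact conj_mem_cj ⟨p2.hy, hyS2⟩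
  have ho3 : orderOf (c * (k * y * k⁻¹) * c⁻¹) = 4 := by
    have h1 : orderOf (c * (k * y * k⁻¹) * c⁻¹) = orderOf (k * y * k⁻¹) := (MulAut.conj c).orderOf_eq _
    rw [h1, p2.oy]
  obtain ⟨d, hd, hdx, hdy⟩ := h.hyp.conj_four_rel p.hK'
    (fun x hx y hy ox oy => h.hyp.conj_four p.hK' (ty K' p.hK') hx hy ox oy) (syl_inf S.isPGroup' hK'S)
    (A := zpowers x') (isPGroup_zpowers S.isPGroup' hxS)
    (by
      rw [zpowers_le]
      exact h.hyp.le_normalizer_of_zz p.hK' p.hK p.hz.symm p'.hx)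
    (by
      rintro _ ⟨m, rfl⟩ q hq
      have h1 : Commute x' q := (h.hyp.comm S.isPGroup' hKS hK'S p.ne ⟨p'.hx, hxS⟩ hq)
      exact (h1.zpow_left m).eq)
    hy3 ⟨p'.hy, hyS⟩ ho3 p'.oy
  have hdx' := hdx x' (mem_zpowers x')
  refine ⟨d * c * k, mul_mem (mul_mem (mem_sup_right hd) (mem_sup_right hc.1)) (mem_sup_left hk), ?_, ?_⟩
  · calc d * c * k * x * (d * c * k)⁻¹ = d * (c * (k * x * k⁻¹) * c⁻¹) * d⁻¹ := by group
      _ = d * (c * x' * c⁻¹) * d⁻¹ := by rw [hkx]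
      _ = d * x' * d⁻¹ := by rw [hcx, mul_inv_cancel_right]
      _ = x' := by rw [hdx', mul_inv_cancel_right]
  · calc d * c * k * y * (d * c * k)⁻¹ = d * (c * (k * y * k⁻¹) * c⁻¹) * d⁻¹ := by group
      _ = y' := hdy

theorem sup_le_centralizer (h : TwoE Om) (p : TTp Om K K' x y) : K ⊔ K' ≤ centralizer {zz K} := by
  refine sup_le (h.hyp.le_centralizer p.hK) ?_
  rw [← p.hz]
  exact h.hyp.le_centralizer p.hK'

theorem cj_eq_of_mem_sup (h : TwoE Om) (p : TTp Om K K' x y) {g : G} (hg : g ∈ K ⊔ K') :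
    cj g K = K ∧ cj g K' = K' := by
  constructor
  · exact mem_normalizer_iff_cj.1 ((sup_le le_normalizer (h.hyp.le_normalizer_of_zz p.hK p.hK' p.hz)) hg)
  · exact mem_normalizer_iff_cj.1 ((sup_le (h.hyp.le_normalizer_of_zz p.hK' p.hK p.hz.symm) le_normalizer) hg)

/-- **all pairs `(x, y)` are conjugate** in a subgroup `M` containing the Sylow subgroups and `L`, `L'` -/
theorem conj_any (h : TwoE Om) (ty : ∀ K ∈ Om, TyTwo K) {M : Subgroup G} (p : TTp Om K K' x y)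
    (p' : TTp Om L L' x' y') {S S' : Sylow 2 G} (hKS : K ∈ OmS Om (S : Subgroup G))
    (hLS : L ∈ OmS Om (S' : Subgroup G)) (hSM : (S : Subgroup G) ≤ M) (hSM' : (S' : Subgroup G) ≤ M)
    (hLM : L ≤ M) (hLM' : L' ≤ M) :
    ∃ g ∈ M, g * (x * y) * g⁻¹ = x' * y' ∧ g * zz K * g⁻¹ = zz L ∧
      ((cj g K = L ∧ cj g K' = L') ∨ (cj g K = L' ∧ cj g K' = L)) := by
  haveI : Fact (Nat.Prime 2) := ⟨Nat.prime_two⟩
  have hidx : ∀ T : Sylow 2 G, (T : Subgroup G) ≤ M → Syl (T : Subgroup G) M := fun T hT =>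
    ⟨hT, T.isPGroup', fun h2 => T.not_dvd_index (h2.trans (relIndex_dvd_index_of_le hT))⟩
  obtain ⟨a, ha, haS⟩ := (hidx S hSM).exists_conj (hidx S' hSM')
  have hL'S : L' ∈ OmS Om (S' : Subgroup G) := h.hyp.mem_OmS_of_zz_eq S' hLS p'.hK' p'.hz
  have hK'S : K' ∈ OmS Om (S : Subgroup G) := h.hyp.mem_OmS_of_zz_eq S hKS p.hK' p.hz
  have e1 : cj a K ∈ OmS Om (S' : Subgroup G) := by rw [← haS]; exact cj_mem_OmS h.hyp.conj a hKS
  have e2 : cj a K' ∈ OmS Om (S' : Subgroup G) := by rw [← haS]; exact cj_mem_OmS h.hyp.conj a hK'S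
  have e3 : cj a K ≠ cj a K' := fun e => p.ne (cj_inj.1 e)
  have hle : L ⊔ L' ≤ M := sup_le hLM hLM'
  have fin : ∀ b ∈ L ⊔ L', b * zz L * b⁻¹ = zz L := by
    intro b hb
    have h1 := mem_centralizer_singleton_iff.1 (h.sup_le_centralizer p' hb)
    rw [h1, mul_inv_cancel_right]
  have zza : a * zz K * a⁻¹ = zz L := by
    rw [← h.hyp.zz_cj p.hK]
    exact h.zz_eq S'.isPGroup' e1 hLS
  have conjp : ∀ b c : G, b * a * c * (b * a)⁻¹ = b * (a * c * a⁻¹) * b⁻¹ := fun b c => by group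
  rcases h.pair S'.isPGroup' hLS hL'S e1 p'.ne with e4 | e4
  · have e5 : cj a K' = L' := by
      rcases h.pair S'.isPGroup' hLS hL'S e2 p'.ne with e5 | e5
      · exact absurd (e4.trans e5.symm) e3
      · exact e5
    have q := p.cj h.hyp a
    rw [e4, e5] at q
    obtain ⟨b, hb, hbx, hby⟩ := h.conj_pair ty q p'
    refine ⟨b * a, M.mul_mem (hle hb) ha, ?_, ?_, Or.inl ?_⟩
    · rw [conjp]
      calc b * (a * (x * y) * a⁻¹) * b⁻¹ = (b * (a * x * a⁻¹) * b⁻¹) * (b * (a * y * a⁻¹) * b⁻¹) := by group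
        _ = x' * y' := by rw [hbx, hby]
    · rw [conjp, zza, fin b hb]
    · rw [cj_mul, cj_mul, e4, e5]
      exact h.cj_eq_of_mem_sup p' hb
  · have e5 : cj a K' = L := by
      rcases h.pair S'.isPGroup' hLS hL'S e2 p'.ne with e5 | e5
      · exact e5
      · exact absurd (e4.trans e5.symm) e3
    have q := (p.cj h.hyp a).symm
    rw [e4, e5] at q
    obtain ⟨b, hb, hbx, hby⟩ := h.conj_pair ty q p'
    refine ⟨b * a, M.mul_mem (hle hb) ha, ?_, ?_, Or.inr ?_⟩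
    · rw [conjp]
      calc b * (a * (x * y) * a⁻¹) * b⁻¹ = b * (a * (y * x) * a⁻¹) * b⁻¹ := by rw [p.comm h.hyp]
        _ = (b * (a * y * a⁻¹) * b⁻¹) * (b * (a * x * a⁻¹) * b⁻¹) := by group
        _ = x' * y' := by rw [hbx, hby]
    · rw [conjp, zza, fin b hb]
    · rw [cj_mul, cj_mul, e4, e5]
      exact ⟨(h.cj_eq_of_mem_sup p' hb).2, (h.cj_eq_of_mem_sup p' hb).1⟩

/-- all pairs `(x, y)` are conjugate in `G` -/
theorem conj_any_top (h : TwoE Om) (ty : ∀ K ∈ Om, TyTwo K) (p : TTp Om K K' x y)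
    (p' : TTp Om L L' x' y') :
    ∃ g : G, g * (x * y) * g⁻¹ = x' * y' ∧ g * zz K * g⁻¹ = zz L ∧
      ((cj g K = L ∧ cj g K' = L') ∨ (cj g K = L' ∧ cj g K' = L)) := by
  obtain ⟨S, -, hKS, -, -, -⟩ := h.exists_sylow_pair p
  obtain ⟨S', -, hLS, -, -, -⟩ := h.exists_sylow_pair p'
  obtain ⟨g, -, hg⟩ := h.conj_any ty (M := ⊤) p p' hKS hLS le_top le_top le_top le_top
  exact ⟨g, hg⟩

/-- the involutions of `D(S)` -/
theorem mem_DD (h : TwoE Om) {S : Subgroup G} (hS : IsPGroup 2 S) (hK : K ∈ OmS Om S) (hK' : K' ∈ OmS Om S)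
    (hne : K ≠ K') {t : G} (ht : t ∈ DD Om S) (htt : t * t = 1) (ht1 : t ≠ 1) :
    t = zz K ∨ ∃ x ∈ K ⊓ S, ∃ y ∈ K' ⊓ S, orderOf x = 4 ∧ orderOf y = 4 ∧ t = x * y := by
  have hz : zz K' = zz K := h.zz_eq hS hK' hK
  have h1 : DD Om S ≤ (K ⊓ S) ⊔ (K' ⊓ S) := by
    rw [DD_le_iff]
    intro L hL
    rcases h.pair hS hK hK' hL hne with rfl | rfl
    · exact le_sup_left
    · exact le_sup_right
  have hc := fun (a : G) (ha : a ∈ K ⊓ S) (b : G) (hb : b ∈ K' ⊓ S) => h.hyp.comm hS hK hK' hne ha hb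
  obtain ⟨q, hq, q', hq', rfl⟩ := exists_mul_of_mem_sup (A := K ⊓ S) (K := K' ⊓ S) (by
    intro a ha
    exact mem_normalizer_of_cent fun b hb => hc a ha b hb) (h1 ht)
  have hqq := hc q hq q' hq'
  have h2 : q * q * (q' * q') = 1 := by
    calc q * q * (q' * q') = q * (q * q') * q' := by group
      _ = q * (q' * q) * q' := by rw [hqq]
      _ = (q * q') * (q * q') := by group
      _ = 1 := htt
  have h3 : q * q = (q' * q')⁻¹ := mul_eq_one_iff_eq_inv.1 h2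
  have hzK : ∀ a ∈ K, a * zz K = zz K * a := fun a ha =>
    mem_centralizer_singleton_iff.1 (h.hyp.le_centralizer hK.1 ha)
  obtain ⟨c, v, n, gq⟩ := h.hyp.exists_gq hK.1 (syl_inf hS hK)
  -- `q * q` centralises `K ⊓ S`
  have h4 : q * q = 1 ∨ q * q = zz K := by
    by_contra hcon
    push Not at hcon
    have hqqm : q * q ∈ K ⊓ S := mul_mem hq hq
    have hqq' : q * q ∈ K' ⊓ S := by rw [h3]; exact inv_mem (mul_mem hq' hq')
    -- `q * q` has order at least four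
    have h6 : (q * q) * (q * q) ≠ 1 := fun h7 => hcon.2 (gq.eq_z hqqm h7 hcon.1)
    have hcen : ∀ a ∈ K ⊓ S, a * (q * q) = (q * q) * a := fun a ha => hc a ha _ hqq'
    -- a power of order four
    obtain ⟨m, hm⟩ := hS ⟨q * q, hqqm.2⟩
    have hm' : (q * q) ^ 2 ^ m = 1 := congrArg Subtype.val hm
    obtain ⟨k, hk⟩ := (Nat.dvd_prime_pow Nat.prime_two).1 (orderOf_dvd_of_pow_eq_one hm')
    have hk2 : 2 ≤ k := by
      by_contra hlt
      have h7 : k ≤ 1 := by omega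
      apply h6
      rw [← pow_two, ← orderOf_dvd_iff_pow_eq_one, hk.2]
      exact (pow_dvd_pow 2 h7).trans (by norm_num)
    have h8 : orderOf ((q * q) ^ 2 ^ (k - 2)) = 4 := by
      rw [orderOf_pow_of_dvd (by positivity) (by rw [hk.2]; exact pow_dvd_pow 2 (by omega)), hk.2,
        Nat.pow_div (by omega) (by omega), show k - (k - 2) = 2 by omega]
    refine h.hyp.not_cent_of_four hK.1 (syl_inf hS hK) (x := (q * q) ^ 2 ^ (k - 2)) (pow_mem hqqm _) h8 ?_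
    intro a ha
    exact ((show Commute (q * q) a from (hcen a ha).symm).pow_left _).eq
  rcases h4 with h4 | h4
  · left
    have h5 : q' * q' = 1 := by
      have := h2; rwa [h4, one_mul] at this
    have a1 : q = 1 ∨ q = zz K := by
      by_cases hq1 : q = 1
      · exact Or.inl hq1
      · exact Or.inr (h.hyp.eq_zz hK.1 hq.1 h4 hq1)
    have a2 : q' = 1 ∨ q' = zz K := by
      by_cases hq1 : q' = 1
      · exact Or.inl hq1
      · right; rw [← hz]; exact h.hyp.eq_zz hK'.1 hq'.1 h5 hq1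
    rcases a1 with a1 | a1 <;> rcases a2 with a2 | a2
    · exact absurd (by rw [a1, a2, one_mul]) ht1
    · rw [a1, a2, one_mul]
    · rw [a1, a2, mul_one]
    · exact absurd (by rw [a1, a2, h.hyp.zz_mul hK.1]) ht1
  · right
    have h5 : q' * q' = zz K := by
      have h6 : (q' * q')⁻¹ = zz K := by rw [← h3, h4]
      rw [← inv_inv (q' * q'), h6, h.hyp.zz_inv hK.1]
    exact ⟨q, hq, q', hq', GQ.orderOf_of_sq h4 (h.hyp.zz_mul hK.1) (h.hyp.zz_ne hK.1),
      GQ.orderOf_of_sq h5 (h.hyp.zz_mul hK.1) (h.hyp.zz_ne hK.1), rfl⟩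

/-- **`Big Om M`** from `C(z), C(x y) ≤ M` -/
theorem big (h : TwoE Om) (ty : ∀ K ∈ Om, TyTwo K) {M : Subgroup G} (p : TTp Om K K' x y)
    (hz : centralizer {zz K} ≤ M) (ht : centralizer {x * y} ≤ M) : EqClose.Big Om M := by
  obtain ⟨S, hSC, hKS, hK'S, -, -⟩ := h.exists_sylow_pair p
  have hSM : (S : Subgroup G) ≤ M := hSC.trans hz
  refine ⟨⟨S, hSM⟩, ?_⟩
  intro T hTM f hf hff hf1
  -- the members of `Om(T)`
  obtain ⟨L, L', hne, hO⟩ := Set.ncard_eq_two.1 (h.two T)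
  have hL : L ∈ OmS Om (T : Subgroup G) := by rw [hO]; exact Set.mem_insert _ _
  have hL' : L' ∈ OmS Om (T : Subgroup G) := by rw [hO]; exact Set.mem_insert_of_mem _ rfl
  have hzz : zz L' = zz L := h.zz_eq T.isPGroup' hL' hL
  have hmov : ∀ (g : G) (a b : G), g ∈ M → g * a * g⁻¹ = b → centralizer {b} ≤ M → centralizer {a} ≤ M := by
    intro g a b hg hab hb
    rw [← hab, ← cj_centralizer] at hb
    intro c hc
    have h1 := hb (conj_mem_cj (g := g) hc)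
    have h2 : c = g⁻¹ * (g * c * g⁻¹) * g := by group
    rw [h2]
    exact M.mul_mem (M.mul_mem (M.inv_mem hg) h1) hg
  have hKM : K ≤ M := (h.hyp.le_centralizer p.hK).trans hz
  have hKM' : K' ≤ M := by
    refine le_trans ?_ hz
    rw [← p.hz]; exact h.hyp.le_centralizer p.hK'
  rcases h.mem_DD T.isPGroup' hL hL' hne hf hff hf1 with h1 | ⟨a, ha, b, hb, oa, ob, h1⟩
  · -- an element of order four in each member
    obtain ⟨c, v, n, g1⟩ := h.hyp.exists_gq hL.1 (syl_inf T.isPGroup' hL)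
    obtain ⟨c', v', n', g2⟩ := h.hyp.exists_gq hL'.1 (syl_inf T.isPGroup' hL')
    have q : TTp Om L L' v v' := ⟨hL.1, hL'.1, hne, hzz, g1.v_mem.1, g2.v_mem.1, g1.orderOf_v, g2.orderOf_v,
      (T : Subgroup G), T.isPGroup', g1.v_mem.2, g2.v_mem.2⟩
    obtain ⟨g, hg, -, h3, -⟩ := h.conj_any ty q p hL hKS hTM hSM hKM hKM'
    rw [h1]
    exact hmov g _ _ hg h3 hz
  · have q : TTp Om L L' a b := ⟨hL.1, hL'.1, hne, hzz, ha.1, hb.1, oa, ob,
      (T : Subgroup G), T.isPGroup', ha.2, hb.2⟩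
    obtain ⟨g, hg, h3, -, -⟩ := h.conj_any ty q p hL hKS hTM hSM hKM hKM'
    rw [h1]
    exact hmov g _ _ hg h3 ht

end TwoE

end Cfsg.Agent.Cit
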