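import Cfsg.Agent.Cit.OneBasic
import Cfsg.Agent.TwoFusion.TransferIndex

/-!
# Compatible homomorphisms on the centralisers of a conjugacy class

`Psi D M`: for every `z ∈ D` a homomorphism `psi z : C_G(z) → M`, equivariant under conjugation and
agreeing on `C_G(z) ∩ C_G(w)` for commuting `z, w ∈ D`. If `D` consists of 2-elements and `z₀ ∈ D` is
centralised by a Sylow 2-subgroup `S`, then `psi z₀` is constant on the intersections of the conjugacy
classes of `G` with `S`; so it is trivial on `S` if `G` has no proper normal subgroup of 2-power index.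
(helper549, bb GH #5503 (B2), with a Sylow argument instead of Alperin's theorem.)
-/

set_option autoImplicit false
set_option linter.style.haveILetI false

namespace Cfsg.Agent.Cit.OneField

open Subgroup Cfsg

variable {G : Type*} [Group G]

/-- compatible homomorphisms on the centralisers of the elements of `D` -/
structure Psi (D : Set G) (M : Type*) [Group M] where
  /-- the value `psi z h`, meaningful for `z ∈ D` and `h ∈ C_G(z)` -/
  psi : G → G → M
  mul : ∀ z ∈ D, ∀ h k, h * z = z * h → k * z = z * k → psi z (h * k) = psi z h * psi z k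
  conj : ∀ z ∈ D, ∀ g h, h * z = z * h → psi (g * z * g⁻¹) (g * h * g⁻¹) = psi z h
  agree : ∀ z ∈ D, ∀ w ∈ D, z * w = w * z → ∀ h, h * z = z * h → h * w = w * h → psi z h = psi w h

namespace Psi

variable {D : Set G} {M : Type*} [Group M] (P : Psi D M)

theorem map_one {z : G} (hz : z ∈ D) : P.psi z 1 = 1 := by
  have h := P.mul z hz 1 1 (by simp) (by simp)
  rw [mul_one] at h
  exact left_eq_mul.1 h

theorem map_inv {z : G} (hz : z ∈ D) {h : G} (hh : h * z = z * h) :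
    P.psi z h⁻¹ = (P.psi z h)⁻¹ := by
  have hh' : h⁻¹ * z = z * h⁻¹ := ((show Commute h z from hh).inv_left).eq
  have h1 := P.mul z hz h⁻¹ h hh' hh
  rw [inv_mul_cancel, P.map_one hz] at h1
  exact eq_inv_of_mul_eq_one_left h1.symm

/-- the kernel of `psi z` on a subgroup `S ≤ C_G(z)` -/
def kerOn {z : G} (hz : z ∈ D) {S : Subgroup G} (hS : S ≤ centralizer {z}) : Subgroup G where
  carrier := {s | s ∈ S ∧ P.psi z s = 1}
  one_mem' := ⟨S.one_mem, P.map_one hz⟩
  mul_mem' := by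
    rintro a b ⟨ha, ha1⟩ ⟨hb, hb1⟩
    refine ⟨S.mul_mem ha hb, ?_⟩
    rw [P.mul z hz a b (mem_centralizer_singleton_iff.1 (hS ha))
      (mem_centralizer_singleton_iff.1 (hS hb)), ha1, hb1, one_mul]
  inv_mem' := by
    rintro a ⟨ha, ha1⟩
    refine ⟨S.inv_mem ha, ?_⟩
    rw [P.map_inv hz (mem_centralizer_singleton_iff.1 (hS ha)), ha1, inv_one]

theorem mem_kerOn {z : G} (hz : z ∈ D) {S : Subgroup G} (hS : S ≤ centralizer {z}) {s : G} :
    s ∈ P.kerOn hz hS ↔ s ∈ S ∧ P.psi z s = 1 := Iff.rfl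

/-- all `psi z`, `z ∈ D ∩ C_G(y)`, have the same value at the 2-element `y` -/
theorem eq_of_comm [Finite G] (hD : ∀ z ∈ D, ∀ g, g * z * g⁻¹ ∈ D)
    (hD2 : ∀ z ∈ D, IsPGroup 2 (zpowers z)) {S : Subgroup G} (hS : Syl S ⊤) {z₀ : G} (hz₀ : z₀ ∈ D)
    (hSz : S ≤ centralizer {z₀}) {y : G} (hy : IsPGroup 2 (zpowers y)) {z w : G} (hz : z ∈ D)
    (hw : w ∈ D) (hyz : y * z = z * y) (hyw : y * w = w * y) : P.psi z y = P.psi w y := by
  -- first the case where `z`, `w` lie in one Sylow 2-subgroup of the centraliser of `y`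
  have key : ∀ T : Subgroup G, Syl T (centralizer {y}) → ∀ z ∈ D, ∀ w ∈ D, z ∈ T → w ∈ T →
      P.psi z y = P.psi w y := by
    intro T hT z hz w hw hzT hwT
    have hyT : y ∈ T := by
      have h1 : zpowers y ≤ T := by
        refine OneBasic.syl_le_of_normalizes' hT hy ?_ ?_
        · rw [zpowers_le, mem_centralizer_singleton_iff]
        · rw [zpowers_le, mem_normalizer_iff_cj]
          have h2 : ∀ t ∈ T, y * t * y⁻¹ = t := by
            intro t ht
            have h3 := mem_centralizer_singleton_iff.1 (hT.1 ht)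
            rw [← h3]; group
          ext t
          rw [mem_cj]
          constructor
          · intro ht
            have := h2 _ ht
            have h4 : y * (y⁻¹ * t * y) * y⁻¹ = t := by group
            rw [h4] at this
            rw [this]; exact ht
          · intro ht
            have h3 := mem_centralizer_singleton_iff.1 (hT.1 ht)
            have h4 : y⁻¹ * t * y = t := by rw [mul_assoc, h3]; group
            rw [h4]; exact ht
      exact h1 (mem_zpowers y)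
    -- `T` lies in a conjugate of `S`
    obtain ⟨R, hR, hTR⟩ := OneBasic.exists_syl_ge hT.2.1 (le_top : T ≤ ⊤)
    obtain ⟨k, -, hk⟩ := hS.exists_conj hR
    have hcen : ∀ r ∈ R, r * (k * z₀ * k⁻¹) = (k * z₀ * k⁻¹) * r := by
      intro r hr
      rw [← hk, mem_cj] at hr
      have h3 := mem_centralizer_singleton_iff.1 (hSz hr)
      calc r * (k * z₀ * k⁻¹) = k * ((k⁻¹ * r * k) * z₀) * k⁻¹ := by group
        _ = k * (z₀ * (k⁻¹ * r * k)) * k⁻¹ := by rw [h3]
        _ = (k * z₀ * k⁻¹) * r := by group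
    have hu : k * z₀ * k⁻¹ ∈ D := hD z₀ hz₀ k
    have hyu := hcen y (hTR hyT)
    have hzy := mem_centralizer_singleton_iff.1 (hT.1 hzT)
    have hwy := mem_centralizer_singleton_iff.1 (hT.1 hwT)
    rw [P.agree z hz _ hu (hcen z (hTR hzT)) y hzy.symm hyu,
      P.agree w hw _ hu (hcen w (hTR hwT)) y hwy.symm hyu]
  obtain ⟨T, hT, hzT⟩ := OneBasic.exists_syl_ge (hD2 z hz)
    (by rw [zpowers_le, mem_centralizer_singleton_iff]; exact hyz.symm :
      zpowers z ≤ centralizer {y})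
  obtain ⟨T', hT', hwT'⟩ := OneBasic.exists_syl_ge (hD2 w hw)
    (by rw [zpowers_le, mem_centralizer_singleton_iff]; exact hyw.symm :
      zpowers w ≤ centralizer {y})
  obtain ⟨c, hc, hcT⟩ := hT'.exists_conj hT
  have hcy := mem_centralizer_singleton_iff.1 hc
  have hc1 : c * y * c⁻¹ = y := by rw [hcy]; group
  have h1 := P.conj w hw c y hyw
  rw [hc1] at h1
  rw [← h1]
  refine key T hT z hz _ (hD w hw c) (hzT (mem_zpowers z)) ?_
  rw [← hcT]
  exact conj_mem_cj (hwT' (mem_zpowers w))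

/-- `psi z₀` is constant on the `G`-classes inside `S` -/
theorem eq_of_conj [Finite G] (hD : ∀ z ∈ D, ∀ g, g * z * g⁻¹ ∈ D)
    (hD2 : ∀ z ∈ D, IsPGroup 2 (zpowers z)) {S : Subgroup G} (hS : Syl S ⊤) {z₀ : G} (hz₀ : z₀ ∈ D)
    (hSz : S ≤ centralizer {z₀}) {s g : G} (hs : s ∈ S) (hg : g * s * g⁻¹ ∈ S) :
    P.psi z₀ (g * s * g⁻¹) = P.psi z₀ s := by
  have h1 := mem_centralizer_singleton_iff.1 (hSz hs)
  have h2 := mem_centralizer_singleton_iff.1 (hSz hg)
  rw [← P.conj z₀ hz₀ g s h1]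
  refine P.eq_of_comm hD hD2 hS hz₀ hSz ?_ hz₀ (hD z₀ hz₀ g) h2 ?_
  · exact hS.2.1.to_le (zpowers_le.2 hg)
  · calc g * s * g⁻¹ * (g * z₀ * g⁻¹) = g * (s * z₀) * g⁻¹ := by group
      _ = g * (z₀ * s) * g⁻¹ := by rw [h1]
      _ = g * z₀ * g⁻¹ * (g * s * g⁻¹) := by group

/-- **(B2)**: there is a normal subgroup `K` of `G` with `K ∩ S = ker (psi z₀ | S)` and
`|G : K| = |S : K ∩ S|` -/
theorem exists_normal [Finite G] (hD : ∀ z ∈ D, ∀ g, g * z * g⁻¹ ∈ D)
    (hD2 : ∀ z ∈ D, IsPGroup 2 (zpowers z)) {S : Subgroup G} (hS : Syl S ⊤) {z₀ : G} (hz₀ : z₀ ∈ D)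
    (hSz : S ≤ centralizer {z₀}) :
    ∃ K : Subgroup G, K.Normal ∧ K.index = (P.kerOn hz₀ hSz).relIndex S ∧
      K ⊓ S = P.kerOn hz₀ hSz := by
  haveI : Fact (Nat.Prime 2) := ⟨Nat.prime_two⟩
  have hS2 : ¬ 2 ∣ S.index := by
    have := hS.2.2
    rwa [relIndex_top_right] at this
  let S' : Sylow 2 G := hS.2.1.toSylow hS2
  have hS' : (S' : Subgroup G) = S := rfl
  obtain ⟨K, hK, hK1, hK2⟩ := TwoFusion.TransferIndex.exists_normal_of_fusion S'
    (P.kerOn hz₀ hSz) (fun x hx => hx.1) (by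
      intro s hs g hg
      have hs' : s ∈ S := hs
      have hg' : g * s * g⁻¹ ∈ S := hg
      refine ⟨S.mul_mem (S.inv_mem hs') hg', ?_⟩
      have h1 := mem_centralizer_singleton_iff.1 (hSz hs')
      have h2 := mem_centralizer_singleton_iff.1 (hSz hg')
      have h3 : s⁻¹ * z₀ = z₀ * s⁻¹ := ((show Commute s z₀ from h1).inv_left).eq
      rw [P.mul z₀ hz₀ _ _ h3 h2, P.map_inv hz₀ h1, P.eq_of_conj hD hD2 hS hz₀ hSz hs' hg',
        inv_mul_cancel])
  exact ⟨K, hK, hK1, hK2⟩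

/-- **(B2)**: if `G` has no proper normal subgroup of 2-power index then `psi z₀` is trivial on `S` -/
theorem eq_one [Finite G] (hD : ∀ z ∈ D, ∀ g, g * z * g⁻¹ ∈ D)
    (hD2 : ∀ z ∈ D, IsPGroup 2 (zpowers z)) {S : Subgroup G} (hS : Syl S ⊤) {z₀ : G} (hz₀ : z₀ ∈ D)
    (hSz : S ≤ centralizer {z₀})
    (hG : ∀ K : Subgroup G, K.Normal → ∀ k, K.index = 2 ^ k → k = 0) {s : G} (hs : s ∈ S) :
    P.psi z₀ s = 1 := by
  haveI : Fact (Nat.Prime 2) := ⟨Nat.prime_two⟩
  obtain ⟨K, hK, hK1, hK2⟩ := P.exists_normal hD hD2 hS hz₀ hSz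
  obtain ⟨k, hk⟩ : ∃ k, (P.kerOn hz₀ hSz).relIndex S = 2 ^ k := by
    obtain ⟨k, hk⟩ := hS.2.1.index ((P.kerOn hz₀ hSz).subgroupOf S)
    exact ⟨k, hk⟩
  have h1 := hG K hK k (hK1.trans hk)
  rw [h1, pow_zero] at hk
  exact (relIndex_eq_one.1 hk hs).2

/-- all values at 2-elements are trivial -/
theorem eq_one' [Finite G] (hD : ∀ z ∈ D, ∀ g, g * z * g⁻¹ ∈ D)
    (hD2 : ∀ z ∈ D, IsPGroup 2 (zpowers z)) {S : Subgroup G} (hS : Syl S ⊤) {z₀ : G} (hz₀ : z₀ ∈ D)
    (hSz : S ≤ centralizer {z₀})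
    (hG : ∀ K : Subgroup G, K.Normal → ∀ k, K.index = 2 ^ k → k = 0) {z y : G} (hz : z ∈ D)
    (hy : IsPGroup 2 (zpowers y)) (hyz : y * z = z * y) : P.psi z y = 1 := by
  obtain ⟨R, hR, hyR⟩ := OneBasic.exists_syl_ge hy (le_top : zpowers y ≤ ⊤)
  obtain ⟨k, -, hk⟩ := hR.exists_conj hS
  have h1 : k * y * k⁻¹ ∈ S := by
    rw [← hk]; exact conj_mem_cj (hyR (mem_zpowers y))
  rw [← P.conj z hz k y hyz]
  have h2 := mem_centralizer_singleton_iff.1 (hSz h1)
  rw [P.eq_of_comm hD hD2 hS hz₀ hSz (hS.2.1.to_le (zpowers_le.2 h1)) (hD z hz k) hz₀ ?_ h2]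
  · exact P.eq_one hD hD2 hS hz₀ hSz hG h1
  · calc k * y * k⁻¹ * (k * z * k⁻¹) = k * (y * z) * k⁻¹ := by group
      _ = k * (z * y) * k⁻¹ := by rw [hyz]
      _ = k * z * k⁻¹ * (k * y * k⁻¹) := by group

end Psi

end Cfsg.Agent.Cit.OneField
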