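import Cfsg.Agent.Cit.OnePair

/-!
# Classical involutions, `|Om(S)| = 1`: the relation `b ⊥ K`

`Perp b K`: the 2-element `b` normalises `K` and centralises a Sylow 2-subgroup of `K` (hence, by rigidity,
every Sylow 2-subgroup of `K` which it normalises).
-/

set_option autoImplicit false
set_option linter.style.haveILetI false
set_option linter.unusedSectionVars false
set_option linter.unusedVariables false

namespace Cfsg.Agent.Cit

open Subgroup Cfsg OneBasic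

variable {G : Type*} [Group G]

/-- the 2-element `b` normalises `K` and centralises a Sylow 2-subgroup of `K` -/
def Perp (b : G) (K : Subgroup G) : Prop :=
  IsPGroup 2 (zpowers b) ∧ b ∈ normalizer (K : Set G) ∧ ∃ Q, Syl Q K ∧ ∀ x ∈ Q, b * x = x * b

namespace Perp

theorem p {b : G} {K : Subgroup G} (h : Perp b K) : IsPGroup 2 (zpowers b) := h.1

theorem mem {b : G} {K : Subgroup G} (h : Perp b K) : b ∈ normalizer (K : Set G) := h.2.1

theorem cj {b : G} {K : Subgroup G} (h : Perp b K) (g : G) : Perp (g * b * g⁻¹) (Cit.cj g K) := by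
  obtain ⟨h1, h2, Q, hQ, h3⟩ := h
  refine ⟨?_, ?_, Cit.cj g Q, hQ.cj g, ?_⟩
  · have : zpowers (g * b * g⁻¹) = Cit.cj g (zpowers b) := by
      rw [cj_def, MonoidHom.map_zpowers]; simp
    rw [this]
    exact isPGroup_cj h1
  · rw [mem_normalizer_iff_cj] at h2 ⊢
    rw [← cj_mul]
    have : g * b * g⁻¹ * g = g * b := by group
    rw [this, cj_mul, h2]
  · intro x hx
    rw [mem_cj] at hx
    have h4 := h3 _ hx
    calc g * b * g⁻¹ * x = g * (b * (g⁻¹ * x * g)) * g⁻¹ := by group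
      _ = g * ((g⁻¹ * x * g) * b) * g⁻¹ := by rw [h4]
      _ = _ := by group

/-- conjugation by an element commuting with `b` -/
theorem cj_comm {b : G} {K : Subgroup G} (h : Perp b K) {g : G} (hg : g * b = b * g) :
    Perp b (Cit.cj g K) := by
  have := h.cj g
  rwa [hg, mul_inv_cancel_right] at this

theorem of_cj_comm {b : G} {K : Subgroup G} {g : G} (hg : g * b = b * g) (h : Perp b (Cit.cj g K)) :
    Perp b K := by
  have h1 : g⁻¹ * b = b * g⁻¹ := ((show Commute g b from hg).inv_left).eq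
  have := h.cj_comm h1
  rwa [cj_inv_cj] at this

variable [Finite G] {Om : Set (Subgroup G)}

theorem cent (h : Hyp Om) {b : G} {K Q : Subgroup G} (hb : Perp b K) (hK : K ∈ Om) (hQ : Syl Q K)
    (hbQ : b ∈ normalizer (Q : Set G)) : ∀ x ∈ Q, b * x = x * b := by
  obtain ⟨h1, h2, Q0, hQ0, h3⟩ := hb
  exact h.rigid hK hQ0 hQ h2 h1 h3 hbQ

theorem one (K : Subgroup G) : Perp (1 : G) K := by
  obtain ⟨Q, hQ⟩ := Hyp.exists_syl K
  refine ⟨?_, one_mem _, Q, hQ, by simp⟩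
  rw [zpowers_one_eq_bot]
  exact IsPGroup.of_bot

/-- elements of a 2-group `A ≤ N(K)` which are `⊥ K` -/
theorem mem_centralizer (h : Hyp Om) {b : G} {K Q A : Subgroup G} (hK : K ∈ Om) (hQ : Syl Q K)
    (hAQ : A ≤ normalizer (Q : Set G)) (hbA : b ∈ A) (hb : Perp b K) : ∀ x ∈ Q, b * x = x * b :=
  hb.cent h hK hQ (hAQ hbA)

theorem of_mem {b : G} {K Q A : Subgroup G} (hQ : Syl Q K)
    (hA : IsPGroup 2 A) (hAK : A ≤ normalizer (K : Set G)) (hbA : b ∈ A) (hb : ∀ x ∈ Q, b * x = x * b) :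
    Perp b K := ⟨hA.to_le (zpowers_le.2 hbA), hAK hbA, Q, hQ, hb⟩

/-- products -/
theorem mul (h : Hyp Om) {a b : G} {K A : Subgroup G} (hK : K ∈ Om) (hA : IsPGroup 2 A)
    (hAK : A ≤ normalizer (K : Set G)) (haA : a ∈ A) (hbA : b ∈ A) (ha : Perp a K) (hb : Perp b K) :
    Perp (a * b) K := by
  obtain ⟨Q, hQ, hAQ⟩ := exists_syl_normalized hA hAK
  have h1 := ha.cent h hK hQ (hAQ haA)
  have h2 := hb.cent h hK hQ (hAQ hbA)
  refine of_mem hQ hA hAK (A.mul_mem haA hbA) ?_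
  intro x hx
  rw [mul_assoc, h2 x hx, ← mul_assoc, h1 x hx, mul_assoc]

theorem inv {b : G} {K : Subgroup G} (hb : Perp b K) : Perp b⁻¹ K := by
  obtain ⟨h1, h2, Q, hQ, h3⟩ := hb
  refine ⟨by rw [zpowers_inv]; exact h1, inv_mem h2, Q, hQ, ?_⟩
  intro x hx
  exact ((show Commute b x from h3 x hx).inv_left).eq

theorem zpow {b : G} {K : Subgroup G} (hb : Perp b K) (k : ℤ) : Perp (b ^ k) K := by
  obtain ⟨h1, h2, Q, hQ, h3⟩ := hb
  refine ⟨h1.to_le (zpowers_le.2 (zpow_mem (mem_zpowers b) k)), zpow_mem h2 k, Q, hQ, ?_⟩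
  intro x hx
  exact ((show Commute b x from h3 x hx).zpow_left k).eq

/-- (i): the involution of `L` is `⊥ K` only for `L = K` -/
theorem eq_of_zz (h : One Om) {K L : Subgroup G} (hK : K ∈ Om) (hL : L ∈ Om) (hb : Perp (zz L) K) :
    K = L := by
  obtain ⟨h1, h2, Q, hQ, h3⟩ := hb
  exact h.eq_of_cent hK hL hQ h3

theorem zz_self (h : Hyp Om) {K : Subgroup G} (hK : K ∈ Om) : Perp (zz K) K := by
  obtain ⟨Q, hQ⟩ := Hyp.exists_syl K
  obtain ⟨c, v, n, hc⟩ := h.exists_gq hK hQ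
  refine ⟨hQ.2.1.to_le (zpowers_le.2 hc.z_mem), le_normalizer (hQ.1 hc.z_mem), Q, hQ, ?_⟩
  intro x hx
  exact (h.comm_zz hK (le_normalizer (hQ.1 hx))).symm

end Perp

namespace One

variable [Finite G] {Om : Set (Subgroup G)}

/-- `b` commutes with `z` -/
theorem perp_comm (h : One Om) {b : G} {K : Subgroup G} (hK : K ∈ Om) (hb : Perp b K) :
    b * zz K = zz K * b := h.hyp.comm_zz hK hb.mem

/-- (P0): the product of two neighbours is the involution of a member -/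
theorem exists_mul (h : One Om) {K L : Subgroup G} (hK : K ∈ Om) (hL : L ∈ Om) (hne : K ≠ L)
    (hc : zz K * zz L = zz L * zz K) : ∃ M ∈ Om, zz M = zz K * zz L ∧
      ∀ b, Perp b K → Perp b L → Perp b M := by
  obtain ⟨T, Q, Q', -, p⟩ := h.exists_pair hK hL hne hc (A := ⊥) IsPGroup.of_bot bot_le bot_le
  obtain ⟨q, hq, hqt⟩ := p.exists_swap h
  refine ⟨cj q L, h.hyp.conj L hL q, by rw [h.hyp.zz_cj hL, hqt], ?_⟩
  intro b hbK hbL
  obtain ⟨T1, Q1, Q1', hT1, p1⟩ := h.exists_pair hK hL hne hc hbK.p (zpowers_le.2 hbK.mem)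
    (zpowers_le.2 hbL.mem)
  have hbT1 : b ∈ T1 := hT1 (mem_zpowers b)
  obtain ⟨q1, hq1, hqt1⟩ := p1.exists_swap h
  have h1 : cj q L = cj q1 L := by
    apply h.eq_of_zz_eq (h.hyp.conj L hL q) (h.hyp.conj L hL q1)
    rw [h.hyp.zz_cj hL, h.hyp.zz_cj hL, hqt, hqt1]
  rw [h1]
  apply hbL.cj_comm
  exact (hbK.cent h.hyp hK p1.hQ (p1.hTQ hbT1) q1 hq1).symm

/-- the member with involution `zz K * zz L` -/
theorem perp_of_zz_eq (h : One Om) {K L M : Subgroup G} (hK : K ∈ Om) (hL : L ∈ Om) (hM : M ∈ Om)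
    (hne : K ≠ L) (hc : zz K * zz L = zz L * zz K) (hz : zz M = zz K * zz L) {b : G} (hbK : Perp b K)
    (hbL : Perp b L) : Perp b M := by
  obtain ⟨M1, hM1, hz1, hb1⟩ := h.exists_mul hK hL hne hc
  rw [h.eq_of_zz_eq hM hM1 (by rw [hz, hz1])]
  exact hb1 b hbK hbL

/-- type `W`, with `a^2` centralising `Q'` -/
theorem _root_.Cfsg.Agent.Cit.OPair.Co.cent_or_W' {K L T Q Q' : Subgroup G} {x y x' y' : G} {n : ℕ}
    (c : OPair.Co Om K L T Q Q' x y x' y' n) (h : One Om)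
    (hW' : zz K * x' = x' * zz K) {a : G} (ha : a ∈ T)
    (haQ : ∀ x ∈ Q, a * x = x * a) (ha2 : ∀ x ∈ Q', (a * a) * x = x * (a * a)) :
    (∀ x ∈ Q', a * x = x * a) ∨ (∀ x ∈ Q', (zz K * a) * x = x * (zz K * a)) := by
  have p := c.pair
  have hx'T : x' ∈ T := p.symm.mem_T h c.gq'.c_mem hW'.symm
  have hax : a * x' = x' * a := p.cent_R' h ha haQ c.gq'.c_mem hx'T
  rcases c.symm.conj_y_of_sq ha hax (ha2 _ c.gq'.v_mem) with h1 | h1
  · left
    apply c.symm.cent_Q hax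
    rwa [mul_inv_eq_iff_eq_mul] at h1
  · right
    apply c.symm.cent_Q
    · calc zz K * a * x' = zz K * (a * x') := by group
        _ = (zz K * x') * a := by rw [hax]; group
        _ = x' * (zz K * a) := by rw [hW']; group
    · have h2 := c.symm.t_y h hW'
      have h3 : zz K * a * y' * (zz K * a)⁻¹ = y' := by
        calc zz K * a * y' * (zz K * a)⁻¹ = zz K * (a * y' * a⁻¹) * (zz K)⁻¹ := by group
          _ = zz K * y' * (zz K)⁻¹ * (zz K * zz L * (zz K)⁻¹) := by rw [h1]; group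
          _ = y' * zz L * zz L := by rw [h2, p.comm]; group
          _ = y' := by rw [mul_assoc, h.hyp.zz_mul p.hL, mul_one]
      rwa [mul_inv_eq_iff_eq_mul] at h3

/-- (P3): `b ⊥ K`, `b^2 ⊥ L` imply `b ⊥ L` or `zb ⊥ L` -/
theorem perp_or (h : One Om) {K L : Subgroup G} (hK : K ∈ Om) (hL : L ∈ Om) (hne : K ≠ L)
    (hc : zz K * zz L = zz L * zz K) {b : G} (hbK : Perp b K) (hbL : b ∈ normalizer (L : Set G))
    (hb2 : Perp (b * b) L) : Perp b L ∨ Perp (zz K * b) L := by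
  obtain ⟨T, Q, Q', hbT', p⟩ := h.exists_pair hK hL hne hc hbK.p (zpowers_le.2 hbK.mem)
    (zpowers_le.2 hbL)
  have hbT : b ∈ T := hbT' (mem_zpowers b)
  have h1 := hbK.cent h.hyp hK p.hQ (p.hTQ hbT)
  have h2 := hb2.cent h.hyp hL p.hQ' (p.hTQ' (T.mul_mem hbT hbT))
  obtain ⟨x, y, x', y', n, c⟩ := p.exists_co h
  have h3 : (∀ x ∈ Q', b * x = x * b) ∨ (∀ x ∈ Q', (zz K * b) * x = x * (zz K * b)) := by
    rcases c.dich h with h3 | h3
    · exact c.cent_or_W' h h3.1 hbT h1 h2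
    · exact c.cent_or_SD h h3.1 h3.2 hbT h1
  rcases h3 with h3 | h3
  · exact Or.inl (Perp.of_mem p.hQ' p.tp p.tL hbT h3)
  · exact Or.inr (Perp.of_mem p.hQ' p.tp p.tL (T.mul_mem (p.zK_mem h) hbT) h3)

/-- (P3) as a property of `b` -/
def _root_.Cfsg.Agent.Cit.PThree (Om : Set (Subgroup G)) (b : G) : Prop :=
  ∀ K ∈ Om, ∀ L ∈ Om, K ≠ L → zz K * zz L = zz L * zz K → Perp b K → b ∈ normalizer (L : Set G) →
    Perp b L ∨ Perp (zz K * b) L

theorem pThree_of_sq (h : One Om) {b : G}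
    (hb2 : ∀ M ∈ Om, b ∈ normalizer (M : Set G) → Perp (b * b) M) : PThree Om b :=
  fun _ hK _ hL hne hc hbK hbL => h.perp_or hK hL hne hc hbK hbL (hb2 _ hL hbL)

/-- **(GP)** -/
theorem perp_of_three (h : One Om) {K L M : Subgroup G} (hK : K ∈ Om) (hL : L ∈ Om) (hM : M ∈ Om)
    (hKL : K ≠ L) (hKM : K ≠ M) (hLM : L ≠ M) (hcKL : zz K * zz L = zz L * zz K)
    (hcKM : zz K * zz M = zz M * zz K) (hcLM : zz L * zz M = zz M * zz L) {b : G} (hbK : Perp b K)
    (hbL : Perp b L) (hbM : b ∈ normalizer (M : Set G)) (h3 : PThree Om b) : Perp b M := by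
  rcases h3 K hK M hM hKM hcKM hbK hbM with h1 | h1
  · exact h1
  rcases h3 L hL M hM hLM hcLM hbL hbM with h2 | h2
  · exact h2
  -- `zt ⊥ M`
  have hbz := h.perp_comm hK hbK
  have hbt := h.perp_comm hL hbL
  obtain ⟨N, hN, hzN, hbN⟩ := h.exists_mul hK hL hKL hcKL
  -- the abelian 2-group `⟨zb, tb⟩`
  have hcomm : (zz K * b) * (zz L * b) = (zz L * b) * (zz K * b) := by
    calc (zz K * b) * (zz L * b) = zz K * (b * zz L) * b := by group
      _ = zz K * zz L * b * b := by rw [hbt]; group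
      _ = zz L * (zz K * b) * b := by rw [hcKL]; group
      _ = zz L * (b * zz K) * b := by rw [hbz]
      _ = (zz L * b) * (zz K * b) := by group
  set A : Subgroup G := zpowers (zz K * b) ⊔ zpowers (zz L * b) with hA
  have hAp : IsPGroup 2 A := by
    refine isPGroup_sup_of_normalizes h1.p h2.p ?_
    rw [zpowers_le]
    apply mem_normalizer_of_cent
    rintro _ ⟨k, rfl⟩
    exact ((show Commute (zz K * b) (zz L * b) from hcomm).zpow_right k).eq
  have hAM : A ≤ normalizer (M : Set G) := sup_le (zpowers_le.2 h1.mem) (zpowers_le.2 h2.mem)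
  have h3 : Perp (zz K * b * (zz L * b)⁻¹) M :=
    Perp.mul h.hyp hM hAp hAM (mem_sup_left (mem_zpowers _))
      (A.inv_mem (mem_sup_right (mem_zpowers _))) h1 h2.inv
  have h4 : zz K * b * (zz L * b)⁻¹ = zz N := by
    rw [hzN, mul_inv_rev, h.hyp.zz_inv hL]; group
  rw [h4] at h3
  rw [Perp.eq_of_zz h hM hN h3]
  exact hbN b hbK hbL

end One

end Cfsg.Agent.Cit
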