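import Cfsg.Agent.LFourB.ToBOne
import Cfsg.Agent.GH.Defs

/-!
# The Sylow 2-subgroups of type `PSL_4(q)` by generators and relations

* `trIso`: two groups with coordinates `MB` (`LFourB/MB.lean`) for the same `k` are isomorphic;
* `typeL4_of_MB`: a group with coordinates `MB` is of type `PSL_4(q)` for some odd `q`;
* `LR`, `LR.mb`, `LR.typeL4`: generators and relations `r1, r2, s, d1, t` (`d1` an involution);
* `LQ`, `LQ.lr`, `LQ.typeL4`: the same with `w`, `w * w = z`, instead of `d1`.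
-/

set_option autoImplicit false
set_option linter.unusedSectionVars false

namespace Cfsg.Agent.Cit.TwoSylModel

open Equiv Cfsg.Agent.LFourB.Mono

section Uniq

variable {G H : Type*} [Group G] [Group H] {S : Subgroup G} {S' : Subgroup H} {k : ℕ}
  {f : (Fin 4 → ZMod (2 ^ k)) → G} {d : Perm (Fin 4) → G}
  {f' : (Fin 4 → ZMod (2 ^ k)) → H} {d' : Perm (Fin 4) → H}

theorem sum_comp_inv {a : Fin 4 → ZMod (2 ^ k)} (ha : ∑ i, a i = 0) (σ : Perm (Fin 4)) :
    ∑ i, a (σ⁻¹ i) = 0 := (Equiv.sum_comp σ⁻¹ a).trans ha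

theorem sum_add {a b : Fin 4 → ZMod (2 ^ k)} (ha : ∑ i, a i = 0) (hb : ∑ i, b i = 0) :
    ∑ i, (a + b) i = 0 := by
  simp only [Pi.add_apply]
  rw [Finset.sum_add_distrib, ha, hb, add_zero]

theorem sum_neg {a : Fin 4 → ZMod (2 ^ k)} (ha : ∑ i, a i = 0) : ∑ i, (-a) i = 0 := by
  simp only [Pi.neg_apply]
  rw [Finset.sum_neg_distrib, ha, neg_zero]

theorem d_one (h : MB S k f d) : d 1 = 1 := by
  have := h.d_mul 1 Dih.one_mem 1 Dih.one_mem
  rw [one_mul] at this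
  exact mul_eq_left.1 this.symm

theorem d_inv (h : MB S k f d) {σ : Perm (Fin 4)} (hσ : σ ∈ Dih) : d σ⁻¹ = (d σ)⁻¹ := by
  have h1 := h.d_mul σ hσ σ⁻¹ (Dih.inv_mem hσ)
  rw [mul_inv_cancel, d_one h] at h1
  exact eq_inv_of_mul_eq_one_right h1.symm

theorem f_neg (h : MB S k f d) {a : Fin 4 → ZMod (2 ^ k)} (ha : ∑ i, a i = 0) : f (-a) = (f a)⁻¹ := by
  have h1 := h.f_add a (-a) ha (sum_neg ha)
  rw [add_neg_cancel, h.f_zero] at h1
  exact eq_inv_of_mul_eq_one_right h1.symm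

/-- Two expressions `f a * d σ` are equal iff the permutations are equal and the vectors differ by a constant. -/
theorem eq_iff (h : MB S k f d) {a b : Fin 4 → ZMod (2 ^ k)} (ha : ∑ i, a i = 0) (hb : ∑ i, b i = 0)
    {σ τ : Perm (Fin 4)} (hσ : σ ∈ Dih) (hτ : τ ∈ Dih) :
    f a * d σ = f b * d τ ↔ σ = τ ∧ ∀ i, (-b + a) i = (-b + a) 0 := by
  constructor
  · intro e
    have h1 : f (-b + a) * d (σ * τ⁻¹) = 1 := by
      rw [h.f_add _ _ (sum_neg hb) ha, f_neg h hb, h.d_mul _ hσ _ (Dih.inv_mem hτ), d_inv h hτ]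
      have : (f b)⁻¹ * f a * (d σ * (d τ)⁻¹) = (f b)⁻¹ * (f a * d σ) * (d τ)⁻¹ := by group
      rw [this, e]
      group
    have h2 := h.uniq _ (Dih.mul_mem hσ (Dih.inv_mem hτ)) _ (sum_add (sum_neg hb) ha) h1
    rw [h2, d_one h, mul_one] at h1
    exact ⟨mul_inv_eq_one.1 h2, (h.f_one _ (sum_add (sum_neg hb) ha)).1 h1⟩
  · rintro ⟨rfl, hc⟩
    have h1 := (h.f_one _ (sum_add (sum_neg hb) ha)).2 hc
    rw [h.f_add _ _ (sum_neg hb) ha, f_neg h hb] at h1
    rw [inv_mul_eq_one.1 h1]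

theorem mul_eq (h : MB S k f d) {a b : Fin 4 → ZMod (2 ^ k)} (ha : ∑ i, a i = 0) (hb : ∑ i, b i = 0)
    {σ τ : Perm (Fin 4)} (hσ : σ ∈ Dih) (hτ : τ ∈ Dih) :
    f a * d σ * (f b * d τ) = f (a + fun i => b (σ⁻¹ i)) * d (σ * τ) := by
  rw [h.f_add _ _ ha (sum_comp_inv hb σ), h.d_mul _ hσ _ hτ]
  have := h.d_f σ hσ b hb
  calc f a * d σ * (f b * d τ) = f a * (d σ * f b) * d τ := by group
    _ = _ := by rw [this]; group

open Classical in
/-- The vector of an element. -/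
noncomputable def vA (h : MB S k f d) (g : S) : Fin 4 → ZMod (2 ^ k) := ((h.mem_iff g).1 g.2).choose

theorem vA_sum (h : MB S k f d) (g : S) : ∑ i, vA h g i = 0 := ((h.mem_iff g).1 g.2).choose_spec.1

/-- The permutation of an element. -/
noncomputable def vS (h : MB S k f d) (g : S) : Perm (Fin 4) := ((h.mem_iff g).1 g.2).choose_spec.2.choose

theorem vS_mem (h : MB S k f d) (g : S) : vS h g ∈ Dih := ((h.mem_iff g).1 g.2).choose_spec.2.choose_spec.1

theorem eq_v (h : MB S k f d) (g : S) : (g : G) = f (vA h g) * d (vS h g) :=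
  ((h.mem_iff g).1 g.2).choose_spec.2.choose_spec.2

/-- The map between two groups with coordinates. -/
noncomputable def tr (h : MB S k f d) (h' : MB S' k f' d') (g : S) : S' :=
  ⟨f' (vA h g) * d' (vS h g), S'.mul_mem (h'.f_mem (vA_sum h g)) (h'.d_mem (vS_mem h g))⟩

theorem tr_eq (h : MB S k f d) (h' : MB S' k f' d') {g : S} {a : Fin 4 → ZMod (2 ^ k)} (ha : ∑ i, a i = 0)
    {σ : Perm (Fin 4)} (hσ : σ ∈ Dih) (e : (g : G) = f a * d σ) : (tr h h' g : H) = f' a * d' σ := by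
  change f' (vA h g) * d' (vS h g) = f' a * d' σ
  rw [eq_iff h' (vA_sum h g) ha (vS_mem h g) hσ, ← eq_iff h (vA_sum h g) ha (vS_mem h g) hσ, ← eq_v, e]

/-- Two groups with coordinates for the same `k` are isomorphic. -/
noncomputable def trIso (h : MB S k f d) (h' : MB S' k f' d') : S ≃* S' where
  toFun := tr h h'
  invFun := tr h' h
  left_inv g := by
    apply Subtype.ext
    rw [tr_eq h' h (vA_sum h g) (vS_mem h g) rfl, eq_v h g]
  right_inv g := by
    apply Subtype.ext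
    rw [tr_eq h h' (vA_sum h' g) (vS_mem h' g) rfl, eq_v h' g]
  map_mul' x y := by
    apply Subtype.ext
    have e : ((x * y : S) : G) = f (vA h x + fun i => vA h y ((vS h x)⁻¹ i)) * d (vS h x * vS h y) := by
      rw [Subgroup.coe_mul, eq_v h x, eq_v h y]
      exact mul_eq h (vA_sum h x) (vA_sum h y) (vS_mem h x) (vS_mem h y)
    rw [tr_eq h h' (sum_add (vA_sum h x) (sum_comp_inv (vA_sum h y) _)) (Dih.mul_mem (vS_mem h x) (vS_mem h y)) e]
    exact (mul_eq h' (vA_sum h x) (vA_sum h y) (vS_mem h x) (vS_mem h y)).symm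

end Uniq

section Field

theorem val_unique {k m k' m' : ℕ} (hm : Odd m) (hm' : Odd m') (e : 2 ^ k * m = 2 ^ k' * m') : k = k' := by
  have key : ∀ {a b x y : ℕ}, Odd x → 2 ^ a * x = 2 ^ b * y → b ≤ a := by
    intro a b x y hx h
    by_contra hlt
    have hlt' : a + 1 ≤ b := by omega
    have h1 : 2 ^ (a + 1) ∣ 2 ^ a * x := by
      rw [h]
      exact Dvd.dvd.mul_right (pow_dvd_pow 2 hlt') _
    rw [pow_succ] at h1
    have h2 : 2 ∣ x := Nat.dvd_of_mul_dvd_mul_left (by positivity) h1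
    exact (Nat.not_even_iff_odd.2 hx) (even_iff_two_dvd.2 h2)
  exact le_antisymm (key hm' e.symm) (key hm e)

/-- There is a prime number whose distance from one has 2-part `2 ^ k`. -/
theorem exists_prime (k : ℕ) (hk : 1 ≤ k) : ∃ p m : ℕ, p.Prime ∧ Odd m ∧ p = 1 + 2 ^ k * m := by
  have hne : NeZero (2 ^ (k + 1)) := ⟨by positivity⟩
  have hu : IsUnit (((1 + 2 ^ k : ℕ)) : ZMod (2 ^ (k + 1))) := by
    rw [ZMod.isUnit_iff_coprime]
    apply Nat.Coprime.pow_right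
    rw [Nat.coprime_two_right]
    have : Even (2 ^ k) := (Nat.even_pow.2 ⟨even_two, by omega⟩)
    exact Odd.add_even odd_one this
  obtain ⟨p, hp1, hp, he⟩ := Nat.forall_exists_prime_gt_and_eq_mod hu 1
  have h1 : p ≡ 1 + 2 ^ k [MOD 2 ^ (k + 1)] := (ZMod.natCast_eq_natCast_iff _ _ _).1 he
  have h2 : (2 : ℕ) ^ k ∣ p - 1 := by
    have h3 : p ≡ 1 [MOD 2 ^ k] := by
      have h4 := h1.of_dvd (pow_dvd_pow 2 (Nat.le_succ k))
      refine h4.trans ?_
      have : 1 + 2 ^ k ≡ 1 + 0 [MOD 2 ^ k] := Nat.ModEq.add_left 1 ((Nat.modEq_zero_iff_dvd).2 dvd_rfl)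
      exact this
    exact (Nat.modEq_iff_dvd' (by omega)).1 h3.symm
  obtain ⟨m, hm⟩ := h2
  have hp2 : p = 1 + 2 ^ k * m := by omega
  refine ⟨p, m, hp, ?_, hp2⟩
  by_contra hodd
  rw [Nat.not_odd_iff_even] at hodd
  obtain ⟨c, hc⟩ := hodd
  have h5 : p ≡ 1 [MOD 2 ^ (k + 1)] := by
    have h6 : (2 : ℕ) ^ (k + 1) ∣ p - 1 := by
      rw [hm, hc, pow_succ]
      exact ⟨c, by ring⟩
    exact ((Nat.modEq_iff_dvd' (by omega)).2 h6).symm
  have h7 : (1 : ℕ) + 2 ^ k ≡ 1 + 0 [MOD 2 ^ (k + 1)] := h1.symm.trans h5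
  have h8 : 2 ^ k ≡ 0 [MOD 2 ^ (k + 1)] := Nat.ModEq.add_left_cancel' 1 h7
  have h9 := Nat.le_of_dvd (by positivity) ((Nat.modEq_zero_iff_dvd).1 h8)
  have h10 : (2 : ℕ) ^ k < 2 ^ (k + 1) := Nat.pow_lt_pow_right (by norm_num) (by omega)
  omega

/-- A group with coordinates `MB` is isomorphic to a Sylow 2-subgroup of some `PSL_4(F)`. -/
theorem typeL4_of_MB {G : Type*} [Group G] {S : Subgroup G} {k : ℕ} {f : (Fin 4 → ZMod (2 ^ k)) → G}
    {d : Perm (Fin 4) → G} (h : MB S k f d) : Cfsg.Agent.GH.Defs.TypeL4 ↥S := by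
  classical
  have hk := h.hk
  obtain ⟨p, m, hp, hm, hpm⟩ := exists_prime k (by omega)
  have : Fact p.Prime := ⟨hp⟩
  have h4 : p % 4 = 1 := by
    obtain ⟨l, rfl⟩ : ∃ l, k = l + 2 := ⟨k - 2, by omega⟩
    rw [hpm, pow_add]
    have : 2 ^ l * 2 ^ 2 * m = 4 * (2 ^ l * m) := by ring
    omega
  have hF : Fintype.card (ZMod p) % 4 = 1 := by rw [ZMod.card]; exact h4
  have hfin : Finite (Matrix.ProjectiveSpecialLinearGroup (Fin 4) (ZMod p)) :=
    Finite.of_surjective _ (QuotientGroup.mk'_surjective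
      (Subgroup.center (Matrix.SpecialLinearGroup (Fin 4) (ZMod p))))
  have P : Sylow 2 (Matrix.ProjectiveSpecialLinearGroup (Fin 4) (ZMod p)) := default
  obtain ⟨k', m', f', d', hm', hc, h'⟩ := exists_MB hF P P (MulEquiv.refl _)
  rw [ZMod.card, hpm] at hc
  have hkk : k = k' := val_unique hm hm' (by omega)
  subst hkk
  refine ⟨ZMod p, inferInstance, inferInstance, ?_, P, ⟨trIso h h'⟩⟩
  rw [ZMod.card]
  exact Nat.odd_iff.2 (by omega)

end Field

section Rel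

variable {G : Type*} [Group G]

/-! ### Powers with exponent in `ZMod N` -/

/-- `x ^ a` for `a : ZMod N`. -/
def pw {N : ℕ} (x : G) (a : ZMod N) : G := x ^ a.val

section pw

variable {N : ℕ} [NeZero N] {x y : G}

theorem pw_add (hx : x ^ N = 1) (a b : ZMod N) : pw x (a + b) = pw x a * pw x b := by
  unfold pw
  rw [ZMod.val_add, ← pow_add, ← pow_eq_pow_mod _ hx]

theorem pw_zero : pw x (0 : ZMod N) = 1 := by
  unfold pw
  rw [ZMod.val_zero, pow_zero]

theorem pw_neg (hx : x ^ N = 1) (a : ZMod N) : pw x (-a) = (pw x a)⁻¹ := by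
  have h := pw_add hx a (-a)
  rw [add_neg_cancel, pw_zero] at h
  exact eq_inv_of_mul_eq_one_right h.symm

theorem pw_one (hN : 1 < N) : pw x (1 : ZMod N) = x := by
  unfold pw
  have : Fact (1 < N) := ⟨hN⟩
  rw [ZMod.val_one, pow_one]

theorem pw_inv (a : ZMod N) : pw x⁻¹ a = (pw x a)⁻¹ := by
  unfold pw
  rw [inv_pow]

theorem pw_mul (h : Commute x y) (a : ZMod N) : pw (x * y) a = pw x a * pw y a := by
  unfold pw
  exact h.mul_pow _

theorem pw_conj (g : G) (a : ZMod N) : g * pw x a * g⁻¹ = pw (g * x * g⁻¹) a := by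
  unfold pw
  rw [conj_pow]

theorem pw_comm (h : Commute x y) (a b : ZMod N) : Commute (pw x a) (pw y b) := h.pow_pow _ _

theorem pw_eq_one (ho : orderOf x = N) {a : ZMod N} (h : pw x a = 1) : a = 0 := by
  have h1 := orderOf_dvd_of_pow_eq_one h
  rw [ho] at h1
  exact (ZMod.val_eq_zero a).1 (Nat.eq_zero_of_dvd_of_lt h1 (ZMod.val_lt a))

end pw

/-! ### The relations -/

/-- Generators and relations of a 2-group of type `PSL_4(q)`, `(q - 1)_2 = 2 ^ (n + 2)`. -/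
structure LR (S : Subgroup G) (n : ℕ) (z r1 r2 s d1 t : G) : Prop where
  z1 : z ≠ 1
  zz : z * z = 1
  c12 : r1 * r2 = r2 * r1
  c1s : r1 * s = s * r1
  c2s : r2 * s = s * r2
  o1 : r1 ^ 2 ^ (n + 1) = z
  o2 : r2 ^ 2 ^ (n + 1) = z
  op : (s * s * r1⁻¹ * r2) ^ 2 ^ n = z
  dd : d1 * d1 = 1
  d_r1 : d1 * r1 * d1⁻¹ = r1⁻¹
  d_r2 : d1 * r2 * d1⁻¹ = r2
  d_s : d1 * s * d1⁻¹ = s * r1⁻¹
  tt : t * t = 1
  t_r1 : t * r1 * t⁻¹ = r2
  t_s : t * s * t⁻¹ = s⁻¹
  cdt : d1 * (t * d1 * t⁻¹) = t * d1 * t⁻¹ * d1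
  gen : S = Subgroup.closure {r1, r2, s, d1, t}

/-! ### The dihedral group -/

/-- The code `(a, b, c)` of `su ^ a * (sw su sw) ^ b * sw ^ c`. -/
def code (σ : Perm (Fin 4)) : Bool × Bool × Bool :=
  if (σ 0).val / 2 = 1 then (decide ((σ 2).val % 2 = 1), decide ((σ 0).val % 2 = 1), true)
  else (decide ((σ 0).val % 2 = 1), decide ((σ 2).val % 2 = 1), false)

/-- The product of codes. -/
def cm (x y : Bool × Bool × Bool) : Bool × Bool × Bool :=
  if x.2.2 then (xor x.1 y.2.1, xor x.2.1 y.1, xor x.2.2 y.2.2)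
  else (xor x.1 y.1, xor x.2.1 y.2.1, xor x.2.2 y.2.2)

theorem code_mul : ∀ σ ∈ Dih, ∀ τ ∈ Dih, code (σ * τ) = cm (code σ) (code τ) := by decide

theorem code_one : code 1 = (false, false, false) := by decide
theorem code_su : code su = (true, false, false) := by decide
theorem code_sw : code sw = (false, false, true) := by decide

/-- The element with given code. -/
def ev (d1 d2 t : G) (x : Bool × Bool × Bool) : G :=
  (if x.1 then d1 else 1) * (if x.2.1 then d2 else 1) * (if x.2.2 then t else 1)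

theorem ev_mul {d1 d2 t : G} (h1 : d1 * d1 = 1) (h2 : d2 * d2 = 1) (ht : t * t = 1) (h21 : d2 * d1 = d1 * d2)
    (ht1 : t * d1 = d2 * t) (ht2 : t * d2 = d1 * t) (x y : Bool × Bool × Bool) :
    ev d1 d2 t (cm x y) = ev d1 d2 t x * ev d1 d2 t y := by
  have a1 : ∀ w, d1 * (d1 * w) = w := fun w => by rw [← mul_assoc, h1, one_mul]
  have a2 : ∀ w, d2 * (d2 * w) = w := fun w => by rw [← mul_assoc, h2, one_mul]
  have a4 : ∀ w, d2 * (d1 * w) = d1 * (d2 * w) := fun w => by rw [← mul_assoc, h21, mul_assoc]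
  have a5 : ∀ w, t * (d1 * w) = d2 * (t * w) := fun w => by rw [← mul_assoc, ht1, mul_assoc]
  have a6 : ∀ w, t * (d2 * w) = d1 * (t * w) := fun w => by rw [← mul_assoc, ht2, mul_assoc]
  obtain ⟨a, b, c⟩ := x
  obtain ⟨a', b', c'⟩ := y
  cases a <;> cases b <;> cases c <;> cases a' <;> cases b' <;> cases c' <;>
    simp [ev, cm, mul_assoc, h1, h2, ht, h21, ht1, ht2, a1, a2, a4, a5, a6]

/-- The integral vectors used for `uniq`. -/
def b1 : Fin 4 → ℤ := ![1, -1, 0, 0]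
/-- The integral vectors used for `uniq`. -/
def b2 : Fin 4 → ℤ := ![0, 0, 1, -1]

theorem diff_two : ∀ σ ∈ Dih, σ ≠ 1 → (∃ i, (b1 (σ⁻¹ i) - b1 i) - (b1 (σ⁻¹ 0) - b1 0) = 2) ∨
    ∃ i, (b2 (σ⁻¹ i) - b2 i) - (b2 (σ⁻¹ 0) - b2 0) = 2 := by decide

/-! ### The torus -/

/-- The torus element with exponents `x`, `y`, `w`. -/
def F3 {N : ℕ} (r1 r2 s : G) (x y w : ZMod N) : G := pw r1 x * pw r2 y * pw s w

/-- The map `f`. -/
def ft {N : ℕ} (r1 r2 s : G) (a : Fin 4 → ZMod N) : G := F3 r1 r2 s (-a 1) (-a 3) (a 0 + a 1)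

/-- The map `d`. -/
def dm (d1 t : G) (σ : Perm (Fin 4)) : G := ev d1 (t * d1 * t⁻¹) t (code σ)

namespace LR

variable {S : Subgroup G} {n : ℕ} {z r1 r2 s d1 t : G} (h : LR S n z r1 r2 s d1 t)

include h

theorem zsq : z ^ 2 = 1 := by rw [pow_two, h.zz]

theorem zinv : z⁻¹ = z := inv_eq_of_mul_eq_one_left h.zz

theorem r1N : r1 ^ 2 ^ (n + 2) = 1 := by
  rw [show 2 ^ (n + 2) = 2 ^ (n + 1) * 2 from pow_succ _ _, pow_mul, h.o1, h.zsq]

theorem r2N : r2 ^ 2 ^ (n + 2) = 1 := by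
  rw [show 2 ^ (n + 2) = 2 ^ (n + 1) * 2 from pow_succ _ _, pow_mul, h.o2, h.zsq]

theorem ssq : s ^ 2 ^ (n + 1) = r1 ^ 2 ^ n * (r2 ^ 2 ^ n)⁻¹ * z := by
  have c12 : Commute r1 r2 := h.c12
  have c1s : Commute r1 s := h.c1s
  have c2s : Commute r2 s := h.c2s
  have e := h.op
  have e1 : (s * s * r1⁻¹ * r2) ^ 2 ^ n = (s * s) ^ 2 ^ n * (r1⁻¹) ^ 2 ^ n * r2 ^ 2 ^ n := by
    rw [Commute.mul_pow, Commute.mul_pow]
    · exact (c1s.symm.mul_left c1s.symm).inv_right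
    · exact ((c2s.symm.mul_left c2s.symm).mul_left c12.inv_left)
  rw [e1] at e
  have e2 : (s * s) ^ 2 ^ n = s ^ 2 ^ (n + 1) := by
    rw [← pow_two, ← pow_mul, ← pow_succ']
  rw [e2, inv_pow] at e
  have c3 : Commute (r1 ^ 2 ^ n) (r2 ^ 2 ^ n) := c12.pow_pow _ _
  have c4 : Commute z (r1 ^ 2 ^ n) := by
    rw [← h.o1]; exact (Commute.refl r1).pow_pow _ _
  have c5 : Commute z (r2 ^ 2 ^ n) := by
    rw [← h.o2]; exact (Commute.refl r2).pow_pow _ _
  have e3 : s ^ 2 ^ (n + 1) = z * (r2 ^ 2 ^ n)⁻¹ * r1 ^ 2 ^ n := by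
    rw [← e]; group
  rw [e3]
  have c6 : Commute (z * (r2 ^ 2 ^ n)⁻¹) (r1 ^ 2 ^ n) := c4.mul_left c3.symm.inv_left
  rw [c6.eq, c5.inv_right.eq, mul_assoc]

theorem sN : s ^ 2 ^ (n + 2) = 1 := by
  have c12 : Commute r1 r2 := h.c12
  have c3 : Commute (r1 ^ 2 ^ n) (r2 ^ 2 ^ n)⁻¹ := (c12.pow_pow _ _).inv_right
  have c4 : Commute (r1 ^ 2 ^ n) z := by
    rw [← h.o1]; exact (Commute.refl r1).pow_pow _ _
  have c5 : Commute (r2 ^ 2 ^ n)⁻¹ z := by
    rw [← h.o2]; exact ((Commute.refl r2).pow_pow _ _).inv_left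
  rw [show 2 ^ (n + 2) = 2 ^ (n + 1) * 2 from pow_succ _ _, pow_mul, h.ssq, (c4.mul_left c5).mul_pow, c3.mul_pow,
    ← pow_mul, inv_pow, ← pow_mul, ← pow_succ, h.o1, h.o2, h.zsq, mul_one, mul_inv_cancel]

theorem ord1 : orderOf r1 = 2 ^ (n + 2) :=
  orderOf_eq_prime_pow (by rw [h.o1]; exact h.z1) h.r1N

theorem ord2 : orderOf r2 = 2 ^ (n + 2) :=
  orderOf_eq_prime_pow (by rw [h.o2]; exact h.z1) h.r2N

theorem ordp : orderOf (s * s * r1⁻¹ * r2) = 2 ^ (n + 1) := by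
  refine orderOf_eq_prime_pow (by rw [h.op]; exact h.z1) ?_
  rw [pow_succ, pow_mul, h.op, h.zsq]

theorem F_add (x y w x' y' w' : ZMod (2 ^ (n + 2))) :
    F3 r1 r2 s (x + x') (y + y') (w + w') = F3 r1 r2 s x y w * F3 r1 r2 s x' y' w' := by
  have c12 : Commute r1 r2 := h.c12
  have c1s : Commute r1 s := h.c1s
  have c2s : Commute r2 s := h.c2s
  unfold F3
  rw [pw_add h.r1N, pw_add h.r2N, pw_add h.sN]
  have k1 : Commute (pw r1 x') (pw r2 y) := pw_comm c12 _ _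
  have k2 : Commute (pw r1 x') (pw s w) := pw_comm c1s _ _
  have k3 : Commute (pw r2 y') (pw s w) := pw_comm c2s _ _
  calc pw r1 x * pw r1 x' * (pw r2 y * pw r2 y') * (pw s w * pw s w')
      = pw r1 x * (pw r1 x' * pw r2 y) * (pw r2 y' * pw s w) * pw s w' := by simp only [mul_assoc]
    _ = pw r1 x * (pw r2 y * pw r1 x') * (pw s w * pw r2 y') * pw s w' := by rw [k1.eq, k3.eq]
    _ = pw r1 x * pw r2 y * (pw r1 x' * pw s w) * pw r2 y' * pw s w' := by simp only [mul_assoc]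
    _ = pw r1 x * pw r2 y * (pw s w * pw r1 x') * pw r2 y' * pw s w' := by rw [k2.eq]
    _ = _ := by simp only [mul_assoc]

theorem F_zero : F3 r1 r2 s (0 : ZMod (2 ^ (n + 2))) 0 0 = 1 := by
  unfold F3
  rw [pw_zero, pw_zero, pw_zero, one_mul, one_mul]

theorem d_F (x y w : ZMod (2 ^ (n + 2))) : d1 * F3 r1 r2 s x y w * d1⁻¹ = F3 r1 r2 s (-x - w) y w := by
  have c12 : Commute r1 r2 := h.c12
  have c1s : Commute r1 s := h.c1s
  have c2s : Commute r2 s := h.c2s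
  have e : d1 * F3 r1 r2 s x y w * d1⁻¹ = (d1 * pw r1 x * d1⁻¹) * (d1 * pw r2 y * d1⁻¹) * (d1 * pw s w * d1⁻¹) := by
    unfold F3; group
  rw [e, pw_conj, pw_conj, pw_conj, h.d_r1, h.d_r2, h.d_s, pw_inv, pw_mul c1s.symm.inv_right, pw_inv]
  unfold F3
  rw [sub_eq_add_neg, pw_add h.r1N, pw_neg h.r1N, pw_neg h.r1N]
  have k1 : Commute (pw r1 w)⁻¹ (pw r2 y) := (pw_comm c12 _ _).inv_left
  have k2 : Commute (pw r1 w)⁻¹ (pw s w) := (pw_comm c1s _ _).inv_left
  calc (pw r1 x)⁻¹ * pw r2 y * (pw s w * (pw r1 w)⁻¹) = (pw r1 x)⁻¹ * pw r2 y * ((pw r1 w)⁻¹ * pw s w) := by rw [k2.eq]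
    _ = (pw r1 x)⁻¹ * (pw r2 y * (pw r1 w)⁻¹) * pw s w := by simp only [mul_assoc]
    _ = (pw r1 x)⁻¹ * ((pw r1 w)⁻¹ * pw r2 y) * pw s w := by rw [k1.eq]
    _ = _ := by simp only [mul_assoc]

theorem t_r2 : t * r2 * t⁻¹ = r1 := by
  have ht : t⁻¹ = t := inv_eq_of_mul_eq_one_left h.tt
  rw [← h.t_r1, ht]
  calc t * (t * r1 * t) * t = (t * t) * r1 * (t * t) := by group
    _ = r1 := by rw [h.tt]; group

theorem t_F (x y w : ZMod (2 ^ (n + 2))) : t * F3 r1 r2 s x y w * t⁻¹ = F3 r1 r2 s y x (-w) := by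
  have c12 : Commute r1 r2 := h.c12
  have e : t * F3 r1 r2 s x y w * t⁻¹ = (t * pw r1 x * t⁻¹) * (t * pw r2 y * t⁻¹) * (t * pw s w * t⁻¹) := by
    unfold F3; group
  rw [e, pw_conj, pw_conj, pw_conj, h.t_r1, h.t_r2, h.t_s, pw_inv]
  unfold F3
  rw [pw_neg h.sN, (pw_comm c12 _ _).eq]

theorem dm_mul (σ : Perm (Fin 4)) (hσ : σ ∈ Dih) (τ : Perm (Fin 4)) (hτ : τ ∈ Dih) :
    dm d1 t (σ * τ) = dm d1 t σ * dm d1 t τ := by
  have ht : t⁻¹ = t := inv_eq_of_mul_eq_one_left h.tt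
  unfold dm
  rw [code_mul σ hσ τ hτ]
  apply ev_mul h.dd _ h.tt h.cdt.symm
  · group
  · rw [ht]
    calc t * (t * d1 * t) = (t * t) * d1 * t := by group
      _ = d1 * t := by rw [h.tt, one_mul]
  · calc t * d1 * t⁻¹ * (t * d1 * t⁻¹) = t * (d1 * d1) * t⁻¹ := by group
      _ = 1 := by rw [h.dd]; group

theorem dm_one : dm d1 t 1 = 1 := by unfold dm; rw [code_one]; simp [ev]
theorem dm_su : dm d1 t su = d1 := by unfold dm; rw [code_su]; simp [ev]
theorem dm_sw : dm d1 t sw = t := by unfold dm; rw [code_sw]; simp [ev]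

theorem f_add (a b : Fin 4 → ZMod (2 ^ (n + 2))) : ft r1 r2 s (a + b) = ft r1 r2 s a * ft r1 r2 s b := by
  unfold ft
  rw [← h.F_add]
  simp only [Pi.add_apply]
  congr 1 <;> ring

theorem f_zero : ft r1 r2 s (0 : Fin 4 → ZMod (2 ^ (n + 2))) = 1 := by
  unfold ft
  simp only [Pi.zero_apply, neg_zero, add_zero]
  exact h.F_zero

theorem f_neg (a : Fin 4 → ZMod (2 ^ (n + 2))) : ft r1 r2 s (-a) = (ft r1 r2 s a)⁻¹ := by
  have h1 := h.f_add a (-a)
  rw [add_neg_cancel, h.f_zero] at h1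
  exact eq_inv_of_mul_eq_one_right h1.symm

/-- The action of `d σ` on the torus. -/
def Act (d1 t r1 r2 s : G) (n : ℕ) (σ : Perm (Fin 4)) : Prop :=
  ∀ a : Fin 4 → ZMod (2 ^ (n + 2)), ∑ i, a i = 0 →
    dm d1 t σ * ft r1 r2 s a = ft r1 r2 s (fun i => a (σ⁻¹ i)) * dm d1 t σ

theorem act_su : Act d1 t r1 r2 s n su := by
  intro a ha
  rw [h.dm_su, ← mul_inv_eq_iff_eq_mul]
  unfold ft
  rw [h.d_F]
  have e0 : su⁻¹ 0 = 1 := by decide
  have e1 : su⁻¹ 1 = 0 := by decide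
  have e3 : su⁻¹ 3 = 3 := by decide
  simp only [e0, e1, e3]
  congr 1 <;> ring

theorem act_sw : Act d1 t r1 r2 s n sw := by
  intro a ha
  rw [h.dm_sw, ← mul_inv_eq_iff_eq_mul]
  unfold ft
  rw [h.t_F]
  have e0 : sw⁻¹ 0 = 2 := by decide
  have e1 : sw⁻¹ 1 = 3 := by decide
  have e3 : sw⁻¹ 3 = 1 := by decide
  simp only [e0, e1, e3]
  rw [Fin.sum_univ_four] at ha
  congr 1
  linear_combination -ha

theorem act_mul {σ τ : Perm (Fin 4)} (hσ : σ ∈ Dih) (hτ : τ ∈ Dih) (h1 : Act d1 t r1 r2 s n σ)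
    (h2 : Act d1 t r1 r2 s n τ) : Act d1 t r1 r2 s n (σ * τ) := by
  intro a ha
  rw [h.dm_mul σ hσ τ hτ, mul_assoc, h2 a ha, ← mul_assoc, h1 _ (sum_comp_inv ha τ), mul_assoc]
  rfl

theorem act (σ : Perm (Fin 4)) (hσ : σ ∈ Dih) : Act d1 t r1 r2 s n σ := by
  have hu := su_mem
  have hw := sw_mem
  have au := h.act_su
  have aw := h.act_sw
  have hd : sw * su * sw ∈ Dih := Dih.mul_mem (Dih.mul_mem hw hu) hw
  have ad : Act d1 t r1 r2 s n (sw * su * sw) := h.act_mul (Dih.mul_mem hw hu) hw (h.act_mul hw hu aw au) aw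
  rcases Dih_cases σ hσ with rfl | rfl | rfl | rfl | rfl | rfl | rfl | rfl
  · intro a ha
    rw [h.dm_one, one_mul, mul_one]
    rfl
  · exact au
  · exact ad
  · exact h.act_mul hu hd au ad
  · exact aw
  · exact h.act_mul hu hw au aw
  · exact h.act_mul hd hw ad aw
  · exact h.act_mul (Dih.mul_mem hu hd) hw (h.act_mul hu hd au ad) aw

theorem eq_of_double {p : ZMod (2 ^ (n + 2))} (hp : 2 ^ n ∣ p.val) : pw (s * s * r1⁻¹ * r2) p = pw r2 (p + p) := by
  obtain ⟨c, hc⟩ := hp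
  rw [pw_add h.r2N]
  unfold pw
  rw [hc, pow_mul, h.op, ← pow_add, ← two_mul, ← mul_assoc, ← pow_succ', pow_mul, h.o2]

theorem F_p (u v : ZMod (2 ^ (n + 2))) :
    F3 r1 r2 s (-u) (-v) (u + u) = pw (s * s * r1⁻¹ * r2) u * pw r2 (-u - v) := by
  have c12 : Commute r1 r2 := h.c12
  have c1s : Commute r1 s := h.c1s
  have c2s : Commute r2 s := h.c2s
  rw [pw_mul ((c2s.symm.mul_left c2s.symm).mul_left c12.inv_left), pw_mul (c1s.symm.mul_left c1s.symm).inv_right,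
    pw_mul (Commute.refl s), pw_inv, sub_eq_add_neg, pw_add h.r2N, pw_neg h.r2N]
  unfold F3
  rw [pw_add h.sN, pw_neg h.r1N]
  have k1 : Commute (pw r1 u)⁻¹ (pw r2 (-v)) := (pw_comm c12 _ _).inv_left
  have k2 : Commute (pw r1 u)⁻¹ (pw s u * pw s u) :=
    ((pw_comm c1s _ _).inv_left).mul_right ((pw_comm c1s _ _).inv_left)
  have k3 : Commute (pw r2 (-v)) (pw s u * pw s u) := (pw_comm c2s _ _).mul_right (pw_comm c2s _ _)
  calc (pw r1 u)⁻¹ * pw r2 (-v) * (pw s u * pw s u) = (pw r1 u)⁻¹ * (pw r2 (-v) * (pw s u * pw s u)) := by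
        simp only [mul_assoc]
    _ = (pw r1 u)⁻¹ * (pw s u * pw s u) * pw r2 (-v) := by rw [k3.eq]; simp only [mul_assoc]
    _ = pw s u * pw s u * (pw r1 u)⁻¹ * pw r2 (-v) := by rw [k2.eq]
    _ = _ := by simp only [mul_assoc, mul_inv_cancel_left]

theorem f_eq_one {a : Fin 4 → ZMod (2 ^ (n + 2))} (ha : ∑ i, a i = 0) : ft r1 r2 s a = 1 ↔ ∀ i, a i = a 0 := by
  constructor
  · intro e
    have key : ∀ σ ∈ Dih, ft r1 r2 s (-(fun i => a (σ⁻¹ i)) + a) = 1 := by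
      intro σ hσ
      have h1 := h.act σ hσ a ha
      rw [e, mul_one] at h1
      rw [h.f_add, h.f_neg, mul_eq_right.1 h1.symm, e, inv_one, one_mul]
    have e0 : su⁻¹ 0 = 1 := by decide
    have e1 : su⁻¹ 1 = 0 := by decide
    have e3 : su⁻¹ 3 = 3 := by decide
    have f0 : (sw * su * sw)⁻¹ 0 = 0 := by decide
    have f1 : (sw * su * sw)⁻¹ 1 = 1 := by decide
    have f3 : (sw * su * sw)⁻¹ 3 = 2 := by decide
    have k1 := key su su_mem
    have k2 := key (sw * su * sw) (Dih.mul_mem (Dih.mul_mem sw_mem su_mem) sw_mem)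
    unfold ft F3 at k1 k2
    simp only [Pi.add_apply, Pi.neg_apply, e0, e1, e3, f0, f1, f3] at k1 k2
    have x1 : -(-a 3 + a 3) = 0 := by ring
    have x2 : -a 1 + a 0 + (-a 0 + a 1) = 0 := by ring
    have x3 : -(-a 1 + a 1) = 0 := by ring
    have x4 : -a 0 + a 0 + (-a 1 + a 1) = 0 := by ring
    rw [x1, x2, pw_zero, pw_zero, mul_one, mul_one] at k1
    rw [x3, x4, pw_zero, pw_zero, one_mul, mul_one] at k2
    have a1 : a 1 = a 0 := by
      have := pw_eq_one h.ord1 k1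
      linear_combination -this
    have a3 : a 3 = a 2 := by
      have := pw_eq_one h.ord2 k2
      linear_combination -this
    have e' : F3 r1 r2 s (-a 0) (-a 2) (a 0 + a 0) = 1 := by
      have := e
      unfold ft at this
      rw [a1, a3] at this
      exact this
    rw [h.F_p] at e'
    rw [Fin.sum_univ_four, a1, a3] at ha
    have d0 : (2 ^ n) ∣ (a 0).val := by
      have t1 : pw (s * s * r1⁻¹ * r2) (a 0) ^ 2 = 1 := by
        have t2 : pw r2 (-a 0 - a 2) ^ 2 = 1 := by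
          rw [pow_two, ← pw_add h.r2N]
          have : -a 0 - a 2 + (-a 0 - a 2) = 0 := by linear_combination -ha
          rw [this, pw_zero]
        have t3 := mul_eq_one_iff_eq_inv.1 e'
        rw [t3, inv_pow, t2, inv_one]
      unfold pw at t1
      rw [← pow_mul] at t1
      have t4 := orderOf_dvd_of_pow_eq_one t1
      rw [h.ordp, pow_succ] at t4
      exact Nat.dvd_of_mul_dvd_mul_right (by norm_num) t4
    rw [h.eq_of_double d0, ← pw_add h.r2N] at e'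
    have a2 : a 2 = a 0 := by
      have := pw_eq_one h.ord2 e'
      linear_combination -this
    intro i
    fin_cases i
    · rfl
    · exact a1
    · exact a2
    · exact a3.trans a2
  · intro hc
    have h4 : a 0 + a 0 + a 0 + a 0 = 0 := by
      rw [Fin.sum_univ_four, hc 1, hc 2, hc 3] at ha
      exact ha
    have d0 : (2 ^ n) ∣ (a 0).val := by
      have t1 : ((4 * (a 0).val : ℕ) : ZMod (2 ^ (n + 2))) = 0 := by
        push_cast
        rw [ZMod.natCast_zmod_val]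
        linear_combination h4
      rw [ZMod.natCast_eq_zero_iff] at t1
      have t2 : 2 ^ (n + 2) = 4 * 2 ^ n := by ring
      have t3 : 4 * 2 ^ n ∣ 4 * (a 0).val := t2 ▸ t1
      exact Nat.dvd_of_mul_dvd_mul_left (by norm_num) t3
    have e1 : ft r1 r2 s a = F3 r1 r2 s (-a 0) (-a 0) (a 0 + a 0) := by
      unfold ft
      rw [hc 1, hc 3]
    rw [e1, h.F_p, h.eq_of_double d0, ← pw_add h.r2N]
    have : a 0 + a 0 + (-a 0 - a 0) = 0 := by ring
    rw [this, pw_zero]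

theorem two_ne : (2 : ZMod (2 ^ (n + 2))) ≠ 0 := by
  intro e
  have e1 : ((2 : ℕ) : ZMod (2 ^ (n + 2))) = 0 := by exact_mod_cast e
  rw [ZMod.natCast_eq_zero_iff] at e1
  have e2 := Nat.le_of_dvd (by norm_num) e1
  have e3 : 2 ^ (n + 2) = 4 * 2 ^ n := by ring
  have e4 : 0 < 2 ^ n := by positivity
  omega

theorem uniq' (σ : Perm (Fin 4)) (hσ : σ ∈ Dih) (a : Fin 4 → ZMod (2 ^ (n + 2))) (_ : ∑ i, a i = 0)
    (e : ft r1 r2 s a * dm d1 t σ = 1) : σ = 1 := by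
  have key : ∀ b : Fin 4 → ZMod (2 ^ (n + 2)), ∑ i, b i = 0 →
      ∀ i, -b (σ⁻¹ i) + b i = -b (σ⁻¹ 0) + b 0 := by
    intro b hb
    have e1 : dm d1 t σ = ft r1 r2 s (-a) := by
      rw [h.f_neg]
      exact eq_inv_of_mul_eq_one_right e
    have h1 := h.act σ hσ b hb
    rw [e1, ← h.f_add, add_comm (-a) b, h.f_add] at h1
    have h2 := mul_right_cancel h1
    have h3 : ft r1 r2 s (-(fun i => b (σ⁻¹ i)) + b) = 1 := by
      rw [h.f_add, h.f_neg, ← h2, inv_mul_cancel]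
    exact (h.f_eq_one (sum_add (sum_neg (sum_comp_inv hb σ)) hb)).1 h3
  by_contra hne
  have hz := h.two_ne
  have fin : ∀ b : Fin 4 → ℤ, ∑ i, b i = 0 → ¬ ∃ i, (b (σ⁻¹ i) - b i) - (b (σ⁻¹ 0) - b 0) = 2 := by
    rintro b hb ⟨i, hi⟩
    have h1 := key (fun i => ((b i : ℤ) : ZMod (2 ^ (n + 2)))) (by rw [← Int.cast_sum, hb, Int.cast_zero]) i
    have h2 : (((b (σ⁻¹ i) - b i) - (b (σ⁻¹ 0) - b 0) : ℤ) : ZMod (2 ^ (n + 2))) = 2 := by rw [hi]; norm_num
    push_cast at h2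
    apply hz
    linear_combination -h2 - h1
  rcases diff_two σ hσ hne with h1 | h1
  · exact fin b1 (by decide) h1
  · exact fin b2 (by decide) h1

theorem r1_eq : r1 = ft r1 r2 s (![1, -1, 0, 0] : Fin 4 → ZMod (2 ^ (n + 2))) := by
  have hN : 1 < 2 ^ (n + 2) := Nat.one_lt_two_pow (by omega)
  change r1 = pw r1 (- (-1)) * pw r2 (-0) * pw s (1 + -1)
  rw [neg_neg, neg_zero, add_neg_cancel, pw_zero, pw_zero, mul_one, mul_one, pw_one hN]

theorem r2_eq : r2 = ft r1 r2 s (![0, 0, 1, -1] : Fin 4 → ZMod (2 ^ (n + 2))) := by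
  have hN : 1 < 2 ^ (n + 2) := Nat.one_lt_two_pow (by omega)
  change r2 = pw r1 (-0) * pw r2 (-(-1)) * pw s (0 + 0)
  rw [neg_neg, neg_zero, add_zero, pw_zero, pw_zero, mul_one, one_mul, pw_one hN]

theorem s_eq : s = ft r1 r2 s (![1, 0, -1, 0] : Fin 4 → ZMod (2 ^ (n + 2))) := by
  have hN : 1 < 2 ^ (n + 2) := Nat.one_lt_two_pow (by omega)
  change s = pw r1 (-0) * pw r2 (-0) * pw s (1 + 0)
  rw [neg_zero, add_zero, pw_zero, pw_zero, one_mul, one_mul, pw_one hN]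

/-- The group with coordinates, as a subgroup. -/
def cs : Subgroup G where
  carrier := {g | ∃ a : Fin 4 → ZMod (2 ^ (n + 2)), ∑ i, a i = 0 ∧ ∃ σ ∈ Dih, g = ft r1 r2 s a * dm d1 t σ}
  mul_mem' := by
    rintro x y ⟨a, ha, σ, hσ, rfl⟩ ⟨b, hb, τ, hτ, rfl⟩
    refine ⟨a + fun i => b (σ⁻¹ i), sum_add ha (sum_comp_inv hb σ), σ * τ, Dih.mul_mem hσ hτ, ?_⟩
    rw [h.f_add, h.dm_mul σ hσ τ hτ]
    have := h.act σ hσ b hb
    calc ft r1 r2 s a * dm d1 t σ * (ft r1 r2 s b * dm d1 t τ)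
        = ft r1 r2 s a * (dm d1 t σ * ft r1 r2 s b) * dm d1 t τ := by group
      _ = _ := by rw [this]; group
  one_mem' := ⟨0, by simp, 1, Dih.one_mem, by rw [h.f_zero, h.dm_one, one_mul]⟩
  inv_mem' := by
    rintro x ⟨a, ha, σ, hσ, rfl⟩
    have hσ' := Dih.inv_mem hσ
    refine ⟨-fun i => a (σ⁻¹⁻¹ i), sum_neg (sum_comp_inv ha σ⁻¹), σ⁻¹, hσ', ?_⟩
    have h1 : dm d1 t σ⁻¹ = (dm d1 t σ)⁻¹ := by
      have h2 := h.dm_mul σ hσ σ⁻¹ hσ'
      rw [mul_inv_cancel, h.dm_one] at h2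
      exact eq_inv_of_mul_eq_one_right h2.symm
    have h3 := h.act σ⁻¹ hσ' (-a) (sum_neg ha)
    have h4 : (fun i => (-a) (σ⁻¹⁻¹ i)) = -fun i => a (σ⁻¹⁻¹ i) := rfl
    rw [h4] at h3
    rw [← h3, h.f_neg, h1, mul_inv_rev]

theorem mem_iff' (g : G) : g ∈ S ↔ ∃ a : Fin 4 → ZMod (2 ^ (n + 2)), ∑ i, a i = 0 ∧ ∃ σ ∈ Dih,
    g = ft r1 r2 s a * dm d1 t σ := by
  have hr1 : r1 ∈ S := by rw [h.gen]; exact Subgroup.subset_closure (by simp)
  have hr2 : r2 ∈ S := by rw [h.gen]; exact Subgroup.subset_closure (by simp)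
  have hs : s ∈ S := by rw [h.gen]; exact Subgroup.subset_closure (by simp)
  have hd : d1 ∈ S := by rw [h.gen]; exact Subgroup.subset_closure (by simp)
  have ht : t ∈ S := by rw [h.gen]; exact Subgroup.subset_closure (by simp)
  constructor
  · intro hg
    have hle : S ≤ h.cs := by
      refine h.gen.le.trans ?_
      rw [Subgroup.closure_le]
      rintro x (rfl | rfl | rfl | rfl | rfl)
      · exact ⟨![1, -1, 0, 0], by rw [Fin.sum_univ_four]; change (1 : ZMod (2 ^ (n + 2))) + -1 + 0 + 0 = 0; ring,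
          1, Dih.one_mem, by rw [h.dm_one, mul_one, ← h.r1_eq]⟩
      · exact ⟨![0, 0, 1, -1], by rw [Fin.sum_univ_four]; change (0 : ZMod (2 ^ (n + 2))) + 0 + 1 + -1 = 0; ring,
          1, Dih.one_mem, by rw [h.dm_one, mul_one, ← h.r2_eq]⟩
      · exact ⟨![1, 0, -1, 0], by rw [Fin.sum_univ_four]; change (1 : ZMod (2 ^ (n + 2))) + 0 + -1 + 0 = 0; ring,
          1, Dih.one_mem, by rw [h.dm_one, mul_one, ← h.s_eq]⟩
      · exact ⟨0, by simp, su, su_mem, by rw [h.dm_su, h.f_zero, one_mul]⟩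
      · exact ⟨0, by simp, sw, sw_mem, by rw [h.dm_sw, h.f_zero, one_mul]⟩
    exact hle hg
  · rintro ⟨a, -, σ, -, rfl⟩
    refine S.mul_mem ?_ ?_
    · unfold ft F3 pw
      exact S.mul_mem (S.mul_mem (S.pow_mem hr1 _) (S.pow_mem hr2 _)) (S.pow_mem hs _)
    · unfold dm ev
      refine S.mul_mem (S.mul_mem ?_ ?_) ?_
      · split
        · exact hd
        · exact S.one_mem
      · split
        · exact S.mul_mem (S.mul_mem ht hd) (S.inv_mem ht)
        · exact S.one_mem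
      · split
        · exact ht
        · exact S.one_mem

/-- The coordinates. -/
theorem mb : MB S (n + 2) (ft r1 r2 s) (dm d1 t) where
  hk := by omega
  f_add a b _ _ := h.f_add a b
  f_one _ ha := h.f_eq_one ha
  d_mul := h.dm_mul
  d_f := h.act
  uniq := h.uniq'
  mem_iff := h.mem_iff'

/-- A group with these generators and relations is of type `PSL_4(q)`. -/
theorem typeL4 : Cfsg.Agent.GH.Defs.TypeL4 ↥S := typeL4_of_MB h.mb

end LR

/-- The same relations with an element `w` of square `z` inverting `r1` instead of the involution `d1 = w j`. -/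
structure LQ (S : Subgroup G) (n : ℕ) (z r1 r2 s w t : G) : Prop where
  z1 : z ≠ 1
  zz : z * z = 1
  c12 : r1 * r2 = r2 * r1
  c1s : r1 * s = s * r1
  c2s : r2 * s = s * r2
  o1 : r1 ^ 2 ^ (n + 1) = z
  o2 : r2 ^ 2 ^ (n + 1) = z
  op : (s * s * r1⁻¹ * r2) ^ 2 ^ n = z
  ww : w * w = z
  w_r1 : w * r1 * w⁻¹ = r1⁻¹
  w_r2 : w * r2 * w⁻¹ = r2
  w_s : w * s * w⁻¹ = s * r1⁻¹
  tt : t * t = 1
  t_r1 : t * r1 * t⁻¹ = r2
  t_s : t * s * t⁻¹ = s⁻¹
  cwt : w * (t * w * t⁻¹) = t * w * t⁻¹ * w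
  gen : S = Subgroup.closure {r1, r2, s, w, t}

/-- From `w` to `d1 = w j`, `j = r1 ^ 2 ^ n * r2 ^ 2 ^ n`. -/
theorem LQ.lr {S : Subgroup G} {n : ℕ} {z r1 r2 s w t : G} (h : LQ S n z r1 r2 s w t) :
    LR S n z r1 r2 s (w * (r1 ^ 2 ^ n * r2 ^ 2 ^ n)) t := by
  have c12 : Commute r1 r2 := h.c12
  have c1s : Commute r1 s := h.c1s
  have c2s : Commute r2 s := h.c2s
  have zi : z⁻¹ = z := inv_eq_of_mul_eq_one_left h.zz
  have ti : t⁻¹ = t := inv_eq_of_mul_eq_one_left h.tt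
  obtain ⟨x, hx⟩ : ∃ x, r1 ^ 2 ^ n = x := ⟨_, rfl⟩
  obtain ⟨y, hy⟩ : ∃ y, r2 ^ 2 ^ n = y := ⟨_, rfl⟩
  have xx : x * x = z := by
    rw [← hx, ← pow_add, ← two_mul, ← pow_succ', h.o1]
  have yy : y * y = z := by
    rw [← hy, ← pow_add, ← two_mul, ← pow_succ', h.o2]
  have cxy : Commute x y := by rw [← hx, ← hy]; exact c12.pow_pow _ _
  have cx1 : Commute x r1 := by rw [← hx]; exact (Commute.refl r1).pow_left _
  have cx2 : Commute x r2 := by rw [← hx]; exact c12.pow_left _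
  have cxs : Commute x s := by rw [← hx]; exact c1s.pow_left _
  have cy1 : Commute y r1 := by rw [← hy]; exact c12.symm.pow_left _
  have cy2 : Commute y r2 := by rw [← hy]; exact (Commute.refl r2).pow_left _
  have cys : Commute y s := by rw [← hy]; exact c2s.pow_left _
  have cxz : Commute x z := by rw [← xx]; exact (Commute.refl x).mul_right (Commute.refl x)
  have cyz : Commute y z := by rw [← yy]; exact (Commute.refl y).mul_right (Commute.refl y)
  have wx : w * x * w⁻¹ = x⁻¹ := by rw [← hx, ← conj_pow, h.w_r1, inv_pow]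
  have wy : w * y * w⁻¹ = y := by rw [← hy, ← conj_pow, h.w_r2]
  have tx : t * x * t⁻¹ = y := by rw [← hx, ← conj_pow, h.t_r1, hy]
  have t_r2 : t * r2 * t⁻¹ = r1 := by
    rw [← h.t_r1, ti]
    calc t * (t * r1 * t) * t = (t * t) * r1 * (t * t) := by group
      _ = r1 := by rw [h.tt]; group
  have ty : t * y * t⁻¹ = x := by rw [← hy, ← conj_pow, t_r2, hx]
  obtain ⟨v, hv⟩ : ∃ v, t * w * t⁻¹ = v := ⟨_, rfl⟩
  have xi : x⁻¹ = x * z := by
    rw [inv_eq_iff_mul_eq_one, ← mul_assoc, xx, h.zz]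
  have wj : w * (x * y) * w⁻¹ = x * y * z := by
    have : w * (x * y) * w⁻¹ = (w * x * w⁻¹) * (w * y * w⁻¹) := by group
    rw [this, wx, wy, xi, mul_assoc, ← cyz.eq, ← mul_assoc]
  have jj : x * y * (x * y) = 1 := by
    calc x * y * (x * y) = x * (y * x) * y := by group
      _ = x * (x * y) * y := by rw [cxy.eq]
      _ = (x * x) * (y * y) := by group
      _ = 1 := by rw [xx, yy, h.zz]
  have tj : t * (x * y) * t⁻¹ = x * y := by
    have : t * (x * y) * t⁻¹ = (t * x * t⁻¹) * (t * y * t⁻¹) := by group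
    rw [this, tx, ty, cxy.eq]
  have vj : v * (x * y) * v⁻¹ = x * y * z := by
    have tz : t * z * t⁻¹ = z := by
      rw [← xx]
      have : t * (x * x) * t⁻¹ = (t * x * t⁻¹) * (t * x * t⁻¹) := by group
      rw [this, tx, yy, xx]
    have tj' : t⁻¹ * (x * y) * t = x * y := by
      have e := tj
      calc t⁻¹ * (x * y) * t = t⁻¹ * (t * (x * y) * t⁻¹) * t := by rw [e]
        _ = x * y := by group
    rw [← hv]
    calc t * w * t⁻¹ * (x * y) * (t * w * t⁻¹)⁻¹ = t * (w * (t⁻¹ * (x * y) * t) * w⁻¹) * t⁻¹ := by group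
      _ = t * (x * y * z) * t⁻¹ := by rw [tj', wj]
      _ = (t * (x * y) * t⁻¹) * (t * z * t⁻¹) := by group
      _ = _ := by rw [tj, tz]
  have cjz : Commute (x * y) z := cxz.mul_left cyz
  have czw : Commute z w := by rw [← h.ww]; exact (Commute.refl w).mul_left (Commute.refl w)
  have czv : Commute z v := by
    have e : v * v = z := by
      have tz : t * z * t⁻¹ = z := by
        rw [← xx]
        have : t * (x * x) * t⁻¹ = (t * x * t⁻¹) * (t * x * t⁻¹) := by group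
        rw [this, tx, yy, xx]
      rw [← hv]
      calc t * w * t⁻¹ * (t * w * t⁻¹) = t * (w * w) * t⁻¹ := by group
        _ = z := by rw [h.ww, tz]
    rw [← e]; exact (Commute.refl v).mul_left (Commute.refl v)
  rw [hx, hy]
  obtain ⟨j, hj⟩ : ∃ j, x * y = j := ⟨_, rfl⟩
  have cj1 : Commute j r1 := by rw [← hj]; exact cx1.mul_left cy1
  have cj2 : Commute j r2 := by rw [← hj]; exact cx2.mul_left cy2
  have cjs : Commute j s := by rw [← hj]; exact cxs.mul_left cys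
  rw [hj] at wj jj tj vj cjz
  rw [hj]
  have ji : j⁻¹ = j := inv_eq_of_mul_eq_one_left jj
  have act : ∀ u, Commute j u → w * j * u * (w * j)⁻¹ = w * u * w⁻¹ := by
    intro u hu
    calc w * j * u * (w * j)⁻¹ = w * (j * u) * j⁻¹ * w⁻¹ := by group
      _ = w * (u * j) * j⁻¹ * w⁻¹ := by rw [hu.eq]
      _ = _ := by group
  have wj' : w * j = j * z * w := by rw [← wj]; group
  have vj' : v * j = j * z * v := by rw [← vj]; group
  refine ⟨h.z1, h.zz, h.c12, h.c1s, h.c2s, h.o1, h.o2, h.op, ?_, ?_, ?_, ?_, h.tt, h.t_r1, h.t_s, ?_, ?_⟩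
  · calc w * j * (w * j) = w * j * (j * z * w) := by rw [← wj']
      _ = w * (j * j) * z * w := by group
      _ = w * z * w := by rw [jj, mul_one]
      _ = (z * w) * w := by rw [czw.eq]
      _ = z * (w * w) := by group
      _ = 1 := by rw [h.ww, h.zz]
  · rw [act _ cj1, h.w_r1]
  · rw [act _ cj2, h.w_r2]
  · rw [act _ cjs, h.w_s]
  · have e : t * (w * j) * t⁻¹ = v * j := by
      rw [← hv]
      calc t * (w * j) * t⁻¹ = t * w * t⁻¹ * (t * j * t⁻¹) := by group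
        _ = _ := by rw [tj]
    rw [e]
    have cwv : w * v = v * w := by rw [← hv]; exact h.cwt
    calc w * j * (v * j) = w * j * (j * z * v) := by rw [← vj']
      _ = w * (j * j) * (z * v) := by group
      _ = w * (v * z) := by rw [jj, mul_one, czv.eq]
      _ = (w * v) * z := by group
      _ = v * (w * z) := by rw [cwv]; group
      _ = v * (z * w) := by rw [czw.eq]
      _ = v * ((j * j) * z * w) := by rw [jj, one_mul]
      _ = v * j * (j * z * w) := by group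
      _ = v * j * (w * j) := by rw [← wj']
  · apply le_antisymm
    · rw [h.gen, Subgroup.closure_le]
      have m1 : r1 ∈ Subgroup.closure {r1, r2, s, w * j, t} := Subgroup.subset_closure (by simp)
      have m2 : r2 ∈ Subgroup.closure {r1, r2, s, w * j, t} := Subgroup.subset_closure (by simp)
      have ms : s ∈ Subgroup.closure {r1, r2, s, w * j, t} := Subgroup.subset_closure (by simp)
      have mw : w * j ∈ Subgroup.closure {r1, r2, s, w * j, t} := Subgroup.subset_closure (by simp)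
      have mt : t ∈ Subgroup.closure {r1, r2, s, w * j, t} := Subgroup.subset_closure (by simp)
      have mj : j ∈ Subgroup.closure {r1, r2, s, w * j, t} := by
        have e : r1 ^ 2 ^ n * r2 ^ 2 ^ n = j := by rw [hx, hy, hj]
        have e' := Subgroup.mul_mem _ (Subgroup.pow_mem _ m1 (2 ^ n)) (Subgroup.pow_mem _ m2 (2 ^ n))
        rwa [e] at e'
      have mw' : w ∈ Subgroup.closure {r1, r2, s, w * j, t} := by
        have e' := Subgroup.mul_mem _ mw (Subgroup.inv_mem _ mj)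
        rwa [mul_inv_cancel_right] at e'
      rintro u (rfl | rfl | rfl | rfl | rfl)
      · exact m1
      · exact m2
      · exact ms
      · exact mw'
      · exact mt
    · rw [h.gen, Subgroup.closure_le]
      have m1 : r1 ∈ Subgroup.closure {r1, r2, s, w, t} := Subgroup.subset_closure (by simp)
      have m2 : r2 ∈ Subgroup.closure {r1, r2, s, w, t} := Subgroup.subset_closure (by simp)
      have ms : s ∈ Subgroup.closure {r1, r2, s, w, t} := Subgroup.subset_closure (by simp)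
      have mw : w ∈ Subgroup.closure {r1, r2, s, w, t} := Subgroup.subset_closure (by simp)
      have mt : t ∈ Subgroup.closure {r1, r2, s, w, t} := Subgroup.subset_closure (by simp)
      have mj : j ∈ Subgroup.closure {r1, r2, s, w, t} := by
        rw [← hj]
        refine Subgroup.mul_mem _ ?_ ?_
        · rw [← hx]; exact Subgroup.pow_mem _ m1 _
        · rw [← hy]; exact Subgroup.pow_mem _ m2 _
      rintro u (rfl | rfl | rfl | rfl | rfl)
      · exact m1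
      · exact m2
      · exact ms
      · exact Subgroup.mul_mem _ mw mj
      · exact mt

/-- A group with the relations `LQ` is of type `PSL_4(q)`. -/
theorem LQ.typeL4 {S : Subgroup G} {n : ℕ} {z r1 r2 s w t : G} (h : LQ S n z r1 r2 s w t) :
    Cfsg.Agent.GH.Defs.TypeL4 ↥S := h.lr.typeL4

end Rel

end Cfsg.Agent.Cit.TwoSylModel
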