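import Cfsg.Agent.Cit.TypeD4Const
import Cfsg.Agent.Cit.GenPiece

/-!
# All involutions `z_K`, `K ∈ Om(S)`, equal: the pieces of `C(x_k x_l)` modulo the core have charts

`pcStmt` : `TypeD4Const.PcStmt Om`.

* `not_cm` : for `n` from `EqHad.exists_swap` the images of `K i`, `K j` do not commute with the image of `J = (K i)^n`
  (`zz J = x₀x₁x₂x₃` acts as `x i`), so `K i` and `K j` are in the same piece, which is not a member;
* `false_of_trip` : `⟨x k, u k u l⟩`, dihedral of order eight with centre `z`, centralises `K i` and acts on the piece: this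
  is impossible for the pieces `G₂(q)`, `³D₄(q)`, `M₁₁`.
-/

set_option autoImplicit false
set_option linter.style.haveILetI false
set_option linter.unusedSectionVars false

namespace Cfsg.Agent.Cit.TypeD4Kind

open Subgroup Cfsg Relation Cfsg.Agent.Cit.EqClose Cfsg.Agent.Cit.EqHad Cfsg.Agent.Cit.UseT Cfsg.Agent.Cit.PieceG
open Cfsg.Agent.Cit.TypeD4Cor Cfsg.Agent.Cit.TypeD4Const Cfsg.Agent.Cit.TypeDet
open scoped commutatorElement

universe u

section Dih

variable {X : Type*} [Group X]

/-- a dihedral group of order eight acting on `D` trivially on `K` -/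
theorem false_of_trip {D K : Subgroup X} (h : GenChart.Trip D K) {y a : X} (hy : y * y = zz K) (hz : zz K * zz K = 1)
    (ha : a * a = 1) (hay : a * y * a⁻¹ = y⁻¹) (hyD : y ∈ normalizer (D : Set X)) (haD : a ∈ normalizer (D : Set X))
    (hyK : y ∈ centralizer (K : Set X)) (haK : a ∈ centralizer (K : Set X)) :
    ∀ d ∈ D, d * zz K = zz K * d := by
  have hai : a⁻¹ = a := inv_eq_of_mul_eq_one_right ha
  have hya : y * a * (y * a) = 1 := by
    calc y * a * (y * a) = y * (a * y * a⁻¹) * (a * a) := by group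
      _ = 1 := by rw [hay, ha, mul_inv_cancel, one_mul]
  have hyz : y * zz K = zz K * y := by rw [← hy, mul_assoc]
  have haz : a * zz K = zz K * a := by
    have h1 : a * zz K * a⁻¹ = zz K := by
      calc a * zz K * a⁻¹ = a * (y * y) * a⁻¹ := by rw [hy]
        _ = (a * y * a⁻¹) * (a * y * a⁻¹) := by group
        _ = (y * y)⁻¹ := by rw [hay]; group
        _ = zz K := by rw [hy]; exact inv_eq_of_mul_eq_one_right hz
    exact mul_inv_eq_iff_eq_mul.1 h1
  -- `D` centralises `a` or `a z`, and `y a` or `y a z`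
  have key : ∀ d ∈ D, ∀ b : X, (b = 1 ∨ b = zz K) → ∀ b' : X, (b' = 1 ∨ b' = zz K) →
      d * (a * b) = a * b * d → d * (y * a * b') = y * a * b' * d → d * zz K = zz K * d := by
    intro d _ b hb b' hb' h1 h2
    have cb : b * b = 1 := by rcases hb with rfl | rfl; exacts [one_mul 1, hz]
    have cb' : b' * b' = 1 := by rcases hb' with rfl | rfl; exacts [one_mul 1, hz]
    have e1 : a * b = b * a := by rcases hb with rfl | rfl; exacts [by rw [mul_one, one_mul], haz]
    have e2 : y * b = b * y := by rcases hb with rfl | rfl; exacts [by rw [mul_one, one_mul], hyz]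
    have e3 : y * b' = b' * y := by rcases hb' with rfl | rfl; exacts [by rw [mul_one, one_mul], hyz]
    have e4 : b * b' = b' * b := by
      rcases hb with rfl | rfl <;> rcases hb' with rfl | rfl
      exacts [rfl, by rw [mul_one, one_mul], by rw [mul_one, one_mul], rfl]
    have e5 : a * b' = b' * a := by rcases hb' with rfl | rfl; exacts [by rw [mul_one, one_mul], haz]
    -- `w = (y a b') (a b) = y b b'`
    have hw : (y * a * b') * (a * b) = y * (b * b') := by
      calc (y * a * b') * (a * b) = y * a * (b' * a) * b := by group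
        _ = y * (a * a) * b' * b := by rw [← e5]; group
        _ = y * (b * b') := by rw [ha, mul_one, mul_assoc, ← e4]
    have h3 : d * (y * (b * b')) = y * (b * b') * d := by
      rw [← hw]
      calc d * (y * a * b' * (a * b)) = (d * (y * a * b')) * (a * b) := by group
        _ = y * a * b' * (d * (a * b)) := by rw [h2]; group
        _ = _ := by rw [h1]; group
    have hq : y * (b * b') * (y * (b * b')) = zz K := by
      have e6 : (b * b') * y = y * (b * b') := by
        calc (b * b') * y = b * (b' * y) := by group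
          _ = (b * y) * b' := by rw [← e3]; group
          _ = y * (b * b') := by rw [← e2]; group
      have e7 : (b * b') * (b * b') = 1 := by
        calc (b * b') * (b * b') = b * (b' * b) * b' := by group
          _ = (b * b) * (b' * b') := by rw [← e4]; group
          _ = 1 := by rw [cb, cb', one_mul]
      calc y * (b * b') * (y * (b * b')) = y * ((b * b') * y) * (b * b') := by group
        _ = y * y * ((b * b') * (b * b')) := by rw [e6]; group
        _ = zz K := by rw [e7, hy, mul_one]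
    rw [← hq]
    generalize y * (b * b') = w at h3
    rw [← mul_assoc, h3, mul_assoc, h3, ← mul_assoc]
  intro d hd
  have mulc : ∀ {b : X}, D ≤ centralizer {b} → d * b = b * d := fun h1 => mem_centralizer_singleton_iff.1 (h1 hd)
  rcases h a ha haD haK with h1 | h1 <;> rcases h (y * a) hya (mul_mem hyD haD) (mul_mem hyK haK) with h2 | h2
  · exact key d hd 1 (Or.inl rfl) 1 (Or.inl rfl) (by rw [mul_one]; exact mulc h1) (by rw [mul_one]; exact mulc h2)
  · exact key d hd 1 (Or.inl rfl) _ (Or.inr rfl) (by rw [mul_one]; exact mulc h1) (mulc h2)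
  · exact key d hd _ (Or.inr rfl) 1 (Or.inl rfl) (mulc h1) (by rw [mul_one]; exact mulc h2)
  · exact key d hd _ (Or.inr rfl) _ (Or.inr rfl) (mulc h1) (mulc h2)

end Dih

/-- the involution of a member is not central in a quasisimple group which is not a member -/
theorem zz_notMem {X : Type*} [Group X] [Finite X] {F : Set (Subgroup X)} (h : Hyp F) {D K : Subgroup X}
    (hD : IsQuasisimple D) (hK : K ∈ F) (hKD : K ≤ D) (hDO : D ∉ F) : ¬ ∀ d ∈ D, d * zz K = zz K * d := by
  intro hc
  have h1 : D ≤ centralizer {zz K} := fun y hy => mem_centralizer_singleton_iff.2 (hc y hy)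
  have h2 : (K.subgroupOf D).IsSubnormal := (h.sub K hK).comap (inclusion h1)
  rcases Lib.ComponentSolvable.quasisimple_subnormal_cases hD h2 with h3 | h3
  · apply hDO
    rw [← le_antisymm hKD (subgroupOf_eq_top.1 h3)]
    exact hK
  · refine h.not_le_centralizer_self hK fun x hx y hy => ?_
    have h4 := h3 (show (⟨x, hKD hx⟩ : D) ∈ K.subgroupOf D from hx)
    exact congrArg Subtype.val (mem_center_iff.1 h4 ⟨y, hKD hy⟩)

variable {G : Type u} [Group G] [Finite G] {Om : Set (Subgroup G)}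

/-- an involution acting on `K i ⊓ S` as `x i` does not commute with the image of `K i` -/
theorem not_cm {H A J : Subgroup G} (hAH : A ≤ H) (hJH : J ≤ H) {u z s : G} (hu : u ∈ A) (hs : s ∈ J)
    (hz : z * z = 1) (hz1 : z ≠ 1) (hsu : s * u * s⁻¹ = u * z) : ¬ cm (bar H A) (bar H J) := by
  intro hc
  have h1 := hc _ (mem_bar (x := ⟨u, hAH hu⟩) hu) _ (mem_bar (x := ⟨s, hJH hs⟩) hs)
  rw [← map_mul, ← map_mul] at h1
  have h2 : z = u⁻¹ * (s * u * s⁻¹) := by rw [hsu]; group
  have hzH : z ∈ H := by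
    rw [h2]
    exact mul_mem (inv_mem (hAH hu)) (mul_mem (mul_mem (hJH hs) (hAH hu)) (inv_mem (hJH hs)))
  have h3 : qm H ⟨z, hzH⟩ = 1 := by
    have e1 : (⟨z, hzH⟩ : H) = (⟨u, hAH hu⟩ : H)⁻¹ * ((⟨s, hJH hs⟩ * ⟨u, hAH hu⟩) * (⟨s, hJH hs⟩ : H)⁻¹) :=
      Subtype.ext h2
    rw [e1, map_mul, map_mul, ← h1, map_mul, map_inv, map_inv]
    group
  have h4 := qm_eq_one_iff.1 h3
  exact hz1 (eq_one_of_odd (odd_OO H) h4 (a := 1) (by rw [pow_one, pow_two]; exact hz))

section

variable (hE : GenChart.ExcTrip.{u}) (ms : MinS Om) (e : EqFour Om) (c : EqCor Om) {S : Sylow 2 G} {K : Fin 4 → Subgroup G} {x : Fin 4 → G}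
  (hX : Xs Om (S : Subgroup G) K x)

include e hX in
/-- an element inverting `x i` -/
theorem exists_u (i : Fin 4) : ∃ u ∈ K i ⊓ (S : Subgroup G), u * u = zz (K 0) ∧ u * x i * u⁻¹ = (x i)⁻¹ := by
  obtain ⟨v, w, n, hq⟩ := e.hyp.exists_gq (hX.mem i).1 (syl_inf hX.two (hX.mem i))
  obtain ⟨u, hu, hu4, hux⟩ := hq.exists_inverting (hX.x_mem i) (hX.four i)
  refine ⟨u, hu, ?_, hux⟩
  rw [e.hyp.sq_eq_zz (hX.mem i).1 hu.1 hu4, zz_eq e hX i]

include e hX in
/-- `x₀x₁x₂x₃` acts on `K i ⊓ S` as `x i` -/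
theorem pr_conj (i : Fin 4) {u : G} (hu : u ∈ K i ⊓ (S : Subgroup G)) (hux : u * x i * u⁻¹ = (x i)⁻¹) :
    Xs.pr x * u * (Xs.pr x)⁻¹ = u * zz (K 0) := by
  have hcm : ∀ j, j ≠ i → x j * u = u * x j := fun j hj =>
    e.hyp.comm hX.two (hX.mem j) (hX.mem i) (fun h => hj (hX.inj h)) (hX.x_mem j) hu
  have hxi : x i * u * (x i)⁻¹ = u * zz (K 0) := by
    have h1 : u * x i = (x i)⁻¹ * u := by rw [← hux]; group
    have h2 : x i * (u * x i) = u := by rw [h1]; group
    calc x i * u * (x i)⁻¹ = (x i * (u * x i)) * ((x i)⁻¹ * (x i)⁻¹) := by group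
      _ = u * (x i * x i)⁻¹ := by rw [h2]; group
      _ = u * zz (K 0) := by rw [sq e hX i, e.hyp.zz_inv (hX.mem 0).1]
  have hxz : ∀ j, x j * zz (K 0) = zz (K 0) * x j := fun j => by rw [← sq e hX j, mul_assoc]
  have hcj : ∀ j, j ≠ i → x j * u * (x j)⁻¹ = u := fun j hj => by rw [hcm j hj]; group
  have hcz : ∀ j, j ≠ i → x j * (u * zz (K 0)) * (x j)⁻¹ = u * zz (K 0) := fun j hj => by
    calc x j * (u * zz (K 0)) * (x j)⁻¹ = (x j * u) * (zz (K 0) * (x j)⁻¹) := by group
      _ = u * (x j * zz (K 0)) * (x j)⁻¹ := by rw [hcm j hj]; group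
      _ = u * zz (K 0) := by rw [hxz j]; group
  have hp : Xs.pr x * u * (Xs.pr x)⁻¹ =
      x 0 * (x 1 * (x 2 * (x 3 * u * (x 3)⁻¹) * (x 2)⁻¹) * (x 1)⁻¹) * (x 0)⁻¹ := by
    unfold Xs.pr
    group
  rw [hp]
  have hi : i = 0 ∨ i = 1 ∨ i = 2 ∨ i = 3 := (by decide : ∀ i : Fin 4, i = 0 ∨ i = 1 ∨ i = 2 ∨ i = 3) i
  rcases hi with rfl | rfl | rfl | rfl
  · rw [hcj 3 (by decide), hcj 2 (by decide), hcj 1 (by decide), hxi]
  · rw [hcj 3 (by decide), hcj 2 (by decide), hxi, hcz 0 (by decide)]
  · rw [hcj 3 (by decide), hxi, hcz 1 (by decide), hcz 0 (by decide)]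
  · rw [hxi, hcz 2 (by decide), hcz 1 (by decide), hcz 0 (by decide)]

/-- an element of `H` normalising `K` normalises its piece -/
theorem mem_normalizer_PT (h : Hyp Om) {H A : Subgroup G} {g : G} (hg : g ∈ H) (hgA : cj g A = A) :
    qm H ⟨g, hg⟩ ∈ normalizer (PT Om H A : Set (HQ H)) := by
  rw [mem_normalizer_iff_cj, PT, cj_pc (fb_hyp h H).conj, ← cj_bar]
  change pc (fb Om H) (bar H (cj g A)) = _
  rw [hgA]

/-- commuting elements commute modulo the core -/
theorem mem_centralizer_bar {H A : Subgroup G} {g : G} (hg : g ∈ H) (hgA : ∀ a ∈ A, a * g = g * a) :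
    qm H ⟨g, hg⟩ ∈ centralizer (bar H A : Set (HQ H)) := by
  rw [mem_centralizer_iff]
  rintro _ ⟨a, ha, rfl⟩
  rw [← map_mul, ← map_mul]
  congr 1
  exact Subtype.ext (hgA a ha)

theorem cj_eq_of_comm {A : Subgroup G} {g : G} (hgA : ∀ a ∈ A, a * g = g * a) : cj g A = A := by
  rw [← mem_normalizer_iff_cj]
  refine centralizer_le_normalizer _ ?_
  rw [mem_centralizer_iff]
  exact hgA

include hE ms e c in
/-- **the pieces of `C(x_k x_l)` have charts** -/
theorem pcStmt : PcStmt Om := by
  intro S K x hX i j k l hij hik hil hjk hjl hkl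
  have h := e.hyp
  have C := corG_t ms e c hX hkl
  set H := centralizer {x k * x l} with hH
  have hiH := le_ct c e hX hik hil
  have hjH := le_ct c e hX hjk hjl
  have hf := fb_hyp h H
  have hz0 := h.zz_mul (hX.mem 0).1
  have hz1 := h.zz_ne (hX.mem 0).1
  -- the member `J`
  obtain ⟨n, -, hn, -, hnz, -, -, -⟩ := exists_swap e S hX rfl hkl
  have hnH : n ∈ H := mem_centralizer_singleton_iff.2 hn
  have hJ : cj n (K i) ∈ Om := h.conj _ (hX.mem i).1 n
  have hJH : cj n (K i) ≤ H := by
    intro a ha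
    rw [mem_cj] at ha
    have h1 := mul_mem (mul_mem hnH (hiH ha)) (inv_mem hnH)
    have h2 : n * (n⁻¹ * a * n) * n⁻¹ = a := by group
    rwa [h2] at h1
  have hzJ : zz (cj n (K i)) = Xs.pr x := by
    rw [h.zz_cj (hX.mem i).1, zz_eq e hX i, hnz]
  have hsJ : Xs.pr x ∈ cj n (K i) := by
    rw [← hzJ]
    exact h.zz_mem hJ
  have hnc : ∀ m, K m ≤ H → ¬ cm (bar H (K m)) (bar H (cj n (K i))) := by
    intro m hm
    obtain ⟨u, hu, -, hux⟩ := exists_u e hX m
    exact not_cm hm hJH hu.1 hsJ hz0 hz1 (pr_conj e hX m hu hux)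
  have hPT : ∀ m, K m ≤ H → PT Om H (K m) = PT Om H (cj n (K i)) := fun m hm =>
    pc_eq_of_chn (ReflTransGen.single ⟨bar_mem (hX.mem m).1 hm, bar_mem hJ hJH, hnc m hm⟩)
  have hns : PT Om H (K i) ∉ fb Om H := by
    intro hmem
    have h1 := hf.eq_of_le (bar_mem (hX.mem i).1 hiH) hmem bar_le_PT
    have h2 : bar H (cj n (K i)) = PT Om H (K i) := by
      refine hf.eq_of_le (bar_mem hJ hJH) hmem ?_
      rw [hPT i hiH]
      exact bar_le_PT
    have h3 := eq_of_bar_eq C (hX.mem i).1 hJ hiH hJH (h1.trans h2.symm)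
    obtain ⟨u, hu, -, hux⟩ := exists_u e hX i
    have h4 := pr_conj e hX i hu hux
    have h5 : Xs.pr x = zz (K i) := by rw [← hzJ, ← h3]
    have h6 : zz (K i) * u = u * zz (K i) :=
      (mem_centralizer_singleton_iff.1 (h.le_centralizer (hX.mem i).1 hu.1)).symm
    rw [h5, h6, mul_inv_cancel_right] at h4
    exact hz1 (by simpa using h4.symm)
  refine ⟨(hPT i hiH).trans (hPT j hjH).symm, ?_⟩
  -- no `G₂(q)`, `³D₄(q)`, `M₁₁`
  have hno : IsQuasisimple (PT Om H (K i)) → IsPGroup 2 (center (PT Om H (K i))) →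
      ((∃ p : ℕ, p.Prime ∧ p ≠ 2 ∧ IsG2D4 p (↥(PT Om H (K i)) ⧸ center (PT Om H (K i)))) ∨
        Spor.IsoM11 (↥(PT Om H (K i)) ⧸ center (PT Om H (K i)))) → False := by
    intro qs two hiso
    have hT := hE (HQ H) (fb Om H) (PT Om H (K i)) (bar H (K i)) hf
      (Ty.img (Ty.restr ms.ty H) (qm H) (not_dvd_ker H)) C.pcs.core qs two hiso (bar_mem (hX.mem i).1 hiH) bar_le_PT
    obtain ⟨uk, huk, huk2, hukx⟩ := exists_u e hX k
    obtain ⟨ul, hul, hul2, hulx⟩ := exists_u e hX l
    have hck := comm_inf c e hX hik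
    have hcl := comm_inf c e hX hil
    have hkl' : ∀ a ∈ K k ⊓ (S : Subgroup G), ∀ b ∈ K l ⊓ (S : Subgroup G), a * b = b * a := fun a ha b hb =>
      h.comm hX.two (hX.mem k) (hX.mem l) (fun h => hkl (hX.inj h)) ha hb
    have hai : ∀ a ∈ K i, a * (uk * ul) = uk * ul * a := fun a ha => by
      rw [← mul_assoc, hck a ha _ huk, mul_assoc, hcl a ha _ hul, mul_assoc]
    have hyi : ∀ a ∈ K i, a * x k = x k * a := fun a ha => hck a ha _ (hX.x_mem k)
    have hyH : x k ∈ H := by
      rw [hH, mem_centralizer_singleton_iff]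
      rw [mul_assoc, mul_comm' e hX l k]
    have hzx : ∀ m, (x m)⁻¹ = x m * zz (K 0) := fun m => by
      rw [← sq e hX m]
      have h1 : x m * (x m * (x m * x m)) = 1 := by
        calc x m * (x m * (x m * x m)) = (x m * x m) * (x m * x m) := by group
          _ = 1 := by rw [sq e hX m]; exact hz0
      exact inv_eq_of_mul_eq_one_right h1
    have haH : uk * ul ∈ H := by
      rw [hH, mem_centralizer_singleton_iff]
      have h1 : uk * ul * (x k * x l) * (uk * ul)⁻¹ = x k * x l := by
        have e1 := hkl' uk huk ul hul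
        have e2 := hkl' _ (hX.x_mem k) ul hul
        have e3 := hkl' uk huk _ (hX.x_mem l)
        calc uk * ul * (x k * x l) * (uk * ul)⁻¹ = uk * (ul * x k) * x l * ul⁻¹ * uk⁻¹ := by group
          _ = uk * x k * (ul * x l * ul⁻¹) * uk⁻¹ := by rw [← e2]; group
          _ = uk * x k * uk⁻¹ * (uk * (x l)⁻¹ * uk⁻¹) := by rw [hulx]; group
          _ = (x k)⁻¹ * (x l)⁻¹ := by
              rw [hukx]
              congr 1
              have : uk * (x l)⁻¹ = (x l)⁻¹ * uk := by
                rw [eq_inv_mul_iff_mul_eq, ← mul_assoc, ← e3, mul_inv_cancel_right]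
              rw [this, mul_inv_cancel_right]
          _ = x k * x l * (zz (K 0) * zz (K 0)) := by
              rw [hzx k, hzx l]
              have e4 : zz (K 0) * x l = x l * zz (K 0) := by rw [← sq e hX l, mul_assoc]
              calc x k * zz (K 0) * (x l * zz (K 0)) = x k * (zz (K 0) * x l) * zz (K 0) := by group
                _ = _ := by rw [e4]; group
          _ = x k * x l := by rw [hz0, mul_one]
      calc uk * ul * (x k * x l) = (uk * ul * (x k * x l) * (uk * ul)⁻¹) * (uk * ul) := by group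
        _ = _ := by rw [h1]
    have hzb : zz (bar H (K i)) = qm H ⟨zz (K 0), by
        have h1 := hiH (h.zz_mem (hX.mem i).1)
        rwa [zz_eq e hX i] at h1⟩ := by
      rw [bar, zz_map' (h.restr H) (not_dvd_ker H) (subgroupOf_mem_restr (hX.mem i).1 hiH)]
      congr 1
      apply Subtype.ext
      have h7 := zz_map h (subgroupOf_mem_restr (hX.mem i).1 hiH)
      rw [h7, map_subgroupOf_eq_of_le hiH]
      exact zz_eq e hX i
    have h1 := false_of_trip hT (y := qm H ⟨x k, hyH⟩) (a := qm H ⟨uk * ul, haH⟩) (by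
        rw [hzb, ← map_mul]
        congr 1
        exact Subtype.ext (sq e hX k)) (hf.zz_mul (bar_mem (hX.mem i).1 hiH)) (by
        rw [← map_mul, ← map_one (qm H)]
        congr 1
        apply Subtype.ext
        change uk * ul * (uk * ul) = 1
        calc uk * ul * (uk * ul) = uk * (ul * uk) * ul := by group
          _ = (uk * uk) * (ul * ul) := by rw [← hkl' uk huk ul hul]; group
          _ = 1 := by rw [huk2, hul2, hz0]) (by
        rw [← map_mul, ← map_inv, ← map_inv, ← map_mul]
        congr 1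
        apply Subtype.ext
        change uk * ul * x k * (uk * ul)⁻¹ = (x k)⁻¹
        calc uk * ul * x k * (uk * ul)⁻¹ = uk * (ul * x k) * ul⁻¹ * uk⁻¹ := by group
          _ = uk * x k * uk⁻¹ := by rw [← hkl' _ (hX.x_mem k) ul hul]; group
          _ = (x k)⁻¹ := hukx)
      (mem_normalizer_PT h hyH (cj_eq_of_comm hyi)) (mem_normalizer_PT h haH (cj_eq_of_comm hai))
      (mem_centralizer_bar hyH hyi) (mem_centralizer_bar haH hai)
    exact zz_notMem hf qs (bar_mem (hX.mem i).1 hiH) bar_le_PT hns h1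
  have hp := C.pcs.piece hf (bar_mem (hX.mem i).1 hiH)
  change Piece (fb Om H) (PT Om H (K i)) at hp
  cases hp with
  | single mem => exact (hns mem).elim
  | chart nmem qs two p ch τ kind ok small sl zx => exact ⟨τ, nmem, qs, ok, p, ch, kind, small, sl, zx⟩
  | exc qs two p prime odd iso ne zzc three => exact (hno qs two (Or.inl ⟨p, prime, odd, iso⟩)).elim
  | mathieu qs two iso ne mem => exact (hno qs two (Or.inr iso)).elim

end

end Cfsg.Agent.Cit.TypeD4Kind
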