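import Cfsg.Agent.Cit.FrameOf
import Cfsg.Agent.Lib.KleinGen

/-!
# LEMMA UQ for a four-group (project CIT)

`R` has odd order and is normalised by the commuting involutions `z`, `w`; `X` centralises `R` and `w`;
`D = ⁅R, z⁆`, `w` centralises `C_D(z)`; `⁅C_R(w), z⁆`, `⁅C_R(z w), z⁆` are `p`-groups with commutator subgroups
in `X`. Then `D` is a `p`-group (`R` solvable), `⁅D, D⁆ ≤ X` and `C_D(z) ≤ X`.

* `good_of_pair` : the form for `Long K X z`: `Good p X z`.
-/

set_option autoImplicit false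
set_option linter.unusedSectionVars false

namespace Cfsg.Agent.Cit.PairUQ

open Subgroup Cfsg
open Cfsg.Agent.Cit.Weights Cfsg.Agent.Cit.LemmaUQ Cfsg.Agent.Cit.Parab Cfsg.Agent.Cit.FrameOf
open Cfsg.Agent.Cit.LemmaA
open Cfsg.Agent.OddOrderLocal Cfsg.Agent.OddOrderLocal.PiCoreOf Cfsg.Agent.OddOrderLocal.FitCores
open scoped commutatorElement

variable {G : Type*} [Group G]

/-- The input. -/
structure In (R X : Subgroup G) (z w : G) : Prop where
  odd : Odd (Nat.card R)
  zz : z * z = 1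
  ww : w * w = 1
  zw : z * w = w * z
  zR : z ∈ normalizer (R : Set G)
  wR : w ∈ normalizer (R : Set G)
  XR : ∀ x ∈ X, ∀ r ∈ R, x * r = r * x
  Xw : ∀ x ∈ X, x * w = w * x
  fix : ∀ c ∈ DD R z, c * z = z * c → c * w = w * c

namespace In

variable {R X : Subgroup G} {z w : G}

theorem zzR (h : In R X z w) : zpowers z ≤ normalizer (R : Set G) := by
  rw [zpowers_le]
  exact h.zR

theorem D_le (h : In R X z w) : DD R z ≤ R := Lib.CoprimeCommutator.commutator_le_left h.zzR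

theorem w_D (h : In R X z w) : w ∈ normalizer (DD R z : Set G) := by
  rw [mem_normalizer_iff_cj, DD, cj_commutator, mem_normalizer_iff_cj.1 h.wR, Parab.cj_zpowers, ← h.zw]
  congr 2
  group

theorem z_D (h : In R X z w) : z ∈ normalizer (DD R z : Set G) := by
  rw [mem_normalizer_iff_cj, DD, cj_commutator, mem_normalizer_iff_cj.1 h.zR, Parab.cj_zpowers]
  congr 2
  group

/-- the other involution -/
theorem other (h : In R X z w) (hX : ∀ x ∈ X, x * z = z * x) : In R X z (z * w) where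
  odd := h.odd
  zz := h.zz
  ww := by
    calc z * w * (z * w) = z * (w * z) * w := by group
      _ = z * z * (w * w) := by rw [← h.zw]; group
      _ = 1 := by rw [h.zz, h.ww, one_mul]
  zw := by
    calc z * (z * w) = z * (w * z) := by rw [h.zw]
      _ = z * w * z := by group
  zR := h.zR
  wR := mul_mem h.zR h.wR
  XR := h.XR
  Xw := fun x hx => by rw [← mul_assoc, hX x hx, mul_assoc, h.Xw x hx, mul_assoc]
  fix := fun c hc hcz => by rw [← mul_assoc, hcz, mul_assoc, h.fix c hc hcz, mul_assoc]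

theorem Qw_comm (h : In R X z w) {q : G} (hq : q ∈ Qw R z w) : q * w = w * q := by
  have h1 : zpowers z ≤ normalizer ((R ⊓ centralizer {w} : Subgroup G) : Set G) := by
    rw [zpowers_le]
    refine mem_normalizer_of_forall ?_ ?_
    · rintro x ⟨hx1, hx2⟩
      refine ⟨conj_mem_of_normalizer h.zR hx1, ?_⟩
      have h3 := mem_centralizer_singleton_iff.1 hx2
      change z * x * z⁻¹ ∈ centralizer {w}
      rw [mem_centralizer_singleton_iff]
      calc z * x * z⁻¹ * w = z * x * z⁻¹ * (w * z) * z⁻¹ := by group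
        _ = z * (x * w) * z⁻¹ := by rw [← h.zw]; group
        _ = (z * w) * x * z⁻¹ := by rw [h3]; group
        _ = w * (z * x * z⁻¹) := by rw [h.zw]; group
    · rintro x ⟨hx1, hx2⟩
      refine ⟨inv_conj_mem_of_normalizer h.zR hx1, ?_⟩
      have h3 := mem_centralizer_singleton_iff.1 hx2
      change z⁻¹ * x * z ∈ centralizer {w}
      rw [mem_centralizer_singleton_iff]
      calc z⁻¹ * x * z * w = z⁻¹ * x * (z * w) := by group
        _ = z⁻¹ * (x * w) * z := by rw [h.zw]; group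
        _ = z⁻¹ * (w * z) * z⁻¹ * x * z := by rw [h3]; group
        _ = w * (z⁻¹ * x * z) := by rw [← h.zw]; group
  have h2 := Lib.CoprimeCommutator.commutator_le_left h1 hq
  exact mem_centralizer_singleton_iff.1 h2.2

variable [Finite G]

theorem D_odd (h : In R X z w) : Odd (Nat.card (DD R z)) := card_odd_of_le h.odd h.D_le

theorem coprime (h : In R X z w) : (Nat.card (zpowers z)).Coprime (Nat.card R) := by
  have h1 : Nat.card (zpowers z) ∣ 2 := by
    rw [Nat.card_zpowers]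
    exact orderOf_dvd_of_pow_eq_one (by rw [pow_two, h.zz])
  exact Nat.Coprime.coprime_dvd_left h1 (Nat.coprime_two_left.2 h.odd)

theorem D_comm (h : In R X z w) : ⁅DD R z, zpowers z⁆ = DD R z :=
  Lib.CoprimeCommutator.commutator_commutator_eq _ _ h.zzR h.coprime

/-- The commutator subgroup of `D`. -/
def D' (_ : In R X z w) : Subgroup G := ⁅DD R z, DD R z⁆

/-- `⁅⁅D, D⁆, D⁆` -/
def C (_ : In R X z w) : Subgroup G := ⁅⁅DD R z, DD R z⁆, DD R z⁆

theorem D'_le (h : In R X z w) : h.D' ≤ DD R z := Subgroup.commutator_le_self _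

theorem C_le (h : In R X z w) : h.C ≤ h.D' := Subgroup.commutator_mono h.D'_le le_rfl

theorem sec (h : In R X z w) : Sec (DD R z) h.D' := Sec.self _

theorem w_D' (h : In R X z w) : w ∈ normalizer (h.D' : Set G) := normalizer_commutator h.w_D h.w_D

theorem w_C (h : In R X z w) : w ∈ normalizer (h.C : Set G) := normalizer_commutator h.w_D' h.w_D

theorem D_C (h : In R X z w) : DD R z ≤ normalizer (h.C : Set G) := fun l hl =>
  normalizer_commutator (normalizer_commutator (le_normalizer hl) (le_normalizer hl)) (le_normalizer hl)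

theorem actz (h : In R X z w) : Act (DD R z) ⁅DD R z, DD R z⁆ z :=
  Act.of_normalizer h.zz h.z_D (normalizer_commutator h.z_D h.z_D)

theorem actw (h : In R X z w) : Act (DD R z) h.D' w := Act.of_normalizer h.ww h.w_D h.w_D'

/-- `z` inverts `D / D'`. -/
theorem inverts (h : In R X z w) : ∀ x ∈ DD R z, z * x * z⁻¹ * x ∈ h.D' :=
  inverts_of_commutator h.sec h.actz h.D_comm

theorem fix_mem (h : In R X z w) {c : G} (hc : c ∈ DD R z) (hz : c * z = z * c) : c ∈ h.D' :=
  Weights.mem_of_commute h.D_odd h.inverts hc hz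

/-- `C_D(w) ≤ Q_w D'`. -/
theorem fix_w (h : In R X z w) {c : G} (hc : c ∈ DD R z) (hw : c * w = w * c) :
    c ∈ h.D' ⊔ Qw R z w := by
  refine Weights.mem_of_sq_mem h.D_odd hc ?_
  have h1 : ⁅c, z⁆ ∈ Qw R z w :=
    Subgroup.commutator_mem_commutator ⟨h.D_le hc, mem_centralizer_singleton_iff.2 hw⟩ (mem_zpowers z)
  have h2 := h.inverts _ ((DD R z).inv_mem hc)
  have h6 : c * c = (c * (z * c⁻¹ * z⁻¹ * c⁻¹)⁻¹ * c⁻¹) * ⁅c, z⁆ := by
    simp [commutatorElement_def, mul_assoc]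
  rw [h6]
  refine mul_mem ((le_sup_left : h.D' ≤ _) ?_) ((le_sup_right : Qw R z w ≤ _) h1)
  exact h.sec.conj_mem hc (inv_mem h2)

/-- `w` centralises `D' / ⁅D', D⁆`. -/
theorem w_triv (h : In R X z w) {d : G} (hd : d ∈ h.D') : w * d * w⁻¹ * d⁻¹ ∈ h.C := by
  have h1 := fix_commutator h.actz h.inverts d hd
  have hzC : ∀ x ∈ h.C, z * x * z⁻¹ ∈ h.C := fun x hx =>
    conj_mem_of_normalizer (normalizer_commutator (normalizer_commutator h.z_D h.z_D) h.z_D) hx
  obtain ⟨n, hn, hc⟩ := exists_commute (card_odd_of_le h.D_odd (h.C_le.trans h.D'_le)) h.zz hzC h1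
  have h2 := h.fix _ ((DD R z).mul_mem (h.D'_le (h.C_le hn)) (h.D'_le hd)) hc
  have h3 : w * d * w⁻¹ * d⁻¹ = (w * n * w⁻¹)⁻¹ * (w * (n * d) * w⁻¹) * d⁻¹ := by group
  have h4 : w * (n * d) * w⁻¹ = n * d := by rw [← h2]; group
  have h5 : w * d * w⁻¹ * d⁻¹ = (w * n * w⁻¹)⁻¹ * n := by rw [h3, h4]; group
  rw [h5]
  exact mul_mem (inv_mem (conj_mem_of_normalizer h.w_C hn)) hn

/-- `N = (X ∩ D) ⁅D', D⁆` -/
def N (h : In R X z w) : Subgroup G := (X ⊓ DD R z) ⊔ h.C

theorem N_le (h : In R X z w) : h.N ≤ DD R z := sup_le inf_le_right (h.C_le.trans h.D'_le)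

theorem C_le_N (h : In R X z w) : h.C ≤ h.N := le_sup_right

theorem D_N (h : In R X z w) : ∀ g ∈ DD R z, g ∈ normalizer (h.N : Set G) := by
  intro g hg
  have hgX : ∀ x ∈ X, x * g = g * x := fun x hx => h.XR x hx g (h.D_le hg)
  have h1 : g ∈ normalizer ((X ⊓ DD R z : Subgroup G) : Set G) := by
    refine mem_normalizer_of_forall ?_ ?_
    · rintro x ⟨hx1, hx2⟩
      have h2 : g * x * g⁻¹ = x := by rw [← hgX x hx1]; group
      rw [h2]; exact ⟨hx1, hx2⟩
    · rintro x ⟨hx1, hx2⟩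
      have h2 : g⁻¹ * x * g = x := by rw [mul_assoc, hgX x hx1]; group
      rw [h2]; exact ⟨hx1, hx2⟩
  rw [mem_normalizer_iff_cj, N, cj_sup, mem_normalizer_iff_cj.1 h1, mem_normalizer_iff_cj.1 (h.D_C hg)]

theorem D'_comm (h : In R X z w) : ∀ c ∈ h.D', ∀ d ∈ DD R z, ⁅c, d⁆ ∈ h.C := fun c hc d hd =>
  Subgroup.commutator_mem_commutator hc hd

/-- the commutators of the elements of `Q_w` with the elements of `D` are in `N` -/
theorem Qw_N (h : In R X z w) (hX : ⁅Qw R z w, Qw R z w⁆ ≤ X) {q u : G} (hq : q ∈ Qw R z w)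
    (hu : u ∈ DD R z) : ⁅u, q⁆ ∈ h.N := by
  have hqD : q ∈ DD R z := LemmaUQ.In.Qw_le_D hq
  have hqw := h.Qw_comm hq
  have hCN := h.C_le_N
  have hu' : w * u * w⁻¹ ∈ DD R z := conj_mem_of_normalizer h.w_D hu
  -- `u * (w u w⁻¹)` is fixed by `w` modulo `D'`
  have ht := (mem_eig_false (fun h : False => h)).mp
    (mul_conj_mem_eig (h := h.sec) (hz := h.actw) (s := False) (fun h => h) hu)
  obtain ⟨n, hn, hc⟩ := exists_commute (card_odd_of_le h.D_odd h.D'_le) h.ww h.actw.mN ht.2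
  have h1 := h.fix_w ((DD R z).mul_mem (h.D'_le hn) ht.1) hc
  have h2 : u * (w * u * w⁻¹) ∈ h.D' ⊔ Qw R z w := by
    have h3 := mul_mem (inv_mem ((le_sup_left : h.D' ≤ h.D' ⊔ Qw R z w) hn)) h1
    rwa [inv_mul_cancel_left] at h3
  obtain ⟨d, hd, q', hq', he⟩ := exists_mul_of_mem_sup h.sec le_rfl h.D'_le LemmaUQ.In.Qw_le_D h2
  have h3 : ⁅u * (w * u * w⁻¹), q⁆ ∈ h.N := by
    rw [he]
    have h4 : ⁅d * q', q⁆ = (d * ⁅q', q⁆ * d⁻¹) * ⁅d, q⁆ := by
      simp only [commutatorElement_def]; group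
    rw [h4]
    refine h.N.mul_mem (conj_mem_of_normalizer (h.D_N d (h.D'_le hd)) ?_) (hCN (h.D'_comm d hd q hqD))
    refine (le_sup_left : X ⊓ DD R z ≤ h.N) ⟨hX (Subgroup.commutator_mem_commutator hq' hq), ?_⟩
    exact h.D'_le (Subgroup.commutator_mem_commutator (LemmaUQ.In.Qw_le_D hq') hqD)
  have h4 : ⁅w * u * w⁻¹, q⁆ = w * ⁅u, q⁆ * w⁻¹ := by
    have h5 : w⁻¹ * q * w = q := by rw [mul_assoc, hqw]; group
    have h6 : ⁅w * u * w⁻¹, q⁆ = w * ⁅u, w⁻¹ * q * w⁆ * w⁻¹ := by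
      simp only [commutatorElement_def]; group
    rw [h6, h5]
  have hD' : ⁅u, q⁆ ∈ h.D' := Subgroup.commutator_mem_commutator hu hqD
  have h5 : ⁅u * (w * u * w⁻¹), q⁆ =
      (⁅u, w * ⁅u, q⁆ * w⁻¹⁆ * (w * ⁅u, q⁆ * w⁻¹ * ⁅u, q⁆⁻¹)) * (⁅u, q⁆ * ⁅u, q⁆) := by
    rw [← h4]
    simp only [commutatorElement_def]; group
  have h6 : ⁅u, w * ⁅u, q⁆ * w⁻¹⁆ ∈ h.N := by
    refine hCN ?_
    rw [← commutatorElement_inv]
    exact inv_mem (h.D'_comm _ (conj_mem_of_normalizer h.w_D' hD') u hu)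
  have h7 := hCN (h.w_triv hD')
  rw [h5] at h3
  exact Weights.mem_of_sq_mem h.D_odd (h.D'_le hD') ((h.N.mul_mem_cancel_left (h.N.mul_mem h6 h7)).1 h3)

/-- (3) `⁅D, D⁆ ≤ X`. -/
theorem commutator_le (h : In R X z w) (hXz : ∀ x ∈ X, x * z = z * x) {p : ℕ} [Fact p.Prime]
    (hD : IsPGroup p (DD R z)) (hX : ⁅Qw R z w, Qw R z w⁆ ≤ X)
    (hX' : ⁅Qw R z (z * w), Qw R z (z * w)⁆ ≤ X) : ⁅DD R z, DD R z⁆ ≤ X := by
  set D := DD R z with hDdef
  have h' := h.other hXz
  -- the subgroup `M`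
  let M : Subgroup G :=
    { carrier := {v | v ∈ D ∧ ∀ u ∈ D, ⁅u, v⁆ ∈ h.N}
      one_mem' := ⟨D.one_mem, fun u _ => by rw [commutatorElement_one_right]; exact h.N.one_mem⟩
      mul_mem' := by
        rintro a b ⟨ha, ha'⟩ ⟨hb, hb'⟩
        refine ⟨D.mul_mem ha hb, fun u hu => ?_⟩
        have h1 : ⁅u, a * b⁆ = ⁅u, a⁆ * (a * ⁅u, b⁆ * a⁻¹) := by
          simp only [commutatorElement_def]; group
        rw [h1]
        exact h.N.mul_mem (ha' u hu) (conj_mem_of_normalizer (h.D_N a ha) (hb' u hu))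
      inv_mem' := by
        rintro a ⟨ha, ha'⟩
        refine ⟨D.inv_mem ha, fun u hu => ?_⟩
        have h1 : ⁅u, a⁻¹⁆ = a⁻¹ * ⁅u, a⁆⁻¹ * a := by
          simp only [commutatorElement_def]; group
        rw [h1]
        exact inv_conj_mem_of_normalizer (h.D_N a ha) (h.N.inv_mem (ha' u hu)) }
  have hM : ∀ v, v ∈ M ↔ v ∈ D ∧ ∀ u ∈ D, ⁅u, v⁆ ∈ h.N := fun _ => Iff.rfl
  have hD'M : h.D' ≤ M := by
    intro d hd
    rw [hM]
    refine ⟨h.D'_le hd, fun u hu => h.C_le_N ?_⟩
    rw [← commutatorElement_inv]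
    exact inv_mem (h.D'_comm d hd u hu)
  have hQM : Qw R z w ≤ M := fun q hq => (hM q).2 ⟨LemmaUQ.In.Qw_le_D hq, fun u hu => h.Qw_N hX hq hu⟩
  have hQM' : Qw R z (z * w) ≤ M := fun q hq => (hM q).2 ⟨LemmaUQ.In.Qw_le_D hq, fun u hu => h'.Qw_N hX' hq hu⟩
  have hDM : D ≤ M := by
    refine Lib.KleinGen.le_of_klein D M h.D_odd z w h.zz h.ww h.zw
      (fun x hx => conj_mem_of_normalizer h.z_D hx) (fun x hx => conj_mem_of_normalizer h.w_D hx) ?_ ?_ ?_
    · rintro c ⟨hc, hcz⟩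
      exact hD'M (h.fix_mem hc (mem_centralizer_singleton_iff.1 hcz))
    · rintro c ⟨hc, hcw⟩
      exact (sup_le hD'M hQM) (h.fix_w hc (mem_centralizer_singleton_iff.1 hcw))
    · rintro c ⟨hc, hcw⟩
      exact (sup_le (show h'.D' ≤ M from hD'M) hQM') (h'.fix_w hc (mem_centralizer_singleton_iff.1 hcw))
  have h1 : h.D' ≤ h.N := by
    change ⁅DD R z, DD R z⁆ ≤ h.N
    rw [Subgroup.commutator_le]
    intro a ha b hb
    exact ((hM b).1 (hDM hb)).2 a ha
  have h2 : h.D' ≤ X ⊓ D := by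
    refine le_of_le_sup_commutator hD inf_le_right h.D'_le ?_ h1
    rintro q hq x ⟨hx1, hx2⟩
    have h3 : q * x * q⁻¹ = x := by rw [← h.XR x hx1 q (h.D_le hq)]; group
    rw [h3]; exact ⟨hx1, hx2⟩
  exact h2.trans inf_le_left

/-- (4) `C_D(z) ≤ X`. -/
theorem mem_of_commute (h : In R X z w) (hXz : ∀ x ∈ X, x * z = z * x) {p : ℕ} [Fact p.Prime]
    (hD : IsPGroup p (DD R z)) (hX : ⁅Qw R z w, Qw R z w⁆ ≤ X)
    (hX' : ⁅Qw R z (z * w), Qw R z (z * w)⁆ ≤ X) {c : G} (hc : c ∈ DD R z) (hz : c * z = z * c) : c ∈ X :=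
  h.commutator_le hXz hD hX hX' (h.fix_mem hc hz)

end In

/-! ### (1) -/

/-- **Lemma A for a four-group**, normal case. -/
theorem isPGroup_commutator_of_normal [Finite G] {p : ℕ} (hp : p.Prime) {R : Subgroup G} [R.Normal]
    {z w : G} (hR : Odd (Nat.card R)) (hs : Group.IsSolvable R) (hz : z * z = 1) (hw : w * w = 1)
    (hzw : z * w = w * z)
    (hc : IsPGroup p (⁅R ⊓ centralizer {w}, zpowers z⁆ : Subgroup G))
    (hc' : IsPGroup p (⁅R ⊓ centralizer {z * w}, zpowers z⁆ : Subgroup G)) :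
    IsPGroup p (⁅R, zpowers z⁆ : Subgroup G) := by
  have := Fact.mk hp
  have : Fact (Nat.Prime 2) := ⟨Nat.prime_two⟩
  obtain ⟨P, hP⟩ : ∃ P : Subgroup G, P = piCoreOf {p} R := ⟨_, rfl⟩
  have hPn : P.Normal := hP ▸ normal_piCoreOf _ _
  have hPR : P ≤ R := hP ▸ piCoreOf_le _ _
  have hpP : IsPGroup p P := hP ▸ isPGroup_piCoreOf hp R
  set π := QuotientGroup.mk' P with hπ
  have hbot : piCoreOf {p} (R.map π) = ⊥ := piCoreOf_map_mk hp R P hP
  have hker : ∀ x : G, π x = 1 ↔ x ∈ P := fun x => by rw [hπ]; simp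
  set R' := R.map π with hR'
  have hR'n : R'.Normal := Subgroup.Normal.map inferInstance π (QuotientGroup.mk'_surjective P)
  have hR'odd : Odd (Nat.card R') := by
    obtain ⟨k, hk⟩ := card_map_dvd R π
    rw [hk] at hR
    exact (Nat.odd_mul.1 hR).1
  have hR's : Group.IsSolvable R' := by
    have := hs
    exact Group.isSolvable_of_surjective (f := π.subgroupMap R) (π.subgroupMap_surjective R)
  set F := fittingOf R' with hF
  have hFR : F ≤ R' := FitAux.fittingOf_le R'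
  have hFn : normalizer (R' : Set (G ⧸ P)) ≤ normalizer (F : Set (G ⧸ P)) :=
    normalizer_le_normalizer_fittingOf R'
  have hFn' : ∀ g : G ⧸ P, g ∈ normalizer (F : Set (G ⧸ P)) := fun g => by
    apply hFn
    rw [normalizer_eq_top_iff.2 hR'n]; trivial
  have hFc : ∀ g : G ⧸ P, ∀ h ∈ F, g * h * g⁻¹ ∈ F := fun g h hh => (mem_normalizer_iff.1 (hFn' g) h).1 hh
  set z' := π z with hz'
  set w' := π w with hw'
  have hz'z : z' * z' = 1 := by rw [hz', ← map_mul, hz, map_one]
  have hw'w : w' * w' = 1 := by rw [hw', ← map_mul, hw, map_one]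
  have hcop : (Nat.card (zpowers z')).Coprime (Nat.card R') := by
    have h1 : Nat.card (zpowers z') ∣ 2 := by
      rw [Nat.card_zpowers]
      exact orderOf_dvd_of_pow_eq_one (by rw [pow_two, hz'z])
    exact Nat.Coprime.coprime_dvd_left h1 (Nat.coprime_two_left.2 hR'odd)
  have key : ∀ v : G, v * v = 1 → IsPGroup p (⁅R ⊓ centralizer {v}, zpowers z⁆ : Subgroup G) →
      F ⊓ centralizer {π v} ≤ centralizer {z'} := by
    rintro v hv hcv d ⟨hd, hdw⟩
    have hdw := mem_centralizer_singleton_iff.1 hdw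
    rw [mem_centralizer_singleton_iff]
    obtain ⟨r, hr, he⟩ := hFR hd
    -- lift `d` to a fixed point of `v`
    obtain ⟨c, hc1, hc2⟩ := Lib.CoprimeCommutator.exists_fixed_in_coset 2 (zpowers v) P
      (isPGroup_two_zpowers hv) (fun g _ => by rw [normalizer_eq_top_iff.2 hPn]; trivial) (by
        have := odd_of_le hPR hR
        rwa [← Nat.not_even_iff_odd, even_iff_two_dvd] at this) r (by
        intro a ha
        have h1 : π a * d = d * π a := by
          obtain ⟨k, rfl⟩ := ha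
          change π (v ^ k) * d = d * π (v ^ k)
          rw [map_zpow]
          exact (Commute.zpow_left (show Commute (π v) d from hdw.symm) k).eq
        rw [← hker, map_mul, map_inv, map_mul, map_mul, map_inv, he, h1]
        group)
    have hcR : c ∈ R := by
      have h3 : c = r * (r⁻¹ * c) := by group
      rw [h3]; exact R.mul_mem hr (hPR hc2)
    have hcd : π c = d := by
      have h3 : c = r * (r⁻¹ * c) := by group
      rw [h3, map_mul, he, (hker _).2 hc2, mul_one]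
    have hcw : c ∈ R ⊓ centralizer {v} := by
      refine ⟨hcR, ?_⟩
      change c ∈ centralizer {v}
      rw [mem_centralizer_singleton_iff]
      exact ((mem_centralizer_iff.1 hc1) v (mem_zpowers v)).symm
    have h1 : ⁅c, z⁆ ∈ ⁅R ⊓ centralizer {v}, zpowers z⁆ :=
      commutator_mem_commutator hcw (mem_zpowers z)
    have h2 : ⁅d, z'⁆ ∈ F := by
      rw [commutatorElement_def, mul_assoc, mul_assoc]
      refine F.mul_mem hd ?_
      rw [← mul_assoc]
      exact hFc z' _ (F.inv_mem hd)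
    have h3 : IsPGroup p (zpowers ⁅d, z'⁆) := by
      have h4 : IsPGroup p (zpowers ⁅c, z⁆) := hcv.to_le ((zpowers_le).2 h1)
      have h5 : (zpowers ⁅c, z⁆).map π = zpowers ⁅d, z'⁆ := by
        rw [MonoidHom.map_zpowers, map_commutatorElement, hcd]
      rw [← h5]
      exact h4.map π
    have h4 := le_core_of_le_fittingOf hp (zpowers_le.2 h2) h3
    rw [hbot, le_bot_iff, zpowers_eq_bot] at h4
    exact (commutatorElement_eq_one_iff_mul_comm.1 h4)
  have hzF : F ≤ centralizer {z'} := by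
    refine Lib.KleinGen.le_of_klein F _ (odd_of_le hFR hR'odd) z' w' hz'z hw'w
      (by rw [hz', hw', ← map_mul, hzw, map_mul]) (fun h hh => hFc _ h hh) (fun h hh => hFc _ h hh)
      inf_le_right (key w hw hc) ?_
    have h1 := key (z * w) (by
      calc z * w * (z * w) = z * (w * z) * w := by group
        _ = z * z * (w * w) := by rw [← hzw]; group
        _ = 1 := by rw [hz, hw, one_mul]) hc'
    rwa [map_mul] at h1
  have hcent : zpowers z' ≤ centralizer (R' : Set (G ⧸ P)) := by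
    refine le_centralizer_of_centralizes_fitting (fun g _ => by rw [normalizer_eq_top_iff.2 hR'n]; trivial)
      hR's hcop ?_
    rw [zpowers_le, mem_centralizer_iff]
    exact fun f hf => mem_centralizer_singleton_iff.1 (hzF hf)
  have hle : ⁅R, zpowers z⁆ ≤ P := by
    rw [commutator_le]
    rintro r hr _ ⟨k, rfl⟩
    rw [← hker, map_commutatorElement, commutatorElement_eq_one_iff_mul_comm]
    have h1 := hcent (zpow_mem (mem_zpowers z') k)
    rw [mem_centralizer_iff] at h1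
    have h2 := h1 (π r) (mem_map_of_mem _ hr)
    change π r * π (z ^ k) = π (z ^ k) * π r
    rw [map_zpow]
    exact h2
  exact hpP.to_le hle

/-- **Lemma A for a four-group.** -/
theorem isPGroup_commutator [Finite G] {p : ℕ} (hp : p.Prime) {R : Subgroup G}
    {z w : G} (hR : Odd (Nat.card R)) (hs : Group.IsSolvable R) (hz : z * z = 1) (hw : w * w = 1)
    (hzw : z * w = w * z) (hzR : z ∈ normalizer (R : Set G)) (hwR : w ∈ normalizer (R : Set G))
    (hc : IsPGroup p (⁅R ⊓ centralizer {w}, zpowers z⁆ : Subgroup G))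
    (hc' : IsPGroup p (⁅R ⊓ centralizer {z * w}, zpowers z⁆ : Subgroup G)) :
    IsPGroup p (⁅R, zpowers z⁆ : Subgroup G) := by
  set N := normalizer (R : Set G) with hN
  have hRN : R ≤ N := le_normalizer
  set ι := N.subtype with hι
  have hinj : Function.Injective ι := N.subtype_injective
  have hmR : (R.subgroupOf N).map ι = R := map_subgroupOf_eq_of_le hRN
  have hn : (R.subgroupOf N).Normal := normal_subgroupOf_iff_le_normalizer hRN |>.2 le_rfl
  have hzp : ∀ g : N, (zpowers g).map ι = zpowers (g : G) := fun g => MonoidHom.map_zpowers ι g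
  have hmcl : ∀ (v : G) (hv : v ∈ N), (R.subgroupOf N ⊓ centralizer {(⟨v, hv⟩ : N)}).map ι =
      R ⊓ centralizer {v} := by
    intro v hv
    ext x
    constructor
    · rintro ⟨y, ⟨hy1, hy2⟩, rfl⟩
      refine ⟨hy1, ?_⟩
      have h1 : y ∈ centralizer {(⟨v, hv⟩ : N)} := hy2
      rw [mem_centralizer_singleton_iff] at h1
      change (y : G) ∈ centralizer {v}
      rw [mem_centralizer_singleton_iff]
      exact congrArg Subtype.val h1
    · rintro ⟨hx1, hx2⟩
      refine ⟨⟨x, hRN hx1⟩, ⟨hx1, ?_⟩, rfl⟩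
      have h1 : x ∈ centralizer {v} := hx2
      rw [mem_centralizer_singleton_iff] at h1
      change (⟨x, hRN hx1⟩ : N) ∈ centralizer {(⟨v, hv⟩ : N)}
      rw [mem_centralizer_singleton_iff]
      exact Subtype.ext h1
  have hpg : ∀ (v : G) (hv : v ∈ N), IsPGroup p (⁅R ⊓ centralizer {v}, zpowers z⁆ : Subgroup G) →
      IsPGroup p (⁅R.subgroupOf N ⊓ centralizer {(⟨v, hv⟩ : N)}, zpowers (⟨z, hzR⟩ : N)⁆ : Subgroup N) := by
    intro v hv hcv
    have h1 : (⁅R.subgroupOf N ⊓ centralizer {(⟨v, hv⟩ : N)}, zpowers (⟨z, hzR⟩ : N)⁆).map ι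
        = ⁅R ⊓ centralizer {v}, zpowers z⁆ := by
      rw [map_commutator, hmcl, hzp]
    have h2 := (equivMapOfInjective ⁅R.subgroupOf N ⊓ centralizer {(⟨v, hv⟩ : N)},
      zpowers (⟨z, hzR⟩ : N)⁆ ι hinj)
    refine IsPGroup.of_equiv ?_ h2.symm
    rw [h1]; exact hcv
  have key := isPGroup_commutator_of_normal (G := N) hp (R := R.subgroupOf N)
    (z := ⟨z, hzR⟩) (w := ⟨w, hwR⟩) (by
      rw [Nat.card_congr (subgroupOfEquivOfLe hRN).toEquiv]; exact hR) (by
      have := hs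
      exact Group.isSolvable_of_isSolvable_injective (f := (subgroupOfEquivOfLe hRN).toMonoidHom)
        (subgroupOfEquivOfLe hRN).injective) (Subtype.ext hz) (Subtype.ext hw) (Subtype.ext hzw)
    (hpg w hwR hc) (hpg (z * w) (mul_mem hzR hwR) hc')
  have h1 : (⁅R.subgroupOf N, zpowers (⟨z, hzR⟩ : N)⁆).map ι = ⁅R, zpowers z⁆ := by
    rw [map_commutator, hmR, hzp]
  rw [← h1]
  exact key.map ι

/-! ### The form for `Long K X z` -/

theorem mem_of_long [Finite G] {K X : Subgroup G} {z w : G} (h : Long K X z) (hw : w * w = 1)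
    (hwK : ∀ k ∈ K, w * k = k * w) (hwc : ∀ d ∈ core K, w * d = d * w) : In (core X) X z w where
  odd := odd_core X
  zz := h.zsq
  ww := hw
  zw := (hwK z h.zK).symm
  zR := h.z_normalizes (mem_zpowers z)
  wR := by
    have hl : ∀ g ∈ zpowers w, g ∈ centralizer (X : Set G) := by
      intro g hg
      have h1 : w ∈ centralizer (X : Set G) := by
        rw [mem_centralizer_iff]
        exact fun x hx => (hwK x (h.XK hx)).symm
      exact (zpowers_le.2 h1) hg
    refine mem_normalizer_of_forall (fun x hx => core_conj_mem (hl w (mem_zpowers w)) hx) fun x hx => ?_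
    have h1 := core_conj_mem (hl w⁻¹ (inv_mem (mem_zpowers w))) hx
    rwa [inv_inv] at h1
  XR := fun x hx r hr => (core_commute hr hx).symm
  Xw := fun x hx => (hwK x (h.XK hx)).symm
  fix := by
    intro c hc hcz
    have hcR : c ∈ core X := h.QX_le_core hc
    obtain ⟨x, hx, d, hd, hdK, rfl⟩ := h.mem_core_of_commute hcR hcz
    have h1 : d ∈ core K := h.core_inf_le ⟨hd, by
      change d ∈ centralizer (K : Set G)
      rw [mem_centralizer_iff]
      exact fun k hk => (hdK k hk).symm⟩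
    have h2 := hwK x (h.XK hx)
    have h3 := hwc d h1
    rw [mul_assoc, ← h3, ← mul_assoc, ← h2, mul_assoc]

/-- **`Good p X z` from a four-group `⟨z, w⟩`**, `w` in the centraliser of `K` and of `O(C(K))`. -/
theorem good_of_pair [Finite G] {p : ℕ} [Fact p.Prime] {K X : Subgroup G} {z w : G} (h : Long K X z)
    (hX : IsPGroup p X) (hw : w * w = 1) (hwK : ∀ k ∈ K, w * k = k * w)
    (hwc : ∀ d ∈ core K, w * d = d * w) (hs : Group.IsSolvable (core X))
    (hQ : IsPGroup p (Qw (core X) z w)) (hQ' : IsPGroup p (Qw (core X) z (z * w)))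
    (hder : ⁅Qw (core X) z w, Qw (core X) z w⁆ ≤ X)
    (hder' : ⁅Qw (core X) z (z * w), Qw (core X) z (z * w)⁆ ≤ X) : Good p X z := by
  have hI := mem_of_long h hw hwK hwc
  have hXz : ∀ x ∈ X, x * z = z * x := fun x hx => h.central (h.XK hx)
  have hD : IsPGroup p (QX X z) :=
    isPGroup_commutator Fact.out hI.odd hs hI.zz hI.ww hI.zw hI.zR hI.wR hQ hQ'
  have hcl : ⁅QX X z, QX X z⁆ ≤ X := hI.commutator_le hXz hD hder hder'
  refine ⟨QQ_isPGroup h hX hD, ?_, ?_⟩
  · rw [QQ_commutator_eq_QX h]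
    exact hcl
  · intro a ha haz
    obtain ⟨x, hx, d, hd, rfl⟩ := (mem_QQ h).1 ha
    refine X.mul_mem hx (hI.mem_of_commute hXz hD hder hder' hd ?_)
    have h1 := hXz x hx
    have h2 : x * (d * z) = x * (z * d) := by
      rw [← mul_assoc, haz, ← mul_assoc, ← h1, mul_assoc]
    exact mul_left_cancel h2

end Cfsg.Agent.Cit.PairUQ
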