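import Cfsg.Agent.Cit.CoreFrame
import Cfsg.Agent.Cit.TwinRoots
import Cfsg.Agent.Cit.SLSysOf
import Cfsg.Agent.Cit.LemmaB
import Cfsg.Agent.Cit.PairUQ

/-!
# The case `D₄`: from charts of the centralisers of involutions to the input (project CIT)

`Loc Om p q K i j` : an involution `t` of `C(K i)` with a piece `L ≥ K i, K j` of `C(t)` which has a chart with
`|VV r| = q⁵`.  `Loc.of_four` : `t = y y'`, `y ∈ K k`, `y' ∈ K l` of order 4.
`Prov Om F p K X` : the input; `Prov.of_solvable` : the condition `good` is automatic if the groups of odd order are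
solvable. RESULT `Prov.toInv`.
-/

set_option autoImplicit false
set_option linter.unusedSectionVars false

namespace Cfsg.Agent.Cit.TypeD4Prov

open Subgroup Cfsg
open Cfsg.Agent.Cit.Parab Cfsg.Agent.Cit.LemmaUQ Cfsg.Agent.Cit.ParabSL2 Cfsg.Agent.Cit.FrameSign
  Cfsg.Agent.Cit.FrameOf Cfsg.Agent.Cit.CoreFrame Cfsg.Agent.Cit.TypeD4 Cfsg.Agent.Cit.SLSysOf
  Cfsg.Agent.Cit.LemmaATwo
open CoxeterSystem Cfsg.Agent.ChevalleyStructure.CoxeterGeom Cfsg.Agent.Nodes.Chart Cfsg.Agent.Nodes.ChartLoc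
  Cfsg.Agent.Nodes.Comb Cfsg.Agent.Nodes.ClsNorm Cfsg.Agent.Nodes.Reps Cfsg.Agent.Tits.Roots
  Cfsg.Agent.Tits.Core Cfsg.Agent.Tits.RootComb
open scoped commutatorElement

variable {G : Type*} [Group G] [Finite G]

/-- An element of order `4` of a member of `Om` is inverted in it. -/
theorem exists_inv {Om : Set (Subgroup G)} (h : Hyp Om) {K : Subgroup G} (hK : K ∈ Om) {y : G} (hy : y ∈ K)
    (hy2 : y * y = zz K) : ∃ g ∈ K, g * y * g⁻¹ = y⁻¹ := by
  have hord : orderOf y = 4 := by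
    refine GQ.orderOf_of_sq hy2 (h.zz_mul hK) ?_
    intro h1
    have h2 := h.orderOf_zz hK
    rw [h1, orderOf_one] at h2
    omega
  have hp : IsPGroup 2 (Subgroup.zpowers y) := by
    refine IsPGroup.of_card (n := 2) ?_
    rw [Nat.card_zpowers, hord]
    norm_num
  obtain ⟨Q, hQ, hle⟩ := LB.exists_syl_ge hp (Subgroup.zpowers_le.2 hy)
  obtain ⟨c, v, n, hgq⟩ := h.exists_gq hK hQ
  obtain ⟨g, hg, -, h1⟩ := hgq.exists_inverting (hle (Subgroup.mem_zpowers y)) hord
  exact ⟨g, hQ.1 hg, h1⟩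

/-! ### The cores of the centralisers -/

variable {ι : Type*} {Om : Set (Subgroup G)} {K : ι → Subgroup G}
variable {F : Type*} [Field F] [Fintype F]

/-- `w` interchanges the two root groups. -/
theorem cj_w {K : Subgroup G} (e : Matrix.SpecialLinearGroup (Fin 2) F ≃* K) :
    cj (ofEquiv e).w (root e) = rootOp e ∧ cj (ofEquiv e).w (rootOp e) = root e := by
  constructor
  · refine Subgroup.eq_of_le_of_card_ge ?_ ?_
    · intro x hx
      rw [mem_cj] at hx
      have h1 : (ofEquiv e).w⁻¹ * x * (ofEquiv e).w ∈ (ofEquiv e).A := by rw [A_eq]; exact hx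
      have h2 := (ofEquiv e).n_A one_ne_zero h1
      rw [(ofEquiv e).h_one, one_mul, A'_eq] at h2
      have h3 : (ofEquiv e).w * ((ofEquiv e).w⁻¹ * x * (ofEquiv e).w) * (ofEquiv e).w⁻¹ = x := by group
      rw [← h3]
      exact h2
    · rw [card_cj, card_root, Dat.card_rootOp]
  · refine Subgroup.eq_of_le_of_card_ge ?_ ?_
    · intro x hx
      rw [mem_cj] at hx
      have h1 : (ofEquiv e).w⁻¹ * x * (ofEquiv e).w ∈ (ofEquiv e).A' := by rw [A'_eq]; exact hx
      have h2 := (ofEquiv e).n_A' one_ne_zero h1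
      rw [(ofEquiv e).h_one, one_mul, A_eq] at h2
      have h3 : (ofEquiv e).w * ((ofEquiv e).w⁻¹ * x * (ofEquiv e).w) * (ofEquiv e).w⁻¹ = x := by group
      rw [← h3]
      exact h2
    · rw [card_cj, card_root, Dat.card_rootOp]

/-- **The core of the centraliser of `K i` centralises `K j`**, `zz (K j) = zz (K i)`. -/
theorem core_comm {X : ι → SignType → Subgroup G} (D : Dat Om F K X) (hF : Odd (Fintype.card F)) {i j : ι}
    (hij : i ≠ j) (hz : zz (K j) = zz (K i)) : ∀ r ∈ Parab.core (K i), ∀ k ∈ K j, r * k = k * r := by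
  set D0 := Parab.core (K i) with hD0
  have hodd : Odd (Nat.card D0) := odd_core (K i)
  intro r hr k hk
  obtain ⟨e, he1, he2⟩ := D.sl j
  have hl := D.long hF j (one_ne_zero (α := SignType))
  have hKD : ∀ k ∈ K j, ∀ r ∈ D0, k * r * k⁻¹ ∈ D0 := fun k hk r hr =>
    core_conj_mem (mem_centralizer_iff.2 fun a ha => D.comm i j hij a ha k hk) hr
  have hnorm : cj r (K j) = K j := by
    have hrz : r * zz (K j) = zz (K j) * r := by
      rw [hz]; exact core_commute hr (D.hyp.zz_mem (D.mem i))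
    rcases hl.alt r hrz with h1 | h1
    · exact h1
    · exfalso
      have hwK : (ofEquiv e).w ∈ K j := w_mem e
      set w := (ofEquiv e).w with hw
      have h2 := h1 w hwK (r * w * r⁻¹) (conj_mem_cj hwK)
      set d := w⁻¹ * (r * w * r⁻¹) with hd
      have hdD : d ∈ D0 := by
        have h3 : d = (w⁻¹ * r * w⁻¹⁻¹) * r⁻¹ := by rw [hd]; group
        rw [h3]
        exact mul_mem (hKD _ (inv_mem hwK) r hr) (inv_mem hr)
      have h2F : (2 : F) ≠ 0 := by
        intro h2
        obtain ⟨m, hm⟩ := hF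
        have h3 := FiniteField.cast_card_eq_zero F
        rw [hm] at h3
        push_cast at h3
        rw [h2, zero_mul, zero_add] at h3
        exact one_ne_zero h3
      have hw2 : w * w = zz (K j) := by
        rw [hw, (ofEquiv e).w_sq]
        exact h_neg_one_eq e h2F (D.hyp.zz_mem (D.mem j)) (D.hyp.orderOf_zz (D.mem j))
      have hw4 : w ^ 4 = 1 := by
        have : w ^ 4 = (w * w) * (w * w) := by
          simp only [pow_succ, pow_zero, one_mul, mul_assoc]
        rw [this, hw2, D.hyp.zz_mul (D.mem j)]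
      have hc : Commute w⁻¹ (r * w * r⁻¹) := (show Commute w (r * w * r⁻¹) from h2).inv_left
      have hd4 : d ^ 4 = 1 := by
        rw [hd, hc.mul_pow, inv_pow, hw4, inv_one, one_mul, conj_pow, hw4, mul_one, mul_inv_cancel]
      have hdo : Odd (orderOf d) := by
        have h5 := orderOf_dvd_natCard (⟨d, hdD⟩ : D0)
        rw [← Subgroup.orderOf_coe] at h5
        exact hodd.of_dvd_nat h5
      have hd1 : d = 1 := by
        have h5 := orderOf_dvd_of_pow_eq_one hd4
        have h6 : Nat.Coprime (orderOf d) 4 := by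
          have : Nat.Coprime (orderOf d) (2 ^ 2) := Nat.Coprime.pow_right 2 (Nat.coprime_two_right.2 hdo)
          simpa using this
        exact orderOf_eq_one_iff.1 (Nat.eq_one_of_dvd_coprimes h6 dvd_rfl h5)
      have hrw : r * w * r⁻¹ = w := by
        have : r * w * r⁻¹ = w * d := by rw [hd]; group
        rw [this, hd1, mul_one]
      have h7 : cj w (X j 1) = X j 1 := cj_eq_of_conj_mem fun x hx => by
        have h8 := h1 x (D.X_le j one_ne_zero hx) w (by rw [← hrw]; exact conj_mem_cj hwK)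
        rw [← h8, mul_inv_cancel_right]
        exact hx
      have h9 := (cj_w e).1
      rw [← he1, ← he2, ← hw, h7] at h9
      exact D.X_ne j one_ne_zero h9.symm
  have h1 : D0 ⊓ K j ≤ OO (K j) := by
    refine le_OO inf_le_right ?_ ?_
    · intro k hk
      rw [mem_normalizer_iff_cj]
      exact cj_eq_of_conj_mem fun x hx => ⟨hKD k hk x hx.1, (K j).mul_mem ((K j).mul_mem hk hx.2) ((K j).inv_mem hk)⟩
    · intro h2
      have h3 : ¬ 2 ∣ Nat.card D0 := by
        rw [← even_iff_two_dvd]; exact Nat.not_even_iff_odd.2 hodd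
      exact h3 (h2.trans (Subgroup.card_dvd_of_le inf_le_left))
  rw [OO_eq_bot hF e] at h1
  -- `[r, k] = 1`
  have h2 : r * k * r⁻¹ * k⁻¹ ∈ D0 ⊓ K j := by
    refine ⟨?_, ?_⟩
    · have : r * k * r⁻¹ * k⁻¹ = r * (k * r⁻¹ * k⁻¹) := by group
      rw [this]
      exact mul_mem hr (hKD k hk _ (inv_mem hr))
    · have h3 := conj_mem_cj (g := r) hk
      rw [hnorm] at h3
      exact (K j).mul_mem h3 ((K j).inv_mem hk)
  have h3 := Subgroup.mem_bot.1 (h1 h2)
  have h4 : r * k * r⁻¹ = k := mul_inv_eq_one.1 h3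
  calc r * k = r * k * r⁻¹ * r := by group
    _ = k * r := by rw [h4]

/-! ### The local information -/

/-- The local information for the pair `i, j`. -/
def Loc (Om : Set (Subgroup G)) (p q : ℕ) (K : ι → Subgroup G) (i j : ι) : Prop :=
  ∃ t g : G, ∃ L : Subgroup G, t * t = 1 ∧ (∀ a ∈ K i, t * a = a * t) ∧ (∀ a ∈ K i, g * a = a * g) ∧
    (∀ a ∈ K j, g * a = a * g) ∧ g * t * g⁻¹ = t * zz (K i) ∧ (∀ d ∈ Parab.core (K i), t * d = d * t) ∧
    Piece Om t L ∧ K i ≤ L ∧ K j ≤ L ∧ ∃ c : Chart Om p L, ∀ r ∈ c.R, Nat.card (VV c.cs c.h c.X r) = q ^ 5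

/-- The local information, `t = y y'` with `y ∈ K k`, `y' ∈ K l` of order `4`. -/
theorem Loc.of_four {X : ι → SignType → Subgroup G} (D : Dat Om F K X) (hF : Odd (Fintype.card F)) {p q : ℕ}
    {i j k l : ι} (hki : k ≠ i) (hkj : k ≠ j) (hli : l ≠ i) (hkl : k ≠ l) (hzk : zz (K k) = zz (K i))
    (hzl : zz (K l) = zz (K i)) {y y' : G} (hy : y ∈ K k) (hy' : y' ∈ K l) (hy2 : y * y = zz (K k))
    (hy2' : y' * y' = zz (K l)) {L : Subgroup G} (P : Piece Om (y * y') L) (hi : K i ≤ L) (hj : K j ≤ L)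
    (c : Chart Om p L) (hc : ∀ r ∈ c.R, Nat.card (VV c.cs c.h c.X r) = q ^ 5) : Loc Om p q K i j := by
  have h := D.hyp
  have hcomm := D.comm
  obtain ⟨g, hg, hgy⟩ := exists_inv h (D.mem k) hy hy2
  have hyy := hcomm k l hkl y hy y' hy'
  refine ⟨y * y', g, L, ?_, ?_, ?_, ?_, ?_, ?_, P, hi, hj, c, hc⟩
  · calc y * y' * (y * y') = y * (y' * y) * y' := by group
      _ = y * y * (y' * y') := by rw [← hyy]; group
      _ = 1 := by rw [hy2, hy2', hzk, hzl, h.zz_mul (D.mem i)]
  · intro a ha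
    calc y * y' * a = y * (y' * a) := by group
      _ = (y * a) * y' := by rw [hcomm l i hli y' hy' a ha]; group
      _ = a * (y * y') := by rw [hcomm k i hki y hy a ha]; group
  · exact fun a ha => hcomm k i hki g hg a ha
  · exact fun a ha => hcomm k j hkj g hg a ha
  · have h1 : y⁻¹ = y * zz (K i) := by
      rw [inv_eq_iff_mul_eq_one, ← mul_assoc, hy2, hzk, h.zz_mul (D.mem i)]
    have h2 : g * y' = y' * g := hcomm k l hkl g hg y' hy'
    have h3 : zz (K i) * y' = y' * zz (K i) := by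
      rw [← hzk]; exact hcomm k l hkl _ (h.zz_mem (D.mem k)) y' hy'
    calc g * (y * y') * g⁻¹ = (g * y * g⁻¹) * (g * y' * g⁻¹) := by group
      _ = y * zz (K i) * y' := by rw [hgy, h1, h2, mul_inv_cancel_right]
      _ = y * y' * zz (K i) := by rw [mul_assoc, h3]; group
  · intro d hd
    have h1 := core_comm D hF hki.symm hzk d hd y hy
    have h2 := core_comm D hF hli.symm hzl d hd y' hy'
    calc y * y' * d = y * (d * y') := by rw [h2, mul_assoc]
      _ = d * (y * y') := by rw [← mul_assoc, ← h1, mul_assoc]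

/-! ### One piece -/

section One

variable {X : ι → SignType → Subgroup G} (D : Dat Om F K X) (hF : Odd (Fintype.card F))

/-- An element of `C(t)` centralising a root group of a frame member in the piece `L` normalises `L`. -/
theorem cj_piece (D : Dat Om F K X) {t : G} {L : Subgroup G} (P : Piece Om t L) {i : ι} (hi : K i ≤ L) {s : SignType}
    (hs : s ≠ 0) {a : G} (hau : a * t = t * a) (ha : ∀ x ∈ X i s, a * x = x * a) : cj a L = L := by
  rcases P.norm a hau with h1 | h1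
  · exact h1
  · exfalso
    have hX : ∀ x ∈ X i s, x = 1 := by
      intro x hx
      refine D.X_center i hs hx fun b hb => ?_
      have h2 : x ∈ cj a L := by
        rw [mem_cj]
        have h3 : a⁻¹ * x * a = x := by rw [mul_assoc, ← ha x hx]; group
        rw [h3]
        exact hi (D.X_le i hs hx)
      exact (h1 b (hi hb) x h2).symm
    have h2 := D.card_X i hs
    have h3 : X i s = ⊥ := by
      rw [eq_bot_iff]
      intro x hx
      exact Subgroup.mem_bot.2 (hX x hx)
    rw [h3, Subgroup.card_bot] at h2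
    exact (Fintype.one_lt_card (α := F)).ne h2

include D hF in
/-- `[C(t) ∩ O(C(X i s)), z] ≤ VV r` -/
theorem comm_VV {p : ℕ} {t : G} {L : Subgroup G} (P : Piece Om t L) {i : ι} (hi : K i ≤ L) {s : SignType}
    (hs : s ≠ 0) (c : Chart Om p L) {r : c.I → ℤ} (hr : r ∈ c.R) (hZ : c.Z r = X i s)
    (hz : c.z r = zz (K i)) {a : G} (ha : a ∈ core (X i s)) (hat : a * t = t * a) :
    ⁅a, zz (K i)⁆ ∈ VV c.cs c.h c.X r := by
  have hl := D.long hF i hs
  have hzz : (zz (K i))⁻¹ = zz (K i) := inv_eq_of_mul_eq_one_left hl.zsq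
  have h1 : cj a L = L := cj_piece D P hi hs hat fun x hx => core_commute ha hx
  set b := ⁅a, zz (K i)⁆ with hb
  have hbL : b ∈ L := by
    have h2 : a * zz (K i) * a⁻¹ ∈ L := by
      have := conj_mem_cj (g := a) (hi hl.zK)
      rwa [h1] at this
    rw [hb, commutatorElement_def]
    exact mul_mem h2 (inv_mem (hi hl.zK))
  have hbR : b ∈ core (X i s) := by
    have h2 : b = a * (zz (K i) * a⁻¹ * (zz (K i))⁻¹) := by rw [hb, commutatorElement_def]; group
    rw [h2]
    refine mul_mem ha (core_conj_mem (mem_centralizer_iff.2 fun x hx => ?_) (inv_mem ha))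
    exact hl.central (D.X_le i hs hx)
  refine CoreFrame.mem_of_sq hbR ?_
  have hN : b ∈ Subgroup.normalizer (c.Z r : Set G) := by
    refine (Subgroup.centralizer_le_normalizer (c.Z r : Set G) : _) ?_
    rw [mem_centralizer_iff, hZ]
    exact fun x hx => (core_commute hbR hx).symm
  have h3 := comm_mem_VV c.cls hr (by rw [GG_eq]; exact hbL) hN
  rw [hz] at h3
  have h4 : zz (K i) * b⁻¹ * (zz (K i))⁻¹ = b := by
    rw [hb, commutatorElement_def, hzz]
    calc zz (K i) * (a * zz (K i) * a⁻¹ * zz (K i))⁻¹ * zz (K i)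
        = zz (K i) * (zz (K i))⁻¹ * a * (zz (K i))⁻¹ * a⁻¹ * zz (K i) := by group
      _ = a * zz (K i) * a⁻¹ * zz (K i) := by rw [hzz, hl.zsq, one_mul]
  have h5 : b * zz (K i) * b⁻¹ * (zz (K i))⁻¹ = b * b := by
    calc b * zz (K i) * b⁻¹ * (zz (K i))⁻¹ = b * (zz (K i) * b⁻¹ * (zz (K i))⁻¹) := by group
      _ = b * b := by rw [h4]
  rwa [h5] at h3

omit [Finite G] in
/-- `z` inverts `Q / X` -/
theorem mul_conj_mem [Finite G] {z : ι → G} {Q : ι → SignType → Subgroup G} (Fr : Frame K z X Q) {i : ι}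
    {s : SignType} (hs : s ≠ 0) {a : G} (ha : a ∈ Q i s) : a * (z i * a * z i) ∈ X i s := by
  have hzz := Fr.z_sq i
  have hzi := Fr.z_inv i
  have hb : z i * a * z i ∈ Q i s := by
    have := (Subgroup.mem_normalizer_iff.1 (Fr.z_mem_normalizer_Q i i s) a).1 ha
    rwa [hzi] at this
  set b := z i * a * z i with hbdef
  set y := a * b with hy
  have hyQ : y ∈ Q i s := mul_mem ha hb
  have hx0 : ⁅b, a⁆ ∈ X i s := Fr.Q_der i s hs b hb a ha
  set x0 := ⁅b, a⁆ with hx0def
  have h1 : z i * y * z i = x0 * y := by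
    have h2 : z i * y * z i = b * a := by
      calc z i * (a * (z i * a * z i)) * z i = (z i * a * z i) * a * (z i * z i) := by group
        _ = b * a := by rw [hzz, mul_one]
    rw [h2, hx0def, hy, commutatorElement_def]
    group
  have h3 : z i * x0 = x0 * z i := Fr.z_cent i x0 (Fr.X_le_K i hs hx0)
  have h4 : x0 * x0 = 1 := by
    have h5 : z i * (x0 * y) * z i = y := by
      rw [← h1]
      calc z i * (z i * y * z i) * z i = (z i * z i) * y * (z i * z i) := by group
        _ = y := by rw [hzz, one_mul, mul_one]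
    have h6 : z i * (x0 * y) * z i = x0 * x0 * y := by
      calc z i * (x0 * y) * z i = (z i * x0) * y * z i := by group
        _ = x0 * (z i * y * z i) := by rw [h3]; group
        _ = x0 * x0 * y := by rw [h1]; group
    rw [h6] at h5
    exact mul_eq_right.1 h5
  have h5 : x0 = 1 := Fr.eq_one_of_sq hs (Fr.X_le_Q i s hs hx0) h4
  rw [h5, one_mul] at h1
  refine Fr.Q_fix i s hs y hyQ ?_
  calc z i * y = z i * y * (z i * z i) := by rw [hzz, mul_one]
    _ = (z i * y * z i) * z i := by group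
    _ = y * z i := by rw [h1]

include D in
/-- `C(t) ∩ Q i s` lies in the piece `L`. -/
theorem mem_L (Fr : Frame K (fun i => zz (K i)) X (QF K X)) {t : G} {L : Subgroup G} (P : Piece Om t L) {i : ι}
    (hi : K i ≤ L) {s : SignType} (hs : s ≠ 0) {a : G} (ha : a ∈ QF K X i s) (hat : a * t = t * a) : a ∈ L := by
  have h1 : cj a L = L := cj_piece D P hi hs hat fun x hx => Fr.Q_cent i s hs a ha x hx
  have hz := Fr.z_sq i
  have hzi : (zz (K i))⁻¹ = zz (K i) := Fr.z_inv i
  have h2 : a⁻¹ * (zz (K i) * a⁻¹ * zz (K i)) ∈ X i s := mul_conj_mem Fr hs (inv_mem ha)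
  have h3 : a * zz (K i) * a⁻¹ * zz (K i) ∈ L := by
    have h4 := conj_mem_cj (g := a) (hi (Fr.z_mem i))
    rw [h1] at h4
    exact mul_mem h4 (hi (Fr.z_mem i))
  have h5 : a * a ∈ L := by
    have h6 : a * a = (a * zz (K i) * a⁻¹ * zz (K i)) * (a⁻¹ * (zz (K i) * a⁻¹ * zz (K i)))⁻¹ := by
      rw [mul_inv_rev, inv_inv]
      group
    rw [h6]
    exact mul_mem h3 (inv_mem (hi (Fr.X_le_K i hs h2)))
  obtain ⟨m, hm⟩ := Fr.odd_order hs ha
  have h7 : (a * a) ^ (m + 1) = a := by
    have h8 : a ^ (2 * m + 1) = 1 := by rw [← hm]; exact pow_orderOf_eq_one a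
    rw [← pow_two, ← pow_mul]
    calc a ^ (2 * (m + 1)) = a ^ (2 * m + 1) * a := by rw [← pow_succ]; congr 1
      _ = a := by rw [h8, one_mul]
  rw [← h7]
  exact pow_mem h5 _

end One

/-! ### Conjugating the chart -/

theorem VV_conj {p : ℕ} {L : Subgroup G} (c : Chart Om p L) {y : G} (hy : y ∈ L)
    (hOm : ∀ K ∈ Om, ∀ g, cj g K ∈ Om) (r : c.I → ℤ) :
    VV (conjChart c hy hOm).cs (conjChart c hy hOm).h (conjChart c hy hOm).X r = cj y (VV c.cs c.h c.X r) :=
  (Nodes.Reps.cj_iSup y _).symm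

theorem form_eq {p : ℕ} {L : Subgroup G} (c : Chart Om p L) {r s : c.I → ℤ} (hr : r ∈ c.R) (hs : s ∈ c.R) :
    form c.cs c.h r r = form c.cs c.h s s := by
  obtain ⟨w, rfl⟩ := c.trans r hr s hs
  rw [form_rep]

/-- all groups `VV s`, `s ∈ R`, are abelian if one is -/
theorem abelian_all {p : ℕ} {L : Subgroup G} (c : Chart Om p L) {r : c.I → ℤ} (hr : r ∈ c.R)
    (h : ∀ a ∈ VV c.cs c.h c.X r, ∀ b ∈ VV c.cs c.h c.X r, a * b = b * a) {s : c.I → ℤ} (hs : s ∈ c.R) :
    ∀ a ∈ VV c.cs c.h c.X s, ∀ b ∈ VV c.cs c.h c.X s, a * b = b * a := by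
  obtain ⟨w, rfl⟩ := c.trans r hr s hs
  obtain ⟨k, hk⟩ := exists_rp c.cs c.cls.rgd.nsys w
  rw [← cj_VV c.cls hk r]
  intro a ha b hb
  have h1 := h _ (mem_cj.1 ha) _ (mem_cj.1 hb)
  have h2 : k * ((k⁻¹ * a * k) * (k⁻¹ * b * k)) * k⁻¹ = k * ((k⁻¹ * b * k) * (k⁻¹ * a * k)) * k⁻¹ := by rw [h1]
  calc a * b = k * ((k⁻¹ * a * k) * (k⁻¹ * b * k)) * k⁻¹ := by group
    _ = _ := h2
    _ = b * a := by group

/-! ### The input -/

/-! ### Adapted charts -/

section Adapted

variable {K : ι → Subgroup G} {X : ι → SignType → Subgroup G} {p : ℕ} [CharP F p] (D : Dat Om F K X)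

include D

theorem z_ne {L : Subgroup G} (c : Chart Om p L) (hcard : ∀ r ∈ c.R, Nat.card (VV c.cs c.h c.X r) = Nat.card F ^ 5)
    {i : ι} (hi : K i ≤ L) : ∀ r ∈ c.R, c.z r ≠ 1 := by
  have hp := Fact.mk c.prime
  obtain ⟨r0, hr0, g, hg, h1⟩ := c.om_conj (K i) (D.mem i) hi
  obtain ⟨e', -, -⟩ := D.sl i
  have hm1 : (-1 : SignType) ≠ 0 := by decide
  obtain ⟨k, hk, h2, h3⟩ := Nodes.ChartLoc.exists_pair_conj c.cls c.odd hr0 (by rw [GG_eq]; exact hg) h1 e'
    (D.X_le i one_ne_zero) (D.card_X i one_ne_zero) (D.X_le i hm1) (D.card_X i hm1) (D.X_ne i one_ne_zero)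
  have h4 : Nat.card (c.Z r0) = Nat.card F := by
    have h5 := D.card_X i (one_ne_zero (α := SignType))
    rw [h2, card_cj] at h5
    rw [h5, Nat.card_eq_fintype_card]
  intro r hr hz
  obtain ⟨w, rfl⟩ := c.trans r0 hr0 r hr
  obtain ⟨n, hn⟩ := exists_rp c.cs c.cls.rgd.nsys w
  have h5 : Nat.card (c.Z (rep c.cs c.h w r0)) = Nat.card F := by
    rw [← conj_Z c.cls hn hr0, Nodes.Reps.cj, Subgroup.card_map_of_injective (MulAut.conj n).injective, h4]
  have h6 : VV c.cs c.h c.X (rep c.cs c.h w r0) ≤ c.Z (rep c.cs c.h w r0) := by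
    intro v hv
    refine mem_Z_of_commute c.cls c.odd hr hv ?_
    rw [hz, mul_one, one_mul]
  have h7 := Subgroup.card_le_of_le h6
  rw [h5, hcard _ hr] at h7
  have h9 : 1 < Nat.card F := by rw [Nat.card_eq_fintype_card]; exact Fintype.one_lt_card
  have h8 : Nat.card F ^ 1 < Nat.card F ^ 5 := Nat.pow_lt_pow_right h9 (by norm_num)
  rw [pow_one] at h8
  omega

variable [Finite ι]

/-- the adapted chart -/
theorem exists_chart {i j : ι} (hloc : Loc Om p (Nat.card F) K i j) : ∃ t g : G, ∃ L : Subgroup G, t * t = 1 ∧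
    (∀ a ∈ K i, t * a = a * t) ∧ (∀ a ∈ K i, g * a = a * g) ∧ (∀ a ∈ K j, g * a = a * g) ∧
    g * t * g⁻¹ = t * zz (K i) ∧ (∀ d ∈ Parab.core (K i), t * d = d * t) ∧ Piece Om t L ∧ K i ≤ L ∧ K j ≤ L ∧
    ∃ (c : Chart Om p L) (gr : ι → c.I → ℤ), Adapted K X c gr ∧
      ∀ r ∈ c.R, Nat.card (VV c.cs c.h c.X r) = Nat.card F ^ 5 := by
  obtain ⟨t, g, L, h1, h2, h3, h4, h5, h6, P, hi, hj, c, hc⟩ := hloc
  have : Fact p.Prime := ⟨c.prime⟩
  obtain ⟨y, hy, gr, hA⟩ := exists_adapted c (z_ne D c hc hi) D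
  refine ⟨t, g, L, h1, h2, h3, h4, h5, h6, P, hi, hj, conjChart c hy D.hyp.conj, gr, hA, fun r hr => ?_⟩
  have e1 := congrArg (fun S : Subgroup G => Nat.card S) (VV_conj c hy D.hyp.conj r)
  exact e1.trans ((card_cj _ _).trans (hc r hr))

/-- **`Good` from the local information.** -/
theorem good_of_loc (hF : Odd (Fintype.card F)) {i j : ι} (hloc : Loc Om p (Nat.card F) K i j)
    (hs : Group.IsSolvable (Parab.core (X i 1))) : Good p (X i 1) (zz (K i)) := by
  obtain ⟨t, g, L, h1, h2, h3, h4, h5, h6, P, hi, -, c, gr, hA, -⟩ := exists_chart D hloc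
  have : Fact p.Prime := ⟨c.prime⟩
  have hl := D.long hF i (one_ne_zero (α := SignType))
  have hzt : zz (K i) * t = t * zz (K i) := (h2 _ hl.zK).symm
  have hQ : Qw (Parab.core (X i 1)) (zz (K i)) t ≤ VV c.cs c.h c.X (gr i) := by
    rw [Qw, Subgroup.commutator_le]
    rintro a ⟨ha, hat⟩ b hb
    obtain ⟨k, rfl⟩ := mem_zpowers_iff.1 hb
    have hzz2 : zz (K i) ^ (2 : ℤ) = 1 := by rw [zpow_two]; exact hl.zsq
    rcases Int.even_or_odd k with ⟨m, hm⟩ | ⟨m, hm⟩
    · rw [hm, ← two_mul, zpow_mul, hzz2, one_zpow, commutatorElement_one_right]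
      exact one_mem _
    · rw [hm, zpow_add, zpow_mul, hzz2, one_zpow, one_mul, zpow_one]
      exact comm_VV D hF P hi one_ne_zero c (hA.mem i hi) (hA.pos i hi) (hA.zz i hi) ha
        (mem_centralizer_singleton_iff.1 hat)
  have hQp : IsPGroup p (Qw (Parab.core (X i 1)) (zz (K i)) t) := (isPGroup_VV c.cls (gr i)).to_le hQ
  have hQd : ⁅Qw (Parab.core (X i 1)) (zz (K i)) t, Qw (Parab.core (X i 1)) (zz (K i)) t⁆ ≤ X i 1 := by
    refine (Subgroup.commutator_mono hQ hQ).trans ?_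
    rw [← hA.pos i hi]
    exact commutator_VV_le c.cls c.odd (hA.mem i hi)
  have hgX : ∀ x ∈ X i 1, g * x * g⁻¹ = x := fun x hx => by
    rw [h3 x (D.X_le i one_ne_zero hx), mul_inv_cancel_right]
  have hcX : cj g (X i 1) = X i 1 := cj_eq_of_conj_mem fun x hx => by rw [hgX x hx]; exact hx
  have hconj : Qw (Parab.core (X i 1)) (zz (K i)) (zz (K i) * t) = cj g (Qw (Parab.core (X i 1)) (zz (K i)) t) := by
    rw [Qw, Qw, cj_commutator, cj_zpowers, cj_inf, cj_core hcX]
    have e1 : g * zz (K i) * g⁻¹ = zz (K i) := by rw [h3 _ hl.zK, mul_inv_cancel_right]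
    have e2 : cj g (centralizer {t} : Subgroup G) = centralizer {zz (K i) * t} := by
      rw [hzt, ← h5]
      ext x
      rw [mem_cj, mem_centralizer_singleton_iff, mem_centralizer_singleton_iff]
      constructor
      · intro h
        calc x * (g * t * g⁻¹) = g * (g⁻¹ * x * g * t) * g⁻¹ := by group
          _ = g * t * g⁻¹ * x := by rw [h]; group
      · intro h
        calc g⁻¹ * x * g * t = g⁻¹ * (x * (g * t * g⁻¹)) * g := by group
          _ = t * (g⁻¹ * x * g) := by rw [h]; group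
    rw [e1, e2]
  refine PairUQ.good_of_pair hl (D.isPGroup i one_ne_zero) h1 h2 h6 hs hQp ?_ hQd ?_
  · rw [hconj]
    exact isPGroup_cj hQp
  · rw [hconj, ← cj_commutator]
    have := cj_mono g hQd
    rwa [hcX] at this

end Adapted

/-- The local input for the case `D₄`. -/
structure Prov (Om : Set (Subgroup G)) (F : Type*) [Field F] [Fintype F] (p : ℕ) (K : Fin 4 → Subgroup G)
    (X : Fin 4 → SignType → Subgroup G) : Prop where
  dat : Dat Om F K X
  odd : Odd (Fintype.card F)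
  zeq : ∀ i j, zz (K i) = zz (K j)
  good : ∀ i, Good p (X i 1) (zz (K i))
  loc : ∀ i j, i ≠ j → Loc Om p (Nat.card F) K i j

/-- **The input without `good`**, the groups of odd order solvable. -/
theorem Prov.of_solvable {K : Fin 4 → Subgroup G} {X : Fin 4 → SignType → Subgroup G} {p : ℕ} [CharP F p]
    (D : Dat Om F K X) (hF : Odd (Fintype.card F)) (hz : ∀ i j, zz (K i) = zz (K j))
    (hloc : ∀ i j, i ≠ j → Loc Om p (Nat.card F) K i j)
    (solv : ∀ H : Subgroup G, ¬ 2 ∣ Nat.card H → Group.IsSolvable H) : Prov Om F p K X where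
  dat := D
  odd := hF
  zeq := hz
  good i := by
    obtain ⟨j, -, hj, -, -⟩ := In.exists_pair i
    refine good_of_loc D hF (hloc i j hj.symm) (solv _ ?_)
    rw [← even_iff_two_dvd, Nat.not_even_iff_odd]
    exact odd_core _
  loc := hloc

namespace Prov

variable {K : Fin 4 → Subgroup G} {X : Fin 4 → SignType → Subgroup G} {p : ℕ} [Fact p.Prime] [CharP F p]
  (H : Prov Om F p K X)

include H

theorem fr : Frame K (fun i => zz (K i)) X (QF K X) := frame_of H.dat H.odd H.good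

theorem one_lt : 1 < Nat.card F := by
  rw [Nat.card_eq_fintype_card]; exact Fintype.one_lt_card

theorem pow_ne : Nat.card F ^ 5 ≠ Nat.card F := by
  have h1 := H.one_lt
  intro h2
  have h3 : Nat.card F ^ 1 < Nat.card F ^ 5 := Nat.pow_lt_pow_right h1 (by norm_num)
  rw [pow_one] at h3
  omega

theorem inf_L_eq {i : Fin 4} {s : SignType} (hs : s ≠ 0) {L : Subgroup G} (c : Chart Om p L) {r : c.I → ℤ}
    (hr : r ∈ c.R) (hZ : c.Z r = X i s) (hz : c.z r = zz (K i)) : QF K X i s ⊓ L = VV c.cs c.h c.X r := by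
  have hl := H.dat.long H.odd i hs
  have hgood := H.dat.good H.odd (H.good i) hs
  rw [QF_of_ne K X i hs]
  refine FrameF2.chart_inf_eq c hr hgood.pg (by rw [hZ]; exact X_le_QQ _ _) ?_ ?_
  · intro a ha
    rw [hZ] at ha
    refine mem_normalizer_iff_cj.2 (cj_QQ hl (cj_eq_of_conj_mem fun x hx => ?_))
    have : a * x * a⁻¹ = x := by rw [ha x hx]; group
    rwa [this]
  · intro a ha
    rw [hZ] at ha
    rw [hz]
    exact QX_le_QQ _ _ (hl.commutator_mem (mem_centralizer_iff.2 fun x hx => (ha x hx).symm))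

theorem inf_t_eq {i : Fin 4} {s : SignType} (hs : s ≠ 0) {t : G} {L : Subgroup G} (P : Piece Om t L)
    (hi : K i ≤ L) : QF K X i s ⊓ centralizer {t} = QF K X i s ⊓ L := by
  apply le_antisymm
  · rintro a ⟨ha, hat⟩
    refine ⟨ha, ?_⟩
    exact mem_L H.dat H.fr P hi hs ha (mem_centralizer_singleton_iff.1 hat)
  · rintro a ⟨ha, haL⟩
    exact ⟨ha, mem_centralizer_singleton_iff.2 (P.le a haL)⟩

omit [Fact p.Prime] [CharP F p] in
/-- the root of the frame in a chart -/
theorem exists_root {L : Subgroup G} {c : Chart Om p L} {gr : Fin 4 → c.I → ℤ} (hA : Adapted K X c gr)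
    {i : Fin 4} (hi : K i ≤ L) {s : SignType} (hs : s ≠ 0) :
    ∃ r ∈ c.R, c.Z r = X i s ∧ c.Z (-r) = X i (-s) ∧ c.z r = zz (K i) ∧ (r = gr i ∨ r = -gr i) := by
  rcases sign_cases hs with rfl | rfl
  · exact ⟨gr i, hA.mem i hi, hA.pos i hi, hA.neg i hi, hA.zz i hi, Or.inl rfl⟩
  · refine ⟨-gr i, neg_mem c.cls (hA.mem i hi), hA.neg i hi, ?_, ?_, Or.inr rfl⟩
    · rw [neg_neg, neg_neg]; exact hA.pos i hi
    · rw [c.cls.z_neg _ (hA.mem i hi), hA.zz i hi]

omit [Fact p.Prime] [CharP F p] in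
theorem cj_w_QF {e : ∀ i, Matrix.SpecialLinearGroup (Fin 2) F ≃* K i} (he1 : ∀ i, X i 1 = root (e i))
    (he2 : ∀ i, X i (-1) = rootOp (e i)) (i : Fin 4) {s : SignType} (hs : s ≠ 0) {a : G} (ha : a ∈ QF K X i s) :
    (ofEquiv (e i)).w * a * (ofEquiv (e i)).w⁻¹ ∈ QF K X i (-s) := by
  have hs' := sneg hs
  have hl := H.dat.long H.odd i hs
  have h1 : cj (ofEquiv (e i)).w (X i s) = X i (-s) := by
    rcases sign_cases hs with rfl | rfl
    · rw [he1, he2]; exact (cj_w (e i)).1
    · rw [neg_neg, he1, he2]; exact (cj_w (e i)).2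
  have h2 : (ofEquiv (e i)).w * zz (K i) * (ofEquiv (e i)).w⁻¹ = zz (K i) := by
    rw [hl.central (w_mem (e i))]; group
  have h3 := QQ_cj (ofEquiv (e i)).w (X i s) (zz (K i))
  rw [h1, h2] at h3
  rw [QF_of_ne K X i hs'] 
  rw [QF_of_ne K X i hs] at ha
  rw [h3]
  exact conj_mem_cj ha

/-- **(D4-in)** -/
theorem toInv : ∃ e : ∀ i, Matrix.SpecialLinearGroup (Fin 2) F ≃* K i,
    Inv e (fun i => zz (K i)) X (QF K X) := by
  have D := H.dat
  have Fr := H.fr
  choose e he1 he2 using D.sl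
  refine ⟨e, ?_⟩
  refine
    { fr := Fr, root := he1, rootOp := he2, zeq := H.zeq, h2 := ?_, ord := fun i => D.hyp.orderOf_zz (D.mem i)
      max := fun i s hs a ha hz ho => QF_max D H.odd i hs ha hz ho, inv := ?_ }
  · intro h2
    obtain ⟨m, hm⟩ := H.odd
    have h3 := FiniteField.cast_card_eq_zero F
    rw [hm] at h3
    push_cast at h3
    rw [h2, zero_mul, zero_add] at h3
    exact one_ne_zero h3
  · intro i j hij
    obtain ⟨t, g, L, h1, h2, h3, h4, h5, -, P, hi, hj, c, gr, hA, hcard⟩ := exists_chart H.dat (H.loc i j hij)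
    refine ⟨t, g, h1, h2, h3, h4, h5, fun s hs => ?_⟩
    obtain ⟨r, hr, hZ, hZn, hz, hre⟩ := H.exists_root hA hi hs
    have e1 : QF K X i s ⊓ centralizer {t} = VV c.cs c.h c.X r := by
      rw [H.inf_t_eq hs P hi, H.inf_L_eq hs c hr hZ hz]
    rw [e1]
    have horth : ∀ {r' : c.I → ℤ}, (r' = gr j ∨ r' = -gr j) → form c.cs c.h r r' = 0 := by
      intro r' hre'
      have h0 := hA.orth i hi j hj hij
      rcases hre with rfl | rfl <;> rcases hre' with rfl | rfl <;>
        simp only [form_neg_left, form_neg_right, h0, neg_zero]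
    refine ⟨hcard r hr, ?_, ?_⟩
    · -- not abelian
      by_contra hcon
      push Not at hcon
      obtain ⟨r', hr', hZ', hZn', hz', hre'⟩ := H.exists_root hA hj hs
      have hab : ∀ s ∈ ({r, -r, r', -r'} : Set (c.I → ℤ)), ∀ a ∈ VV c.cs c.h c.X s,
          ∀ b ∈ VV c.cs c.h c.X s, a * b = b * a := by
        intro s hs
        refine abelian_all c hr hcon ?_
        simp only [Set.mem_insert_iff, Set.mem_singleton_iff] at hs
        rcases hs with rfl | rfl | rfl | rfl
        · exact hr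
        · exact neg_mem c.cls hr
        · exact hr'
        · exact neg_mem c.cls hr'
      have hne : VV c.cs c.h c.X r ≠ c.Z r := by
        intro h6
        have h7 := hcard r hr
        rw [h6, hZ, D.card_X i hs, ← Nat.card_eq_fintype_card] at h7
        exact H.pow_ne h7.symm
      have hs' := sneg hs
      have q1 : QF K X i s ⊓ L = VV c.cs c.h c.X r := H.inf_L_eq hs c hr hZ hz
      have q2 : QF K X i (-s) ⊓ L = VV c.cs c.h c.X (-r) :=
        H.inf_L_eq hs' c (neg_mem c.cls hr) hZn (by rw [c.cls.z_neg r hr, hz])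
      have q3 : QF K X j s ⊓ L = VV c.cs c.h c.X r' := H.inf_L_eq hs c hr' hZ' hz'
      have q4 : QF K X j (-s) ⊓ L = VV c.cs c.h c.X (-r') :=
        H.inf_L_eq hs' c (neg_mem c.cls hr') hZn' (by rw [c.cls.z_neg r' hr', hz'])
      have hwK := w_mem (e i)
      have hwL := hi hwK
      have hL : ∀ a ∈ L, (ofEquiv (e i)).w * a * (ofEquiv (e i)).w⁻¹ ∈ L := fun a ha =>
        mul_mem (mul_mem hwL ha) (inv_mem hwL)
      refine TwinRoots.false_of_abelian c.cls c.odd hr hr' (horth hre') (form_eq c hr hr')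
        (by rw [hz, hz', H.zeq i j]) hne hab (w := (ofEquiv (e i)).w) ?_ ?_ ?_ ?_ ?_
      · rw [hZ, hZn]
        have h6 : K i ≤ X i s ⊔ X i (-s) := by
          rw [D.K_eq i]
          rcases sign_cases hs with rfl | rfl
          · exact le_rfl
          · rw [neg_neg, sup_comm]
        exact h6 hwK
      · intro a ha
        rw [← q1] at ha
        rw [← q2]
        exact ⟨H.cj_w_QF he1 he2 i hs ha.1, hL a ha.2⟩
      · intro a ha
        rw [← q2] at ha
        rw [← q1]
        have := H.cj_w_QF he1 he2 i hs' ha.1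
        rw [neg_neg] at this
        exact ⟨this, hL a ha.2⟩
      · intro a ha
        rw [← q3] at ha ⊢
        exact ⟨conj_mem_Q Fr hij hs (w_mem (e i)) ha.1, hL a ha.2⟩
      · intro a ha
        rw [← q4] at ha ⊢
        exact ⟨conj_mem_Q Fr hij hs' (w_mem (e i)) ha.1, hL a ha.2⟩
    · intro u hu v hv x hx y hy
      obtain ⟨r', hr', hZ', hZn', hz', hre'⟩ := H.exists_root hA hj hu
      rw [← hZ] 
      rw [← hZ'] at hx hy
      exact TwinRoots.quad c.cls c.odd hr hr' (horth hre') (form_eq c hr hr') hv hx hy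

end Prov

end Cfsg.Agent.Cit.TypeD4Prov
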