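import Cfsg.Agent.Cit.DTwoChart
import Cfsg.Agent.Cit.TypeD4Prov
import Cfsg.Agent.Nodes.BThreeChart

/-!
# The case `D₄`: the types of the charts of the pieces (project CIT)

`card_VV` : the chart of the piece `L ≥ K i, K j` of `C(y y')`, `y ∈ K k`, `y' ∈ K l` of order `4`, is of type `A 3` or
`C 2` and `|VV r| = q ^ 5`.
-/

set_option autoImplicit false
set_option linter.unusedSectionVars false

namespace Cfsg.Agent.Cit.TypeD4Typ

open Subgroup Cfsg
open Cfsg.Agent.Cit.Parab Cfsg.Agent.Cit.LemmaUQ Cfsg.Agent.Cit.ParabSL2 Cfsg.Agent.Cit.FrameSign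
  Cfsg.Agent.Cit.FrameOf Cfsg.Agent.Cit.TypeD4Prov
open CoxeterSystem Cfsg.Agent.ChevalleyStructure.CoxeterGeom Cfsg.Agent.Nodes.Chart Cfsg.Agent.Nodes.ChartLoc
  Cfsg.Agent.Nodes.Comb Cfsg.Agent.Nodes.ClsNorm Cfsg.Agent.Nodes.Reps Cfsg.Agent.Tits.Roots
  Cfsg.Agent.Tits.Core Cfsg.Agent.Tits.RootComb

variable {G : Type*} [Group G] [Finite G]

theorem not_comm {ι : Type*} {Om : Set (Subgroup G)} {F : Type*} [Field F] [Fintype F] {K : ι → Subgroup G}
    {X : ι → SignType → Subgroup G} (D : FrameOf.Dat Om F K X) (i : ι) (h : ∀ a ∈ K i, ∀ b ∈ K i, a * b = b * a) :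
    False := by
  have h2 := D.card_X i (one_ne_zero (α := SignType))
  have h3 : X i 1 = ⊥ := by
    rw [eq_bot_iff]
    intro x hx
    refine Subgroup.mem_bot.2 (D.X_center i one_ne_zero hx fun b hb => ?_)
    exact (h b hb x (D.X_le i one_ne_zero hx)).symm
  rw [h3, Subgroup.card_bot] at h2
  exact (Fintype.one_lt_card (α := F)).ne h2

theorem fin_four : ∀ i j k l : Fin 4, i ≠ j → i ≠ k → i ≠ l → j ≠ k → j ≠ l → k ≠ l →
    ∀ m : Fin 4, m = i ∨ m = j ∨ m = k ∨ m = l := by decide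

/-- the order of the classical root groups of a chart -/
theorem card_Z_all {ι : Type*} {Om : Set (Subgroup G)} {F : Type*} [Field F] [Fintype F] {p : ℕ} [CharP F p]
    {K : ι → Subgroup G} {X : ι → SignType → Subgroup G} (D : FrameOf.Dat Om F K X) {L : Subgroup G} {i : ι}
    (hi : K i ≤ L) (c : Chart Om p L) : ∀ r ∈ c.R, Nat.card (c.Z r) = Nat.card F := by
  have hp : Fact p.Prime := ⟨c.prime⟩
  obtain ⟨r0, hr0, g, hg, h1⟩ := c.om_conj (K i) (D.mem i) hi
  obtain ⟨e', -, -⟩ := D.sl i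
  have e2 : Matrix.SpecialLinearGroup (Fin 2) F ≃* ↥(c.Z r0 ⊔ c.Z (-r0)) :=
    (e'.trans (MulEquiv.subgroupCongr h1)).trans (cjEquiv g _).symm
  have h2 := card_Z c.cls c.odd hr0 e2
  intro r hr
  obtain ⟨w, rfl⟩ := c.trans r0 hr0 r hr
  obtain ⟨n, hn⟩ := exists_rp c.cs c.cls.rgd.nsys w
  rw [← conj_Z c.cls hn hr0, Nodes.Reps.cj, Subgroup.card_map_of_injective (MulAut.conj n).injective, h2,
    Nat.card_eq_fintype_card]

/-- **(D)**, without the hypotheses `Good`, ... -/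
theorem card_VV' {Om : Set (Subgroup G)} {F : Type*} [Field F] [Fintype F] {p : ℕ}
    [CharP F p] {K : Fin 4 → Subgroup G} {X : Fin 4 → SignType → Subgroup G} (D : FrameOf.Dat Om F K X)
    (hinj : Function.Injective K) (hz : ∀ i j, zz (K i) = zz (K j))
    (hcom : ∀ i, ∀ J ∈ Om, (∀ a ∈ J, ∀ b ∈ K i, a * b = b * a) → ∃ j, J = K j) {i j k l : Fin 4}
    (hij : i ≠ j) (hik : i ≠ k) (hil : i ≠ l) (hjk : j ≠ k) (hjl : j ≠ l) (hkl : k ≠ l) {y y' : G}
    (hy : y ∈ K k) (hy' : y' ∈ K l) (hy2 : y * y = zz (K k)) (hy2' : y' * y' = zz (K l)) {L : Subgroup G}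
    (P : FrameOf.Piece Om (y * y') L) (hi : K i ≤ L) (hj : K j ≤ L) (c : Chart Om p L) {τ : Nodes.Chart.Ty} (hτ : c.IsTy τ)
    (ok : KindOk τ) (zx : (∀ r ∈ c.R, c.Z r = c.X r) ∨ ∃ n, τ = .C n) :
    (τ = .A 3 ∨ τ = .C 2) ∧ ∀ r ∈ c.R, Nat.card (VV c.cs c.h c.X r) = Nat.card F ^ 5 := by
  have h := D.hyp
  have hc := D.comm
  obtain ⟨u, hu, huy⟩ := exists_inv h (D.mem k) hy hy2
  obtain ⟨v, hv, hvy⟩ := exists_inv h (D.mem l) hy' hy2'
  have hyy := hc k l hkl y hy y' hy'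
  have huv := hc k l hkl u hu v hv
  have huy' := hc k l hkl u hu y' hy'
  have hyv := hc k l hkl y hy v hv
  have y1 : y * y ≠ 1 := by
    rw [hy2]
    intro h1
    have h2 := h.orderOf_zz (D.mem k)
    rw [h1, orderOf_one] at h2
    omega
  have y1' : y' * y' ≠ 1 := by
    rw [hy2']
    intro h1
    have h2 := h.orderOf_zz (D.mem l)
    rw [h1, orderOf_one] at h2
    omega
  have tt : y * y' * (y * y') = 1 := by
    calc y * y' * (y * y') = y * (y' * y) * y' := by group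
      _ = y * y * (y' * y') := by rw [← hyy]; group
      _ = 1 := by rw [hy2, hy2', hz k i, hz l i, h.zz_mul (D.mem i)]
  -- the type
  have hmax : ∀ J ∈ Om, J ≤ L → Cfsg.Agent.Cit.TypeDet.cm J (K i) → Cfsg.Agent.Cit.TypeDet.cm J (K j) → False := by
    intro J hJ hJL h1 h2
    obtain ⟨m, rfl⟩ := hcom i J hJ h1
    rcases fin_four i j k l hij hik hil hjk hjl hkl m with rfl | rfl | rfl | rfl
    · exact not_comm D _ h1
    · exact not_comm D _ h2
    · have h3 := P.le u (hJL hu)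
      apply y1
      have h4 : y⁻¹ * y' = y * y' := by
        calc y⁻¹ * y' = u * y * u⁻¹ * y' := by rw [huy]
          _ = u * y * (u⁻¹ * y' * u) * u⁻¹ := by group
          _ = u * (y * y') * u⁻¹ := by
              have : u⁻¹ * y' * u = y' := by rw [mul_assoc, ← huy']; group
              rw [this]; group
          _ = y * y' := by rw [h3]; group
      have h5 : y⁻¹ = y := mul_right_cancel h4
      calc y * y = y * y⁻¹ := by rw [h5]
        _ = 1 := mul_inv_cancel y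
    · have h3 := P.le v (hJL hv)
      apply y1'
      have h4 : y * y'⁻¹ = y * y' := by
        calc y * y'⁻¹ = y * (v * y' * v⁻¹) := by rw [hvy]
          _ = (y * v) * y' * v⁻¹ := by group
          _ = v * (y * y') * v⁻¹ := by rw [hyv]; group
          _ = y * y' := by rw [h3]; group
      have h5 : y'⁻¹ = y' := mul_left_cancel h4
      calc y' * y' = y' * y'⁻¹ := by rw [h5]
        _ = 1 := mul_inv_cancel y'
  have ht := FourTypes.types_ty h c hτ ok (D.mem i) (D.mem j) hi hj (hc i j hij) (hz i j) hmax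
  -- the group `⟨y, a⟩`
  have cyi : ∀ x ∈ K i, y * x = x * y := hc k i hik.symm y hy
  have cyj : ∀ x ∈ K j, y * x = x * y := hc k j hjk.symm y hy
  have cgi : ∀ x ∈ K i, u * v * x = x * (u * v) := fun x hx => by
    rw [mul_assoc, hc l i hil.symm v hv x hx, ← mul_assoc, hc k i hik.symm u hu x hx, mul_assoc]
  have cgj : ∀ x ∈ K j, u * v * x = x * (u * v) := fun x hx => by
    rw [mul_assoc, hc l j hjl.symm v hv x hx, ← mul_assoc, hc k j hjk.symm u hu x hx, mul_assoc]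
  have yt : y * (y * y') = y * y' * y := by rw [mul_assoc, ← hyy]
  have hgy : u * v * y * (u * v)⁻¹ = y⁻¹ := by
    calc u * v * y * (u * v)⁻¹ = u * (v * y) * v⁻¹ * u⁻¹ := by group
      _ = u * y * u⁻¹ := by rw [← hyv]; group
      _ = y⁻¹ := huy
  have gt : u * v * (y * y') = y * y' * (u * v) := by
    have h3 : u * v * (y * y') * (u * v)⁻¹ = y * y' := by
      calc u * v * (y * y') * (u * v)⁻¹ = (u * v * y * (u * v)⁻¹) * (u * (v * y' * v⁻¹) * u⁻¹) := by group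
        _ = y⁻¹ * (u * y'⁻¹ * u⁻¹) := by rw [hgy, hvy]
        _ = y⁻¹ * (u * y' * u⁻¹)⁻¹ := by group
        _ = (y * y')⁻¹ := by rw [huy', hyy]; group
        _ = y * y' := inv_eq_of_mul_eq_one_left tt
    calc u * v * (y * y') = (u * v * (y * y') * (u * v)⁻¹) * (u * v) := by group
      _ = _ := by rw [h3]
  have ny : cj y L = L := cj_piece D P hi one_ne_zero yt fun x hx => cyi x (D.X_le i one_ne_zero hx)
  have ng : cj (u * v) L = L := cj_piece D P hi one_ne_zero gt fun x hx => cgi x (D.X_le i one_ne_zero hx)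
  rcases ht with rfl | rfl | rfl
  · refine ⟨Or.inl rfl, ?_⟩
    rcases zx with zx | ⟨n, hn⟩
    · exact DTwoChart.A_three c hτ zx (card_Z_all D hi c)
    · exact absurd hn (by simp)
  · exfalso
    refine Cfsg.Agent.Nodes.BThreeChart.false_of_sq h c hτ (D.mem i) (D.mem j) hi hj (fun e => hij (hinj e))
      (hc i j hij) (g := y) (mem_normalizer_iff_cj.2 ny) cyi cyj ?_
    intro x hx
    rw [hy2, hz k j]
  · refine ⟨Or.inr rfl, ?_⟩
    obtain ⟨ei, -, -⟩ := D.sl i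
    obtain ⟨ej, -, -⟩ := D.sl j
    have := DTwoChart.C_two h c hτ (D.mem i) (D.mem j) hi hj (hc i j hij) (hz i j) ei ej ny ng cyi cyj cgi cgj
      (by rw [hy2, hz k i]) hgy
    rwa [← Nat.card_eq_fintype_card] at this

/-- **(D)** -/
theorem card_VV {Om : Set (Subgroup G)} {F : Type*} [Field F] [Fintype F] {p : ℕ}
    [CharP F p] {K : Fin 4 → Subgroup G} {X : Fin 4 → SignType → Subgroup G} (D : FrameOf.Dat Om F K X)
    (_hF : Odd (Fintype.card F)) (_hg : ∀ i (s : SignType), s ≠ 0 → Good p (X i s) (zz (K i)))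
    (hinj : Function.Injective K) (hz : ∀ i j, zz (K i) = zz (K j))
    (_hall : ∀ J ∈ Om, zz J = zz (K 0) → ∃ i, J = K i)
    (hcom : ∀ i, ∀ J ∈ Om, (∀ a ∈ J, ∀ b ∈ K i, a * b = b * a) → ∃ j, J = K j) {i j k l : Fin 4}
    (hij : i ≠ j) (hik : i ≠ k) (hil : i ≠ l) (hjk : j ≠ k) (hjl : j ≠ l) (hkl : k ≠ l) {y y' : G}
    (hy : y ∈ K k) (hy' : y' ∈ K l) (hy2 : y * y = zz (K k)) (hy2' : y' * y' = zz (K l)) {L : Subgroup G}
    (P : FrameOf.Piece Om (y * y') L) (hi : K i ≤ L) (hj : K j ≤ L) (c : Chart Om p L) {τ : Nodes.Chart.Ty}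
    (hτ : c.IsTy τ) (ok : KindOk τ) (zx : (∀ r ∈ c.R, c.Z r = c.X r) ∨ ∃ n, τ = .C n) :
    (τ = .A 3 ∨ τ = .C 2) ∧ ∀ r ∈ c.R, Nat.card (VV c.cs c.h c.X r) = Nat.card F ^ 5 :=
  card_VV' D hinj hz hcom hij hik hil hjk hjl hkl hy hy' hy2 hy2' P hi hj c hτ ok zx

end Cfsg.Agent.Cit.TypeD4Typ
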