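import Cfsg.Agent.Cit.TypeD4End
import Cfsg.Agent.Cit.TypeD4Typ
import Cfsg.Agent.Cit.TypeD4Kind
import Cfsg.Agent.Cit.FourEq
import Cfsg.Agent.Cit.CloseOut
import Cfsg.Agent.Cit.CoresG

/-!
# `|Om(S)| = 4`, all involutions `z_K`, `K ∈ Om(S)`, equal: the identification (type `D 4`)

`idStmt` : `FourEq.IdStmt`.
-/

set_option autoImplicit false
set_option linter.style.haveILetI false

namespace Cfsg.Agent.Cit.TypeD4Final

open Subgroup Cfsg Cfsg.Agent.Cit.EqClose Cfsg.Agent.Cit.UseT Cfsg.Agent.Cit.TypeD4Cor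

universe u

/-- **`FourEq.IdStmt`** -/
theorem idStmt (hE : GenChart.ExcTrip.{u}) (hodd : CoresG.OddStmt.{u}) : FourEq.IdStmt.{u} := by
  intro G _ _ Om ms e c close
  haveI := ms.simple
  have pc := TypeD4Kind.pcStmt hE ms e c
  obtain ⟨p, F, i1, i2, ex⟩ := TypeD4Ex.exists_ex ms e c pc close fun X hX => hodd X hX
  haveI := ex.char
  obtain ⟨ch, hch, hz⟩ := TypeD4End.exists_chart ms e c pc close ex
    fun K X D hg hinj hz hall hcom i j k l hij hik hil hjk hjl hkl y hy y' hy' hy2 hy2' L P hi hj c τ hτ ok zx =>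
      TypeD4Typ.card_VV D ex.odd hg hinj hz hall hcom hij hik hil hjk hjl hkl hy hy' hy2 hy2' P hi hj c hτ ok zx
  exact CloseOut.hasPieces_of_top ms (TypeD4Ex.core_eq_bot ms e c pc close) ch (.D 4) hch (by change 4 ≤ 4; exact le_rfl)
    (fun h => absurd h (by decide)) ⟨F, i1, i2, ex.char, ex.sl⟩ (Or.inl hz) rfl

end Cfsg.Agent.Cit.TypeD4Final
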