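import Cfsg.Agent.Cit.Assembly
import Cfsg.Agent.Cit.TReduce
import Cfsg.Agent.Cit.Branches
import Cfsg.Agent.Cit.CoreOneFull
import Cfsg.Agent.Cit.CoreTwoNeFull
import Cfsg.Agent.Cit.CoreTwoEq
import Cfsg.Agent.Cit.CoreTwoEqLong
import Cfsg.Agent.Cit.CoreTwoEqId
import Cfsg.Agent.Cit.TwoSyl.SylOne
import Cfsg.Agent.Cit.TwoSyl.SylTwo
import Cfsg.Agent.Cit.ExclStmt
import Cfsg.Agent.Cit.CoreThree
import Cfsg.Agent.Cit.ThreeDis
import Cfsg.Agent.Cit.ThreeBMin
import Cfsg.Agent.Cit.EqCard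
import Cfsg.Agent.Cit.FixEnd
import Cfsg.Agent.Cit.ExcFactOf
import Cfsg.Agent.Cit.ThreeCEnd
import Cfsg.Agent.Cit.QOneEnd
import Cfsg.Agent.Cit.CloSwStmt
import Cfsg.Agent.Cit.CloTwinStmt
import Cfsg.Agent.Cit.ExcTripOf
import Cfsg.Agent.Cit.ThreePiece
import Cfsg.Agent.Cit.CloseCor
import Cfsg.Agent.Cit.CoreFour
import Cfsg.Agent.Cit.FourEq
import Cfsg.Agent.Cit.Four.Kill
import Cfsg.Agent.Cit.Four.TypesMain
import Cfsg.Agent.Cit.Four.CorAll
import Cfsg.Agent.Cit.CoreManyB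
import Cfsg.Agent.Cit.ConnMain
import Cfsg.Agent.Cit.TypeDet.AllDrv
import Cfsg.Agent.Cit.DispManyEnd
import Cfsg.Agent.Cit.FC.KABEnd
import Cfsg.Agent.Cit.FC.CorFive
import Cfsg.Agent.Cit.DispThree
import Cfsg.Agent.Cit.QTwo.Leaf
import Cfsg.Agent.Cit.EqCorAll
import Cfsg.Agent.Cit.TypeD4Final
import Cfsg.Agent.Cit.CoreFourInj
import Cfsg.Agent.Cit.FourAltStmt
import Cfsg.Agent.Cit.FourOut
import Cfsg.Agent.Cit.Four.IdentEnd
import Cfsg.Agent.Cit.TwoPF.PStmt
import Cfsg.Agent.Cit.ThreeDich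
import Cfsg.Agent.Cit.OmB3.BMain

/-!
# The classical involution theorem (S1310): final assembly (project CIT)

* `Ext` : the inputs which are theorems of other projects (all of them are proved, but their files are heavy: they are
  plugged in by the last file only);
* `Open` : the statements which are not yet landed;
* `final` : `Ext` and `Open` imply S1310.
-/

set_option autoImplicit false
set_option linter.style.haveILetI false

namespace Cfsg.Agent.Cit.Final

open Subgroup Cfsg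

universe u

/-- the external inputs: the odd order theorem, Bender's theorem, S1169, S1174, S1175, `IdentStmt` (S0507, S0523,
S1742), S0509, S0510 -/
structure Ext : Prop where
  odd : CoresG.OddStmt.{u}
  ev : EvLeaf.{u}
  bend : ∀ (G : Type u) [Group G] [Finite G] [IsSimpleGroup G], CloEnd.Bend G
  c74 : ∀ (G : Type u) [Group G] [Finite G] [IsSimpleGroup G], CloEnd.Crit1174 G
  c75 : ∀ (G : Type u) [Group G] [Finite G] [IsSimpleGroup G], CloEnd.Crit1175 G
  gold : ThreeB.GoldStmt.{u}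
  ident : CoreOne.IdentStmt.{u}
  h509 : CoreTwoEq.H509.{u}
  h510 : CoreTwoEq.H510.{u}

/-- the statements which are not yet landed -/
structure Open : Prop where
  coresB : OmB3.BIn.CoresB.{u}
  typesB : OmB3.BIn.TypesB.{u}
  noB3 : ThreeDich.NoBStmt.{u}

/-! ### THEOREM CLOSE -/

theorem kfStmt : CloseMain.KFStmt.{u} := fun _ _ _ _ h _ hO _ hD _ hP _ hK _ hL _ hN _ hJ a b c d e f g h1 h2 =>
  ThreePiece.kfs h hO hD hP hK hL hN hJ a b c d e f g h1 h2

theorem closeIn (e : Ext.{u}) : CloseMain.CloseIn.{u} where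
  sw := CloSw.swStmt
  exc := ExcTripOf.excTrip
  twin := CloseMain.twinStmt
  kf := kfStmt
  bend := e.bend
  c74 := e.c74
  c75 := e.c75

theorem closeStmt (e : Ext.{u}) : CoreManyB.CloseStmt.{u} := fun _ _ _ _ ms S h4 T _ hN hC =>
  (closeIn e).close ms T (by rw [Four.card_ES_eq ms.hyp T S]; exact h4) hN hC

theorem close4 (e : Ext.{u}) : Four.Close4.{u} := fun G _ _ Om ms _ ⟨S, h⟩ => closeStmt e G Om ms S h.ge

theorem connThree (e : Ext.{u}) : CoreThree.ConnStmt.{u} :=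
  ConnMain.connThree e.odd CoresG.fixStmt ExcFactOf.ctStmt (closeStmt e)

theorem corFive (e : Ext.{u}) : Four.CorFive.{u} :=
  FC.corFive ExcTripOf.excTrip e.odd CoresG.fixStmt ExcFactOf.ctStmt

theorem connMany (e : Ext.{u}) : CoreManyB.ConnStmt.{u} :=
  ConnMain.connMany e.odd CoresG.fixStmt ExcFactOf.ctStmt (corFive e) (closeStmt e)

theorem cores (e : Ext.{u}) : Four.Cores.{u} :=
  FC.cores ExcTripOf.excTrip CoresG.fixStmt e.odd ExcFactOf.ctStmt FC.kabStmt_main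

theorem inj4 (e : Ext.{u}) : CoreFour.FourInj.{u} :=
  CoreFourInj.fourInj e.odd CoresG.fixStmt ExcFactOf.ctStmt (closeStmt e) FourAltStmt.altStmt
    FourOut.outStmt

theorem spIn (e : Ext.{u}) : Sp4.In.{u} where
  odd := e.odd
  fix := CoresG.fixStmt
  crit := fun G _ _ _ => e.c75 G
  bend := fun G _ _ _ => e.bend G
  s1173 := CoreOneFull.s1173Stmt
  ident := e.ident
  factA := CoreTwoNe.factA
  factB := HexFactBMain.factB

theorem identTwo (e : Ext.{u}) : CoreTwoEqId.IdentTwo.{u} :=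
  CoreTwoEqId.identTwo (TwoPF.pStmt CoreOneFull.s1173Stmt) TwoSyl.sylOneStmt TwoSyl.sylTwoStmt e.h509 e.h510
    ExclStmt.exclStmt

theorem dich3 (e : Ext.{u}) (o : Open.{u}) : ThreeCores.DichStmt.{u} := ThreeDich.dich (identTwo e) o.noB3

theorem cores3 (e : Ext.{u}) (o : Open.{u}) : CoreThree.CoresFourStmt.{u} :=
  ThreeCores.coresFour (spIn e) ExcFactOf.ctStmt (dich3 e o) ThreeC.typeStmt_main

theorem bChart (e : Ext.{u}) (o : Open.{u}) : CoreTwoEqId.BChart.{u} :=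
  OmB3.BMain.bChart o.coresB o.typesB e.odd e.bend e.c75

/-! ### The branches -/

theorem coreOne (e : Ext.{u}) : Branches.CoreOne.{u} := CoreOneFull.coreOne e.ident

theorem coreTwoNe (e : Ext.{u}) : Branches.CoreTwoNe.{u} :=
  CoreTwoNeFull.coreTwoNe_of CoreOneFull.s1173Stmt e.ident e.odd

theorem coreTwoEq (e : Ext.{u}) (o : Open.{u}) : Branches.CoreTwoEq.{u} :=
  CoreTwoEq.coreTwoEq (TwoPF.pStmt CoreOneFull.s1173Stmt) TwoSyl.sylOneStmt TwoSyl.sylTwoStmt e.h509 e.h510 ExclStmt.exclStmt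
    CoreTwoEqLong.longStmt (CoreTwoEqId.bStmt_of_chart (bChart e o))

theorem coreThree (e : Ext.{u}) (o : Open.{u}) : Branches.CoreThree.{u} :=
  CoreThree.coreThree (fun G _ _ _ => e.c75 G) (fun G _ _ _ => e.bend G) e.odd CoresG.fixStmt ExcFactOf.ctStmt
    (fun _ _ _ _ ms hc he => EqCard.not_allEq_three ms hc he)
    (ThreeB.dis_four e.gold (fun G _ _ _ => e.bend G)) (ThreeDis.disEight e.odd CoresG.fixStmt ExcFactOf.ctStmt)
    (connThree e) ThreeC.typeStmt_main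
    (cores3 e o) (DispThree.idStmt e.odd)

theorem coreFour (e : Ext.{u}) : Branches.CoreFour.{u} :=
  CoreFour.coreFour_of (FourEq.fourEq (fun G _ _ _ => e.bend G) (fun G _ _ _ => e.c75 G)
      (EqCfg.corStmt e.odd ExcFactOf.ctStmt (fun G _ _ _ => e.bend G) (fun G _ _ _ => e.c75 G))
      (TypeD4Final.idStmt ExcTripOf.excTrip e.odd))
    (Four.tauTwo Four.types (close4 e) (cores e) (Four.identStmt e.odd)) (inj4 e)

theorem coreMany (e : Ext.{u}) : Branches.CoreMany.{u} :=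
  CoreManyB.coreMany_of e.odd CoresG.fixStmt ExcFactOf.ctStmt (corFive e) (closeStmt e) (connMany e) TypeDet.drvStmt
    DispManyEnd.dispStmt

/-! ### THEOREM T and S1310 -/

theorem q2Leaf (e : Ext.{u}) : Q2Leaf.{u} :=
  QTwo.Leaf.q2Leaf e.odd (fun G _ _ _ => e.gold G) e.bend CoreOneFull.s1173Stmt

theorem core (e : Ext.{u}) (o : Open.{u}) : CoreLeaf.{u} :=
  Branches.core_of_branches (coreOne e) (coreTwoNe e) (coreTwoEq e o) (coreThree e o) (coreFour e) (coreMany e)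

/-- **THEOREM T** -/
theorem tStmt (e : Ext.{u}) (o : Open.{u}) : TStmt.{u} := tstmt_of_leaves (core e o) QOneEnd.q1Leaf (q2Leaf e) e.ev

/-- **S1310** -/
theorem final (e : Ext.{u}) (o : Open.{u}) {G : Type u} [Group G] [Finite G]
    (hs : IsSimpleGroup ↥(Cfsg.generalizedFittingSubgroup G))
    (hna : ¬ IsMulCommutative ↥(Cfsg.generalizedFittingSubgroup G)) (z : G) (hz : orderOf z = 2)
    (J : Subgroup G) (hJz : J ≤ Subgroup.centralizer ({z} : Set G)) (hzJ : z ∈ J)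
    (hsn : (J.subgroupOf (Subgroup.centralizer ({z} : Set G))).IsSubnormal)
    (hJ : ((∃ (F : Type) (_ : Field F) (_ : Fintype F), Odd (Fintype.card F) ∧
      Nonempty (↥J ⧸ Cfsg.oddCore ↥J ≃* Matrix.SpecialLinearGroup (Fin 2) F)) ∨
      Cfsg.IsNonsplitDoubleCover (↥J ⧸ Cfsg.oddCore ↥J) ↥(alternatingGroup (Fin 7)))) :
    (∃ p : ℕ, p.Prime ∧ p ≠ 2 ∧ Cfsg.IsLieTypeChar p ↥(Cfsg.generalizedFittingSubgroup G)) ∨
      Cfsg.Spor.IsoM11 ↥(Cfsg.generalizedFittingSubgroup G) :=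
  Assembly.main (tStmt e o) (e.ev G) hs hna z hz J hJz hzJ hsn hJ

end Cfsg.Agent.Cit.Final
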