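import Cfsg.Agent.Cit.TwoBlk
import Cfsg.Agent.Cit.TwoTy.Exc
import Cfsg.Agent.Cit.CTEnd
import Cfsg.Agent.Cit.CoresH

/-!
# The E-LEMMA (R18, Z3, branch (B), #15259 (E))

`TwoE.e_lemma` : `X` with trivial odd core, `F` with `|F(S)| = 2`, equal involutions, pieces; no product `x y` of a pair is
perpendicular to a member. If the involution `b` commutes with `zz M` and moves `M` then `O(C(b))` centralises the elements
`k k^b`, `k ∈ M`.
-/

set_option autoImplicit false
set_option linter.style.haveILetI false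
set_option linter.unusedSectionVars false

namespace Cfsg.Agent.Cit.TwoELem

open Subgroup Cfsg OneBasic UseT SubCent TwoBlk Cfsg.Agent.Cit.Comp Cfsg.Agent.Cit.CT
open Cfsg.Agent.SignalizersComponents.Components

variable {X : Type*} [Group X] [Finite X] {F : Set (Subgroup X)} {M : Subgroup X} {b : X}

/-- a member in the piece of `M` with central involution is the piece -/
theorem nz (h : TwoE F) (hp : HasPieces F) (hM : M ∈ F) (hne : pc F M ∉ F) :
    ∀ J ∈ F, J ≤ pc F M → ¬ ∀ x ∈ pc F M, x * zz J = zz J * x := by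
  intro J hJ hJD hc
  have e1 : pc F J = pc F M := by
    by_contra hcon
    have h1 := pc_comm hJ hM hcon
    refine h.hyp.not_le_centralizer_self hJ fun x hx y hy => ?_
    exact mem_centralizer_iff.1 (h1 (le_pc hx)) y (hJD hy)
  have e2 : pc F J = J := by
    refine pc_eq_self fun N hN hne' => ?_
    by_cases hND : pc F N = pc F J
    · obtain ⟨Q, hQ⟩ := Hyp.exists_syl N
      have hNM : N ≤ pc F M := by rw [← e1, ← hND]; exact le_pc
      obtain ⟨S, hS, -, hLS, hKS⟩ := PairComm.exists_common' h.hyp hN hJ hQ fun a ha => hc a (hNM (hQ.1 ha))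
      exact comm_of_core h.hyp hp.core hS hLS hKS hne'
    · exact (le_pc.trans (pc_comm hN hJ hND)).trans (centralizer_le le_pc)
  rw [← e1, e2] at hne
  exact hne hJ

/-- the conjugate of `M` -/
structure Sw (F : Set (Subgroup X)) (M : Subgroup X) (b : X) : Prop where
  hM : M ∈ F
  hb : b * b = 1
  hz : b * zz M = zz M * b
  ne : cj b M ≠ M

namespace Sw

theorem mem' (s : Sw F M b) (h : TwoE F) : cj b M ∈ F := h.hyp.conj _ s.hM b

theorem zz' (s : Sw F M b) (h : TwoE F) : zz (cj b M) = zz M := by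
  rw [h.hyp.zz_cj s.hM, s.hz, mul_inv_cancel_right]

theorem comm (s : Sw F M b) (h : TwoE F) (hc : ∀ K ∈ F, OO K = ⊥) : ∀ x ∈ M, ∀ y ∈ cj b M, x * y = y * x := by
  obtain ⟨S, hS, -⟩ := h.hyp.exists_sylow s.hM
  have h1 := comm_of_core h.hyp hc S.isPGroup' hS (h.hyp.mem_OmS_of_zz_eq S hS (s.mem' h) (s.zz' h)) (Ne.symm s.ne)
  intro x hx y hy
  exact (mem_centralizer_iff.1 (h1 hx) y hy).symm

/-- `k ↦ k k^b` -/
def d (s : Sw F M b) (h : TwoE F) (hc : ∀ K ∈ F, OO K = ⊥) : M →* X where
  toFun k := k * (b * k * b⁻¹)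
  map_one' := by simp
  map_mul' x y := by
    have h1 := s.comm h hc y y.2 (b * x * b⁻¹) (conj_mem_cj x.2)
    calc ((x * y : M) : X) * (b * ((x * y : M) : X) * b⁻¹) = x * (y * (b * x * b⁻¹)) * (b * y * b⁻¹) := by
          rw [Subgroup.coe_mul]; group
      _ = _ := by rw [h1]; group

theorem d_comm (s : Sw F M b) (h : TwoE F) (hc : ∀ K ∈ F, OO K = ⊥) (k : M) : s.d h hc k * b = b * s.d h hc k := by
  have hbi : b⁻¹ = b := inv_eq_of_mul_eq_one_right s.hb
  have h1 := s.comm h hc k k.2 (b * k * b⁻¹) (conj_mem_cj k.2)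
  change (k : X) * (b * k * b⁻¹) * b = b * (k * (b * k * b⁻¹))
  calc (k : X) * (b * k * b⁻¹) * b = ((b * k * b⁻¹) * k) * b := by rw [h1]
    _ = b * k * b⁻¹ * (k * b) := by group
    _ = b * (k * (b * k * b⁻¹)) := by
        rw [hbi]
        calc b * k * b * (k * b) = b * (k * (b * k * b)) := by group
          _ = _ := rfl

/-- if `XX b` centralises `M` -/
theorem of_cent (s : Sw F M b) (h : TwoE F) (hc : ∀ K ∈ F, OO K = ⊥) {o : X} (ho : o ∈ XX b)
    (h1 : ∀ k ∈ M, o * k = k * o) (k : M) : o * s.d h hc k = s.d h hc k * o := by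
  have hob : o * b = b * o := comm_of_mem_XX ho
  have hob' : o * b⁻¹ = b⁻¹ * o := by rw [inv_eq_of_mul_eq_one_right s.hb, hob]
  change o * (k * (b * k * b⁻¹)) = k * (b * k * b⁻¹) * o
  calc o * (k * (b * k * b⁻¹)) = (o * k) * (b * k * b⁻¹) := by group
    _ = k * (o * b) * (k * b⁻¹) := by rw [h1 k k.2]; group
    _ = k * b * (o * k) * b⁻¹ := by rw [hob]; group
    _ = k * b * k * (o * b⁻¹) := by rw [h1 k k.2]; group
    _ = _ := by rw [hob']; group

/-! ### `M` of type `SL₂(3)` -/

set_option maxRecDepth 100000 in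
theorem X_cent : ∀ e : SolvTwo.X, (∀ v : SolvTwo.X, v * v = SolvTwo.zX → e * v = v * e) → e * e = 1 := by
  decide +kernel

set_option maxRecDepth 100000 in
theorem zX_sq : SolvTwo.zX * SolvTwo.zX = 1 := by
  decide +kernel

/-- an element whose square commutes with `k` -/
theorem comm_of_sq {o k : X} {B : Subgroup X} (hB : ¬ 2 ∣ Nat.card B) (ho : o ∈ B) (h : (o * o) * k = k * (o * o)) :
    o * k = k * o := by
  have h3 : Odd (orderOf o) := by
    rw [← Nat.not_even_iff_odd, even_iff_two_dvd]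
    intro h5
    apply hB
    refine h5.trans ?_
    rw [← Subgroup.orderOf_mk o ho]
    exact orderOf_dvd_natCard _
  obtain ⟨m, hm⟩ := h3
  have h4 : (o * o) ^ (m + 1) = o := by
    rw [← pow_two, ← pow_mul, show 2 * (m + 1) = (2 * m + 1) + 1 by ring, pow_succ, ← hm, pow_orderOf_eq_one, one_mul]
  have h5 : Commute (o * o) k := h
  have h6 := h5.pow_left (m + 1)
  rw [h4] at h6
  exact h6

/-- `XX b` centralises a subnormal member of type `SL₂(3)` -/
theorem sl3 (h : TwoE F) (hc : ∀ K ∈ F, OO K = ⊥) (hM : M ∈ F) (hb : b * b = 1) (hs : M.IsSubnormal)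
    (e : M ≃* SolvTwo.X) {o : X} (ho : o ∈ XX b) : ∀ k ∈ M, o * k = k * o := by
  obtain ⟨V, hVM, hMV, hV2, hVm⟩ := CTEnd.exists_two e
  have hVs : V.IsSubnormal := IsSubnormal.step _ _ hVM hs ((normal_subgroupOf_iff_le_normalizer hVM).2 hMV)
  have hVp := SignalizersComponents.CompBasic.subnormal_pGroup_le_pCore hVs hV2
  have hoV : ∀ v ∈ V, v * o = o * v := fun v hv => mem_centralizer_iff.1 (CT.XX_le_centralizer_pCore hb ho) v (hVp hv)
  obtain ⟨Q, hQ⟩ := Hyp.exists_syl M
  obtain ⟨c, v, n, gq⟩ := h.hyp.exists_gq hM hQ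
  have hQV : ∀ q ∈ Q, q ∈ V := by
    intro q hq
    obtain ⟨n, hn⟩ := hQ.2.1 ⟨q, hq⟩
    exact hVm q (hQ.1 hq) ⟨n, congrArg Subtype.val hn⟩
  have hzV : zz M ∈ V := hQV _ gq.z_mem
  have hzo : o * zz M = zz M * o := (hoV _ hzV).symm
  -- `o` normalises `M`
  have hoM : o ∈ normalizer (M : Set X) := by
    rw [mem_normalizer_iff_cj]
    by_contra hne
    have hz : zz (Cit.cj o M) = zz M := by rw [h.hyp.zz_cj hM, hzo, mul_inv_cancel_right]
    obtain ⟨S, hS, -⟩ := h.hyp.exists_sylow hM
    have h1 := comm_of_core h.hyp hc S.isPGroup' hS (h.hyp.mem_OmS_of_zz_eq S hS (h.hyp.conj _ hM o) hz)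
      (Ne.symm hne)
    refine gq.not_comm ?_
    have h2 : c ∈ Cit.cj o M := by
      rw [mem_cj]
      have h4 : o⁻¹ * c * o = c := by rw [mul_assoc, hoV c (hQV _ gq.c_mem), inv_mul_cancel_left]
      rw [h4]
      exact hQ.1 gq.c_mem
    exact (mem_centralizer_iff.1 (h1 (hQ.1 gq.v_mem)) c h2).symm
  intro k hk
  have hkV : k ∈ normalizer (V : Set X) := hMV hk
  obtain ⟨a, ha⟩ : ∃ a, a = o * k * o⁻¹ * k⁻¹ := ⟨_, rfl⟩
  have haM : a ∈ M := by
    rw [ha]
    exact mul_mem ((mem_normalizer_iff.1 hoM k).1 hk) (inv_mem hk)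
  have haV : ∀ w ∈ V, a * w = w * a := by
    intro w hw
    have h1 : k⁻¹ * w * k ∈ V := by
      have := (mem_normalizer_iff.1 (inv_mem hkV) w).1 hw
      rwa [inv_inv] at this
    have h2 := hoV _ h1
    have h3 := hoV _ hw
    have h4 : o⁻¹ * (k⁻¹ * w * k) * o = k⁻¹ * w * k := by rw [mul_assoc, h2]; group
    have h5 : o * w * o⁻¹ = w := by rw [← h3]; group
    rw [← mul_inv_eq_iff_eq_mul]
    calc a * w * a⁻¹ = o * k * (o⁻¹ * (k⁻¹ * w * k) * o) * k⁻¹ * o⁻¹ := by rw [ha]; group
      _ = o * w * o⁻¹ := by rw [h4]; group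
      _ = w := h5
  have ha2 : a * a = 1 := by
    have h1 : e ⟨a, haM⟩ * e ⟨a, haM⟩ = 1 := by
      refine X_cent _ fun w hw => ?_
      obtain ⟨w', rfl⟩ := e.surjective w
      rw [← map_mul, ← map_mul]
      congr 1
      apply Subtype.ext
      refine haV _ (hVm _ w'.2 ⟨2, ?_⟩)
      have h2 : e (w' ^ 2 ^ 2) = 1 := by
        rw [map_pow, show (2 : ℕ) ^ 2 = 2 + 2 by norm_num, pow_add, pow_two, hw, zX_sq]
      have h3 : w' ^ 2 ^ 2 = 1 := e.map_eq_one_iff.1 h2
      exact congrArg Subtype.val h3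
    rw [← map_mul] at h1
    exact congrArg Subtype.val (e.map_eq_one_iff.1 h1)
  have hav : a ∈ V := hVm a haM ⟨1, by rw [pow_one, pow_two, ha2]⟩
  have hao := hoV a hav
  refine comm_of_sq (odd_XX b) ho ?_
  have h1 : o * k = a * k * o := by rw [ha]; group
  calc o * o * k = o * (o * k) := by group
    _ = (o * a) * k * o := by rw [h1]; group
    _ = a * (o * k) * o := by rw [← hao]; group
    _ = (a * a) * k * (o * o) := by rw [h1]; group
    _ = k * (o * o) := by rw [ha2, one_mul]

/-! ### The E-LEMMA -/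

theorem main (s : Sw F M b) (h : TwoE F) (ty : ∀ K ∈ F, Ty K) (hp : HasPieces F) (hO : pPrimeCore 2 X = ⊥)
    (hev : EvQ X) (hno : ∀ K K' x y, TTp F K K' x y → ∀ J ∈ F, ¬ TwoE.Perp (x * y) J) {o : X} (ho : o ∈ XX b)
    (k : M) : o * s.d h hp.core k = s.d h hp.core k * o := by
  haveI : Fact (Nat.Prime 2) := ⟨Nat.prime_two⟩
  have hcomm := s.comm h hp.core
  rcases hp.eq_or_quasisimple h.hyp s.hM with hD | ⟨hnm, qs, cen⟩
  · -- a single member
    refine s.of_cent h hp.core ho ?_ k
    have hs : M.IsSubnormal := by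
      have h1 := CoresH.pc_isSubnormal h.hyp s.hM
      rwa [hD] at h1
    rcases TwoSub.QX.of_isType (ty M s.hM).isType (hp.core M s.hM) with h1 | ⟨⟨e⟩⟩
    · intro k hk
      exact (mem_centralizer_iff.1 (CoreTools.XX_le_centralizer_of_moved hev s.hb ⟨hs, h1⟩ s.ne ho) k hk).symm
    · exact sl3 h hp.core s.hM s.hb hs e ho
  · have hDc : IsComponent (pc F M) := ⟨CoresH.pc_isSubnormal h.hyp s.hM, qs⟩
    by_cases hbD : Cit.cj b (pc F M) = pc F M
    · have hbN : b ∈ normalizer (pc F M : Set X) := mem_normalizer_iff_cj.2 hbD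
      have hMD' : Cit.cj b M ≤ pc F M := by
        have h1 := cj_mono b (le_pc (Om := F) (K := M))
        rwa [hbD] at h1
      have hblk : Blk F (pc F M) M (Cit.cj b M) :=
        { le := leTwo_of_twoE h
          ty := ty
          core := hp.core
          qs := qs
          cen := cen
          hK := s.hM
          hK' := s.mem' h
          ne := Ne.symm s.ne
          comm := hcomm
          KD := le_pc
          KD' := hMD'
          nz := nz h hp s.hM hnm }
      rcases hp.piece h.hyp s.hM with hm | ⟨_, _, _, p, c, _⟩ | ⟨-, two, p, prime, odd, iso, ne, zzc, three⟩ |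
        ⟨-, two, iso, ne, mem⟩
      · exact absurd hm hnm
      · -- a chart
        haveI : Fact p.Prime := ⟨c.prime⟩
        have hF : FixP p (pc F M) := fixP_of_chart c qs cen
        have hoD : o ∈ normalizer (pc F M : Set X) := CoreTools.XX_le_normalizer hO hev s.hb hDc ho
        have h1 : M ≤ ((centralizer {o}).comap (s.d h hp.core)).map M.subtype := by
          refine CTEnd.pgen_of_chart c s.hM le_pc fun y hy hyp => ⟨⟨y, hy⟩, ?_, rfl⟩
          change s.d h hp.core ⟨y, hy⟩ ∈ centralizer {o}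
          rw [mem_centralizer_singleton_iff]
          refine hF.comm s.hb hbN ho hoD ?_ (s.d_comm h hp.core _) ?_
          · exact mul_mem (le_pc hy) (hMD' (conj_mem_cj hy))
          · obtain ⟨n, hn⟩ := hyp ⟨y, mem_zpowers y⟩
            have hn' : y ^ p ^ n = 1 := congrArg Subtype.val hn
            rw [IsPGroup.iff_card]
            have h2 : orderOf (s.d h hp.core ⟨y, hy⟩) ∣ p ^ n := by
              refine (orderOf_dvd_of_pow_eq_one ?_)
              rw [← map_pow]
              have : (⟨y, hy⟩ : M) ^ p ^ n = 1 := Subtype.ext hn'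
              rw [this, map_one]
            obtain ⟨m, -, hm⟩ := (Nat.dvd_prime_pow c.prime).1 h2
            exact ⟨m, by rw [Nat.card_zpowers, hm]⟩
        obtain ⟨k', hk', he⟩ := h1 k.2
        have : k' = k := Subtype.ext he
        subst this
        exact (mem_centralizer_singleton_iff.1 hk').symm
      · -- `G₂(q)`, `³D₄(q)`
        exfalso
        obtain ⟨Q, hQ⟩ := Hyp.exists_syl M
        obtain ⟨c, v, n, gq⟩ := h.hyp.exists_gq s.hM hQ
        have hv4 := gq.orderOf_v
        have hvM := hQ.1 gq.v_mem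
        have hv' : b * v * b⁻¹ ∈ Cit.cj b M := conj_mem_cj hvM
        have o4 : orderOf (b * v * b⁻¹) = 4 := by rw [← hv4]; exact (MulAut.conj b).orderOf_eq v
        have hp2 : ∀ a : X, orderOf a = 4 → IsPGroup 2 (zpowers a) := by
          intro a ha
          rw [IsPGroup.iff_card]
          exact ⟨2, by rw [Nat.card_zpowers, ha]; norm_num⟩
        have htt : TTp F M (Cit.cj b M) v (b * v * b⁻¹) :=
          { hK := s.hM
            hK' := s.mem' h
            ne := Ne.symm s.ne
            hz := s.zz' h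
            hx := hvM
            hy := hv'
            ox := hv4
            oy := o4
            two := by
              refine ⟨zpowers v ⊔ zpowers (b * v * b⁻¹), (hp2 v hv4).to_sup_of_normal_right' (hp2 _ o4) ?_,
                mem_sup_left (mem_zpowers _), mem_sup_right (mem_zpowers _)⟩
              rw [zpowers_le]
              refine mem_normalizer_of_cent ?_
              rintro _ ⟨j, rfl⟩
              exact ((show Commute v (b * v * b⁻¹) from hcomm _ hvM _ hv').zpow_right j).eq }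
        refine hblk.exc_false prime odd iso hvM hv4 hv' o4 fun N hN hND hNc => ?_
        obtain ⟨R, hR⟩ := Hyp.exists_syl N
        exact hno _ _ _ _ htt N hN ⟨R, hR, fun q hq => hNc q (hR.1 hq)⟩
      · exact (hblk.mathieu_false iso).elim
    · refine s.of_cent h hp.core ho (fun k hk => ?_) k
      exact (mem_centralizer_iff.1 (CoreTools.XX_le_centralizer_of_moved hev s.hb hDc hbD ho) k (le_pc hk)).symm

end Sw

/-- **the E-LEMMA** -/
theorem _root_.Cfsg.Agent.Cit.TwoE.e_lemma (h : TwoE F) (ty : ∀ K ∈ F, Ty K) (hp : HasPieces F)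
    (hO : pPrimeCore 2 X = ⊥) (hev : EvQ X)
    (hno : ∀ K K' x y, TTp F K K' x y → ∀ J ∈ F, ¬ TwoE.Perp (x * y) J) (hM : M ∈ F) (hb : b * b = 1)
    (hz : b * zz M = zz M * b) (hne : cj b M ≠ M) {o : X} (ho : o ∈ XX b) {k : X} (hk : k ∈ M) :
    o * (k * (b * k * b)) = k * (b * k * b) * o := by
  have s : Sw F M b := ⟨hM, hb, hz, hne⟩
  have h1 := s.main h ty hp hO hev hno ho ⟨k, hk⟩
  change o * (k * (b * k * b⁻¹)) = k * (b * k * b⁻¹) * o at h1
  rwa [inv_eq_of_mul_eq_one_right hb] at h1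

end Cfsg.Agent.Cit.TwoELem
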