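import Cfsg.Agent.Cit.TwoW
import Cfsg.Agent.Cit.EqCfg

/-!
# Branch (B), cores: THEOREM F for `A = ⟨z, t, s⟩`

`t = x y`, `z = zz K`, `s = zz J`, `v = s t` as in `WD`; `g = c⁻¹ b` normalises `A` and maps `s → z → s z → s`,
`t → z v → z t → t`, `v → v`. So `Tor A` follows from `PP A z`, `PP A v`, `PP A t`.
-/

set_option autoImplicit false
set_option linter.unusedSectionVars false

namespace Cfsg.Agent.Cit.TwoTor

open Subgroup Cfsg Cfsg.Agent.Cit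
open Cfsg.Agent.Cit.EqCfg (AA E3 PP z_mem t_mem s_mem)

variable {G : Type*} [Group G] [Finite G] {Om : Set (Subgroup G)} {K K' J Q Q' QJ : Subgroup G} {x y b c : G}

/-- the involutions `z`, `t`, `s` commute -/
theorem e3 (h : TwoE Om) (w : WD Om K K' J Q Q' QJ x y b c) : E3 (zz K) (x * y) (zz J) where
  zz := h.hyp.zz_mul w.tt.hK
  tt := w.tt.sq h.hyp
  ss := h.hyp.zz_mul w.hJ
  zt := w.zt h.hyp
  zs := (w.sz h.hyp).symm
  ts := w.st.symm

/-- `g` normalises `A` -/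
theorem g_mem (h : TwoE Om) (w : WD Om K K' J Q Q' QJ x y b c) :
    c⁻¹ * b ∈ normalizer (AA (zz K) (x * y) (zz J) : Set G) := by
  rw [mem_normalizer_iff_cj, EqCfg.cj_AA, w.gz h.hyp, w.gt h.hyp, w.gs h.hyp]
  have hz := z_mem (zz K) (x * y) (zz J)
  have ht := t_mem (zz K) (x * y) (zz J)
  have hs := s_mem (zz K) (x * y) (zz J)
  refine EqCfg.AA_eq_of (mul_mem hs hz) (mul_mem hz (mul_mem hs ht)) hz ?_ ?_ ?_
  · exact s_mem _ _ _
  · -- `t = z (s z) (z (s t)) z`... `(s z) (z s t) = t`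
    have h1 : x * y = (zz J * zz K) * (zz K * (zz J * (x * y))) := by
      calc x * y = zz J * (zz J * (x * y)) := (w.t_eq h.hyp).symm
        _ = zz J * (zz K * zz K) * (zz J * (x * y)) := by rw [h.hyp.zz_mul w.tt.hK, mul_one]
        _ = _ := by group
    have h2 := mul_mem (z_mem (zz J * zz K) (zz K * (zz J * (x * y))) (zz K))
      (t_mem (zz J * zz K) (zz K * (zz J * (x * y))) (zz K))
    rwa [← h1] at h2
  · have h1 : zz J = zz J * zz K * zz K := by rw [mul_assoc, h.hyp.zz_mul w.tt.hK, mul_one]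
    have h2 := mul_mem (z_mem (zz J * zz K) (zz K * (zz J * (x * y))) (zz K))
      (s_mem (zz J * zz K) (zz K * (zz J * (x * y))) (zz K))
    rwa [← h1] at h2

theorem card (h : TwoE Om) (hZ : ∀ K K' x y, TTp Om K K' x y → ∀ M ∈ Om, x * y ≠ zz M)
    (w : WD Om K K' J Q Q' QJ x y b c) : 8 ≤ Nat.card (AA (zz K) (x * y) (zz J)) := by
  have hv1 := w.v_ne h hZ
  have hz2 := h.hyp.zz_mul w.tt.hK
  have hs2 := h.hyp.zz_mul w.hJ
  have ht1 : x * y ≠ 1 := by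
    intro h1
    apply hZ K K' x y⁻¹ w.tt.inv K w.tt.hK
    rw [w.tt.inv_eq h.hyp, h1, one_mul]
  refine (e3 h w).card (h.hyp.zz_ne w.tt.hK) ht1 (hZ K K' x y w.tt K w.tt.hK) (h.hyp.zz_ne w.hJ) w.ne ?_ ?_
  · exact (hZ K K' x y w.tt J w.hJ).symm
  · intro h1
    have h2 : x * y⁻¹ = zz J := by rw [w.tt.inv_eq h.hyp, h1, w.zt h.hyp]
    exact hZ K K' x y⁻¹ w.tt.inv J w.hJ h2

/-- **THEOREM F for `A = ⟨z, t, s⟩`** -/
theorem tor (h : TwoE Om) (hZ : ∀ K K' x y, TTp Om K K' x y → ∀ M ∈ Om, x * y ≠ zz M)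
    (hodd : ∀ X : Subgroup G, ¬ 2 ∣ Nat.card X → Group.IsSolvable X) (w : WD Om K K' J Q Q' QJ x y b c)
    (pz : PP (AA (zz K) (x * y) (zz J)) (zz K)) (pt : PP (AA (zz K) (x * y) (zz J)) (x * y))
    (pv : PP (AA (zz K) (x * y) (zz J)) (zz J * (x * y))) : TorFunctor.Tor (AA (zz K) (x * y) (zz J)) := by
  have hg := g_mem h w
  have hz2 := h.hyp.zz_mul w.tt.hK
  have hs2 := h.hyp.zz_mul w.hJ
  have hsz := w.sz h.hyp
  have hzt := w.zt h.hyp
  -- the orbit of `z`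
  have psz := pz.cj hg
  rw [w.gz h.hyp] at psz
  have ps := psz.cj hg
  have e1 : (c⁻¹ * b) * (zz J * zz K) * (c⁻¹ * b)⁻¹ = zz J := by
    calc (c⁻¹ * b) * (zz J * zz K) * (c⁻¹ * b)⁻¹ =
        ((c⁻¹ * b) * zz J * (c⁻¹ * b)⁻¹) * ((c⁻¹ * b) * zz K * (c⁻¹ * b)⁻¹) := by group
      _ = zz K * (zz J * zz K) := by rw [w.gs h.hyp, w.gz h.hyp]
      _ = (zz K * zz K) * zz J := by rw [hsz]; group
      _ = zz J := by rw [hz2, one_mul]
  rw [e1] at ps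
  -- the orbit of `t`
  have pzv := pt.cj hg
  rw [w.gt h.hyp] at pzv
  have pzt := pzv.cj hg
  have e2 : (c⁻¹ * b) * (zz K * (zz J * (x * y))) * (c⁻¹ * b)⁻¹ = zz K * (x * y) := by
    calc (c⁻¹ * b) * (zz K * (zz J * (x * y))) * (c⁻¹ * b)⁻¹ =
        ((c⁻¹ * b) * zz K * (c⁻¹ * b)⁻¹) * ((c⁻¹ * b) * (zz J * (x * y)) * (c⁻¹ * b)⁻¹) := by group
      _ = (zz J * zz K) * (zz J * (x * y)) := by rw [w.gz h.hyp, w.gv]
      _ = zz K * (zz J * zz J) * (x * y) := by rw [hsz]; group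
      _ = _ := by rw [hs2, mul_one]
  rw [e2] at pzt
  refine EqCfg.tor_of_PP (e3 h w) (card h hZ w) hodd ?_
  intro a ha ha1
  rcases (e3 h w).cases ha with (h1 | h1 | h1 | h1) | (h1 | h1 | h1 | h1)
  · exact absurd h1 ha1
  · rw [h1]; exact pz
  · rw [h1]; exact pt
  · rw [h1]; exact pzt
  · rw [h1]; exact ps
  · rw [h1, ← hsz]; exact psz
  · rw [h1, ← w.st]; exact pv
  · rw [h1, mul_assoc, ← w.st]; exact pzv

end Cfsg.Agent.Cit.TwoTor
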