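import Cfsg.Agent.Cit.TwoNcen
import Cfsg.Agent.Cit.TwoTor
import Cfsg.Agent.Cit.CoresCore
import Cfsg.Agent.Cit.OmB3.BIn

/-!
# Branch (B), cores: the end of (8c)

`A = ⟨z, t, s⟩`. If `D(A) = 1` (`DA`) then `O(K) = 1` for all members and `CorB` holds.
-/

set_option autoImplicit false
set_option linter.unusedSectionVars false
set_option linter.style.haveILetI false

namespace Cfsg.Agent.Cit.TwoEnd

open Subgroup Cfsg Cfsg.Agent.Cit SubCent UseT TwoWT TwoBlk TwoTy TorFunctor CoresG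
open Cfsg.Agent.Cit.EqCfg (AA E3 PP z_mem t_mem s_mem)
open Cfsg.Agent.Cit.TwoFK (TwoEq)
open scoped commutatorElement

universe u

variable {G : Type u} [Group G] [Finite G] {Om : Set (Subgroup G)} {K K' J Q Q' QJ L : Subgroup G} {x y b c u : G}

/-- `D(A) = 1` -/
structure DA (A : Subgroup G) : Prop where
  com : ∀ a ∈ A, a ≠ 1 → ∀ o ∈ XX a, ∀ e ∈ A, o * e = e * o
  del : ∀ B ≤ A, Nat.card B = 4 → Del B = ⊥

theorem DA.of_tor {A : Subgroup G} (t : Tor A) (hD : DF A = ⊥) : DA A where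
  com a ha ha1 o ho e he := by
    have h1 := t.commutator_XX_le ha ha1
    rw [hD, le_bot_iff, commutator_eq_bot_iff_le_centralizer] at h1
    exact (mem_centralizer_iff.1 (h1 ho) e he).symm
  del B hB h4 := by
    have h1 := Dl_le_DF' hB h4
    rwa [hD, le_bot_iff] at h1

/-! ### `⁅O(C(z)), Q⁆ = 1` -/

/-- a normal subgroup of `K` containing `⁅K, x⁆` modulo `O(K)`, `x` of order 4, contains the Sylow 2-subgroups of `K` -/
theorem syl_le_of_comm (h : Hyp Om) (hK : K ∈ Om) (ty : IsType K) {N : Subgroup G} (hN : N ≤ K)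
    (hn : K ≤ normalizer (N : Set G)) {x : G} (hx : x ∈ K) (h4 : orderOf x = 4)
    (hc : ∀ k ∈ K, k * x * k⁻¹ * x⁻¹ ∈ N ⊔ OO K) {Q : Subgroup G} (hQ : Syl Q K) : Q ≤ N := by
  rcases ty.tyOne N hN hn with h1 | h1
  · exact h1 Q hQ
  exfalso
  have hxx := h.sq_eq_zz hK hx h4
  have hxn : zpowers x ≤ normalizer (OO K : Set G) := by
    rw [zpowers_le]; exact le_normalizer_OO K hx
  have h2 : N ⊔ OO K ≤ OO K ⊔ zpowers x := by
    refine sup_le (h1.trans (sup_le le_sup_left ?_)) le_sup_left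
    rw [zpowers_le, ← hxx]
    exact mem_sup_right (mul_mem (mem_zpowers x) (mem_zpowers x))
  have hN2 : OO K ⊔ zpowers x ≤ K := sup_le (OO_le K) (by rwa [zpowers_le])
  have hn2 : K ≤ normalizer ((OO K ⊔ zpowers x : Subgroup G) : Set G) := by
    refine OneComp.le_normalizer_of_cj_le fun k hk => ?_
    rw [cj_sup, mem_normalizer_iff_cj.1 (le_normalizer_OO K hk)]
    refine sup_le le_sup_left ?_
    rintro _ ⟨_, ⟨i, rfl⟩, rfl⟩
    have e : (MulAut.conj k).toMonoidHom (x ^ i) = (k * x * k⁻¹) ^ i := by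
      change k * x ^ i * k⁻¹ = _
      rw [conj_zpow]
    change (MulAut.conj k).toMonoidHom (x ^ i) ∈ _
    rw [e]
    refine zpow_mem ?_ i
    have h5 := mul_mem (h2 (hc k hk)) (mem_sup_right (mem_zpowers x) : x ∈ OO K ⊔ zpowers x)
    rwa [inv_mul_cancel_right] at h5
  rcases ty.tyOne _ hN2 hn2 with h3 | h3
  · obtain ⟨c, v, n, hq⟩ := h.exists_gq hK hQ
    have hOn : ∀ {k o : G}, k ∈ K → o ∈ OO K → k * o * k⁻¹ ∈ OO K := fun hk ho => conj_mem_OO hk ho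
    have hcm : ∀ {a b : G}, a ∈ Q → b ∈ Q → ⁅a, b⁆ ∈ OO K := by
      intro a b ha hb
      obtain ⟨o, ho, _, ⟨i, rfl⟩, rfl⟩ := LB.exists_mul_of_mem_sup hxn (h3 Q hQ ha)
      obtain ⟨p, hp, _, ⟨j, rfl⟩, rfl⟩ := LB.exists_mul_of_mem_sup hxn (h3 Q hQ hb)
      have hij : x ^ i * x ^ j = x ^ j * x ^ i := by rw [← zpow_add, ← zpow_add, add_comm]
      have hi := zpow_mem hx i
      have hj := zpow_mem hx j
      -- `o x^i p x^j x^-i o⁻¹ x^-j p⁻¹`
      have e : ⁅o * x ^ i, p * x ^ j⁆ = o * (x ^ i * p * (x ^ i)⁻¹) * (x ^ j * o⁻¹ * (x ^ j)⁻¹) * p⁻¹ := by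
        rw [commutatorElement_def]
        calc o * x ^ i * (p * x ^ j) * (o * x ^ i)⁻¹ * (p * x ^ j)⁻¹
            = o * (x ^ i * p * (x ^ i)⁻¹) * (x ^ i * x ^ j * (x ^ i)⁻¹) * o⁻¹ * (x ^ j)⁻¹ * p⁻¹ := by group
          _ = _ := by rw [hij]; group
      change ⁅o * x ^ i, p * x ^ j⁆ ∈ OO K
      rw [e]
      exact mul_mem (mul_mem (mul_mem ho (hOn hi hp)) (hOn hj (inv_mem ho))) (inv_mem hp)
    have h5 := hcm hq.c_mem hq.v_mem
    obtain ⟨k, hk⟩ := hQ.2.1 ⟨⁅c, v⁆, by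
      rw [commutatorElement_def]
      exact Q.mul_mem (Q.mul_mem (Q.mul_mem hq.c_mem hq.v_mem) (Q.inv_mem hq.c_mem)) (Q.inv_mem hq.v_mem)⟩
    have h6 : ⁅c, v⁆ = 1 := eq_one_of_odd (odd_OO K) h5 (a := k) (congrArg Subtype.val hk)
    exact hq.not_comm (commutatorElement_eq_one_iff_mul_comm.1 h6).symm
  · -- `x ∈ O(K) ⟨z⟩`
    have hzn : zpowers (zz K) ≤ normalizer (OO K : Set G) := by
      rw [zpowers_le]; exact le_normalizer_OO K (h.zz_mem hK)
    obtain ⟨o, ho, _, ⟨i, rfl⟩, e⟩ := LB.exists_mul_of_mem_sup hzn (h3 (mem_sup_right (mem_zpowers x)))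
    change x = o * zz K ^ i at e
    have hzi : zz K ^ i * zz K ^ i = 1 := by
      rw [← (Commute.refl (zz K)).mul_zpow, h.zz_mul hK, one_zpow]
    have h5 : zz K ∈ OO K := by
      have e2 : zz K = o * (zz K ^ i * o * (zz K ^ i)⁻¹) := by
        conv_lhs => rw [← hxx, e]
        calc o * zz K ^ i * (o * zz K ^ i) = o * (zz K ^ i * o * (zz K ^ i)⁻¹) * (zz K ^ i * zz K ^ i) := by group
          _ = _ := by rw [hzi, mul_one]
      rw [e2]
      exact mul_mem ho (conj_mem_OO (zpow_mem (h.zz_mem hK) i) ho)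
    exact h.zz_ne hK (eq_one_of_odd (odd_OO K) h5 (a := 1) (by rw [pow_one, pow_two, h.zz_mul hK]))

/-- `O(C(z))` centralises the Sylow 2-subgroups of `K` if it centralises `t = x y` -/
theorem syl_le_centralizer (h : TwoE Om) (hty : ∀ K ∈ Om, IsType K) (p : TTp Om K K' x y)
    (ht : ∀ o ∈ XX (zz K), o * (x * y) = (x * y) * o) {Q : Subgroup G} (hQ : Syl Q K) :
    Q ≤ centralizer (XX (zz K) : Set G) := by
  have hKX : K ≤ normalizer (XX (zz K) : Set G) :=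
    (h.hyp.le_centralizer p.hK).trans (centralizer_le_normalizer_XX _)
  have hconj : ∀ {k g : G}, k ∈ K → g ∈ centralizer (XX (zz K) : Set G) →
      k * g * k⁻¹ ∈ centralizer (XX (zz K) : Set G) := fun hk hg => CoresComm.conj_mem_centralizer (hKX hk) hg
  have htC : x * y ∈ centralizer (XX (zz K) : Set G) := mem_centralizer_iff.2 fun o ho => ht o ho
  have hyK : y ∈ normalizer (K : Set G) := h.hyp.le_normalizer_of_zz p.hK p.hK' p.hz p.hy
  have htK : x * y ∈ normalizer (K : Set G) := mul_mem (le_normalizer p.hx) hyK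
  refine (syl_le_of_comm h.hyp p.hK (hty K p.hK) (N := K ⊓ centralizer (XX (zz K) : Set G)) inf_le_left ?_
    p.hx p.ox ?_ hQ).trans inf_le_right
  · refine OneComp.le_normalizer_of_cj_le fun k hk => ?_
    rintro _ ⟨g, hg, rfl⟩
    exact ⟨K.mul_mem (K.mul_mem hk hg.1) (K.inv_mem hk), hconj hk hg.2⟩
  · intro k hk
    have e1 : k * (x * y) * k⁻¹ * (x * y)⁻¹ ∈ K ⊓ centralizer (XX (zz K) : Set G) := by
      refine ⟨?_, (centralizer (XX (zz K) : Set G)).mul_mem (hconj hk htC)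
        ((centralizer (XX (zz K) : Set G)).inv_mem htC)⟩
      have h1 := (mem_normalizer_iff.1 htK k⁻¹).1 (inv_mem hk)
      have h2 := mul_mem hk h1
      have e : k * (x * y * k⁻¹ * (x * y)⁻¹) = k * (x * y) * k⁻¹ * (x * y)⁻¹ := by group
      rwa [e] at h2
    have e2 : k * y * k⁻¹ * y⁻¹ ∈ OO K := by
      rcases h.hyp.h2 K p.hK K' p.hK' p.hz.symm with h1 | h1
      · exact absurd h1 p.ne
      · exact (h1.trans inf_le_left) (commutator_mem_commutator hk p.hy)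
    have e3 : k * x * k⁻¹ * x⁻¹ = (k * (x * y) * k⁻¹ * (x * y)⁻¹) * (x * (k * y * k⁻¹ * y⁻¹)⁻¹ * x⁻¹) := by group
    rw [e3]
    exact mul_mem (mem_sup_left e1) (mem_sup_right (conj_mem_OO p.hx (inv_mem e2)))

/-! ### The members have trivial cores -/

/-- `K` perfect, `O(K)` central, `u` acts trivially on `K / O(K)` -/
theorem le_centralizer_of_triv (hper : ⁅K, K⁆ = K) (hcen : K ≤ centralizer (OO K : Set G)) {s : G}
    (ht : AutAct.Triv s K) : K ≤ centralizer {s} := by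
  conv_lhs => rw [← hper]
  rw [Subgroup.commutator_le]
  intro x hx y hy
  have key : ∀ k ∈ K, ∃ a ∈ OO K, s * k * s⁻¹ = a * k := fun k hk => ⟨_, ht k hk, by group⟩
  obtain ⟨a, ha, hax⟩ := key x hx
  obtain ⟨b, hb, hby⟩ := key y hy
  have hc : ∀ z ∈ OO K, ∀ k ∈ K, z * k = k * z := fun z hz k hk => mem_centralizer_iff.1 (hcen hk) z hz
  rw [mem_centralizer_singleton_iff]
  have h1 : s * ⁅x, y⁆ * s⁻¹ = ⁅x, y⁆ := by
    have h2 : s * ⁅x, y⁆ * s⁻¹ = ⁅s * x * s⁻¹, s * y * s⁻¹⁆ := by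
      simp only [commutatorElement_def]; group
    rw [h2, hax, hby, commutatorElement_def, commutatorElement_def]
    have hbK := OO_le K hb
    calc a * x * (b * y) * (a * x)⁻¹ * (b * y)⁻¹
        = a * x * b * y * x⁻¹ * a⁻¹ * y⁻¹ * b⁻¹ := by group
      _ = a * (x * b) * y * x⁻¹ * a⁻¹ * y⁻¹ * b⁻¹ := by group
      _ = a * (b * x) * y * x⁻¹ * (a⁻¹ * y⁻¹) * b⁻¹ := by rw [← hc b hb x hx]; group
      _ = a * (b * x) * y * x⁻¹ * (y⁻¹ * a⁻¹) * b⁻¹ := by rw [hc a⁻¹ (inv_mem ha) y⁻¹ (inv_mem hy)]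
      _ = (a * b) * (x * y * x⁻¹ * y⁻¹) * (a⁻¹ * b⁻¹) := by group
      _ = (x * y * x⁻¹ * y⁻¹) * (a * b) * (a⁻¹ * b⁻¹) := by
          rw [hc (a * b) (mul_mem ha hb) (x * y * x⁻¹ * y⁻¹)
            (mul_mem (mul_mem (mul_mem hx hy) (inv_mem hx)) (inv_mem hy))]
      _ = (x * y * x⁻¹ * y⁻¹) * (a * (b * a⁻¹) * b⁻¹) := by group
      _ = x * y * x⁻¹ * y⁻¹ := by rw [← hc a⁻¹ (inv_mem ha) b hbK]; group
  calc ⁅x, y⁆ * s = (s * ⁅x, y⁆ * s⁻¹) * s := by rw [h1]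
    _ = s * ⁅x, y⁆ := by group

theorem OO_inf_le_XX (hK : K ∈ cov Om (centralizer {u})) (hp : HasPieces (fam Om (centralizer {u})))
    (hrd : rd (K.subgroupOf (centralizer {u})) = K.subgroupOf (centralizer {u})) :
    OO K ⊓ centralizer {u} ≤ XX u := by
  rintro x ⟨hx, hxs⟩
  have h1 := hp.core _ (tr_mem hK)
  have h2 : qm (centralizer {u}) ⟨x, hxs⟩ ∈ OO (tr (centralizer {u}) K) := by
    rw [tr, hrd]
    refine map_OO_le _ _ ⟨⟨x, hxs⟩, ?_, rfl⟩
    rw [OO_subgroupOf hK]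
    exact hx
  rw [h1, mem_bot] at h2
  exact (mem_ker_iff _).1 h2

/-- `O(K) ≤ O(C(u))` -/
theorem OO_le_XX (hm : MinS Om) (hK : K ∈ Om) (hu1 : u ≠ 1) (huu : u * u = 1) (hpp : TwoE.Perp u K)
    (hc : ∀ o ∈ OO K, o * u = u * o) (hper : ⁅K, K⁆ = K → K ≤ centralizer (OO K : Set G)) : OO K ≤ XX u := by
  have hcov := cov_of_perp hm.hyp hm.isType hK huu hpp
  intro x hx
  refine OO_inf_le_XX hcov (hm.fam_cent hu1) ?_ ⟨hx, mem_centralizer_singleton_iff.2 (hc x hx)⟩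
  rcases hm.ty K hK with hT | ⟨ty, hper'⟩
  · exact RdOm.rd_eq_self (Or.inl (TyTrans.isT_of_quot (SubCent.quotEquiv hcov).symm hT))
  · have hle := le_centralizer_of_triv hper' (hper hper') (triv_of_perp hm.hyp hm.isType hK huu hpp)
    refine RdOm.rd_eq_self (Or.inr ⟨TyTrans.isType_of_quot (SubCent.quotEquiv hcov).symm ty, ?_⟩)
    apply TyTrans.perfect_of_restr
    rw [map_subgroupOf_eq_of_le hle, hper']

/-- **`O(K) = 1`** -/
theorem OO_eq_bot (hm : MinS Om) (hodd : OddStmt.{u}) (h : TwoE Om)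
    (hZ : ∀ K K' x y, TTp Om K K' x y → ∀ M ∈ Om, x * y ≠ zz M) (w : WD Om K K' J Q Q' QJ x y b c)
    (d : DA (AA (zz K) (x * y) (zz J))) : OO K = ⊥ := by
  have hz1 := h.hyp.zz_ne w.tt.hK
  have hv1 := w.v_ne h hZ
  have hzm := z_mem (zz K) (x * y) (zz J)
  have htm := t_mem (zz K) (x * y) (zz J)
  have hsm := s_mem (zz K) (x * y) (zz J)
  have hvm := mul_mem hsm htm
  have ham := mul_mem hzm hvm
  have hzz := h.hyp.zz_mul w.tt.hK
  have hvz : zz K ≠ zz J * (x * y) := fun e => w.v_ne_zz h hZ w.tt.hK e.symm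
  have ha1 : zz K * (zz J * (x * y)) ≠ 1 := by
    intro e
    apply hvz
    calc zz K = zz K * (zz K * (zz J * (x * y))) := by rw [e, mul_one]
      _ = _ := by rw [← mul_assoc, hzz, one_mul]
  have hO : OO K ≤ XX (zz K) := CoresCore.OO_le_XX h.hyp w.tt.hK
  have hper : ⁅K, K⁆ = K → K ≤ centralizer (OO K : Set G) := fun hp =>
    (CoresCore.le_centralizer_of_perfect hodd hp
      ((h.hyp.le_centralizer w.tt.hK).trans (centralizer_le_normalizer_XX _)) w.hQ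
      (syl_le_centralizer h hm.isType w.tt (fun o ho => d.com _ hzm hz1 o ho _ htm) w.hQ)).trans (centralizer_le hO)
  have h1 : OO K ≤ XX (zz J * (x * y)) := OO_le_XX hm w.tt.hK hv1 (w.vv h.hyp) w.Perp_v
    (fun o ho => d.com _ hzm hz1 o (hO ho) _ hvm) hper
  have h2 : OO K ≤ XX (zz K * (zz J * (x * y))) := OO_le_XX hm w.tt.hK ha1 (zvzv h w) (w.Perp_zv h w.tt.hK rfl)
    (fun o ho => d.com _ hzm hz1 o (hO ho) _ ham) hper
  have hB := d.del (kl (zz K) (zz J * (x * y)) hzz (w.vv h.hyp) (w.zv h.hyp))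
    (by rintro _ (rfl | rfl | rfl | rfl); exacts [one_mem _, hzm, hvm, ham])
    (card_kl hzz (w.vv h.hyp) (w.zv h.hyp) hz1 hv1 hvz)
  rw [eq_bot_iff, ← hB]
  refine le_Dl fun b hb hb1 => ?_
  rcases mem_kl.1 hb with rfl | rfl | rfl | rfl
  exacts [absurd rfl hb1, hO, h1, h2]

/-- **`O(K) = 1` for all members** -/
theorem OO_all (hm : MinS Om) (hodd : OddStmt.{u}) (h : TwoE Om)
    (hZ : ∀ K K' x y, TTp Om K K' x y → ∀ M ∈ Om, x * y ≠ zz M) (w : WD Om K K' J Q Q' QJ x y b c)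
    (d : DA (AA (zz K) (x * y) (zz J))) : ∀ L ∈ Om, OO L = ⊥ := by
  intro L hL
  obtain ⟨g, rfl⟩ := hm.cls K w.tt.hK L hL
  rw [OO_cj, OO_eq_bot hm hodd h hZ w d]
  exact Subgroup.map_bot _

/-! ### `O(C(u))` centralises the members in `C(u)` -/

/-- the involutions of the members covered by `C(u)` commute with `O(C(u))` -/
theorem zz_comm {J J' : Subgroup G} (s : Pre Om u J J' x y) (h : TwoE Om) (hty : ∀ K ∈ Om, IsType K)
    (hp : HasPieces (fam Om (centralizer {u})))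
    (hnm : px Om (centralizer {u}) J ∉ fam Om (centralizer {u}))
    (hall : ∀ M ∈ cov Om (centralizer {u}), px Om (centralizer {u}) M = px Om (centralizer {u}) J)
    (hz : ∀ o ∈ XX u, o * zz J = zz J * o) (hL : L ∈ cov Om (centralizer {u})) :
    ∀ o ∈ XX u, o * zz L = zz L * o := by
  have b := s.blk h hty hp hnm hall
  have p := s.ttp h hty
  have hJ := s.covJ h hty
  set H := centralizer {u} with hH
  obtain ⟨d, hd, hdL⟩ := b.exists_conj (tr_mem hL) (by rw [← hall L hL]; exact tr_le_px)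
  have e1 : zz (cj d (tr H L)) = zz (tr H J) := by
    rcases hdL with h1 | h1
    · rw [h1]
    · rw [h1]; exact p.hz
  rw [(hyp_fam h.hyp hty H).zz_cj (tr_mem hL), zz_tr h.hyp hty hL, zz_tr h.hyp hty hJ] at e1
  obtain ⟨g, rfl⟩ := qm_surjective _ d
  have hLH := zz_mem_of_cov h.hyp hL
  have hJH := zz_mem_of_cov h.hyp hJ
  have hgL : (g : G) * zz L * (g : G)⁻¹ ∈ H := mul_mem (mul_mem g.2 hLH) (inv_mem g.2)
  have hLL := h.hyp.zz_mul hL.1
  have e2 : qm H ⟨(g : G) * zz L * (g : G)⁻¹, hgL⟩ = qm H ⟨zz J, hJH⟩ := by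
    rw [← e1, ← map_inv, ← map_mul, ← map_mul]
    rfl
  have hgg : ((g : G) * zz L * (g : G)⁻¹) * ((g : G) * zz L * (g : G)⁻¹) = 1 := by
    calc ((g : G) * zz L * (g : G)⁻¹) * ((g : G) * zz L * (g : G)⁻¹) = (g : G) * (zz L * zz L) * (g : G)⁻¹ := by group
      _ = 1 := by rw [hLL]; group
  obtain ⟨o, ho, hoe⟩ := exists_odd_conj hgL hJH hgg (h.hyp.zz_mul hJ.1) e2
  have ho' : (o : G) ∈ XX u := qm_eq_one_iff.1 ho
  rw [hz _ ho', mul_inv_cancel_right] at hoe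
  -- `zz J = g zz L g⁻¹`
  intro r hr
  have hg : (g : G) * u = u * g := mem_centralizer_singleton_iff.1 g.2
  have h1 := hz _ (CoreTools.conj_mem_XX hg hr)
  rw [hoe] at h1
  calc r * zz L = (g : G)⁻¹ * (g * r * (g : G)⁻¹ * ((g : G) * zz L * (g : G)⁻¹)) * g := by group
    _ = (g : G)⁻¹ * ((g : G) * zz L * (g : G)⁻¹ * (g * r * (g : G)⁻¹)) * g := by rw [h1]
    _ = zz L * r := by group

/-- `O(C(u))` centralises the members in `C(u)` if it centralises their involutions -/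
theorem comm_of_zz (h : TwoE Om) {L L' : Subgroup G} (hL : L ∈ Om) (hL' : L' ∈ Om) (hne : L ≠ L')
    (hz : zz L' = zz L) (hO : OO L = ⊥) (hLu : L ≤ centralizer {u}) (hc : ∀ o ∈ XX u, o * zz L = zz L * o) :
    ∀ o ∈ XX u, ∀ l ∈ L, o * l = l * o := by
  have hn : XX u ≤ normalizer (L : Set G) := by
    intro o ho
    have h1 : o * o ∈ normalizer (L : Set G) := by
      rw [mem_normalizer_iff_cj, Cit.cj_mul]
      rcases h.cj_or hL hL' hne hz (hc o ho) with ⟨h2, -⟩ | ⟨h2, h3⟩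
      · rw [h2, h2]
      · rw [h2, h3]
    obtain ⟨n, hn⟩ := CoreTools.mem_zpowers_sq ho
    change (o * o) ^ n = o at hn
    have h4 := zpow_mem h1 n
    rwa [hn] at h4
  have hnu : L ≤ normalizer (XX u : Set G) := hLu.trans (centralizer_le_normalizer_XX u)
  have h2 : XX u ⊓ L ≤ OO L := by
    refine le_OO inf_le_right ?_ fun h3 => odd_XX u (h3.trans (card_dvd_of_le inf_le_left))
    refine OneComp.le_normalizer_of_cj_le fun k hk => ?_
    rintro _ ⟨g, hg, rfl⟩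
    exact ⟨(mem_normalizer_iff.1 (hnu hk) g).1 hg.1, L.mul_mem (L.mul_mem hk hg.2) (L.inv_mem hk)⟩
  intro o ho l hl
  have h3 : o * l * o⁻¹ * l⁻¹ ∈ XX u ⊓ L := by
    refine ⟨?_, L.mul_mem ((mem_normalizer_iff.1 (hn ho) l).1 hl) (L.inv_mem hl)⟩
    have h4 := mul_mem ho ((mem_normalizer_iff.1 (hnu hl) o⁻¹).1 (inv_mem ho))
    have e : o * (l * o⁻¹ * l⁻¹) = o * l * o⁻¹ * l⁻¹ := by group
    rwa [e] at h4
  have h4 := h2 h3
  rw [hO, mem_bot, mul_inv_eq_one, mul_inv_eq_iff_eq_mul] at h4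
  exact h4

/-- **`CorB`** -/
theorem corB (hm : MinS Om) (h : TwoE Om)
    (hZ : ∀ K K' x y, TTp Om K K' x y → ∀ M ∈ Om, x * y ≠ zz M) (w : WD Om K K' J Q Q' QJ x y b c)
    (hO : ∀ K ∈ Om, OO K = ⊥) (d : DA (AA (zz K) (x * y) (zz J))) (nc : ¬ TwoWT.Cen (x * y) (zz J)) :
    OmB3.BIn.CorB Om K J x y := by
  have hz1 := h.hyp.zz_ne w.tt.hK
  have hv1 := w.v_ne h hZ
  have hzm := z_mem (zz K) (x * y) (zz J)
  have htm := t_mem (zz K) (x * y) (zz J)
  have hsm := s_mem (zz K) (x * y) (zz J)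
  have hvm := mul_mem hsm htm
  have ham := mul_mem hzm hvm
  have hzz := h.hyp.zz_mul w.tt.hK
  have hvz : zz K ≠ zz J * (x * y) := fun e => w.v_ne_zz h hZ w.tt.hK e.symm
  have ha1 : zz K * (zz J * (x * y)) ≠ 1 := by
    intro e
    apply hvz
    calc zz K = zz K * (zz K * (zz J * (x * y))) := by rw [e, mul_one]
      _ = _ := by rw [← mul_assoc, hzz, one_mul]
  -- the mate of `L`
  have mate : ∀ L ∈ Om, ∃ L' ∈ Om, L ≠ L' ∧ zz L' = zz L := by
    intro L hL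
    obtain ⟨g, rfl⟩ := hm.cls K w.tt.hK L hL
    refine ⟨cj g K', h.hyp.conj K' w.tt.hK' g, fun e => w.tt.ne ?_, ?_⟩
    · have e2 := congrArg (cj g⁻¹) e
      rwa [← Cit.cj_mul, ← Cit.cj_mul, inv_mul_cancel, cj_one, cj_one] at e2
    · rw [h.hyp.zz_cj w.tt.hK', h.hyp.zz_cj w.tt.hK, w.tt.hz]
  refine ⟨?_, ?_, fun o ho => (d.com _ hzm hz1 o ho _ ham).symm, nc⟩
  · intro L hL hLv o ho l hl
    obtain ⟨L', hL', hne, hz⟩ := mate L hL
    exact comm_of_zz h hL hL' hne hz (hO L hL) hLv (zz_comm (pre_v h w) h hm.isType (hm.fam_cent hv1)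
      (px_v_not_mem h hm.isType w) (fun M hM => all_v h hm.isType w hM) (fun o ho => d.com _ hvm hv1 o ho _ hzm)
      (mem_cov_of_le hL hLv)) o ho l hl
  · intro L hL hLv o ho l hl
    obtain ⟨L', hL', hne, hz⟩ := mate L hL
    have s := side_a h hm.isType w
    have hp := hm.fam_cent ha1
    rcases dich h hm.isType hp (s.covJ h hm.isType) (s.covJ' h hm.isType) s.tt.ne s.tt.hz with
      ⟨hc, -, -⟩ | ⟨-, hnm, hall⟩
    · exact absurd ((cen_iff h w).2 hc) nc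
    · exact comm_of_zz h hL hL' hne hz (hO L hL) hLv (zz_comm s.toPre h hm.isType hp hnm hall
        (fun o ho => d.com _ ham ha1 o ho _ hzm) (mem_cov_of_le hL hLv)) o ho l hl

end Cfsg.Agent.Cit.TwoEnd
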