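import Cfsg.Agent.Cit.TwoXHex
import Cfsg.Agent.GH.QAZStar

/-!
# (X4), (X5) with Glauberman's theorem: `zz J` not central

`hex` : `O(X) = 1`, `zz J` not central ⇒ there are `s₁ ≠ s₂` commuting and `z` with `ZP F s₁ z`, `ZP F s₂ z`.
-/

set_option autoImplicit false
set_option linter.style.haveILetI false
set_option linter.unusedSectionVars false

namespace Cfsg.Agent.Cit.TwoX

open Subgroup Cfsg OneBasic

variable {X : Type*} [Group X] [Finite X] {F : Set (Subgroup X)} {J : Subgroup X}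

/-- a second involution -/
theorem TX.exists_nbr (t : TX F) (hO : pPrimeCore 2 X = ⊥) (hJ : J ∈ F) (hnc : ¬ ∀ g : X, g * zz J = zz J * g) :
    ∃ M ∈ F, zz J ≠ zz M ∧ zz J * zz M = zz M * zz J := by
  by_contra hcon
  push Not at hcon
  obtain ⟨N, hN, hodd, hc⟩ := GH.QA.zstar (t.hyp.zz_mul hJ) (t.hyp.zz_ne hJ) (by
    intro g hg
    have h1 := t.hyp.zz_cj hJ g
    rw [← h1] at hg ⊢
    by_contra hne
    exact hcon (cj g J) (t.hyp.conj J hJ g) (Ne.symm hne) hg)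
  have h2 : N ≤ pPrimeCore 2 X := Lib.Cores.le_pPrimeCore hN (Nat.coprime_two_right.2 hodd)
  rw [hO] at h2
  apply hnc
  intro g
  have h3 := h2 (hc g)
  rw [mem_bot] at h3
  calc g * zz J = (zz J * g * (zz J)⁻¹ * g⁻¹)⁻¹ * (zz J * g) := by group
    _ = zz J * g := by rw [h3]; group

/-- **`hex`** -/
theorem TX.hex (t : TX F) (hO : pPrimeCore 2 X = ⊥) (hJ : J ∈ F) (hnc : ¬ ∀ g : X, g * zz J = zz J * g) :
    ∃ s₁ s₂ z₁, ZP F s₁ z₁ ∧ ZP F s₂ z₁ ∧ s₁ * s₂ = s₂ * s₁ ∧ s₁ ≠ s₂ := by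
  obtain ⟨M, hM, h1, h2⟩ := t.exists_nbr hO hJ hnc
  exact t.exists_hex hJ hM h1 h2

end Cfsg.Agent.Cit.TwoX
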