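import Cfsg.Agent.Cit.TwoCores
import Cfsg.Agent.Cit.TwoEnd
import Cfsg.Agent.Cit.TwoELem
import Cfsg.Agent.Cit.TwoXZ

/-!
# Branch (B): the cores (`CoresB`)
-/

set_option autoImplicit false
set_option linter.unusedSectionVars false
set_option linter.style.haveILetI false

namespace Cfsg.Agent.Cit.TwoCoresB

open Subgroup Cfsg Cfsg.Agent.Cit SubCent UseT TwoWT EqCfg TwoX TwoCores TwoEnd
open Cfsg.Agent.Cit.Comp
open Cfsg.Agent.Cit.TwoFK (TwoEq)
open Cfsg.Agent.Cit.CoreTwoEq (CaseA CaseB)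

universe u

/-- **THEOREM X** -/
theorem xStmt : XStmt.{u} := by
  intro X _ _ F t ty hp hO hev hnc
  obtain ⟨K, hK, hnc⟩ := hnc
  refine ⟨?_, t.hex hO hK hnc⟩
  intro M b mv k hk o ho
  exact t.two.e_lemma ty hp hO hev t.noperp mv.mem mv.sq mv.comm mv.ne ho hk

variable {G : Type u} [Group G] [Finite G] {Om : Set (Subgroup G)} {K K' J Q Q' QJ : Subgroup G} {x y b c : G}

theorem da (ms : MinS Om) (h2 : TwoEq Om) (hA : ¬ CaseA Om) (hodd : CoresG.OddStmt.{u})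
    (hB : ∀ (X : Type u) [Group X] [Finite X] [IsSimpleGroup X], CloEnd.Bend X)
    (hC : ∀ (X : Type u) [Group X] [Finite X] [IsSimpleGroup X], CloEnd.Crit1175 X)
    (w : WD Om K K' J Q Q' QJ x y b c) : DA (AA (zz K) (x * y) (zz J)) := by
  haveI := ms.simple
  have ht := tor ms h2 hA hodd hB hC xStmt w
  exact DA.of_tor ht (TwoDA.DF_eq_bot h2.twoE ms.isType (hZ_of hA) w ht (bg ms h2 hA hB hC w))

/-- **`CoresB`** -/
theorem coresB (hodd : CoresG.OddStmt.{u})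
    (hB : ∀ (X : Type u) [Group X] [Finite X] [IsSimpleGroup X], CloEnd.Bend X)
    (hC : ∀ (X : Type u) [Group X] [Finite X] [IsSimpleGroup X], CloEnd.Crit1175 X) : OmB3.BIn.CoresB.{u} := by
  intro G _ _ Om ms h2 hcb
  obtain ⟨hA, K₀, K₀', x₀, y₀, p, J₀, hJ₀, hperp⟩ := hcb
  have h := h2.twoE
  have hZ := hZ_of hA
  have hO : ∀ K ∈ Om, OO K = ⊥ := by
    obtain ⟨J', Q, Q', QJ, b, c, w⟩ := h.exists_wd p hJ₀ hperp
    exact OO_all ms hodd h hZ w (da ms h2 hA hodd hB hC w)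
  refine ⟨hO, fun K K' J Q Q' QJ x y b c w => ?_⟩
  have d := da ms h2 hA hodd hB hC w
  exact corB ms h hZ w hO d (TwoBG.ncen h ms.isType w hO
    (fun o ho => d.com _ (t_mem _ _ _) (TwoDA.t_ne h hZ w) o ho _ (s_mem _ _ _)) (bg ms h2 hA hB hC w)
    ms.center_eq_bot (w.v_ne h hZ))

end Cfsg.Agent.Cit.TwoCoresB
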