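import Cfsg.Agent.Cit.FourTypes
import Cfsg.Agent.Cit.Four.TypesX
import Cfsg.Agent.Cit.CoreThree

/-!
# The type of a piece containing exactly two commuting members with different involutions

* `types_two` : a chart with two commuting members and no third one commuting with both has type `C 2`, `A 3`, `A 4` or
  `B 3`;
* `false_of_mathieu_two` : no two commuting members in a piece of type `M₁₁`;
* `ExcZZ` : commuting members of a piece of type `G₂(q)`, `³D₄(q)` have the same involution (input);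
* **`typed_of_two`** : the type of the piece.
-/

set_option autoImplicit false
set_option linter.style.haveILetI false
set_option linter.unusedSectionVars false

namespace Cfsg.Agent.Cit.ThreeTy

open Subgroup Cfsg Cfsg.Agent.Cit SubCent UseT Branches CoreThree
open Cfsg.Agent.Nodes.Chart Cfsg.Agent.Nodes.ChartFrame
open Cfsg.Agent.Cit.TypeDet (cm four_mem four_inj comm_of_mul)
open Cfsg.Agent.Cit.FourTypes (fsz exists_frame)

universe u

section Chart

variable {G : Type*} [Group G] {Om : Set (Subgroup G)} {p : ℕ} {D : Subgroup G} [Finite G]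

/-- **the possible types** of a chart with two commuting members, no third member commuting with both -/
theorem types_two (hyp : Hyp Om) (c : Chart Om p D) {τ : Nodes.Chart.Ty} (hτ : c.IsTy τ) (ok : KindOk τ)
    {K K' : Subgroup G} (hK : K ∈ Om) (hK' : K' ∈ Om) (hKD : K ≤ D) (hKD' : K' ≤ D) (hc : cm K K')
    (hmax : ∀ L ∈ Om, L ≤ D → cm L K → cm L K' → False) :
    (τ = .C 2 ∨ τ = .A 3 ∨ τ = .A 4) ∨ τ = .B 3 := by
  set F : Fin 2 → Subgroup G := ![K, K'] with hF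
  have hF2 : ∀ i, F i ∈ TypeDet.OmIn Om D := by
    intro i
    fin_cases i
    · exact ⟨hK, hKD⟩
    · exact ⟨hK', hKD'⟩
  have hc2 : ∀ i j, i ≠ j → cm (F i) (F j) := by
    intro i j hij
    fin_cases i <;> fin_cases j
    · exact absurd rfl hij
    · exact hc
    · exact TypeDet.cm_symm hc
    · exact absurd rfl hij
  have hmax2 : ∀ L' ∈ TypeDet.OmIn Om D, ¬ ∀ k, cm L' (F k) := fun L hL h => hmax L hL.1 hL.2 (h 0) (h 1)
  have hsz : fsz τ = 2 := by
    obtain ⟨c', κ, _, g, h1, FS, hcard⟩ := exists_frame c hτ ok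
    obtain ⟨s, d, F'⟩ := exists_frameIn (C := c') hF2 hc2
    obtain ⟨σ, -, -⟩ := F'.exists_std hyp.conj hmax2 FS
    rw [← hcard, ← Fintype.card_congr σ, Fintype.card_fin]
  cases τ with
  | A n =>
    have h2 : (n + 1) / 2 = 2 := hsz
    by_cases h3 : n = 3
    · exact Or.inl (Or.inr (Or.inl (by rw [h3])))
    · exact Or.inl (Or.inr (Or.inr (by rw [show n = 4 by omega])))
  | B n =>
    have h2 : 2 * (n / 2) = 2 := hsz
    have h3 : 3 ≤ n := ok
    exact Or.inr (by rw [show n = 3 by omega])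
  | C n =>
    have h2 : n = 2 := hsz
    exact Or.inl (Or.inl (by rw [h2]))
  | D n =>
    have h2 : 2 * (n / 2) = 2 := hsz
    have h3 : 4 ≤ n := ok
    omega
  | E6 => exact absurd (hsz : (4 : ℕ) = 2) (by decide)
  | E7 => exact absurd (hsz : (7 : ℕ) = 2) (by decide)
  | E8 => exact absurd (hsz : (8 : ℕ) = 2) (by decide)
  | F4 => exact absurd (hsz : (4 : ℕ) = 2) (by decide)
  | G2 => exact ok.elim

end Chart

section Mathieu

variable {X : Type*} [Group X] [Finite X] {F : Set (Subgroup X)}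

/-- no two commuting members with non-central involution in a group with `|D / Z(D)| = 7920` -/
theorem false_of_card_two (hyp : Hyp F) {D : Subgroup X} (hD : Nat.card (↥D ⧸ center D) = 7920)
    {K J : Subgroup X} (hK : K ∈ F) (hJ : J ∈ F) (hKD : K ≤ D) (hJD : J ≤ D)
    (h1 : cm K J) (hnz : ¬ ∀ x ∈ D, x * zz K = zz K * x) : False := by
  have : Fact (Nat.Prime 2) := ⟨Nat.prime_two⟩
  obtain ⟨Q₁, hQ₁⟩ := Hyp.exists_syl K
  obtain ⟨Q₂, hQ₂⟩ := Hyp.exists_syl J
  obtain ⟨c₁, v₁, n₁, q₁⟩ := hyp.exists_gq hK hQ₁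
  obtain ⟨c₂, v₂, n₂, q₂⟩ := hyp.exists_gq hJ hQ₂
  have cm12 : ∀ x ∈ Q₁, ∀ y ∈ Q₂, x * y = y * x := fun x hx y hy => h1 x (hQ₁.1 hx) y (hQ₂.1 hy)
  -- the 2-group
  have hP : IsPGroup 2 ↥(Q₂ ⊔ Q₁) := by
    refine IsPGroup.to_sup_of_normal_right' hQ₂.2.1 hQ₁.2.1 ?_
    exact (TypeDet.cm_iff_le_centralizer.mp (TypeDet.cm_symm cm12)).trans (centralizer_le_normalizer _)
  set P := Q₂ ⊔ Q₁ with hPdef
  have hPD : P ≤ D := sup_le (hQ₂.1.trans hJD) (hQ₁.1.trans hKD)
  set E := ↥D ⧸ center D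
  let π : ↥D →* E := QuotientGroup.mk' (center D)
  let PP : Subgroup E := (P.subgroupOf D).map π
  have hPP : IsPGroup 2 PP := (hP.comap_of_injective D.subtype D.subtype_injective).map π
  obtain ⟨n, hn⟩ := IsPGroup.iff_card.mp hPP
  have hdvd : 2 ^ n ∣ 7920 := by
    rw [← hn, ← hD]
    exact card_subgroup_dvd_card PP
  have hn4 : n ≤ 4 := by
    by_contra hcon
    have h5 : 2 ^ 5 ∣ 7920 := (pow_dvd_pow 2 (by omega : 5 ≤ n)).trans hdvd
    omega
  -- the involution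
  have zQ1 : zz K ∈ Q₁ := by
    have h3 := zz_spec (K := Q₁) ⟨_, q₁.z_mem, q₁.orderOf_z⟩
    rw [← hyp.uniq K hK _ (hQ₁.1 h3.1) h3.2]
    exact h3.1
  have zc1 : ∀ y ∈ Q₁, zz K * y = y * zz K := fun y hy => (hyp.comm_zz hK (le_normalizer (hQ₁.1 hy))).symm
  have zc2 : ∀ y ∈ Q₂, zz K * y = y * zz K := fun y hy => cm12 _ zQ1 y hy
  have zsq : zz K * zz K = 1 := hyp.zz_mul hK
  -- the 32 elements
  let Y := (Bool × Bool) × (Bool × Bool) × Bool
  let ze : Bool → X := fun b => if b then zz K else 1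
  have m1 : ∀ a, TypeDet.four c₁ v₁ a ∈ Q₁ := four_mem q₁.c_mem q₁.v_mem
  have m2 : ∀ a, TypeDet.four c₂ v₂ a ∈ Q₂ := four_mem q₂.c_mem q₂.v_mem
  have m3 : ∀ b, ze b ∈ Q₁ := by
    intro b
    cases b
    · exact one_mem _
    · exact zQ1
  have z1 : ∀ b, ∀ y ∈ Q₁, ze b * y = y * ze b := by
    intro b y hy
    cases b
    · change 1 * y = y * 1
      rw [one_mul, mul_one]
    · exact zc1 y hy
  have z2 : ∀ b, ∀ y ∈ Q₂, ze b * y = y * ze b := by
    intro b y hy
    cases b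
    · change 1 * y = y * 1
      rw [one_mul, mul_one]
    · exact zc2 y hy
  have mP : ∀ x : Y, TypeDet.four c₁ v₁ x.1 * TypeDet.four c₂ v₂ x.2.1 * ze x.2.2 ∈ P := fun x =>
    mul_mem (mul_mem ((le_sup_right : Q₁ ≤ P) (m1 _)) ((le_sup_left : Q₂ ≤ P) (m2 _)))
      ((le_sup_right : Q₁ ≤ P) (m3 _))
  let f : Y → PP := fun x => ⟨π ⟨_, hPD (mP x)⟩, ⟨⟨_, hPD (mP x)⟩, mP x, rfl⟩⟩
  have hf : Function.Injective f := by
    rintro ⟨a, b, d⟩ ⟨a', b', d'⟩ hxy
    have e1 : π ⟨_, hPD (mP (a, b, d))⟩ = π ⟨_, hPD (mP (a', b', d'))⟩ := congrArg Subtype.val hxy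
    have e2 := (QuotientGroup.eq (s := center D)).mp e1
    set A := TypeDet.four c₁ v₁ a
    set A' := TypeDet.four c₁ v₁ a'
    set B := TypeDet.four c₂ v₂ b
    set B' := TypeDet.four c₂ v₂ b'
    have e3 : ∀ y ∈ D, (A * B * ze d)⁻¹ * (A' * B' * ze d') * y = y * ((A * B * ze d)⁻¹ * (A' * B' * ze d')) := by
      intro y hy
      exact (congrArg Subtype.val (mem_center_iff.mp e2 ⟨y, hy⟩)).symm
    have hA : A ∈ Q₁ := m1 _
    have hA' : A' ∈ Q₁ := m1 _
    have hB : B ∈ Q₂ := m2 _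
    have hB' : B' ∈ Q₂ := m2 _
    have hBB : B⁻¹ * B' ∈ Q₂ := mul_mem (inv_mem hB) hB'
    have hAA : A⁻¹ * A' ∈ Q₁ := mul_mem (inv_mem hA) hA'
    have hdd1 : ∀ y ∈ Q₁, (ze d)⁻¹ * ze d' * y = y * ((ze d)⁻¹ * ze d') := by
      intro y hy
      have i1 : (ze d)⁻¹ * y = y * (ze d)⁻¹ := by
        have := z1 d y hy
        rw [inv_mul_eq_iff_eq_mul, ← mul_assoc, this, mul_inv_cancel_right]
      rw [mul_assoc, z1 d' y hy, ← mul_assoc, i1, mul_assoc]
    have hdd2 : ∀ y ∈ Q₂, (ze d)⁻¹ * ze d' * y = y * ((ze d)⁻¹ * ze d') := by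
      intro y hy
      have i1 : (ze d)⁻¹ * y = y * (ze d)⁻¹ := by
        have := z2 d y hy
        rw [inv_mul_eq_iff_eq_mul, ← mul_assoc, this, mul_inv_cancel_right]
      rw [mul_assoc, z2 d' y hy, ← mul_assoc, i1, mul_assoc]
    have e4 : (A * B * ze d)⁻¹ * (A' * B' * ze d') = (A⁻¹ * A') * ((B⁻¹ * B') * ((ze d)⁻¹ * ze d')) := by
      have j1 : (ze d)⁻¹ * B⁻¹ = B⁻¹ * (ze d)⁻¹ := by
        have := z2 d _ (inv_mem hB)
        rw [inv_mul_eq_iff_eq_mul, ← mul_assoc, this, mul_inv_cancel_right]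
      have j2 : (ze d)⁻¹ * (A⁻¹ * A') = (A⁻¹ * A') * (ze d)⁻¹ := by
        have := z1 d _ hAA
        rw [inv_mul_eq_iff_eq_mul, ← mul_assoc, this, mul_inv_cancel_right]
      have j3 : (ze d)⁻¹ * B' = B' * (ze d)⁻¹ := by
        have := z2 d _ hB'
        rw [inv_mul_eq_iff_eq_mul, ← mul_assoc, this, mul_inv_cancel_right]
      calc (A * B * ze d)⁻¹ * (A' * B' * ze d') = (ze d)⁻¹ * B⁻¹ * (A⁻¹ * A') * (B' * ze d') := by group
        _ = B⁻¹ * (ze d)⁻¹ * (A⁻¹ * A') * (B' * ze d') := by rw [j1]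
        _ = B⁻¹ * ((ze d)⁻¹ * (A⁻¹ * A')) * (B' * ze d') := by group
        _ = B⁻¹ * ((A⁻¹ * A') * (ze d)⁻¹) * (B' * ze d') := by rw [j2]
        _ = (B⁻¹ * (A⁻¹ * A')) * ((ze d)⁻¹ * B') * ze d' := by group
        _ = ((A⁻¹ * A') * B⁻¹) * (B' * (ze d)⁻¹) * ze d' := by rw [← cm12 _ hAA _ (inv_mem hB), j3]
        _ = _ := by group
    -- commuting with the two groups
    have r1 : ∀ y ∈ Q₁, (A⁻¹ * A') * y = y * (A⁻¹ * A') := by
      intro y hy
      have h4 := e3 y (hKD (hQ₁.1 hy))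
      rw [e4] at h4
      refine comm_of_mul h4 ?_
      calc (B⁻¹ * B') * ((ze d)⁻¹ * ze d') * y = (B⁻¹ * B') * ((ze d)⁻¹ * ze d' * y) := by group
        _ = (B⁻¹ * B') * (y * ((ze d)⁻¹ * ze d')) := by rw [hdd1 y hy]
        _ = ((B⁻¹ * B') * y) * ((ze d)⁻¹ * ze d') := by group
        _ = (y * (B⁻¹ * B')) * ((ze d)⁻¹ * ze d') := by rw [cm12 y hy _ hBB]
        _ = _ := by group
    have r2 : ∀ y ∈ Q₂, (B⁻¹ * B') * y = y * (B⁻¹ * B') := by
      intro y hy
      have h4 := e3 y (hJD (hQ₂.1 hy))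
      have e5 : (A * B * ze d)⁻¹ * (A' * B' * ze d') = (B⁻¹ * B') * ((A⁻¹ * A') * ((ze d)⁻¹ * ze d')) := by
        rw [e4, ← mul_assoc, cm12 _ hAA _ hBB, mul_assoc]
      rw [e5] at h4
      refine comm_of_mul h4 ?_
      calc (A⁻¹ * A') * ((ze d)⁻¹ * ze d') * y = (A⁻¹ * A') * ((ze d)⁻¹ * ze d' * y) := by group
        _ = (A⁻¹ * A') * (y * ((ze d)⁻¹ * ze d')) := by rw [hdd2 y hy]
        _ = ((A⁻¹ * A') * y) * ((ze d)⁻¹ * ze d') := by group
        _ = (y * (A⁻¹ * A')) * ((ze d)⁻¹ * ze d') := by rw [cm12 _ hAA y hy]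
        _ = _ := by group
    have t1 : a = a' := four_inj (fun h => q₁.not_comm h.symm) (r1 _ q₁.c_mem) (r1 _ q₁.v_mem)
    have t2 : b = b' := four_inj (fun h => q₂.not_comm h.symm) (r2 _ q₂.c_mem) (r2 _ q₂.v_mem)
    have t3 : d = d' := by
      have hA1 : A⁻¹ * A' = 1 := by
        change (TypeDet.four c₁ v₁ a)⁻¹ * TypeDet.four c₁ v₁ a' = 1
        rw [t1, inv_mul_cancel]
      have hB1 : B⁻¹ * B' = 1 := by
        change (TypeDet.four c₂ v₂ b)⁻¹ * TypeDet.four c₂ v₂ b' = 1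
        rw [t2, inv_mul_cancel]
      rw [hA1, hB1, one_mul, one_mul] at e4
      by_contra hne
      apply hnz
      intro x hx
      have h4 := e3 x hx
      rw [e4] at h4
      cases d <;> cases d'
      · exact absurd rfl hne
      · have h5 : (1 : X)⁻¹ * zz K * x = x * ((1 : X)⁻¹ * zz K) := h4
        rw [inv_one, one_mul] at h5
        exact h5.symm
      · have h5 : (zz K)⁻¹ * 1 * x = x * ((zz K)⁻¹ * 1) := h4
        rw [mul_one, hyp.zz_inv hK] at h5
        exact h5.symm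
      · exact absurd rfl hne
    rw [t1, t2, t3]
  have h32 : 32 ≤ Nat.card PP := by
    have h4 := Nat.card_le_card_of_injective f hf
    have h5 : Nat.card Y = 32 := by
      rw [Nat.card_eq_fintype_card]
      decide
    omega
  rw [hn] at h32
  have h16 : 2 ^ n ≤ 2 ^ 4 := Nat.pow_le_pow_right (by norm_num) hn4
  omega

/-- no two commuting members with non-central involution in a piece of type `M₁₁` -/
theorem false_of_mathieu_two (hyp : Hyp F) {D : Subgroup X} (hD : Spor.IsoM11 (↥D ⧸ center D))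
    {K J : Subgroup X} (hK : K ∈ F) (hJ : J ∈ F) (hKD : K ≤ D) (hJD : J ≤ D)
    (h1 : cm K J) (hnz : ¬ ∀ x ∈ D, x * zz K = zz K * x) : False := by
  obtain ⟨e⟩ := hD
  refine false_of_card_two hyp ?_ hK hJ hKD hJD h1 hnz
  rw [Nat.card_congr e.toEquiv]
  exact TypeDet.card_M11'

end Mathieu

/-- **(ExcZZ)** commuting members of a piece of type `G₂(q)`, `³D₄(q)` have the same involution -/
def ExcZZ : Prop := ∀ (X : Type u) [Group X] [Finite X] (F : Set (Subgroup X)), Hyp F → (∀ K ∈ F, IsType K) →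
  ∀ D : Subgroup X, D ∉ F → IsQuasisimple D → IsPGroup 2 (center D) → ∀ p : ℕ, p.Prime → p ≠ 2 →
  IsG2D4 p (↥D ⧸ center D) → ∀ K ∈ F, ∀ J ∈ F, K ≤ D → J ≤ D → cm K J →
  (∀ d ∈ D, zz K * zz J * d = d * (zz K * zz J)) → zz K = zz J

section Main

variable {X : Type u} [Group X] [Finite X] {F : Set (Subgroup X)}

/-- **the type of a piece** with two commuting members with different involutions, no third member commuting with both -/
theorem typed_of_two (hex : ExcZZ.{u}) (h : Hyp F) (ty : ∀ K ∈ F, IsType K) (hp : HasPieces F) {K K' : Subgroup X}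
    (hK : K ∈ F) (hK' : K' ∈ F) (hpc : pc F K = pc F K') (hc : cm K K') (hz : zz K ≠ zz K')
    (hmax : ∀ L ∈ F, L ≤ pc F K → cm L K → cm L K' → False) :
    ∃ τ, ((τ = .C 2 ∨ τ = .A 3 ∨ τ = .A 4) ∨ τ = .B 3) ∧ TyPiece F (pc F K) τ := by
  have hl : K ≤ pc F K := le_pc
  have hl' : K' ≤ pc F K := by rw [hpc]; exact le_pc
  have hne : pc F K ≠ K := by
    intro e
    rw [e] at hl'
    rw [h.eq_of_le hK' hK hl'] at hz
    exact hz rfl
  have hnm := (hp.eq_or_quasisimple h hK).resolve_left hne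
  have hnz : ¬ ∀ x ∈ pc F K, x * zz K = zz K * x := fun h4 => hne (Four.not_central h hp.core hK h4)
  have hP := hp.piece h hK
  generalize pc F K = D at hnm hl hl' hP hnz hmax ⊢
  cases hP with
  | single mem => exact absurd mem hnm.1
  | chart nmem qs two p c τ kind ok small sl zx =>
    exact ⟨τ, types_two h c kind ok hK hK' hl hl' hc hmax, nmem, qs, two, p, c, kind, small, sl, zx⟩
  | exc qs two p prime odd iso ne zzc three =>
    exfalso
    apply hz
    refine hex X F h ty D hnm.1 qs two p prime odd iso K hK K' hK' hl hl' hc ?_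
    exact zzc K hK K' hK' hl hl' (fun e => hz (by rw [e])) (TypeDet.cm_iff_le_centralizer.1 hc)
  | mathieu qs two iso ne mem =>
    exact (false_of_mathieu_two h iso hK hK' hl hl' hc hnz).elim

end Main

end Cfsg.Agent.Cit.ThreeTy
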