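import Cfsg.Agent.Cit.TwoAltCh
import Cfsg.Agent.Cit.TypeDet.LocalBar
import Cfsg.Agent.Cit.TypeDet.FourMain
import Cfsg.Agent.Cit.ThreeTy

/-!
# Blocks with two members (project CIT, `halt` of `TypeDet.four_KL`)

* `conG_of_bar`, `comm_of_bar` : from the piece `D'` of `H / O(H)` to the block;
* `alt_of_piece` : the alternatives for `D' = PT Om H (K i)`;
* `LocB.halt` : the blocks of `F - k`.
-/

set_option autoImplicit false
set_option linter.unusedSectionVars false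
set_option linter.dupNamespace false

namespace Cfsg.Agent.Cit.FourAlt

open Subgroup Finset Classical Relation Cfsg Cfsg.Agent.Cit.UseT Cfsg.Agent.Cit.PieceLift Cfsg.Agent.Cit.PieceG
open Cfsg.Agent.Cit.TypeDet Cfsg.Agent.Cit.TypeDet.LocalBar
open scoped commutatorElement

universe u

variable {G : Type u} [Group G] [Finite G] {Om : Set (Subgroup G)} {H : Subgroup G} {ι : Type*} [Fintype ι]
  {Oa : Set (Subgroup G)} {K : ι → Subgroup G} {D' : Subgroup (HQ H)} {B : Finset ι}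

section Blk

variable (b : Blk Om H Oa K D' B)

include b

/-- the block -/
theorem mem_OmA_B {L : Subgroup G} : L ∈ OmA Oa K B ↔ L ∈ TypeDet.OmIn Om H ∧ bar H L ≤ D' := by
  have h1 := b.mem_OmA_map univ (L := L)
  rw [univ_map_emb] at h1
  rw [h1]
  constructor
  · rintro ⟨h2, h3⟩
    exact ⟨h2, h3.1.2⟩
  · rintro ⟨h2, h3⟩
    exact ⟨h2, ⟨bar_mem h2.1 h2.2, h3⟩, fun k hk => absurd (mem_univ k) hk⟩

/-- connectivity of the block -/
theorem conG_of_bar (h : Red.ConG (TypeDet.OmIn (fb Om H) D')) : Red.ConG (OmA Oa K B) := by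
  intro C hC hne hcl
  have h1 : bar H '' C = TypeDet.OmIn (fb Om H) D' := by
    refine h _ ?_ (hne.image _) ?_
    · rintro _ ⟨L, hL, rfl⟩
      obtain ⟨h2, h3⟩ := (mem_OmA_B b).1 (hC hL)
      exact ⟨bar_mem h2.1 h2.2, h3⟩
    · rintro _ ⟨L, hL, rfl⟩ Y hY hLY
      obtain ⟨M, hM, rfl⟩ := exists_bar' hY.1
      obtain ⟨h2, -⟩ := (mem_OmA_B b).1 (hC hL)
      refine ⟨M, hcl L hL M ((mem_OmA_B b).2 ⟨hM, hY.2⟩) ?_, rfl⟩
      exact (cm_bar_iff b.cor b.core h2.1 hM.1 h2.2 hM.2).1 hLY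
  refine Set.Subset.antisymm hC fun M hM => ?_
  obtain ⟨h2, h3⟩ := (mem_OmA_B b).1 hM
  have h4 : bar H M ∈ bar H '' C := by
    rw [h1]
    exact ⟨bar_mem h2.1 h2.2, h3⟩
  obtain ⟨L, hL, e⟩ := h4
  obtain ⟨h5, -⟩ := (mem_OmA_B b).1 (hC hL)
  rwa [eq_of_bar_eq b.cor h5.1 h2.1 h5.2 h2.2 e] at hL

/-- central products of two involutions -/
theorem comm_of_bar {i j : ι} (hij : i ≠ j) (h : ∀ d ∈ D', d * (zz (bar H (K i)) * zz (bar H (K j))) =
    zz (bar H (K i)) * zz (bar H (K j)) * d) : ∀ x ∈ YA Oa K B, x * (zz (K i) * zz (K j)) =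
      zz (K i) * zz (K j) * x := by
  have hi := b.sub (b.mem i)
  have hj := b.sub (b.mem j)
  have mi : zz (K i) ∈ H := b.le i (b.cor.hyp.zz_mem hi)
  have mj : zz (K j) ∈ H := b.le j (b.cor.hyp.zz_mem hj)
  refine Blk.forall_sSup.2 fun L hL x hx => ?_
  obtain ⟨hLH, hLD⟩ := (mem_OmA_B b).1 hL
  have hxH : x ∈ H := hLH.2 hx
  have h1 := h _ (hLD (mem_bar (x := ⟨x, hxH⟩) hx))
  rw [zz_bar b.cor.hyp hi (b.le i), zz_bar b.cor.hyp hj (b.le j)] at h1
  have h2 : ⁅x, zz (K i) * zz (K j)⁆ ∈ OO H := by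
    refine commutator_mem_of_qm hxH (mul_mem mi mj) ?_
    exact h1
  have hc : ∀ k, ∀ z ∈ OO H, zz (K k) * z = z * zz (K k) := by
    intro k z hz
    have h3 : IsPGroup 2 (zpowers (zz (K k))) := by
      rintro ⟨_, i, rfl⟩
      refine ⟨1, Subtype.ext ?_⟩
      change ((zz (K k)) ^ i) ^ 2 ^ 1 = 1
      rw [← zpow_natCast, ← zpow_mul, mul_comm, zpow_mul, zpow_natCast, pow_one, pow_two,
        b.cor.hyp.zz_mul (b.sub (b.mem k)), one_zpow]
    have h4 := b.cor.cor (K k) (b.sub (b.mem k)) (b.le k) (zpowers (zz (K k)))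
      (by rw [zpowers_le]; exact b.cor.hyp.zz_mem (b.sub (b.mem k))) h3 (mem_zpowers _)
    exact ((mem_centralizer_iff.1 h4) z hz).symm
  refine CorOf.comm_of_odd (odd_OO H) h2 (fun z hz => ?_) (a := 1) ?_
  · rw [mul_assoc, hc j z hz, ← mul_assoc, hc i z hz, mul_assoc]
  · have h3 : Commute (zz (K i)) (zz (K j)) :=
      b.comm i j hij _ (b.cor.hyp.zz_mem hi) _ (b.cor.hyp.zz_mem hj)
    rw [pow_one, h3.mul_pow, pow_two, pow_two, b.cor.hyp.zz_mul hi, b.cor.hyp.zz_mul hj, mul_one]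

end Blk

/-- **the alternatives for a block with two members** -/
theorem alt_of_piece {i j : ι} (b : Blk Om H Oa K (PT Om H (K i)) B) (hij : i ≠ j) (hB : B = {i, j}) :
    (∀ x ∈ YA Oa K B, x * (zz (K i) * zz (K j)) = zz (K i) * zz (K j) * x) ∨ Red.ConG (OmA Oa K B) := by
  have hf := fb_hyp b.cor.hyp H
  have hiB : i ∈ B := by rw [hB]; simp
  have hjB : j ∈ B := by rw [hB]; simp
  have hi : bar H (K i) ∈ fb Om H := bar_mem (b.sub (b.mem i)) (b.le i)
  have hj : bar H (K j) ∈ fb Om H := bar_mem (b.sub (b.mem j)) (b.le j)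
  have li := (b.iff i).1 hiB
  have lj := (b.iff j).1 hjB
  have hcm : cm (bar H (K i)) (bar H (K j)) := b.bar_comm ⟨i, hiB⟩ ⟨j, hjB⟩ fun h => hij (congrArg Subtype.val h)
  have hne : bar H (K i) ≠ bar H (K j) := by
    intro e
    rw [e] at hcm
    exact hf.not_le_centralizer_self hj (cm_iff_le_centralizer.1 hcm)
  have hP : Cit.Piece (fb Om H) (PT Om H (K i)) := b.cor.pcs.piece hf hi
  have hnz : ¬ ∀ x ∈ PT Om H (K i), x * zz (bar H (K i)) = zz (bar H (K i)) * x := by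
    intro h4
    have h5 : PT Om H (K i) = bar H (K i) := Four.not_central hf b.cor.pcs.core hi h4
    rw [h5] at lj
    exact hne (hf.eq_of_le hj hi lj).symm
  cases hP with
  | single mem => exact absurd ((hf.eq_of_le hi mem li).trans (hf.eq_of_le hj mem lj).symm) hne
  | chart nmem qs two p c τ kind ok small sl zx =>
    have hcard : Fintype.card ↥B = 2 := by
      rw [Fintype.card_coe, hB, card_pair hij]
    rcases TwoAltCh.two_alt hf c kind ok zx hcard (K := fun i : ↥B => bar H (K i.1)) b.bar_mem_OmIn b.bar_comm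
      b.bar_max (i := ⟨i, hiB⟩) (j := ⟨j, hjB⟩) (fun h => hij (congrArg Subtype.val h)) with h1 | h1
    · exact Or.inl (comm_of_bar b hij h1)
    · exact Or.inr (conG_of_bar b h1)
  | exc qs two p prime odd iso ne zzc three =>
    left
    refine comm_of_bar b hij fun d hd => ?_
    exact (zzc _ hi _ hj li lj hne (cm_iff_le_centralizer.1 hcm) d hd).symm
  | mathieu qs two iso ne mem =>
    exact (ThreeTy.false_of_mathieu_two hf iso hi hj li lj hcm hnz).elim

/-- **`halt` of `four_KL`** -/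
theorem halt (h : LocB Om) (hK : ∀ i, K i ∈ Om) (hc : ∀ i j, i ≠ j → cm (K i) (K j))
    (hmax : ∀ L ∈ Om, ∃ i, ¬ cm L (K i)) (k i j : ι) (hij : i ≠ j)
    (hB : (data Om K hK hc).blk (univ.erase k) i = {i, j}) : TwoAlt Om K i j := by
  have hik : i ≠ k := by
    have h1 : i ∈ (data Om K hK hc).blk (univ.erase k) i := by rw [hB]; simp
    exact (mem_erase.1 ((data Om K hK hc).blk_subset _ _ h1)).1
  have b := LocB.blk h hK hc hmax hik
  have h2 := alt_of_piece b hij hB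
  rw [hB] at h2
  exact h2

end Cfsg.Agent.Cit.FourAlt
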