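import Cfsg.Agent.Cit.GenPiece
import Cfsg.Agent.Cit.GenChartQ
import Cfsg.Agent.Cit.FixComp
import Cfsg.Agent.Cit.CoresH

/-!
# GenB: the pieces are generated by the centralisers of four-groups, in the form needed for the cores

`genB` : `O(X) = 1`, `HasPieces Om`, `K ∈ Om`, `a`, `b` commuting elements of order at most two centralising `K`; then
the piece of `K` is contained in the subgroup generated by the `C(c) ⊓ C(O(C(c)))`, `c = a, b, a b`.
-/

set_option autoImplicit false
set_option linter.unusedSectionVars false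
set_option linter.dupNamespace false
set_option linter.style.haveILetI false

namespace Cfsg.Agent.Cit.GenB

open Subgroup Cfsg Cfsg.Agent.Cit Cfsg.Agent.Cit.GenChart Cfsg.Agent.Cit.CT Cfsg.Agent.Cit.Comp
open Cfsg.Agent.SignalizersComponents.Components
open scoped commutatorElement

universe u

section

variable {G : Type u} [Group G] [Finite G] {Om : Set (Subgroup G)} {D K : Subgroup G}

/-- `O(C(b))` centralises the components of even order contained in `C(b)` -/
theorem XX_le_centralizer_of_two_dvd {L : Subgroup G} (hL : IsComponent L) (h2 : 2 ∣ Nat.card L) {b : G}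
    (hLb : L ≤ centralizer {b}) : XX b ≤ centralizer (L : Set G) := by
  haveI : Fact (Nat.Prime 2) := ⟨Nat.prime_two⟩
  have hn : (pPrimeCore 2 (centralizer ({b} : Set G))).Normal := Lib.Cores.pPrimeCore_normal 2
  rcases component_le_or_commutator_eq_bot (isComponent_subgroupOf hLb hL) hn.isSubnormal with h1 | h1
  · exfalso
    have h2' := Subgroup.map_mono (f := (centralizer ({b} : Set G)).subtype) h1
    rw [map_subgroupOf_eq_of_le hLb] at h2'
    exact odd_XX b (h2.trans (card_dvd_of_le h2'))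
  · have h2' := congrArg (Subgroup.map (centralizer ({b} : Set G)).subtype) h1
    rw [map_commutator, map_subgroupOf_eq_of_le hLb, Subgroup.map_bot, commutator_comm,
      commutator_eq_bot_iff_le_centralizer] at h2'
    exact h2'

/-- a component of even order centralised by a member of `B` -/
theorem le_GB_of_two_dvd {L : Subgroup G} (hL : IsComponent L) (h2 : 2 ∣ Nat.card L) {B : Set G} {b : G}
    (hb : b ∈ B) (hLb : L ≤ centralizer {b}) : L ≤ GB B :=
  le_trans (le_inf hLb (le_centralizer_iff.1 (XX_le_centralizer_of_two_dvd hL h2 hLb))) (le_GB hb)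

theorem two_dvd (hOm : Hyp Om) (hK : K ∈ Om) {L : Subgroup G} (hKL : K ≤ L) : 2 ∣ Nat.card L := by
  have h1 := hOm.orderOf_zz hK
  have h2 : orderOf (⟨zz K, hKL (hOm.zz_mem hK)⟩ : L) ∣ Nat.card L := orderOf_dvd_natCard _
  rwa [Subgroup.orderOf_mk, h1] at h2

/-- the normal quaternion subgroup of `SL₂(3)` -/
def Q8 : Subgroup SolvTwo.X where
  carrier := {x | x * x = SolvTwo.zX ∨ x = 1 ∨ x = SolvTwo.zX}
  mul_mem' := by
    have h : ∀ a b : SolvTwo.X, (a * a = SolvTwo.zX ∨ a = 1 ∨ a = SolvTwo.zX) →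
        (b * b = SolvTwo.zX ∨ b = 1 ∨ b = SolvTwo.zX) →
        (a * b * (a * b) = SolvTwo.zX ∨ a * b = 1 ∨ a * b = SolvTwo.zX) := by
      decide +kernel
    exact fun {a b} ha hb => h a b ha hb
  one_mem' := Or.inr (Or.inl rfl)
  inv_mem' := by
    have h : ∀ a : SolvTwo.X, (a * a = SolvTwo.zX ∨ a = 1 ∨ a = SolvTwo.zX) →
        (a⁻¹ * a⁻¹ = SolvTwo.zX ∨ a⁻¹ = 1 ∨ a⁻¹ = SolvTwo.zX) := by
      decide +kernel
    exact fun {a} ha => h a ha

theorem mem_Q8 {x : SolvTwo.X} : x ∈ Q8 ↔ x * x = SolvTwo.zX ∨ x = 1 ∨ x = SolvTwo.zX := Iff.rfl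

theorem Q8_normal : Q8.Normal := by
  refine ⟨fun n hn g => ?_⟩
  have h1 : g * SolvTwo.zX = SolvTwo.zX * g := by
    have h : ∀ g : SolvTwo.X, g * SolvTwo.zX = SolvTwo.zX * g := by decide +kernel
    exact h g
  rw [mem_Q8] at hn ⊢
  rcases hn with h | h | h
  · left
    calc g * n * g⁻¹ * (g * n * g⁻¹) = g * (n * n) * g⁻¹ := by group
      _ = SolvTwo.zX := by rw [h, h1, mul_inv_cancel_right]
  · right; left
    rw [h]; group
  · right; right
    rw [h, h1, mul_inv_cancel_right]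

theorem Q8_pow {x : SolvTwo.X} (hx : x ∈ Q8) : x ^ 2 ^ 2 = 1 := by
  have hz : SolvTwo.zX * SolvTwo.zX = 1 := SolvTwo.X_rel.2.2.2.2.1
  have e : x ^ 2 ^ 2 = x * x * (x * x) := by
    rw [show (2 : ℕ) ^ 2 = 4 from rfl]
    simp only [pow_succ, pow_zero, one_mul, mul_assoc]
  rw [e]
  rcases mem_Q8.1 hx with h | h | h
  · rw [h, hz]
  · rw [h]; group
  · rw [h, hz, one_mul]

/-- the elements of order four of a subnormal `K ≃ SL₂(3)` lie in `O_2(G)` -/
theorem mem_pCore_of_equiv {K : Subgroup G} (e : K ≃* SolvTwo.X) (hsn : K.IsSubnormal) {q : G} (hq : q ∈ K)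
    (h : e ⟨q, hq⟩ * e ⟨q, hq⟩ = SolvTwo.zX) : q ∈ pCore 2 G := by
  have hn : (Q8.comap e.toMonoidHom).Normal := Q8_normal.comap _
  have hp : IsPGroup 2 ((Q8.comap e.toMonoidHom).map K.subtype) := by
    rintro ⟨y, x, hx, rfl⟩
    refine ⟨2, Subtype.ext ?_⟩
    have h1 := Q8_pow (x := e x) hx
    have h2 : x ^ 2 ^ 2 = 1 := by
      apply e.injective
      rw [map_pow, h1, map_one]
    have h3 : (x : G) ^ 2 ^ 2 = 1 := congrArg Subtype.val h2
    exact h3
  have h1 := SignalizersComponents.CompBasic.subnormal_pGroup_le_pCore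
    (Subgroup.IsSubnormal.trans' hn.isSubnormal hsn) hp
  refine h1 ⟨⟨q, hq⟩, ?_, rfl⟩
  exact Or.inl h

/-- the case of a piece of type `SL₂(3)` -/
theorem XX_le_centralizer_of_isT (hOm : Hyp Om) (hK : K ∈ Om) (hT : SolvTwo.IsT K) (hO : OO K = ⊥)
    (hsn : K.IsSubnormal) {b : G} (hbb : b * b = 1) : XX b ≤ centralizer (K : Set G) := by
  haveI : Fact (Nat.Prime 2) := ⟨Nat.prime_two⟩
  have h3 := SolvTwo.T3_of_isT hOm hK hT hO
  -- the elements of order four of `K` lie in `O_2(G)`
  have hQ : ∀ q ∈ K, q * q = zz K → q ∈ pCore 2 G := by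
    intro q hq hqq
    obtain ⟨e⟩ := hT
    have h1 : oddCore K = ⊥ := by
      rw [OO, Subgroup.map_eq_bot_iff, ker_subtype] at hO
      exact le_bot_iff.1 hO
    have e1 : K ≃* SolvTwo.X :=
      (QuotientGroup.quotientBot.symm.trans (QuotientGroup.quotientMulEquivOfEq h1.symm)).trans e
    refine mem_pCore_of_equiv e1 hsn hq ?_
    -- `e (zz K) = -1`
    have hz : ∀ x : SolvTwo.X, x * x = 1 → x = 1 ∨ x = SolvTwo.zX := by decide +kernel
    have h2 : (⟨q, hq⟩ : K) * ⟨q, hq⟩ = ⟨zz K, hOm.zz_mem hK⟩ := Subtype.ext hqq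
    rw [← map_mul, h2]
    have h4 : (⟨zz K, hOm.zz_mem hK⟩ : K) * ⟨zz K, hOm.zz_mem hK⟩ = 1 := Subtype.ext (hOm.zz_mul hK)
    rcases hz (e1 ⟨zz K, hOm.zz_mem hK⟩) (by rw [← map_mul, h4, map_one]) with h5 | h5
    · exfalso
      apply hOm.zz_ne hK
      have h6 := e1.injective (h5.trans (map_one e1).symm)
      exact congrArg Subtype.val h6
    · exact h5
  have hcen := XX_le_centralizer_pCore (G := G) hbb
  intro x hx
  have hxQ : ∀ q ∈ K, q * q = zz K → x * q = q * x := fun q hq hqq =>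
    (mem_centralizer_iff.1 (hcen hx) q (hQ q hq hqq)).symm
  obtain ⟨i, hi, j, hj, hii, hjj, hij⟩ := h3.ex4
  have hxz : x * zz K = zz K * x := by
    have h4 : Commute x i := hxQ i hi hii
    rw [← hii]
    exact (h4.mul_right h4).eq
  -- `x` normalises `K`
  have hxK : x ∈ normalizer (K : Set G) := by
    rw [mem_normalizer_iff_cj]
    rcases hOm.h2 K hK _ (hOm.conj K hK x) (by rw [hOm.zz_cj hK, hxz, mul_inv_cancel_right]) with h1 | h1
    · exact h1.symm
    · exfalso
      rw [hO, bot_inf_eq, le_bot_iff, commutator_eq_bot_iff_le_centralizer] at h1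
      apply hij
      have h2 : j ∈ cj x K := by
        have h4 : j = x * j * x⁻¹ := by rw [hxQ j hj hjj, mul_inv_cancel_right]
        rw [h4]
        exact conj_mem_cj hj
      exact (mem_centralizer_iff.1 (h1 hi) j h2).symm
  rw [mem_centralizer_iff]
  intro k hk
  exact (h3.comm (fun k hk => mem_centralizer_singleton_iff.1 (hOm.le_centralizer hK hk)) hxK hxQ k hk).symm

/-- two elements of `K` of order four which do not commute -/
theorem exists_noncomm (hOm : Hyp Om) (hK : K ∈ Om) : ∃ q ∈ K, ∃ l ∈ K, q * l ≠ l * q ∧ IsPGroup 2 (zpowers q) := by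
  obtain ⟨Q, hQ⟩ := Hyp.exists_syl K
  obtain ⟨c, v, n, hq⟩ := hOm.exists_gq hK hQ
  exact ⟨v, hQ.1 hq.v_mem, c, hQ.1 hq.c_mem, fun h => hq.not_comm h, hQ.2.1.to_le (zpowers_le.2 hq.v_mem)⟩

/-- **GenB** -/
theorem genB (hE : ExcTrip.{u}) (hOm : Hyp Om) (hty : ∀ J ∈ Om, Ty J) (hp : HasPieces Om) (hK : K ∈ Om)
    {a b : G} (haa : a * a = 1) (hbb : b * b = 1) (hab : a * b = b * a)
    (ha : a ∈ centralizer (K : Set G)) (hb : b ∈ centralizer (K : Set G)) :
    pc Om K ≤ GB {a, b, a * b} := by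
  haveI : Fact (Nat.Prime 2) := ⟨Nat.prime_two⟩
  have hab2 : a * b * (a * b) = 1 := by
    calc a * b * (a * b) = a * (b * a) * b := by group
      _ = (a * a) * (b * b) := by rw [← hab]; group
      _ = 1 := by rw [haa, hbb, one_mul]
  have hsub := CoresH.pc_isSubnormal hOm hK
  have hKD : K ≤ pc Om K := le_pc
  have hmemB : a ∈ ({a, b, a * b} : Set G) ∧ b ∈ ({a, b, a * b} : Set G) ∧ a * b ∈ ({a, b, a * b} : Set G) :=
    ⟨Or.inl rfl, Or.inr (Or.inl rfl), Or.inr (Or.inr rfl)⟩
  have hnorm : ∀ c ∈ centralizer (K : Set G), c ∈ normalizer (pc Om K : Set G) := by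
    intro c hc
    rw [mem_normalizer_iff_cj, cj_pc hOm.conj, mem_normalizer_iff_cj.1 (centralizer_le_normalizer _ hc)]
  -- pieces with (F3)
  have htrip : IsQuasisimple (pc Om K) → Trip (pc Om K) K → pc Om K ≤ GB {a, b, a * b} := by
    intro qs ht
    have hcomp : IsComponent (pc Om K) := ⟨hsub, qs⟩
    have h2 := two_dvd hOm hK hKD
    rcases ht a haa (hnorm a ha) ha with h1 | h1
    · exact le_GB_of_two_dvd hcomp h2 hmemB.1 h1
    rcases ht b hbb (hnorm b hb) hb with h3 | h3
    · exact le_GB_of_two_dvd hcomp h2 hmemB.2.1 h3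
    refine le_GB_of_two_dvd hcomp h2 hmemB.2.2 fun d hd => ?_
    have hz := hOm.zz_mem hK
    have e1 := mem_centralizer_singleton_iff.1 (h1 hd)
    have e2 := mem_centralizer_singleton_iff.1 (h3 hd)
    rw [mem_centralizer_singleton_iff]
    have hbi : b⁻¹ = b := inv_eq_of_mul_eq_one_right hbb
    have e3 : a * b = (a * zz K) * (b * zz K)⁻¹ := by
      rw [mul_inv_rev, hbi]
      group
    have e4 : Commute d (a * zz K) := e1
    have e5 : Commute d (b * zz K) := e2
    rw [e3]
    exact (e4.mul_right e5.inv_right).eq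
  by_cases hKO : pc Om K ∈ Om
  · -- a single member
    have hDK : pc Om K = K := (hOm.eq_of_le hK hKO hKD).symm
    rw [hDK] at hsub ⊢
    have hKa : K ≤ centralizer {a} := by
      intro k hk
      rw [mem_centralizer_singleton_iff]
      exact mem_centralizer_iff.1 ha k hk
    by_cases hT : SolvTwo.IsT K
    · refine le_trans (le_inf hKa ?_) (le_GB hmemB.1)
      exact le_centralizer_iff.1 (XX_le_centralizer_of_isT hOm hK hT (hp.core K hK) hsub haa)
    · have hcomp : IsComponent K := ⟨hsub, CoresComm.quasisimple_of_not_isT (hty K hK) hT (hp.core K hK)⟩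
      exact le_GB_of_two_dvd hcomp (two_dvd hOm hK le_rfl) hmemB.1 hKa
  · rcases hp.piece hOm hK with hm | ⟨nmem, qs, two, p, c, _⟩ | ⟨qs, two, p, prime, odd, iso, ne, zzc, three⟩ |
      ⟨qs, two, iso, ne, mem⟩
    · exact absurd hm hKO
    · have hF := fixP_of_chart c qs two
      haveI : Fact p.Prime := ⟨c.prime⟩
      have hcomp : IsComponent (pc Om K) := ⟨hsub, qs⟩
      obtain ⟨q, hq, l, hl, hql, hq2⟩ := exists_noncomm hOm hK
      have key : ∀ c' : G, c' * c' = 1 → c' ∈ centralizer (K : Set G) → c' ∈ ({a, b, a * b} : Set G) →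
          PC p (pc Om K) c' (GB {a, b, a * b}) := by
        intro c' hcc hcK hcB v hv hvp hvc
        have hqc : q * c' = c' * q := mem_centralizer_iff.1 hcK q hq
        have hXn := XX_le_normalizer hcomp (hKD hq) (hKD hl) hql hqc hq2
        refine le_GB hcB (mem_inf.2 ⟨mem_centralizer_singleton_iff.2 hvc, ?_⟩)
        rw [mem_centralizer_iff]
        intro x hx
        exact (hF.comm hcc (hnorm c' hcK) hx (hXn hx) hv hvc hvp).symm
      exact genQ_of_chart c qs hK hKD a b haa hbb hab (hnorm a ha) (hnorm b hb) ha hb _ (key a haa ha hmemB.1)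
        (key b hbb hb hmemB.2.1) (key _ hab2 (mul_mem ha hb) hmemB.2.2)
    · exact htrip qs (hE G Om (pc Om K) K hOm hty hp.core qs two (Or.inl ⟨p, prime, odd, iso⟩) hK hKD)
    · exact htrip qs (hE G Om (pc Om K) K hOm hty hp.core qs two (Or.inr iso) hK hKD)

end

end Cfsg.Agent.Cit.GenB
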