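import Cfsg.Agent.Nodes.ClsNorm
import Cfsg.Agent.Nodes.NormX
import Cfsg.Agent.Nodes.Chart
import Cfsg.Agent.Lib.KleinGen
import Cfsg.Agent.Lib.ComponentSolvable
import Cfsg.Agent.Lib.Cores
import Cfsg.Agent.Cit.Defs

/-!
# GEN: generation of a chart group by the centralisers of a four-group centralising a member

`GenP D K` : `a`, `b` commuting elements of order at most two, normalising `D` and centralising `K`; then `D` is
contained in every subgroup containing `C_D(a)`, `C_D(b)`, `C_D(a b)`.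

* `gen_of_chart` : `GenP L K` for a chart of the quasisimple group `L` and every member `K ≤ L`.

Proof. `K = ⟨Z, Z⁻⟩`, `V = O_p(N_L(Z))` and `V⁻ = O_p(N_L(Z⁻))` are normalised by `a`, `b`, so they are generated
by the centralisers (coprime action); `⟨V, V⁻⟩` is normalised by the Levi subgroup and the two unipotent radicals, so
by `L`.
-/

set_option autoImplicit false
set_option linter.unusedSectionVars false
set_option linter.dupNamespace false
set_option linter.style.haveILetI false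

namespace Cfsg.Agent.Cit.GenChart

open Subgroup Cfsg

/-! ### `O_p` of a subgroup -/

section Op

variable {G : Type*} [Group G] {p : ℕ}

/-- `O_p(N)` as a subgroup of `G` -/
def Op (p : ℕ) (N : Subgroup G) : Subgroup G := (pCore p N).map N.subtype

theorem Op_le (N : Subgroup G) : Op p N ≤ N := map_subtype_le _

theorem Op_isPGroup (N : Subgroup G) : IsPGroup p (Op p N) := (Lib.Cores.pCore_isPGroup p).map _

theorem le_Op {V N : Subgroup G} (hV : V ≤ N) (hn : N ≤ normalizer (V : Set G)) (hp : IsPGroup p V) :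
    V ≤ Op p N := by
  have h1 : (V.subgroupOf N).Normal := (normal_subgroupOf_iff_le_normalizer hV).2 hn
  have h2 : V.subgroupOf N ≤ pCore p N := by
    refine Lib.Cores.le_pCore h1 ?_
    exact hp.of_equiv (subgroupOfEquivOfLe hV).symm
  rw [← map_subgroupOf_eq_of_le hV]
  exact Subgroup.map_mono h2

theorem Op_cj (g : G) (N : Subgroup G) : Op p (cj g N) = cj g (Op p N) := by
  rw [Op, Op, ← Lib.Cores.map_equiv_pCore (cjEquiv g N), Subgroup.map_map]
  ext x
  rw [mem_cj]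
  constructor
  · rintro ⟨y, hy, rfl⟩
    refine ⟨y, hy, ?_⟩
    simp [mul_assoc]
  · rintro ⟨y, hy, hyx⟩
    refine ⟨y, hy, ?_⟩
    simp only [coe_subtype] at hyx
    simp [hyx, mul_assoc]

theorem normalizer_le_Op (N : Subgroup G) : normalizer (N : Set G) ≤ normalizer (Op p N : Set G) := by
  intro g hg
  rw [mem_normalizer_iff_cj, ← Op_cj, mem_normalizer_iff_cj.1 hg]

theorem odd_of_isPGroup [Finite G] (hp : p.Prime) (hp2 : p ≠ 2) {V : Subgroup G} (hV : IsPGroup p V) :
    Odd (Nat.card V) := by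
  haveI : Fact p.Prime := ⟨hp⟩
  obtain ⟨k, hk⟩ := IsPGroup.iff_card.1 hV
  rw [hk]
  exact (hp.odd_of_ne_two hp2).pow

end Op

/-! ### The abstract argument -/

section Abs

variable {G : Type*} [Group G]

/-- see the head of the file -/
def GenP (D K : Subgroup G) : Prop :=
  ∀ a b : G, a * a = 1 → b * b = 1 → a * b = b * a → a ∈ normalizer (D : Set G) → b ∈ normalizer (D : Set G) →
    a ∈ centralizer (K : Set G) → b ∈ centralizer (K : Set G) → ∀ N : Subgroup G,
    D ⊓ centralizer {a} ≤ N → D ⊓ centralizer {b} ≤ N → D ⊓ centralizer {a * b} ≤ N → D ≤ N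

theorem GenP.mono {D K K' : Subgroup G} (h : GenP D K) (hK : K ≤ K') : GenP D K' :=
  fun a b ha hb hab h1 h2 h3 h4 N n1 n2 n3 =>
    h a b ha hb hab h1 h2 (centralizer_le hK h3) (centralizer_le hK h4) N n1 n2 n3

theorem conj_sq {g a : G} (ha : a * a = 1) : g⁻¹ * a * g * (g⁻¹ * a * g) = 1 := by
  calc g⁻¹ * a * g * (g⁻¹ * a * g) = g⁻¹ * (a * a) * g := by group
    _ = 1 := by rw [ha]; group

theorem conj_mem_centralizer_set {g a : G} {K : Subgroup G} (h : a ∈ centralizer ((cj g K : Subgroup G) : Set G)) :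
    g⁻¹ * a * g ∈ centralizer (K : Set G) := by
  rw [mem_centralizer_iff] at h ⊢
  intro k hk
  have h1 := h (g * k * g⁻¹) (conj_mem_cj hk)
  calc k * (g⁻¹ * a * g) = g⁻¹ * ((g * k * g⁻¹) * a) * g := by group
    _ = g⁻¹ * (a * (g * k * g⁻¹)) * g := by rw [h1]
    _ = _ := by group

theorem conj_mem_normalizer_set {g a : G} {D : Subgroup G} (h : a ∈ normalizer ((cj g D : Subgroup G) : Set G)) :
    g⁻¹ * a * g ∈ normalizer (D : Set G) := by
  rw [mem_normalizer_iff_cj] at h ⊢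
  rw [cj_mul, cj_mul, h, cj_inv_cj]

theorem inf_cent_le {g a : G} {D N : Subgroup G} (h : cj g D ⊓ centralizer {a} ≤ N) :
    D ⊓ centralizer {g⁻¹ * a * g} ≤ cj g⁻¹ N := by
  intro x hx
  rw [mem_cj, inv_inv]
  apply h
  rw [mem_inf, mem_cj, mem_centralizer_singleton_iff]
  obtain ⟨h1, h2⟩ := mem_inf.1 hx
  rw [mem_centralizer_singleton_iff] at h2
  refine ⟨?_, ?_⟩
  · have : g⁻¹ * (g * x * g⁻¹) * g = x := by group
    rwa [this]
  · calc g * x * g⁻¹ * a = g * (x * (g⁻¹ * a * g)) * g⁻¹ := by group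
      _ = g * ((g⁻¹ * a * g) * x) * g⁻¹ := by rw [h2]
      _ = _ := by group

theorem GenP.cj {D K : Subgroup G} (h : GenP D K) (g : G) : GenP (cj g D) (cj g K) := by
  intro a b ha hb hab h1 h2 h3 h4 N n1 n2 n3
  have e : g⁻¹ * (a * b) * g = g⁻¹ * a * g * (g⁻¹ * b * g) := by group
  have key := h (g⁻¹ * a * g) (g⁻¹ * b * g) (conj_sq ha) (conj_sq hb)
    (by rw [← e, hab]; group) (conj_mem_normalizer_set h1) (conj_mem_normalizer_set h2)
    (conj_mem_centralizer_set h3) (conj_mem_centralizer_set h4) (Cit.cj g⁻¹ N) (inf_cent_le n1) (inf_cent_le n2)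
    (by rw [← e]; exact inf_cent_le n3)
  have := cj_mono g key
  rwa [cj_cj_inv] at this

/-- the abstract argument -/
theorem gen_of_opp [Finite G] {p : ℕ} (hp : p.Prime) (hp2 : p ≠ 2) {D : Subgroup G} (hD : IsQuasisimple D)
    {Z Z' V V' L : Subgroup G} (hZ : Z ≤ D) (hZp : IsPGroup p Z) (hZc : ¬ D ≤ centralizer (Z : Set G))
    (hV : V ≤ Op p (normalizer (Z : Set G) ⊓ D)) (hV' : V' ≤ Op p (normalizer (Z' : Set G) ⊓ D))
    (hL : L ≤ normalizer (Z : Set G) ⊓ D) (hL' : L ≤ normalizer (Z' : Set G)) (hgen : D ≤ L ⊔ V ⊔ V') :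
    GenP D (Z ⊔ Z') := by
  intro a b ha hb hab haD hbD haK hbK N n1 n2 n3
  -- the invariance of the two `p`-groups
  have key : ∀ c : G, c ∈ normalizer (D : Set G) → c ∈ centralizer ((Z ⊔ Z' : Subgroup G) : Set G) →
      ∀ Y : Subgroup G, Y ≤ Z ⊔ Z' → c ∈ normalizer (Op p (normalizer (Y : Set G) ⊓ D) : Set G) := by
    intro c hcD hcK Y hY
    apply normalizer_le_Op
    have h1 : cj c Y = Y := by
      rw [← mem_normalizer_iff_cj]
      exact centralizer_le_normalizer _ (centralizer_le hY hcK)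
    rw [mem_normalizer_iff_cj, cj_inf, mem_normalizer_iff_cj.1 hcD]
    congr 1
    ext x
    rw [mem_cj, mem_normalizer_iff_cj, mem_normalizer_iff_cj]
    have h2 : cj c⁻¹ Y = Y := by
      conv_lhs => rw [← h1]
      rw [cj_inv_cj]
    rw [cj_mul, cj_mul, h1]
    constructor
    · intro h3
      have h4 := congrArg (cj c) h3
      rwa [cj_cj_inv, h1] at h4
    · intro h3
      rw [h3, h2]
  have hle : ∀ Y : Subgroup G, Y ≤ Z ⊔ Z' → Op p (normalizer (Y : Set G) ⊓ D) ≤ N := by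
    intro Y hY
    have hYD : Op p (normalizer (Y : Set G) ⊓ D) ≤ D := (Op_le _).trans inf_le_right
    exact Lib.KleinGen.le_of_klein _ N (odd_of_isPGroup hp hp2 (Op_isPGroup _)) a b ha hb hab
      (fun h hh => (mem_normalizer_iff.1 (key a haD haK Y hY) h).1 hh)
      (fun h hh => (mem_normalizer_iff.1 (key b hbD hbK Y hY) h).1 hh)
      ((inf_le_inf_right _ hYD).trans n1) ((inf_le_inf_right _ hYD).trans n2) ((inf_le_inf_right _ hYD).trans n3)
  obtain ⟨D0, hD0⟩ : ∃ D0, D0 = Op p (normalizer (Z : Set G) ⊓ D) ⊔ Op p (normalizer (Z' : Set G) ⊓ D) := ⟨_, rfl⟩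
  have hD0N : D0 ≤ N := by rw [hD0]; exact sup_le (hle Z le_sup_left) (hle Z' le_sup_right)
  have hD0D : D0 ≤ D := by
    rw [hD0]
    exact sup_le ((Op_le _).trans inf_le_right) ((Op_le _).trans inf_le_right)
  have hZ0 : Z ≤ D0 := by
    rw [hD0]
    refine le_trans (le_Op (le_inf le_normalizer hZ) ?_ hZp) le_sup_left
    exact inf_le_left
  -- `D0` is normalised by `D`
  have hn : D ≤ normalizer (D0 : Set G) := by
    refine hgen.trans (sup_le (sup_le ?_ ?_) ?_)
    · intro l hl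
      have h1 : l ∈ normalizer (Op p (normalizer (Z : Set G) ⊓ D) : Set G) :=
        normalizer_le_Op _ (le_normalizer (hL hl))
      have h2 : l ∈ normalizer (Op p (normalizer (Z' : Set G) ⊓ D) : Set G) :=
        normalizer_le_Op _ (le_normalizer (mem_inf.2 ⟨hL' hl, (hL hl).2⟩))
      rw [mem_normalizer_iff_cj, hD0, cj_sup, mem_normalizer_iff_cj.1 h1, mem_normalizer_iff_cj.1 h2]
    · refine (hV.trans ?_).trans (le_normalizer (H := D0))
      rw [hD0]; exact le_sup_left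
    · refine (hV'.trans ?_).trans (le_normalizer (H := D0))
      rw [hD0]; exact le_sup_right
  have hnorm : (D0.subgroupOf D).Normal := (normal_subgroupOf_iff_le_normalizer hD0D).2 hn
  rcases Lib.ComponentSolvable.quasisimple_normal_cases hD hnorm with h1 | h1
  · exact ((subgroupOf_eq_top.1 h1)).trans hD0N
  · exfalso
    apply hZc
    intro d hd
    rw [mem_centralizer_iff]
    intro z hz
    have h2 : (⟨z, hZ hz⟩ : D) ∈ center D := h1 (mem_subgroupOf.2 (hZ0 hz))
    have h3 := mem_center_iff.1 h2 ⟨d, hd⟩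
    have h4 := congrArg Subtype.val h3
    exact h4.symm

end Abs

/-! ### Charts -/

section Chart

open CoxeterSystem Cfsg.Agent.ChevalleyStructure.CoxeterGeom Cfsg.Agent.Tits.Roots Cfsg.Agent.Tits.Core
  Cfsg.Agent.Tits.RootComb Cfsg.Agent.Tits.Exchange Cfsg.Agent.Nodes.Comb
  Cfsg.Agent.Nodes.BNOf Cfsg.Agent.Nodes.RGDLib Cfsg.Agent.Nodes.Chart Cfsg.Agent.Nodes.StabComb
  Cfsg.Agent.Nodes.Bruhat Cfsg.Agent.Nodes.LeviDec Cfsg.Agent.Nodes.ClsNorm

variable {I W Y : Type*} [Fintype I] [DecidableEq I] [Group W] [Fintype W] [Group Y] {M : CoxeterMatrix I}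
  {cs : CoxeterSystem M W} {A : I → I → ℤ} {h : IsCartan M A} {p : ℕ} {T : Subgroup Y} {n : I → Y}
  {X : (I → ℤ) → Subgroup Y} {R : Set (I → ℤ)} {Z : (I → ℤ) → Subgroup Y} {z : (I → ℤ) → Y}

theorem rcj_eq (g : Y) (K : Subgroup Y) : Cfsg.Agent.Nodes.Reps.cj g K = Cit.cj g K := rfl

/-- a representative of the reflection of `r` -/
theorem exists_rp_neg (C : Cls cs h p T n X R Z z) {r : I → ℤ} (hr : r ∈ R) :
    ∃ w : W, rep cs h w r = -r ∧ w⁻¹ = w := by
  obtain ⟨w, i, rfl⟩ := C.root r hr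
  refine ⟨w * cs.simple i * w⁻¹, ?_, ?_⟩
  · rw [rep_mul_apply, rep_mul_apply, rep_inv_apply, rep_simple_sr, map_neg]
  · rw [mul_inv_rev, mul_inv_rev, inv_inv, cs.inv_simple, mul_assoc]

/-- **GEN in standard position** -/
theorem gen_dom [Finite Y] (hp : p.Prime) (hp2 : p ≠ 2) (C : Cls cs h p T n X R Z z) {L : Subgroup Y}
    (hL : GG cs h T X = L) (hq : IsQuasisimple L) {r : I → ℤ} (hr : r ∈ R) (hd : Dom A r) :
    GenP L (Z r ⊔ Z (-r)) := by
  obtain ⟨w, hw, hwi⟩ := exists_rp_neg C hr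
  obtain ⟨k, hk⟩ := Cfsg.Agent.Nodes.Reps.exists_rp cs C.rgd.nsys w
  have hkL : k ∈ GG cs h T X := NN_le_GG C.rgd ⟨_, hk⟩
  have hZk : Cit.cj k (Z r) = Z (-r) := by
    rw [← rcj_eq, conj_Z C hk hr, hw]
  have hXp : ∀ x, IsRoot cs h x → IsPGroup p ↥(X x) := fun x hx => C.rgd.pgrp' hx
  have hVp : IsPGroup p (VJ cs h X (orth cs h r)) := (C.rgd.isPGroup_Upos).to_le (VJ_le_U _)
  have hV : VJ cs h X (orth cs h r) ≤ Op p (normalizer (Z r : Set Y) ⊓ L) := by
    rw [← hL, normalizer_inf_GG C hr hd]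
    exact le_Op VJ_le_PJ (PJ_le_normalizer_VJ C.rgd _) hVp
  have hNk : normalizer (Z (-r) : Set Y) ⊓ L = Cit.cj k (normalizer (Z r : Set Y) ⊓ L) := by
    rw [cj_inf, ← hZk, ← rcj_eq, ← rcj_eq, ← rcj_eq, Cfsg.Agent.Nodes.NormX.normalizer_cj, ← hL,
      Cfsg.Agent.Nodes.Reps.cj_eq_of_mem hkL]
  refine gen_of_opp hp hp2 hq (V := VJ cs h X (orth cs h r)) (V' := Cit.cj k (VJ cs h X (orth cs h r)))
    (L := LJ cs h T X (orth cs h r)) ?_ ((hXp r (C.root r hr)).to_le (C.le r hr)) ?_ hV ?_ ?_ ?_ ?_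
  · rw [← hL]
    exact (C.le r hr).trans (X_le_GG (C.root r hr))
  · -- `Z r` is not central
    intro h1
    have h2 : Z (-r) ≤ centralizer (Z r : Set Y) := by
      refine le_trans ?_ h1
      rw [← hL]
      exact (C.le _ (neg_mem C hr)).trans (X_le_GG (C.root _ (neg_mem C hr)))
    apply C.notp r hr
    have h3 : IsPGroup p ↥(Z (-r)) := (hXp (-r) (C.root _ (neg_mem C hr))).to_le (C.le _ (neg_mem C hr))
    exact ((hXp r (C.root r hr)).to_le (C.le r hr)).to_sup_of_normal_left' h3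
      (h2.trans (centralizer_le_normalizer' _))
  · rw [hNk, Op_cj]
    exact cj_mono k hV
  · refine le_inf ((LJ_le_normalizer C hr hd).trans inf_le_left) ?_
    rw [← hL]
    exact LJ_le_GG
  · exact (LJ_le_normalizer C hr hd).trans inf_le_right
  · rw [← hL]
    refine sup_le (T_le_LJ.trans (le_sup_left.trans le_sup_left)) (RGD.Sup_le fun x hx => ?_)
    have hx' : IsRoot cs h x := hx
    rcases lt_trichotomy (form cs h x r) 0 with h1 | h1 | h1
    · refine le_trans ?_ le_sup_right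
      have h2 : rep cs h w x ∈ NotJ cs h (orth cs h r) := by
        rw [mem_NotJ_orth_iff hd (hx'.act w)]
        have h3 : form cs h (rep cs h w x) r = form cs h x (rep cs h w r) := by
          conv_lhs => rw [form_rep_left, hwi]
        rw [h3, hw, form_neg_right]
        omega
      have h4 : X x = Cit.cj k (X (rep cs h w x)) := by
        rw [← rcj_eq, C.rgd.conj_rp hk (hx'.act w), ← rep_mul_apply]
        have h5 : w * w = 1 := by nth_rewrite 1 [← hwi]; exact inv_mul_cancel w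
        rw [h5, map_one, Module.End.one_apply]
      rw [h4]
      exact cj_mono k (RGD.le_Sup h2)
    · refine le_trans ?_ (le_sup_left.trans le_sup_left)
      exact X_le_LJ ((mem_RootsJ_orth_iff hd hx').2 h1)
    · refine le_trans ?_ (le_sup_right.trans le_sup_left)
      exact RGD.le_Sup ((mem_NotJ_orth_iff hd hx').2 h1)

/-- the case of an arbitrary classical root -/
theorem gen_root [Finite Y] (hp : p.Prime) (hp2 : p ≠ 2) (C : Cls cs h p T n X R Z z) {L : Subgroup Y}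
    (hL : GG cs h T X = L) (hq : IsQuasisimple L) {r : I → ℤ} (hr : r ∈ R) :
    GenP L (Z r ⊔ Z (-r)) := by
  obtain ⟨w, hw⟩ := exists_dominant (cs := cs) (h := h) r
  obtain ⟨k, hk⟩ := Cfsg.Agent.Nodes.Reps.exists_rp cs C.rgd.nsys w
  have hkL : k ∈ GG cs h T X := NN_le_GG C.rgd ⟨_, hk⟩
  have h1 := (gen_dom hp hp2 C hL hq (C.act r hr w) hw).cj k⁻¹
  have h2 : Cit.cj k⁻¹ L = L := by
    rw [← rcj_eq, ← hL]
    exact Cfsg.Agent.Nodes.Reps.cj_eq_of_mem (inv_mem hkL)
  have h3 : Cit.cj k⁻¹ (Z (rep cs h w r) ⊔ Z (-rep cs h w r)) = Z r ⊔ Z (-r) := by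
    have e1 : Z (rep cs h w r) = Cit.cj k (Z r) := by rw [← rcj_eq, conj_Z C hk hr]
    have e2 : Z (-rep cs h w r) = Cit.cj k (Z (-r)) := by
      rw [← rcj_eq, conj_Z C hk (neg_mem C hr), map_neg]
    rw [e1, e2, ← cj_sup, cj_inv_cj]
  rwa [h2, h3] at h1

end Chart

open Cfsg.Agent.Nodes.Chart in
/-- **GEN for charts** -/
theorem gen_of_chart {G : Type*} [Group G] [Finite G] {Om : Set (Subgroup G)} {p : ℕ} {L : Subgroup G}
    (c : Chart Om p L) (hq : IsQuasisimple L) {K : Subgroup G} (hK : K ∈ Om) (hKL : K ≤ L) : GenP L K := by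
  obtain ⟨r, hr, g, hg, rfl⟩ := c.om_conj K hK hKL
  have hL : Cfsg.Agent.Nodes.Bruhat.GG c.cs c.h c.T c.X = L := by
    unfold Cfsg.Agent.Nodes.Bruhat.GG
    have h1 := c.gen
    unfold Cfsg.Agent.Nodes.RGDLib.G1 at h1
    rw [h1]
    exact sup_eq_right.2 c.T_le
  have h1 := (gen_root c.prime c.odd c.cls hL hq hr).cj g
  have h2 : Cit.cj g L = L := by
    rw [← rcj_eq]
    exact Cfsg.Agent.Nodes.Reps.cj_eq_of_mem hg
  rwa [h2] at h1

end Cfsg.Agent.Cit.GenChart
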