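import Cfsg.Agent.Cit.HexTorus

/-!
# Groups of type `G₂` and `³D₄`: the Weyl group on the torus, the Bruhat decomposition
-/

set_option autoImplicit false

namespace Cfsg.Agent.Cit.HexBase

open Cfsg.Agent.SplitTwo Cfsg.Agent.TitsThree.RankTwoZ Cfsg.Agent.Lib.SL2Mat
  Cfsg.Agent.TitsThree.RankTwoIdx Cfsg.Agent.TitsThree.RankTwoRGD
open scoped commutatorElement

namespace HexGrp

universe u

variable {E : Type*} [Field E] {σ : E ≃+* E} {L : Type u} [Group L] {c : HexGrp σ L}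

/-! ### The action of the simple reflections on the torus -/

theorem n1_inv : c.n1⁻¹ = c.pb (wm (-1) (neg_ne_zero.2 one_ne_zero)) := by
  rw [n1, ← map_inv]
  congr 1
  rw [inv_eq_iff_mul_eq_one]
  refine ext_ent ?_ ?_ ?_ ?_ <;> simp [ent_mul]

theorem n6_inv : c.n6⁻¹ = c.pa (wm (-1) (neg_ne_zero.2 one_ne_zero)) := by
  rw [n6, ← map_inv]
  congr 1
  rw [inv_eq_iff_mul_eq_one]
  refine ext_ent ?_ ?_ ?_ ?_ <;> simp [ent_mul]

theorem n1_x6 (t : E) (ht : σ t = t) : c.n1 * c.x6 t * c.n1⁻¹ = c.x2 (-t) := by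
  have := c.wmB_x6 1 one_ne_zero t ht
  rwa [nrm_one, mul_one] at this

theorem n1_inv_x6 (t : E) (ht : σ t = t) : c.n1⁻¹ * c.x6 t * c.n1 = c.x2 t := by
  have := c.wmB_x6 (-1) (neg_ne_zero.2 one_ne_zero) t ht
  rw [nrm_neg, nrm_one, mul_neg, mul_one, neg_neg, ← n1_inv, inv_inv] at this
  exact this

theorem n1_x2 (t : E) (ht : σ t = t) : c.n1 * c.x2 t * c.n1⁻¹ = c.x6 t := by
  rw [← n1_inv_x6 t ht]
  group

theorem n1_inv_x1 (a : E) : c.n1⁻¹ * c.x1 a * c.n1 = c.pb (lo (-a)) := by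
  have h : c.n1 * c.pb (lo (-a)) * c.n1⁻¹ = c.x1 a := by
    rw [n1, ← map_inv, ← map_mul, ← map_mul, wm_lo', c.pb_up]
    congr 1
    ring
  rw [← h]
  group

theorem n6_x1 (a : E) : c.n6 * c.x1 a * c.n6⁻¹ = c.x5 a := by
  have := c.wmA_x1 1 one_ne_zero a
  rwa [show ((1 : ↥(fx σ)) : E) = 1 from rfl, one_mul] at this

theorem n6_inv_x1 (a : E) : c.n6⁻¹ * c.x1 a * c.n6 = c.x5 (-a) := by
  have := c.wmA_x1 (-1) (neg_ne_zero.2 one_ne_zero) a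
  rw [show ((-1 : ↥(fx σ)) : E) = -1 from rfl, neg_mul, one_mul, ← n6_inv, inv_inv] at this
  exact this

theorem n6_x5 (a : E) : c.n6 * c.x5 a * c.n6⁻¹ = c.x1 (-a) := by
  have h : c.n6⁻¹ * c.x1 (-a) * c.n6 = c.x5 a := by rw [n6_inv_x1, neg_neg]
  rw [← h]
  group

theorem n6_inv_x6 (t : E) (ht : σ t = t) : c.n6⁻¹ * c.x6 t * c.n6 = c.pa (lo (-⟨t, ht⟩)) := by
  have h : c.n6 * c.pa (lo (-⟨t, ht⟩)) * c.n6⁻¹ = c.x6 t := by
    rw [n6, ← map_inv, ← map_mul, ← map_mul, wm_lo', c.pa_up]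
    congr 1
    push_cast
    ring
  rw [← h]
  group

theorem Act.n1 {g : L} {c1 c6 : E} (h : c.Act g c1 c6) :
    c.Act (c.n1 * g * c.n1⁻¹) c1⁻¹ (c6 * nrm σ c1) where
  maps := ((c.maps_n1.mul h.maps).mul (c.maps_n1.inv (g := fun k => 8 - k) fun k => by ring)).congr fun k => by
    simp only [Function.comp, id]
    ring
  a1 a := by
    rw [show c.n1 * g * c.n1⁻¹ * c.x1 a * (c.n1 * g * c.n1⁻¹)⁻¹ =
      c.n1 * (g * (c.n1⁻¹ * c.x1 a * c.n1) * g⁻¹) * c.n1⁻¹ by group, n1_inv_x1, h.a7]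
    have h1 := n1_inv_x1 (c := c) (c1⁻¹ * a)
    rw [show -a / c1 = -(c1⁻¹ * a) by rw [neg_div, div_eq_inv_mul], ← h1]
    group
  a6 t ht := by
    rw [show c.n1 * g * c.n1⁻¹ * c.x6 t * (c.n1 * g * c.n1⁻¹)⁻¹ =
      c.n1 * (g * (c.n1⁻¹ * c.x6 t * c.n1) * g⁻¹) * c.n1⁻¹ by group, n1_inv_x6 t ht, h.a2 t ht,
      n1_x2 _ (mul_fix (mul_fix h.fix (c.nf _)) ht)]
  ne1 := inv_ne_zero h.ne1
  ne6 := mul_ne_zero h.ne6 (nrm_ne h.ne1)
  fix := mul_fix h.fix (c.nf _)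

theorem Act.n6 {g : L} {c1 c6 : E} (h : c.Act g c1 c6) :
    c.Act (c.n6 * g * c.n6⁻¹) (c6 * c1) c6⁻¹ where
  maps := ((c.maps_n6.mul h.maps).mul (c.maps_n6.inv (g := fun k => 6 - k) fun k => by ring)).congr fun k => by
    simp only [Function.comp, id]
    ring
  a1 a := by
    rw [show c.n6 * g * c.n6⁻¹ * c.x1 a * (c.n6 * g * c.n6⁻¹)⁻¹ =
      c.n6 * (g * (c.n6⁻¹ * c.x1 a * c.n6) * g⁻¹) * c.n6⁻¹ by group, n6_inv_x1, h.a5, n6_x5]
    congr 1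
    ring
  a6 t ht := by
    rw [show c.n6 * g * c.n6⁻¹ * c.x6 t * (c.n6 * g * c.n6⁻¹)⁻¹ =
      c.n6 * (g * (c.n6⁻¹ * c.x6 t * c.n6) * g⁻¹) * c.n6⁻¹ by group, n6_inv_x6 t ht, h.a0]
    have h1 := n6_inv_x6 (c := c) (c6⁻¹ * t) (mul_fix (inv_fix h.fix) ht)
    rw [show (-⟨t, ht⟩ : ↥(fx σ)) / ⟨c6, h.fix⟩ = -⟨c6⁻¹ * t, mul_fix (inv_fix h.fix) ht⟩ from by
      rw [neg_div]
      congr 1
      apply Subtype.ext
      exact div_eq_inv_mul _ _, ← h1]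
    group
  ne1 := mul_ne_zero h.ne6 h.ne1
  ne6 := inv_ne_zero h.ne6
  fix := inv_fix h.fix

/-! ### The torus -/

variable (c)

/-- The torus of `L`. -/
def T0 : Subgroup L where
  carrier := {g | ∃ c1 c6, c.Act g c1 c6}
  mul_mem' := by
    rintro a b ⟨c1, c6, h⟩ ⟨d1, d6, h'⟩
    exact ⟨_, _, h.mul h'⟩
  one_mem' := ⟨1, 1, c.act_one⟩
  inv_mem' := by
    rintro a ⟨c1, c6, h⟩
    exact ⟨_, _, h.inv⟩

theorem mem_T0 {g : L} : g ∈ c.T0 ↔ ∃ c1 c6, c.Act g c1 c6 := Iff.rfl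

theorem T0_comm {g g' : L} (h : g ∈ c.T0) (h' : g' ∈ c.T0) : g * g' = g' * g := by
  obtain ⟨c1, c6, h⟩ := h
  obtain ⟨d1, d6, h'⟩ := h'
  have h1 := h.mul h'
  rw [mul_comm c1, mul_comm c6] at h1
  exact h1.unique (h'.mul h)

/-- all pairs `(c1, c6)` occur -/
theorem exists_act [Finite E] (h2 : (2 : E) ≠ 0) {c1 c6 : E} (h1 : c1 ≠ 0) (h6 : c6 ≠ 0) (hf : σ c6 = c6) :
    ∃ (s : E) (hs : s ≠ 0) (t : ↥(fx σ)) (ht : t ≠ 0), c.Act (c.pb (dg s hs) * c.pa (dg t ht)) c1 c6 := by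
  have : Finite Eˣ := inferInstance
  have : Finite (↥(fx σ))ˣ := inferInstance
  let ν : Eˣ → (↥(fx σ))ˣ := fun s => Units.mk0 ⟨nrm σ s, c.nf s⟩ fun h =>
    nrm_ne (σ := σ) s.ne_zero (congrArg Subtype.val h)
  have hν : ∀ s, ((ν s : ↥(fx σ)) : E) = nrm σ s := fun s => rfl
  let ι : (↥(fx σ))ˣ → Eˣ := fun t => Units.mk0 ((t : ↥(fx σ)) : E) fun h => t.ne_zero (Subtype.ext h)
  have hι : ∀ t, (ι t : E) = ((t : ↥(fx σ)) : E) := fun t => rfl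
  let Φ : Eˣ × (↥(fx σ))ˣ → Eˣ × (↥(fx σ))ˣ := fun x => (x.1 ^ 2 * (ι x.2)⁻¹, (ν x.1)⁻¹ * x.2 ^ 2)
  have hinj : Function.Injective Φ := by
    rintro ⟨s, t⟩ ⟨s', t'⟩ h
    have e1 : (s : E) ^ 2 * ((t : ↥(fx σ)) : E)⁻¹ = (s' : E) ^ 2 * ((t' : ↥(fx σ)) : E)⁻¹ := by
      have := congrArg (fun x : Eˣ × (↥(fx σ))ˣ => (x.1 : E)) h
      simpa [Φ, hι] using this
    have e2 : (nrm σ (s : E))⁻¹ * ((t : ↥(fx σ)) : E) ^ 2 = (nrm σ (s' : E))⁻¹ * ((t' : ↥(fx σ)) : E) ^ 2 := by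
      have := congrArg (fun x : Eˣ × (↥(fx σ))ˣ => ((x.2 : ↥(fx σ)) : E)) h
      simpa [Φ, hν] using this
    have hs0 : (s : E) ≠ 0 := s.ne_zero
    have hs0' : (s' : E) ≠ 0 := s'.ne_zero
    have ht0 : ((t : ↥(fx σ)) : E) ≠ 0 := fun h => t.ne_zero (Subtype.ext h)
    have ht0' : ((t' : ↥(fx σ)) : E) ≠ 0 := fun h => t'.ne_zero (Subtype.ext h)
    have htf : σ ((t : ↥(fx σ)) : E) = t := (t : ↥(fx σ)).2
    have htf' : σ ((t' : ↥(fx σ)) : E) = t' := (t' : ↥(fx σ)).2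
    -- the quotient `r = s / s'`, `w = t / t'`
    obtain ⟨r, hr⟩ : ∃ r : E, r = (s : E) / s' := ⟨_, rfl⟩
    obtain ⟨w, hw⟩ : ∃ w : E, w = ((t : ↥(fx σ)) : E) / ((t' : ↥(fx σ)) : E) := ⟨_, rfl⟩
    have hr0 : r ≠ 0 := by rw [hr]; exact div_ne_zero hs0 hs0'
    have hwf : σ w = w := by rw [hw, map_div₀, htf, htf']
    have k1 : r ^ 2 = w := by
      rw [hr, hw]
      field_simp
      field_simp at e1
      linear_combination e1
    have hn : nrm σ (s : E) = nrm σ r * nrm σ (s' : E) := by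
      rw [← nrm_mul, hr, div_mul_cancel₀ _ hs0']
    have k2 : w ^ 2 = nrm σ r := by
      have hn0 := nrm_ne (σ := σ) hs0'
      have hn1 := nrm_ne (σ := σ) hr0
      rw [hn] at e2
      rw [hw]
      field_simp
      field_simp at e2
      linear_combination e2
    -- `σ r = r`
    have k3 : σ r = r := by
      have h3 : (σ r - r) * (σ r + r) = 0 := by
        have : σ r ^ 2 = r ^ 2 := by rw [← map_pow, k1, hwf]
        linear_combination this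
      rcases mul_eq_zero.1 h3 with h3 | h3
      · exact sub_eq_zero.1 h3
      · exfalso
        have h4 : σ r = -r := eq_neg_of_add_eq_zero_left h3
        have h5 := c.cube r
        rw [h4, map_neg, h4, neg_neg, h4] at h5
        have h6 : (2 : E) * r = 0 := by linear_combination -h5
        rcases mul_eq_zero.1 h6 with h7 | h7
        · exact h2 h7
        · exact hr0 h7
    have k4 : r = 1 := by
      rw [nrm_of_fix k3, ← k1] at k2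
      have h3 : r ^ 3 * (r - 1) = 0 := by linear_combination k2
      rcases mul_eq_zero.1 h3 with h4 | h4
      · exact absurd h4 (pow_ne_zero 3 hr0)
      · exact sub_eq_zero.1 h4
    have k5 : w = 1 := by rw [← k1, k4, one_pow]
    have es : s = s' := by
      apply Units.ext
      rw [k4] at hr
      field_simp at hr
      exact hr.symm
    have et : t = t' := by
      apply Units.ext
      apply Subtype.ext
      rw [k5] at hw
      field_simp at hw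
      exact hw.symm
    rw [es, et]
  obtain ⟨⟨s, t⟩, hst⟩ := (Finite.injective_iff_surjective.1 hinj)
    (Units.mk0 c1 h1, Units.mk0 ⟨c6, hf⟩ fun h => h6 (congrArg Subtype.val h))
  refine ⟨s, s.ne_zero, t, t.ne_zero, ?_⟩
  have h3 := (c.act_b s s.ne_zero).mul (c.act_a t t.ne_zero)
  have e1 : (s : E) ^ 2 * ((t : ↥(fx σ)) : E)⁻¹ = c1 := by
    have := congrArg (fun x : Eˣ × (↥(fx σ))ˣ => (x.1 : E)) hst
    simpa [Φ, hι] using this
  have e2 : (nrm σ (s : E))⁻¹ * ((t : ↥(fx σ)) : E) ^ 2 = c6 := by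
    have := congrArg (fun x : Eˣ × (↥(fx σ))ˣ => ((x.2 : ↥(fx σ)) : E)) hst
    simpa [Φ, hν] using this
  rw [e1, e2] at h3
  exact h3

theorem exists_act' [Finite E] (h2 : (2 : E) ≠ 0) {c1 c6 : E} (h1 : c1 ≠ 0) (h6 : c6 ≠ 0) (hf : σ c6 = c6) :
    ∃ g, c.Act g c1 c6 := by
  obtain ⟨s, hs, t, ht, h⟩ := c.exists_act h2 h1 h6 hf
  exact ⟨_, h⟩

theorem exists_of_mem_T0 [Finite E] (h2 : (2 : E) ≠ 0) {g : L} (hg : g ∈ c.T0) :
    ∃ (s : E) (hs : s ≠ 0) (t : ↥(fx σ)) (ht : t ≠ 0), g = c.pb (dg s hs) * c.pa (dg t ht) := by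
  obtain ⟨c1, c6, h⟩ := hg
  obtain ⟨s, hs, t, ht, h'⟩ := c.exists_act h2 h.ne1 h.ne6 h.fix
  exact ⟨s, hs, t, ht, h.unique h'⟩

/-- the torus is self-centralising among the elements normalising all root groups -/
theorem mem_T0_of_comm [Finite E] (h2 : (2 : E) ≠ 0) {g : L} (hm : Maps c.X g id) (hc : ∀ t ∈ c.T0, t * g = g * t) :
    g ∈ c.T0 := by
  obtain ⟨e1, he1⟩ := (c.par.mem1 _).1 (maps_mem hm (c.mem1 1) rfl)
  obtain ⟨e6, hf, he6⟩ := (c.par.mem6 _).1 (maps_mem hm (c.mem6 (map_one σ)) rfl)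
  have n1 : e1 ≠ 0 := by
    rintro rfl
    rw [c.x1_zero, eq_comm, mul_inv_eq_one] at he1
    have : c.x1 1 = c.x1 0 := by rw [c.x1_zero]; exact mul_eq_left.1 he1
    exact one_ne_zero (c.x1_inj this)
  have n6 : e6 ≠ 0 := by
    rintro rfl
    rw [c.x6_zero, eq_comm, mul_inv_eq_one] at he6
    have : c.x6 1 = c.x6 0 := by rw [c.x6_zero]; exact mul_eq_left.1 he6
    exact one_ne_zero (c.x6_inj (map_one σ) (map_zero σ) this)
  refine ⟨e1, e6, hm, fun a => ?_, fun t ht => ?_, n1, n6, hf⟩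
  · by_cases ha : a = 0
    · subst ha
      rw [mul_zero, c.x1_zero]
      group
    obtain ⟨h, hh⟩ := c.exists_act' h2 ha one_ne_zero (map_one σ)
    have k := hc h ⟨_, _, hh⟩
    have e := hh.a1 1
    rw [mul_one] at e
    calc g * c.x1 a * g⁻¹ = (g * h) * c.x1 1 * (g * h)⁻¹ := by rw [← e]; group
      _ = h * (g * c.x1 1 * g⁻¹) * h⁻¹ := by rw [← k]; group
      _ = _ := by rw [← he1, hh.a1, mul_comm]
  · by_cases ha : t = 0
    · subst ha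
      rw [mul_zero, c.x6_zero]
      group
    obtain ⟨h, hh⟩ := c.exists_act' h2 one_ne_zero ha ht
    have k := hc h ⟨_, _, hh⟩
    have e := hh.a6 1 (map_one σ)
    rw [mul_one] at e
    calc g * c.x6 t * g⁻¹ = (g * h) * c.x6 1 * (g * h)⁻¹ := by rw [← e]; group
      _ = h * (g * c.x6 1 * g⁻¹) * h⁻¹ := by rw [← k]; group
      _ = _ := by rw [← he6, hh.a6 e6 hf, mul_comm]

/-! ### The braid relation modulo the torus -/

variable {c}

omit c in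
theorem Act.congr {c : HexGrp σ L} {g g' : L} {c1 c6 d1 d6 : E} (h : c.Act g c1 c6) (e : g = g') (e1 : c1 = d1)
    (e6 : c6 = d6) : c.Act g' d1 d6 := by
  subst e e1 e6
  exact h

theorem Act.rot {g : L} {c1 c6 : E} (h : c.Act g c1 c6) :
    c.Act ((c.n1 * c.n6) * g * (c.n1 * c.n6)⁻¹) (c6 * c1)⁻¹ (c6 ^ 2 * nrm σ c1) := by
  have h1 := h.n6.n1
  refine h1.congr (by group) rfl ?_
  rw [nrm_mul, nrm_of_fix h.fix]
  have := h.ne6
  field_simp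

theorem Act.rot' {g : L} {c1 c6 : E} (h : c.Act g c1 c6) :
    c.Act ((c.n6 * c.n1) * g * (c.n6 * c.n1)⁻¹) (c6 * nrm σ c1 * c1⁻¹) (c6 * nrm σ c1)⁻¹ := by
  have h1 := h.n1.n6
  exact h1.congr (by group) rfl rfl

theorem Act.alt1 {g : L} {c1 c6 : E} (h : c.Act g c1 c6) :
    c.Act (alt c.n1 c.n6 6 * g * (alt c.n1 c.n6 6)⁻¹) c1⁻¹ c6⁻¹ := by
  have h1 := h.rot.rot.rot
  have n1 := h.ne1
  have n6 := h.ne6
  have nn := nrm_ne (σ := σ) h.ne1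
  have hf := h.fix
  have hN := c.nf c1
  generalize hNe : nrm σ c1 = N at *
  have e1 : nrm σ (c6 * c1)⁻¹ = (c6 ^ 3 * N)⁻¹ := by rw [nrm_inv, nrm_mul, nrm_of_fix hf, hNe]
  have e2 : nrm σ (c6 ^ 2 * N * (c6 * c1)⁻¹)⁻¹ = N / (c6 ^ 3 * N ^ 3) := by
    rw [nrm_inv, nrm_mul, e1, nrm_mul, nrm_of_fix hN, nrm_of_fix (by rw [map_pow, hf])]
    field_simp
  refine h1.congr ?_ ?_ ?_
  · simp only [alt]
    group
  · rw [e1]
    field_simp
  · rw [e2, e1]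
    field_simp

theorem Act.alt2 {g : L} {c1 c6 : E} (h : c.Act g c1 c6) :
    c.Act (alt c.n6 c.n1 6 * g * (alt c.n6 c.n1 6)⁻¹) c1⁻¹ c6⁻¹ := by
  have h1 := h.rot'.rot'.rot'
  have n1 := h.ne1
  have n6 := h.ne6
  have nn := nrm_ne (σ := σ) h.ne1
  have hf := h.fix
  have hN := c.nf c1
  generalize hNe : nrm σ c1 = N at *
  have e1 : nrm σ (c6 * N * c1⁻¹) = c6 ^ 3 * N ^ 3 / N := by
    rw [nrm_mul, nrm_mul, nrm_inv, nrm_of_fix hf, nrm_of_fix hN, hNe]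
    field_simp
  have e2 : (c6 * N)⁻¹ * nrm σ (c6 * N * c1⁻¹) * (c6 * N * c1⁻¹)⁻¹ = c6 * c1 := by
    rw [e1]
    field_simp
  have e3 : nrm σ ((c6 * N)⁻¹ * nrm σ (c6 * N * c1⁻¹) * (c6 * N * c1⁻¹)⁻¹) = c6 ^ 3 * N := by
    rw [e2, nrm_mul, nrm_of_fix hf, hNe]
  refine h1.congr ?_ ?_ ?_
  · simp only [alt]
    group
  · rw [e3, e2, e1]
    field_simp
  · rw [e3, e1]
    field_simp

variable (c)

theorem maps_alt (r : ℕ) :
    Maps c.X (alt c.n1 c.n6 r) (fun k => if Even r then k + r else 7 - k + r) ∧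
    Maps c.X (alt c.n6 c.n1 r) (fun k => if Even r then k - r else 7 - k - r) := by
  induction r with
  | zero =>
    refine ⟨Maps.one.congr fun k => by simp, Maps.one.congr fun k => by simp⟩
  | succ r ih =>
    constructor
    · refine (c.maps_n1.mul ih.2).congr fun k => ?_
      by_cases h : Even r
      · have h' : ¬ Even (r + 1) := by simpa [Nat.even_add_one] using h
        simp only [Function.comp, h, h', if_true, if_false]
        push_cast; ring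
      · have h' : Even (r + 1) := by simpa [Nat.even_add_one] using h
        simp only [Function.comp, h, h', if_true, if_false]
        push_cast; ring
    · refine (c.maps_n6.mul ih.1).congr fun k => ?_
      by_cases h : Even r
      · have h' : ¬ Even (r + 1) := by simpa [Nat.even_add_one] using h
        simp only [Function.comp, h, h', if_true, if_false]
        push_cast; ring
      · have h' : Even (r + 1) := by simpa [Nat.even_add_one] using h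
        simp only [Function.comp, h, h', if_true, if_false]
        push_cast; ring

theorem braid [Finite E] (h2 : (2 : E) ≠ 0) :
    ∃ h ∈ c.T0, alt c.n1 c.n6 6 = alt c.n6 c.n1 6 * h := by
  refine ⟨(alt c.n6 c.n1 6)⁻¹ * alt c.n1 c.n6 6, ?_, by group⟩
  apply c.mem_T0_of_comm h2
  · obtain ⟨h1, h3⟩ := c.maps_alt 6
    have e : Even 6 := by decide
    simp only [e, if_true] at h1 h3
    have h4 : Maps c.X (alt c.n6 c.n1 6)⁻¹ (fun k => k + (6 : ℕ)) := h3.inv (fun k => by ring)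
    refine (h4.mul h1).congr fun k => ?_
    simp only [Function.comp, id]
    have : ((6 : ℕ) : ZMod (2 * 6)) + ((6 : ℕ) : ZMod (2 * 6)) = 0 := by decide
    rw [add_assoc, this, add_zero]
  · rintro t ⟨c1, c6, ht⟩
    have h1 := ht.alt1.unique ht.alt2
    have h3 : ((alt c.n6 c.n1 6)⁻¹ * alt c.n1 c.n6 6) * t * ((alt c.n6 c.n1 6)⁻¹ * alt c.n1 c.n6 6)⁻¹ = t := by
      calc _ = (alt c.n6 c.n1 6)⁻¹ * (alt c.n1 c.n6 6 * t * (alt c.n1 c.n6 6)⁻¹) * alt c.n6 c.n1 6 := by group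
        _ = t := by rw [h1]; group
    exact (mul_inv_eq_iff_eq_mul.1 h3).symm

theorem n1_mem_sup : c.n1 ∈ c.X 1 ⊔ c.X 7 := by
  rw [n1, wm_eq, map_mul, map_mul]
  have h1 : ∀ b, c.pb (lo b) ∈ c.X 1 ⊔ c.X 7 := fun b =>
    (le_sup_right : c.X 7 ≤ _) ((c.pb_lo _).2 ⟨b, rfl⟩)
  have h2 : ∀ b, c.pb (up b) ∈ c.X 1 ⊔ c.X 7 := fun b =>
    (le_sup_left : c.X 1 ≤ _) (by rw [c.pb_up]; exact c.mem1 b)
  exact mul_mem (mul_mem (h1 _) (h2 _)) (h1 _)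

theorem n6_mem_sup : c.n6 ∈ c.X 6 ⊔ c.X 0 := by
  rw [n6, wm_eq, map_mul, map_mul]
  have h1 : ∀ b, c.pa (lo b) ∈ c.X 6 ⊔ c.X 0 := fun b =>
    (le_sup_right : c.X 0 ≤ _) ((c.pa_lo _).2 ⟨b, rfl⟩)
  have h2 : ∀ b, c.pa (up b) ∈ c.X 6 ⊔ c.X 0 := fun b =>
    (le_sup_left : c.X 6 ≤ _) (by rw [c.pa_up]; exact c.mem6 b.2)
  exact mul_mem (mul_mem (h1 _) (h2 _)) (h1 _)

omit c in
theorem lo_eq {K : Type*} [Field K] {b : K} (hb : b ≠ 0) : lo b =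
    up b⁻¹ * wm 1 one_ne_zero * (dg (-b⁻¹) (neg_ne_zero.2 (inv_ne_zero hb)))⁻¹ * up b⁻¹ := by
  have h1 : wm (-b⁻¹) (neg_ne_zero.2 (inv_ne_zero hb)) =
      wm 1 one_ne_zero * (dg (-b⁻¹) (neg_ne_zero.2 (inv_ne_zero hb)))⁻¹ := by
    rw [dg_eq_wm']
    group
  rw [mul_assoc (up b⁻¹) (wm 1 one_ne_zero), ← h1]
  refine ext_ent ?_ ?_ ?_ ?_ <;> simp [ent_mul, hb]

/-- The indexed root datum with torus `T0`. -/
def r2 [Finite E] (h2 : (2 : E) ≠ 0) : R2 6 L where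
  X := fun k => c.X (k : ZMod (2 * 6))
  XI' := c.X 7
  XJ' := c.X 0
  H := c.T0
  nI := c.n1
  nJ := c.n6
  one_le := by norm_num
  comm := fun k l h1 h3 h4 x hx y hy => Cfsg.Agent.Hexagon.HexComm.comm_of_hexPar c.par k l h1 h3 h4 x hx y hy
  HX := by
    rintro h ⟨c1, c6, hh⟩ k _ _ x hx
    exact maps_mem hh.maps hx rfl
  nI_X := by
    intro k h1 h3 x hx
    refine maps_mem c.maps_n1 hx ?_
    rw [Nat.cast_sub (by omega)]
    push_cast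
    ring
  nJ_X := by
    intro k h1 h3 x hx
    refine maps_mem c.maps_n6 hx ?_
    rw [Nat.cast_sub h3.le]
    push_cast
    ring
  nI_pos := fun x hx => maps_mem c.maps_n1 hx (by decide)
  nI_neg := fun x hx => maps_mem c.maps_n1 hx (by decide)
  nJ_pos := fun x hx => maps_mem c.maps_n6 hx (by decide)
  nJ_neg := fun x hx => maps_mem c.maps_n6 hx (by decide)
  nI_sq := by
    refine ⟨_, _, (c.act_b (-1) (neg_ne_zero.2 one_ne_zero)).congr ?_ rfl rfl⟩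
    rw [n1, ← map_mul]
    congr 1
    refine ext_ent ?_ ?_ ?_ ?_ <;> simp [ent_mul]
  nJ_sq := by
    refine ⟨_, _, (c.act_a (-1) (neg_ne_zero.2 one_ne_zero)).congr ?_ rfl rfl⟩
    rw [n6, ← map_mul]
    congr 1
    refine ext_ent ?_ ?_ ?_ ?_ <;> simp [ent_mul]
  nI_H := by
    rintro h ⟨c1, c6, hh⟩
    exact ⟨_, _, hh.n1⟩
  nJ_H := by
    rintro h ⟨c1, c6, hh⟩
    exact ⟨_, _, hh.n6⟩
  rank_oneI := by
    intro a ha h1
    obtain ⟨b, rfl⟩ := (c.pb_lo _).1 ha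
    have hb : b ≠ 0 := by
      rintro rfl
      exact h1 (by rw [lo_zero, map_one])
    have hx : ∀ a, c.pb (up a) ∈ c.X ((1 : ℕ) : ZMod (2 * 6)) := fun a => by
      rw [c.pb_up, Nat.cast_one]; exact c.mem1 a
    refine ⟨_, hx b⁻¹, (c.pb (dg (-b⁻¹) (neg_ne_zero.2 (inv_ne_zero hb))))⁻¹, inv_mem ⟨_, _, c.act_b _ _⟩, _, hx b⁻¹, ?_⟩
    rw [lo_eq hb, map_mul, map_mul, map_mul, map_inv, n1]
  rank_oneJ := by
    intro a ha h1
    obtain ⟨b, rfl⟩ := (c.pa_lo _).1 ha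
    have hb : b ≠ 0 := by
      rintro rfl
      exact h1 (by rw [lo_zero, map_one])
    have hx : ∀ a, c.pa (up a) ∈ c.X ((6 : ℕ) : ZMod (2 * 6)) := fun a => by
      rw [c.pa_up]; exact c.mem6 a.2
    refine ⟨_, hx b⁻¹, (c.pa (dg (-b⁻¹) (neg_ne_zero.2 (inv_ne_zero hb))))⁻¹, inv_mem ⟨_, _, c.act_a _ _⟩, _, hx b⁻¹, ?_⟩
    rw [lo_eq hb, map_mul, map_mul, map_mul, map_inv, n6]
  memI := by
    rw [Nat.cast_one]; exact c.n1_mem_sup
  memJ := c.n6_mem_sup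
  braid := c.braid h2

/-! ### The Bruhat decomposition -/

theorem exists_prod {g : L} (hg : g ∈ Sg c.X Pos) : ∃ a1 ∈ c.X 1, ∃ a2 ∈ c.X 2, ∃ a3 ∈ c.X 3, ∃ a4 ∈ c.X 4,
    ∃ a5 ∈ c.X 5, ∃ a6 ∈ c.X 6, g = a1 * a2 * a3 * a4 * a5 * a6 := by
  have e1 : (Pos : Finset (ZMod (2 * 6))) = insert 1 {2, 3, 4, 5, 6} := rfl
  rw [e1] at hg
  obtain ⟨a1, h1, v1, hv1, rfl⟩ := c.exists_mul (by decide +kernel) hg
  obtain ⟨a2, h2, v2, hv2, rfl⟩ := c.exists_mul (k := 2) (s := {3, 4, 5, 6}) (by decide +kernel) hv1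
  obtain ⟨a3, h3, v3, hv3, rfl⟩ := c.exists_mul (k := 3) (s := {4, 5, 6}) (by decide +kernel) hv2
  obtain ⟨a4, h4, v4, hv4, rfl⟩ := c.exists_mul (k := 4) (s := {5, 6}) (by decide +kernel) hv3
  obtain ⟨a5, h5, v5, hv5, rfl⟩ := c.exists_mul (k := 5) (s := {6}) (by decide +kernel) hv4
  refine ⟨a1, h1, a2, h2, a3, h3, a4, h4, a5, h5, v5, ?_, by group⟩
  have : Sg c.X {6} ≤ c.X 6 := Sg_le fun k hk => by rw [Finset.mem_singleton.1 hk]
  exact this hv5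

/-- the positive roots `1, …, j` -/
def low (j : Fin 7) : Finset (ZMod (2 * 6)) := Pos.filter fun k => k.val ≤ j.val
/-- the positive roots `j + 1, …, 6` -/
def high (j : Fin 7) : Finset (ZMod (2 * 6)) := Pos.filter fun k => j.val < k.val

theorem split (j : Fin 7) {g : L} (hg : g ∈ Sg c.X Pos) : ∃ a ∈ Sg c.X (low j), ∃ b ∈ Sg c.X (high j), g = a * b := by
  obtain ⟨a1, h1, a2, h2, a3, h3, a4, h4, a5, h5, a6, h6, rfl⟩ := c.exists_prod hg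
  have m : ∀ {s : Finset (ZMod (2 * 6))} {k : ZMod (2 * 6)}, k ∈ s → ∀ {g : L}, g ∈ c.X k → g ∈ Sg c.X s :=
    fun hk g hg => c.sg hk hg
  fin_cases j
  · exact ⟨1, one_mem _, a1 * a2 * a3 * a4 * a5 * a6,
      mul_mem (mul_mem (mul_mem (mul_mem (mul_mem (m (by decide +kernel) h1) (m (by decide +kernel) h2))
        (m (by decide +kernel) h3)) (m (by decide +kernel) h4)) (m (by decide +kernel) h5)) (m (by decide +kernel) h6),
      by group⟩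
  · exact ⟨a1, m (by decide +kernel) h1, a2 * a3 * a4 * a5 * a6,
      mul_mem (mul_mem (mul_mem (mul_mem (m (by decide +kernel) h2)
        (m (by decide +kernel) h3)) (m (by decide +kernel) h4)) (m (by decide +kernel) h5)) (m (by decide +kernel) h6),
      by group⟩
  · exact ⟨a1 * a2, mul_mem (m (by decide +kernel) h1) (m (by decide +kernel) h2), a3 * a4 * a5 * a6,
      mul_mem (mul_mem (mul_mem (m (by decide +kernel) h3) (m (by decide +kernel) h4)) (m (by decide +kernel) h5))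
        (m (by decide +kernel) h6), by group⟩
  · exact ⟨a1 * a2 * a3, mul_mem (mul_mem (m (by decide +kernel) h1) (m (by decide +kernel) h2))
      (m (by decide +kernel) h3), a4 * a5 * a6,
      mul_mem (mul_mem (m (by decide +kernel) h4) (m (by decide +kernel) h5)) (m (by decide +kernel) h6), by group⟩
  · exact ⟨a1 * a2 * a3 * a4, mul_mem (mul_mem (mul_mem (m (by decide +kernel) h1) (m (by decide +kernel) h2))
      (m (by decide +kernel) h3)) (m (by decide +kernel) h4), a5 * a6,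
      mul_mem (m (by decide +kernel) h5) (m (by decide +kernel) h6), by group⟩
  · exact ⟨a1 * a2 * a3 * a4 * a5, mul_mem (mul_mem (mul_mem (mul_mem (m (by decide +kernel) h1)
      (m (by decide +kernel) h2)) (m (by decide +kernel) h3)) (m (by decide +kernel) h4)) (m (by decide +kernel) h5),
      a6, m (by decide +kernel) h6, by group⟩
  · exact ⟨a1 * a2 * a3 * a4 * a5 * a6,
      mul_mem (mul_mem (mul_mem (mul_mem (mul_mem (m (by decide +kernel) h1) (m (by decide +kernel) h2))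
        (m (by decide +kernel) h3)) (m (by decide +kernel) h4)) (m (by decide +kernel) h5)) (m (by decide +kernel) h6),
      1, one_mem _, by group⟩

theorem split' (j : Fin 7) {g : L} (hg : g ∈ Sg c.X Pos) : ∃ b ∈ Sg c.X (high j), ∃ a ∈ Sg c.X (low j), g = b * a := by
  obtain ⟨a, ha, b, hb, e⟩ := c.split j (inv_mem hg)
  refine ⟨b⁻¹, inv_mem hb, a⁻¹, inv_mem ha, ?_⟩
  rw [← mul_inv_rev, ← e, inv_inv]

omit c in
theorem idx_alt : ∀ r : Fin 7,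
    (∃ j : Fin 7, (∀ k ∈ low j, (if Even r.val then k + (r.val : ZMod (2 * 6)) else 7 - k + (r.val : ZMod (2 * 6))) ∈ Pos) ∧
        (∀ k ∈ high j, (if Even r.val then k + (r.val : ZMod (2 * 6)) else 7 - k + (r.val : ZMod (2 * 6))) ∈ Neg) ∨
      (∀ k ∈ high j, (if Even r.val then k + (r.val : ZMod (2 * 6)) else 7 - k + (r.val : ZMod (2 * 6))) ∈ Pos) ∧
        (∀ k ∈ low j, (if Even r.val then k + (r.val : ZMod (2 * 6)) else 7 - k + (r.val : ZMod (2 * 6))) ∈ Neg)) ∧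
    (∃ j : Fin 7, (∀ k ∈ low j, (if Even r.val then k - (r.val : ZMod (2 * 6)) else 7 - k - (r.val : ZMod (2 * 6))) ∈ Pos) ∧
        (∀ k ∈ high j, (if Even r.val then k - (r.val : ZMod (2 * 6)) else 7 - k - (r.val : ZMod (2 * 6))) ∈ Neg) ∨
      (∀ k ∈ high j, (if Even r.val then k - (r.val : ZMod (2 * 6)) else 7 - k - (r.val : ZMod (2 * 6))) ∈ Pos) ∧
        (∀ k ∈ low j, (if Even r.val then k - (r.val : ZMod (2 * 6)) else 7 - k - (r.val : ZMod (2 * 6))) ∈ Neg)) := by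
  decide +kernel

theorem split_of {f : ZMod (2 * 6) → ZMod (2 * 6)}
    (h : ∃ j : Fin 7, (∀ k ∈ low j, f k ∈ Pos) ∧ (∀ k ∈ high j, f k ∈ Neg) ∨
      (∀ k ∈ high j, f k ∈ Pos) ∧ (∀ k ∈ low j, f k ∈ Neg)) :
    ∃ s ⊆ Pos, ∃ t ⊆ Pos, (∀ k ∈ s, f k ∈ Pos) ∧ (∀ k ∈ t, f k ∈ Neg) ∧
      ∀ g ∈ Sg c.X Pos, ∃ a ∈ Sg c.X s, ∃ b ∈ Sg c.X t, g = a * b := by
  obtain ⟨j, ⟨h1, h2⟩ | ⟨h1, h2⟩⟩ := h
  · exact ⟨low j, Finset.filter_subset _ _, high j, Finset.filter_subset _ _, h1, h2, fun g hg => c.split j hg⟩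
  · exact ⟨high j, Finset.filter_subset _ _, low j, Finset.filter_subset _ _, h1, h2, fun g hg => c.split' j hg⟩

/-- The representatives of the Weyl group: `w` with its action `f` on the roots. -/
def IsRep (w : L) (f : ZMod (2 * 6) → ZMod (2 * 6)) : Prop :=
  ∃ r : ℕ, r ≤ 6 ∧
    ((w = alt c.n1 c.n6 r ∧ f = fun k => if Even r then k + (r : ZMod (2 * 6)) else 7 - k + (r : ZMod (2 * 6))) ∨
    (w = alt c.n6 c.n1 r ∧ f = fun k => if Even r then k - (r : ZMod (2 * 6)) else 7 - k - (r : ZMod (2 * 6))))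

variable {c}

theorem IsRep.maps {w : L} {f : ZMod (2 * 6) → ZMod (2 * 6)} (h : c.IsRep w f) : Maps c.X w f := by
  obtain ⟨r, _, ⟨rfl, rfl⟩ | ⟨rfl, rfl⟩⟩ := h
  · exact (c.maps_alt r).1
  · exact (c.maps_alt r).2

theorem alt_T0 (r : ℕ) : (∀ h ∈ c.T0, alt c.n1 c.n6 r * h * (alt c.n1 c.n6 r)⁻¹ ∈ c.T0) ∧
    (∀ h ∈ c.T0, alt c.n6 c.n1 r * h * (alt c.n6 c.n1 r)⁻¹ ∈ c.T0) := by
  induction r with
  | zero => constructor <;> · intro h hh; simpa [alt] using hh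
  | succ r ih =>
    constructor
    · intro h hh
      obtain ⟨c1, c6, h1⟩ := ih.2 h hh
      refine ⟨_, _, h1.n1.congr ?_ rfl rfl⟩
      rw [alt_succ]
      group
    · intro h hh
      obtain ⟨c1, c6, h1⟩ := ih.1 h hh
      refine ⟨_, _, h1.n6.congr ?_ rfl rfl⟩
      rw [alt_succ]
      group

theorem n1_sq : c.n1 * c.n1 ∈ c.T0 := by
  refine ⟨_, _, (c.act_b (-1) (neg_ne_zero.2 one_ne_zero)).congr ?_ rfl rfl⟩
  rw [HexGrp.n1, ← map_mul]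
  congr 1
  refine ext_ent ?_ ?_ ?_ ?_ <;> simp [ent_mul]

theorem n6_sq : c.n6 * c.n6 ∈ c.T0 := by
  refine ⟨_, _, (c.act_a (-1) (neg_ne_zero.2 one_ne_zero)).congr ?_ rfl rfl⟩
  rw [HexGrp.n6, ← map_mul]
  congr 1
  refine ext_ent ?_ ?_ ?_ ?_ <;> simp [ent_mul]

theorem inv_conj_T0 {n : L} (h1 : n * n ∈ c.T0) (h2 : ∀ h ∈ c.T0, n * h * n⁻¹ ∈ c.T0) {h : L} (hh : h ∈ c.T0) :
    n⁻¹ * h * n ∈ c.T0 := by
  have h3 := mul_mem (mul_mem (inv_mem h1) hh) h1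
  have h4 := h2 _ h3
  have e : n * ((n * n)⁻¹ * h * (n * n)) * n⁻¹ = n⁻¹ * h * n := by group
  rwa [e] at h4

theorem alt_T0' (r : ℕ) : (∀ h ∈ c.T0, (alt c.n1 c.n6 r)⁻¹ * h * (alt c.n1 c.n6 r) ∈ c.T0) ∧
    (∀ h ∈ c.T0, (alt c.n6 c.n1 r)⁻¹ * h * (alt c.n6 c.n1 r) ∈ c.T0) := by
  have k1 : ∀ h ∈ c.T0, c.n1⁻¹ * h * c.n1 ∈ c.T0 := fun h hh => inv_conj_T0 n1_sq (by
    rintro h ⟨c1, c6, h1⟩
    exact ⟨_, _, h1.n1⟩) hh
  have k6 : ∀ h ∈ c.T0, c.n6⁻¹ * h * c.n6 ∈ c.T0 := fun h hh => inv_conj_T0 n6_sq (by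
    rintro h ⟨c1, c6, h1⟩
    exact ⟨_, _, h1.n6⟩) hh
  induction r with
  | zero => constructor <;> · intro h hh; simpa [alt] using hh
  | succ r ih =>
    constructor
    · intro h hh
      have := ih.2 _ (k1 h hh)
      rw [alt_succ]
      convert this using 1
      group
    · intro h hh
      have := ih.1 _ (k6 h hh)
      rw [alt_succ]
      convert this using 1
      group

theorem IsRep.conj' {w : L} {f : ZMod (2 * 6) → ZMod (2 * 6)} (hw : c.IsRep w f) {h : L} (hh : h ∈ c.T0) :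
    w⁻¹ * h * w ∈ c.T0 := by
  obtain ⟨r, _, ⟨rfl, rfl⟩ | ⟨rfl, rfl⟩⟩ := hw
  · exact (alt_T0' r).1 h hh
  · exact (alt_T0' r).2 h hh

theorem IsRep.conj {w : L} {f : ZMod (2 * 6) → ZMod (2 * 6)} (hw : c.IsRep w f) {h : L} (hh : h ∈ c.T0) :
    w * h * w⁻¹ ∈ c.T0 := by
  obtain ⟨r, _, ⟨rfl, rfl⟩ | ⟨rfl, rfl⟩⟩ := hw
  · exact (alt_T0 r).1 h hh
  · exact (alt_T0 r).2 h hh

theorem IsRep.split {w : L} {f : ZMod (2 * 6) → ZMod (2 * 6)} (hw : c.IsRep w f) :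
    ∃ s ⊆ Pos, ∃ t ⊆ Pos, (∀ k ∈ s, f k ∈ Pos) ∧ (∀ k ∈ t, f k ∈ Neg) ∧
      ∀ g ∈ Sg c.X Pos, ∃ a ∈ Sg c.X s, ∃ b ∈ Sg c.X t, g = a * b := by
  obtain ⟨r, hr, ⟨rfl, rfl⟩ | ⟨rfl, rfl⟩⟩ := hw
  · exact c.split_of (idx_alt ⟨r, by omega⟩).1
  · exact c.split_of (idx_alt ⟨r, by omega⟩).2

variable (c)

/-- conjugation by the torus -/
theorem T0_conj {s : Finset (ZMod (2 * 6))} {h g : L} (hh : h ∈ c.T0) (hg : g ∈ Sg c.X s) :
    h * g * h⁻¹ ∈ Sg c.X s := by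
  obtain ⟨c1, c6, h1⟩ := hh
  exact conj_Sg h1.maps (fun k hk => hk) hg

/-- **Bruhat decomposition**: `g = u w h v` with `w v w⁻¹` negative. -/
theorem bruhat [Finite E] (h2 : (2 : E) ≠ 0) (g : L) : ∃ u ∈ Sg c.X Pos, ∃ w f, c.IsRep w f ∧ ∃ h ∈ c.T0,
    ∃ t ⊆ Pos, (∀ k ∈ t, f k ∈ Neg) ∧ ∃ v ∈ Sg c.X t, g = u * w * h * v := by
  have hU : (c.r2 h2).U = Sg c.X Pos := by
    apply le_antisymm
    · refine iSup₂_le fun k hk => ?_
      have : ∀ k : ℕ, k ∈ Set.Icc 1 6 → (k : ZMod (2 * 6)) ∈ Pos := by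
        intro k hk
        obtain ⟨h1, h3⟩ := hk
        interval_cases k <;> decide
      exact X_le_Sg (this k hk)
    · have key : ∀ k : ZMod (2 * 6), k ∈ Pos → ∃ r : Fin 7, 1 ≤ r.val ∧ k = (r.val : ZMod (2 * 6)) := by decide +kernel
      refine Sg_le fun k hk => ?_
      obtain ⟨r, hr, rfl⟩ := key k hk
      exact (c.r2 h2).X_le hr (by omega)
  have htop : (c.r2 h2).U ⊔ (c.r2 h2).H ⊔ ((c.r2 h2).XI' ⊔ (c.r2 h2).XJ') = ⊤ := by
    apply c.closure_eq_top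
    · intro x
      obtain ⟨a, b, d, e, rfl⟩ := exists_up_lo x
      have h1 : ∀ a, c.pa (up a) ∈ (c.r2 h2).U ⊔ (c.r2 h2).H ⊔ ((c.r2 h2).XI' ⊔ (c.r2 h2).XJ') := fun a => by
        apply (le_sup_left.trans le_sup_left : (c.r2 h2).U ≤ _)
        rw [hU, c.pa_up]
        exact c.sg (by decide) (c.mem6 a.2)
      have h3 : ∀ a, c.pa (lo a) ∈ (c.r2 h2).U ⊔ (c.r2 h2).H ⊔ ((c.r2 h2).XI' ⊔ (c.r2 h2).XJ') := fun a => by
        apply (le_sup_right.trans le_sup_right : (c.r2 h2).XJ' ≤ _)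
        exact (c.pa_lo _).2 ⟨a, rfl⟩
      rw [map_mul, map_mul, map_mul]
      exact mul_mem (mul_mem (mul_mem (h1 _) (h3 _)) (h1 _)) (h3 _)
    · intro x
      obtain ⟨a, b, d, e, rfl⟩ := exists_up_lo x
      have h1 : ∀ a, c.pb (up a) ∈ (c.r2 h2).U ⊔ (c.r2 h2).H ⊔ ((c.r2 h2).XI' ⊔ (c.r2 h2).XJ') := fun a => by
        apply (le_sup_left.trans le_sup_left : (c.r2 h2).U ≤ _)
        rw [hU, c.pb_up]
        exact c.sg (by decide) (c.mem1 a)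
      have h3 : ∀ a, c.pb (lo a) ∈ (c.r2 h2).U ⊔ (c.r2 h2).H ⊔ ((c.r2 h2).XI' ⊔ (c.r2 h2).XJ') := fun a => by
        apply (le_sup_left.trans le_sup_right : (c.r2 h2).XI' ≤ _)
        exact (c.pb_lo _).2 ⟨a, rfl⟩
      rw [map_mul, map_mul, map_mul]
      exact mul_mem (mul_mem (mul_mem (h1 _) (h3 _)) (h1 _)) (h3 _)
  obtain ⟨b, hb, r, hr, b', hb', e⟩ := (c.r2 h2).bruhat (y := g) (by rw [htop]; exact Subgroup.mem_top g)
  obtain ⟨w, f, hw, e⟩ : ∃ w f, c.IsRep w f ∧ g = b * w * b' := by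
    rcases e with e | e
    · exact ⟨_, _, ⟨r, hr, Or.inl ⟨rfl, rfl⟩⟩, e⟩
    · exact ⟨_, _, ⟨r, hr, Or.inr ⟨rfl, rfl⟩⟩, e⟩
  have hD : ∀ b, b ∈ (c.r2 h2).U ⊔ (c.r2 h2).H → ∃ u ∈ Sg c.X Pos, ∃ h ∈ c.T0, b = u * h := by
    intro b hb
    obtain ⟨u, hu, h, hh, e⟩ := (c.r2 h2).core.mem_D.1 hb
    have hu' : u ∈ (c.r2 h2).U := hu
    rw [hU] at hu'
    exact ⟨u, hu', h, hh, e.symm⟩
  obtain ⟨u, hu, h, hh, rfl⟩ := hD b hb
  obtain ⟨u', hu', h', hh', hb''⟩ := hD b'⁻¹ (inv_mem hb')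
  obtain rfl : b' = h'⁻¹ * u'⁻¹ := by rw [← mul_inv_rev, ← hb'', inv_inv]
  obtain ⟨s, _, t, ht, hs, ht', hdec⟩ := hw.split
  obtain ⟨a, ha, v, hv, ev⟩ := hdec u'⁻¹ (inv_mem hu')
  rw [ev] at e
  have h1 := hw.conj' hh
  have h3 : w⁻¹ * h * w * h'⁻¹ ∈ c.T0 := mul_mem h1 (inv_mem hh')
  have h4 := conj_Sg hw.maps hs (c.T0_conj h3 ha)
  refine ⟨u * (w * (w⁻¹ * h * w * h'⁻¹ * a * (w⁻¹ * h * w * h'⁻¹)⁻¹) * w⁻¹), mul_mem hu h4, w, f, hw, _, h3, t, ht,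
    ht', v, hv, ?_⟩
  rw [e]
  group

end HexGrp

end Cfsg.Agent.Cit.HexBase
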