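import Cfsg.Agent.Cit.HexBruhat

/-!
# Groups of type `G₂` and `³D₄`: centralisers of `X 4` and of the involution `z`
-/

set_option autoImplicit false

namespace Cfsg.Agent.Cit.HexBase

open Cfsg.Agent.SplitTwo Cfsg.Agent.TitsThree.RankTwoZ Cfsg.Agent.Lib.SL2Mat
  Cfsg.Agent.TitsThree.RankTwoIdx Cfsg.Agent.TitsThree.RankTwoRGD
open scoped commutatorElement

namespace HexGrp

universe u

variable {E : Type*} [Field E] {σ : E ≃+* E} {L : Type u} [Group L] (c : HexGrp σ L)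

omit c in
theorem maps_mem' {X : ZMod (2 * 6) → Subgroup L} {n : L} {f : ZMod (2 * 6) → ZMod (2 * 6)} (hn : Maps X n f)
    {k j : ZMod (2 * 6)} {x : L} (hx : x ∈ X j) (e : f k = j) : n⁻¹ * x * n ∈ X k := by
  rw [← hn k, e]
  have : n * (n⁻¹ * x * n) * n⁻¹ = x := by group
  rwa [this]

theorem ne_sep : ∀ j k : ZMod (2 * 6), j ≠ k → Sep {j} {k} := by decide +kernel

theorem eq_one_of_ne {j k : ZMod (2 * 6)} (h : j ≠ k) {g : L} (h1 : g ∈ c.X j) (h2 : g ∈ c.X k) : g = 1 :=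
  c.eq_one_of_sep (ne_sep j k h) (c.sg (Finset.mem_singleton_self j) h1) (c.sg (Finset.mem_singleton_self k) h2)

omit c in
theorem eq_of_kk {G : Type*} [Group G] {a b : G} (h : kk a b = 1) : a * b = b * a := by
  unfold kk at h
  have h1 : a⁻¹ * b⁻¹ * a * b = 1 := h
  calc a * b = b * a * (a⁻¹ * b⁻¹ * a * b) := by group
    _ = b * a := by rw [h1, mul_one]

/-- `X 4` is central in the positive part -/
theorem comm4 {g x : L} (hg : g ∈ Sg c.X Pos) (hx : x ∈ c.X 4) : g * x = x * g := by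
  have key : Sg c.X Pos ≤ Subgroup.centralizer {x} := by
    obtain ⟨t, ht, rfl⟩ := (c.par.mem4 _).1 hx
    refine Sg_le fun k hk y hy => ?_
    rw [Subgroup.mem_centralizer_singleton_iff]
    have hr := c.par.rel
    fin_cases hk
    · obtain ⟨a, rfl⟩ := (c.par.mem1 _).1 hy
      exact eq_of_kk (hr.c14 a t ht)
    · obtain ⟨a, ha, rfl⟩ := (c.par.mem2 _).1 hy
      exact eq_of_kk (hr.c24 a t ha ht)
    · obtain ⟨a, rfl⟩ := (c.par.mem3 _).1 hy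
      exact eq_of_kk (hr.c34 a t ht)
    · obtain ⟨a, ha, rfl⟩ := (c.par.mem4 _).1 hy
      rw [← c.x4_add ha ht, ← c.x4_add ht ha, add_comm]
    · obtain ⟨a, rfl⟩ := (c.par.mem5 _).1 hy
      exact (eq_of_kk (hr.c45 t a ht)).symm
    · obtain ⟨a, ha, rfl⟩ := (c.par.mem6 _).1 hy
      exact (eq_of_kk (hr.c46 t a ht ha)).symm
  exact Subgroup.mem_centralizer_singleton_iff.1 (key hg)

theorem comm47 {g x : L} (hg : g ∈ c.X 7) (hx : x ∈ c.X 4) : g * x = x * g := by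
  have h1 : c.n1 * g * c.n1⁻¹ ∈ c.X 1 := maps_mem c.maps_n1 hg (by decide)
  have h2 : c.n1 * x * c.n1⁻¹ ∈ c.X 4 := maps_mem c.maps_n1 hx (by decide)
  have h3 := c.comm4 (c.sg (by decide) h1) h2
  have h4 : c.n1 * (g * x) * c.n1⁻¹ = c.n1 * (x * g) * c.n1⁻¹ := by
    calc _ = c.n1 * g * c.n1⁻¹ * (c.n1 * x * c.n1⁻¹) := by group
      _ = _ := by rw [h3]; group
  exact mul_left_cancel (mul_right_cancel h4)

theorem pb_comm4 (y : SL2 E) {x : L} (hx : x ∈ c.X 4) : c.pb y * x = x * c.pb y := by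
  obtain ⟨a, b, d, e, rfl⟩ := exists_up_lo y
  have h1 : ∀ a, c.pb (up a) * x = x * c.pb (up a) := fun a => by
    rw [c.pb_up]; exact c.comm4 (c.sg (by decide) (c.mem1 a)) hx
  have h2 : ∀ a, c.pb (lo a) * x = x * c.pb (lo a) := fun a => c.comm47 ((c.pb_lo _).2 ⟨a, rfl⟩) hx
  simp only [map_mul]
  calc c.pb (up a) * c.pb (lo b) * c.pb (up d) * c.pb (lo e) * x
      = c.pb (up a) * c.pb (lo b) * c.pb (up d) * (c.pb (lo e) * x) := by group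
    _ = c.pb (up a) * c.pb (lo b) * (c.pb (up d) * x) * c.pb (lo e) := by rw [h2]; group
    _ = c.pb (up a) * (c.pb (lo b) * x) * c.pb (up d) * c.pb (lo e) := by rw [h1]; group
    _ = (c.pb (up a) * x) * c.pb (lo b) * c.pb (up d) * c.pb (lo e) := by rw [h2]; group
    _ = _ := by rw [h1]; group

/-! ### The long root subgroup `K 4` -/

/-- the root `SL₂` of the roots `4, 10` -/
def p4 : SL2 ↥(fx σ) →* L := (MulAut.conj (c.n6 * c.n1)).toMonoidHom.comp c.pa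

theorem p4_apply (x : SL2 ↥(fx σ)) : c.p4 x = c.n6 * c.n1 * c.pa x * (c.n6 * c.n1)⁻¹ := rfl

theorem maps_g : Maps c.X (c.n6 * c.n1) (fun k => k - 2) :=
  (c.maps_n6.mul c.maps_n1).congr fun k => by
    simp only [Function.comp]
    ring

theorem p4_up_mem (t : ↥(fx σ)) : c.p4 (up t) ∈ c.X 4 := by
  refine maps_mem c.maps_g (k := 6) ?_ (by decide)
  rw [c.pa_up]
  exact c.mem6 t.2

theorem p4_lo_mem (t : ↥(fx σ)) : c.p4 (lo t) ∈ c.X 10 :=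
  maps_mem c.maps_g (k := 0) ((c.pa_lo _).2 ⟨t, rfl⟩) (by decide)

theorem mem_X4 {g : L} : g ∈ c.X 4 ↔ ∃ t, c.p4 (up t) = g := by
  constructor
  · intro hg
    have h1 : (c.n6 * c.n1)⁻¹ * g * (c.n6 * c.n1) ∈ c.X 6 := maps_mem' c.maps_g hg (by decide)
    obtain ⟨t, ht, e⟩ := (c.par.mem6 _).1 h1
    refine ⟨⟨t, ht⟩, ?_⟩
    rw [p4_apply, c.pa_up, e]
    group
  · rintro ⟨t, rfl⟩
    exact c.p4_up_mem t

theorem mem_X10 {g : L} : g ∈ c.X 10 ↔ ∃ t, c.p4 (lo t) = g := by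
  constructor
  · intro hg
    have h1 : (c.n6 * c.n1)⁻¹ * g * (c.n6 * c.n1) ∈ c.X 0 := maps_mem' c.maps_g hg (by decide)
    obtain ⟨t, e⟩ := (c.pa_lo _).1 h1
    refine ⟨t, ?_⟩
    rw [p4_apply, e]
    group
  · rintro ⟨t, rfl⟩
    exact c.p4_lo_mem t

/-- the reflection at the root `4` -/
def n4 : L := c.p4 (wm 1 one_ne_zero)

theorem n4_eq : c.n4 = c.n6 * c.n1 * c.n6 * (c.n6 * c.n1)⁻¹ := rfl

theorem maps_n4 : Maps c.X c.n4 (fun k => 2 - k) := by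
  have h1 : Maps c.X (c.n6 * c.n1)⁻¹ (fun k => k + 2) := c.maps_g.inv fun k => by ring
  rw [n4_eq]
  refine ((c.maps_g.mul c.maps_n6).mul h1).congr fun k => ?_
  simp only [Function.comp]
  ring

/-- `K 1` and `K 4` commute -/
theorem comm_pb_p4 (x : SL2 E) (y : SL2 ↥(fx σ)) : c.pb x * c.p4 y = c.p4 y * c.pb x := by
  have h10 : ∀ (x : SL2 E) (t : ↥(fx σ)), c.pb x * c.p4 (lo t) = c.p4 (lo t) * c.pb x := by
    intro x t
    -- conjugate by `n4`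
    have e1 : c.n4⁻¹ * c.p4 (lo t) * c.n4 ∈ c.X 4 := maps_mem' c.maps_n4 (c.p4_lo_mem t) (by decide)
    have k1 : ∀ g ∈ c.X 1, g * c.p4 (lo t) = c.p4 (lo t) * g := by
      intro g hg
      have e2 : c.n4⁻¹ * g * c.n4 ∈ c.X 1 := maps_mem' c.maps_n4 hg (by decide)
      have e3 := c.comm4 (c.sg (by decide) e2) e1
      have e4 : c.n4⁻¹ * (g * c.p4 (lo t)) * c.n4 = c.n4⁻¹ * (c.p4 (lo t) * g) * c.n4 := by
        calc _ = c.n4⁻¹ * g * c.n4 * (c.n4⁻¹ * c.p4 (lo t) * c.n4) := by group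
          _ = _ := by rw [e3]; group
      exact mul_left_cancel (mul_right_cancel e4)
    have k7 : ∀ g ∈ c.X 7, g * c.p4 (lo t) = c.p4 (lo t) * g := by
      intro g hg
      have e2 : c.n4⁻¹ * g * c.n4 ∈ c.X 7 := maps_mem' c.maps_n4 hg (by decide)
      have e3 := c.comm47 e2 e1
      have e4 : c.n4⁻¹ * (g * c.p4 (lo t)) * c.n4 = c.n4⁻¹ * (c.p4 (lo t) * g) * c.n4 := by
        calc _ = c.n4⁻¹ * g * c.n4 * (c.n4⁻¹ * c.p4 (lo t) * c.n4) := by group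
          _ = _ := by rw [e3]; group
      exact mul_left_cancel (mul_right_cancel e4)
    have h1 : ∀ a, c.pb (up a) ∈ Subgroup.centralizer {c.p4 (lo t)} := fun a => by
      rw [Subgroup.mem_centralizer_singleton_iff, c.pb_up]
      exact k1 _ (c.mem1 a)
    have h2 : ∀ a, c.pb (lo a) ∈ Subgroup.centralizer {c.p4 (lo t)} := fun a => by
      rw [Subgroup.mem_centralizer_singleton_iff]
      exact k7 _ ((c.pb_lo _).2 ⟨a, rfl⟩)
    obtain ⟨a, b, d, e, rfl⟩ := exists_up_lo x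
    rw [← Subgroup.mem_centralizer_singleton_iff]
    rw [map_mul, map_mul, map_mul]
    exact mul_mem (mul_mem (mul_mem (h1 _) (h2 _)) (h1 _)) (h2 _)
  have h4 : ∀ (x : SL2 E) (t : ↥(fx σ)), c.pb x * c.p4 (up t) = c.p4 (up t) * c.pb x := fun x t =>
    c.pb_comm4 x (c.p4_up_mem t)
  have m1 : ∀ t, c.p4 (up t) ∈ Subgroup.centralizer {c.pb x} := fun t => by
    rw [Subgroup.mem_centralizer_singleton_iff]
    exact (h4 x t).symm
  have m2 : ∀ t, c.p4 (lo t) ∈ Subgroup.centralizer {c.pb x} := fun t => by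
    rw [Subgroup.mem_centralizer_singleton_iff]
    exact (h10 x t).symm
  obtain ⟨a, b, d, e, rfl⟩ := exists_up_lo y
  symm
  rw [← Subgroup.mem_centralizer_singleton_iff]
  rw [map_mul, map_mul, map_mul]
  exact mul_mem (mul_mem (mul_mem (m1 _) (m2 _)) (m1 _)) (m2 _)

/-! ### The torus on `K 1` and `K 4` -/

variable {c}

/-- the weight of `X 4` -/
theorem Act.fix4 {g : L} {c1 c6 : E} (h : c.Act g c1 c6) : σ (c6 ^ 2 * nrm σ c1) = c6 ^ 2 * nrm σ c1 :=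
  mul_fix (by rw [map_pow, h.fix]) (c.nf c1)

theorem Act.ne4 {g : L} {c1 c6 : E} (h : c.Act g c1 c6) : c6 ^ 2 * nrm σ c1 ≠ 0 :=
  mul_ne_zero (pow_ne_zero 2 h.ne6) (nrm_ne h.ne1)

theorem sub_ne {x : E} (hf : σ x = x) (h : x ≠ 0) : (⟨x, hf⟩ : ↥(fx σ)) ≠ 0 := fun e => h (congrArg Subtype.val e)

theorem Act.pb {g : L} {c1 c6 : E} (h : c.Act g c1 c6) (x : SL2 E) :
    g * c.pb x * g⁻¹ = c.pb (conjGL (dgl c1 h.ne1) x) := by
  have e : ((MulAut.conj g).toMonoidHom.comp c.pb) = c.pb.comp (conjGL (dgl c1 h.ne1)).toMonoidHom := by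
    refine hom_ext _ _ (fun a => ?_) fun b => ?_
    · change g * c.pb (up a) * g⁻¹ = c.pb (conjGL (dgl c1 h.ne1) (up a))
      rw [conjGL_dgl_up, c.pb_up, h.a1, c.pb_up]
    · change g * c.pb (lo b) * g⁻¹ = c.pb (conjGL (dgl c1 h.ne1) (lo b))
      rw [conjGL_dgl_lo, h.a7]
  exact DFunLike.congr_fun e x

theorem Act.pa {g : L} {c1 c6 : E} (h : c.Act g c1 c6) (x : SL2 ↥(fx σ)) :
    g * c.pa x * g⁻¹ = c.pa (conjGL (dgl (⟨c6, h.fix⟩ : ↥(fx σ)) (sub_ne _ h.ne6)) x) := by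
  have e : ((MulAut.conj g).toMonoidHom.comp c.pa) =
      c.pa.comp (conjGL (dgl (⟨c6, h.fix⟩ : ↥(fx σ)) (sub_ne _ h.ne6))).toMonoidHom := by
    refine hom_ext _ _ (fun a => ?_) fun b => ?_
    · change g * c.pa (up a) * g⁻¹ = c.pa (conjGL (dgl _ _) (up a))
      rw [conjGL_dgl_up, c.pa_up, h.a6 _ a.2, c.pa_up]
      rfl
    · change g * c.pa (lo b) * g⁻¹ = c.pa (conjGL (dgl _ _) (lo b))
      rw [conjGL_dgl_lo, h.a0]
  exact DFunLike.congr_fun e x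

theorem Act.p4 [Finite E] (h2 : (2 : E) ≠ 0) {g : L} {c1 c6 : E} (h : c.Act g c1 c6) (x : SL2 ↥(fx σ)) :
    g * c.p4 x * g⁻¹ = c.p4 (conjGL (dgl (⟨c6 ^ 2 * nrm σ c1, h.fix4⟩ : ↥(fx σ)) (sub_ne _ h.ne4)) x) := by
  obtain ⟨g', hg'⟩ := c.exists_act' h2 (c1 := (c1 * c6)⁻¹) (c6 := c6 ^ 2 * nrm σ c1)
    (inv_ne_zero (mul_ne_zero h.ne1 h.ne6)) h.ne4 h.fix4
  have h1 := hg'.n1.n6
  have n1 := h.ne1
  have n6 := h.ne6
  have nn := nrm_ne (σ := σ) h.ne1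
  have e1 : nrm σ (c1 * c6)⁻¹ = (nrm σ c1 * c6 ^ 3)⁻¹ := by rw [nrm_inv, nrm_mul, nrm_of_fix h.fix]
  have h3 : c.Act (c.n6 * c.n1 * g' * (c.n6 * c.n1)⁻¹) c1 c6 := by
    refine h1.congr (by group) ?_ ?_
    · rw [e1]
      field_simp
    · rw [e1]
      field_simp
  have e : g = c.n6 * c.n1 * g' * (c.n6 * c.n1)⁻¹ := h.unique h3
  have h4 := hg'.pa x
  rw [p4_apply, p4_apply, ← h4, e]
  group

/-! ### The centraliser of `X 4` -/

omit c in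
theorem nrm_mul_self_aux (s : E) : nrm σ (s ^ 2) = nrm σ s ^ 2 := by
  rw [pow_two, nrm_mul, pow_two]

variable (c)

/-- the unipotent radical of the normaliser of `X 4` -/
def Q4 : Subgroup L := Sg c.X {2, 3, 4, 5, 6}

/-- the short root `SL₂` of the roots `1, 7` -/
def K1 : Subgroup L := c.pb.range

/-- the long root `SL₂` of the roots `4, 10` -/
def K4 : Subgroup L := c.p4.range

theorem X1_le_K1 : c.X 1 ≤ c.K1 := by
  intro g hg
  obtain ⟨a, rfl⟩ := (c.par.mem1 _).1 hg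
  exact ⟨up a, c.pb_up a⟩

theorem X7_le_K1 : c.X 7 ≤ c.K1 := by
  intro g hg
  obtain ⟨a, rfl⟩ := (c.pb_lo _).1 hg
  exact ⟨lo a, rfl⟩

theorem X4_le_K4 : c.X 4 ≤ c.K4 := by
  intro g hg
  obtain ⟨a, rfl⟩ := c.mem_X4.1 hg
  exact ⟨up a, rfl⟩

theorem X10_le_K4 : c.X 10 ≤ c.K4 := by
  intro g hg
  obtain ⟨a, rfl⟩ := c.mem_X10.1 hg
  exact ⟨lo a, rfl⟩

/-- `K 1` normalises `Q 4` -/
theorem K1_Q4 {x g : L} (hx : x ∈ c.K1) (hg : g ∈ c.Q4) : x * g * x⁻¹ ∈ c.Q4 := by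
  obtain ⟨y, rfl⟩ := hx
  have h1 : ∀ a, ∀ g ∈ c.Q4, c.pb (up a) * g * (c.pb (up a))⁻¹ ∈ c.Q4 := fun a g hg =>
    c.conj_mem_Sg (k := 1) (by decide +kernel) (by rw [c.pb_up]; exact c.mem1 a) hg
  have h2 : ∀ a, ∀ g ∈ c.Q4, c.pb (lo a) * g * (c.pb (lo a))⁻¹ ∈ c.Q4 := fun a g hg =>
    c.conj_mem_Sg (k := 7) (by decide +kernel) ((c.pb_lo _).2 ⟨a, rfl⟩) hg
  obtain ⟨a, b, d, e, rfl⟩ := exists_up_lo y
  have := h1 a _ (h2 b _ (h1 d _ (h2 e g hg)))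
  rw [map_mul, map_mul, map_mul]
  convert this using 1
  group

theorem Pos_eq {g : L} (hg : g ∈ Sg c.X Pos) : ∃ x ∈ c.X 1, ∃ v ∈ c.Q4, g = x * v :=
  c.exists_mul (k := 1) (s := {2, 3, 4, 5, 6}) (by decide +kernel) hg

theorem Q4_le_Pos : c.Q4 ≤ Sg c.X Pos := Sg_mono (by decide +kernel)

omit c in
theorem idx4 : ∀ r : Fin 7,
    ((if Even r.val then (4 : ZMod (2 * 6)) + (r.val : ZMod (2 * 6)) else 7 - 4 + (r.val : ZMod (2 * 6))) = 4 →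
      r.val = 0 ∨ r.val = 1) ∧
    ((if Even r.val then (4 : ZMod (2 * 6)) - (r.val : ZMod (2 * 6)) else 7 - 4 - (r.val : ZMod (2 * 6))) = 4 →
      r.val = 0) := by decide +kernel

theorem n1_mem_K1 : c.n1 ∈ c.K1 := ⟨_, rfl⟩
theorem n4_mem_K4 : c.n4 ∈ c.K4 := ⟨_, rfl⟩

theorem isRep4 {w : L} {f : ZMod (2 * 6) → ZMod (2 * 6)} (hw : c.IsRep w f) (h4 : f 4 = 4) : w = 1 ∨ w = c.n1 := by
  obtain ⟨r, hr, ⟨rfl, rfl⟩ | ⟨rfl, rfl⟩⟩ := hw
  · rcases (idx4 ⟨r, by omega⟩).1 h4 with h | h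
    · simp only at h
      subst h
      left; rfl
    · simp only at h
      subst h
      right
      simp [alt]
  · have h := (idx4 ⟨r, by omega⟩).2 h4
    simp only at h
    subst h
    left; rfl

/-- **The centraliser of `X 4` is `Q 4 K 1`.** -/
theorem centralizer_X4 [Finite E] (h2 : (2 : E) ≠ 0) {g : L} (hg : ∀ x ∈ c.X 4, g * x = x * g) :
    ∃ q ∈ c.Q4, ∃ k ∈ c.K1, g = q * k := by
  obtain ⟨u, hu, w, f, hw, h, hh, t, ht, hft, v, hv, rfl⟩ := c.bruhat h2 g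
  have hv' : v ∈ Sg c.X Pos := Sg_mono ht hv
  obtain ⟨c1, c6, hA⟩ := hh
  -- `w h` centralises `X 4`
  have key : ∀ x ∈ c.X 4, w * h * x * (w * h)⁻¹ = x := by
    intro x hx
    have e1 := hg x hx
    have e2 := c.comm4 hv' hx
    have e3 := c.comm4 hu hx
    calc w * h * x * (w * h)⁻¹ = u⁻¹ * (u * w * h * (v * x)) * v⁻¹ * (w * h)⁻¹ * (u * u⁻¹) * u * u⁻¹ := by rw [e2]; group
      _ = u⁻¹ * (u * w * h * v * x) * v⁻¹ * (w * h)⁻¹ := by group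
      _ = u⁻¹ * (x * u) := by rw [e1]; group
      _ = x := by rw [← e3]; group
  have hx1 : c.x4 1 ∈ c.X 4 := c.mem4 (map_one σ)
  have hne : c.x4 1 ≠ 1 := fun h => one_ne_zero (c.x4_inj (map_one σ) (map_zero σ) (by rw [h, c.x4_zero]))
  have hf4 : f 4 = 4 := by
    by_contra hf
    have h3 : w * h * c.x4 1 * (w * h)⁻¹ ∈ c.X (f 4) := maps_mem (hw.maps.mul hA.maps) hx1 rfl
    rw [key _ hx1] at h3
    exact hne (c.eq_one_of_ne hf h3 hx1)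
  have hwc : w ∈ c.K1 ∧ ∀ x ∈ c.X 4, w * x * w⁻¹ = x := by
    rcases c.isRep4 hw hf4 with rfl | rfl
    · exact ⟨one_mem _, fun x _ => by group⟩
    · refine ⟨c.n1_mem_K1, fun x hx => ?_⟩
      rw [n1, c.pb_comm4 _ hx]
      group
  -- `h` centralises `X 4`
  have hh4 : h * c.x4 1 * h⁻¹ = c.x4 1 := by
    have e1 := key _ hx1
    have e2 := hwc.2 (h * c.x4 1 * h⁻¹) (maps_mem hA.maps hx1 rfl)
    calc h * c.x4 1 * h⁻¹ = w * (h * c.x4 1 * h⁻¹) * w⁻¹ := e2.symm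
      _ = w * h * c.x4 1 * (w * h)⁻¹ := by group
      _ = _ := e1
  have hhK : h ∈ c.K1 := by
    obtain ⟨s, hs, t, ht, rfl⟩ := c.exists_of_mem_T0 h2 ⟨c1, c6, hA⟩
    have hB := (c.act_b s hs).mul (c.act_a t ht)
    rw [hB.a4 1 (map_one σ)] at hh4
    have e := c.x4_inj (mul_fix hB.fix4 (map_one σ)) (map_one σ) hh4
    have ns := nrm_ne (σ := σ) hs
    have nt : (t : E) ≠ 0 := fun h => ht (Subtype.ext h)
    rw [nrm_mul, nrm_mul_self_aux, nrm_inv, nrm_of_fix t.2] at e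
    have e' : (t : E) = 1 := by
      field_simp at e
      linear_combination e
    have et : t = 1 := Subtype.ext e'
    subst et
    rw [dg_one', map_one, mul_one]
    exact ⟨_, rfl⟩
  obtain ⟨a, ha, q, hq, rfl⟩ := c.Pos_eq hv'
  obtain ⟨a', ha', q', hq', hu'⟩ := c.Pos_eq (inv_mem hu)
  obtain rfl : u = q'⁻¹ * a'⁻¹ := by rw [← mul_inv_rev, ← hu', inv_inv]
  have hk : a'⁻¹ * w * h * a ∈ c.K1 := mul_mem (mul_mem (mul_mem (inv_mem (c.X1_le_K1 ha')) hwc.1) hhK) (c.X1_le_K1 ha)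
  refine ⟨q'⁻¹ * ((a'⁻¹ * w * h * a) * q * (a'⁻¹ * w * h * a)⁻¹), mul_mem (inv_mem hq') (c.K1_Q4 hk hq), _, hk, ?_⟩
  group

end HexGrp

end Cfsg.Agent.Cit.HexBase
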