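import Cfsg.Agent.Cit.HexQ

/-!
# Groups of type `G₂` and `³D₄`: coordinates and the commutator form of `Q 4`
-/

set_option autoImplicit false

namespace Cfsg.Agent.Cit.HexBase

open Cfsg.Agent.SplitTwo Cfsg.Agent.TitsThree.RankTwoZ Cfsg.Agent.Lib.SL2Mat
  Cfsg.Agent.TitsThree.RankTwoIdx Cfsg.Agent.TitsThree.RankTwoRGD
open scoped commutatorElement Pointwise

section kk

variable {G : Type*} [Group G]

theorem kk_one_left (a : G) : kk 1 a = 1 := by unfold kk; group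
theorem kk_one_right (a : G) : kk a 1 = 1 := by unfold kk; group

theorem mul_eq_kk (a b : G) : a * b = b * a * kk a b := by unfold kk; group

theorem kk_mul_left {g g' h : G} (hc : kk g h * g' = g' * kk g h) : kk (g * g') h = kk g h * kk g' h := by
  have e : kk (g * g') h = g'⁻¹ * (kk g h * g') * kk g' h := by unfold kk; group
  rw [e, hc]
  group

theorem kk_mul_right {g h h' : G} (hc : kk g h * h' = h' * kk g h) : kk g (h * h') = kk g h' * kk g h := by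
  have e : kk g (h * h') = kk g h' * (h'⁻¹ * (kk g h * h')) := by unfold kk; group
  rw [e, hc]
  group

theorem kk_inv (a b : G) : kk b a = (kk a b)⁻¹ := by unfold kk; group

theorem kk_eq_one_symm {a b : G} (h : kk a b = 1) : kk b a = 1 := by rw [kk_inv, h, inv_one]

end kk

namespace HexGrp

universe u

variable {E : Type*} [Field E] {σ : E ≃+* E} {L : Type u} [Group L] (c : HexGrp σ L)

/-- `g = x2 b2 * x3 b3 * x4 b4 * x5 b5 * x6 b6` for some `b4` -/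
def NF (g : L) (b2 b3 b5 b6 : E) : Prop :=
  σ b2 = b2 ∧ σ b6 = b6 ∧ ∃ b4, σ b4 = b4 ∧ g = c.x2 b2 * c.x3 b3 * c.x4 b4 * c.x5 b5 * c.x6 b6

variable {c}

theorem NF.mem {g : L} {b2 b3 b5 b6 : E} (h : c.NF g b2 b3 b5 b6) : g ∈ c.Q4 := by
  obtain ⟨f2, f6, b4, f4, rfl⟩ := h
  exact mul_mem (mul_mem (mul_mem (mul_mem (c.sg (by decide) (c.mem2 f2)) (c.sg (by decide) (c.mem3 b3)))
    (c.sg (by decide) (c.mem4 f4))) (c.sg (by decide) (c.mem5 b5))) (c.sg (by decide) (c.mem6 f6))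

variable (c)

theorem exists_Q4 {g : L} (hg : g ∈ c.Q4) : ∃ a2 ∈ c.X 2, ∃ a3 ∈ c.X 3, ∃ a4 ∈ c.X 4, ∃ a5 ∈ c.X 5, ∃ a6 ∈ c.X 6,
    g = a2 * a3 * a4 * a5 * a6 := by
  have hv1 : g ∈ Sg c.X (insert 2 {3, 4, 5, 6}) := hg
  obtain ⟨a2, h2, v2, hv2, rfl⟩ := c.exists_mul (k := 2) (s := {3, 4, 5, 6}) (by decide +kernel) hv1
  obtain ⟨a3, h3, v3, hv3, rfl⟩ := c.exists_mul (k := 3) (s := {4, 5, 6}) (by decide +kernel) hv2
  obtain ⟨a4, h4, v4, hv4, rfl⟩ := c.exists_mul (k := 4) (s := {5, 6}) (by decide +kernel) hv3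
  obtain ⟨a5, h5, v5, hv5, rfl⟩ := c.exists_mul (k := 5) (s := {6}) (by decide +kernel) hv4
  refine ⟨a2, h2, a3, h3, a4, h4, a5, h5, v5, ?_, by group⟩
  have : Sg c.X {6} ≤ c.X 6 := Sg_le fun k hk => by rw [Finset.mem_singleton.1 hk]
  exact this hv5

theorem exists_NF {g : L} (hg : g ∈ c.Q4) : ∃ b2 b3 b5 b6, c.NF g b2 b3 b5 b6 := by
  obtain ⟨a2, h2, a3, h3, a4, h4, a5, h5, a6, h6, rfl⟩ := c.exists_Q4 hg
  obtain ⟨b2, f2, rfl⟩ := (c.par.mem2 _).1 h2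
  obtain ⟨b3, rfl⟩ := (c.par.mem3 _).1 h3
  obtain ⟨b4, f4, rfl⟩ := (c.par.mem4 _).1 h4
  obtain ⟨b5, rfl⟩ := (c.par.mem5 _).1 h5
  obtain ⟨b6, f6, rfl⟩ := (c.par.mem6 _).1 h6
  exact ⟨b2, b3, b5, b6, f2, f6, b4, f4, rfl⟩

variable {c}

theorem NF.unique' {b2 b3 b4 b5 b6 d2 d3 d4 d5 d6 : E} (f2 : σ b2 = b2) (f4 : σ b4 = b4) (f6 : σ b6 = b6)
    (g2 : σ d2 = d2) (g4 : σ d4 = d4) (g6 : σ d6 = d6)
    (e : c.x2 b2 * c.x3 b3 * c.x4 b4 * c.x5 b5 * c.x6 b6 = c.x2 d2 * c.x3 d3 * c.x4 d4 * c.x5 d5 * c.x6 d6) :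
    b2 = d2 ∧ b3 = d3 ∧ b4 = d4 ∧ b5 = d5 ∧ b6 = d6 := by
  have h := c.uniq16 (c.mem1 0) (c.mem2 f2) (c.mem3 b3) (c.mem4 f4) (c.mem5 b5) (c.mem6 f6)
    (c.mem1 0) (c.mem2 g2) (c.mem3 d3) (c.mem4 g4) (c.mem5 d5) (c.mem6 g6) (by
      rw [c.x1_zero, one_mul, one_mul]
      exact e)
  obtain ⟨-, k2, k3, k4, k5, k6⟩ := h
  exact ⟨c.x2_inj f2 g2 k2, c.x3_inj k3, c.x4_inj f4 g4 k4, c.x5_inj k5, c.x6_inj f6 g6 k6⟩

theorem NF.unique {g : L} {b2 b3 b5 b6 d2 d3 d5 d6 : E} (h : c.NF g b2 b3 b5 b6) (h' : c.NF g d2 d3 d5 d6) :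
    b2 = d2 ∧ b3 = d3 ∧ b5 = d5 ∧ b6 = d6 := by
  obtain ⟨f2, f6, b4, f4, e⟩ := h
  obtain ⟨g2, g6, d4, g4, e'⟩ := h'
  obtain ⟨k2, k3, -, k5, k6⟩ := NF.unique' f2 f4 f6 g2 g4 g6 (e.symm.trans e')
  exact ⟨k2, k3, k5, k6⟩

theorem NF.congr {g g' : L} {b2 b3 b5 b6 d2 d3 d5 d6 : E} (h : c.NF g b2 b3 b5 b6) (e : g = g') (e2 : b2 = d2)
    (e3 : b3 = d3) (e5 : b5 = d5) (e6 : b6 = d6) : c.NF g' d2 d3 d5 d6 := by
  subst e e2 e3 e5 e6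
  exact h

variable (c)

theorem nf2 {t : E} (ht : σ t = t) : c.NF (c.x2 t) t 0 0 0 :=
  ⟨ht, map_zero σ, 0, map_zero σ, by rw [c.x3_zero, c.x4_zero, c.x5_zero, c.x6_zero]; group⟩
theorem nf3 (t : E) : c.NF (c.x3 t) 0 t 0 0 :=
  ⟨map_zero σ, map_zero σ, 0, map_zero σ, by rw [c.x2_zero, c.x4_zero, c.x5_zero, c.x6_zero]; group⟩
theorem nf4 {t : E} (ht : σ t = t) : c.NF (c.x4 t) 0 0 0 0 :=
  ⟨map_zero σ, map_zero σ, t, ht, by rw [c.x2_zero, c.x3_zero, c.x5_zero, c.x6_zero]; group⟩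
theorem nf5 (t : E) : c.NF (c.x5 t) 0 0 t 0 :=
  ⟨map_zero σ, map_zero σ, 0, map_zero σ, by rw [c.x2_zero, c.x3_zero, c.x4_zero, c.x6_zero]; group⟩
theorem nf6 {t : E} (ht : σ t = t) : c.NF (c.x6 t) 0 0 0 t :=
  ⟨map_zero σ, ht, 0, map_zero σ, by rw [c.x2_zero, c.x3_zero, c.x4_zero, c.x5_zero]; group⟩

theorem add_fix {a b : E} (ha : σ a = a) (hb : σ b = b) : σ (a + b) = a + b := by rw [map_add, ha, hb]

theorem x4_comm {g : L} (hg : g ∈ c.Q4) {t : E} (ht : σ t = t) : g * c.x4 t = c.x4 t * g :=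
  c.Q4_le_cent hg (c.mem4 ht)

variable {c}

theorem NF.mul2 {g : L} {b2 b3 b5 b6 t : E} (ht : σ t = t) (h : c.NF g b2 b3 b5 b6) :
    c.NF (c.x2 t * g) (t + b2) b3 b5 b6 := by
  obtain ⟨f2, f6, b4, f4, rfl⟩ := h
  refine ⟨add_fix ht f2, f6, b4, f4, ?_⟩
  rw [c.x2_add ht f2]
  group

theorem NF.mul3 {g : L} {b2 b3 b5 b6 : E} (t : E) (h : c.NF g b2 b3 b5 b6) :
    c.NF (c.x3 t * g) b2 (t + b3) b5 b6 := by
  obtain ⟨f2, f6, b4, f4, rfl⟩ := h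
  refine ⟨f2, f6, b4, f4, ?_⟩
  rw [c.x3_add]
  have h1 := eq_of_kk (c.par.rel.c23 b2 t f2)
  calc c.x3 t * (c.x2 b2 * c.x3 b3 * c.x4 b4 * c.x5 b5 * c.x6 b6)
      = (c.x3 t * c.x2 b2) * c.x3 b3 * c.x4 b4 * c.x5 b5 * c.x6 b6 := by group
    _ = _ := by rw [← h1]; group

theorem NF.mul4 {g : L} {b2 b3 b5 b6 t : E} (ht : σ t = t) (h : c.NF g b2 b3 b5 b6) :
    c.NF (c.x4 t * g) b2 b3 b5 b6 := by
  obtain ⟨f2, f6, b4, f4, rfl⟩ := h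
  refine ⟨f2, f6, t + b4, add_fix ht f4, ?_⟩
  rw [c.x4_add ht f4]
  have h1 := c.x4_comm (g := c.x2 b2 * c.x3 b3)
    (mul_mem (c.sg (by decide) (c.mem2 f2)) (c.sg (by decide) (c.mem3 b3))) ht
  calc c.x4 t * (c.x2 b2 * c.x3 b3 * c.x4 b4 * c.x5 b5 * c.x6 b6)
      = (c.x4 t * (c.x2 b2 * c.x3 b3)) * c.x4 b4 * c.x5 b5 * c.x6 b6 := by group
    _ = _ := by rw [← h1]; group

theorem NF.mul5 {g : L} {b2 b3 b5 b6 : E} (t : E) (h : c.NF g b2 b3 b5 b6) :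
    c.NF (c.x5 t * g) b2 b3 (t + b5) b6 := by
  obtain ⟨f2, f6, b4, f4, rfl⟩ := h
  have ht := trc_fix c.cube b3 t
  refine ⟨f2, f6, -trc σ b3 t + b4, add_fix (neg_fix ht) f4, ?_⟩
  rw [c.x5_add, c.x4_add (neg_fix ht) f4, c.x4_neg ht]
  have h1 := eq_of_kk (c.par.rel.c25 b2 t f2)
  have h3 := c.par.rel.c35 b3 t
  have h4 := eq_of_kk (c.par.rel.c45 b4 t f4)
  have h6 : c.x5 t * c.x3 b3 = c.x3 b3 * c.x5 t * (c.x4 (trc σ b3 t))⁻¹ := by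
    rw [← h3, ← kk_inv, ← mul_eq_kk]
  have h7 := c.x4_comm (g := c.x5 t) (c.sg (by decide) (c.mem5 t)) ht
  have h8 : c.x5 t * (c.x4 (trc σ b3 t))⁻¹ = (c.x4 (trc σ b3 t))⁻¹ * c.x5 t := by
    rw [← c.x4_neg ht]
    exact c.x4_comm (c.sg (by decide) (c.mem5 t)) (neg_fix ht)
  calc c.x5 t * (c.x2 b2 * c.x3 b3 * c.x4 b4 * c.x5 b5 * c.x6 b6)
      = (c.x5 t * c.x2 b2) * c.x3 b3 * c.x4 b4 * c.x5 b5 * c.x6 b6 := by group
    _ = c.x2 b2 * (c.x5 t * c.x3 b3) * c.x4 b4 * c.x5 b5 * c.x6 b6 := by rw [← h1]; group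
    _ = c.x2 b2 * c.x3 b3 * (c.x5 t * (c.x4 (trc σ b3 t))⁻¹) * c.x4 b4 * c.x5 b5 * c.x6 b6 := by rw [h6]; group
    _ = c.x2 b2 * c.x3 b3 * (c.x4 (trc σ b3 t))⁻¹ * (c.x5 t * c.x4 b4) * c.x5 b5 * c.x6 b6 := by rw [h8]; group
    _ = _ := by rw [← h4]; group

theorem NF.mul6 {g : L} {b2 b3 b5 b6 t : E} (ht : σ t = t) (h : c.NF g b2 b3 b5 b6) :
    c.NF (c.x6 t * g) b2 b3 b5 (t + b6) := by
  obtain ⟨f2, f6, b4, f4, rfl⟩ := h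
  have hf := mul_fix f2 ht
  refine ⟨f2, add_fix ht f6, -(b2 * t) + b4, add_fix (neg_fix hf) f4, ?_⟩
  rw [c.x6_add ht f6, c.x4_add (neg_fix hf) f4]
  have h2 := c.par.rel.c26 b2 t f2 ht
  have h3 := eq_of_kk (c.par.rel.c36 b3 t ht)
  have h4 := eq_of_kk (c.par.rel.c46 b4 t f4 ht)
  have h5 := eq_of_kk (c.par.rel.c56 b5 t ht)
  have h6 : c.x6 t * c.x2 b2 = c.x2 b2 * c.x6 t * c.x4 (-(b2 * t)) := by
    rw [c.x4_neg hf, ← h2, ← kk_inv, ← mul_eq_kk]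
  have h7 := c.x4_comm (g := c.x6 t * c.x3 b3)
    (mul_mem (c.sg (by decide) (c.mem6 ht)) (c.sg (by decide) (c.mem3 b3))) (neg_fix hf)
  calc c.x6 t * (c.x2 b2 * c.x3 b3 * c.x4 b4 * c.x5 b5 * c.x6 b6)
      = (c.x6 t * c.x2 b2) * c.x3 b3 * c.x4 b4 * c.x5 b5 * c.x6 b6 := by group
    _ = c.x2 b2 * c.x6 t * (c.x4 (-(b2 * t)) * c.x3 b3) * c.x4 b4 * c.x5 b5 * c.x6 b6 := by rw [h6]; group
    _ = c.x2 b2 * (c.x6 t * c.x3 b3 * c.x4 (-(b2 * t))) * c.x4 b4 * c.x5 b5 * c.x6 b6 := by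
      rw [← c.x4_comm (g := c.x3 b3) (c.sg (by decide) (c.mem3 b3)) (neg_fix hf)]; group
    _ = c.x2 b2 * (c.x3 b3 * c.x6 t) * c.x4 (-(b2 * t)) * c.x4 b4 * c.x5 b5 * c.x6 b6 := by rw [h3]; group
    _ = c.x2 b2 * c.x3 b3 * (c.x6 t * c.x4 (-(b2 * t))) * c.x4 b4 * c.x5 b5 * c.x6 b6 := by group
    _ = c.x2 b2 * c.x3 b3 * c.x4 (-(b2 * t)) * (c.x6 t * c.x4 b4) * c.x5 b5 * c.x6 b6 := by
      rw [c.x4_comm (g := c.x6 t) (c.sg (by decide) (c.mem6 ht)) (neg_fix hf)]; group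
    _ = c.x2 b2 * c.x3 b3 * c.x4 (-(b2 * t)) * c.x4 b4 * (c.x6 t * c.x5 b5) * c.x6 b6 := by rw [← h4]; group
    _ = _ := by rw [← h5]; group

theorem NF.mul {g h : L} {b2 b3 b5 b6 d2 d3 d5 d6 : E} (hg : c.NF g b2 b3 b5 b6) (hh : c.NF h d2 d3 d5 d6) :
    c.NF (g * h) (b2 + d2) (b3 + d3) (b5 + d5) (b6 + d6) := by
  obtain ⟨f2, f6, b4, f4, rfl⟩ := hg
  exact ((((hh.mul6 f6).mul5 b5).mul4 f4).mul3 b3).mul2 f2 |>.congr (by group) rfl rfl rfl rfl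

theorem NF.one : c.NF 1 0 0 0 0 := by
  have := c.nf2 (map_zero σ)
  rwa [c.x2_zero] at this

theorem NF.inv {g : L} {b2 b3 b5 b6 : E} (hg : c.NF g b2 b3 b5 b6) : c.NF g⁻¹ (-b2) (-b3) (-b5) (-b6) := by
  obtain ⟨d2, d3, d5, d6, h⟩ := c.exists_NF (inv_mem hg.mem)
  have h1 := hg.mul h
  rw [mul_inv_cancel] at h1
  obtain ⟨e2, e3, e5, e6⟩ := h1.unique NF.one
  exact h.congr rfl (eq_neg_of_add_eq_zero_right e2) (eq_neg_of_add_eq_zero_right e3)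
    (eq_neg_of_add_eq_zero_right e5) (eq_neg_of_add_eq_zero_right e6)

/-! ### Conjugation by `X 1` -/

theorem conj1_x {x y : L} (s : E) (e : kk (c.x1 s) x = y) : (c.x1 s)⁻¹ * x * c.x1 s = x * y⁻¹ := by
  rw [← e]
  unfold kk
  group

theorem NF.conj1 {g : L} {b2 b3 b5 b6 : E} (s : E) (h : c.NF g b2 b3 b5 b6) :
    c.NF ((c.x1 s)⁻¹ * g * c.x1 s) (b2 - trc σ s b3 + trc σ (shp σ s) b5 + b6 * nrm σ s)
      (b3 - crs σ s b5 - b6 * shp σ s) (b5 + b6 * s) b6 := by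
  obtain ⟨f2, f6, b4, f4, rfl⟩ := h
  have k2 : (c.x1 s)⁻¹ * c.x2 b2 * c.x1 s = c.x2 b2 := by
    rw [conj1_x s (c.par.rel.c12 s b2 f2), inv_one, mul_one]
  have k4 : (c.x1 s)⁻¹ * c.x4 b4 * c.x1 s = c.x4 b4 := by
    rw [conj1_x s (c.par.rel.c14 s b4 f4), inv_one, mul_one]
  have k3 := conj1_x s (c.par.rel.c13 s b3)
  have k5 := conj1_x s (c.par.rel.c15 s b5)
  have k6 := conj1_x s (c.par.rel.c16 s b6 f6)
  have ft := trc_fix c.cube s b3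
  have ft' := trc_fix c.cube (shp σ s) b5
  have ft4 := trc_fix c.cube s (shp σ b5)
  have fn := c.nf s
  have m3 : c.NF ((c.x1 s)⁻¹ * c.x3 b3 * c.x1 s) (-trc σ s b3) b3 0 0 := by
    rw [k3]
    exact ((c.nf3 b3).mul (c.nf2 ft).inv).congr rfl (by ring) (by ring) (by ring) (by ring)
  have m5 : c.NF ((c.x1 s)⁻¹ * c.x5 b5 * c.x1 s) (trc σ (shp σ s) b5) (-crs σ s b5) b5 0 := by
    rw [k5]
    exact ((c.nf5 b5).mul (((c.nf2 (neg_fix ft')).mul (c.nf3 (crs σ s b5))).mul (c.nf4 ft4)).inv).congr rfl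
      (by ring) (by ring) (by ring) (by ring)
  have m6 : c.NF ((c.x1 s)⁻¹ * c.x6 b6 * c.x1 s) (b6 * nrm σ s) (-(b6 * shp σ s)) (b6 * s) b6 := by
    rw [k6]
    exact ((c.nf6 f6).mul ((((c.nf2 (neg_fix (mul_fix f6 fn))).mul (c.nf3 (b6 * shp σ s))).mul
      (c.nf4 (mul_fix (by rw [map_pow, f6]) fn))).mul (c.nf5 (-(b6 * s)))).inv).congr rfl
      (by ring) (by ring) (by ring) (by ring)
  have m2 : c.NF ((c.x1 s)⁻¹ * c.x2 b2 * c.x1 s) b2 0 0 0 := by rw [k2]; exact c.nf2 f2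
  have m4 : c.NF ((c.x1 s)⁻¹ * c.x4 b4 * c.x1 s) 0 0 0 0 := by rw [k4]; exact c.nf4 f4
  exact ((((m2.mul m3).mul m4).mul m5).mul m6).congr (by group) (by ring) (by ring) (by ring) (by ring)

theorem NF.kk1 {g : L} {b2 b3 b5 b6 : E} (s : E) (h : c.NF g b2 b3 b5 b6) :
    c.NF (kk (c.x1 s) g) (trc σ s b3 - trc σ (shp σ s) b5 - b6 * nrm σ s)
      (crs σ s b5 + b6 * shp σ s) (-(b6 * s)) 0 := by
  have e : kk (c.x1 s) g = ((c.x1 s)⁻¹ * g * c.x1 s)⁻¹ * g := by unfold kk; group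
  rw [e]
  exact ((h.conj1 s).inv.mul h).congr rfl (by ring) (by ring) (by ring) (by ring)

/-! ### The form -/

variable (c)

theorem kk_comm_x4 {g h : L} {v : E} (hv : σ v = v) (e : kk g h = c.x4 v) {g' : L} (hg' : g' ∈ c.Q4) :
    kk g h * g' = g' * kk g h := by
  rw [e]
  exact (c.x4_comm hg' hv).symm

variable {c}

theorem form_mul_left {g g' h : L} {v v' : E} (hv : σ v = v) (hv' : σ v' = v') (e : kk g h = c.x4 v)
    (e' : kk g' h = c.x4 v') (hg' : g' ∈ c.Q4) : kk (g * g') h = c.x4 (v + v') := by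
  rw [kk_mul_left (c.kk_comm_x4 hv e hg'), e, e', c.x4_add hv hv']

theorem form_mul_right {g h h' : L} {v v' : E} (hv : σ v = v) (hv' : σ v' = v') (e : kk g h = c.x4 v)
    (e' : kk g h' = c.x4 v') (hh' : h' ∈ c.Q4) : kk g (h * h') = c.x4 (v + v') := by
  rw [kk_mul_right (c.kk_comm_x4 hv e hh'), e, e', ← c.x4_add hv' hv, add_comm]

theorem form_neg {g h : L} {v : E} (hv : σ v = v) (e : kk g h = c.x4 v) : kk h g = c.x4 (-v) := by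
  rw [kk_inv, e, c.x4_neg hv]

theorem q2 {b : E} (h : σ b = b) : c.x2 b ∈ c.Q4 := (c.nf2 h).mem
theorem q3 (b : E) : c.x3 b ∈ c.Q4 := (c.nf3 b).mem
theorem q4 {b : E} (h : σ b = b) : c.x4 b ∈ c.Q4 := (c.nf4 h).mem
theorem q5 (b : E) : c.x5 b ∈ c.Q4 := (c.nf5 b).mem
theorem q6 {b : E} (h : σ b = b) : c.x6 b ∈ c.Q4 := (c.nf6 h).mem

theorem kk_self {G : Type*} [Group G] {a b : G} (h : a * b = b * a) : kk a b = 1 := by
  unfold kk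
  rw [mul_assoc, h]
  group

theorem kk22 {a b : E} (ha : σ a = a) (hb : σ b = b) : kk (c.x2 a) (c.x2 b) = 1 :=
  kk_self (by rw [← c.x2_add ha hb, ← c.x2_add hb ha, add_comm])
theorem kk33 (a b : E) : kk (c.x3 a) (c.x3 b) = 1 :=
  kk_self (by rw [← c.x3_add, ← c.x3_add, add_comm])
theorem kk55 (a b : E) : kk (c.x5 a) (c.x5 b) = 1 :=
  kk_self (by rw [← c.x5_add, ← c.x5_add, add_comm])
theorem kk66 {a b : E} (ha : σ a = a) (hb : σ b = b) : kk (c.x6 a) (c.x6 b) = 1 :=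
  kk_self (by rw [← c.x6_add ha hb, ← c.x6_add hb ha, add_comm])

theorem form_right {g : L} (hg : g ∈ c.Q4) {v2 v3 v5 v6 : E} (f2' : σ v2 = v2) (f3' : σ v3 = v3) (f5' : σ v5 = v5)
    (f6' : σ v6 = v6) {b2 b3 b4 b5 b6 : E} (f4 : σ b4 = b4) (f6 : σ b6 = b6)
    (e2 : kk g (c.x2 b2) = c.x4 v2) (e3 : kk g (c.x3 b3) = c.x4 v3) (e5 : kk g (c.x5 b5) = c.x4 v5)
    (e6 : kk g (c.x6 b6) = c.x4 v6) :
    kk g (c.x2 b2 * c.x3 b3 * c.x4 b4 * c.x5 b5 * c.x6 b6) = c.x4 (v2 + v3 + v5 + v6) := by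
  have e4 : kk g (c.x4 b4) = c.x4 0 := by
    rw [c.x4_zero]
    exact kk_self (c.x4_comm hg f4)
  have z0 := map_zero σ
  have k23 := form_mul_right f2' f3' e2 e3 (q3 b3)
  have k4 := form_mul_right (add_fix f2' f3') z0 k23 e4 (q4 f4)
  have k5 := form_mul_right (add_fix (add_fix f2' f3') z0) f5' k4 e5 (q5 b5)
  have k6 := form_mul_right (add_fix (add_fix (add_fix f2' f3') z0) f5') f6' k5 e6 (q6 f6)
  rw [k6, add_zero]

/-- **the commutator form of `Q 4`** -/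
theorem NF.form {g h : L} {b2 b3 b5 b6 d2 d3 d5 d6 : E} (hg : c.NF g b2 b3 b5 b6) (hh : c.NF h d2 d3 d5 d6) :
    kk g h = c.x4 (b2 * d6 + trc σ b3 d5 - trc σ d3 b5 - d2 * b6) := by
  obtain ⟨f2, f6, b4, f4, rfl⟩ := hg
  obtain ⟨g2, g6, d4, g4, rfl⟩ := hh
  have z0 := map_zero σ
  have hc := c.cube
  have o : ∀ {x : L}, x = 1 → x = c.x4 0 := fun h => by rw [h, c.x4_zero]
  have r := c.par.rel
  have k2 := form_right (g := c.x2 b2) (q2 f2) z0 z0 z0 (mul_fix f2 g6) g4 g6 (o (kk22 f2 g2)) (o (r.c23 b2 d3 f2))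
    (o (r.c25 b2 d5 f2)) (r.c26 b2 d6 f2 g6)
  have k3 := form_right (g := c.x3 b3) (q3 b3) z0 z0 (trc_fix hc b3 d5) z0 g4 g6
    (o (kk_eq_one_symm (r.c23 d2 b3 g2))) (o (kk33 b3 d3)) (r.c35 b3 d5) (o (r.c36 b3 d6 g6))
  have k5 := form_right (g := c.x5 b5) (q5 b5) z0 (neg_fix (trc_fix hc d3 b5)) z0 z0 g4 g6
    (o (kk_eq_one_symm (r.c25 d2 b5 g2))) (form_neg (trc_fix hc d3 b5) (r.c35 d3 b5)) (o (kk55 b5 d5))
    (o (r.c56 b5 d6 g6))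
  have k6 := form_right (g := c.x6 b6) (q6 f6) (neg_fix (mul_fix g2 f6)) z0 z0 z0 g4 g6
    (form_neg (mul_fix g2 f6) (r.c26 d2 b6 g2 f6)) (o (kk_eq_one_symm (r.c36 d3 b6 f6)))
    (o (kk_eq_one_symm (r.c56 d5 b6 f6))) (o (kk66 f6 g6))
  have k4 : kk (c.x4 b4) (c.x2 d2 * c.x3 d3 * c.x4 d4 * c.x5 d5 * c.x6 d6) = c.x4 0 := by
    rw [c.x4_zero]
    refine kk_self (c.x4_comm ?_ f4).symm
    exact NF.mem (b2 := d2) (b3 := d3) (b5 := d5) (b6 := d6) ⟨g2, g6, d4, g4, rfl⟩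
  have t2 := form_mul_left (by simp only [add_zero, zero_add]; exact mul_fix f2 g6)
    (by simp only [add_zero, zero_add]; exact trc_fix hc b3 d5) k2 k3 (q3 b3)
  have t3 := form_mul_left (by simp only [add_zero, zero_add]; exact add_fix (mul_fix f2 g6) (trc_fix hc b3 d5))
    z0 t2 k4 (q4 f4)
  have t4 := form_mul_left (by simp only [add_zero, zero_add]; exact add_fix (mul_fix f2 g6) (trc_fix hc b3 d5))
    (by simp only [add_zero, zero_add]; exact neg_fix (trc_fix hc d3 b5)) t3 k5 (q5 b5)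
  have t5 := form_mul_left (by
      simp only [add_zero, zero_add]
      exact add_fix (add_fix (mul_fix f2 g6) (trc_fix hc b3 d5)) (neg_fix (trc_fix hc d3 b5)))
    (by simp only [add_zero, zero_add]; exact neg_fix (mul_fix g2 f6)) t4 k6 (q6 f6)
  rw [t5]
  congr 1
  ring

end HexGrp

end Cfsg.Agent.Cit.HexBase
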