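import Cfsg.Agent.Cit.HexFactBMain

/-!
# `G₂(q)`, `³D₄(q)` : the two members over an involution

`Mem L K w`, `Mem L K' w`, `K ≠ K'` (`L` of type `G₂(q)`, `³D₄(q)`, `q` odd):
* `Pair.gen` : a subgroup containing all `g K g⁻¹`, `g K' g⁻¹` with `g w g⁻¹` commuting with `w` is `L`;
* `Pair.fac` : `TwoFac L K K' w`.
-/

set_option autoImplicit false
set_option linter.style.haveILetI false

namespace Cfsg.Agent.Cit.HexBase

open Cfsg.Agent.SplitTwo Cfsg.Agent.TitsThree.RankTwoZ Cfsg.Agent.Lib.SL2Mat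
open Cfsg.Agent.Cit.AutFacts Cfsg.Agent.Cit.TwoB Subgroup

/-- the conclusions for the pair `K`, `K'` -/
structure Pair (L : Type*) [Group L] (K K' : Subgroup L) (w : L) : Prop where
  fac : TwoFac L K K' w
  nml : ∀ x, x * w = w * x → ∀ y ∈ K, x * y * x⁻¹ ∈ K
  gen : ∀ N : Subgroup L, (∀ g, (g * w * g⁻¹) * w = w * (g * w * g⁻¹) → cj g K ≤ N ∧ cj g K' ≤ N) → N = ⊤

theorem cj_equiv {L L' : Type*} [Group L] [Group L'] (e : L ≃* L') (g : L') (K : Subgroup L) :
    cj g (K.map e.toMonoidHom) = (cj (e.symm g) K).map e.toMonoidHom := by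
  ext x
  rw [mem_cj, mem_map_iff, mem_map_iff, mem_cj]
  rw [map_mul, map_mul, map_inv]

theorem Pair.equiv {L L' : Type*} [Group L] [Group L'] [Finite L] (e : L ≃* L') {K K' : Subgroup L} {w : L}
    (h : Pair L K K' w) : Pair L' (K.map e.toMonoidHom) (K'.map e.toMonoidHom) (e w) where
  fac := twoFac_equiv e h.fac
  nml x hx y hy := by
    rw [mem_map_iff] at hy ⊢
    rw [map_mul, map_mul, map_inv]
    refine h.nml _ ?_ _ hy
    apply e.injective
    rw [map_mul, map_mul, e.apply_symm_apply, hx]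
  gen N hN := by
    have h1 := h.gen (N.comap e.toMonoidHom) fun g hg => by
      have h2 := hN (e g) (by
        have h3 := congrArg e hg
        simpa only [map_mul, map_inv] using h3)
      rw [cj_equiv, cj_equiv, e.symm_apply_apply, Subgroup.map_le_iff_le_comap, Subgroup.map_le_iff_le_comap] at h2
      exact h2
    rw [eq_top_iff]
    intro x _
    have h2 : e.symm x ∈ N.comap e.toMonoidHom := by rw [h1]; exact mem_top _
    rw [mem_comap] at h2
    change e (e.symm x) ∈ N at h2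
    rwa [e.apply_symm_apply] at h2

namespace HexGrp

variable {E : Type*} [Field E] {σ : E ≃+* E} {L : Type*} [Group L] (c : HexGrp σ L)

theorem rot_T0 (r : ℕ) {h : L} (hh : h ∈ c.T0) : (c.n1 * c.n6) ^ r * h * ((c.n1 * c.n6) ^ r)⁻¹ ∈ c.T0 := by
  induction r generalizing h with
  | zero => simpa using hh
  | succ r ih =>
    have h1 := ih (c.n1_T0 (c.n6_T0 hh))
    have e : (c.n1 * c.n6) ^ (r + 1) * h * ((c.n1 * c.n6) ^ (r + 1))⁻¹ =
        (c.n1 * c.n6) ^ r * (c.n1 * (c.n6 * h * c.n6⁻¹) * c.n1⁻¹) * ((c.n1 * c.n6) ^ r)⁻¹ := by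
      rw [pow_succ]; group
    rw [e]
    exact h1

/-- generation -/
theorem gen_rot {N : Subgroup L}
    (h : ∀ g, (g * c.z * g⁻¹) * c.z = c.z * (g * c.z * g⁻¹) → cj g c.K1 ≤ N ∧ cj g c.K4 ≤ N) : N = ⊤ := by
  rw [eq_top_iff, ← c.gen]
  refine iSup_le fun k => ?_
  have key : ∀ r : ℕ, cj ((c.n1 * c.n6) ^ r) c.K1 ≤ N ∧ cj ((c.n1 * c.n6) ^ r) c.K4 ≤ N := fun r =>
    h _ (c.T0_comm (c.rot_T0 r c.z_mem_T0) c.z_mem_T0)
  obtain ⟨r, rfl | rfl⟩ := idx_rot k
  · intro x hx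
    refine (key r.val).1 ?_
    rw [mem_cj]
    refine c.X1_le_K1 ?_
    rw [← c.maps_rot r.val]
    convert hx using 1
    group
  · intro x hx
    refine (key (r.val + 1)).2 ?_
    rw [mem_cj]
    refine c.X4_le_K4 ?_
    rw [← c.maps_rot (r.val + 1)]
    beta_reduce
    have e1 : (4 : ZMod (2 * 6)) + 2 * ((r.val + 1 : ℕ) : ZMod (2 * 6)) = 6 + 2 * (r.val : ZMod (2 * 6)) := by
      push_cast
      ring
    have e2 : (c.n1 * c.n6) ^ (r.val + 1) * (((c.n1 * c.n6) ^ (r.val + 1))⁻¹ * x * (c.n1 * c.n6) ^ (r.val + 1)) *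
        ((c.n1 * c.n6) ^ (r.val + 1))⁻¹ = x := by group
    rw [e1, e2]
    exact hx

theorem pair14 [Finite L] [Finite E] (h2 : (2 : E) ≠ 0)
    (hone : ∀ s t : L, s * s = 1 → s ≠ 1 → t * t = 1 → t ≠ 1 → ∃ g, g * s * g⁻¹ = t) : Pair L c.K1 c.K4 c.z where
  fac := c.twoFac14 h2 hone
  nml _ hx _ hy := c.nml1 h2 hx hy
  gen _ hN := c.gen_rot hN

theorem pair41 [Finite L] [Finite E] (h2 : (2 : E) ≠ 0)
    (hone : ∀ s t : L, s * s = 1 → s ≠ 1 → t * t = 1 → t ≠ 1 → ∃ g, g * s * g⁻¹ = t) : Pair L c.K4 c.K1 c.z where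
  fac := c.twoFac41 h2 hone
  nml _ hx _ hy := c.nml4 h2 hx hy
  gen _ hN := c.gen_rot fun g hg => (hN g hg).symm

universe u

theorem pair {L : Type u} [Group L] (c : HexGrp σ L) [Finite L] [Finite E] (h2 : (2 : E) ≠ 0) {K K' : Subgroup L}
    {w : L} (hK : Mem L K w) (hK' : Mem L K' w) (hne : K ≠ K') : Pair L K K' w := by
  obtain ⟨g, hg⟩ := c.hone h2 w c.z hK.sq hK.ne c.z_sq (c.z_ne h2)
  have k := hK.equiv (MulAut.conj g)
  have k' := hK'.equiv (MulAut.conj g)
  have eg : (MulAut.conj g) w = c.z := by rw [MulAut.conj_apply, hg]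
  rw [eg] at k k'
  have back : ∀ K : Subgroup L,
      (K.map (MulAut.conj g : L ≃* L).toMonoidHom).map (MulAut.conj g⁻¹ : L ≃* L).toMonoidHom = K := by
    intro K
    rw [Subgroup.map_map]
    convert Subgroup.map_id K using 2
    ext x
    change g⁻¹ * (g * x * g⁻¹) * g⁻¹⁻¹ = x
    group
  have key : Pair L (K.map (MulAut.conj g : L ≃* L).toMonoidHom) (K'.map (MulAut.conj g : L ≃* L).toMonoidHom)
      c.z := by
    have hne' : K.map (MulAut.conj g : L ≃* L).toMonoidHom ≠ K'.map (MulAut.conj g : L ≃* L).toMonoidHom := by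
      intro e
      apply hne
      rw [← back K, e, back K']
    rcases c.eq_K1_or_eq_K4 h2 k.ty k.le k.sub with e | e <;>
      rcases c.eq_K1_or_eq_K4 h2 k'.ty k'.le k'.sub with e' | e'
    · exact absurd (e.trans e'.symm) hne'
    · rw [e, e']
      exact c.pair14 h2 (c.hone h2)
    · rw [e, e']
      exact c.pair41 h2 (c.hone h2)
    · exact absurd (e.trans e'.symm) hne'
  have k2 := key.equiv (MulAut.conj g⁻¹)
  have e2 : (MulAut.conj g⁻¹) c.z = w := by
    rw [MulAut.conj_apply, ← hg]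
    group
  rwa [back K, back K', e2] at k2

end HexGrp

universe u

/-- **the two members over an involution** -/
theorem pair_of_iso {X : Type u} [Group X] [Finite X]
    (hX : ∃ p : ℕ, p.Prime ∧ p ≠ 2 ∧ IsG2D4 p X) {K K' : Subgroup X} {w : X} (hK : Mem X K w) (hK' : Mem X K' w)
    (hne : K ≠ K') : Pair X K K' w := by
  obtain ⟨p, hp, hp2, F, i1, i2, i3, h⟩ := hX
  have h2 : (2 : F) ≠ 0 := two_ne_of_char hp hp2
  have back : ∀ (L : Type) [Group L] (e : X ≃* L),
      (∀ K K' : Subgroup L, ∀ w', Mem L K w' → Mem L K' w' → K ≠ K' → Pair L K K' w') → Pair X K K' w := by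
    intro L _ e h
    have : Finite L := Finite.of_equiv _ e.toEquiv
    have e1 : ∀ K : Subgroup X, (K.map e.toMonoidHom).map e.symm.toMonoidHom = K := by
      intro K
      ext x
      rw [mem_map_iff, mem_map_iff]
      simp
    have k := (h _ _ _ (hK.equiv e) (hK'.equiv e) (fun he => hne (by rw [← e1 K, he, e1 K']))).equiv e.symm
    rwa [e1, e1, e.symm_apply_apply] at k
  rcases h with ⟨⟨e⟩⟩ | ⟨q, hq, hc, ⟨e⟩⟩
  · refine back _ e fun A A' w' hM hM' hn => ?_
    have : Finite ↥(Lie.chevG2.group F) := Finite.of_equiv _ e.toEquiv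
    exact (HexG2.g2 F h2).pair h2 hM hM' hn
  · refine back _ e fun A A' w' hM hM' hn => ?_
    have : Finite ↥(Lie.twistedD4 F q) := Finite.of_equiv _ e.toEquiv
    obtain ⟨σ, -, ⟨c⟩⟩ := HexD4.exists_d4 hc
    exact c.pair h2 hM hM' hn

end Cfsg.Agent.Cit.HexBase
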