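import Cfsg.Agent.Cit.HexCent

/-!
# Groups of type `G₂` and `³D₄`: the centraliser of the involution `z`
-/

set_option autoImplicit false

namespace Cfsg.Agent.Cit.HexBase

open Cfsg.Agent.SplitTwo Cfsg.Agent.TitsThree.RankTwoZ Cfsg.Agent.Lib.SL2Mat
  Cfsg.Agent.TitsThree.RankTwoIdx Cfsg.Agent.TitsThree.RankTwoRGD
open scoped commutatorElement

namespace HexGrp

universe u

variable {E : Type*} [Field E] {σ : E ≃+* E} {L : Type u} [Group L] (c : HexGrp σ L)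

/-- the involution -/
def z : L := c.pb (dg (-1) (neg_ne_zero.2 one_ne_zero))

theorem act_z : c.Act c.z 1 (-1) := by
  refine (c.act_b (-1) (neg_ne_zero.2 one_ne_zero)).congr rfl ?_ ?_
  · ring
  · rw [nrm_neg, nrm_one, inv_neg, inv_one]

theorem z_mem_T0 : c.z ∈ c.T0 := ⟨_, _, c.act_z⟩

theorem z_mem_K1 : c.z ∈ c.K1 := ⟨_, rfl⟩

theorem z_sq : c.z * c.z = 1 := by
  have h := c.act_z.mul c.act_z
  rw [one_mul, neg_mul_neg, one_mul] at h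
  exact h.eq_one

theorem z_inv : c.z⁻¹ = c.z := inv_eq_of_mul_eq_one_right c.z_sq

theorem z_ne (h2 : (2 : E) ≠ 0) : c.z ≠ 1 := by
  intro h
  have h1 := c.act_z.a6 1 (map_one σ)
  rw [h, one_mul, inv_one, mul_one, neg_mul, one_mul] at h1
  have h3 := c.x6_inj (map_one σ) (by rw [map_neg, map_one]) h1
  exact h2 (by linear_combination h3)

theorem z_eq_p4 : c.z = c.p4 (dg (-1) (neg_ne_zero.2 one_ne_zero)) := by
  have h1 := (c.act_a (-1) (neg_ne_zero.2 one_ne_zero)).n1.n6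
  refine c.act_z.unique (h1.congr ?_ ?_ ?_)
  · rw [p4_apply]
    group
  · rw [show (((-1 : ↥(fx σ)) : E)) = -1 from rfl, inv_neg, inv_one, nrm_neg, nrm_one, inv_neg, inv_one]
    ring
  · rw [show (((-1 : ↥(fx σ)) : E)) = -1 from rfl, inv_neg, inv_one, nrm_neg, nrm_one]
    norm_num

theorem z_mem_K4 : c.z ∈ c.K4 := ⟨_, c.z_eq_p4.symm⟩

theorem z_x1 (a : E) : c.z * c.x1 a * c.z⁻¹ = c.x1 a := by rw [c.act_z.a1, one_mul]
theorem z_x2 {t : E} (ht : σ t = t) : c.z * c.x2 t * c.z⁻¹ = c.x2 (-t) := by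
  rw [c.act_z.a2 t ht, nrm_one, mul_one, neg_mul, one_mul]
theorem z_x3 (b : E) : c.z * c.x3 b * c.z⁻¹ = c.x3 (-b) := by
  rw [c.act_z.a3, show shp σ (1 : E) = 1 by unfold shp; simp, mul_one, neg_mul, one_mul]
theorem z_x4 {t : E} (ht : σ t = t) : c.z * c.x4 t * c.z⁻¹ = c.x4 t := by
  rw [c.act_z.a4 t ht, nrm_one]; norm_num
theorem z_x5 (b : E) : c.z * c.x5 b * c.z⁻¹ = c.x5 (-b) := by
  rw [c.act_z.a5, mul_one, neg_mul, one_mul]
theorem z_x6 {t : E} (ht : σ t = t) : c.z * c.x6 t * c.z⁻¹ = c.x6 (-t) := by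
  rw [c.act_z.a6 t ht, neg_mul, one_mul]

theorem z_pb (x : SL2 E) : c.z * c.pb x = c.pb x * c.z := by
  rw [z, ← map_mul, ← map_mul]
  congr 1
  refine ext_ent ?_ ?_ ?_ ?_ <;> simp [ent_mul]

theorem z_p4 (x : SL2 ↥(fx σ)) : c.z * c.p4 x = c.p4 x * c.z := by
  rw [z_eq_p4, ← map_mul, ← map_mul]
  congr 1
  refine ext_ent ?_ ?_ ?_ ?_ <;> simp [ent_mul]

omit c in
theorem neg_eq_self (h2 : (2 : E) ≠ 0) {a : E} (h : -a = a) : a = 0 := by
  have : (2 : E) * a = 0 := by linear_combination -h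
  exact (mul_eq_zero.1 this).resolve_left h2

/-- factorisation of elements of the positive part is unique -/
theorem uniq16 {a1 a2 a3 a4 a5 a6 b1 b2 b3 b4 b5 b6 : L} (h1 : a1 ∈ c.X 1) (h2 : a2 ∈ c.X 2) (h3 : a3 ∈ c.X 3)
    (h4 : a4 ∈ c.X 4) (h5 : a5 ∈ c.X 5) (h6 : a6 ∈ c.X 6) (k1 : b1 ∈ c.X 1) (k2 : b2 ∈ c.X 2) (k3 : b3 ∈ c.X 3)
    (k4 : b4 ∈ c.X 4) (k5 : b5 ∈ c.X 5) (k6 : b6 ∈ c.X 6)
    (e : a1 * a2 * a3 * a4 * a5 * a6 = b1 * b2 * b3 * b4 * b5 * b6) :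
    a1 = b1 ∧ a2 = b2 ∧ a3 = b3 ∧ a4 = b4 ∧ a5 = b5 ∧ a6 = b6 := by
  have m : ∀ {s : Finset (ZMod (2 * 6))} {k : ZMod (2 * 6)}, k ∈ s → ∀ {g : L}, g ∈ c.X k → g ∈ Sg c.X s :=
    fun hk g hg => c.sg hk hg
  have e1 : a1 * (a2 * a3 * a4 * a5 * a6) = b1 * (b2 * b3 * b4 * b5 * b6) := by simpa [mul_assoc] using e
  obtain ⟨r1, e2⟩ := c.peel (k := 1) (s := {2, 3, 4, 5, 6}) (by decide +kernel) h1
    (mul_mem (mul_mem (mul_mem (mul_mem (m (by decide) h2) (m (by decide) h3)) (m (by decide) h4)) (m (by decide) h5))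
      (m (by decide) h6)) k1
    (mul_mem (mul_mem (mul_mem (mul_mem (m (by decide) k2) (m (by decide) k3)) (m (by decide) k4)) (m (by decide) k5))
      (m (by decide) k6)) e1
  obtain ⟨r6, e3⟩ := c.peel' (k := 6) (s := {2, 3, 4, 5}) (by decide +kernel) h6
    (mul_mem (mul_mem (mul_mem (m (by decide) h2) (m (by decide) h3)) (m (by decide) h4)) (m (by decide) h5)) k6
    (mul_mem (mul_mem (mul_mem (m (by decide) k2) (m (by decide) k3)) (m (by decide) k4)) (m (by decide) k5)) e2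
  obtain ⟨r2, r3, r4, r5⟩ := c.uniq25 h2 h3 h4 h5 k2 k3 k4 k5 e3
  exact ⟨r1, r2, r3, r4, r5, r6⟩

/-- the fixed points of `z` on the positive part -/
theorem fix_z (h2 : (2 : E) ≠ 0) {g : L} (hg : g ∈ Sg c.X Pos) (h : c.z * g = g * c.z) :
    ∃ a ∈ c.X 1, ∃ b ∈ c.X 4, g = a * b := by
  obtain ⟨a1, h1, a2, h2', a3, h3, a4, h4, a5, h5, a6, h6, rfl⟩ := c.exists_prod hg
  obtain ⟨b1, rfl⟩ := (c.par.mem1 _).1 h1
  obtain ⟨b2, f2, rfl⟩ := (c.par.mem2 _).1 h2'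
  obtain ⟨b3, rfl⟩ := (c.par.mem3 _).1 h3
  obtain ⟨b4, f4, rfl⟩ := (c.par.mem4 _).1 h4
  obtain ⟨b5, rfl⟩ := (c.par.mem5 _).1 h5
  obtain ⟨b6, f6, rfl⟩ := (c.par.mem6 _).1 h6
  have e : c.x1 b1 * c.x2 (-b2) * c.x3 (-b3) * c.x4 b4 * c.x5 (-b5) * c.x6 (-b6) =
      c.x1 b1 * c.x2 b2 * c.x3 b3 * c.x4 b4 * c.x5 b5 * c.x6 b6 := by
    calc _ = (c.z * c.x1 b1 * c.z⁻¹) * (c.z * c.x2 b2 * c.z⁻¹) * (c.z * c.x3 b3 * c.z⁻¹) * (c.z * c.x4 b4 * c.z⁻¹) *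
          (c.z * c.x5 b5 * c.z⁻¹) * (c.z * c.x6 b6 * c.z⁻¹) := by
          rw [c.z_x1, c.z_x2 f2, c.z_x3, c.z_x4 f4, c.z_x5, c.z_x6 f6]
      _ = c.z * (c.x1 b1 * c.x2 b2 * c.x3 b3 * c.x4 b4 * c.x5 b5 * c.x6 b6) * c.z⁻¹ := by group
      _ = _ := by rw [h]; group
  obtain ⟨_, e2, e3, _, e5, e6⟩ := c.uniq16 (c.mem1 _) (c.mem2 (neg_fix f2)) (c.mem3 _) (c.mem4 f4) (c.mem5 _)
    (c.mem6 (neg_fix f6)) (c.mem1 _) (c.mem2 f2) (c.mem3 _) (c.mem4 f4) (c.mem5 _) (c.mem6 f6) e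
  have k2 := neg_eq_self h2 (c.x2_inj (neg_fix f2) f2 e2)
  have k3 := neg_eq_self h2 (c.x3_inj e3)
  have k5 := neg_eq_self h2 (c.x5_inj e5)
  have k6 := neg_eq_self h2 (c.x6_inj (neg_fix f6) f6 e6)
  refine ⟨_, c.mem1 b1, _, c.mem4 f4, ?_⟩
  rw [k2, k3, k5, k6, c.x2_zero, c.x3_zero, c.x5_zero, c.x6_zero, mul_one, mul_one, mul_one, mul_one]

/-- `C(z)` as a subgroup of `L` -/
def CZ : Subgroup L := Subgroup.centralizer {c.z}

theorem mem_CZ {g : L} : g ∈ c.CZ ↔ g * c.z = c.z * g := Subgroup.mem_centralizer_singleton_iff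

theorem K1_le_CZ : c.K1 ≤ c.CZ := by
  rintro _ ⟨x, rfl⟩
  exact c.mem_CZ.2 (c.z_pb x).symm

theorem K4_le_CZ : c.K4 ≤ c.CZ := by
  rintro _ ⟨x, rfl⟩
  exact c.mem_CZ.2 (c.z_p4 x).symm

theorem T0_le_CZ : c.T0 ≤ c.CZ := fun _ hg => c.mem_CZ.2 (c.T0_comm hg c.z_mem_T0)

omit c in
theorem idxz : ∀ r : Fin 7,
    ((if Even r.val then (1 : ZMod (2 * 6)) + (r.val : ZMod (2 * 6)) else 7 - 1 + (r.val : ZMod (2 * 6))) ∈
        ({1, 4, 7, 10} : Finset (ZMod (2 * 6))) →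
      (if Even r.val then (4 : ZMod (2 * 6)) + (r.val : ZMod (2 * 6)) else 7 - 4 + (r.val : ZMod (2 * 6))) ∈
        ({1, 4, 7, 10} : Finset (ZMod (2 * 6))) → r.val = 0 ∨ r.val = 1 ∨ r.val = 6) ∧
    ((if Even r.val then (1 : ZMod (2 * 6)) - (r.val : ZMod (2 * 6)) else 7 - 1 - (r.val : ZMod (2 * 6))) ∈
        ({1, 4, 7, 10} : Finset (ZMod (2 * 6))) →
      (if Even r.val then (4 : ZMod (2 * 6)) - (r.val : ZMod (2 * 6)) else 7 - 4 - (r.val : ZMod (2 * 6))) ∈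
        ({1, 4, 7, 10} : Finset (ZMod (2 * 6))) → r.val = 0 ∨ r.val = 5 ∨ r.val = 6) := by decide +kernel

/-- `z` centralises a nontrivial element of `X k` only for `k = 1, 4, 7, 10` -/
theorem z_root (h2 : (2 : E) ≠ 0) {k : ZMod (2 * 6)} {g : L} (hg : g ∈ c.X k) (h1 : g ≠ 1)
    (h : c.z * g = g * c.z) : k ∈ ({1, 4, 7, 10} : Finset (ZMod (2 * 6))) := by
  have pos : ∀ k : ZMod (2 * 6), k ∈ Pos → ∀ g ∈ c.X k, g ≠ 1 → c.z * g = g * c.z → k = 1 ∨ k = 4 := by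
    intro k hk g hg h1 h
    obtain ⟨a, ha, b, hb, e⟩ := c.fix_z h2 (c.sg hk hg) h
    by_contra hne
    push Not at hne
    -- a⁻¹ g = b
    have e1 : a⁻¹ * g = b := by rw [e]; group
    -- use the factorisation: g in X k, a b in X1 X4
    have e2 : g = a * b := e
    fin_cases hk
    · exact hne.1 rfl
    · have := c.uniq16 (one_mem _) hg (one_mem _) (one_mem _) (one_mem _) (one_mem _) ha (one_mem _) (one_mem _) hb
        (one_mem _) (one_mem _) (by simpa using e2)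
      exact h1 this.2.1
    · have := c.uniq16 (one_mem _) (one_mem _) hg (one_mem _) (one_mem _) (one_mem _) ha (one_mem _) (one_mem _) hb
        (one_mem _) (one_mem _) (by simpa using e2)
      exact h1 this.2.2.1
    · exact hne.2 rfl
    · have := c.uniq16 (one_mem _) (one_mem _) (one_mem _) (one_mem _) hg (one_mem _) ha (one_mem _) (one_mem _) hb
        (one_mem _) (one_mem _) (by simpa using e2)
      exact h1 this.2.2.2.2.1
    · have := c.uniq16 (one_mem _) (one_mem _) (one_mem _) (one_mem _) (one_mem _) hg ha (one_mem _) (one_mem _) hb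
        (one_mem _) (one_mem _) (by simpa using e2)
      exact h1 this.2.2.2.2.2
  by_cases hk : k ∈ Pos
  · rcases pos k hk g hg h1 h with rfl | rfl <;> decide
  · -- conjugate by `n1 n4`, which commutes with `z`
    have hneg : ∀ k : ZMod (2 * 6), k ∉ Pos → 8 - (2 - k) ∈ Pos ∧ (8 - (2 - k) = 1 ∨ 8 - (2 - k) = 4 →
        k ∈ ({1, 4, 7, 10} : Finset (ZMod (2 * 6)))) := by decide +kernel
    have hz1 : c.z * c.n1 = c.n1 * c.z := c.z_pb _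
    have hz4 : c.z * c.n4 = c.n4 * c.z := c.z_p4 _
    have hm : Maps c.X (c.n1 * c.n4) (fun k => 8 - (2 - k)) := c.maps_n1.mul c.maps_n4
    have hzn : c.z * (c.n1 * c.n4) = c.n1 * c.n4 * c.z := by
      rw [← mul_assoc, hz1, mul_assoc, hz4, mul_assoc]
    have hz' : c.z * (c.n1 * c.n4 * g * (c.n1 * c.n4)⁻¹) = (c.n1 * c.n4 * g * (c.n1 * c.n4)⁻¹) * c.z := by
      have hinv : c.z * (c.n1 * c.n4)⁻¹ = (c.n1 * c.n4)⁻¹ * c.z := by
        rw [eq_inv_mul_iff_mul_eq, ← mul_assoc, ← hzn]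
        group
      calc _ = (c.z * (c.n1 * c.n4)) * g * (c.n1 * c.n4)⁻¹ := by group
        _ = c.n1 * c.n4 * (c.z * g) * (c.n1 * c.n4)⁻¹ := by rw [hzn]; group
        _ = c.n1 * c.n4 * g * (c.z * (c.n1 * c.n4)⁻¹) := by rw [h]; group
        _ = _ := by rw [hinv]; group
    have h3 := pos _ (hneg k hk).1 _ (maps_mem hm hg rfl) (by
      intro h0
      apply h1
      have : c.n1 * c.n4 * g = c.n1 * c.n4 := mul_inv_eq_one.1 h0
      exact mul_eq_left.1 this) hz'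
    exact (hneg k hk).2 h3

theorem n1_T0 {h : L} (hh : h ∈ c.T0) : c.n1 * h * c.n1⁻¹ ∈ c.T0 := by
  obtain ⟨c1, c6, h1⟩ := hh
  exact ⟨_, _, h1.n1⟩

theorem n6_T0 {h : L} (hh : h ∈ c.T0) : c.n6 * h * c.n6⁻¹ ∈ c.T0 := by
  obtain ⟨c1, c6, h1⟩ := hh
  exact ⟨_, _, h1.n6⟩

theorem alt5_mem : alt c.n6 c.n1 5 ∈ c.K1 ⊔ c.K4 ⊔ c.T0 := by
  have h1 : c.n4⁻¹ * alt c.n6 c.n1 5 ∈ c.T0 := by
    have h2 : c.n4⁻¹ * alt c.n6 c.n1 5 = (c.n6 * (c.n1 * c.n1) * c.n6⁻¹) * (c.n6 * c.n6) := by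
      rw [n4_eq]
      simp only [alt]
      group
    rw [h2]
    exact mul_mem (c.n6_T0 n1_sq) n6_sq
  have h3 : alt c.n6 c.n1 5 = c.n4 * (c.n4⁻¹ * alt c.n6 c.n1 5) := by group
  rw [h3]
  exact mul_mem ((le_sup_right.trans le_sup_left : c.K4 ≤ _) c.n4_mem_K4) ((le_sup_right : c.T0 ≤ _) h1)

/-- **The centraliser of `z`.** -/
theorem CZ_eq [Finite E] (h2 : (2 : E) ≠ 0) : c.CZ = c.K1 ⊔ c.K4 ⊔ c.T0 := by
  apply le_antisymm
  · intro g hg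
    rw [c.mem_CZ] at hg
    have l1 : c.K1 ≤ c.K1 ⊔ c.K4 ⊔ c.T0 := le_sup_left.trans le_sup_left
    have l4 : c.K4 ≤ c.K1 ⊔ c.K4 ⊔ c.T0 := le_sup_right.trans le_sup_left
    have lT : c.T0 ≤ c.K1 ⊔ c.K4 ⊔ c.T0 := le_sup_right
    obtain ⟨u, hu, w, f, hw, h, hh, t, ht, hft, v, hv, rfl⟩ := c.bruhat h2 g
    have hwz : w * c.z * w⁻¹ ∈ c.T0 := hw.conj c.z_mem_T0
    have hhz : h * c.z = c.z * h := c.T0_comm hh c.z_mem_T0
    have hz' : c.z⁻¹ = c.z := c.z_inv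
    -- the commutators
    have hv1 : v * (c.z * v⁻¹ * c.z⁻¹) ∈ Sg c.X t := mul_mem hv (c.T0_conj c.z_mem_T0 (inv_mem hv))
    have hu1 : u⁻¹ * (c.z * u * c.z⁻¹) ∈ Sg c.X Pos := mul_mem (inv_mem hu) (c.T0_conj c.z_mem_T0 hu)
    obtain ⟨τ, hτ⟩ : ∃ τ, τ = w * c.z * w⁻¹ * c.z⁻¹ := ⟨_, rfl⟩
    have hτT : τ ∈ c.T0 := by rw [hτ]; exact mul_mem hwz (inv_mem c.z_mem_T0)
    have hy : w * h * (v * (c.z * v⁻¹ * c.z⁻¹)) * (w * h)⁻¹ ∈ Sg c.X Neg := by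
      have h1 := conj_Sg hw.maps hft (c.T0_conj hh hv1)
      convert h1 using 1
      group
    have e0 : w * h * c.z * (w * h)⁻¹ = τ * c.z := by
      rw [hτ]
      calc w * h * c.z * (w * h)⁻¹ = w * (h * c.z) * h⁻¹ * w⁻¹ := by group
        _ = w * c.z * w⁻¹ * c.z⁻¹ * c.z := by rw [hhz]; group
    have e1 : u⁻¹ * (c.z * u * c.z⁻¹) = (w * h * (v * (c.z * v⁻¹ * c.z⁻¹)) * (w * h)⁻¹) * τ := by
      have e2 : c.z * u = u * w * h * v * c.z * v⁻¹ * (w * h)⁻¹ := by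
        calc c.z * u = (c.z * (u * w * h * v)) * v⁻¹ * (w * h)⁻¹ := by group
          _ = _ := by rw [← hg]
      calc u⁻¹ * (c.z * u * c.z⁻¹) = u⁻¹ * (u * w * h * v * c.z * v⁻¹ * (w * h)⁻¹) * c.z⁻¹ := by rw [← e2]; group
        _ = (w * h * (v * (c.z * v⁻¹ * c.z⁻¹)) * (w * h)⁻¹) * (w * h * c.z * (w * h)⁻¹) * c.z⁻¹ := by group
        _ = _ := by rw [e0]; group
    obtain ⟨s, hs, r, hr, hτ'⟩ := c.exists_of_mem_T0 h2 hτT
    have hy' : τ⁻¹ * (w * h * (v * (c.z * v⁻¹ * c.z⁻¹)) * (w * h)⁻¹) * τ ∈ Sg c.X Neg := by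
      have := c.T0_conj (inv_mem hτT) hy
      rwa [inv_inv] at this
    obtain ⟨k1, k2⟩ := c.tri _ hu1 _ hy' s hs r hr (by rw [← hτ', e1]; group)
    have hzu : c.z * u = u * c.z := by
      have : c.z * u * c.z⁻¹ = u := (inv_mul_eq_one.1 k1).symm
      rw [mul_inv_eq_iff_eq_mul] at this
      exact this
    have hv2 : v * (c.z * v⁻¹ * c.z⁻¹) = 1 := by
      have h3 : w * h * (v * (c.z * v⁻¹ * c.z⁻¹)) * (w * h)⁻¹ = 1 := by
        have : τ⁻¹ * (w * h * (v * (c.z * v⁻¹ * c.z⁻¹)) * (w * h)⁻¹) * τ = τ⁻¹ * 1 * τ := by rw [k2]; group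
        exact mul_left_cancel (mul_right_cancel this)
      have : w * h * (v * (c.z * v⁻¹ * c.z⁻¹)) = w * h * 1 := by rw [mul_one]; exact mul_inv_eq_one.1 h3
      exact mul_left_cancel this
    have hzv : c.z * v = v * c.z := by
      have : v * c.z * v⁻¹ * c.z⁻¹ = 1 := by rw [← hv2]; group
      have h3 : v * c.z * v⁻¹ = c.z := mul_inv_eq_one.1 this
      rw [mul_inv_eq_iff_eq_mul] at h3
      exact h3.symm
    have hτ1 : τ = 1 := by
      have h3 : w * h * (v * (c.z * v⁻¹ * c.z⁻¹)) * (w * h)⁻¹ = 1 := by rw [hv2]; group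
      rw [k1, h3, one_mul] at e1
      exact e1.symm
    have hzw : c.z * w = w * c.z := by
      rw [hτ] at hτ1
      have h3 : w * c.z * w⁻¹ = c.z := mul_inv_eq_one.1 hτ1
      rw [mul_inv_eq_iff_eq_mul] at h3
      exact h3.symm
    -- the possible `w`
    have hroot : ∀ k : ZMod (2 * 6), ∀ x ∈ c.X k, x ≠ 1 → c.z * x = x * c.z →
        f k ∈ ({1, 4, 7, 10} : Finset (ZMod (2 * 6))) := by
      intro k x hx hx1 hzx
      have hzw' : c.z * w⁻¹ = w⁻¹ * c.z := by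
        rw [eq_inv_mul_iff_mul_eq, ← mul_assoc, ← hzw]
        group
      refine c.z_root h2 (maps_mem hw.maps hx rfl) (fun h0 => hx1 ?_) ?_
      · have : w * x = w := mul_inv_eq_one.1 h0
        exact mul_eq_left.1 this
      · calc c.z * (w * x * w⁻¹) = (c.z * w) * x * w⁻¹ := by group
          _ = w * (c.z * x) * w⁻¹ := by rw [hzw]; group
          _ = w * x * (c.z * w⁻¹) := by rw [hzx]; group
          _ = _ := by rw [hzw']; group
    have hf1 : f 1 ∈ ({1, 4, 7, 10} : Finset (ZMod (2 * 6))) := by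
      refine hroot 1 (c.x1 1) (c.mem1 1) (fun h => one_ne_zero (c.x1_inj (by rw [h, c.x1_zero]))) ?_
      exact mul_inv_eq_iff_eq_mul.1 (c.z_x1 1)
    have hf4 : f 4 ∈ ({1, 4, 7, 10} : Finset (ZMod (2 * 6))) := by
      refine hroot 4 (c.x4 1) (c.mem4 (map_one σ))
        (fun h => one_ne_zero (c.x4_inj (map_one σ) (map_zero σ) (by rw [h, c.x4_zero]))) ?_
      exact mul_inv_eq_iff_eq_mul.1 (c.z_x4 (map_one σ))
    have hwm : w ∈ c.K1 ⊔ c.K4 ⊔ c.T0 := by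
      have a5 := c.alt5_mem
      obtain ⟨r, hr, ⟨rfl, rfl⟩ | ⟨rfl, rfl⟩⟩ := hw
      · rcases (idxz ⟨r, by omega⟩).1 hf1 hf4 with h | h | h
        · simp only at h
          subst h
          exact one_mem _
        · simp only at h
          subst h
          have : alt c.n1 c.n6 1 = c.n1 := by simp [alt]
          rw [this]
          exact l1 c.n1_mem_K1
        · simp only at h
          subst h
          rw [alt_succ]
          exact mul_mem (l1 c.n1_mem_K1) a5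
      · rcases (idxz ⟨r, by omega⟩).2 hf1 hf4 with h | h | h
        · simp only at h
          subst h
          exact one_mem _
        · simp only at h
          subst h
          exact a5
        · simp only at h
          subst h
          have : alt c.n6 c.n1 6 = alt c.n6 c.n1 5 * c.n1 := by simp only [alt]; group
          rw [this]
          exact mul_mem a5 (l1 c.n1_mem_K1)
    obtain ⟨a, ha, b, hb, rfl⟩ := c.fix_z h2 hu hzu
    obtain ⟨a', ha', b', hb', rfl⟩ := c.fix_z h2 (Sg_mono ht hv) hzv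
    exact mul_mem (mul_mem (mul_mem (mul_mem (l1 (c.X1_le_K1 ha)) (l4 (c.X4_le_K4 hb))) hwm) (lT hh))
      (mul_mem (l1 (c.X1_le_K1 ha')) (l4 (c.X4_le_K4 hb')))
  · exact sup_le (sup_le c.K1_le_CZ c.K4_le_CZ) c.T0_le_CZ

end HexGrp

end Cfsg.Agent.Cit.HexBase
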