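import Cfsg.Agent.Cit.HexAut

/-!
# Groups of type `G₂` and `³D₄`: generation by `C(z)`, `C(v w)`; automorphisms trivial on `K 1 K 4`

`gen_two` : `v ∈ K 1`, `w ∈ K 4`, `v² = w² = z` : `L` is generated by `C(z)` and `C(v w)`.
`eq_of_K14` : an automorphism trivial on `K 1` and `K 4` is `1` or the conjugation by `z`.
-/

set_option autoImplicit false

namespace Cfsg.Agent.Cit.HexBase

open Cfsg.Agent.SplitTwo Cfsg.Agent.TitsThree.RankTwoZ Cfsg.Agent.Lib.SL2Mat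
  Cfsg.Agent.TitsThree.RankTwoIdx Cfsg.Agent.TitsThree.RankTwoRGD
open scoped commutatorElement Pointwise

section sl

variable {K : Type*} [Field K]

theorem KAB.conjGL_one_dgl (v : SL2 K) : conjGL (dgl (1 : K) one_ne_zero) v = v := by
  rw [conjGL_dgl_ent]
  refine ext_ent ?_ ?_ ?_ ?_ <;> simp

theorem KAB.tr_zero {x : SL2 K} (h : x * x = dg (-1) (neg_ne_zero.2 one_ne_zero)) : ent x 0 0 + ent x 1 1 = 0 := by
  have hd := det_eq x
  have h00 := congrArg (fun y => ent y 0 0) h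
  have h11 := congrArg (fun y => ent y 1 1) h
  simp only [ent_mul, dg_00, dg_11, inv_neg, inv_one] at h00 h11
  have : (ent x 0 0 + ent x 1 1) ^ 2 = 0 := by linear_combination h00 + h11 + 2 * hd
  exact pow_eq_zero_iff (two_ne_zero) |>.1 this

/-- all elements of `SL(2,K)` with square `-1` are conjugate -/
theorem KAB.conj_four [Finite K] (h2 : (2 : K) ≠ 0) {x y : SL2 K} (hx : x * x = dg (-1) (neg_ne_zero.2 one_ne_zero))
    (hy : y * y = dg (-1) (neg_ne_zero.2 one_ne_zero)) : ∃ g : SL2 K, g * x * g⁻¹ = y := by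
  have key : ∀ x : SL2 K, x * x = dg (-1) (neg_ne_zero.2 one_ne_zero) → ∃ g : SL2 K, g * x * g⁻¹ = wm 1 one_ne_zero := by
    intro x hx
    obtain ⟨v, b, hb, h1⟩ := exists_anti h2 (one_ne_zero (α := K)) x (by rw [mul_one]; exact KAB.tr_zero hx)
    rw [KAB.conjGL_one_dgl] at h1
    obtain ⟨v', h3⟩ := exists_wm_conj h2 (one_ne_zero (α := K)) (inv_ne_zero hb)
    rw [KAB.conjGL_one_dgl] at h3
    have h4 : wm b hb = wm 1 one_ne_zero * dg b⁻¹ (inv_ne_zero hb) := by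
      refine ext_ent ?_ ?_ ?_ ?_ <;> simp [ent_mul]
    rw [h4, ← h3] at h1
    refine ⟨v'⁻¹ * v, ?_⟩
    calc v'⁻¹ * v * x * (v'⁻¹ * v)⁻¹ = v'⁻¹ * (v * x * v⁻¹) * v' := by group
      _ = v'⁻¹ * (v' * wm 1 one_ne_zero * v'⁻¹) * v' := by rw [h1]
      _ = wm 1 one_ne_zero := by group
  obtain ⟨g, hg⟩ := key x hx
  obtain ⟨k, hk⟩ := key y hy
  refine ⟨k⁻¹ * g, ?_⟩
  calc k⁻¹ * g * x * (k⁻¹ * g)⁻¹ = k⁻¹ * (g * x * g⁻¹) * k := by group
    _ = k⁻¹ * (k * y * k⁻¹) * k := by rw [hg, hk]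
    _ = y := by group

theorem KAB.wm_one_eq : wm (1 : K) one_ne_zero = up 1 * lo (-1) * up 1 := by
  refine ext_ent ?_ ?_ ?_ ?_ <;> simp [ent_mul]

theorem KAB.wm_one_eq' : wm (1 : K) one_ne_zero = lo (-1) * up 1 * lo (-1) := by
  refine ext_ent ?_ ?_ ?_ ?_ <;> simp [ent_mul]

end sl

namespace HexGrp

universe u

variable {E : Type*} [Field E] {σ : E ≃+* E} {L : Type u} [Group L] (c : HexGrp σ L)

/-- **generation** -/
theorem gen_two [Finite E] (h2 : (2 : E) ≠ 0) {v w : L} (hv : v ∈ c.K1) (hw : w ∈ c.K4) (hvv : v * v = c.z)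
    (hww : w * w = c.z) {M : Subgroup L} (hzM : Subgroup.centralizer {c.z} ≤ M)
    (hvw : Subgroup.centralizer {v * w} ≤ M) : M = ⊤ := by
  have hK1 : ∀ x, c.pb x ∈ M := fun x => hzM (c.K1_le_CZ ⟨x, rfl⟩)
  have hK4 : ∀ x, c.p4 x ∈ M := fun x => hzM (c.K4_le_CZ ⟨x, rfl⟩)
  have h2' := two_ne (σ := σ) h2
  -- the involution `y' = n1 * n4 * h`
  obtain ⟨y0, hy0⟩ : ∃ y0, y0 = c.n1 * c.n4 := ⟨_, rfl⟩
  have hm0 : Maps c.X y0 (fun k => k + 6) := by rw [hy0]; exact c.maps_y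
  have hx0 : c.pa (lo (-1)) ∈ c.X 0 := (c.pa_lo _).2 ⟨_, rfl⟩
  have hx6 : y0⁻¹ * c.pa (lo (-1)) * y0 ∈ c.X 6 := maps_mem' hm0 hx0 (by decide)
  obtain ⟨t, ht, e6⟩ := (c.par.mem6 _).1 hx6
  have ht0 : t ≠ 0 := by
    rintro rfl
    rw [c.x6_zero] at e6
    have h3 : c.pa (lo (-1)) = 1 := by
      calc c.pa (lo (-1)) = y0 * (y0⁻¹ * c.pa (lo (-1)) * y0) * y0⁻¹ := by group
        _ = 1 := by rw [← e6]; group
    have h4 := c.pa_inj (h3.trans (map_one c.pa).symm)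
    have h5 := congrArg (fun y => ent y 1 0) h4
    simp at h5
  obtain ⟨s, hs⟩ : ∃ s : ↥(fx σ), (s : E) = t := ⟨⟨t, ht⟩, rfl⟩
  have htn : s ≠ 0 := by
    rintro rfl
    exact ht0 hs.symm
  obtain ⟨h, hh⟩ : ∃ h, h = c.p4 (dg s htn) := ⟨_, rfl⟩
  have hA : c.Act h 1 t := by rw [hh, ← hs]; exact c.act_p4_dg _ _
  obtain ⟨y, hy⟩ : ∃ y, y = y0 * h := ⟨_, rfl⟩
  obtain ⟨W, hW⟩ : ∃ W : SL2 ↥(fx σ), W = wm 1 one_ne_zero * dg s htn := ⟨_, rfl⟩
  have hyy : y = c.pb (wm 1 one_ne_zero) * c.p4 W := by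
    rw [hy, hy0, hh, hW, map_mul, ← mul_assoc]
    rfl
  have hs1 : (wm (1 : E) one_ne_zero) * wm 1 one_ne_zero = dg (-1) (neg_ne_zero.2 one_ne_zero) := by
    refine ext_ent ?_ ?_ ?_ ?_ <;> simp [ent_mul]
  have hs4 : W * W = dg (-1) (neg_ne_zero.2 one_ne_zero) := by
    rw [hW]
    refine ext_ent ?_ ?_ ?_ ?_ <;> simp [ent_mul, htn]
  have hy2 : y * y = 1 := by
    rw [hyy]
    have h3 := c.comm_pb_p4 (wm 1 one_ne_zero) W
    calc _ = c.pb (wm 1 one_ne_zero) * (c.p4 W * c.pb (wm 1 one_ne_zero)) * c.p4 W := by group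
      _ = c.pb (wm 1 one_ne_zero * wm 1 one_ne_zero) * c.p4 (W * W) := by
        rw [← h3, map_mul c.pb, map_mul c.p4]
        group
      _ = 1 := by
        rw [hs1, hs4, ← c.z_eq_p4]
        exact c.z_sq
  have hyi : y⁻¹ = y := inv_eq_of_mul_eq_one_right hy2
  -- `y` and `n6` commute
  have k6 : y * c.pa (up 1) * y⁻¹ = c.pa (lo (-1)) := by
    have h3 : h * c.pa (up 1) * h⁻¹ = c.x6 t := by
      have h4 := hA.a6 1 (map_one σ)
      rw [c.pa_up]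
      rw [mul_one] at h4
      exact h4
    calc y * c.pa (up 1) * y⁻¹ = y0 * (h * c.pa (up 1) * h⁻¹) * y0⁻¹ := by rw [hy]; group
      _ = _ := by rw [h3, e6]; group
  have k0 : y * c.pa (lo (-1)) * y⁻¹ = c.pa (up 1) := by
    rw [← k6]
    calc y * (y * c.pa (up 1) * y⁻¹) * y⁻¹ = (y * y) * c.pa (up 1) * (y * y)⁻¹ := by group
      _ = _ := by rw [hy2]; group
  have hn6 : y * c.n6 * y⁻¹ = c.n6 := by
    have h3 : c.n6 = c.pa (up 1) * c.pa (lo (-1)) * c.pa (up 1) := by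
      rw [← map_mul, ← map_mul, ← KAB.wm_one_eq]
      rfl
    have h4 : c.n6 = c.pa (lo (-1)) * c.pa (up 1) * c.pa (lo (-1)) := by
      rw [← map_mul, ← map_mul, ← KAB.wm_one_eq']
      rfl
    calc y * c.n6 * y⁻¹ = (y * c.pa (up 1) * y⁻¹) * (y * c.pa (lo (-1)) * y⁻¹) * (y * c.pa (up 1) * y⁻¹) := by
          rw [h3]; group
      _ = c.n6 := by rw [k6, k0, ← h4]
  -- conjugation
  obtain ⟨x1, rfl⟩ := hv
  obtain ⟨x4, rfl⟩ := hw
  have e1 : x1 * x1 = dg (-1) (neg_ne_zero.2 one_ne_zero) := c.pb_inj h2 (by rw [map_mul, hvv]; rfl)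
  have e4 : x4 * x4 = dg (-1) (neg_ne_zero.2 one_ne_zero) := c.p4_inj (by rw [map_mul, hww, c.z_eq_p4])
  obtain ⟨g1, hg1⟩ := KAB.conj_four h2 e1 hs1
  obtain ⟨g4, hg4⟩ := KAB.conj_four h2' e4 hs4
  have hc : (c.pb g1 * c.p4 g4) * (c.pb x1 * c.p4 x4) * (c.pb g1 * c.p4 g4)⁻¹ = y := by
    have h3 := c.comm_pb_p4 x1 g4
    have h4 := c.comm_pb_p4 g1 (g4 * x4 * g4⁻¹)
    have h5 := c.comm_pb_p4 (g1 * x1 * g1⁻¹) (g4 * x4 * g4⁻¹)
    rw [hyy, ← hg1, ← hg4]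
    simp only [map_mul, map_inv] at h4 h5 ⊢
    calc _ = c.pb g1 * (c.p4 g4 * c.pb x1) * c.p4 x4 * (c.p4 g4)⁻¹ * (c.pb g1)⁻¹ := by group
      _ = c.pb g1 * c.pb x1 * (c.p4 g4 * c.p4 x4 * (c.p4 g4)⁻¹) * (c.pb g1)⁻¹ := by rw [← h3]; group
      _ = c.pb g1 * c.pb x1 * (c.pb g1)⁻¹ * (c.pb g1 * (c.p4 g4 * c.p4 x4 * (c.p4 g4)⁻¹)) * (c.pb g1)⁻¹ := by group
      _ = _ := by rw [h4]; group
  have hgM : c.pb g1 * c.p4 g4 ∈ M := mul_mem (hK1 _) (hK4 _)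
  have hn6M : c.n6 ∈ M := by
    obtain ⟨g, hg⟩ : ∃ g, g = c.pb g1 * c.p4 g4 := ⟨_, rfl⟩
    rw [← hg] at hc hgM
    have h3 : g⁻¹ * c.n6 * g ∈ M := by
      apply hvw
      rw [Subgroup.mem_centralizer_singleton_iff]
      have h4 : c.pb x1 * c.p4 x4 = g⁻¹ * y * g := by rw [← hc]; group
      have h5 : c.n6 * y = y * c.n6 := by
        calc c.n6 * y = (y * c.n6 * y⁻¹) * y := by rw [hn6]
          _ = _ := by group
      rw [h4]
      calc g⁻¹ * c.n6 * g * (g⁻¹ * y * g) = g⁻¹ * (c.n6 * y) * g := by group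
        _ = _ := by rw [h5]; group
    have h4 : c.n6 = g * (g⁻¹ * c.n6 * g) * g⁻¹ := by group
    rw [h4]
    exact mul_mem (mul_mem hgM h3) (inv_mem hgM)
  have hn1M : c.n1 ∈ M := hK1 _
  refine c.closure_eq_top M (fun x => ?_) hK1
  have h3 : c.pa x = (c.n6 * c.n1)⁻¹ * c.p4 x * (c.n6 * c.n1) := by
    rw [c.p4_apply]
    group
  rw [h3]
  have h4 := mul_mem hn6M hn1M
  exact mul_mem (mul_mem (inv_mem h4) (hK4 x)) h4

variable {c}

/-- an automorphism trivial on `K 1 K 4` and trivial modulo `X 5` on `X 6` is trivial on `X 6` -/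
theorem fix_x6 {τ : MulAut L} (h4 : ∀ y, τ (c.p4 y) = c.p4 y)
    (h6 : ∀ t, σ t = t → ∃ d, τ (c.x6 t) = c.x6 t * c.x5 d) {t : E} (ht : σ t = t) : τ (c.x6 t) = c.x6 t := by
  obtain ⟨d, hd⟩ := h6 t ht
  -- the rotation `k ↦ k - 4`
  obtain ⟨r, hr⟩ : ∃ r, r = c.n6 * c.n1 * (c.n6 * c.n1) := ⟨_, rfl⟩
  have hrm : Maps c.X r (fun k => k - 4) := by
    rw [hr]
    refine (c.maps_g.mul c.maps_g).congr fun k => ?_
    simp only [Function.comp]
    ring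
  obtain ⟨A, hA⟩ : ∃ A, A = c.x6 t := ⟨_, rfl⟩
  obtain ⟨B, hB⟩ : ∃ B, B = c.x5 d := ⟨_, rfl⟩
  obtain ⟨C, hC⟩ : ∃ C, C = c.p4 (lo 1) := ⟨_, rfl⟩
  have mA : A ∈ c.X 6 := by rw [hA]; exact c.mem6 ht
  have mB : B ∈ c.X 5 := by rw [hB]; exact c.mem5 d
  have mC : C ∈ c.X 10 := by rw [hC]; exact c.p4_lo_mem 1
  have tA : τ A = A * B := by rw [hA, hB]; exact hd
  have tC : τ C = C := by rw [hC]; exact h4 _
  -- `kk A C ∈ X 8`
  have m8 : kk A C ∈ c.X 8 := by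
    have a2 : r * A * r⁻¹ ∈ c.X 2 := maps_mem hrm mA (by decide)
    have a6 : r * C * r⁻¹ ∈ c.X 6 := maps_mem hrm mC (by decide)
    obtain ⟨s, hs, es⟩ := (c.par.mem2 _).1 a2
    obtain ⟨s', hs', es'⟩ := (c.par.mem6 _).1 a6
    have h3 := c.par.rel.c26 s s' hs hs'
    rw [es, es'] at h3
    have h5 : r * kk A C * r⁻¹ ∈ c.X 4 := by
      have : r * kk A C * r⁻¹ = kk (r * A * r⁻¹) (r * C * r⁻¹) := by unfold kk; group
      rw [this, h3]
      exact c.mem4 (mul_fix hs hs')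
    exact (hrm 8 _).1 (by convert h5 using 2; decide)
  -- the action of `τ` on `X 8`
  have t8 : ∀ x ∈ c.X 8, ∃ b ∈ c.X 9, τ x = x * b := by
    intro x hx
    have hx' : c.n4⁻¹ * x * c.n4 ∈ c.X 6 := maps_mem' c.maps_n4 hx (by decide)
    obtain ⟨s, hs, es⟩ := (c.par.mem6 _).1 hx'
    obtain ⟨e, he⟩ := h6 s hs
    refine ⟨c.n4 * c.x5 e * c.n4⁻¹, maps_mem c.maps_n4 (c.mem5 e) (by decide), ?_⟩
    have h3 : x = c.n4 * c.x6 s * c.n4⁻¹ := by rw [es]; group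
    have h5 : τ c.n4 = c.n4 := h4 _
    rw [h3, map_mul, map_mul, map_inv, h5, he]
    group
  obtain ⟨b, hb, eb⟩ := t8 _ m8
  have e3 : τ (kk A C) = kk (A * B) C := by rw [map_kk, tA, tC]
  have hcomm : kk A C * B = B * kk A C := by
    have a1 : r * B * r⁻¹ ∈ c.X 1 := maps_mem hrm mB (by decide)
    have a4 : r * kk A C * r⁻¹ ∈ c.X 4 := maps_mem hrm m8 (by decide)
    have h3 := c.comm4 (c.sg (by decide) a1) a4
    have h5 : r * (kk A C * B) * r⁻¹ = r * (B * kk A C) * r⁻¹ := by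
      calc _ = r * kk A C * r⁻¹ * (r * B * r⁻¹) := by group
        _ = _ := by rw [← h3]; group
    exact mul_left_cancel (mul_right_cancel h5)
  rw [kk_mul_left hcomm, eb] at e3
  have e5 : kk B C = b := (mul_left_cancel e3).symm
  -- transport
  have a1 : r * B * r⁻¹ ∈ c.X 1 := maps_mem hrm mB (by decide)
  have a6 : r * C * r⁻¹ ∈ c.X 6 := maps_mem hrm mC (by decide)
  obtain ⟨s, es⟩ := (c.par.mem1 _).1 a1
  obtain ⟨s', hs', es'⟩ := (c.par.mem6 _).1 a6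
  have hs0 : s' ≠ 0 := by
    rintro rfl
    rw [c.x6_zero] at es'
    have h3 : C = 1 := by
      calc C = r⁻¹ * (r * C * r⁻¹) * r := by group
        _ = 1 := by rw [← es']; group
    rw [hC] at h3
    have h5 := c.p4_inj (h3.trans (map_one c.p4).symm)
    have h7 := congrArg (fun y => ent y 1 0) h5
    simp at h7
  have e7 : r * kk B C * r⁻¹ ∈ c.X 5 := by
    rw [e5]
    exact maps_mem hrm hb (by decide)
  have e8 : r * kk B C * r⁻¹ = kk (c.x1 s) (c.x6 s') := by rw [es, es']; unfold kk; group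
  rw [e8] at e7
  obtain ⟨u, hu⟩ := (c.par.mem5 _).1 e7
  have n1 := (c.nf6 hs').kk1 s
  rw [← hu] at n1
  have n2 := n1.unique (c.nf5 u)
  have n3 : s' * nrm σ s = 0 := by
    have hz : ∀ x : E, trc σ x 0 = 0 := by intro x; unfold trc; simp
    have := n2.1
    rw [hz, hz] at this
    linear_combination -this
  have hs : s = 0 := by
    by_contra hne
    exact mul_ne_zero hs0 (nrm_ne hne) n3
  rw [hs, c.x1_zero] at es
  have hB1 : B = 1 := by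
    calc B = r⁻¹ * (r * B * r⁻¹) * r := by group
      _ = 1 := by rw [← es]; group
  rw [hd, ← hB, hB1, mul_one]

theorem eq_one_of_K14 {τ : MulAut L} (h1 : ∀ x, τ (c.pb x) = c.pb x) (h4 : ∀ y, τ (c.p4 y) = c.p4 y)
    (h6 : ∀ t, σ t = t → ∃ d, τ (c.x6 t) = c.x6 t * c.x5 d) : τ = 1 := by
  have t6 : ∀ t, σ t = t → τ (c.x6 t) = c.x6 t := fun t ht => fix_x6 h4 h6 ht
  have tn1 : τ c.n1 = c.n1 := h1 _
  have tn4 : τ c.n4 = c.n4 := h4 _
  have t2 : ∀ t, σ t = t → τ (c.x2 t) = c.x2 t := by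
    intro t ht
    rw [← n1_inv_x6 t ht, map_mul, map_mul, map_inv, tn1, t6 t ht]
  have t0' : ∀ g ∈ c.X 0, τ g ∈ c.X 0 := by
    intro g hg
    have h3 : c.n4⁻¹ * g * c.n4 ∈ c.X 2 := maps_mem' c.maps_n4 hg (by decide)
    obtain ⟨t, ht, hb⟩ := (c.par.mem2 _).1 h3
    have e3 : g = c.n4 * c.x2 t * c.n4⁻¹ := by rw [hb]; group
    have e4 : τ g = g := by
      rw [e3, map_mul, map_mul, map_inv, tn4, t2 t ht]
    rw [e4]
    exact hg
  ext x
  refine c.eq_id (φ := τ.toMonoidHom) (fun a => ?_) (fun g hg => ?_) t6 t0' x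
  · rw [← c.pb_up]
    exact h1 _
  · obtain ⟨b, rfl⟩ := (c.pb_lo _).1 hg
    have : τ (c.pb (lo b)) = c.pb (lo b) := h1 _
    change τ (c.pb (lo b)) ∈ c.X 7
    rw [this]
    exact hg

/-- **An automorphism trivial on `K 1` and `K 4` is `1` or the conjugation by `z`.** -/
theorem eq_of_K14 [Finite E] [Finite L] (h2 : (2 : E) ≠ 0) {τ : MulAut L} (h1 : ∀ x, τ (c.pb x) = c.pb x)
    (h4 : ∀ y, τ (c.p4 y) = c.p4 y) : τ = 1 ∨ τ = MulAut.conj c.z := by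
  have X1 : ∀ τ : MulAut L, (∀ x, τ (c.pb x) = c.pb x) → ∀ x ∈ c.X 1, τ x ∈ c.X 1 := by
    intro τ h x hx
    obtain ⟨b, rfl⟩ := (c.par.mem1 _).1 hx
    rw [← c.pb_up, h, c.pb_up]
    exact hx
  have X7 : ∀ τ : MulAut L, (∀ x, τ (c.pb x) = c.pb x) → ∀ x ∈ c.X 7, τ x ∈ c.X 7 := by
    intro τ h x hx
    obtain ⟨b, rfl⟩ := (c.pb_lo _).1 hx
    rw [h]
    exact hx
  obtain ⟨u, hu0, fu, k1, k7, kN⟩ := exists_scale h2 h4 (X1 τ h1) (X7 τ h1)
  have hu : u = 1 ∨ u = -1 := by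
    have h3 := kN 1 1 (by rw [← c.pb_up, h1])
    have h5 : nrm σ (1 : E) = 1 := by unfold nrm; simp
    rw [h5, mul_one] at h3
    have h6 : (u - 1) * (u + 1) = 0 := by linear_combination -h3
    rcases mul_eq_zero.1 h6 with h7 | h7
    · exact Or.inl (sub_eq_zero.1 h7)
    · exact Or.inr (eq_neg_of_add_eq_zero_left h7)
  have fin : ∀ τ : MulAut L, (∀ x, τ (c.pb x) = c.pb x) → (∀ y, τ (c.p4 y) = c.p4 y) →
      (∀ h e, c.M7 h e → c.M7 (τ h) e) → τ = 1 := by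
    intro τ h1 h4 k7
    refine eq_one_of_K14 h1 h4 fun t ht => ?_
    obtain ⟨_, d, _, e⟩ := k7 _ _ (m7_x6 (c := c) ht)
    exact ⟨d, e⟩
  rcases hu with hu | hu
  · left
    refine fin τ h1 h4 fun h e hh => ?_
    have := k7 h e hh
    rwa [hu, one_mul] at this
  · right
    have h3 : MulAut.conj c.z * τ = 1 := by
      refine fin _ (fun x => ?_) (fun y => ?_) fun h e hh => ?_
      · rw [MulAut.mul_apply, h1, MulAut.conj_apply, c.z_pb]
        group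
      · rw [MulAut.mul_apply, h4, MulAut.conj_apply, c.z_p4]
        group
      · have h5 := k7 h e hh
        rw [hu, neg_one_mul] at h5
        rw [MulAut.mul_apply, MulAut.conj_apply, h5.inv_z]
        obtain ⟨fe, d, hd, e5⟩ := h5
        refine ⟨hh.fix, -d, ?_, ?_⟩
        · intro s
          have := hd s
          unfold trc at this ⊢
          simp only [mul_neg, map_neg]
          linear_combination -this
        · rw [e5, mul_inv_rev, ← c.x5_neg, ← c.x6_neg fe, neg_neg]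
          exact x56 hh.fix
    have h5 : τ = (MulAut.conj c.z)⁻¹ := eq_inv_of_mul_eq_one_right h3
    rw [h5, ← map_inv, c.z_inv]

end HexGrp

end Cfsg.Agent.Cit.HexBase
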