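import Cfsg.Agent.Cit.HexCent2
import Cfsg.Agent.Lib.AutSL2Out

/-!
# Groups of type `G₂` and `³D₄`: the group `Q 4`
-/

set_option autoImplicit false

namespace Cfsg.Agent.Cit.HexBase

open Cfsg.Agent.SplitTwo Cfsg.Agent.TitsThree.RankTwoZ Cfsg.Agent.Lib.SL2Mat Cfsg.Agent.Lib.AutSL2
  Cfsg.Agent.TitsThree.RankTwoIdx Cfsg.Agent.TitsThree.RankTwoRGD
open scoped commutatorElement Pointwise

namespace HexGrp

universe u

variable {E : Type*} [Field E] {σ : E ≃+* E} {L : Type u} [Group L] (c : HexGrp σ L)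

/-! ### `Q 4` is a characteristic `p`-subgroup of `C(X 4)` -/

section pgroup

variable (p : ℕ) [CharP E p]

include p in
theorem pow_eq_one {x : E → L} (h : ∀ a b, σ a = a → σ b = b → x (a + b) = x a * x b) {a : E} (ha : σ a = a) :
    x a ^ p = 1 := by
  have h0 : x 0 = 1 := by
    have := h 0 0 (map_zero σ) (map_zero σ)
    rw [add_zero] at this
    exact left_eq_mul.1 this
  have key : ∀ n : ℕ, x (n * a) = x a ^ n := by
    intro n
    induction n with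
    | zero => rw [Nat.cast_zero, zero_mul, h0, pow_zero]
    | succ n ih =>
      rw [Nat.cast_succ, add_mul, one_mul, h _ _ (by rw [map_mul, map_natCast, ha]) ha, ih, pow_succ]
  rw [← key, CharP.cast_eq_zero, zero_mul, h0]

include p in
theorem pow_eq_one' {x : E → L} (h : ∀ a b, x (a + b) = x a * x b) (a : E) : x a ^ p = 1 := by
  have h0 : x 0 = 1 := by
    have := h 0 0
    rw [add_zero] at this
    exact left_eq_mul.1 this
  have key : ∀ n : ℕ, x (n * a) = x a ^ n := by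
    intro n
    induction n with
    | zero => rw [Nat.cast_zero, zero_mul, h0, pow_zero]
    | succ n ih => rw [Nat.cast_succ, add_mul, one_mul, h, ih, pow_succ]
  rw [← key, CharP.cast_eq_zero, zero_mul, h0]

theorem isPGroup_of_pow {H : Subgroup L} (h : ∀ g ∈ H, g ^ p = 1) : IsPGroup p H := by
  rintro ⟨g, hg⟩
  exact ⟨1, Subtype.ext (by rw [pow_one]; exact h g hg)⟩

omit [CharP E p] in
variable {p} in
theorem isPGroup_insert [Fact p.Prime] {k : ZMod (2 * 6)} {s : Finset (ZMod (2 * 6))}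
    (h : ∀ j ∈ s, j = k ∨ (k ≠ j + 6 ∧ bt k j ⊆ s)) (hk : IsPGroup p ↥(c.X k)) (hs : IsPGroup p ↥(Sg c.X s)) :
    IsPGroup p ↥(Sg c.X (insert k s)) := by
  have h1 : IsPGroup p ↥(c.X k ⊔ Sg c.X s) :=
    hk.to_sup_of_normal_right' hs (c.conj_mem_Sg_of_le fun x hx g hg => c.conj_mem_Sg h hx hg)
  refine h1.to_le (Sg_le fun j hj => ?_)
  rcases Finset.mem_insert.1 hj with rfl | hj
  · exact le_sup_left
  · exact (X_le_Sg hj).trans le_sup_right

variable {p} in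
theorem isPGroup_Q4 [Fact p.Prime] : IsPGroup p ↥c.Q4 := by
  have hr := c.par.rel
  have k2 : IsPGroup p ↥(c.X 2) := isPGroup_of_pow p fun g hg => by
    obtain ⟨a, ha, rfl⟩ := (c.par.mem2 _).1 hg
    exact pow_eq_one p hr.add2 ha
  have k3 : IsPGroup p ↥(c.X 3) := isPGroup_of_pow p fun g hg => by
    obtain ⟨a, rfl⟩ := (c.par.mem3 _).1 hg
    exact pow_eq_one' p hr.add3 a
  have k4 : IsPGroup p ↥(c.X 4) := isPGroup_of_pow p fun g hg => by
    obtain ⟨a, ha, rfl⟩ := (c.par.mem4 _).1 hg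
    exact pow_eq_one p hr.add4 ha
  have k5 : IsPGroup p ↥(c.X 5) := isPGroup_of_pow p fun g hg => by
    obtain ⟨a, rfl⟩ := (c.par.mem5 _).1 hg
    exact pow_eq_one' p hr.add5 a
  have k6 : IsPGroup p ↥(c.X 6) := isPGroup_of_pow p fun g hg => by
    obtain ⟨a, ha, rfl⟩ := (c.par.mem6 _).1 hg
    exact pow_eq_one p hr.add6 ha
  have s0 : IsPGroup p ↥(Sg c.X ∅) := by
    have : Sg c.X ∅ = ⊥ := by unfold Sg; simp
    rw [this]
    exact IsPGroup.of_bot
  have s6 := c.isPGroup_insert (k := 6) (s := ∅) (by decide +kernel) k6 s0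
  have s5 := c.isPGroup_insert (k := 5) (s := insert 6 ∅) (by decide +kernel) k5 s6
  have s4 := c.isPGroup_insert (k := 4) (s := insert 5 (insert 6 ∅)) (by decide +kernel) k4 s5
  have s3 := c.isPGroup_insert (k := 3) (s := insert 4 (insert 5 (insert 6 ∅))) (by decide +kernel) k3 s4
  exact c.isPGroup_insert (k := 2) (s := insert 3 (insert 4 (insert 5 (insert 6 ∅)))) (by decide +kernel) k2 s3

end pgroup

theorem Q4_le_cent {q : L} (hq : q ∈ c.Q4) {x : L} (hx : x ∈ c.X 4) : q * x = x * q := c.comm4 (c.Q4_le_Pos hq) hx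

/-- **`Q 4` is invariant under all automorphisms normalising `X 4`.** -/
theorem Q4_char [Finite E] [Finite L] (h2 : (2 : E) ≠ 0) (τ : L ≃* L) (h4 : ∀ x ∈ c.X 4, τ x ∈ c.X 4) :
    ∀ g ∈ c.Q4, τ g ∈ c.Q4 := by
  obtain ⟨p, hp⟩ := CharP.exists E
  have : Fact p.Prime := ⟨CharP.char_is_prime E p⟩
  -- `τ (X 4) = X 4`
  have h4' : ∀ x ∈ c.X 4, ∃ y ∈ c.X 4, τ y = x := by
    have h1 : (c.X 4).map τ.toMonoidHom ≤ c.X 4 := by
      rintro _ ⟨x, hx, rfl⟩
      exact h4 x hx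
    have h3 : (c.X 4).map τ.toMonoidHom = c.X 4 := Subgroup.eq_of_le_of_card_ge h1 (by
      rw [Subgroup.card_map_of_injective τ.injective])
    intro x hx
    rw [← h3] at hx
    obtain ⟨y, hy, e⟩ := hx
    exact ⟨y, hy, e⟩
  -- `g ∈ C` iff `g = q k`
  have hC : ∀ g : L, (∀ x ∈ c.X 4, g * x = x * g) → ∃ q ∈ c.Q4, ∃ y, g = q * c.pb y := by
    intro g hg
    obtain ⟨q, hq, _, ⟨y, rfl⟩, e⟩ := c.centralizer_X4 h2 hg
    exact ⟨q, hq, y, e⟩
  obtain ⟨P, hP⟩ : ∃ P : Subgroup L, P = c.Q4.map τ.toMonoidHom := ⟨_, rfl⟩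
  have hPmem : ∀ g, g ∈ P ↔ ∃ q ∈ c.Q4, τ q = g := by
    intro g
    rw [hP, Subgroup.mem_map]
    rfl
  -- elements of `P` centralise `X 4`
  have hPc : ∀ g ∈ P, ∀ x ∈ c.X 4, g * x = x * g := by
    intro g hg x hx
    obtain ⟨q, hq, rfl⟩ := (hPmem g).1 hg
    obtain ⟨y, hy, rfl⟩ := h4' x hx
    rw [← map_mul, c.Q4_le_cent hq hy, map_mul]
  -- `C` normalises `P`
  have hPn : ∀ g : L, (∀ x ∈ c.X 4, g * x = x * g) → ∀ r ∈ P, g * r * g⁻¹ ∈ P := by
    intro g hg r hr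
    obtain ⟨q, hq, rfl⟩ := (hPmem r).1 hr
    obtain ⟨g', rfl⟩ := τ.surjective g
    have hg' : ∀ x ∈ c.X 4, g' * x = x * g' := by
      intro x hx
      apply τ.injective
      rw [map_mul, map_mul]
      exact hg _ (h4 x hx)
    obtain ⟨q', hq', y, rfl⟩ := hC g' hg'
    refine (hPmem _).2 ⟨q' * (c.pb y * q * (c.pb y)⁻¹) * q'⁻¹, ?_, ?_⟩
    · exact mul_mem (mul_mem hq' (c.K1_Q4 ⟨y, rfl⟩ hq)) (inv_mem hq')
    · simp only [map_mul, map_inv]
      group
  have hPp : IsPGroup p P := by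
    rw [hP]
    exact c.isPGroup_Q4.map _
  have hQn : c.Q4 ≤ Subgroup.normalizer (P : Set L) := by
    intro g hg
    rw [Subgroup.mem_normalizer_iff]
    intro r
    refine ⟨hPn g (fun x hx => c.Q4_le_cent hg hx) r, fun h => ?_⟩
    have := hPn g⁻¹ (fun x hx => c.Q4_le_cent (inv_mem hg) hx) _ h
    have e : g⁻¹ * (g * r * g⁻¹) * g⁻¹⁻¹ = r := by group
    rwa [e] at this
  have hPQ : IsPGroup p ↥(P ⊔ c.Q4) := by
    rw [sup_comm]
    exact c.isPGroup_Q4.to_sup_of_normal_right' hPp hQn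
  -- the intersection with `K 1`
  obtain ⟨R, hR⟩ : ∃ R : Subgroup (SL2 E), R = (P ⊔ c.Q4).comap c.pb := ⟨_, rfl⟩
  have hRp : IsPGroup p R := by
    rw [hR]
    exact hPQ.comap_of_injective _ (c.pb_inj h2)
  have hPQn : ∀ y, ∀ g ∈ P ⊔ c.Q4, c.pb y * g * (c.pb y)⁻¹ ∈ P ⊔ c.Q4 := by
    intro y
    have : P ⊔ c.Q4 ≤ (P ⊔ c.Q4).comap (MulAut.conj (c.pb y)).toMonoidHom := by
      refine sup_le (fun r hr => ?_) fun r hr => ?_
      · exact (le_sup_left : P ≤ P ⊔ c.Q4) (hPn _ (fun x hx => c.pb_comm4 y hx) r hr)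
      · exact (le_sup_right : c.Q4 ≤ P ⊔ c.Q4) (c.K1_Q4 ⟨y, rfl⟩ hr)
    exact fun g hg => this hg
  have hRn : R.Normal := ⟨fun x hx y => by
    rw [hR, Subgroup.mem_comap] at hx ⊢
    rw [map_mul, map_mul, map_inv]
    exact hPQn y _ hx⟩
  have hRU : R ≤ upG E := by
    have h1 : IsPGroup p ↥(R ⊔ upG E) := hRp.to_sup_of_normal_left (isPGroup_upG p)
    have h3 := eq_upG_of_le h1 le_sup_right
    exact le_sup_left.trans h3.le
  have hR1 : ∀ x ∈ R, x = 1 := by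
    intro x hx
    obtain ⟨b, rfl⟩ := hRU hx
    obtain ⟨b', hb'⟩ := hRU (hRn.conj_mem _ hx (wm 1 one_ne_zero))
    rw [wm_up'] at hb'
    have := congrArg (fun y => ent y 1 0) hb'
    simp only [up_10, lo_10] at this
    have hb : b = 0 := by linear_combination this
    rw [hb, up_zero]
  -- `P ≤ Q 4`
  intro g hg
  have hgP : τ g ∈ P := (hPmem _).2 ⟨g, hg, rfl⟩
  obtain ⟨q, hq, y, e⟩ := hC (τ g) (hPc _ hgP)
  have hy : y ∈ R := by
    rw [hR, Subgroup.mem_comap]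
    have : c.pb y = q⁻¹ * τ g := by rw [e]; group
    rw [this]
    exact mul_mem ((le_sup_right : c.Q4 ≤ P ⊔ c.Q4) (inv_mem hq)) ((le_sup_left : P ≤ P ⊔ c.Q4) hgP)
  rw [e, hR1 y hy, map_one, mul_one]
  exact hq

end HexGrp

end Cfsg.Agent.Cit.HexBase
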