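import Cfsg.Agent.Cit.ExIn
import Cfsg.Agent.Cit.CoreThree

/-!
# Trivial cores from (C) and connectivity (project CIT)

`lb_of_coreE` : `ExLocal.LB Om` from `MinS Om`, the connected commuting graph and (C) for all `s ∈ E(S)`, `s ≠ 1`,
for every order of `E(S)`: the group `⋂ O(C(s))`, `s ∈ E(S)`, `s ≠ 1`, does not depend on `S`.
-/

set_option autoImplicit false
set_option linter.style.haveILetI false
set_option linter.unusedSectionVars false

namespace Cfsg.Agent.Cit.IdCore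

open Subgroup Cfsg Cfsg.Agent.Cit Cfsg.Agent.Cit.UseT Cfsg.Agent.Cit.PieceG Cfsg.Agent.Cit.ExLocal
open Cfsg.Agent.Cit.CoresG Cfsg.Agent.Cit.CoresCore Cfsg.Agent.Cit.CoreThree

universe u

variable {G : Type u} [Group G] [Finite G] {Om : Set (Subgroup G)}

/-- (C) : `K ⊓ S` centralises `O(C(s))` -/
theorem inf_le_of_coreE (hE : CoreE Om) (S : Sylow 2 G) {K : Subgroup G} (hK : K ∈ OmS Om (S : Subgroup G)) {s : G}
    (hs : s ∈ ES Om (S : Subgroup G)) (hs1 : s ≠ 1) : K ⊓ (S : Subgroup G) ≤ centralizer (XX s : Set G) := by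
  have h1 := hE S K hK s hs hs1
  rwa [commutator_comm, commutator_eq_bot_iff_le_centralizer] at h1

theorem DD_le_of_coreE (hE : CoreE Om) (S : Sylow 2 G) {s : G}
    (hs : s ∈ ES Om (S : Subgroup G)) (hs1 : s ≠ 1) : DD Om (S : Subgroup G) ≤ centralizer (XX s : Set G) :=
  DD_le_iff.2 fun _ hK => inf_le_of_coreE hE S hK hs hs1

/-- `⋂ O(C(s))` is the same for two Sylow subgroups with a common member -/
theorem Del_eq_of_mem (h : Hyp Om) (hE : CoreE Om) {S S' : Sylow 2 G} {K : Subgroup G}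
    (hK : K ∈ OmS Om (S : Subgroup G)) (hK' : K ∈ OmS Om (S' : Subgroup G)) :
    Del (ES Om (S : Subgroup G)) = Del (ES Om (S' : Subgroup G)) := by
  have h1 := DD_le_of_coreE hE S (zz_mem_ES hK) (h.zz_ne hK.1)
  have h2 := DD_le_of_coreE hE S' (zz_mem_ES hK') (h.zz_ne hK.1)
  obtain ⟨T, hT, hDT⟩ := exists_syl_ge (S.isPGroup'.to_le DD_le) h1
  obtain ⟨T', hT', hDT'⟩ := exists_syl_ge (S'.isPGroup'.to_le DD_le) h2
  obtain ⟨g, hg, hgT⟩ := hT.exists_conj hT'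
  have e1 := OmS_eq_of_sylow h.conj S hT.2.1 hDT
  have e2 := OmS_eq_of_sylow h.conj S' hT'.2.1 hDT'
  rw [← ES_eq_of_OmS_eq e1, ← ES_eq_of_OmS_eq e2, ← hgT, ← cj_ES h, ← cj_Del]
  have h3 : Del (ES Om T) ≤ XX (zz K) := by
    rw [ES_eq_of_OmS_eq e1]
    exact Del_le (zz_mem_ES hK) (h.zz_ne hK.1)
  symm
  refine eq_of_le_of_card_ge ?_ (by rw [card_cj])
  rintro _ ⟨x, hx, rfl⟩
  have h4 := mem_centralizer_iff.1 hg x (h3 hx)
  change g * x * g⁻¹ ∈ _
  rw [← h4, mul_inv_cancel_right]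
  exact hx

theorem exists_mem_OmS_of (h : Hyp Om) (hne : Om.Nonempty) (S : Sylow 2 G) : ∃ K, K ∈ OmS Om (S : Subgroup G) := by
  obtain ⟨L, hL⟩ := hne
  obtain ⟨S', hS'⟩ := exists_mem_OmS hL
  obtain ⟨g, hg⟩ := exists_cj_sylow S' S
  exact ⟨cj g L, by rw [← hg]; exact cj_mem_OmS h.conj g hS'⟩

/-- `⋂ O(C(s))` does not depend on `S` -/
theorem Del_const (h : Hyp Om) (hne : Om.Nonempty) (hcon : Conn Om) (hE : CoreE Om) (S S' : Sylow 2 G) :
    Del (ES Om (S : Subgroup G)) = Del (ES Om (S' : Subgroup G)) := by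
  obtain ⟨K, hK⟩ := exists_mem_OmS_of h hne S
  obtain ⟨L, hL⟩ := exists_mem_OmS_of h hne S'
  have key : ∀ L, Relation.ReflTransGen (Adj Om) K L → ∀ S' : Sylow 2 G, L ∈ OmS Om (S' : Subgroup G) →
      Del (ES Om (S : Subgroup G)) = Del (ES Om (S' : Subgroup G)) := by
    intro L hL
    induction hL with
    | refl => exact fun S' hS' => Del_eq_of_mem h hE hK hS'
    | @tail M N _ h2 ih =>
      intro S' hS'
      obtain ⟨R, hM, hN⟩ := h2
      rw [ih R hM]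
      exact Del_eq_of_mem h hE hN hS'
  exact key L (hcon K hK.1 L hL.1) S' hL

theorem not_dvd_Del (h : Hyp Om) {S : Subgroup G} {K : Subgroup G} (hK : K ∈ OmS Om S) :
    ¬ 2 ∣ Nat.card (Del (ES Om S)) := fun h2 =>
  odd_XX (zz K) (h2.trans (card_dvd_of_le (Del_le (zz_mem_ES hK) (h.zz_ne hK.1))))

/-- **`⋂ O(C(s)) = 1`** -/
theorem Del_eq_bot (hm : MinS Om) (hcon : Conn Om) (hE : CoreE Om) (S : Sylow 2 G) :
    Del (ES Om (S : Subgroup G)) = ⊥ := by
  have h := hm.hyp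
  obtain ⟨K, hK⟩ := exists_mem_OmS_of h hm.ne S
  refine hm.eq_bot_of_odd ?_ (not_dvd_Del h hK)
  refine ⟨fun x hx g => ?_⟩
  have h1 : cj g (Del (ES Om (S : Subgroup G))) = Del (ES Om (S : Subgroup G)) := by
    rw [cj_Del, cj_ES h]
    exact Del_const h hm.ne hcon hE (g • S) S
  rw [← h1]
  exact ⟨x, hx, rfl⟩

theorem corG_of_coreE (hm : MinS Om) (hE : CoreE Om) (S : Sylow 2 G) :
    ∀ s ∈ ES Om (S : Subgroup G), s ≠ 1 →
      (∀ K ∈ OmS Om (S : Subgroup G), K ≤ centralizer {s}) ∧ CorG Om (centralizer {s}) :=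
  hm.corG_of_cor S fun _ hs hs1 _ hK => inf_le_of_coreE hE S hK hs hs1

theorem OO_le_XX_of_corG {H K : Subgroup G} (C : CorG Om H) (hK : K ∈ Om) (hKH : K ≤ H) : OO K ≤ OO H := by
  intro x hx
  have h1 := C.pcs.core _ (bar_mem hK hKH)
  have h2 : qm H ⟨x, hKH (OO_le K hx)⟩ ∈ OO (bar H K) := by
    refine map_OO_le _ _ ⟨⟨x, hKH (OO_le K hx)⟩, ?_, rfl⟩
    refine (le_OO (K := K.subgroupOf H) (N := (OO K).subgroupOf H) ?_ ?_ ?_) ?_
    · exact Subgroup.comap_mono (OO_le K)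
    · intro g hg
      have h2 := le_normalizer_OO K (mem_subgroupOf.1 hg)
      rw [mem_normalizer_iff_cj] at h2 ⊢
      rw [← UseT.cj_subgroupOf, h2]
    · intro h2
      refine odd_OO K (h2.trans ?_)
      rw [← card_map_of_injective H.subtype_injective, subgroupOf_map_subtype]
      exact card_dvd_of_le inf_le_left
    · exact mem_subgroupOf.2 hx
  rw [h1, mem_bot] at h2
  exact qm_eq_one_iff.1 h2

/-- **the members have trivial cores** -/
theorem OO_eq_bot_of_coreE (hm : MinS Om) (hcon : Conn Om) (hE : CoreE Om) : ∀ K ∈ Om, OO K = ⊥ := by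
  intro K hK
  obtain ⟨S, hS⟩ := exists_mem_OmS hK
  rw [eq_bot_iff, ← Del_eq_bot hm hcon hE S]
  intro x hx
  rw [mem_Del]
  intro s hs hs1
  obtain ⟨h1, C⟩ := corG_of_coreE hm hE S s hs hs1
  exact OO_le_XX_of_corG C hK (h1 K hS) hx

/-- **`LB`** -/
theorem lb_of_coreE (hm : MinS Om) (hcon : Conn Om) (hE : CoreE Om) : LB Om where
  hyp := hm.hyp
  ty := hm.ty
  core := OO_eq_bot_of_coreE hm hcon hE
  cor K hK := by
    obtain ⟨S, hKS⟩ := exists_mem_OmS hK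
    exact (corG_of_coreE hm hE S (zz K) (zz_mem_ES hKS) (hm.hyp.zz_ne hK)).2

end Cfsg.Agent.Cit.IdCore
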