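import Cfsg.Agent.Cit.BiAdd
import Cfsg.Agent.RootAmalgam.Pair

/-!
# An `A₂`-system of long root groups from one `SL₂` and its action (project CIT, LEMMA A2)

`SLSys F G`: a parametrised copy of `SL₂(F)` (elements `xp t`, `xm t`, `h s`, `w`).
`ATwo S B C B' C'`: four more subgroups in the positions `β`, `α+β`, `-β`, `-α-β` (the root groups of `S`
have the positions `α`, `-α`), of order `|F|`, with the action of `S` and the commutators of `C` and `B'`.
RESULT `ATwo.pairData`: this is a rank two system of type `A₂` (`PairData 3`), i.e. the subgroup generated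
by `B` and `B'` has the Weyl elements, although nothing was assumed about it.
-/

set_option autoImplicit false
set_option linter.unusedSectionVars false

namespace Cfsg.Agent.Cit.LemmaATwo

open scoped commutatorElement
open Cfsg.Agent.RootAmalgam (Onto Maps PairData)

variable {G : Type*} [Group G]

/-- Conjugation. -/
def ac (g x : G) : G := g * x * g⁻¹

theorem ac_ac (g k x : G) : ac g (ac k x) = ac (g * k) x := by unfold ac; group
theorem ac_mul (g x y : G) : ac g (x * y) = ac g x * ac g y := by unfold ac; group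
theorem ac_inv (g x : G) : ac g x⁻¹ = (ac g x)⁻¹ := by unfold ac; group
theorem ac_one (g : G) : ac g 1 = 1 := by unfold ac; group
theorem one_ac (x : G) : ac 1 x = x := by unfold ac; group
theorem ac_of_comm {g x : G} (h : g * x = x * g) : ac g x = x := by
  unfold ac; rw [h]; group
theorem comm_of_ac {g x : G} (h : ac g x = x) : g * x = x * g := by
  unfold ac at h
  calc g * x = (g * x * g⁻¹) * g := by group
    _ = x * g := by rw [h]
theorem ac_comm (g x y : G) : ac g ⁅x, y⁆ = ⁅ac g x, ac g y⁆ := by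
  unfold ac; simp only [commutatorElement_def]; group

/-- Elements of a group behaving like those of `SL₂(F)`. -/
structure SLSys (F : Type*) [Field F] (G : Type*) [Group G] where
  xp : F → G
  xm : F → G
  h : F → G
  w : G
  xp_add : ∀ s t, xp (s + t) = xp s * xp t
  xm_add : ∀ s t, xm (s + t) = xm s * xm t
  h_one : h 1 = 1
  h_mul : ∀ s t, s ≠ 0 → t ≠ 0 → h (s * t) = h s * h t
  h_xp : ∀ s t, s ≠ 0 → ac (h s) (xp t) = xp (s * s * t)
  h_xm : ∀ s t, s ≠ 0 → ac (h s) (xm t) = xm (s⁻¹ * s⁻¹ * t)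
  w_xp : ∀ t, ac w (xp t) = xm (-t)
  w_xm : ∀ t, ac w (xm t) = xp (-t)
  w_h : ∀ s, s ≠ 0 → ac w (h s) = h s⁻¹
  w_sq : w * w = h (-1)
  weyl : ∀ t, t ≠ 0 → xm (-t⁻¹) * xp t * xm (-t⁻¹) = h t * w
  xp_inj : ∀ t, xp t = 1 → t = 0

namespace SLSys

variable {F : Type*} [Field F] (S : SLSys F G)

theorem xp_zero : S.xp 0 = 1 := by
  have := S.xp_add 0 0
  rw [add_zero] at this
  exact left_eq_mul.1 this

theorem xm_zero : S.xm 0 = 1 := by
  have := S.xm_add 0 0
  rw [add_zero] at this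
  exact left_eq_mul.1 this

theorem xp_neg (t : F) : S.xp (-t) = (S.xp t)⁻¹ := by
  rw [eq_inv_iff_mul_eq_one, ← S.xp_add, neg_add_cancel, S.xp_zero]

theorem xm_neg (t : F) : S.xm (-t) = (S.xm t)⁻¹ := by
  rw [eq_inv_iff_mul_eq_one, ← S.xm_add, neg_add_cancel, S.xm_zero]

theorem h_neg_one_sq : S.h (-1) * S.h (-1) = 1 := by
  rw [← S.h_mul _ _ (neg_ne_zero.2 one_ne_zero) (neg_ne_zero.2 one_ne_zero), neg_mul_neg, one_mul, S.h_one]

theorem w_inv : S.w⁻¹ = S.h (-1) * S.w := by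
  have h1 := S.w_sq
  have h2 := S.h_neg_one_sq
  rw [inv_eq_iff_mul_eq_one, ← mul_assoc, ← h1] 
  calc S.w * (S.w * S.w) * S.w = (S.w * S.w) * (S.w * S.w) := by group
    _ = 1 := by rw [h1, h2]

theorem h_inv {s : F} (hs : s ≠ 0) : (S.h s)⁻¹ = S.h s⁻¹ := by
  rw [inv_eq_iff_mul_eq_one, ← S.h_mul _ _ hs (inv_ne_zero hs), mul_inv_cancel₀ hs, S.h_one]

/-- The opposite Weyl elements. -/
theorem weyl' (t : F) (ht : t ≠ 0) : S.xp (-t⁻¹) * S.xm t * S.xp (-t⁻¹) = S.h t⁻¹ * S.w⁻¹ := by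
  have h1 := S.weyl (-t) (neg_ne_zero.2 ht)
  have h2 := congrArg (ac S.w) h1
  rw [ac_mul, ac_mul, S.w_xm, S.w_xp, ac_mul, S.w_h _ (neg_ne_zero.2 ht)] at h2
  rw [inv_neg, neg_neg, neg_neg] at h2
  have h3 : ac S.w S.w = S.w := by unfold ac; group
  rw [h3] at h2
  rw [h2, S.w_inv, ← mul_assoc, ← S.h_mul _ _ (inv_ne_zero ht) (neg_ne_zero.2 one_ne_zero), mul_neg_one]

/-- The opposite system. -/
def opp : SLSys F G where
  xp := S.xm
  xm := S.xp
  h := fun s => S.h s⁻¹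
  w := S.w⁻¹
  xp_add := S.xm_add
  xm_add := S.xp_add
  h_one := by simp only [inv_one, S.h_one]
  h_mul := by
    intro s t hs ht
    simp only [mul_inv]
    exact S.h_mul _ _ (inv_ne_zero hs) (inv_ne_zero ht)
  h_xp := by
    intro s t hs
    rw [S.h_xm _ _ (inv_ne_zero hs), inv_inv]
  h_xm := by
    intro s t hs
    rw [S.h_xp _ _ (inv_ne_zero hs)]
  w_xp := by
    intro t
    have := S.w_xp (-t)
    rw [neg_neg] at this
    rw [← this, ac_ac, inv_mul_cancel, one_ac]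
  w_xm := by
    intro t
    have := S.w_xm (-t)
    rw [neg_neg] at this
    rw [← this, ac_ac, inv_mul_cancel, one_ac]
  w_h := by
    intro s hs
    have := S.w_h s hs
    rw [inv_inv, ← this, ac_ac, inv_mul_cancel, one_ac]
  w_sq := by
    have h1 := S.w_sq
    rw [inv_neg, inv_one, ← h1]
    have h2 : S.w * S.w * (S.w * S.w) = 1 := by rw [h1]; exact S.h_neg_one_sq
    calc S.w⁻¹ * S.w⁻¹ = S.w⁻¹ * S.w⁻¹ * (S.w * S.w * (S.w * S.w)) := by rw [h2, mul_one]
      _ = S.w * S.w := by simp only [mul_assoc, inv_mul_cancel_left]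
  weyl := by
    intro t ht
    exact S.weyl' t ht
  xp_inj := by
    intro t ht
    have h1 := S.w_xm t
    rw [ht, ac_one] at h1
    have := S.xp_inj _ h1.symm
    exact neg_eq_zero.1 this

/-- The root group `{xp t}`. -/
def A : Subgroup G where
  carrier := Set.range S.xp
  mul_mem' := by
    rintro _ _ ⟨s, rfl⟩ ⟨t, rfl⟩
    exact ⟨s + t, S.xp_add s t⟩
  one_mem' := ⟨0, S.xp_zero⟩
  inv_mem' := by
    rintro _ ⟨s, rfl⟩
    exact ⟨-s, S.xp_neg s⟩

/-- The opposite root group `{xm t}`. -/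
def A' : Subgroup G := S.opp.A

theorem mem_A {x : G} : x ∈ S.A ↔ ∃ t, S.xp t = x := Iff.rfl
theorem mem_A' {x : G} : x ∈ S.A' ↔ ∃ t, S.xm t = x := Iff.rfl
theorem xp_mem (t : F) : S.xp t ∈ S.A := ⟨t, rfl⟩
theorem xm_mem (t : F) : S.xm t ∈ S.A' := ⟨t, rfl⟩

theorem opp_opp_eq : S.opp.opp = S := by
  obtain ⟨xp, xm, h, w, _, _, _, _, _, _, _, _, _, _, _, _⟩ := S
  simp only [SLSys.opp, inv_inv]

theorem xp_injective : Function.Injective S.xp := by
  intro s t hst
  have : S.xp (s - t) = 1 := by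
    rw [sub_eq_add_neg, S.xp_add, S.xp_neg, hst, mul_inv_cancel]
  exact sub_eq_zero.1 (S.xp_inj _ this)

theorem card_A : Nat.card S.A = Nat.card F := by
  have : Nat.card (Set.range S.xp) = Nat.card F := Nat.card_range_of_injective S.xp_injective
  exact this

theorem card_A' : Nat.card S.A' = Nat.card F := S.opp.card_A

end SLSys

/-- The hypotheses on the subgroups `B = X_β`, `C = X_{α+β}`: an abelian group `M = B C` on which `S` acts. -/
structure Half {F : Type*} [Field F] (S : SLSys F G) (B C : Subgroup G) : Prop where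
  abB : ∀ x ∈ B, ∀ y ∈ B, x * y = y * x
  abC : ∀ x ∈ C, ∀ y ∈ C, x * y = y * x
  abBC : ∀ x ∈ B, ∀ y ∈ C, x * y = y * x
  killB : ∀ b ∈ B, ∀ t, S.xm t * b = b * S.xm t
  killC : ∀ c ∈ C, ∀ t, S.xp t * c = c * S.xp t
  mapB : ∀ b ∈ B, ∀ t, b⁻¹ * ac (S.xp t) b ∈ C
  mapC : ∀ c ∈ C, ∀ t, c⁻¹ * ac (S.xm t) c ∈ B
  zB : ∀ b ∈ B, ac (S.h (-1)) b = b⁻¹
  zC : ∀ c ∈ C, ac (S.h (-1)) c = c⁻¹
  oddB : ∀ b ∈ B, b * b = 1 → b = 1
  oddC : ∀ c ∈ C, c * c = 1 → c = 1
  cardB : Nat.card B = Nat.card F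
  cardC : Nat.card C = Nat.card F

namespace Half

variable {F : Type*} [Field F] {S : SLSys F G} {B C : Subgroup G} (H : Half S B C)

include H

/-- The same with the opposite system. -/
theorem opp : Half S.opp C B where
  abB := H.abC
  abC := H.abB
  abBC x hx y hy := (H.abBC y hy x hx).symm
  killB := H.killC
  killC := H.killB
  mapB := H.mapC
  mapC := H.mapB
  zB c hc := by
    have := H.zC c hc
    rwa [show S.opp.h (-1) = S.h (-1) from by show S.h (-1)⁻¹ = _; rw [inv_neg, inv_one]]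
  zC b hb := by
    have := H.zB b hb
    rwa [show S.opp.h (-1) = S.h (-1) from by show S.h (-1)⁻¹ = _; rw [inv_neg, inv_one]]
  oddB := H.oddC
  oddC := H.oddB
  cardB := H.cardC
  cardC := H.cardB

/-- An element of `B` commuting with all `xp t` is trivial. -/
theorem eq_one_of_comm {b : G} (hb : b ∈ B) (hc : ∀ t, S.xp t * b = b * S.xp t) : b = 1 := by
  apply H.oddB b hb
  have h1 : ac S.w b = b := by
    have hw := S.weyl 1 one_ne_zero
    rw [S.h_one, one_mul] at hw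
    rw [← hw, ← ac_ac, ← ac_ac, ac_of_comm (H.killB b hb _), ac_of_comm (hc _), ac_of_comm (H.killB b hb _)]
  have h2 : ac (S.h (-1)) b = b := by
    rw [← S.w_sq, ← ac_ac, h1, h1]
  have h3 := H.zB b hb
  rw [h2] at h3
  rw [← mul_inv_cancel b, ← h3]

/-- STEP 2: the Weyl element `h t * w` maps `b` to `[b, xp t]`. -/
theorem weyl_ac {b : G} (hb : b ∈ B) {t : F} (ht : t ≠ 0) :
    ac (S.h t * S.w) b = b⁻¹ * ac (S.xp t) b := by
  set b1 := b⁻¹ * ac (S.xp t) b with hb1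
  have hb1C : b1 ∈ C := H.mapB b hb t
  set γ := b1⁻¹ * ac (S.xm (-t⁻¹)) b1 with hγ
  have hγB : γ ∈ B := H.mapC b1 hb1C _
  have e1 : ac (S.h t * S.w) b = b * b1 * γ := by
    rw [← S.weyl t ht, ← ac_ac, ← ac_ac, ac_of_comm (H.killB b hb _)]
    have : ac (S.xp t) b = b * b1 := by rw [hb1]; group
    rw [this, ac_mul, ac_of_comm (H.killB b hb _), hγ]; group
  have hbγ : b * γ ∈ B := mul_mem hb hγB
  have e2 : ac (S.h t * S.w) b = b1 * (b * γ) := by
    rw [e1, H.abBC b hb b1 hb1C]; group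
  have key : b * γ = 1 := by
    apply H.eq_one_of_comm hbγ
    intro s
    -- the left side commutes with `xp s`
    have h1 : S.xp s = ac (S.h t * S.w) (S.xm (-(t⁻¹ * t⁻¹ * s))) := by
      rw [← ac_ac, S.w_xm, S.h_xp _ _ ht, neg_neg]
      congr 1
      field_simp
    have h2 : S.xp s * (b1 * (b * γ)) = (b1 * (b * γ)) * S.xp s := by
      rw [← e2, h1, ← ac_mul, ← ac_mul, H.killB b hb]
    have h3 := H.killC b1 hb1C s
    calc S.xp s * (b * γ) = b1⁻¹ * (b1 * S.xp s) * (b * γ) := by group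
      _ = b1⁻¹ * (S.xp s * (b1 * (b * γ))) := by rw [← h3]; group
      _ = b * γ * S.xp s := by rw [h2]; group
  rw [e2, key, mul_one]

theorem weyl_mem {b : G} (hb : b ∈ B) {t : F} (ht : t ≠ 0) : ac (S.h t * S.w) b ∈ C := by
  rw [H.weyl_ac hb ht]; exact H.mapB b hb t

theorem w_memC {b : G} (hb : b ∈ B) : ac S.w b ∈ C := by
  have := H.weyl_mem hb (t := 1) one_ne_zero
  rwa [S.h_one, one_mul] at this

theorem winv_memB {c : G} (hc : c ∈ C) : ac S.w⁻¹ c ∈ B := H.opp.w_memC hc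

theorem w_memB {c : G} (hc : c ∈ C) : ac S.w c ∈ B := by
  have h1 := H.winv_memB (inv_mem hc)
  have h2 : S.w = S.w⁻¹ * S.h (-1) := by rw [← S.w_sq]; group
  rw [h2, ← ac_ac, H.zC c hc]
  exact h1

theorem h_memC {c : G} (hc : c ∈ C) {t : F} (ht : t ≠ 0) : ac (S.h t) c ∈ C := by
  have h1 := H.weyl_mem (H.winv_memB hc) ht
  rw [ac_ac] at h1
  rwa [mul_assoc, mul_inv_cancel, mul_one] at h1

theorem h_memB {b : G} (hb : b ∈ B) {t : F} (ht : t ≠ 0) : ac (S.h t) b ∈ B := by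
  have := H.opp.h_memC hb (inv_ne_zero ht)
  rwa [show S.opp.h t⁻¹ = S.h t from by show S.h (t⁻¹)⁻¹ = _; rw [inv_inv]] at this

end Half

/-- The multiplication by `u`. -/
noncomputable def dl {F : Type*} [Field F] (S : SLSys F G) (u : F) (g : G) : G := by
  classical exact if u = 0 then 1 else ac (S.h u) g

section dl

variable {F : Type*} [Field F] (S : SLSys F G)

theorem dl_zero (g : G) : dl S 0 g = 1 := by unfold dl; rw [if_pos rfl]
theorem dl_ne {u : F} (hu : u ≠ 0) (g : G) : dl S u g = ac (S.h u) g := by unfold dl; rw [if_neg hu]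
theorem dl_one (g : G) : dl S 1 g = g := by rw [dl_ne S one_ne_zero, S.h_one, one_ac]

theorem dl_dl (s u : F) (g : G) : dl S s (dl S u g) = dl S (s * u) g := by
  by_cases hs : s = 0
  · subst hs; rw [zero_mul, dl_zero, dl_zero]
  · by_cases hu : u = 0
    · subst hu; rw [mul_zero, dl_zero, dl_ne S hs, ac_one]
    · rw [dl_ne S hs, dl_ne S hu, dl_ne S (mul_ne_zero hs hu), ac_ac, S.h_mul _ _ hs hu]

variable {S} {B C : Subgroup G} (H : Half S B C)

include H

theorem dl_memC {c : G} (hc : c ∈ C) (u : F) : dl S u c ∈ C := by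
  by_cases hu : u = 0
  · subst hu; rw [dl_zero]; exact one_mem _
  · rw [dl_ne S hu]; exact H.h_memC hc hu

/-- additivity in the scalar -/
theorem dl_add {c : G} (hc : c ∈ C) (u v : F) : dl S (u + v) c = dl S u c * dl S v c := by
  -- `dl u c = [b, xp u]` with `b = w⁻¹ c w`
  set b := ac S.w⁻¹ c with hb
  have hbB : b ∈ B := H.winv_memB hc
  have key : ∀ u : F, dl S u c = b⁻¹ * ac (S.xp u) b := by
    intro u
    by_cases hu : u = 0
    · subst hu; rw [dl_zero, S.xp_zero, one_ac, inv_mul_cancel]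
    · rw [dl_ne S hu, ← H.weyl_ac hbB hu, hb, ac_ac, mul_assoc, mul_inv_cancel, mul_one]
  rw [key, key, key, add_comm u v, S.xp_add, ← ac_ac]
  have h1 : ac (S.xp u) b = b * (b⁻¹ * ac (S.xp u) b) := by group
  have h2 : ac (S.xp v) (b⁻¹ * ac (S.xp u) b) = b⁻¹ * ac (S.xp u) b :=
    ac_of_comm (H.killC _ (H.mapB b hbB u) v)
  conv_lhs => rw [h1, ac_mul, h2]
  have h3 := H.abC _ (H.mapB b hbB u) _ (H.mapB b hbB v)
  rw [h3]; group

theorem dl_neg {c : G} (hc : c ∈ C) (u : F) : dl S (-u) c = (dl S u c)⁻¹ := by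
  rw [eq_inv_iff_mul_eq_one, ← dl_add H hc, neg_add_cancel, dl_zero]

theorem dl_inv {c : G} (u : F) : dl S u c⁻¹ = (dl S u c)⁻¹ := by
  by_cases hu : u = 0
  · subst hu; rw [dl_zero, dl_zero, inv_one]
  · rw [dl_ne S hu, dl_ne S hu, ac_inv]

theorem dl_inj {c : G} (hc : c ∈ C) (h1 : c ≠ 1) {u v : F} (h : dl S u c = dl S v c) : u = v := by
  have h2 : dl S (u - v) c = 1 := by rw [sub_eq_add_neg, dl_add H hc, dl_neg H hc, h, mul_inv_cancel]
  by_contra hne
  rw [dl_ne S (sub_ne_zero.2 hne)] at h2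
  apply h1
  have : c = ac (S.h (u - v))⁻¹ (ac (S.h (u - v)) c) := by rw [ac_ac, inv_mul_cancel, one_ac]
  rw [this, h2, ac_one]

/-- every element of `C` is a multiple of `c` -/
theorem exists_dl [Finite F] {c : G} (hc : c ∈ C) (h1 : c ≠ 1) {d : G} (hd : d ∈ C) : ∃ u, dl S u c = d := by
  have hfin : Finite C := Nat.finite_of_card_ne_zero (by rw [H.cardC]; exact Nat.card_pos.ne')
  let f : F → C := fun u => ⟨dl S u c, dl_memC H hc u⟩
  have hinj : Function.Injective f := fun u v h => dl_inj H hc h1 (congrArg Subtype.val h)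
  have hbij : Function.Bijective f := by
    rw [Nat.bijective_iff_injective_and_card]
    exact ⟨hinj, H.cardC.symm⟩
  obtain ⟨u, hu⟩ := hbij.2 ⟨d, hd⟩
  exact ⟨u, congrArg Subtype.val hu⟩

end dl

/-- The hypotheses of LEMMA A2. -/
structure ATwo {F : Type*} [Field F] (S : SLSys F G) (B C B' C' : Subgroup G) : Prop where
  half : Half S B C
  half' : Half S.opp B' C'
  pair : ∀ c ∈ C, ∀ x ∈ B', ∃ t, ⁅c, x⁆ = S.xp t
  ne : ∃ c ∈ C, ∃ x ∈ B', ⁅c, x⁆ ≠ 1
  h2 : (2 : F) ≠ 0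

namespace ATwo

variable {F : Type*} [Field F] [Finite F] {S : SLSys F G} {B C B' C' : Subgroup G} (D : ATwo S B C B' C')

include D

theorem comm_xp_B' {x : G} (hx : x ∈ B') (t : F) : S.xp t * x = x * S.xp t := D.half'.killB x hx t

/-- commutator with an element of `B'` is multiplicative in `C` -/
theorem comm_mul_left {c d x : G} (hc : c ∈ C) (hd : d ∈ C) (hx : x ∈ B') :
    ⁅c * d, x⁆ = ⁅c, x⁆ * ⁅d, x⁆ := by
  obtain ⟨s, hs⟩ := D.pair c hc x hx
  obtain ⟨t, ht⟩ := D.pair d hd x hx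
  have h1 : ⁅c * d, x⁆ = c * ⁅d, x⁆ * c⁻¹ * ⁅c, x⁆ := by simp only [commutatorElement_def]; group
  rw [h1, ht, hs, show c * S.xp t * c⁻¹ = S.xp t from by rw [← D.half.killC c hc t]; group,
    ← S.xp_add, ← S.xp_add, add_comm]

theorem comm_mul_right {c x y : G} (hc : c ∈ C) (hx : x ∈ B') (hy : y ∈ B') :
    ⁅c, x * y⁆ = ⁅c, x⁆ * ⁅c, y⁆ := by
  obtain ⟨s, hs⟩ := D.pair c hc x hx
  obtain ⟨t, ht⟩ := D.pair c hc y hy
  have h1 : ⁅c, x * y⁆ = ⁅c, x⁆ * (x * ⁅c, y⁆ * x⁻¹) := by simp only [commutatorElement_def]; group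
  rw [h1, ht, hs, show x * S.xp t * x⁻¹ = S.xp t from by rw [← D.comm_xp_B' hx t]; group]

/-- The multiplication by `v` on `B'`, with the convention of `S` (weight one). -/
theorem dl_memB' {x : G} (hx : x ∈ B') (v : F) : dl S v x ∈ B' := by
  by_cases hv : v = 0
  · subst hv; rw [dl_zero]; exact one_mem _
  · rw [dl_ne S hv]
    have := D.half'.h_memB hx (inv_ne_zero hv)
    rwa [show S.opp.h v⁻¹ = S.h v from by show S.h (v⁻¹)⁻¹ = _; rw [inv_inv]] at this

theorem dl_addB' {x : G} (hx : x ∈ B') (u v : F) : dl S (u + v) x = dl S u x * dl S v x := by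
  -- `B'` is the `C`-part of the opposite of the half `(B', C')`
  have H := D.half'.opp
  have e : ∀ u : F, dl S.opp.opp u x = dl S u x := by
    intro u
    by_cases hu : u = 0
    · subst hu; rw [dl_zero, dl_zero]
    · rw [dl_ne _ hu, dl_ne _ hu]
      show ac (S.h (u⁻¹)⁻¹) x = _
      rw [inv_inv]
  have := dl_add H hx u v
  rwa [e, e, e] at this

/-- STEP 3: the commutator map `C × B' → A` is `F`-bilinear. -/
theorem pair_dl {c x : G} (hc : c ∈ C) (hx : x ∈ B') {k : F} (hk : ⁅c, x⁆ = S.xp k) (u v : F) :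
    ⁅dl S u c, dl S v x⁆ = S.xp (u * v * k) := by
  have hC : ∀ u, dl S u c ∈ C := fun u => dl_memC D.half hc u
  have hB : ∀ v, dl S v x ∈ B' := fun v => D.dl_memB' hx v
  choose Φ hΦ using fun u v => D.pair (dl S u c) (hC u) (dl S v x) (hB v)
  have h1 : ∀ u v, Φ u v = u * v * Φ 1 1 := by
    apply BiAdd.eq_mul D.h2
    · intro u u' v
      apply S.xp_injective
      rw [← hΦ, dl_add D.half hc, D.comm_mul_left (hC u) (hC u') (hB v), hΦ, hΦ, S.xp_add]
    · intro u v v'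
      apply S.xp_injective
      rw [← hΦ, D.dl_addB' hx, D.comm_mul_right (hC u) (hB v) (hB v'), hΦ, hΦ, S.xp_add]
    · intro s u v
      apply S.xp_injective
      rw [← hΦ, ← dl_dl, ← dl_dl]
      by_cases hs : s = 0
      · subst hs
        rw [dl_zero, dl_zero, mul_zero, zero_mul, S.xp_zero, commutatorElement_one_left]
      · rw [dl_ne S hs, dl_ne S hs, ← ac_comm, hΦ, S.h_xp _ _ hs]
  have h2 : Φ 1 1 = k := by
    apply S.xp_injective
    rw [← hΦ, dl_one, dl_one, hk]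
  rw [hΦ, h1, h2]

theorem comm_ac {c x : G} (hc : c ∈ C) {k : F} (hk : ⁅c, x⁆ = S.xp k) :
    ac x c = c * S.xp (-k) := by
  have h1 : ac x c = c * (c⁻¹ * ⁅c, x⁆⁻¹ * c) := by unfold ac; simp only [commutatorElement_def]; group
  rw [h1, hk, ← S.xp_neg]
  congr 1
  rw [mul_assoc, D.half.killC c hc]; group

/-- The element of `B'` belonging to `y ∈ B`. -/
theorem exists_partner {y : G} (hy : y ∈ B) (h1 : y ≠ 1) : ∃ x ∈ B', ⁅ac S.w y, x⁆ = S.xp (-1) := by
  obtain ⟨c, hc, x, hx, hne⟩ := D.ne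
  obtain ⟨k, hk⟩ := D.pair c hc x hx
  have hk0 : k ≠ 0 := by
    rintro rfl
    exact hne (by rw [hk, S.xp_zero])
  have hc1 : c ≠ 1 := by
    rintro rfl
    exact hne (commutatorElement_one_left x)
  have hcy : ac S.w y ∈ C := D.half.w_memC hy
  obtain ⟨u, hu⟩ := exists_dl D.half hc hc1 hcy
  have hu0 : u ≠ 0 := by
    rintro rfl
    rw [dl_zero] at hu
    apply h1
    have : y = ac S.w⁻¹ (ac S.w y) := by rw [ac_ac, inv_mul_cancel, one_ac]
    rw [this, ← hu, ac_one]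
  refine ⟨dl S (-(u * k)⁻¹) x, D.dl_memB' hx _, ?_⟩
  rw [← hu, D.pair_dl hc hx hk]
  congr 1
  field_simp

/-- the action of `y ∈ B` on `A` -/
theorem ac_xp {y : G} (hy : y ∈ B) (t : F) : ac y (S.xp t) = S.xp t * dl S (-t) (ac S.w y) := by
  have key : ∀ t : F, ac (S.xp t) y = y * dl S t (ac S.w y) := by
    intro t
    by_cases ht : t = 0
    · subst ht; rw [S.xp_zero, one_ac, dl_zero, mul_one]
    · rw [dl_ne S ht, ac_ac, D.half.weyl_ac hy ht]; group
  have h1 : ac y (S.xp t) = S.xp t * (ac (S.xp (-t)) y * y⁻¹) := by rw [S.xp_neg]; unfold ac; group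
  rw [h1, key]
  congr 1
  rw [D.half.abBC y hy _ (dl_memC D.half (D.half.w_memC hy) _)]; group

/-- the action of `x ∈ B'` on `A'` -/
theorem ac_xm {x : G} (hx : x ∈ B') (t : F) : ac x (S.xm t) = S.xm t * dl S.opp (-t) (ac S.w⁻¹ x) := by
  have H := D.half'
  have key : ∀ t : F, ac (S.xm t) x = x * dl S.opp t (ac S.w⁻¹ x) := by
    intro t
    by_cases ht : t = 0
    · subst ht; rw [S.xm_zero, one_ac, dl_zero, mul_one]
    · rw [dl_ne S.opp ht, ac_ac]
      have := H.weyl_ac hx ht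
      rw [show S.opp.h t * S.w⁻¹ = S.opp.h t * S.opp.w from rfl, this]
      show _ = x * (x⁻¹ * ac (S.xm t) x)
      group
  have h1 : ac x (S.xm t) = S.xm t * (ac (S.xm (-t)) x * x⁻¹) := by rw [S.xm_neg]; unfold ac; group
  have hd : dl S.opp (-t) (ac S.w⁻¹ x) ∈ C' := dl_memC H (H.w_memC hx) _
  rw [h1, key]
  congr 1
  rw [H.abBC x hx _ hd]; group

/-- The pairing of `C'` and `B` is the conjugate of the pairing of `B'` and `C`. -/
theorem pair' {y x : G} (hy : y ∈ B) (hx : x ∈ B') (hk : ⁅ac S.w y, x⁆ = S.xp (-1)) (v : F) :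
    ⁅dl S.opp v (ac S.w⁻¹ x), y⁆ = S.xm (-v) := by
  by_cases hv : v = 0
  · subst hv; rw [dl_zero, commutatorElement_one_left, neg_zero, S.xm_zero]
  have h1 := D.pair_dl (D.half.w_memC hy) hx hk 1 v
  rw [dl_one, one_mul, mul_neg_one] at h1
  have h2 := congrArg (ac S.w⁻¹) h1
  rw [ac_comm, ac_ac, inv_mul_cancel, one_ac, dl_ne S hv, ac_ac] at h2
  have h3 : S.w⁻¹ * S.h v = S.h v⁻¹ * S.w⁻¹ := by
    have := S.opp.w_h v⁻¹ (inv_ne_zero hv)
    unfold ac at this
    simp only [SLSys.opp, inv_inv] at this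
    rw [← this]; group
  have h4 : ac S.w⁻¹ (S.xp (-v)) = S.xm v := by
    have := S.opp.w_xm (-v)
    rw [neg_neg] at this
    exact this
  rw [h3, h4, ← ac_ac] at h2
  rw [dl_ne S.opp hv]
  show ⁅ac (S.h v⁻¹) (ac S.w⁻¹ x), y⁆ = _
  rw [← commutatorElement_inv, h2, S.xm_neg]

theorem comm_ac' {c x : G} (hc : c ∈ C') {k : F} (hk : ⁅c, x⁆ = S.xm k) :
    ac x c = c * S.xm (-k) := by
  have h1 : ac x c = c * (c⁻¹ * ⁅c, x⁆⁻¹ * c) := by unfold ac; simp only [commutatorElement_def]; group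
  rw [h1, hk, ← S.xm_neg]
  congr 1
  have := D.half'.killC c hc (-k)
  have h2 : S.xm (-k) * c = c * S.xm (-k) := this
  rw [mul_assoc, h2]; group

section main

variable {y x : G} (hy : y ∈ B) (hx : x ∈ B') (hk : ⁅ac S.w y, x⁆ = S.xp (-1))

include hy hx hk

theorem n_xp (t : F) : ac (x * y * x) (S.xp t) = dl S (-t) (ac S.w y) := by
  have hcy : ac S.w y ∈ C := D.half.w_memC hy
  have hcC : dl S (-t) (ac S.w y) ∈ C := dl_memC D.half hcy _
  rw [← ac_ac, ← ac_ac, ac_of_comm (D.comm_xp_B' hx t).symm, D.ac_xp hy, ac_mul,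
    ac_of_comm (D.comm_xp_B' hx t).symm]
  have h1 := D.pair_dl hcy hx hk (-t) 1
  rw [dl_one] at h1
  rw [D.comm_ac hcC h1, ← D.half.killC _ hcC, ← mul_assoc, ← S.xp_add]
  have : t + -(-t * 1 * -1) = 0 := by ring
  rw [this, S.xp_zero, one_mul]

theorem n_C (u : F) : ac (x * y * x) (dl S u (ac S.w y)) = S.xp u := by
  have hcy : ac S.w y ∈ C := D.half.w_memC hy
  have hcC : dl S u (ac S.w y) ∈ C := dl_memC D.half hcy _
  have h1 := D.pair_dl hcy hx hk u 1
  rw [dl_one] at h1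
  have e : -(u * 1 * -1) = u := by ring
  rw [← ac_ac, ← ac_ac, D.comm_ac hcC h1, e, ac_mul, ac_of_comm (D.half.abBC y hy _ hcC), D.ac_xp hy,
    ← mul_assoc, ← D.half.killC _ hcC, mul_assoc, dl_neg D.half hcy, mul_inv_cancel, mul_one,
    ac_of_comm (D.comm_xp_B' hx u).symm]

theorem n_xm (t : F) : ac (x * y * x) (S.xm t) = dl S.opp (-t) (ac S.w⁻¹ x) := by
  have hdx : ac S.w⁻¹ x ∈ C' := D.half'.w_memC hx
  have hdC : ∀ t, dl S.opp t (ac S.w⁻¹ x) ∈ C' := fun t => dl_memC D.half' hdx _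
  have h1 := D.pair' hy hx hk (-t)
  rw [neg_neg] at h1
  have hcm : ∀ t, S.xm t * dl S.opp (-t) (ac S.w⁻¹ x) = dl S.opp (-t) (ac S.w⁻¹ x) * S.xm t :=
    fun t => D.half'.killC _ (hdC _) t
  rw [← ac_ac, ← ac_ac, D.ac_xm hx, ac_mul, D.comm_ac' (hdC _) h1,
    ac_of_comm (D.half.killB y hy t).symm, ← mul_assoc, hcm, mul_assoc, ← S.xm_add, add_neg_cancel,
    S.xm_zero, mul_one, ac_of_comm (D.half'.abBC x hx _ (hdC _))]

theorem n_C' (u : F) : ac (x * y * x) (dl S.opp u (ac S.w⁻¹ x)) = S.xm u := by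
  have hdx : ac S.w⁻¹ x ∈ C' := D.half'.w_memC hx
  have hdC : ∀ t, dl S.opp t (ac S.w⁻¹ x) ∈ C' := fun t => dl_memC D.half' hdx _
  have h1 := D.pair' hy hx hk u
  have hcm : S.xm u * dl S.opp (-u) (ac S.w⁻¹ x) = dl S.opp (-u) (ac S.w⁻¹ x) * S.xm u :=
    D.half'.killC _ (hdC _) u
  rw [← ac_ac, ← ac_ac, ac_of_comm (D.half'.abBC x hx _ (hdC _)), D.comm_ac' (hdC _) h1, neg_neg,
    ac_mul, ac_of_comm (D.half'.abBC x hx _ (hdC _)), D.ac_xm hx, hcm, ← mul_assoc, dl_neg D.half' hdx,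
    mul_inv_cancel, one_mul]

/-- `n = x y x` maps `B` into `B'`. -/
theorem n_B {b : G} (hb : b ∈ B) : ac (x * y * x) b ∈ B' := by
  have hcy : ac S.w y ∈ C := D.half.w_memC hy
  have hy1 : ac S.w y ≠ 1 := by
    intro h
    rw [h, commutatorElement_one_left] at hk
    have := S.xp_inj (-1) hk.symm
    exact one_ne_zero (neg_eq_zero.1 this)
  have hcb : ac S.w b ∈ C := D.half.w_memC hb
  obtain ⟨u, hu⟩ := exists_dl D.half hcy hy1 hcb
  have e1 : b = (ac S.w b)⁻¹ * ac (S.xm 1) (ac S.w b) := by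
    have h := D.half.opp.weyl_ac hcb (t := 1) one_ne_zero
    have h0 : S.opp.h 1 * S.opp.w = S.w⁻¹ := by rw [S.opp.h_one, one_mul]; rfl
    rw [h0, ac_ac, inv_mul_cancel, one_ac] at h
    exact h
  have hdx : ac S.w⁻¹ x ∈ C' := D.half'.w_memC hx
  have hdC : dl S.opp (-1) (ac S.w⁻¹ x) ∈ C' := dl_memC D.half' hdx _
  have e2 : ac (x * y * x) b = (S.xp u)⁻¹ * ac (dl S.opp (-1) (ac S.w⁻¹ x)) (S.xp u) := by
    conv_lhs => rw [e1, ← hu]
    rw [ac_mul, ac_inv, D.n_C hy hx hk]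
    congr 1
    have : ac (x * y * x) (ac (S.xm 1) (dl S u (ac S.w y))) =
        ac (ac (x * y * x) (S.xm 1)) (ac (x * y * x) (dl S u (ac S.w y))) := by
      unfold ac; group
    rw [this, D.n_C hy hx hk, D.n_xm hy hx hk]
  rw [e2]
  set c' := dl S.opp (-1) (ac S.w⁻¹ x) with hc'
  have h3 : c'⁻¹ * ac (S.xp (-u)) c' ∈ B' := D.half'.mapC c' hdC (-u)
  have h4 : (S.xp u)⁻¹ * ac c' (S.xp u) = c' * (c'⁻¹ * ac (S.xp (-u)) c') * c'⁻¹ := by
    rw [S.xp_neg]; unfold ac; group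
  rw [h4, ← D.half'.abBC _ h3 c' hdC]
  simpa using h3

/-- `n = x y x` maps `B'` into `B`. -/
theorem n_B' {b : G} (hb : b ∈ B') : ac (x * y * x) b ∈ B := by
  have hcy : ac S.w y ∈ C := D.half.w_memC hy
  have hdx : ac S.w⁻¹ x ∈ C' := D.half'.w_memC hx
  have hx1 : ac S.w⁻¹ x ≠ 1 := by
    intro h
    have hx0 : x = 1 := by
      have : x = ac S.w (ac S.w⁻¹ x) := by rw [ac_ac, mul_inv_cancel, one_ac]
      rw [this, h, ac_one]
    rw [hx0, commutatorElement_one_right] at hk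
    have := S.xp_inj (-1) hk.symm
    exact one_ne_zero (neg_eq_zero.1 this)
  have hdb : ac S.w⁻¹ b ∈ C' := D.half'.w_memC hb
  obtain ⟨u, hu⟩ := exists_dl D.half' hdx hx1 hdb
  have e1 : b = (ac S.w⁻¹ b)⁻¹ * ac (S.xp 1) (ac S.w⁻¹ b) := by
    have h := D.half'.opp.weyl_ac hdb (t := 1) one_ne_zero
    have h0 : S.opp.opp.h 1 * S.opp.opp.w = S.w := by rw [S.opp.opp.h_one, one_mul]; exact inv_inv _
    rw [h0, ac_ac, mul_inv_cancel, one_ac] at h
    exact h
  have hcC : dl S (-1) (ac S.w y) ∈ C := dl_memC D.half hcy _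
  have e2 : ac (x * y * x) b = (S.xm u)⁻¹ * ac (dl S (-1) (ac S.w y)) (S.xm u) := by
    conv_lhs => rw [e1, ← hu]
    rw [ac_mul, ac_inv, D.n_C' hy hx hk]
    congr 1
    have : ac (x * y * x) (ac (S.xp 1) (dl S.opp u (ac S.w⁻¹ x))) =
        ac (ac (x * y * x) (S.xp 1)) (ac (x * y * x) (dl S.opp u (ac S.w⁻¹ x))) := by
      unfold ac; group
    rw [this, D.n_C' hy hx hk, D.n_xp hy hx hk]
  rw [e2]
  set c := dl S (-1) (ac S.w y) with hc
  have h3 : c⁻¹ * ac (S.xm (-u)) c ∈ B := D.half.mapC c hcC (-u)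
  have h4 : (S.xm u)⁻¹ * ac c (S.xm u) = c * (c⁻¹ * ac (S.xm (-u)) c) * c⁻¹ := by
    rw [S.xm_neg]; unfold ac; group
  rw [h4, ← D.half.abBC _ h3 c hcC]
  simpa using h3

theorem n_A_mem {a : G} (ha : a ∈ S.A) : ac (x * y * x) a ∈ C := by
  obtain ⟨t, rfl⟩ := ha
  rw [D.n_xp hy hx hk]
  exact dl_memC D.half (D.half.w_memC hy) _

theorem n_A'_mem {a : G} (ha : a ∈ S.A') : ac (x * y * x) a ∈ C' := by
  obtain ⟨t, ht⟩ := ha
  have ht : S.xm t = a := ht
  rw [← ht, D.n_xm hy hx hk]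
  exact dl_memC D.half' (D.half'.w_memC hx) _

theorem n_C_mem {c : G} (hc : c ∈ C) : ac (x * y * x) c ∈ S.A := by
  have hcy : ac S.w y ∈ C := D.half.w_memC hy
  have hy1 : ac S.w y ≠ 1 := by
    intro h
    rw [h, commutatorElement_one_left] at hk
    have := S.xp_inj (-1) hk.symm
    exact one_ne_zero (neg_eq_zero.1 this)
  obtain ⟨u, hu⟩ := exists_dl D.half hcy hy1 hc
  rw [← hu, D.n_C hy hx hk]
  exact S.xp_mem u

theorem n_C'_mem {c : G} (hc : c ∈ C') : ac (x * y * x) c ∈ S.A' := by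
  have hdx : ac S.w⁻¹ x ∈ C' := D.half'.w_memC hx
  have hx1 : ac S.w⁻¹ x ≠ 1 := by
    intro h
    have hx0 : x = 1 := by
      have : x = ac S.w (ac S.w⁻¹ x) := by rw [ac_ac, mul_inv_cancel, one_ac]
      rw [this, h, ac_one]
    rw [hx0, commutatorElement_one_right] at hk
    have := S.xp_inj (-1) hk.symm
    exact one_ne_zero (neg_eq_zero.1 this)
  obtain ⟨u, hu⟩ := exists_dl D.half' hdx hx1 hc
  rw [← hu, D.n_C' hy hx hk]
  exact S.xm_mem u

end main

/-- The situation is symmetric. -/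
theorem symm : ATwo S.opp B' C' B C where
  half := D.half'
  half' := by rw [S.opp_opp_eq]; exact D.half
  pair := by
    intro c hc y hy
    by_cases hy1 : y = 1
    · subst hy1
      exact ⟨0, by rw [commutatorElement_one_right, S.opp.xp_zero]⟩
    obtain ⟨x, hx, hk⟩ := D.exists_partner hy hy1
    have hx1 : ac S.w⁻¹ x ≠ 1 := by
      intro h
      have hx0 : x = 1 := by
        have : x = ac S.w (ac S.w⁻¹ x) := by rw [ac_ac, mul_inv_cancel, one_ac]
        rw [this, h, ac_one]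
      rw [hx0, commutatorElement_one_right] at hk
      have := S.xp_inj (-1) hk.symm
      exact one_ne_zero (neg_eq_zero.1 this)
    obtain ⟨v, hv⟩ := exists_dl D.half' (D.half'.w_memC hx) hx1 hc
    refine ⟨-v, ?_⟩
    rw [← hv]
    exact D.pair' hy hx hk v
  ne := by
    obtain ⟨c, hc, x, hx, hne⟩ := D.ne
    have hc1 : c ≠ 1 := by
      rintro rfl
      exact hne (commutatorElement_one_left x)
    have hy : ac S.w⁻¹ c ∈ B := D.half.winv_memB hc
    have hy1 : ac S.w⁻¹ c ≠ 1 := by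
      intro h
      apply hc1
      have : c = ac S.w (ac S.w⁻¹ c) := by rw [ac_ac, mul_inv_cancel, one_ac]
      rw [this, h, ac_one]
    obtain ⟨x', hx', hk⟩ := D.exists_partner hy hy1
    refine ⟨ac S.w⁻¹ x', D.half'.w_memC hx', ac S.w⁻¹ c, hy, ?_⟩
    intro h
    have h2 := D.pair' hy hx' hk 1
    rw [dl_one, h] at h2
    have h3 : S.opp.xp (-1) = 1 := h2.symm
    exact one_ne_zero (neg_eq_zero.1 (S.opp.xp_inj _ h3))
  h2 := D.h2

end ATwo

theorem finite_of_card {F : Type*} [Field F] [Finite F] {P : Subgroup G} (h : Nat.card P = Nat.card F) :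
    Finite P :=
  Nat.finite_of_card_ne_zero (by rw [h]; exact Nat.card_pos.ne')

/-- A conjugation mapping `P` into `Q`, both of the same finite order, maps `P` onto `Q`. -/
theorem onto_of_card {g : G} {P Q : Subgroup G} [Finite P] (hc : Nat.card P = Nat.card Q)
    (h : ∀ x ∈ P, ac g x ∈ Q) : Onto g P Q := by
  have hQ : Finite Q := Nat.finite_of_card_ne_zero (by rw [← hc]; exact Nat.card_pos.ne')
  let f : P → Q := fun x => ⟨ac g x, h x x.2⟩
  have hinj : Function.Injective f := by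
    intro x y hxy
    have h1 : ac g (x : G) = ac g y := congrArg Subtype.val hxy
    have h2 := congrArg (ac g⁻¹) h1
    rw [ac_ac, ac_ac, inv_mul_cancel, one_ac, one_ac] at h2
    exact Subtype.ext h2
  have hbij : Function.Bijective f := by
    rw [Nat.bijective_iff_injective_and_card]
    exact ⟨hinj, hc⟩
  intro x
  constructor
  · intro hx
    obtain ⟨y, hy⟩ := hbij.2 ⟨_, hx⟩
    have h1 : ac g (y : G) = ac g x := congrArg Subtype.val hy
    have h2 := congrArg (ac g⁻¹) h1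
    rw [ac_ac, ac_ac, inv_mul_cancel, one_ac, one_ac] at h2
    rw [← h2]
    exact y.2
  · exact h x

/-- The six positions. -/
def ZZ (A B C A' B' C' : Subgroup G) (k : ℤ) : Subgroup G :=
  if k % 6 = 1 then A else if k % 6 = 2 then C else if k % 6 = 3 then B else
    if k % 6 = 4 then A' else if k % 6 = 5 then C' else B'

section ZZ

variable {A B C A' B' C' : Subgroup G}

theorem ZZ_one {k : ℤ} (h : k % 6 = 1) : ZZ A B C A' B' C' k = A := by
  unfold ZZ; rw [if_pos h]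
theorem ZZ_two {k : ℤ} (h : k % 6 = 2) : ZZ A B C A' B' C' k = C := by
  unfold ZZ; rw [if_neg (by omega), if_pos h]
theorem ZZ_three {k : ℤ} (h : k % 6 = 3) : ZZ A B C A' B' C' k = B := by
  unfold ZZ; rw [if_neg (by omega), if_neg (by omega), if_pos h]
theorem ZZ_four {k : ℤ} (h : k % 6 = 4) : ZZ A B C A' B' C' k = A' := by
  unfold ZZ; rw [if_neg (by omega), if_neg (by omega), if_neg (by omega), if_pos h]
theorem ZZ_five {k : ℤ} (h : k % 6 = 5) : ZZ A B C A' B' C' k = C' := by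
  unfold ZZ; rw [if_neg (by omega), if_neg (by omega), if_neg (by omega), if_neg (by omega), if_pos h]
theorem ZZ_zero {k : ℤ} (h : k % 6 = 0) : ZZ A B C A' B' C' k = B' := by
  unfold ZZ
  rw [if_neg (by omega), if_neg (by omega), if_neg (by omega), if_neg (by omega), if_neg (by omega)]

theorem maps_five {g : G} (h1 : Onto g A A') (h1' : Onto g A' A) (h2 : Onto g B C) (h2' : Onto g C B)
    (h3 : Onto g B' C') (h3' : Onto g C' B') :
    Maps (ZZ A B C A' B' C') g (fun k => ((3 : ℕ) : ℤ) + 2 - k) := by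
  intro k x
  have hk : k % 6 = 0 ∨ k % 6 = 1 ∨ k % 6 = 2 ∨ k % 6 = 3 ∨ k % 6 = 4 ∨ k % 6 = 5 := by omega
  rcases hk with h | h | h | h | h | h
  · rw [ZZ_zero h, ZZ_five (k := ((3 : ℕ) : ℤ) + 2 - k) (by push_cast; omega)]; exact h3 x
  · rw [ZZ_one h, ZZ_four (k := ((3 : ℕ) : ℤ) + 2 - k) (by push_cast; omega)]; exact h1 x
  · rw [ZZ_two h, ZZ_three (k := ((3 : ℕ) : ℤ) + 2 - k) (by push_cast; omega)]; exact h2' x
  · rw [ZZ_three h, ZZ_two (k := ((3 : ℕ) : ℤ) + 2 - k) (by push_cast; omega)]; exact h2 x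
  · rw [ZZ_four h, ZZ_one (k := ((3 : ℕ) : ℤ) + 2 - k) (by push_cast; omega)]; exact h1' x
  · rw [ZZ_five h, ZZ_zero (k := ((3 : ℕ) : ℤ) + 2 - k) (by push_cast; omega)]; exact h3' x

theorem maps_three {g : G} (h1 : Onto g B B') (h1' : Onto g B' B) (h2 : Onto g A C) (h2' : Onto g C A)
    (h3 : Onto g A' C') (h3' : Onto g C' A') :
    Maps (ZZ A B C A' B' C') g (fun k => ((3 : ℕ) : ℤ) - k) := by
  intro k x
  have hk : k % 6 = 0 ∨ k % 6 = 1 ∨ k % 6 = 2 ∨ k % 6 = 3 ∨ k % 6 = 4 ∨ k % 6 = 5 := by omega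
  rcases hk with h | h | h | h | h | h
  · rw [ZZ_zero h, ZZ_three (k := ((3 : ℕ) : ℤ) - k) (by push_cast; omega)]; exact h1' x
  · rw [ZZ_one h, ZZ_two (k := ((3 : ℕ) : ℤ) - k) (by push_cast; omega)]; exact h2 x
  · rw [ZZ_two h, ZZ_one (k := ((3 : ℕ) : ℤ) - k) (by push_cast; omega)]; exact h2' x
  · rw [ZZ_three h, ZZ_zero (k := ((3 : ℕ) : ℤ) - k) (by push_cast; omega)]; exact h1 x
  · rw [ZZ_four h, ZZ_five (k := ((3 : ℕ) : ℤ) - k) (by push_cast; omega)]; exact h3 x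
  · rw [ZZ_five h, ZZ_four (k := ((3 : ℕ) : ℤ) - k) (by push_cast; omega)]; exact h3' x

end ZZ

namespace SLSys

variable {F : Type*} [Field F] (S : SLSys F G)

theorem n_A {t : F} (ht : t ≠ 0) {a : G} (ha : a ∈ S.A) : ac (S.h t * S.w) a ∈ S.A' := by
  obtain ⟨s, rfl⟩ := ha
  rw [← ac_ac, S.w_xp, S.h_xm _ _ ht]
  exact S.xm_mem _

theorem n_A' {t : F} (ht : t ≠ 0) {a : G} (ha : a ∈ S.A') : ac (S.h t * S.w) a ∈ S.A := by
  obtain ⟨s, hs⟩ := ha
  have hs : S.xm s = a := hs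
  rw [← hs, ← ac_ac, S.w_xm, S.h_xp _ _ ht]
  exact S.xp_mem _

end SLSys

theorem Half.n_memB {F : Type*} [Field F] {S : SLSys F G} {B C : Subgroup G} (H : Half S B C) {t : F}
    (ht : t ≠ 0) {c : G} (hc : c ∈ C) : ac (S.h t * S.w) c ∈ B := by
  rw [← ac_ac]; exact H.h_memB (H.w_memB hc) ht

namespace ATwo

variable {F : Type*} [Field F] [Finite F] {S : SLSys F G} {B C B' C' : Subgroup G} (D : ATwo S B C B' C')

include D

/-- The Weyl elements of `B'` (of the form `B B' B`). -/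
theorem exists_mu {a : G} (ha : a ∈ B') (h1 : a ≠ 1) : ∃ x ∈ B,
    Maps (ZZ S.A B C S.A' B' C') (x * a * x) (fun k => ((3 : ℕ) : ℤ) - k) := by
  obtain ⟨x, hx, hk⟩ := D.symm.exists_partner ha h1
  have fA := finite_of_card S.card_A
  have fA' := finite_of_card S.card_A'
  have fB := finite_of_card D.half.cardB
  have fC := finite_of_card D.half.cardC
  have fB' := finite_of_card D.half'.cardB
  have fC' := finite_of_card D.half'.cardC
  refine ⟨x, hx, maps_three ?_ ?_ ?_ ?_ ?_ ?_⟩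
  · exact onto_of_card (D.half.cardB.trans D.half'.cardB.symm) fun b hb => D.symm.n_B' ha hx hk hb
  · exact onto_of_card (D.half'.cardB.trans D.half.cardB.symm) fun b hb => D.symm.n_B ha hx hk hb
  · exact onto_of_card (S.card_A.trans D.half.cardC.symm) fun b hb => D.symm.n_A'_mem ha hx hk hb
  · exact onto_of_card (D.half.cardC.trans S.card_A.symm) fun b hb => D.symm.n_C'_mem ha hx hk hb
  · exact onto_of_card (S.card_A'.trans D.half'.cardC.symm) fun b hb => D.symm.n_A_mem ha hx hk hb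
  · exact onto_of_card (D.half'.cardC.trans S.card_A'.symm) fun b hb => D.symm.n_C_mem ha hx hk hb

/-- The Weyl elements of `A'`. -/
theorem exists_mu_A {a : G} (ha : a ∈ S.A') (h1 : a ≠ 1) : ∃ x ∈ S.A,
    Maps (ZZ S.A B C S.A' B' C') (x * a * x) (fun k => ((3 : ℕ) : ℤ) + 2 - k) := by
  obtain ⟨t, ht⟩ := ha
  have ht : S.xm t = a := ht
  have ht0 : t ≠ 0 := by
    rintro rfl
    exact h1 (by rw [← ht, S.xm_zero])
  have fA := finite_of_card S.card_A
  have fA' := finite_of_card S.card_A'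
  have fB := finite_of_card D.half.cardB
  have fC := finite_of_card D.half.cardC
  have fB' := finite_of_card D.half'.cardB
  have fC' := finite_of_card D.half'.cardC
  refine ⟨S.xp (-t⁻¹), S.xp_mem _, ?_⟩
  have e : S.xp (-t⁻¹) * a * S.xp (-t⁻¹) = S.opp.h t * S.opp.w := by
    rw [← ht]; exact S.weyl' t ht0
  rw [e]
  refine maps_five ?_ ?_ ?_ ?_ ?_ ?_
  · exact onto_of_card (S.card_A.trans S.card_A'.symm) fun b hb => S.opp.n_A' ht0 hb
  · exact onto_of_card (S.card_A'.trans S.card_A.symm) fun b hb => S.opp.n_A ht0 hb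
  · exact onto_of_card (D.half.cardB.trans D.half.cardC.symm) fun b hb => D.half.opp.n_memB ht0 hb
  · exact onto_of_card (D.half.cardC.trans D.half.cardB.symm) fun b hb => D.half.opp.weyl_mem hb ht0
  · exact onto_of_card (D.half'.cardB.trans D.half'.cardC.symm) fun b hb => D.half'.weyl_mem hb ht0
  · exact onto_of_card (D.half'.cardC.trans D.half'.cardB.symm) fun b hb => D.half'.n_memB ht0 hb

theorem comm_AB {a b : G} (ha : a ∈ S.A) (hb : b ∈ B) : ⁅a, b⁆ ∈ C := by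
  obtain ⟨t, rfl⟩ := ha
  have h1 := D.half.mapB b hb t
  have h2 : ⁅S.xp t, b⁆ = b * (b⁻¹ * ac (S.xp t) b) * b⁻¹ := by
    simp only [commutatorElement_def]; unfold ac; group
  rw [h2, D.half.abBC b hb _ h1]
  simpa using h1

/-- LEMMA A2. -/
theorem pairData : PairData 3 S.A S.A' B B' (ZZ S.A B C S.A' B' C') where
  per k := by
    have : (k + 2 * ((3 : ℕ) : ℤ)) % 6 = k % 6 := by push_cast; omega
    unfold ZZ; rw [this]
  z_one := ZZ_one (by norm_num)
  z_m := ZZ_three (by norm_num)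
  z_m1 := ZZ_four (by norm_num)
  z_zero := ZZ_zero (by norm_num)
  comm k l hk hkl hl x hx y hy := by
    have hl' : l ≤ 3 := by exact_mod_cast hl
    have : (k = 1 ∧ l = 2) ∨ (k = 1 ∧ l = 3) ∨ (k = 2 ∧ l = 3) := by omega
    rcases this with ⟨rfl, rfl⟩ | ⟨rfl, rfl⟩ | ⟨rfl, rfl⟩
    · rw [ZZ_one (by norm_num)] at hx
      rw [ZZ_two (by norm_num)] at hy
      obtain ⟨t, rfl⟩ := hx
      rw [commutatorElement_eq_one_iff_mul_comm.2 (D.half.killC y hy t)]
      exact one_mem _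
    · rw [ZZ_one (by norm_num)] at hx
      rw [ZZ_three (by norm_num)] at hy
      refine Subgroup.mem_iSup_of_mem 2 (Subgroup.mem_iSup_of_mem ⟨by norm_num, by norm_num⟩ ?_)
      rw [ZZ_two (by norm_num)]
      exact D.comm_AB hx hy
    · rw [ZZ_two (by norm_num)] at hx
      rw [ZZ_three (by norm_num)] at hy
      rw [commutatorElement_eq_one_iff_mul_comm.2 (D.half.abBC y hy x hx).symm]
      exact one_mem _
  mu a ha h1 := by
    obtain ⟨x, hx, h⟩ := D.exists_mu_A ha h1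
    exact ⟨x, hx, x, hx, h⟩
  mu' a ha h1 := by
    obtain ⟨x, hx, h⟩ := D.exists_mu ha h1
    exact ⟨x, hx, x, hx, h⟩

end ATwo

end Cfsg.Agent.Cit.LemmaATwo
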