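import Cfsg.Agent.Cit.LemmaJBase
import Cfsg.Agent.Intrinsic.Bridge

/-!
# LEMMA J for `2.A₇`
-/

set_option autoImplicit false

namespace Cfsg.Agent.Cit.LemmaJ

open Subgroup Equiv Cfsg.Agent.SporRec.TwoAn Cfsg.Agent.SporadicRecognition.AltCover
open Cfsg.Agent.StandardComponent

/-! ### involutions of `S₇` -/

section perm

theorem cycleType_inv {σ : Perm (Fin 7)} (h : σ * σ = 1) :
    ∃ k : ℕ, k ≤ 3 ∧ σ.cycleType = Multiset.replicate k 2 ∧ Perm.sign σ = (-1) ^ k := by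
  have h2 : ∀ n ∈ σ.cycleType, n = 2 := by
    intro n hn
    have h3 : n ∣ 2 := (Perm.dvd_of_mem_cycleType hn).trans (orderOf_dvd_of_pow_eq_one (by rw [pow_two, h]))
    have h4 := Perm.two_le_of_mem_cycleType hn
    have := Nat.le_of_dvd (by norm_num) h3
    omega
  have h3 := Multiset.eq_replicate_of_mem h2
  refine ⟨Multiset.card σ.cycleType, ?_, h3, ?_⟩
  · have h4 := Perm.sum_cycleType σ
    rw [h3, Multiset.sum_replicate, smul_eq_mul] at h4
    have h5 : σ.support.card ≤ Fintype.card (Fin 7) := Finset.card_le_univ _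
    rw [Fintype.card_fin] at h5
    omega
  · rw [Perm.sign_of_cycleType, h3, Multiset.sum_replicate, smul_eq_mul, Multiset.card_replicate, pow_add,
      mul_comm _ 2, pow_mul, Int.units_sq, one_pow, one_mul]

/-- a square root of an even involution -/
theorem exists_sqrt {σ : Perm (Fin 7)} (h : σ * σ = 1) (h1 : σ ≠ 1) (hs : Perm.sign σ = 1) :
    ∃ ρ : Perm (Fin 7), ρ * ρ = σ ∧ Perm.sign ρ = 1 := by
  obtain ⟨k, hk3, hk, hks⟩ := cycleType_inv h
  have hk2 : k = 2 := by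
    rw [hs] at hks
    interval_cases k
    · exfalso
      rw [Multiset.replicate_zero, Perm.cycleType_eq_zero] at hk
      exact h1 hk
    · revert hks; decide
    · rfl
    · revert hks; decide
  have hc : IsConj (swap 0 1 * swap 2 3 : Perm (Fin 7)) σ := by
    rw [Perm.isConj_iff_cycleType_eq, hk, hk2]
    decide +kernel
  obtain ⟨g, hg⟩ := isConj_iff.1 hc
  refine ⟨g * (swap 0 1 * swap 0 2 * swap 1 3 * swap 4 5) * g⁻¹, ?_, ?_⟩
  · have h5 : (swap 0 1 * swap 0 2 * swap 1 3 * swap 4 5 : Perm (Fin 7)) *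
        (swap 0 1 * swap 0 2 * swap 1 3 * swap 4 5) = swap 0 1 * swap 2 3 := by decide +kernel
    rw [← hg, ← h5]; group
  · rw [map_mul, map_mul, map_inv, mul_comm, ← mul_assoc, inv_mul_cancel, one_mul]
    decide +kernel

/-- the commuting 3-elements for an odd involution -/
def Tri (τ u s t : Perm (Fin 7)) : Prop :=
  u ^ 3 = 1 ∧ (u⁻¹ * s) ^ 3 = 1 ∧ (u⁻¹ * t) ^ 3 = 1 ∧ τ * u * τ⁻¹ = u ∧ τ * s * τ⁻¹ = s ∧ τ * t * τ⁻¹ = t ∧
    s * s = 1 ∧ s ≠ 1 ∧ t * t = 1 ∧ t ≠ 1 ∧ s * t * (s * t) = 1 ∧ s * t ≠ 1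

instance (τ u s t : Perm (Fin 7)) : Decidable (Tri τ u s t) := by unfold Tri; infer_instance

theorem Tri.conj {τ u s t : Perm (Fin 7)} (h : Tri τ u s t) (g : Perm (Fin 7)) :
    Tri (g * τ * g⁻¹) (g * u * g⁻¹) (g * s * g⁻¹) (g * t * g⁻¹) := by
  obtain ⟨a1, a2, a3, a4, a5, a6, a7, a8, a9, a10, a11, a12⟩ := h
  have e : ∀ a b : Perm (Fin 7), (g * a * g⁻¹) * (g * b * g⁻¹) = g * (a * b) * g⁻¹ := fun a b => by group
  have ei : ∀ a : Perm (Fin 7), (g * a * g⁻¹)⁻¹ = g * a⁻¹ * g⁻¹ := fun a => by group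
  have e1 : g * 1 * g⁻¹ = 1 := by group
  have en : ∀ a : Perm (Fin 7), a ≠ 1 → g * a * g⁻¹ ≠ 1 := fun a ha h => ha (by
    have : a = g⁻¹ * (g * a * g⁻¹) * g := by group
    rw [this, h]; group)
  refine ⟨?_, ?_, ?_, ?_, ?_, ?_, ?_, en _ a8, ?_, en _ a10, ?_, ?_⟩
  · rw [conj_pow, a1, e1]
  · rw [ei, e, conj_pow, a2, e1]
  · rw [ei, e, conj_pow, a3, e1]
  · rw [ei, e, e, a4]
  · rw [ei, e, e, a5]
  · rw [ei, e, e, a6]
  · rw [e, a7, e1]
  · rw [e, a9, e1]
  · rw [e, e, a11, e1]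
  · rw [e]; exact en _ a12

theorem exists_tri {τ : Perm (Fin 7)} (h : τ * τ = 1) (hs : Perm.sign τ = -1) : ∃ u s t, Tri τ u s t := by
  obtain ⟨k, hk3, hk, hks⟩ := cycleType_inv h
  have hk2 : k = 1 ∨ k = 3 := by
    rw [hs] at hks
    interval_cases k
    · revert hks; decide
    · left; rfl
    · revert hks; decide
    · right; rfl
  rcases hk2 with rfl | rfl
  · have hc : IsConj (swap 0 1 : Perm (Fin 7)) τ := by
      rw [Perm.isConj_iff_cycleType_eq, hk]
      decide +kernel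
    obtain ⟨g, rfl⟩ := isConj_iff.1 hc
    have h5 : Tri (swap 0 1) (swap 2 3 * swap 3 4) (swap 2 3 * swap 4 5) (swap 2 4 * swap 3 5) := by decide +kernel
    exact ⟨_, _, _, h5.conj g⟩
  · have hc : IsConj (swap 0 1 * swap 2 3 * swap 4 5 : Perm (Fin 7)) τ := by
      rw [Perm.isConj_iff_cycleType_eq, hk]
      decide +kernel
    obtain ⟨g, rfl⟩ := isConj_iff.1 hc
    have h5 : Tri (swap 0 1 * swap 2 3 * swap 4 5) (swap 0 2 * swap 2 4 * (swap 1 3 * swap 3 5))
        (swap 0 1 * swap 2 3) (swap 2 3 * swap 4 5) := by decide +kernel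
    exact ⟨_, _, _, h5.conj g⟩

end perm

/-! ### automorphisms of `2.A₇` -/

section cover

variable {L : Type*} [Group L] (K : Cover (Fin 7) L)

include K

theorem inv_unique {t : L} (ht : t * t = 1) : t = 1 ∨ t = K.z :=
  K.eq_one_or_eq_z_of_card_lt (by simp) ht

theorem aut_z (φ : MulAut L) : φ K.z = K.z := by
  rcases inv_unique K (t := φ K.z) (by rw [← map_mul, K.z_mul_z, map_one]) with h | h
  · exfalso
    exact K.z_ne ((map_eq_one_iff φ φ.injective).1 h)
  · exact h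

theorem exists_perm (φ : MulAut L) : ∃ σ : Perm (Fin 7), ∀ x, K.π (φ x) = σ * K.π x * σ⁻¹ := by
  obtain ⟨ψ, hψ⟩ := AltAut.exists_autHom 7 le_rfl
  let π' : L →* alternatingGroup (Fin 7) := K.π.codRestrict _ K.mem_alternating
  have hπ' : ∀ x, ((π' x : alternatingGroup (Fin 7)) : Perm (Fin 7)) = K.π x := fun x => rfl
  have hsurj : Function.Surjective π' := by
    rintro ⟨σ, hσ⟩
    obtain ⟨g, hg⟩ := K.exists_lift hσ
    exact ⟨g, Subtype.ext hg⟩
  have hk : ∀ x, π' x = 1 ↔ x = 1 ∨ x = K.z := fun x => by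
    rw [← K.ker, ← hπ']
    exact OneMemClass.coe_eq_one.symm
  obtain ⟨β, hβ⟩ := AltExists.exists_induced π' hsurj φ (by
    intro x
    rw [hk, hk]
    constructor
    · rintro (rfl | rfl)
      · left; exact map_one _
      · right; exact aut_z K φ
    · rintro (h | h)
      · left; exact (map_eq_one_iff φ φ.injective).1 h
      · right
        apply φ.injective
        rw [h, aut_z K φ])
  refine ⟨ψ β, fun x => ?_⟩
  rw [← hπ', ← hπ', ← hψ β, hβ]

theorem perm_unique {σ τ : Perm (Fin 7)} (h : ∀ x, σ * K.π x * σ⁻¹ = τ * K.π x * τ⁻¹) : σ = τ := by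
  apply AltAut.conj_unique (m := 5) (by norm_num)
  rintro ⟨x, hx⟩
  obtain ⟨g, hg⟩ := K.exists_lift hx
  change σ * x * σ⁻¹ = τ * x * τ⁻¹
  rw [← hg]
  exact h g

/-- an automorphism which is trivial modulo `z` is trivial -/
theorem eq_one_of_pi (hp : commutator L = ⊤) {φ : MulAut L} (h : ∀ x, K.π (φ x) = K.π x) : φ = 1 := by
  have h1 : ∀ x, φ x = x ∨ φ x = x * K.z := fun x => K.lift_eq (h x)
  have hzi := K.z_inv
  have h2 : commutator L ≤
      { carrier := {x | φ x = x}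
        mul_mem' := fun {a b} ha hb => by
          change φ (a * b) = a * b
          rw [map_mul, show φ a = a from ha, show φ b = b from hb]
        one_mem' := map_one φ
        inv_mem' := fun {a} ha => by
          change φ a⁻¹ = a⁻¹
          rw [map_inv, show φ a = a from ha] : Subgroup L } := by
    rw [commutator_def, Subgroup.commutator_le]
    intro a _ b _
    change φ (a * b * a⁻¹ * b⁻¹) = a * b * a⁻¹ * b⁻¹
    rw [map_mul, map_mul, map_mul, map_inv, map_inv]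
    have hc := K.z_comm
    have ha := h1 a
    have hb := h1 b
    have key : ∀ a' b' : L, (a' = a ∨ a' = a * K.z) → (b' = b ∨ b' = b * K.z) →
        a' * b' * a'⁻¹ * b'⁻¹ = a * b * a⁻¹ * b⁻¹ := by
      intro a' b' h3 h4
      have e1 : ∀ y : L, a' * y * a'⁻¹ = a * y * a⁻¹ := by
        intro y
        rcases h3 with rfl | rfl
        · rfl
        · rw [mul_inv_rev]
          calc a * K.z * y * (K.z⁻¹ * a⁻¹) = a * (K.z * y) * K.z⁻¹ * a⁻¹ := by group
            _ = a * y * a⁻¹ := by rw [← hc]; group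
      have e2 : ∀ y : L, b' * y * b'⁻¹ = b * y * b⁻¹ := by
        intro y
        rcases h4 with rfl | rfl
        · rfl
        · rw [mul_inv_rev]
          calc b * K.z * y * (K.z⁻¹ * b⁻¹) = b * (K.z * y) * K.z⁻¹ * b⁻¹ := by group
            _ = b * y * b⁻¹ := by rw [← hc]; group
      calc a' * b' * a'⁻¹ * b'⁻¹ = a * b' * a⁻¹ * b'⁻¹ := by rw [e1]
        _ = a * (b' * a⁻¹ * b'⁻¹) := by group
        _ = a * (b * a⁻¹ * b⁻¹) := by rw [e2]
        _ = a * b * a⁻¹ * b⁻¹ := by group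
    exact key _ _ ha hb
  rw [hp] at h2
  exact MulEquiv.ext fun x => h2 (mem_top x)

/-- a lift of an involution has square `z` -/
theorem mul_self {x : L} (h : K.π x * K.π x = 1) (h1 : K.π x ≠ 1) : x * x = K.z := by
  have h2 : K.π (x * x) = 1 := by rw [map_mul, h]
  rcases (K.ker _).1 h2 with h3 | h3
  · exfalso
    apply h1
    exact (K.ker _).2 (inv_unique K h3)
  · exact h3

theorem exists_pair {φ : MulAut L} {τ u s t : Perm (Fin 7)} (hτ : ∀ x, K.π (φ x) = τ * K.π x * τ⁻¹)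
    (h : Tri τ u s t) : ∃ x y : L, φ x = x ∧ φ y = y ∧ x * x = K.z ∧ y * y = K.z ∧ y * x * y⁻¹ = x⁻¹ := by
  obtain ⟨a1, a2, a3, a4, a5, a6, a7, a8, a9, a10, a11, a12⟩ := h
  have hodd : Odd 3 := by decide
  have hmem : ∀ a : Perm (Fin 7), a ^ 3 = 1 → a ∈ alternatingGroup (Fin 7) := by
    intro a ha
    rw [Perm.mem_alternatingGroup]
    have h1 : Perm.sign a ^ 3 = 1 := by rw [← map_pow, ha, map_one]
    rcases Int.units_eq_one_or (Perm.sign a) with h2 | h2
    · exact h2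
    · rw [h2] at h1; exact absurd h1 (by decide)
  have hfix : ∀ a : Perm (Fin 7), a ^ 3 = 1 → τ * a * τ⁻¹ = a → ∃ g, K.π g = a ∧ φ g = g := by
    intro a ha hta
    obtain ⟨g, hg, hg3⟩ := K.exists_odd_lift (hmem a ha) hodd ha
    refine ⟨g, hg, K.odd_lift_unique hodd ?_ hg3 ?_⟩
    · rw [← map_pow, hg3, map_one]
    · rw [hτ, hg, hta]
  obtain ⟨û, hu1, hu2⟩ := hfix u a1 a4
  obtain ⟨v, hv1, hv2⟩ := hfix (u⁻¹ * s) a2 (by
    calc τ * (u⁻¹ * s) * τ⁻¹ = (τ * u * τ⁻¹)⁻¹ * (τ * s * τ⁻¹) := by group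
      _ = u⁻¹ * s := by rw [a4, a5])
  obtain ⟨w, hw1, hw2⟩ := hfix (u⁻¹ * t) a3 (by
    calc τ * (u⁻¹ * t) * τ⁻¹ = (τ * u * τ⁻¹)⁻¹ * (τ * t * τ⁻¹) := by group
      _ = u⁻¹ * t := by rw [a4, a6])
  have hx : K.π (û * v) = s := by rw [map_mul, hu1, hv1, mul_inv_cancel_left]
  have hy : K.π (û * w) = t := by rw [map_mul, hu1, hw1, mul_inv_cancel_left]
  have hxx : (û * v) * (û * v) = K.z := mul_self K (by rw [hx, a7]) (by rw [hx]; exact a8)
  have hyy : (û * w) * (û * w) = K.z := mul_self K (by rw [hy, a9]) (by rw [hy]; exact a10)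
  have hxy : ((û * v) * (û * w)) * ((û * v) * (û * w)) = K.z :=
    mul_self K (by rw [map_mul K.π (û * v) (û * w), hx, hy, a11]) (by rw [map_mul, hx, hy]; exact a12)
  refine ⟨û * v, û * w, ?_, ?_, hxx, hyy, pair_of_sq hyy hxy⟩
  · rw [map_mul, hu2, hv2]
  · rw [map_mul, hu2, hw2]

end cover

section main

variable {L : Type*} [Group L] [Finite L]

omit [Finite L] in
theorem card_cover (K : Cover (Fin 7) L) : Nat.card L = 5040 := by
  have h1 : Nat.card K.π.ker = 2 := by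
    have : (K.π.ker : Set L) = {1, K.z} := by
      ext x
      rw [SetLike.mem_coe, MonoidHom.mem_ker, K.ker]
      rfl
    rw [← SetLike.coe_sort_coe, this, Nat.card_coe_set_eq, Set.ncard_pair K.z_ne.symm]
  have h2 := Subgroup.card_eq_card_quotient_mul_card_subgroup K.π.ker
  rw [h1, Nat.card_congr (QuotientGroup.quotientKerEquivRange K.π).toEquiv, K.range_eq,
    nat_card_alternatingGroup] at h2
  rw [h2, Nat.card_fin]
  rfl

/-- **LEMMA J for `2.A₇`** -/
theorem odd_index_cover (K : Cover (Fin 7) L) (hp : commutator L = ⊤) (B : Subgroup (MulAut L))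
    (h4 : Nat.card B = 4) (h2 : ∀ b ∈ B, b * b = 1) : ¬ 2 ∣ (JJ B).index := by
  choose S hS using exists_perm K
  have hSmul : ∀ a b, S (a * b) = S a * S b := by
    intro a b
    apply perm_unique K
    intro x
    rw [← hS, MulAut.mul_apply, hS, hS]; group
  have hSone : S 1 = 1 := by
    apply perm_unique K
    intro x
    rw [← hS, MulAut.one_apply]; group
  have hSker : ∀ b, S b = 1 → b = 1 := by
    intro b hb
    apply eq_one_of_pi K hp
    intro x
    rw [hS, hb]; group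
  have hSsq : ∀ b ∈ B, S b * S b = 1 := fun b hb => by rw [← hSmul, h2 b hb, hSone]
  -- an even element acts as the inner automorphism of a lift
  have hinner : ∀ b ∈ B, b ≠ 1 → Perm.sign (S b) = 1 → ∃ i : L, K.π i = S b ∧ i * i = K.z ∧ ∀ x, b x = i * x * i⁻¹ := by
    intro b hb hb1 hs
    obtain ⟨i, hi⟩ := K.exists_lift (Perm.mem_alternatingGroup.2 hs)
    refine ⟨i, hi, mul_self K (by rw [hi]; exact hSsq b hb) (by rw [hi]; exact fun h => hb1 (hSker b h)), ?_⟩
    have h3 : (MulAut.conj i)⁻¹ * b = 1 := by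
      apply eq_one_of_pi K hp
      intro x
      have h5 : ((MulAut.conj i)⁻¹ * b) x = i⁻¹ * b x * i := by
        rw [MulAut.mul_apply, ← map_inv, MulAut.conj_apply, inv_inv]
      rw [h5, map_mul, map_mul, map_inv, hS, hi]; group
    intro x
    rw [inv_mul_eq_one] at h3
    rw [← h3, MulAut.conj_apply]
  obtain ⟨a, ha, b, hb, ha1, hb1, hab⟩ := exists_two h4
  have hab1 : a * b ≠ 1 := fun h => hab (by
    rw [eq_inv_of_mul_eq_one_left h, ← eq_inv_of_mul_eq_one_left (h2 b hb)])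
  obtain ⟨b0, hb0, hb01, hs0⟩ : ∃ b0 ∈ B, b0 ≠ 1 ∧ Perm.sign (S b0) = 1 := by
    rcases Int.units_eq_one_or (Perm.sign (S a)) with h3 | h3
    · exact ⟨a, ha, ha1, h3⟩
    · rcases Int.units_eq_one_or (Perm.sign (S b)) with h5 | h5
      · exact ⟨b, hb, hb1, h5⟩
      · exact ⟨a * b, B.mul_mem ha hb, hab1, by rw [hSmul, map_mul, h3, h5]; rfl⟩
  obtain ⟨i, hi, hii, hbi⟩ := hinner b0 hb0 hb01 hs0
  have hC : ∀ x, x * i = i * x → x ∈ JJ B := fun x hx => mem_JJ hb0 hb01 (by rw [hbi, ← hx, mul_inv_cancel_right])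
  -- the index of `C(i)`
  have h4i : ¬ 4 ∣ (centralizer ({i} : Set L)).index := by
    intro hd
    obtain ⟨ρ, hρ, hρs⟩ := exists_sqrt (hSsq b0 hb0) (fun h => hb01 (hSker b0 h)) hs0
    obtain ⟨w, hw⟩ := K.exists_lift (Perm.mem_alternatingGroup.2 hρs)
    have hww : w * w = i ∨ w * w = i * K.z := K.lift_eq (by rw [map_mul, hw, hρ, hi])
    have hzz := K.z_mul_z
    have hw4 : (w * w) * (w * w) = K.z := by
      rcases hww with h | h
      · rw [h, hii]
      · rw [h]
        calc i * K.z * (i * K.z) = i * (K.z * i) * K.z := by group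
          _ = (i * i) * (K.z * K.z) := by rw [← K.z_comm i]; group
          _ = K.z := by rw [hii, hzz, mul_one]
    have hwi : w * i = i * w := by
      rcases hww with h | h
      · rw [← h, mul_assoc]
      · have h5 : i = w * w * K.z := by rw [h, mul_assoc, hzz, mul_one]
        rw [h5]
        calc w * (w * w * K.z) = w * w * (w * K.z) := by group
          _ = w * w * K.z * w := by rw [K.z_comm w]; group
    have hord : orderOf w = 8 := by
      have h5 : w ^ 2 ^ 2 = K.z := by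
        rw [show (2 : ℕ) ^ 2 = 2 * 2 by norm_num, pow_mul, pow_two w, pow_two, hw4]
      have : Fact (Nat.Prime 2) := ⟨Nat.prime_two⟩
      have h6 := orderOf_eq_prime_pow (p := 2) (n := 2) (x := w) (by rw [h5]; exact K.z_ne)
        (by rw [pow_succ, pow_mul, h5, pow_two, hzz])
      rw [h6]; norm_num
    have h8 : 8 ∣ Nat.card (centralizer ({i} : Set L)) := by
      rw [← hord, ← Subgroup.orderOf_mk _ (mem_centralizer_singleton_iff.2 hwi : w ∈ centralizer ({i} : Set L))]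
      exact orderOf_dvd_natCard _
    have h9 := (centralizer ({i} : Set L)).index_mul_card
    rw [card_cover K] at h9
    have h10 : 4 * 8 ∣ 5040 := by
      rw [← h9]; exact mul_dvd_mul hd h8
    revert h10; decide
  -- the quaternion pair
  obtain ⟨x, hx, y, hy, hxx, hyy, hxy⟩ : ∃ x ∈ JJ B, ∃ y ∈ JJ B, x * x = K.z ∧ y * y = K.z ∧ y * x * y⁻¹ = x⁻¹ := by
    by_cases hodd : ∃ τ ∈ B, Perm.sign (S τ) = -1
    · obtain ⟨τ, hτ, hτs⟩ := hodd
      obtain ⟨u, s, t, htri⟩ := exists_tri (hSsq τ hτ) hτs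
      obtain ⟨x, y, hx, hy, hxx, hyy, hxy⟩ := exists_pair K (hS τ) htri
      have hτ1 : τ ≠ 1 := by
        rintro rfl
        rw [hSone, map_one] at hτs
        revert hτs; decide
      exact ⟨x, mem_JJ hτ hτ1 hx, y, mem_JJ hτ hτ1 hy, hxx, hyy, hxy⟩
    · push Not at hodd
      have hev : ∀ c ∈ B, Perm.sign (S c) = 1 := fun c hc =>
        (Int.units_eq_one_or (Perm.sign (S c))).resolve_right (hodd c hc)
      obtain ⟨x, hx, hxx, hxb⟩ := hinner a ha ha1 (hev a ha)
      obtain ⟨y, hy, hyy, hyb⟩ := hinner b hb hb1 (hev b hb)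
      refine ⟨x, mem_JJ ha ha1 (by rw [hxb, mul_inv_cancel_right]), y,
        mem_JJ hb hb1 (by rw [hyb, mul_inv_cancel_right]), hxx, hyy, pair_of_sq hyy ?_⟩
      apply mul_self K
      · rw [map_mul, hx, hy, ← hSmul]
        exact hSsq _ (B.mul_mem ha hb)
      · rw [map_mul, hx, hy, ← hSmul]
        exact fun h => hab1 (hSker _ h)
  exact odd_index_of_pair K.z_ne K.z_mul_z (fun t ht => inv_unique K ht) hii (JJ B) hC h4i hx hy hxx hyy hxy

/-- **LEMMA J for `2.A₇`** -/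
theorem odd_index_two_A7 (h : Cfsg.IsNonsplitDoubleCover L ↥(alternatingGroup (Fin 7))) (B : Subgroup (MulAut L))
    (h4 : Nat.card B = 4) (h2 : ∀ b ∈ B, b * b = 1) : ¬ 2 ∣ (JJ B).index := by
  obtain ⟨π, z0, hcov, -⟩ := exists_isCover h
  exact odd_index_cover (ofIsCover (by norm_num) hcov)
    (Intrinsic.Bridge.perfect_of_cover (by norm_num) h).commutator_eq_top B h4 h2

end main

end Cfsg.Agent.Cit.LemmaJ
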