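import Cfsg.Agent.Cit.LemmaJOut
import Cfsg.Agent.Cit.LemmaJSeven

/-!
# LEMMA J

`B` a four-group of automorphisms of `L`, `J` the subgroup generated by the fixed points of the elements `b ≠ 1` of `B`.

* `lemmaJ`: `L = SL(2,F)`, `|F| ≥ 5` odd: the index of `J` is odd;
* `lemmaJ_seven`: `L = 2.A₇`: the index of `J` is odd;
* `lemmaJ3`: `L = SL(2,3)`: the index of `J` is odd, or `J = ⟨v⟩`, `v` of order four, inverted by an element of `B`.
-/

set_option autoImplicit false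

namespace Cfsg.Agent.Cit.LemmaJ

open Matrix Subgroup
open Cfsg.Agent.Lib.SL2Mat Cfsg.Agent.Lib.AutSL2 Cfsg.Agent.Lib.AutSL2Out Cfsg.Agent.Classification.QDW.TypeHom
open Cfsg.Agent.Lib.PSL2Circle Cfsg.Agent.Lib.PSL2Outer Cfsg.Agent.Cit.QModSL
open Cfsg.Agent.TwoFusion.QuatCoverSL (two_ne_zero_of_odd neg_one_ne_one eq_neg_one_of_orderOf_two)

local notation "SL2" => Matrix.SpecialLinearGroup (Fin 2)

section three

variable {F : Type*} [Field F] [Fintype F]

theorem case_three (hF : Fintype.card F = 3) {B : Subgroup (MulAut (SL2 F))}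
    (h4 : Nat.card B = 4) (h2 : ∀ b ∈ B, b * b = 1) {b0 a : MulAut (SL2 F)} (hb0 : b0 ∈ B) (hb01 : b0 ≠ 1)
    {i : SL2 F} (hi : i * i = -1) (hbi : ∀ x, b0 x = i * x * i⁻¹) (ha : a ∈ B) (hat : typ a = 1) (hin : ¬ Inn a) :
    ∃ v : SL2 F, orderOf v = 4 ∧ JJ B = zpowers v ∧ (∃ b ∈ B, b ≠ 1 ∧ b v = v) ∧ ∃ b ∈ B, b v = v⁻¹ := by
  have hodd : Odd (Fintype.card F) := by rw [hF]; decide
  have hF' : Nat.card F = 3 := by rw [Nat.card_eq_fintype_card, hF]
  have h20 := two_ne_zero_of_odd hodd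
  have hcomm := comm_of_sq h2
  have hab : b0 * a ∈ B := B.mul_mem hb0 ha
  have hne : b0 ≠ a := by
    rintro rfl
    exact hin ⟨i, hbi⟩
  have ha1 : a ≠ 1 := by
    rintro rfl
    exact hin ⟨1, fun x => by simp⟩
  have hbt : typ (b0 * a) = 1 := by rw [map_mul, typ_inner ⟨i, hbi⟩, hat, one_mul]
  have hbn : ¬ Inn (b0 * a) := by
    rintro ⟨s, hs⟩
    apply hin
    refine ⟨i⁻¹ * s, fun x => ?_⟩
    have h3 := hs x
    rw [MulAut.mul_apply, hbi] at h3
    have h6 : a x = i⁻¹ * (i * a x * i⁻¹) * i := by group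
    rw [h6, h3]; group
  have hai := outer_neg hodd hi hbi (h2 a ha) hat hin (hcomm a ha b0 hb0)
  obtain ⟨d1, d2, d3⟩ := outer_data hodd hi hat hin hai
  obtain ⟨e1, e2, e3⟩ := outer_data hodd hi hbt hbn
    (outer_neg hodd hi hbi (h2 _ hab) hbt hbn (hcomm _ hab b0 hb0))
  rw [hF'] at d3 e3
  have hord : orderOf i = 4 := by
    have : Fact (Nat.Prime 2) := ⟨Nat.prime_two⟩
    have h6 := orderOf_eq_prime_pow (p := 2) (n := 1) (x := i) (by rw [pow_one, pow_two, hi]; exact neg_one_ne h20)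
      (by rw [show (2 : ℕ) ^ (1 + 1) = 2 * 2 by norm_num, pow_mul, pow_two i, hi, neg_one_sq])
    rw [h6]; norm_num
  have hneg : (-1 : SL2 F) ∈ zpowers i := by
    rw [← hi]; exact mul_mem (mem_zpowers i) (mem_zpowers i)
  have hsmall : ∀ u : MulAut (SL2 F), Nat.card (Fix u) = 2 → ∀ x, u x = x → x ∈ zpowers i := by
    intro u hu x hx
    have h3 : (⟨x, hx⟩ : Fix u) ^ Nat.card (Fix u) = 1 := pow_card_eq_one'
    have h6 : x * x = 1 := by
      rw [hu] at h3
      rw [← pow_two]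
      exact congrArg Subtype.val h3
    rcases sq_one h20 x h6 with h7 | h7
    · rw [h7]; exact one_mem _
    · rw [h7]; exact hneg
  have hcen : ∀ x, x * i = i * x → x ∈ zpowers i := by
    intro x hx
    have hle : zpowers i ≤ centralizer ({i} : Set (SL2 F)) := by
      rw [zpowers_le]; exact mem_centralizer_singleton_iff.2 rfl
    have hc : Nat.card (centralizer ({i} : Set (SL2 F))) = 4 := by
      rw [card_centralizer h20 (ent_of_sq hi)]
      rcases card_circ (F := F) h20 with ⟨h, -⟩ | ⟨-, h⟩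
      · rw [hF'] at h; omega
      · rw [h, hF']
    have heq : zpowers i = centralizer ({i} : Set (SL2 F)) := by
      apply Subgroup.eq_of_le_of_card_ge hle
      rw [hc, Nat.card_zpowers, hord]
    rw [heq]
    exact mem_centralizer_singleton_iff.2 hx
  have hinv : i⁻¹ = -i := SylowSp4.SLFacts.inv_eq_neg hi
  refine ⟨i, hord, le_antisymm ?_ ?_, ⟨b0, hb0, hb01, by rw [hbi, mul_inv_cancel_right]⟩, ⟨a, ha, by rw [hai, hinv]⟩⟩
  · rw [JJ, closure_le]
    rintro x ⟨b, hb, hb1, hx⟩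
    rcases mem_four h4 h2 hb0 ha hb01 ha1 hne hb with rfl | rfl | rfl | rfl
    · exact absurd rfl hb1
    · exact hcen x ((fix_iff hbi x).1 hx)
    · exact hsmall _ (by omega) x hx
    · exact hsmall _ (by omega) x hx
  · rw [zpowers_le]
    exact mem_JJ hb0 hb01 (by rw [hbi, mul_inv_cancel_right])

/-- **LEMMA J for `SL(2,3)`** -/
theorem three_sl (hF : Fintype.card F = 3) (B : Subgroup (MulAut (SL2 F)))
    (h4 : Nat.card B = 4) (h2 : ∀ b ∈ B, b * b = 1) :
    ¬ 2 ∣ (JJ B).index ∨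
      ∃ v : SL2 F, orderOf v = 4 ∧ JJ B = zpowers v ∧ (∃ b ∈ B, b ≠ 1 ∧ b v = v) ∧ ∃ b ∈ B, b v = v⁻¹ := by
  have hodd : Odd (Fintype.card F) := by rw [hF]; decide
  have ht : ∀ f ∈ B, typ f = 1 := by
    intro f hf
    by_contra hft
    obtain ⟨K, -, hK⟩ := exists_fixed_card (σ := typ f) (by rw [← map_mul, h2 f hf, map_one]) hft
    rw [Nat.card_eq_fintype_card, hF] at hK
    generalize Nat.card K = n at hK
    have h3 : n < 2 := by
      by_contra hcon
      have : 2 * 2 ≤ n * n := Nat.mul_le_mul (by omega) (by omega)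
      rw [← pow_two n, ← hK] at this
      omega
    interval_cases n <;> omega
  obtain ⟨a, ha, b, hb, ha1, hb1, hab⟩ := exists_two h4
  have hab1 : a * b ≠ 1 := fun h => hab (by
    rw [eq_inv_of_mul_eq_one_left h, ← eq_inv_of_mul_eq_one_left (h2 b hb)])
  by_cases hai : Inn a
  · by_cases hbi : Inn b
    · exact Or.inl (case_inner hodd h2 ha hb ha1 hb1 hab hai hbi)
    · obtain ⟨i, hi⟩ := hai
      exact Or.inr (case_three hF h4 h2 ha ha1 (sq_of_conj hodd hi ha1 (h2 a ha)) hi hb (ht b hb) hbi)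
  · right
    by_cases hbi : Inn b
    · obtain ⟨i, hi⟩ := hbi
      exact case_three hF h4 h2 hb hb1 (sq_of_conj hodd hi hb1 (h2 b hb)) hi ha (ht a ha) hai
    · obtain ⟨i, hi⟩ := inner_mul hodd (ht a ha) (ht b hb) hai hbi
      exact case_three hF h4 h2 (B.mul_mem ha hb) hab1 (sq_of_conj hodd hi hab1 (h2 _ (B.mul_mem ha hb))) hi ha
        (ht a ha) hai

end three

section main

variable {L : Type*} [Group L]

theorem congr_four {M : Type*} [Group M] (e : L ≃* M) {B : Subgroup (MulAut L)} (h4 : Nat.card B = 4)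
    (h2 : ∀ b ∈ B, b * b = 1) :
    Nat.card (B.map (MulAut.congr e).toMonoidHom) = 4 ∧
      ∀ b ∈ B.map (MulAut.congr e).toMonoidHom, b * b = 1 := by
  constructor
  · rw [← h4]
    exact (Nat.card_congr (B.equivMapOfInjective (MulAut.congr e).toMonoidHom (MulAut.congr e).injective).toEquiv).symm
  · rintro _ ⟨b, hb, rfl⟩
    rw [← map_mul, h2 b hb, map_one]

/-- **LEMMA J**, `SL(2,F)`, `|F| ≥ 5` -/
theorem lemmaJ {F : Type*} [Field F] [Fintype F] (hq : Odd (Fintype.card F)) (h5 : 5 ≤ Fintype.card F)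
    (e : L ≃* SL2 F) (B : Subgroup (MulAut L)) (h4 : Nat.card B = 4) (h2 : ∀ b ∈ B, b * b = 1) :
    ¬ 2 ∣ (closure {x : L | ∃ b ∈ B, b ≠ 1 ∧ b x = x}).index := by
  obtain ⟨h4', h2'⟩ := congr_four e h4 h2
  have h := odd_index_sl hq h5 _ h4' h2'
  rw [index_map_JJ] at h
  exact h

/-- **LEMMA J**, `2.A₇` -/
theorem lemmaJ_seven [Finite L] (h : Cfsg.IsNonsplitDoubleCover L ↥(alternatingGroup (Fin 7)))
    (B : Subgroup (MulAut L)) (h4 : Nat.card B = 4) (h2 : ∀ b ∈ B, b * b = 1) :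
    ¬ 2 ∣ (closure {x : L | ∃ b ∈ B, b ≠ 1 ∧ b x = x}).index :=
  odd_index_two_A7 h B h4 h2

/-- **LEMMA J**, `SL(2,3)`; the group `L` is finite in both cases -/
theorem lemmaJ3 {F : Type*} [Field F] [Fintype F] (hq : Fintype.card F = 3)
    (e : L ≃* SL2 F) (B : Subgroup (MulAut L)) (h4 : Nat.card B = 4) (h2 : ∀ b ∈ B, b * b = 1) :
    ¬ 2 ∣ (closure {x : L | ∃ b ∈ B, b ≠ 1 ∧ b x = x}).index ∨
      ∃ v : L, orderOf v = 4 ∧ closure {x : L | ∃ b ∈ B, b ≠ 1 ∧ b x = x} = zpowers v ∧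
        (∃ b ∈ B, b ≠ 1 ∧ b v = v) ∧ ∃ b ∈ B, b v = v⁻¹ := by
  obtain ⟨h4', h2'⟩ := congr_four e h4 h2
  rcases three_sl hq _ h4' h2' with h | ⟨v, hv, hJ, ⟨b, hb, hb1, hbv⟩, ⟨c, hc, hcv⟩⟩
  · left
    rw [index_map_JJ] at h
    exact h
  · right
    refine ⟨e.symm v, by rw [MulEquiv.orderOf_eq, hv], ?_, ?_, ?_⟩
    · change JJ B = _
      rw [← map_JJ] at hJ
      have h3 : ((JJ B).map e.toMonoidHom).map e.symm.toMonoidHom = (zpowers v).map e.symm.toMonoidHom := by rw [hJ]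
      rw [MonoidHom.map_zpowers, Subgroup.map_map] at h3
      have h6 : e.symm.toMonoidHom.comp e.toMonoidHom = MonoidHom.id L := by
        ext x; exact e.symm_apply_apply x
      rw [h6, Subgroup.map_id] at h3
      exact h3
    · obtain ⟨b', hb', rfl⟩ := hb
      refine ⟨b', hb', fun h => hb1 (by rw [h]; exact map_one (MulAut.congr e)), ?_⟩
      have h3 : e (b' (e.symm v)) = v := hbv
      apply e.injective
      rw [h3, MulEquiv.apply_symm_apply]
    · obtain ⟨c', hc', rfl⟩ := hc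
      refine ⟨c', hc', ?_⟩
      have h3 : e (c' (e.symm v)) = v⁻¹ := hcv
      apply e.injective
      rw [h3, map_inv, MulEquiv.apply_symm_apply]

end main

end Cfsg.Agent.Cit.LemmaJ
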