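import Mathlib

/-!
# LEMMA J: the subgroup generated by the centralizers of the elements of a four-group of automorphisms

`JJ B`: generated by the fixed points of the elements `b ≠ 1` of `B`.

`odd_index_of_pair`: `L` a finite group with a unique involution `z`, `i² = z`, `J ≥ C(i)`, `4` does not divide the index
of `C(i)`; if `J` contains a quaternion pair then the index of `J` is odd.
-/

set_option autoImplicit false

namespace Cfsg.Agent.Cit.LemmaJ

open Subgroup

/-- the subgroup generated by the fixed points of the elements of `B` -/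
def JJ {L : Type*} [Group L] (B : Subgroup (MulAut L)) : Subgroup L :=
  Subgroup.closure {x : L | ∃ b ∈ B, b ≠ 1 ∧ b x = x}

section base

variable {L : Type*} [Group L]

theorem mem_JJ {B : Subgroup (MulAut L)} {b : MulAut L} (hb : b ∈ B) (hb1 : b ≠ 1) {x : L} (hx : b x = x) :
    x ∈ JJ B := subset_closure ⟨b, hb, hb1, hx⟩

/-- an element of `B` maps `JJ B` into itself -/
theorem map_mem_JJ {B : Subgroup (MulAut L)} (hB : ∀ a ∈ B, ∀ b ∈ B, a * b = b * a) {b : MulAut L} (hb : b ∈ B)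
    {x : L} (hx : x ∈ JJ B) : b x ∈ JJ B := by
  have h : JJ B ≤ (JJ B).comap b.toMonoidHom := by
    rw [JJ, closure_le]
    rintro y ⟨c, hc, hc1, hy⟩
    refine subset_closure ⟨c, hc, hc1, ?_⟩
    change c (b y) = b y
    have h1 := DFunLike.congr_fun (hB c hc b hb) y
    rw [MulAut.mul_apply, MulAut.mul_apply, hy] at h1
    exact h1
  exact h hx

/-- transport along an isomorphism -/
theorem map_JJ {M : Type*} [Group M] (e : L ≃* M) (B : Subgroup (MulAut L)) :
    (JJ B).map e.toMonoidHom = JJ (B.map (MulAut.congr e).toMonoidHom) := by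
  rw [JJ, JJ, MonoidHom.map_closure]
  congr 1
  ext y
  constructor
  · rintro ⟨x, ⟨b, hb, hb1, hx⟩, rfl⟩
    refine ⟨MulAut.congr e b, ⟨b, hb, rfl⟩, fun h => hb1 ?_, ?_⟩
    · exact (MulAut.congr e).injective (by rw [h, map_one])
    · change e (b (e.symm (e x))) = e x
      rw [MulEquiv.symm_apply_apply, hx]
  · rintro ⟨_, ⟨b, hb, rfl⟩, hb1, hy⟩
    refine ⟨e.symm y, ⟨b, hb, fun h => hb1 ?_, ?_⟩, e.apply_symm_apply y⟩
    · rw [h]
      exact map_one (MulAut.congr e)
    · have h1 : e (b (e.symm y)) = y := hy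
      apply e.injective
      rw [h1, MulEquiv.apply_symm_apply]

theorem index_map_JJ {M : Type*} [Group M] (e : L ≃* M) (B : Subgroup (MulAut L)) :
    (JJ (B.map (MulAut.congr e).toMonoidHom)).index = (JJ B).index := by
  rw [← map_JJ]
  exact index_map_equiv _ e

theorem isPGroup_pair {i j : L} (hi : i ^ 4 = 1) (hj : j ^ 4 = 1) (hij : j * i * j⁻¹ = i⁻¹) :
    IsPGroup 2 (zpowers j ⊔ zpowers i : Subgroup L) := by
  have h2g : ∀ k : L, k ^ 4 = 1 → IsPGroup 2 (zpowers k) := by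
    intro k hk
    have : Nat.card (zpowers k) ∣ 2 ^ 2 := by
      rw [Nat.card_zpowers]
      exact orderOf_dvd_of_pow_eq_one (by simpa using hk)
    obtain ⟨n, _, hn⟩ := (Nat.dvd_prime_pow Nat.prime_two).1 this
    exact IsPGroup.of_card hn
  have hnorm : zpowers j ≤ normalizer (zpowers i : Set L) := by
    rw [zpowers_le, mem_normalizer_iff]
    have key : ∀ h : L, h ∈ zpowers i → j * h * j⁻¹ ∈ zpowers i := by
      rintro _ ⟨n, rfl⟩
      change j * i ^ n * j⁻¹ ∈ _
      rw [← MulAut.conj_apply, map_zpow, MulAut.conj_apply, hij]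
      exact Subgroup.zpow_mem _ (inv_mem (mem_zpowers i)) n
    have key4 : ∀ n : ℕ, ∀ h : L, h ∈ zpowers i → j ^ n * h * (j ^ n)⁻¹ ∈ zpowers i := by
      intro n
      induction n with
      | zero => intro h hh; simpa using hh
      | succ n ih =>
        intro h hh
        have := key _ (ih h hh)
        rw [pow_succ']
        simpa [mul_assoc] using this
    intro h
    refine ⟨key h, fun hh => ?_⟩
    have h3 := key4 3 _ hh
    have e : j ^ 3 * (j * h * j⁻¹) * (j ^ 3)⁻¹ = h := by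
      calc j ^ 3 * (j * h * j⁻¹) * (j ^ 3)⁻¹ = j ^ 4 * h * (j ^ 4)⁻¹ := by group
        _ = h := by rw [hj]; simp
    rwa [e] at h3
  exact (h2g j hj).to_sup_of_normal_right' (h2g i hi) hnorm

/-- a 2-subgroup of `J` is conjugate in `J` to a subgroup of a subgroup `C ≤ J` of odd index -/
theorem exists_conj_mem {C J : Subgroup L} [Finite L] (h : ¬ 2 ∣ C.relIndex J) (P : Subgroup J) (hP : IsPGroup 2 P) :
    ∃ g : J, ∀ p ∈ P, ((g⁻¹ * p * g : J) : L) ∈ C := by
  have : Fact (Nat.Prime 2) := ⟨Nat.prime_two⟩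
  obtain ⟨q, hq⟩ := hP.nonempty_fixed_point_of_prime_not_dvd_card (J ⧸ C.subgroupOf J) (by
    rw [← Subgroup.index_eq_card]; exact h)
  obtain ⟨g, rfl⟩ := QuotientGroup.mk_surjective q
  refine ⟨g, fun p hp => ?_⟩
  have h1 := hq ⟨p, hp⟩
  have h2 : ((p * g : J) : J ⧸ C.subgroupOf J) = (g : J ⧸ C.subgroupOf J) := h1
  rw [eq_comm, QuotientGroup.eq] at h2
  have h3 : g⁻¹ * (p * g) ∈ C.subgroupOf J := h2
  rw [← mul_assoc] at h3
  exact h3

/-- **the index criterion** -/
theorem odd_index_of_pair [Finite L] {z : L} (hz1 : z ≠ 1) (hzz : z * z = 1)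
    (hz : ∀ t : L, t * t = 1 → t = 1 ∨ t = z) {i : L} (hi : i * i = z) (J : Subgroup L)
    (hC : ∀ x, x * i = i * x → x ∈ J) (h4 : ¬ 4 ∣ (centralizer ({i} : Set L)).index)
    {x y : L} (hx : x ∈ J) (hy : y ∈ J) (hxx : x * x = z) (hyy : y * y = z) (hxy : y * x * y⁻¹ = x⁻¹) :
    ¬ 2 ∣ J.index := by
  intro h2
  have hCJ : centralizer ({i} : Set L) ≤ J := fun c hc => hC c (mem_centralizer_singleton_iff.1 hc)
  have h3 : ¬ 2 ∣ (centralizer ({i} : Set L)).relIndex J := fun h => h4 (by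
    rw [← relIndex_mul_index hCJ]
    exact mul_dvd_mul (show 2 ∣ _ from h) h2)
  have hp4 : ∀ t : L, t * t = z → t ^ 4 = 1 := fun t ht => by
    rw [show 4 = 2 * 2 by norm_num, pow_mul, pow_two t, ht, pow_two, hzz]
  have e1 : (⟨y, hy⟩ : J) * ⟨x, hx⟩ * (⟨y, hy⟩)⁻¹ = (⟨x, hx⟩)⁻¹ := Subtype.ext hxy
  have hP : IsPGroup 2 (zpowers (⟨y, hy⟩ : J) ⊔ zpowers (⟨x, hx⟩ : J) : Subgroup J) :=
    isPGroup_pair (Subtype.ext (hp4 x hxx)) (Subtype.ext (hp4 y hyy)) e1
  obtain ⟨g, hg⟩ := exists_conj_mem h3 _ hP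
  have hx' := mem_centralizer_singleton_iff.1 (hg ⟨x, hx⟩ (mem_sup_right (mem_zpowers _)))
  have hy' := mem_centralizer_singleton_iff.1 (hg ⟨y, hy⟩ (mem_sup_left (mem_zpowers _)))
  set x' : L := ((g⁻¹ * ⟨x, hx⟩ * g : J) : L) with hx'd
  set y' : L := ((g⁻¹ * ⟨y, hy⟩ * g : J) : L) with hy'd
  have ex' : x' = (g : L)⁻¹ * x * g := rfl
  have ey' : y' = (g : L)⁻¹ * y * g := rfl
  -- elements of `C(i)` with square `z` are powers of `i`
  have hzc : ∀ t : L, t * z = z * t := by
    intro t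
    have h5 : (t * z * t⁻¹) * (t * z * t⁻¹) = 1 := by
      calc (t * z * t⁻¹) * (t * z * t⁻¹) = t * (z * z) * t⁻¹ := by group
        _ = 1 := by rw [hzz]; group
    rcases hz _ h5 with h6 | h6
    · exfalso
      apply hz1
      rw [mul_inv_eq_one] at h6
      exact mul_eq_left.1 h6
    · exact mul_inv_eq_iff_eq_mul.1 h6
  have key : ∀ t : L, t * i = i * t → t * t = z → t = i⁻¹ ∨ t = i⁻¹ * z := by
    intro t ht htt
    have h5 : (i * t) * (i * t) = 1 := by
      calc (i * t) * (i * t) = i * (t * i) * t := by group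
        _ = (i * i) * (t * t) := by rw [ht]; group
        _ = 1 := by rw [hi, htt, hzz]
    rcases hz _ h5 with h6 | h6
    · left; exact eq_inv_of_mul_eq_one_right h6
    · right; rw [eq_inv_mul_iff_mul_eq]; exact h6
  have hconj : ∀ t : L, t * t = z → ((g : L)⁻¹ * t * g) * ((g : L)⁻¹ * t * g) = z := by
    intro t ht
    calc ((g : L)⁻¹ * t * g) * ((g : L)⁻¹ * t * g) = (g : L)⁻¹ * (t * t) * g := by group
      _ = (g : L)⁻¹ * (z * g) := by rw [ht, mul_assoc]
      _ = z := by rw [← hzc]; group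
  have k1 := key x' hx' (by rw [ex']; exact hconj x hxx)
  have k2 := key y' hy' (by rw [ey']; exact hconj y hyy)
  have hcomm : x' * y' = y' * x' := by
    have hic : i⁻¹ * z = z * i⁻¹ := hzc _
    rcases k1 with h5 | h5 <;> rcases k2 with h6 | h6 <;> rw [h5, h6]
    · rw [mul_assoc, ← hic, ← mul_assoc]
    · rw [mul_assoc, ← hic, ← mul_assoc]
  have hrel : y' * x' * y'⁻¹ = x'⁻¹ := by
    rw [ex', ey']
    calc (g : L)⁻¹ * y * g * ((g : L)⁻¹ * x * g) * ((g : L)⁻¹ * y * g)⁻¹ = (g : L)⁻¹ * (y * x * y⁻¹) * g := by group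
      _ = ((g : L)⁻¹ * x * g)⁻¹ := by rw [hxy]; group
  rw [← hcomm, mul_inv_cancel_right] at hrel
  have h7 : x' * x' = 1 := by nth_rewrite 1 [hrel]; exact inv_mul_cancel _
  apply hz1
  rw [← h7, ex']
  exact (hconj x hxx).symm

/-- `x² = y² = (xy)² = z` -/
theorem pair_of_sq {x y z : L} (hyy : y * y = z) (hxy : (x * y) * (x * y) = z) :
    y * x * y⁻¹ = x⁻¹ := by
  have h1 : y * x * y = x⁻¹ * z := by rw [← hxy]; group
  calc y * x * y⁻¹ = (y * x * y) * (y * y)⁻¹ := by group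
    _ = x⁻¹ := by rw [h1, hyy]; group

end base

/-! ### four-groups -/

section four

variable {M : Type*} [Group M]

theorem comm_of_sq {B : Subgroup M} (h2 : ∀ b ∈ B, b * b = 1) : ∀ a ∈ B, ∀ b ∈ B, a * b = b * a := by
  intro a ha b hb
  have h1 := h2 _ (B.mul_mem ha hb)
  have ha' := eq_inv_of_mul_eq_one_left (h2 a ha)
  have hb' := eq_inv_of_mul_eq_one_left (h2 b hb)
  calc a * b = (a * b)⁻¹ := eq_inv_of_mul_eq_one_left h1
    _ = b⁻¹ * a⁻¹ := mul_inv_rev _ _
    _ = b * a := by rw [← ha', ← hb']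

theorem exists_two {B : Subgroup M} (h4 : Nat.card B = 4) :
    ∃ a ∈ B, ∃ b ∈ B, a ≠ 1 ∧ b ≠ 1 ∧ a ≠ b := by
  have hfin : Finite B := Nat.finite_of_card_ne_zero (by rw [h4]; norm_num)
  have : Fintype B := Fintype.ofFinite B
  classical
  rw [Nat.card_eq_fintype_card] at h4
  obtain ⟨a, ha⟩ : ∃ a : B, a ∉ ({1} : Finset B) := by
    by_contra hcon
    push Not at hcon
    have := Finset.card_le_card (fun x _ => hcon x : (Finset.univ : Finset B) ⊆ {1})
    rw [Finset.card_univ, h4, Finset.card_singleton] at this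
    omega
  obtain ⟨b, hb⟩ : ∃ b : B, b ∉ ({1, a} : Finset B) := by
    by_contra hcon
    push Not at hcon
    have h5 := Finset.card_le_card (fun x _ => hcon x : (Finset.univ : Finset B) ⊆ {1, a})
    have h6 := Finset.card_le_two (a := (1 : B)) (b := a)
    rw [Finset.card_univ, h4] at h5
    omega
  simp only [Finset.mem_singleton] at ha
  simp only [Finset.mem_insert, Finset.mem_singleton, not_or] at hb
  exact ⟨a, a.2, b, b.2, fun h => ha (Subtype.ext h), fun h => hb.1 (Subtype.ext h), fun h => hb.2 (Subtype.ext h.symm)⟩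

theorem mem_four {B : Subgroup M} (h4 : Nat.card B = 4) (h2 : ∀ b ∈ B, b * b = 1) {a b : M} (ha : a ∈ B)
    (hb : b ∈ B) (ha1 : a ≠ 1) (hb1 : b ≠ 1) (hab : a ≠ b) {c : M} (hc : c ∈ B) :
    c = 1 ∨ c = a ∨ c = b ∨ c = a * b := by
  by_contra hcon
  push Not at hcon
  obtain ⟨c1, c2, c3, c4⟩ := hcon
  have hfin : Finite B := Nat.finite_of_card_ne_zero (by rw [h4]; norm_num)
  have : Fintype B := Fintype.ofFinite B
  classical
  rw [Nat.card_eq_fintype_card] at h4
  have hab1 : a * b ≠ 1 := fun h => hab (by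
    rw [eq_inv_of_mul_eq_one_left h, ← eq_inv_of_mul_eq_one_left (h2 b hb)])
  have haba : a * b ≠ a := fun h => hb1 (mul_eq_left.1 h)
  have habb : a * b ≠ b := fun h => ha1 (mul_eq_right.1 h)
  have h5 : ({(1 : B), ⟨a, ha⟩, ⟨b, hb⟩, ⟨a * b, B.mul_mem ha hb⟩, ⟨c, hc⟩} : Finset B).card = 5 := by
    rw [Finset.card_insert_of_notMem, Finset.card_insert_of_notMem, Finset.card_insert_of_notMem,
      Finset.card_insert_of_notMem, Finset.card_singleton]
    · simp only [Finset.mem_singleton, Subtype.mk.injEq]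
      exact fun h => c4 h.symm
    · simp only [Finset.mem_insert, Finset.mem_singleton, Subtype.mk.injEq, not_or]
      exact ⟨fun h => habb h.symm, fun h => c3 h.symm⟩
    · simp only [Finset.mem_insert, Finset.mem_singleton, Subtype.mk.injEq, not_or]
      exact ⟨hab, fun h => haba h.symm, fun h => c2 h.symm⟩
    · simp only [Finset.mem_insert, Finset.mem_singleton, Subtype.ext_iff, OneMemClass.coe_one, not_or]
      exact ⟨fun h => ha1 h.symm, fun h => hb1 h.symm, fun h => hab1 h.symm, fun h => c1 h.symm⟩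
  have h6 := Finset.card_le_univ ({(1 : B), ⟨a, ha⟩, ⟨b, hb⟩, ⟨a * b, B.mul_mem ha hb⟩, ⟨c, hc⟩} : Finset B)
  omega

end four

end Cfsg.Agent.Cit.LemmaJ
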