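import Cfsg.Agent.Cit.LemmaJSL

/-!
# LEMMA J for `SL(2,F)`: the case of an outer diagonal automorphism
-/

set_option autoImplicit false

namespace Cfsg.Agent.Cit.LemmaJ

open Matrix Subgroup
open Cfsg.Agent.Lib.SL2Mat Cfsg.Agent.Lib.AutSL2 Cfsg.Agent.Lib.AutSL2Out Cfsg.Agent.Classification.QDW.TypeHom
open Cfsg.Agent.Lib.PSL2Circle Cfsg.Agent.Lib.PSL2Outer Cfsg.Agent.Cit.QModSL
open Cfsg.Agent.TwoFusion.QuatCoverSL (two_ne_zero_of_odd neg_one_ne_one eq_neg_one_of_orderOf_two)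

/-! ### invariant Sylow subgroups -/

/-- a 2-group `B` of automorphisms, `N` a `B`-invariant subgroup of odd order, `R1`, `R2` two `B`-invariant subgroups
conjugate under `N`: they are conjugate under `C_N(B)` -/
theorem exists_fixed_conj {L : Type*} [Group L] [Finite L] (B : Subgroup (MulAut L)) (hBp : IsPGroup 2 B)
    (N R1 R2 : Subgroup L) (hN : Odd (Nat.card N)) (hNB : ∀ b ∈ B, ∀ x ∈ N, b x ∈ N)
    (h1 : ∀ b ∈ B, ∀ x ∈ R1, b x ∈ R1) (h2 : ∀ b ∈ B, ∀ x ∈ R2, b x ∈ R2) {n : L} (hn : n ∈ N)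
    (hnR : ∀ x, x ∈ R1 ↔ n * x * n⁻¹ ∈ R2) :
    ∃ m ∈ N, (∀ b ∈ B, b m = m) ∧ ∀ x, x ∈ R1 ↔ m * x * m⁻¹ ∈ R2 := by
  have : Fact (Nat.Prime 2) := ⟨Nat.prime_two⟩
  let X := {m : L // m ∈ N ∧ ∀ x, x ∈ R1 ↔ m * x * m⁻¹ ∈ R2}
  have hmem : ∀ (R : Subgroup L), (∀ b ∈ B, ∀ x ∈ R, b x ∈ R) → ∀ b ∈ B, ∀ x, b x ∈ R ↔ x ∈ R := by
    intro R hR b hb x
    refine ⟨fun h => ?_, hR b hb x⟩
    have := hR b⁻¹ (B.inv_mem hb) _ h
    rwa [MulAut.inv_apply_self] at this
  let act : MulAction B X :=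
    { smul := fun b m => ⟨(b : MulAut L) m.1, hNB b b.2 _ m.2.1, fun x => by
        obtain ⟨y, rfl⟩ := (b : MulAut L).surjective x
        rw [hmem R1 h1 b b.2, ← map_mul, ← map_inv, ← map_mul, hmem R2 h2 b b.2]
        exact m.2.2 y⟩
      one_smul := fun m => Subtype.ext rfl
      mul_smul := fun a b m => Subtype.ext rfl }
  have hodd : ¬ 2 ∣ Nat.card X := by
    let e : X ≃ (N ⊓ normalizer (R1 : Set L) : Subgroup L) :=
      { toFun := fun m => ⟨n⁻¹ * m.1, N.mul_mem (N.inv_mem hn) m.2.1, by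
          refine mem_normalizer_iff.2 fun x => ?_
          rw [hnR (n⁻¹ * m.1 * x * (n⁻¹ * m.1)⁻¹), m.2.2 x]
          have : n * (n⁻¹ * m.1 * x * (n⁻¹ * m.1)⁻¹) * n⁻¹ = m.1 * x * m.1⁻¹ := by group
          rw [this]⟩
        invFun := fun m => ⟨n * m.1, N.mul_mem hn m.2.1, fun x => by
          rw [mem_normalizer_iff.1 m.2.2 x, hnR]
          have : n * (m.1 * x * m.1⁻¹) * n⁻¹ = n * m.1 * x * (n * m.1)⁻¹ := by group
          rw [this]⟩
        left_inv := fun m => Subtype.ext (mul_inv_cancel_left _ _)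
        right_inv := fun m => Subtype.ext (inv_mul_cancel_left _ _) }
    rw [Nat.card_congr e]
    intro h
    have h3 := h.trans (card_dvd_of_le (inf_le_left : N ⊓ normalizer (R1 : Set L) ≤ N))
    exact (Nat.not_even_iff_odd.2 hN) (even_iff_two_dvd.2 h3)
  obtain ⟨m, hm⟩ := hBp.nonempty_fixed_point_of_prime_not_dvd_card X hodd
  exact ⟨m.1, m.2.1, fun b hb => congrArg Subtype.val (hm ⟨b, hb⟩), m.2.2⟩

/-- subgroups of the order of a Sylow subgroup are conjugate in every subgroup containing them -/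
theorem exists_conj_of_card {L : Type*} [Group L] [Finite L] (r : ℕ) [Fact r.Prime] (N R1 R2 : Subgroup L)
    (h1 : Nat.card R1 = r ^ (Nat.card L).factorization r) (h2 : Nat.card R2 = r ^ (Nat.card L).factorization r)
    (hN1 : R1 ≤ N) (hN2 : R2 ≤ N) : ∃ n ∈ N, ∀ x, x ∈ R1 ↔ n * x * n⁻¹ ∈ R2 := by
  have hr : r.Prime := Fact.out
  have hfac : (Nat.card N).factorization r = (Nat.card L).factorization r := by
    apply le_antisymm
    · exact (Nat.factorization_le_iff_dvd Nat.card_pos.ne' Nat.card_pos.ne').2 (card_subgroup_dvd_card N) r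
    · have h3 : r ^ (Nat.card L).factorization r ∣ Nat.card N := by rw [← h1]; exact card_dvd_of_le hN1
      exact (hr.pow_dvd_iff_le_factorization Nat.card_pos.ne').1 h3
  have hc : ∀ R : Subgroup L, R ≤ N → Nat.card R = r ^ (Nat.card L).factorization r →
      Nat.card (R.subgroupOf N) = r ^ (Nat.card N).factorization r := by
    intro R hR h
    rw [Nat.card_congr (subgroupOfEquivOfLe hR).toEquiv, h, hfac]
  let P1 : Sylow r N := Sylow.ofCard (R1.subgroupOf N) (hc R1 hN1 h1)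
  let P2 : Sylow r N := Sylow.ofCard (R2.subgroupOf N) (hc R2 hN2 h2)
  obtain ⟨n, hn⟩ := MulAction.exists_smul_eq N P1 P2
  refine ⟨n, n.2, fun x => ?_⟩
  have h3 : ∀ y : N, y ∈ P1 ↔ n * y * n⁻¹ ∈ P2 := by
    intro y
    rw [← hn]
    change y ∈ (P1 : Subgroup N) ↔ n * y * n⁻¹ ∈ ((n • P1 : Sylow r N) : Subgroup N)
    rw [Sylow.coe_subgroup_smul, Subgroup.mem_pointwise_smul_iff_inv_smul_mem]
    have : (MulAut.conj n)⁻¹ • (n * y * n⁻¹) = y := by
      rw [← map_inv, MulAut.smul_def, MulAut.conj_apply, inv_inv]; group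
    rw [this]
  have e1 : ∀ y : N, y ∈ P1 ↔ (y : L) ∈ R1 := fun y => Iff.rfl
  have e2 : ∀ y : N, y ∈ P2 ↔ (y : L) ∈ R2 := fun y => Iff.rfl
  constructor
  · intro hx
    exact (e2 _).1 ((h3 ⟨x, hN1 hx⟩).1 ((e1 _).2 hx))
  · intro hx
    have hxN : x ∈ N := by
      have : x = (n : L)⁻¹ * (n * x * (n : L)⁻¹) * n := by group
      rw [this]
      exact N.mul_mem (N.mul_mem (N.inv_mem n.2) (hN2 hx)) n.2
    exact (e1 ⟨x, hxN⟩).1 ((h3 ⟨x, hxN⟩).2 ((e2 _).2 hx))

variable {F : Type*} [Field F] [Fintype F]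

local notation "SL2" => Matrix.SpecialLinearGroup (Fin 2)

theorem center_cases (hF : Odd (Fintype.card F)) {s : SL2 F} (hs : ∀ x, s * x = x * s) : s = 1 ∨ s = -1 := by
  have h4 : s ∈ Subgroup.center (SL2 F) := Subgroup.mem_center_iff.2 fun x => (hs x).symm
  rw [Cfsg.Agent.TwoFusion.QuatCoverSL.center_eq_zpowers hF, Subgroup.mem_zpowers_iff] at h4
  obtain ⟨k, hk⟩ := h4
  rcases Int.even_or_odd k with he | ho
  · left; rw [← hk, he.neg_one_zpow]
  · right
    obtain ⟨m, rfl⟩ := ho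
    rw [← hk, _root_.zpow_add, _root_.zpow_mul, _root_.zpow_one, zpow_ofNat, neg_one_sq, _root_.one_zpow, one_mul]

/-- the outer automorphism changes the sign of the lift -/
theorem outer_neg (hF : Odd (Fintype.card F)) {b0 a : MulAut (SL2 F)} {i : SL2 F} (hi : i * i = -1)
    (hbi : ∀ x, b0 x = i * x * i⁻¹) (ha2 : a * a = 1) (hat : typ a = 1) (hin : ¬ Inn a) (hc : a * b0 = b0 * a) :
    a i = -i := by
  have h1 : ∀ x, a i * x * (a i)⁻¹ = i * x * i⁻¹ := by
    intro x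
    obtain ⟨y, rfl⟩ := a.surjective x
    have h3 := DFunLike.congr_fun hc y
    rw [MulAut.mul_apply, MulAut.mul_apply, hbi, hbi, map_mul, map_mul, map_inv] at h3
    exact h3
  have h2 : ∀ x, i⁻¹ * a i * x = x * (i⁻¹ * a i) := by
    intro x
    calc i⁻¹ * a i * x = i⁻¹ * (a i * x * (a i)⁻¹) * a i := by group
      _ = i⁻¹ * (i * x * i⁻¹) * a i := by rw [h1]
      _ = x * (i⁻¹ * a i) := by group
  rcases center_cases hF h2 with h3 | h3
  · exfalso
    rw [inv_mul_eq_one] at h3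
    exact no_four hF ha2 hat hin hi h3.symm
  · rw [inv_mul_eq_iff_eq_mul, mul_neg, mul_one] at h3
    exact h3

/-- the data of an outer diagonal involution -/
theorem outer_data (hF : Odd (Fintype.card F)) {a : MulAut (SL2 F)} {i : SL2 F} (hi : i * i = -1)
    (hat : typ a = 1) (hin : ¬ Inn a) (hai : a i = -i) :
    (∀ x, x * i = i * x → a x = x⁻¹) ∧ (∀ x, a x = x → i * x * i⁻¹ = x⁻¹) ∧
      ((Nat.card F % 4 = 1 ∧ Nat.card (Fix a) = Nat.card F + 1) ∨
        (Nat.card F % 4 = 3 ∧ Nat.card (Fix a) = Nat.card F - 1)) := by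
  have h2 := two_ne_zero_of_odd hF
  obtain ⟨g, rfl⟩ := (typ_eq_one_iff a).1 hat
  refine ⟨fun x hx => conj_comb h2 (ent_of_sq hi) hai hx, ?_⟩
  -- the trace of `g` vanishes
  have hgi := (conj_eq_iff g i (-i)).1 hai
  have hneg : (-i).1 = -i.1 := rfl
  rw [hneg, Matrix.neg_mul] at hgi
  have hdet : ¬ IsSquare g.1.det := by
    rintro ⟨e, he⟩
    have he0 : e ≠ 0 := by
      rintro rfl
      exact LFourA.FieldInv.gl_det_ne g (by rw [he, mul_zero])
    exact hin (conjGL_of_det_sq g e he0 (by rw [he, sq]))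
  have hi' : i.1 1 1 = -i.1 0 0 := ent_of_sq hi
  have hd' : i.1 0 0 ^ 2 + i.1 0 1 * i.1 1 0 = -1 := by
    have hd := det_eq i
    rw [ent_of_sq hi] at hd
    have : i.1 0 0 * -i.1 0 0 - i.1 0 1 * i.1 1 0 = 1 := hd
    linear_combination -this
  have h00 := congrFun (congrFun hgi 0) 0
  have h01 := congrFun (congrFun hgi 0) 1
  have h10 := congrFun (congrFun hgi 1) 0
  have h11 := congrFun (congrFun hgi 1) 1
  rw [Matrix.neg_apply, Matrix.mul_apply, Fin.sum_univ_two, Matrix.mul_apply, Fin.sum_univ_two]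
    at h00 h01 h10 h11
  rw [hi'] at h01 h10 h11
  have htr : g.1 1 1 = - g.1 0 0 := by
    have h3 : (g.1 0 0 + g.1 1 1) * i.1 0 1 = 0 := by linear_combination h01
    have h5 : (2 : F) * ((g.1 0 0 + g.1 1 1) * i.1 0 0) = 0 := by
      linear_combination h00 - h11
    have h6 : (g.1 0 0 + g.1 1 1) * i.1 0 0 = 0 := (mul_eq_zero.1 h5).resolve_left h2
    have h7 : g.1 0 0 + g.1 1 1 = 0 := by
      have : g.1 0 0 + g.1 1 1 = -((g.1 0 0 + g.1 1 1) *
          (i.1 0 0 ^ 2 + i.1 0 1 * i.1 1 0)) := by rw [hd']; ring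
      rw [this]
      linear_combination -i.1 0 0 * h6 - i.1 1 0 * h3
    linear_combination h7
  set P := g.1 0 0 with hP
  set Q := g.1 0 1 with hQ
  set R := g.1 1 0 with hR
  set d := g.1.det with hdd
  have hdv : d = -(P ^ 2 + Q * R) := by
    rw [hdd, det_fin_two, htr, ← hP, ← hQ, ← hR]; ring
  have hd0 : d ≠ 0 := LFourA.FieldInv.gl_det_ne g
  let cm : Conic F (-d) → SL2 F := fun p =>
    mk (p.re + p.im * P) (p.im * Q) (p.im * R) (p.re - p.im * P) (by
      linear_combination p.eqn - p.im ^ 2 * hdv)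
  have cval : ∀ q : Conic F (-d), (cm q).1 = q.re • (1 : Matrix (Fin 2) (Fin 2) F) + q.im • g.1 := by
    intro q
    ext a b
    fin_cases a <;> fin_cases b
    · change q.re + q.im * P = _
      simp [hP]
    · change q.im * Q = _
      simp [hQ]
    · change q.im * R = _
      simp [hR]
    · change q.re - q.im * P = _
      simp [htr]
      ring
  have cmem : ∀ q, conjGL g (cm q) = cm q := by
    intro q
    rw [conj_eq_iff, cval]
    simp only [Matrix.mul_add, Matrix.add_mul, Matrix.mul_smul, Matrix.smul_mul, Matrix.mul_one,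
      Matrix.one_mul]
  have cinj : ∀ p q, cm p = cm q → p = q := by
    intro p q h
    have a00 := congrArg (fun x => ent x 0 0) h
    have a01 := congrArg (fun x => ent x 0 1) h
    have a10 := congrArg (fun x => ent x 1 0) h
    have a11 := congrArg (fun x => ent x 1 1) h
    change p.re + p.im * P = q.re + q.im * P at a00
    change p.im * Q = q.im * Q at a01
    change p.im * R = q.im * R at a10
    change p.re - p.im * P = q.re - q.im * P at a11
    have ha : p.re = q.re := mul_left_cancel₀ h2 (by linear_combination a00 + a11)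
    have hb : p.im = q.im := by
      have h3 : (p.im - q.im) * P = 0 := by rw [ha] at a00; linear_combination a00
      have h4 : (p.im - q.im) * Q = 0 := by linear_combination a01
      have h5 : (p.im - q.im) * d = 0 := by
        linear_combination -P * h3 - R * h4 + (p.im - q.im) * hdv
      rcases mul_eq_zero.1 h5 with h6 | h6
      · exact sub_eq_zero.1 h6
      · exact absurd h6 hd0
    exact Conic.ext ha hb
  have csurj : ∀ x, conjGL g x = x → ∃ q, cm q = x := by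
    intro x hx
    rw [conj_eq_iff] at hx
    have b00 := congrFun (congrFun hx 0) 0
    have b01 := congrFun (congrFun hx 0) 1
    have b10 := congrFun (congrFun hx 1) 0
    rw [Matrix.mul_apply, Fin.sum_univ_two, Matrix.mul_apply, Fin.sum_univ_two] at b00 b01 b10
    rw [htr] at b01 b10
    obtain ⟨a, b, e1, e2, e3, e4⟩ := exists_lin h2 (P := P) (Q := Q) (R := R) (c := -d) (by rw [hdv]; ring)
      (neg_ne_zero.2 hd0) (A := x.1 0 0) (B := x.1 0 1) (C := x.1 1 0) (D := x.1 1 1)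
      (by linear_combination -b00) (by linear_combination -b01) (by linear_combination -b10)
    have hdx : x.1 0 0 * x.1 1 1 - x.1 0 1 * x.1 1 0 = 1 := det_eq x
    refine ⟨⟨a, b, ?_⟩, ext_ent ?_ ?_ ?_ ?_⟩
    · rw [e1, e2, e3, e4] at hdx
      rw [hdv]
      linear_combination hdx
    · exact e1.symm
    · exact e2.symm
    · exact e3.symm
    · exact e4.symm
  constructor
  · intro x hx
    obtain ⟨p, rfl⟩ := csurj x hx
    have hinv : (cm p)⁻¹ = cm ⟨p.re, -p.im, by rw [neg_sq, p.eqn]⟩ := by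
      rw [ent_inv]
      refine ext_ent ?_ ?_ ?_ ?_
      · change p.re - p.im * P = p.re + -p.im * P; ring
      · change -(p.im * Q) = -p.im * Q; ring
      · change -(p.im * R) = -p.im * R; ring
      · change p.re + p.im * P = p.re - -p.im * P; ring
    rw [hinv, mul_inv_eq_iff_eq_mul]
    apply Subtype.ext
    change i.1 * (cm p).1 = (cm _).1 * i.1
    rw [cval, cval, Matrix.mul_add, Matrix.add_mul, Matrix.mul_smul, Matrix.smul_mul, Matrix.mul_one,
      Matrix.one_mul, Matrix.mul_smul, Matrix.smul_mul, hgi, neg_smul, smul_neg, neg_neg]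
  · have hcard : Nat.card (Fix (conjGL g)) = Nat.card (Conic F (-d)) := by
      symm
      refine Nat.card_congr (Equiv.ofBijective (fun p => (⟨cm p, cmem p⟩ : Fix (conjGL g))) ⟨?_, ?_⟩)
      · intro p q h
        exact cinj p q (congrArg Subtype.val h)
      · rintro ⟨x, hx⟩
        obtain ⟨p, hp⟩ := csurj x hx
        exact ⟨p, Subtype.ext hp⟩
    rw [hcard]
    exact card_conic h2 hdet

/-- the case of an outer diagonal automorphism, `|F| ≥ 5` -/
theorem case_outer (hF : Odd (Fintype.card F)) (h5 : 5 ≤ Fintype.card F) {B : Subgroup (MulAut (SL2 F))}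
    (h4 : Nat.card B = 4) (h2 : ∀ b ∈ B, b * b = 1) {b0 a : MulAut (SL2 F)} (hb0 : b0 ∈ B) (hb01 : b0 ≠ 1)
    {i : SL2 F} (hi : i * i = -1) (hbi : ∀ x, b0 x = i * x * i⁻¹) (ha : a ∈ B) (hat : typ a = 1) (hin : ¬ Inn a) :
    ¬ 2 ∣ (JJ B).index := by
  intro hdvd
  have h20 := two_ne_zero_of_odd hF
  have hcomm := comm_of_sq h2
  have hab : b0 * a ∈ B := B.mul_mem hb0 ha
  have ha1 : a ≠ 1 := by
    rintro rfl
    exact hin ⟨1, fun x => by simp⟩
  have hab1 : b0 * a ≠ 1 := by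
    intro h
    apply hin
    rw [eq_inv_of_mul_eq_one_right h, ← eq_inv_of_mul_eq_one_left (h2 b0 hb0)]
    exact ⟨i, hbi⟩
  have hbt : typ (b0 * a) = 1 := by rw [map_mul, typ_inner ⟨i, hbi⟩, hat, one_mul]
  have hbn : ¬ Inn (b0 * a) := by
    rintro ⟨s, hs⟩
    apply hin
    refine ⟨i⁻¹ * s, fun x => ?_⟩
    have h3 := hs x
    rw [MulAut.mul_apply, hbi] at h3
    have h6 : a x = i⁻¹ * (i * a x * i⁻¹) * i := by group
    rw [h6, h3]; group
  obtain ⟨d1, d2, d3⟩ := outer_data hF hi hat hin (outer_neg hF hi hbi (h2 a ha) hat hin (hcomm a ha b0 hb0))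
  obtain ⟨e1, e2, e3⟩ := outer_data hF hi hbt hbn
    (outer_neg hF hi hbi (h2 _ hab) hbt hbn (hcomm _ hab b0 hb0))
  have hcard : Nat.card (Fix (b0 * a)) = Nat.card (Fix a) := by
    rcases d3 with ⟨h, h'⟩ | ⟨h, h'⟩ <;> rcases e3 with ⟨k, k'⟩ | ⟨k, k'⟩
    · rw [h', k']
    · omega
    · omega
    · rw [h', k']
  -- the prime `r`
  obtain ⟨m, c, hm, hm1, hmo, hSL, hmc⟩ : ∃ m c : ℕ, Nat.card (Fix a) = 2 * m ∧ m ≠ 1 ∧ Odd m ∧
      Nat.card (SL2 F) = c * Nat.card (Fix a) ∧ ∀ r, r.Prime → r ∣ m → r ∣ c → r = 2 := by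
    rw [← Nat.card_eq_fintype_card] at h5
    rw [ClassicalGeometry.PSL2Basic.card_SL2, ← Nat.card_eq_fintype_card]
    generalize Nat.card F = q at d3 h5 ⊢
    have hq2 : q ^ 2 - 1 = (q - 1) * (q + 1) := by
      obtain ⟨k, rfl⟩ : ∃ k, q = k + 1 := ⟨q - 1, by omega⟩
      rw [Nat.add_sub_cancel, Nat.sub_eq_iff_eq_add (Nat.one_le_pow _ _ (by omega))]; ring
    rcases d3 with ⟨h, h'⟩ | ⟨h, h'⟩
    · refine ⟨(q + 1) / 2, q * (q - 1), by omega, by omega, ?_, ?_, ?_⟩
      · rw [Nat.odd_iff]; omega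
      · rw [h', hq2]; ring
      · intro r hr hrm hrc
        have h3 : r ∣ q + 1 := hrm.trans ⟨2, by omega⟩
        rcases (Nat.Prime.dvd_mul hr).1 hrc with h6 | h6
        · exact absurd ((Nat.dvd_add_right h6).1 h3) (fun h => hr.one_lt.ne' (Nat.dvd_one.1 h))
        · have h7 : r ∣ (q + 1) - (q - 1) := Nat.dvd_sub h3 h6
          rw [show (q + 1) - (q - 1) = 2 by omega] at h7
          exact (Nat.prime_dvd_prime_iff_eq hr Nat.prime_two).1 h7
    · refine ⟨(q - 1) / 2, q * (q + 1), by omega, by omega, ?_, ?_, ?_⟩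
      · rw [Nat.odd_iff]; omega
      · rw [h', hq2]; ring
      · intro r hr hrm hrc
        have h3 : r ∣ q - 1 := hrm.trans ⟨2, by omega⟩
        rcases (Nat.Prime.dvd_mul hr).1 hrc with h6 | h6
        · have h7 : r ∣ q - (q - 1) := Nat.dvd_sub h6 h3
          rw [show q - (q - 1) = 1 by omega] at h7
          exact absurd (Nat.dvd_one.1 h7) hr.one_lt.ne'
        · have h7 : r ∣ (q + 1) - (q - 1) := Nat.dvd_sub h6 h3
          rw [show (q + 1) - (q - 1) = 2 by omega] at h7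
          exact (Nat.prime_dvd_prime_iff_eq hr Nat.prime_two).1 h7
  obtain ⟨r, hr, hrm⟩ := Nat.exists_prime_and_dvd hm1
  have : Fact r.Prime := ⟨hr⟩
  have hr2 : r ≠ 2 := by
    rintro rfl
    exact (Nat.not_even_iff_odd.2 hmo) (even_iff_two_dvd.2 hrm)
  have hro : Odd r := hr.odd_of_ne_two hr2
  have hrc : ¬ r ∣ c := fun h => hr2 (hmc r hr hrm h)
  have hc0 : c ≠ 0 := fun h => hrc (by rw [h]; exact dvd_zero r)
  have hfac : (Nat.card (SL2 F)).factorization r = (Nat.card (Fix a)).factorization r := by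
    rw [hSL, Nat.factorization_mul hc0 Nat.card_pos.ne', Finsupp.add_apply,
      Nat.factorization_eq_zero_of_not_dvd hrc, zero_add]
  have hfac1 : (Nat.card (Fix a)).factorization r ≠ 0 := by
    intro h
    have h3 : r ^ 1 ∣ Nat.card (Fix a) := by rw [pow_one, hm]; exact hrm.mul_left 2
    have h6 := (hr.pow_dvd_iff_le_factorization Nat.card_pos.ne').1 h3
    omega
  -- the Sylow subgroups
  have hsyl : ∀ u : MulAut (SL2 F), Nat.card (Fix u) = Nat.card (Fix a) →
      ∃ R : Subgroup (SL2 F), Nat.card R = r ^ (Nat.card (SL2 F)).factorization r ∧ ∀ x ∈ R, u x = x := by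
    intro u hu
    let P : Sylow r (Fix u) := default
    refine ⟨(P : Subgroup (Fix u)).map (Fix u).subtype, ?_, ?_⟩
    · rw [Nat.card_congr ((P : Subgroup (Fix u)).equivMapOfInjective _ (Fix u).subtype_injective).symm.toEquiv,
        hfac, ← hu]
      exact P.card_eq_multiplicity
    · rintro _ ⟨y, -, rfl⟩
      exact y.2
  obtain ⟨R1, hR1, hR1a⟩ := hsyl a rfl
  obtain ⟨R2, hR2, hR2a⟩ := hsyl (b0 * a) hcard
  -- the complement
  have hC : ∀ x, x * i = i * x → x ∈ JJ B := fun x hx => mem_JJ hb0 hb01 ((fix_iff hbi x).2 hx)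
  have hCJ : centralizer ({i} : Set (SL2 F)) ≤ JJ B := fun x hx => hC x (mem_centralizer_singleton_iff.1 hx)
  have hrel : ¬ 2 ∣ (centralizer ({i} : Set (SL2 F))).relIndex (JJ B) := fun h => index_centralizer hF hi (by
    rw [← relIndex_mul_index hCJ]
    exact mul_dvd_mul (show 2 ∣ _ from h) hdvd)
  let S : Sylow 2 (JJ B) := default
  obtain ⟨k, hk⟩ := exists_conj_mem hrel (S : Subgroup (JJ B)) S.isPGroup'
  have hcycC := isCyclic_centralizer h20 (ent_of_sq hi)
  have hcyc : IsCyclic (S : Subgroup (JJ B)) := by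
    let f : (S : Subgroup (JJ B)) →* centralizer ({i} : Set (SL2 F)) :=
      { toFun := fun s => ⟨_, hk s.1 s.2⟩
        map_one' := Subtype.ext (by
          change ((k⁻¹ * 1 * k : JJ B) : SL2 F) = 1
          rw [mul_one, inv_mul_cancel]; rfl)
        map_mul' := fun s t => Subtype.ext (by
          change ((k⁻¹ * (s.1 * t.1) * k : JJ B) : SL2 F) = ((k⁻¹ * s.1 * k * (k⁻¹ * t.1 * k) : JJ B) : SL2 F)
          congr 1
          group) }
    apply isCyclic_of_injective f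
    intro s t hst
    have h3 : ((k⁻¹ * s.1 * k : JJ B) : SL2 F) = ((k⁻¹ * t.1 * k : JJ B) : SL2 F) :=
      congrArg (fun w : centralizer ({i} : Set (SL2 F)) => (w : SL2 F)) hst
    have h6 : (k⁻¹ * s.1 * k : JJ B) = (k⁻¹ * t.1 * k : JJ B) := Subtype.ext h3
    exact Subtype.ext (mul_left_cancel (mul_right_cancel h6))
  obtain ⟨K, hKodd, -, hK⟩ := CharactersDeep.QuatSylow.exists_two_complement S hcyc
  set N : Subgroup (SL2 F) := K.map (JJ B).subtype with hN
  have hNo : Odd (Nat.card N) := by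
    rw [hN, Nat.card_congr (K.equivMapOfInjective _ (JJ B).subtype_injective).symm.toEquiv]
    exact hKodd
  have hNmem : ∀ x, x ∈ N ↔ x ∈ JJ B ∧ Odd (orderOf x) := by
    intro x
    constructor
    · rintro ⟨y, hy, rfl⟩
      refine ⟨y.2, ?_⟩
      have := (hK y).1 hy
      rwa [← Subgroup.orderOf_coe] at this
    · rintro ⟨hx, ho⟩
      refine ⟨⟨x, hx⟩, (hK _).2 ?_, rfl⟩
      rwa [← Subgroup.orderOf_coe]
  have hNB : ∀ b ∈ B, ∀ x ∈ N, b x ∈ N := by
    intro b hb x hx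
    rw [hNmem] at hx ⊢
    exact ⟨map_mem_JJ hcomm hb hx.1, by rw [MulEquiv.orderOf_eq]; exact hx.2⟩
  have hRN : ∀ u ∈ B, u ≠ 1 → ∀ R : Subgroup (SL2 F), Nat.card R = r ^ (Nat.card (SL2 F)).factorization r →
      (∀ x ∈ R, u x = x) → R ≤ N := by
    intro u hu hu1 R hR hfix x hx
    rw [hNmem]
    refine ⟨mem_JJ hu hu1 (hfix x hx), ?_⟩
    have h3 : orderOf x ∣ r ^ (Nat.card (SL2 F)).factorization r := by
      rw [← hR, ← Subgroup.orderOf_mk x hx]
      exact orderOf_dvd_natCard _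
    exact (hro.pow).of_dvd_nat h3
  have hN1 := hRN a ha ha1 R1 hR1 hR1a
  have hN2 := hRN _ hab hab1 R2 hR2 hR2a
  -- the elements of `R1`, `R2` are inverted by `b0`
  have hinv1 : ∀ x ∈ R1, b0 x = x⁻¹ := fun x hx => by rw [hbi]; exact d2 x (hR1a x hx)
  have hinv2 : ∀ x ∈ R2, b0 x = x⁻¹ := fun x hx => by rw [hbi]; exact e2 x (hR2a x hx)
  have hBm : ∀ b ∈ B, b = 1 ∨ b = b0 ∨ b = a ∨ b = b0 * a := fun b hb => by
    have hne : b0 ≠ a := by
      rintro rfl
      exact hin ⟨i, hbi⟩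
    exact mem_four h4 h2 hb0 ha hb01 ha1 hne hb
  have hB1 : ∀ b ∈ B, ∀ x ∈ R1, b x ∈ R1 := by
    intro b hb x hx
    rcases hBm b hb with rfl | rfl | rfl | rfl
    · exact hx
    · rw [hinv1 x hx]; exact R1.inv_mem hx
    · rw [hR1a x hx]; exact hx
    · rw [MulAut.mul_apply, hR1a x hx, hinv1 x hx]; exact R1.inv_mem hx
  have hB2 : ∀ b ∈ B, ∀ x ∈ R2, b x ∈ R2 := by
    intro b hb x hx
    have hax : a x = x⁻¹ := by
      have h3 := hR2a x hx
      have h6 : a x = b0 ((b0 * a) x) := by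
        rw [← MulAut.mul_apply, ← mul_assoc, h2 b0 hb0, one_mul]
      rw [h6, h3, hinv2 x hx]
    rcases hBm b hb with rfl | rfl | rfl | rfl
    · exact hx
    · rw [hinv2 x hx]; exact R2.inv_mem hx
    · rw [hax]; exact R2.inv_mem hx
    · rw [hR2a x hx]; exact hx
  obtain ⟨n, hn, hnR⟩ := exists_conj_of_card r N R1 R2 hR1 hR2 hN1 hN2
  have hBp : IsPGroup 2 B := IsPGroup.of_card (n := 2) (by rw [h4]; norm_num)
  obtain ⟨l, hl, hlB, hlR⟩ := exists_fixed_conj B hBp N R1 R2 hNo hNB hB1 hB2 hn hnR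
  -- `C_N(B) = 1`
  have hodd1 : ∀ x ∈ N, x = x⁻¹ → x = 1 := by
    intro x hx h
    have h3 : x * x = 1 := by nth_rewrite 1 [h]; exact inv_mul_cancel x
    have h6 := ((hNmem x).1 hx).2
    have h7 : orderOf x ∣ 2 := orderOf_dvd_of_pow_eq_one (by rw [pow_two, h3])
    rcases (Nat.dvd_prime Nat.prime_two).1 h7 with h8 | h8
    · exact orderOf_eq_one_iff.1 h8
    · rw [h8] at h6; exact absurd h6 (by decide)
  have hl1 : l = 1 := by
    apply hodd1 l hl
    have h3 := d1 l ((fix_iff hbi l).1 (hlB b0 hb0))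
    rw [hlB a ha] at h3
    exact h3
  subst hl1
  -- a nontrivial element of `R1`
  obtain ⟨x, hx, hx1⟩ : ∃ x ∈ R1, x ≠ 1 := by
    by_contra hcon
    push Not at hcon
    have h3 : R1 = ⊥ := (Subgroup.eq_bot_iff_forall R1).2 hcon
    rw [h3, Subgroup.card_bot] at hR1
    have h6 := Nat.one_lt_pow (n := (Nat.card (SL2 F)).factorization r) (by rw [hfac]; exact hfac1) hr.one_lt
    omega
  have hx2 : x ∈ R2 := by
    have := (hlR x).1 hx
    simpa using this
  apply hx1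
  apply hodd1 x (hN1 hx)
  have h3 := hR2a x hx2
  rw [MulAut.mul_apply, hR1a x hx, hinv1 x hx] at h3
  exact h3.symm

/-- **LEMMA J for `SL(2,F)`** -/
theorem odd_index_sl (hF : Odd (Fintype.card F)) (h5 : 5 ≤ Fintype.card F) (B : Subgroup (MulAut (SL2 F)))
    (h4 : Nat.card B = 4) (h2 : ∀ b ∈ B, b * b = 1) : ¬ 2 ∣ (JJ B).index := by
  by_cases ht : ∃ f ∈ B, typ f ≠ 1
  · obtain ⟨f, hf, hft⟩ := ht
    exact case_field hF h4 h2 hf hft
  push Not at ht
  obtain ⟨a, ha, b, hb, ha1, hb1, hab⟩ := exists_two h4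
  have hab1 : a * b ≠ 1 := fun h => hab (by
    rw [eq_inv_of_mul_eq_one_left h, ← eq_inv_of_mul_eq_one_left (h2 b hb)])
  by_cases hai : Inn a
  · by_cases hbi : Inn b
    · exact case_inner hF h2 ha hb ha1 hb1 hab hai hbi
    · obtain ⟨i, hi⟩ := hai
      exact case_outer hF h5 h4 h2 ha ha1 (sq_of_conj hF hi ha1 (h2 a ha)) hi hb (ht b hb) hbi
  · by_cases hbi : Inn b
    · obtain ⟨i, hi⟩ := hbi
      exact case_outer hF h5 h4 h2 hb hb1 (sq_of_conj hF hi hb1 (h2 b hb)) hi ha (ht a ha) hai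
    · obtain ⟨i, hi⟩ := inner_mul hF (ht a ha) (ht b hb) hai hbi
      exact case_outer hF h5 h4 h2 (B.mul_mem ha hb) hab1 (sq_of_conj hF hi hab1 (h2 _ (B.mul_mem ha hb))) hi ha
        (ht a ha) hai

end Cfsg.Agent.Cit.LemmaJ
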