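import Cfsg.Agent.Classification.QDW.TypeHom
import Cfsg.Agent.SylowSp4.SLFacts
import Cfsg.Agent.TwoFusion.QuatCoverSL
import Cfsg.Agent.Classification.TypeB.SigAut
import Cfsg.Agent.LFourA.FieldInv
import Cfsg.Agent.ClassicalGeometry.PSL2Basic
import Cfsg.Agent.S0261
import Cfsg.Agent.Cit.Quat

/-!
# 2-automorphisms of `SL(2,F)`, `F` a finite field of odd order

* `exists_coord`: coordinates of a Sylow 2-subgroup;
* `typ_eq_one`: the field type of a 2-automorphism fixing (the trace of) an element of maximal 2-power order is trivial;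
* `aut_eq_one`: a 2-automorphism trivial on a Sylow 2-subgroup is trivial;
* `conj_four`: the elements of order 4 are conjugate;
* `inner_mul`: the product of two outer automorphisms of trivial field type is inner;
* `no_four`: an outer involutory automorphism of trivial field type fixes no element of order four;
* `exists_fix`: the fixed points of an involutory automorphism of nontrivial field type are `SL(2,F₀)`, `|F₀|² = |F|`.
-/

set_option autoImplicit false

namespace Cfsg.Agent.Cit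

namespace GQ

variable {G : Type*} [Group G] {Q : Subgroup G} {c v z : G} {n : ℕ}

theorem card_le (h : GQ Q c v z n) : Nat.card Q ≤ 2 ^ (n + 3) := by
  have hlt : ∀ i : ℕ, i % 2 ^ (n + 2) < 2 ^ (n + 2) := fun i => Nat.mod_lt _ (by positivity)
  have hmod : ∀ i : ℕ, c ^ (i % 2 ^ (n + 2)) = c ^ i := fun i => by rw [← h.ord, pow_mod_orderOf]
  let f : Bool × Fin (2 ^ (n + 2)) → Q := fun p =>
    if p.1 then ⟨c ^ (p.2 : ℕ), Q.pow_mem h.c_mem _⟩ else ⟨v * c ^ (p.2 : ℕ), Q.mul_mem h.v_mem (Q.pow_mem h.c_mem _)⟩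
  have hf : Function.Surjective f := by
    rintro ⟨x, hx⟩
    rcases h.cov x hx with ⟨i, rfl⟩ | ⟨i, rfl⟩
    · exact ⟨(true, ⟨i % 2 ^ (n + 2), hlt i⟩), Subtype.ext (hmod i)⟩
    · refine ⟨(false, ⟨i % 2 ^ (n + 2), hlt i⟩), Subtype.ext ?_⟩
      change v * c ^ (i % 2 ^ (n + 2)) = v * c ^ i
      rw [hmod]
  have h1 := Nat.card_le_card_of_surjective f hf
  rw [Nat.card_prod, Nat.card_eq_fintype_card (α := Bool), Fintype.card_bool, Nat.card_eq_fintype_card (α := Fin _),
    Fintype.card_fin] at h1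
  calc Nat.card Q ≤ 2 * 2 ^ (n + 2) := h1
    _ = 2 ^ (n + 3) := by ring

/-- the element of order four in the cyclic group -/
theorem four (h : GQ Q c v z n) : (c ^ 2 ^ n) * (c ^ 2 ^ n) = z := by
  rw [← pow_add, ← two_mul, ← pow_succ', h.z_eq]

end GQ

namespace QModSL

open Matrix Subgroup
open Cfsg.Agent.Lib.SL2Mat Cfsg.Agent.Lib.AutSL2 Cfsg.Agent.Lib.AutSL2Out Cfsg.Agent.Classification.QDW.TypeHom
open Cfsg.Agent.TwoFusion.QuatCoverSL (two_ne_zero_of_odd neg_one_ne_one eq_neg_one_of_orderOf_two)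

variable {F : Type*} [Field F] [Fintype F]

local notation "SL2" => Matrix.SpecialLinearGroup (Fin 2)

/-- coordinates of a Sylow 2-subgroup -/
theorem exists_coord (hF : Odd (Fintype.card F)) (P : Sylow 2 (SL2 F)) :
    ∃ c v n, GQ (P : Subgroup (SL2 F)) c v (-1) n ∧ ¬ 2 ^ (n + 2 + 2) ∣ Nat.card F ^ 2 - 1 := by
  obtain ⟨k, hk, ⟨e⟩⟩ := Cfsg.Agent.S0261.result hF P
  obtain ⟨k', rfl⟩ : ∃ k', k = k' + 1 := ⟨k - 1, by omega⟩
  obtain ⟨c, v, z, n, h⟩ := Cit.exists_gq (G := SL2 F) ⟨k', ⟨e⟩⟩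
  have hz : z = -1 := eq_neg_one_of_orderOf_two hF z h.orderOf_z
  subst hz
  refine ⟨c, v, n, h, fun hd => ?_⟩
  have h1 : 2 ^ (n + 2 + 2) ∣ Nat.card (SL2 F) := by
    rw [ClassicalGeometry.PSL2Basic.card_SL2, ← Nat.card_eq_fintype_card]
    exact hd.mul_left _
  have : Fact (Nat.Prime 2) := ⟨Nat.prime_two⟩
  have h2 := P.pow_dvd_card_of_pow_dvd_card h1
  have h3 := Nat.le_of_dvd Nat.card_pos h2
  have h4 := h.card_le
  have h5 : 2 ^ (n + 3) < 2 ^ (n + 2 + 2) := Nat.pow_lt_pow_right (by norm_num) (by omega)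
  omega

/-- an automorphism of 2-power order fixing the trace of an element of maximal 2-power order has trivial type -/
theorem typ_eq_one (hF : Odd (Fintype.card F)) {α : MulAut (SL2 F)} {k : ℕ} (hα : α ^ 2 ^ k = 1)
    {c : SL2 F} {n : ℕ} (hc : orderOf c = 2 ^ n) (hq : ¬ 2 ^ (n + 2) ∣ Nat.card F ^ 2 - 1)
    (hfix : typ α (tr c) = tr c) : typ α = 1 := by
  by_contra hne
  have h1 : (typ α) ^ 2 ^ k = 1 := by rw [← map_pow, hα, map_one]
  obtain ⟨m, -, hm⟩ := (Nat.dvd_prime_pow Nat.prime_two).1 (orderOf_dvd_of_pow_eq_one h1)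
  have hm0 : m ≠ 0 := by
    rintro rfl
    rw [pow_zero, orderOf_eq_one_iff] at hm
    exact hne hm
  obtain ⟨m', rfl⟩ := Nat.exists_eq_succ_of_ne_zero hm0
  have h3 : (typ α ^ 2 ^ m') * (typ α ^ 2 ^ m') = 1 := by
    rw [← pow_add, ← two_mul, ← pow_succ', ← hm, pow_orderOf_eq_one]
  have h4 : (typ α ^ 2 ^ m') (tr c) = tr c := by
    generalize 2 ^ m' = j
    induction j with
    | zero => rfl
    | succ j ih =>
      rw [pow_succ]
      change (typ α ^ j) ((typ α) (tr c)) = tr c
      rw [hfix, ih]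
  have h5 := Cfsg.Agent.Classification.QDW.TypeHom.ringEquiv_eq_one (two_ne_zero_of_odd hF) hc hq h3 h4
  have h6 : orderOf (typ α) ∣ 2 ^ m' := orderOf_dvd_of_pow_eq_one h5
  rw [hm] at h6
  have h7 := Nat.le_of_dvd (by positivity) h6
  have h8 : 2 ^ m' < 2 ^ (m' + 1) := Nat.pow_lt_pow_right (by norm_num) (by omega)
  omega

theorem typ_eq_one_of_fix (hF : Odd (Fintype.card F)) {α : MulAut (SL2 F)} {k : ℕ} (hα : α ^ 2 ^ k = 1)
    {c : SL2 F} {n : ℕ} (hc : orderOf c = 2 ^ n) (hq : ¬ 2 ^ (n + 2) ∣ Nat.card F ^ 2 - 1)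
    (hfix : α c = c ∨ α c = c⁻¹) : typ α = 1 := by
  refine typ_eq_one hF hα hc hq ?_
  rw [← tr_apply]
  rcases hfix with h | h
  · rw [h]
  · rw [h, tr_inv]

omit [Fintype F] in
/-- an element of `GL` commuting with two elements generating a quaternion group is scalar: the automorphism is trivial -/
theorem conjGL_eq_one (h2 : (2 : F) ≠ 0) {X y : SL2 F} (hX : X * X = -1) (hyX : y * X * y⁻¹ = X⁻¹) {g : GL (Fin 2) F}
    (h1 : conjGL g X = X) (h3 : conjGL g y = y) : conjGL g = 1 := by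
  have hcomm : ∀ x : SL2 F, conjGL g x = x → x.1 * g.1 = g.1 * x.1 := by
    intro x hx
    have h4 := congrArg Subtype.val hx
    rw [conjGL_val] at h4
    calc x.1 * g.1 = (g.1 * x.1 * g⁻¹.1) * g.1 := by rw [h4]
      _ = g.1 * x.1 := by rw [Matrix.mul_assoc, inv_val_mul_val, Matrix.mul_one]
  obtain ⟨a, ha⟩ := SylowSp4.SLFacts.scalar_of_comm hX hyX h2 (hcomm X h1) (hcomm y h3)
  exact MulEquiv.ext fun x => LFourA.FieldInv.conjGL_scalar ha x

/-- **(a)** an automorphism of 2-power order which is trivial on a Sylow 2-subgroup is trivial -/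
theorem aut_eq_one (hF : Odd (Fintype.card F)) (P : Sylow 2 (SL2 F)) {α : MulAut (SL2 F)} {k : ℕ}
    (hα : α ^ 2 ^ k = 1) (hP : ∀ x ∈ P, α x = x) : α = 1 := by
  obtain ⟨c, v, n, h, hq⟩ := exists_coord hF P
  have h1 : typ α = 1 := typ_eq_one_of_fix hF hα h.ord hq (Or.inl (hP c h.c_mem))
  obtain ⟨g, rfl⟩ := (typ_eq_one_iff α).1 h1
  refine conjGL_eq_one (two_ne_zero_of_odd hF) h.four ?_ (hP _ ((P : Subgroup (SL2 F)).pow_mem h.c_mem _))
    (hP v h.v_mem)
  rw [h.conj_pow]; group

/-- elements of order four have square `-1` -/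
theorem sq_of_orderOf_four (hF : Odd (Fintype.card F)) {x : SL2 F} (hx : orderOf x = 4) : x * x = -1 := by
  apply eq_neg_one_of_orderOf_two hF
  rw [← pow_two, orderOf_pow, hx]; norm_num

/-- **(b)** the elements of order four are conjugate -/
theorem conj_four (hF : Odd (Fintype.card F)) {x y : SL2 F} (hx : orderOf x = 4) (hy : orderOf y = 4) :
    ∃ g : SL2 F, g * x * g⁻¹ = y := by
  obtain ⟨g, hg⟩ := ClassicalGeometry.SLTwoFour.exists_conj_w hF x (sq_of_orderOf_four hF hx)
  obtain ⟨h, hh⟩ := ClassicalGeometry.SLTwoFour.exists_conj_w hF y (sq_of_orderOf_four hF hy)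
  exact ⟨h * g⁻¹, by rw [← hg, ← hh]; group⟩

/-- inner automorphism -/
def Inn {L : Type*} [Group L] (α : MulAut L) : Prop := ∃ s : L, ∀ x, α x = s * x * s⁻¹

theorem typ_inner {α : MulAut (SL2 F)} (h : Inn α) : typ α = 1 := by
  obtain ⟨s, hs⟩ := h
  refine (typ_eq_one_iff α).2 ⟨(s : GL (Fin 2) F), MulEquiv.ext fun x => ?_⟩
  rw [hs, conjGL_toGL]

/-- **(c)** the product of two outer automorphisms of trivial type is inner -/
theorem inner_mul (hF : Odd (Fintype.card F)) {α β : MulAut (SL2 F)} (hα : typ α = 1) (hβ : typ β = 1)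
    (ha : ¬ Inn α) (hb : ¬ Inn β) : Inn (α * β) := by
  obtain ⟨g, rfl⟩ := (typ_eq_one_iff α).1 hα
  obtain ⟨h, rfl⟩ := (typ_eq_one_iff β).1 hβ
  have h2 : ringChar F ≠ 2 := by
    intro h2
    have := FiniteField.even_card_of_char_two (F := F) h2
    exact (Nat.not_even_iff_odd.2 hF) (Nat.even_iff.2 this)
  have key : ∀ k : GL (Fin 2) F, ¬ Inn (conjGL k) → ¬ IsSquare k.1.det := by
    rintro k hk ⟨d, hd⟩
    apply hk
    have hd0 : d ≠ 0 := by
      rintro rfl
      exact LFourA.FieldInv.gl_det_ne k (by rw [hd, mul_zero])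
    exact conjGL_of_det_sq k d hd0 (by rw [hd, pow_two])
  have h3 : IsSquare (g * h).1.det := by
    rw [Units.val_mul, Matrix.det_mul]
    have hg0 := LFourA.FieldInv.gl_det_ne g
    have hh0 := LFourA.FieldInv.gl_det_ne h
    rw [FiniteField.isSquare_iff h2 (mul_ne_zero hg0 hh0), mul_pow]
    have e1 : g.1.det ^ (Fintype.card F / 2) = -1 :=
      (FiniteField.pow_dichotomy h2 hg0).resolve_left (fun h => key g ha ((FiniteField.isSquare_iff h2 hg0).2 h))
    have e2 : h.1.det ^ (Fintype.card F / 2) = -1 :=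
      (FiniteField.pow_dichotomy h2 hh0).resolve_left (fun h' => key h hb ((FiniteField.isSquare_iff h2 hh0).2 h'))
    rw [e1, e2]; norm_num
  obtain ⟨d, hd⟩ := h3
  have hd0 : d ≠ 0 := by
    rintro rfl
    exact LFourA.FieldInv.gl_det_ne (g * h) (by rw [hd, mul_zero])
  rw [← map_mul]
  exact conjGL_of_det_sq _ d hd0 (by rw [hd, pow_two])

/-- **(d0)** an outer involutory automorphism of trivial type fixes no element of order four -/
theorem no_four (hF : Odd (Fintype.card F)) {α : MulAut (SL2 F)} (hα : α * α = 1) (ht : typ α = 1)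
    (hin : ¬ Inn α) {y : SL2 F} (hy : y * y = -1) : α y ≠ y := by
  intro hfix
  obtain ⟨g, rfl⟩ := (typ_eq_one_iff α).1 ht
  have h2 := two_ne_zero_of_odd hF
  have hyy : y.1 * y.1 = -1 := congrArg Subtype.val hy
  -- `g = a + b y`
  have h1 : y.1 * g.1 = g.1 * y.1 := (LFourA.FieldInv.comm_of_conj hfix).symm
  obtain ⟨a, b, hab⟩ := SylowSp4.SLFacts.exists_ab_mat h2 hy h1
  -- `g * g` is scalar
  have h3 : conjGL (g * g) = 1 := by rw [map_mul, hα]
  have h4 : ∀ x : SL2 F, conjGL (g * g) x = x := fun x => by rw [h3]; rfl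
  obtain ⟨d, hd0, hd⟩ := LFourA.FieldInv.exists_scalar (h4 _) (h4 _)
  have h5 : g.1 * g.1 = (a ^ 2 - b ^ 2) • (1 : Matrix (Fin 2) (Fin 2) F) + (2 * a * b) • y.1 := by
    rw [hab, add_mul, mul_add, mul_add]
    simp only [Matrix.smul_mul, Matrix.mul_smul, Matrix.mul_one, Matrix.one_mul, hyy, smul_neg, smul_smul]
    rw [sub_smul, show (2 * a * b) • y.1 = (a * b) • y.1 + (a * b) • y.1 by rw [← add_smul]; ring_nf,
      show b * b = b ^ 2 by ring, show a * a = a ^ 2 by ring, show b * a = a * b by ring]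
    abel
  have h6 : d • (1 : Matrix (Fin 2) (Fin 2) F) = (a ^ 2 - b ^ 2) • (1 : Matrix (Fin 2) (Fin 2) F) + (2 * a * b) • y.1 := by
    rw [← h5, ← Units.val_mul, hd]
  have hab0 : 2 * a * b = 0 := by
    by_contra hne
    -- `y` would be scalar
    have h7 : y.1 = ((2 * a * b)⁻¹ * (d - (a ^ 2 - b ^ 2))) • (1 : Matrix (Fin 2) (Fin 2) F) := by
      rw [mul_smul, sub_smul, h6, add_sub_cancel_left, smul_smul, inv_mul_cancel₀ hne, one_smul]
    have h8 : tr y = 0 := ClassicalGeometry.SLTwoFour.trace_of_mul_self y hy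
    rw [tr, h7] at h8
    simp only [Matrix.smul_apply, Matrix.one_apply_eq, smul_eq_mul, mul_one] at h8
    rw [← two_mul] at h8
    have h9 := (mul_eq_zero.1 h8).resolve_left h2
    rw [h9, zero_smul] at h7
    rw [h7, Matrix.zero_mul] at hyy
    have := congrFun (congrFun hyy 0) 0
    simp at this
  rcases mul_eq_zero.1 hab0 with h7 | rfl
  · have ha : a = 0 := (mul_eq_zero.1 h7).resolve_left h2
    rw [ha, zero_smul, zero_add] at hab
    -- `g = b y`, determinant `b²`
    apply hin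
    have hdet : g.1.det = b ^ 2 := by
      rw [hab, Matrix.det_smul, Fintype.card_fin, y.2, mul_one]
    have hb0 : b ≠ 0 := by
      rintro rfl
      exact LFourA.FieldInv.gl_det_ne g (by rw [hdet]; ring)
    exact conjGL_of_det_sq g b hb0 hdet
  · apply hin
    rw [zero_smul, add_zero] at hab
    exact ⟨1, fun x => by rw [LFourA.FieldInv.conjGL_scalar hab x]; simp⟩

/-- an involutory automorphism normalising the Sylow 2-subgroup `P` and fixing only `±1` in `P` inverts the cyclic
maximal subgroup or `P` is quaternion of order eight -/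
theorem inverts (hF : Odd (Fintype.card F)) {P : Subgroup (SL2 F)} {c v : SL2 F} {n : ℕ}
    (h : GQ P c v (-1) n) (hn : n ≠ 0) {α : MulAut (SL2 F)} (hα : α * α = 1) (hP : ∀ x ∈ P, α x ∈ P)
    (hfix : ∀ x ∈ P, α x = x → x = 1 ∨ x = -1) : α c = c⁻¹ := by
  have hαα : ∀ x, α (α x) = x := fun x => by
    have := DFunLike.congr_fun hα x
    rwa [MulAut.mul_apply, MulAut.one_apply] at this
  have hneg : ∀ x y : SL2 F, -x * y = -(x * y) := fun x y => neg_mul x y
  -- `α c ∈ ⟨c⟩`
  obtain ⟨k, hk⟩ : ∃ k : ℕ, α c = c ^ k := by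
    rcases h.cov _ (hP c h.c_mem) with h1 | ⟨i, hi⟩
    · exact h1
    · exfalso
      have h1 : orderOf (α c) = 4 := by rw [hi]; exact h.orderOf_out i
      rw [MulEquiv.orderOf_eq, h.ord] at h1
      have h2 : 2 ^ 3 ≤ 2 ^ (n + 2) := Nat.pow_le_pow_right (by norm_num) (by omega)
      omega
  have hcc : α c * c = c * α c := by rw [hk, ← pow_succ, ← pow_succ']
  have hu : α (α c * c) = α c * c := by rw [map_mul, hαα, hcc]
  have hne1 : (-1 : SL2 F) ≠ 1 := neg_one_ne_one hF
  rcases hfix _ (P.mul_mem (hP c h.c_mem) h.c_mem) hu with h1 | h1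
  · exact eq_inv_of_mul_eq_one_left h1
  exfalso
  have hc : α c = -c⁻¹ := by
    have : α c = -1 * c⁻¹ := by rw [← h1]; group
    rw [this, hneg, one_mul]
  have hcp : ∀ m : ℕ, α (c ^ m) = (-1) ^ m * (c ^ m)⁻¹ := by
    intro m
    rw [map_pow, hc]
    have e : (-c⁻¹ : SL2 F) = -1 * c⁻¹ := by rw [hneg, one_mul]
    rw [e, Commute.mul_pow (by rw [commute_iff_eq, hneg, one_mul, mul_neg, mul_one]), inv_pow]
  -- `α v = v c^j`
  obtain ⟨j, hj⟩ : ∃ j : ℕ, α v = v * c ^ j := by
    rcases h.cov _ (hP v h.v_mem) with ⟨i, hi⟩ | h2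
    · exfalso
      apply h.not_comm
      have h3 : v = (-1) ^ i * (c ^ i)⁻¹ := by rw [← hcp, ← hi, hαα]
      have h4 : Commute ((-1 : SL2 F) ^ i) c := Commute.pow_left (by rw [commute_iff_eq, hneg, one_mul, mul_neg, mul_one]) i
      have h5 : Commute ((c ^ i)⁻¹) c := (Commute.pow_left (Commute.refl c) i).inv_left
      rw [h3]
      exact (h4.mul_left h5).eq
    · exact h2
  have hm1 : ∀ m : ℕ, ((-1 : SL2 F)) ^ m = 1 ∨ ((-1 : SL2 F)) ^ m = -1 := fun m => by
    rcases Nat.even_or_odd m with he | ho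
    · left; exact he.neg_one_pow
    · right; exact ho.neg_one_pow
  -- `j` is even
  have hje : Even j := by
    by_contra hodd
    rw [Nat.not_even_iff_odd] at hodd
    have h3 := hαα v
    rw [hj, map_mul, hj, hcp, hodd.neg_one_pow, hneg, one_mul, mul_neg, mul_assoc, mul_inv_cancel, mul_one] at h3
    apply hne1
    have h4 : v * (-1) = v * 1 := by rw [mul_neg, mul_one]; exact h3
    exact mul_left_cancel h4
  obtain ⟨i, rfl⟩ := hje
  -- a fixed element `v c^m`
  obtain ⟨m, hm⟩ : ∃ m : ℕ, α (v * c ^ m) = v * c ^ m := by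
    have key : ∀ m : ℕ, α (v * c ^ m) = v * c ^ m ↔ (-1 : SL2 F) ^ m * c ^ (i + i) = c ^ (m + m) := by
      intro m
      rw [map_mul, hj, hcp]
      have h4 : Commute ((-1 : SL2 F) ^ m) (c ^ (i + i)) :=
        Commute.pow_left (by rw [commute_iff_eq, hneg, one_mul, mul_neg, mul_one]) m
      constructor
      · intro h3
        have h5 : c ^ (i + i) * ((-1) ^ m * (c ^ m)⁻¹) = c ^ m := by
          rw [mul_assoc] at h3
          exact mul_left_cancel h3
        rw [← mul_assoc, ← h4.eq, mul_inv_eq_iff_eq_mul, ← pow_add] at h5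
        exact h5
      · intro h3
        rw [mul_assoc, ← mul_assoc (c ^ (i + i)), ← h4.eq, h3, pow_add, mul_assoc, mul_inv_cancel, mul_one]
    rcases Nat.even_or_odd i with he | ho
    · exact ⟨i, (key i).2 (by rw [he.neg_one_pow, one_mul])⟩
    · refine ⟨i + 2 ^ n, (key _).2 ?_⟩
      have h5 : Odd (i + 2 ^ n) := ho.add_even (Nat.even_pow.2 ⟨even_two, hn⟩)
      rw [h5.neg_one_pow, show i + 2 ^ n + (i + 2 ^ n) = (i + i) + 2 ^ (n + 1) by ring, pow_add c (i + i), h.z_eq,
        hneg, one_mul, mul_neg, mul_one]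
  rcases hfix _ (P.mul_mem h.v_mem (P.pow_mem h.c_mem m)) hm with h3 | h3
  · have := h.orderOf_out m
    rw [h3, orderOf_one] at this
    omega
  · have := h.orderOf_out m
    rw [h3, Cfsg.Agent.TwoFusion.QuatCoverSL.orderOf_neg_one hF] at this
    omega

/-- **(c, SD type)** an involutory automorphism normalising a Sylow 2-subgroup and fixing there only `±1` has trivial
type and is outer -/
theorem sd_type (hF : Odd (Fintype.card F)) (P : Sylow 2 (SL2 F)) {α : MulAut (SL2 F)} (hα : α * α = 1)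
    (hP : ∀ x ∈ P, α x ∈ P) (hfix : ∀ x ∈ P, α x = x → x = 1 ∨ x = -1) : typ α = 1 ∧ ¬ Inn α := by
  obtain ⟨c, v, n, h, hq⟩ := exists_coord hF P
  have hα2 : α ^ 2 ^ 1 = 1 := by rw [pow_one, pow_two, hα]
  constructor
  · by_cases hn : n = 0
    · subst hn
      refine typ_eq_one hF hα2 h.ord hq ?_
      have h1 : c * c = -1 := by
        rw [← pow_two]; exact h.z_eq
      have h2 : tr c = 0 := ClassicalGeometry.SLTwoFour.trace_of_mul_self c h1
      rw [h2, map_zero]
    · exact typ_eq_one_of_fix hF hα2 h.ord hq (Or.inr (inverts hF h hn hα hP hfix))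
  · rintro ⟨s, hs⟩
    have hne1 : (-1 : SL2 F) ≠ 1 := neg_one_ne_one hF
    -- `s * s` is central
    have h1 : ∀ x, s * s * x = x * (s * s) := by
      intro x
      have h2 := DFunLike.congr_fun hα x
      rw [MulAut.mul_apply, MulAut.one_apply, hs, hs] at h2
      calc s * s * x = (s * (s * x * s⁻¹) * s⁻¹) * (s * s) := by group
        _ = x * (s * s) := by rw [h2]
    have h3 : s * s ∈ Subgroup.center (SL2 F) := Subgroup.mem_center_iff.2 fun x => (h1 x).symm
    rw [Cfsg.Agent.TwoFusion.QuatCoverSL.center_eq_zpowers hF, Subgroup.mem_zpowers_iff] at h3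
    obtain ⟨k, hk⟩ := h3
    have hs2 : s * s = 1 ∨ s * s = -1 := by
      rw [← hk]
      rcases Int.even_or_odd k with he | ho
      · left; exact he.neg_one_zpow
      · right
        obtain ⟨m, rfl⟩ := ho
        rw [_root_.zpow_add, _root_.zpow_mul, _root_.zpow_one, zpow_ofNat, neg_one_sq, _root_.one_zpow, one_mul]
    -- `s ∈ P`
    have hsP : s ∈ P := by
      have h4 : s ∈ normalizer ((P : Subgroup (SL2 F)) : Set (SL2 F)) := by
        rw [mem_normalizer_iff]
        intro x
        constructor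
        · intro hx
          rw [← hs]; exact hP x hx
        · intro hx
          have h5 := hP _ hx
          rw [hs] at h5
          have h6 : s * (s * x * s⁻¹) * s⁻¹ = x := by
            calc s * (s * x * s⁻¹) * s⁻¹ = (s * s * x) * (s * s)⁻¹ := by group
              _ = x := by rw [h1]; group
          rwa [h6] at h5
      have h5 : s ^ 2 ^ 2 = 1 := by
        rw [show (2 : ℕ) ^ 2 = 2 * 2 by norm_num, pow_mul, pow_two s]
        rcases hs2 with h | h <;> rw [h] <;> simp
      obtain ⟨k, -, hk⟩ := (Nat.dvd_prime_pow Nat.prime_two).1 (orderOf_dvd_of_pow_eq_one h5)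
      have h6 : IsPGroup 2 (zpowers s) := IsPGroup.of_card (n := k) (by rw [Nat.card_zpowers, hk])
      have h7 := h6.inf_normalizer_sylow P
      exact ((SetLike.ext_iff.1 h7 s).1 (Subgroup.mem_inf.2 ⟨mem_zpowers s, h4⟩)).2
    have hfs : α s = s := by rw [hs]; group
    rcases hfix s hsP hfs with rfl | rfl
    · -- then `α = 1` fixes `v`
      have h9 : α v = v := by rw [hs]; group
      rcases hfix v h.v_mem h9 with h10 | h10
      · have := h.orderOf_v
        rw [h10, orderOf_one] at this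
        omega
      · have := h.orderOf_v
        rw [h10, Cfsg.Agent.TwoFusion.QuatCoverSL.orderOf_neg_one hF] at this
        omega
    · have h9 : α v = v := by
        rw [hs, mul_inv_eq_iff_eq_mul]
        simp
      rcases hfix v h.v_mem h9 with h10 | h10
      · have := h.orderOf_v
        rw [h10, orderOf_one] at this
        omega
      · have := h.orderOf_v
        rw [h10, Cfsg.Agent.TwoFusion.QuatCoverSL.orderOf_neg_one hF] at this
        omega

/-! ### Outer diagonal involutions (K1) -/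


/-- a binary form `x² + d y²`, `d ≠ 0`, represents every element of a finite field of odd order -/
theorem exists_form (hF : Odd (Fintype.card F)) {d : F} (hd : d ≠ 0) (e : F) :
    ∃ p q : F, p ^ 2 + d * q ^ 2 = e := by
  classical
  have hf : (Polynomial.X ^ 2 : Polynomial F).degree = 2 := Polynomial.degree_X_pow 2
  have hg : (Polynomial.C d * Polynomial.X ^ 2 - Polynomial.C e : Polynomial F).degree = 2 := by
    rw [Polynomial.degree_sub_C]
    · rw [Polynomial.degree_C_mul_X_pow 2 hd]; rfl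
    · rw [Polynomial.degree_C_mul_X_pow 2 hd]; norm_num
  obtain ⟨p, q, hpq⟩ := FiniteField.exists_root_sum_quadratic hf hg (Nat.odd_iff.1 hF)
  refine ⟨p, q, ?_⟩
  simp only [Polynomial.eval_pow, Polynomial.eval_X, Polynomial.eval_sub, Polynomial.eval_mul,
    Polynomial.eval_C] at hpq
  linear_combination hpq

/-- **(K1b)** `g` of trace zero anticommuting with `x`, `x² = -1`: `g` and `g x` are conjugate under `SL(2,F)` -/
theorem exists_conj_mul (hF : Odd (Fintype.card F)) {g : GL (Fin 2) F} (hg : g.1 0 0 + g.1 1 1 = 0) {x : SL2 F}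
    (hx : x * x = -1) (hgx : x.1 * g.1 = -(g.1 * x.1)) :
    ∃ s : SL2 F, s.1 * g.1 = (g.1 * x.1) * s.1 := by
  have h2 := two_ne_zero_of_odd hF
  obtain ⟨p, q, hpq⟩ := exists_form hF (LFourA.FieldInv.gl_det_ne g) (2⁻¹ : F)
  have hxx : x.1 * x.1 = -1 := congrArg Subtype.val hx
  have htx : x.1 0 0 + x.1 1 1 = 0 := ClassicalGeometry.SLTwoFour.trace_of_mul_self x hx
  have hdx : x.1 0 0 * x.1 1 1 - x.1 0 1 * x.1 1 0 = 1 := by
    have := x.2
    rwa [Matrix.det_fin_two] at this
  have e1 : (1 - x.1).det = 2 := by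
    rw [Matrix.det_fin_two]
    simp only [Matrix.sub_apply, Matrix.one_apply_eq, ne_eq, Fin.isValue, zero_ne_one, not_false_eq_true,
      Matrix.one_apply_ne, one_ne_zero]
    linear_combination hdx - htx
  have e2 : (p • (1 : Matrix (Fin 2) (Fin 2) F) + q • g.1).det = p ^ 2 + g.1.det * q ^ 2 := by
    rw [Matrix.det_fin_two, Matrix.det_fin_two]
    simp only [Matrix.add_apply, Matrix.smul_apply, Matrix.one_apply_eq, ne_eq, Fin.isValue, zero_ne_one,
      not_false_eq_true, Matrix.one_apply_ne, one_ne_zero, smul_eq_mul]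
    linear_combination p * q * hg
  have e3 : ((1 - x.1) * (p • (1 : Matrix (Fin 2) (Fin 2) F) + q • g.1)).det = 1 := by
    rw [Matrix.det_mul, e1, e2, hpq, mul_inv_cancel₀ h2]
  refine ⟨⟨_, e3⟩, ?_⟩
  change (1 - x.1) * (p • (1 : Matrix (Fin 2) (Fin 2) F) + q • g.1) * g.1 =
    (g.1 * x.1) * ((1 - x.1) * (p • (1 : Matrix (Fin 2) (Fin 2) F) + q • g.1))
  have e4 : (p • (1 : Matrix (Fin 2) (Fin 2) F) + q • g.1) * g.1 =
      g.1 * (p • (1 : Matrix (Fin 2) (Fin 2) F) + q • g.1) := by
    rw [add_mul, mul_add]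
    simp only [Matrix.smul_mul, Matrix.mul_smul, Matrix.mul_one, Matrix.one_mul]
  have e5 : (1 - x.1) * g.1 = (g.1 * x.1) * (1 - x.1) := by
    rw [sub_mul, mul_sub, Matrix.one_mul, Matrix.mul_one, hgx, Matrix.mul_assoc, hxx, Matrix.mul_neg, Matrix.mul_one]
    abel
  rw [Matrix.mul_assoc, e4, ← Matrix.mul_assoc, e5, Matrix.mul_assoc]

/-- **(K1b)** an outer involutory automorphism `α` of trivial type and an element `x` of order four inverted by `α`:
`α` and `α x` are conjugate under inner automorphisms -/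
theorem conj_outer (hF : Odd (Fintype.card F)) {α : MulAut (SL2 F)} (hα : α * α = 1) (ht : typ α = 1)
    (hin : ¬ Inn α) {x : SL2 F} (hx : x * x = -1) (hαx : α x = x⁻¹) :
    ∃ s : SL2 F, MulAut.conj s * α * (MulAut.conj s)⁻¹ = α * MulAut.conj x := by
  obtain ⟨g, rfl⟩ := (typ_eq_one_iff α).1 ht
  have h2 := two_ne_zero_of_odd hF
  have hxinv : x⁻¹ = -x := SylowSp4.SLFacts.inv_eq_neg hx
  rw [hxinv] at hαx
  have h1 : g.1 * x.1 = (-x).1 * g.1 := LFourA.FieldInv.comm_of_conj hαx
  have hgx : x.1 * g.1 = -(g.1 * x.1) := by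
    rw [h1]
    change x.1 * g.1 = -(-x.1 * g.1)
    rw [neg_mul, neg_neg]
  -- the trace of `g` is zero
  have h3 : conjGL (g * g) = 1 := by rw [map_mul, hα]
  have h4 : ∀ y : SL2 F, conjGL (g * g) y = y := fun y => by rw [h3]; rfl
  obtain ⟨d, hd0, hd⟩ := LFourA.FieldInv.exists_scalar (h4 _) (h4 _)
  rw [Units.val_mul] at hd
  have hg : g.1 0 0 + g.1 1 1 = 0 := by
    by_contra hne
    have a01 := congrFun (congrFun hd 0) 1
    have a10 := congrFun (congrFun hd 1) 0
    have a00 := congrFun (congrFun hd 0) 0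
    have a11 := congrFun (congrFun hd 1) 1
    simp only [Matrix.mul_apply, Fin.sum_univ_two, Matrix.smul_apply, Matrix.one_apply_eq, ne_eq, Fin.isValue,
      zero_ne_one, not_false_eq_true, Matrix.one_apply_ne, one_ne_zero, smul_eq_mul, mul_zero, mul_one] at a01 a10 a00 a11
    have b01 : g.1 0 1 = 0 := by
      have : g.1 0 1 * (g.1 0 0 + g.1 1 1) = 0 := by linear_combination a01
      exact (mul_eq_zero.1 this).resolve_right hne
    have b10 : g.1 1 0 = 0 := by
      have : g.1 1 0 * (g.1 0 0 + g.1 1 1) = 0 := by linear_combination a10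
      exact (mul_eq_zero.1 this).resolve_right hne
    have b11 : g.1 0 0 = g.1 1 1 := by
      have : (g.1 0 0 - g.1 1 1) * (g.1 0 0 + g.1 1 1) = 0 := by linear_combination a00 - a11
      exact sub_eq_zero.1 ((mul_eq_zero.1 this).resolve_right hne)
    apply hin
    refine ⟨1, fun y => ?_⟩
    rw [one_mul, inv_one, mul_one]
    refine LFourA.FieldInv.conjGL_scalar (c := g.1 0 0) ?_ y
    rw [Matrix.eta_fin_two g.1, b01, b10, ← b11]
    ext i j
    fin_cases i <;> fin_cases j <;> simp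
  obtain ⟨s, hs⟩ := exists_conj_mul hF hg hx hgx
  refine ⟨s, ?_⟩
  have e1 : ∀ y : SL2 F, MulAut.conj y = conjGL (y : GL (Fin 2) F) := fun y => MulEquiv.ext fun w => by
    rw [conjGL_toGL, MulAut.conj_apply]
  rw [e1, e1, ← map_inv, ← map_mul, ← map_mul, ← map_mul]
  congr 1
  rw [mul_inv_eq_iff_eq_mul]
  apply Units.ext
  rw [Units.val_mul, Units.val_mul, Units.val_mul]
  exact hs

/-! ### Field involutions -/

/-- the subgroup of fixed points -/
def Fix {L : Type*} [Group L] (α : MulAut L) : Subgroup L where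
  carrier := {x | α x = x}
  mul_mem' := fun {a b} ha hb => by
    change α (a * b) = a * b
    rw [map_mul, show α a = a from ha, show α b = b from hb]
  one_mem' := map_one α
  inv_mem' := fun {a} ha => by
    change α a⁻¹ = a⁻¹
    rw [map_inv, show α a = a from ha]

theorem mem_Fix {L : Type*} [Group L] {α : MulAut L} {x : L} : x ∈ Fix α ↔ α x = x := Iff.rfl

/-- an automorphism trivial modulo the centre is trivial -/
theorem eq_one_of_mod_center (h2 : (2 : F) ≠ 0) {θ : MulAut (SL2 F)}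
    (h : ∀ x, (QuotientGroup.mk' (Subgroup.center (SL2 F))) (θ x) = (QuotientGroup.mk' (Subgroup.center (SL2 F))) x)
    (x : SL2 F) : θ x = x :=
  Classification.TypeB.SigAut.eq_of_lift h2 (QuotientGroup.mk' (Subgroup.center (SL2 F)))
    (by rw [QuotientGroup.ker_mk']) θ h x

/-- normal form of an involutory automorphism of nontrivial type -/
theorem exists_field_form (hF : Odd (Fintype.card F)) {α : MulAut (SL2 F)} (hα : α * α = 1) (ht : typ α ≠ 1) :
    ∃ (h : GL (Fin 2) F) (σ : F ≃+* F) (K : Subfield F), (∀ a, a ∈ K ↔ σ a = a) ∧ Nat.card F = Nat.card K ^ 2 ∧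
      ∀ x, α (conjGL h x) = conjGL h (fieldAut σ x) := by
  have h2 := two_ne_zero_of_odd hF
  have hαα : ∀ x, α (α x) = x := fun x => by
    have := DFunLike.congr_fun hα x
    rwa [MulAut.mul_apply, MulAut.one_apply] at this
  set π := QuotientGroup.mk' (Subgroup.center (SL2 F)) with hπ
  have hcen : ∀ β : MulAut (SL2 F), (Subgroup.center (SL2 F)).map β.toMonoidHom = Subgroup.center (SL2 F) := fun β =>
    Subgroup.characteristic_iff_map_eq.1 inferInstance β
  let αq : MulAut (SL2 F ⧸ Subgroup.center (SL2 F)) := QuotientGroup.congr _ _ α (hcen α)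
  have hαq : ∀ x, αq (π x) = π (α x) := fun x => rfl
  have hk : ∀ x, π x = 1 ↔ x = 1 ∨ x = -1 := by
    intro x
    rw [← MonoidHom.mem_ker, hπ, QuotientGroup.ker_mk', Cfsg.Agent.TwoFusion.QuatCoverSL.center_eq_zpowers hF]
    constructor
    · intro hx
      obtain ⟨k, rfl⟩ := Subgroup.mem_zpowers_iff.1 hx
      rcases Int.even_or_odd k with he | ho
      · left; exact he.neg_one_zpow
      · right
        obtain ⟨m, rfl⟩ := ho
        rw [_root_.zpow_add, _root_.zpow_mul, _root_.zpow_one, zpow_ofNat, neg_one_sq, _root_.one_zpow, one_mul]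
    · rintro (rfl | rfl)
      · exact one_mem _
      · exact mem_zpowers _
  have hno : ¬ ∃ g : GL (Fin 2) F, ∀ x, αq (π x) = π (conjGL g x) := by
    rintro ⟨g, hg⟩
    apply ht
    have h3 : ∀ x, ((conjGL g)⁻¹ * α : MulAut (SL2 F)) x = x := by
      intro x
      refine eq_one_of_mod_center h2 (θ := (conjGL g)⁻¹ * α) (fun y => ?_) x
      have h4 := hg y
      rw [hαq] at h4
      -- apply the inverse of `conjGL g` modulo the centre
      have h5 : α y * (conjGL g y)⁻¹ ∈ Subgroup.center (SL2 F) := by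
        have := (QuotientGroup.eq_one_iff (α y * (conjGL g y)⁻¹)).1 (by
          change π (α y * (conjGL g y)⁻¹) = 1
          rw [map_mul, map_inv, h4, mul_inv_cancel])
        exact this
      have h6 : (conjGL g)⁻¹ (α y * (conjGL g y)⁻¹) ∈ Subgroup.center (SL2 F) := by
        rw [← hcen (conjGL g)⁻¹]
        exact ⟨_, h5, rfl⟩
      rw [map_mul, map_inv] at h6
      have h7 : (conjGL g)⁻¹ (conjGL g y) = y := MulAut.inv_apply_self _ _ _
      rw [h7] at h6
      have h8 := (QuotientGroup.eq_one_iff _).2 h6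
      change π ((conjGL g)⁻¹ (α y)) = π y
      have h9 : π ((conjGL g)⁻¹ (α y) * y⁻¹) = 1 := h8
      rw [map_mul, map_inv, mul_inv_eq_one] at h9
      exact h9
    refine (typ_eq_one_iff α).2 ⟨g, ?_⟩
    have h4 : (conjGL g)⁻¹ * α = 1 := MulEquiv.ext h3
    exact (inv_mul_eq_one.1 h4).symm
  obtain ⟨h, σ, K, hf⟩ := LFourA.FieldInv.exists_finv h2 (QuotientGroup.mk'_surjective _) hk
    (α := αq) (fun z => by
      obtain ⟨x, rfl⟩ := QuotientGroup.mk'_surjective _ z
      change αq (αq (π x)) = π x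
      rw [hαq, hαq, hαα]) hno
  refine ⟨h, σ, K, hf.mem, hf.card, fun x => ?_⟩
  have h3 : ∀ y, (α * conjGL h * (fieldAut σ)⁻¹ * (conjGL h)⁻¹ : MulAut (SL2 F)) y = y := by
    intro y
    refine eq_one_of_mod_center h2 (θ := α * conjGL h * (fieldAut σ)⁻¹ * (conjGL h)⁻¹) (fun y => ?_) y
    obtain ⟨x, rfl⟩ : ∃ x, conjGL h (fieldAut σ x) = y :=
      ⟨(fieldAut σ)⁻¹ ((conjGL h)⁻¹ y), by rw [MulAut.apply_inv_self, MulAut.apply_inv_self]⟩
    have h4 : (α * conjGL h * (fieldAut σ)⁻¹ * (conjGL h)⁻¹ : MulAut (SL2 F)) (conjGL h (fieldAut σ x)) =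
        α (conjGL h x) := by
      rw [MulAut.mul_apply, MulAut.inv_apply_self, MulAut.mul_apply, MulAut.inv_apply_self, MulAut.mul_apply]
    rw [h4]
    exact hf.act x
  have h4 := h3 (conjGL h (fieldAut σ x))
  rw [MulAut.mul_apply, MulAut.inv_apply_self, MulAut.mul_apply, MulAut.inv_apply_self, MulAut.mul_apply] at h4
  exact h4

/-- **(d)** the fixed points of an involutory automorphism of nontrivial type are `SL(2,F₀)`, `|F₀|² = |F|` -/
theorem exists_fix (hF : Odd (Fintype.card F)) {α : MulAut (SL2 F)} (hα : α * α = 1) (ht : typ α ≠ 1) :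
    ∃ K : Subfield F, Nat.card F = Nat.card K ^ 2 ∧ Nonempty (SL2 K ≃* Fix α) := by
  obtain ⟨h, σ, K, hK, hc, hact⟩ := exists_field_form hF hα ht
  refine ⟨K, hc, ?_⟩
  let f : SL2 K →* SL2 F := (conjGL h).toMonoidHom.comp (Matrix.SpecialLinearGroup.map (K.subtype : K →+* F))
  have hf : Function.Injective f := by
    intro x y hxy
    have h1 : Matrix.SpecialLinearGroup.map (K.subtype : K →+* F) x =
        Matrix.SpecialLinearGroup.map (K.subtype : K →+* F) y := (conjGL h).injective hxy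
    apply Subtype.ext
    ext i j
    have h2 := congrArg (fun M : SL2 F => M.1 i j) h1
    exact h2
  have hr : f.range = Fix α := by
    ext y
    constructor
    · rintro ⟨x, rfl⟩
      rw [mem_Fix]
      change α (conjGL h (Matrix.SpecialLinearGroup.map (K.subtype : K →+* F) x)) =
        conjGL h (Matrix.SpecialLinearGroup.map (K.subtype : K →+* F) x)
      rw [hact]
      congr 1
      apply Subtype.ext
      ext i j
      exact (hK _).1 (x.1 i j).2
    · intro hy
      obtain ⟨w, rfl⟩ := (conjGL h).surjective y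
      rw [mem_Fix, hact] at hy
      have h1 := (conjGL h).injective hy
      have h2 : ∀ i j, w.1 i j ∈ K := by
        intro i j
        rw [hK]
        exact congrArg (fun M : SL2 F => M.1 i j) h1
      have h3 : (Matrix.of fun i j => (⟨w.1 i j, h2 i j⟩ : K)).det = 1 := by
        apply Subtype.ext
        have h3 := w.2
        rw [Matrix.det_fin_two] at h3 ⊢
        exact h3
      refine ⟨⟨_, h3⟩, ?_⟩
      change conjGL h _ = conjGL h w
      congr 1
  exact ⟨(MonoidHom.ofInjective hf).trans (MulEquiv.subgroupCongr hr)⟩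

end QModSL

end Cfsg.Agent.Cit
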