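import Cfsg.Agent.Cit.LemmaJBase
import Cfsg.Agent.Cit.QModSL
import Cfsg.Agent.Lib.PSL2Outer
import Cfsg.Agent.CharactersDeep.QuatSylow
import Cfsg.Agent.LieRecognition.FieldSemilinear
import Cfsg.Agent.Classification.TransferSign
import Cfsg.Agent.GH.L2AutMat

/-!
# LEMMA J for `SL(2,F)`
-/

set_option autoImplicit false

namespace Cfsg.Agent.Cit.LemmaJ

open Matrix Subgroup
open Cfsg.Agent.Lib.SL2Mat Cfsg.Agent.Lib.AutSL2 Cfsg.Agent.Lib.AutSL2Out Cfsg.Agent.Classification.QDW.TypeHom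
open Cfsg.Agent.Lib.PSL2Circle Cfsg.Agent.Lib.PSL2Outer Cfsg.Agent.Cit.QModSL
open Cfsg.Agent.TwoFusion.QuatCoverSL (two_ne_zero_of_odd neg_one_ne_one eq_neg_one_of_orderOf_two)

variable {F : Type*} [Field F] [Fintype F]

local notation "SL2" => Matrix.SpecialLinearGroup (Fin 2)

omit [Fintype F] in
theorem sq_one (h2 : (2 : F) ≠ 0) (t : SL2 F) (h : t * t = 1) : t = 1 ∨ t = -1 :=
  Lib.PSL2Inv.sq_eq_one h2 h

omit [Fintype F] in
theorem ent_of_sq {i : SL2 F} (hi : i * i = -1) : ent i 1 1 = - ent i 0 0 := by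
  have h : i.1 0 0 + i.1 1 1 = 0 := ClassicalGeometry.SLTwoFour.trace_of_mul_self i hi
  exact eq_neg_of_add_eq_zero_right h

theorem neg_one_ne {K : Type*} [Field K] (h2 : (2 : K) ≠ 0) : (-1 : SL2 K) ≠ 1 := by
  intro h
  have h3 := congrArg (fun g : SL2 K => g.1 0 0) h
  have h4 : (-1 : K) = 1 := h3
  apply h2
  linear_combination -h4

/-- the centralizer of an element of order four has index `2 mod 4` -/
theorem index_centralizer (hF : Odd (Fintype.card F)) {i : SL2 F} (hi : i * i = -1) :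
    ¬ 4 ∣ (centralizer ({i} : Set (SL2 F))).index := by
  have h2 := two_ne_zero_of_odd hF
  have h1 := (centralizer ({i} : Set (SL2 F))).index_mul_card
  rw [ClassicalGeometry.PSL2Basic.card_SL2, card_centralizer h2 (ent_of_sq hi)] at h1
  have hq : 1 < Fintype.card F := Fintype.one_lt_card
  rw [← Nat.card_eq_fintype_card] at h1 hq
  generalize (centralizer ({i} : Set (SL2 F))).index = n at h1 ⊢
  rcases card_circ (F := F) h2 with ⟨h, hc⟩ | ⟨h, hc⟩
  · rw [hc] at h1
    generalize Nat.card F = q at h1 h hq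
    obtain ⟨k, rfl⟩ : ∃ k, q = 4 * k + 1 := ⟨q / 4, by omega⟩
    have hk : 0 < k := by omega
    have e1 : (4 * k + 1) * ((4 * k + 1) ^ 2 - 1) = ((4 * k + 1) * (4 * k + 2)) * (4 * k) := by
      have : (4 * k + 1) ^ 2 - 1 = (4 * k + 2) * (4 * k) := by
        rw [Nat.sub_eq_iff_eq_add (Nat.one_le_pow _ _ (by omega))]; ring
      rw [this]; ring
    rw [e1, Nat.add_sub_cancel] at h1
    have h3 := Nat.eq_of_mul_eq_mul_right (by omega) h1
    rw [h3]
    have : (4 * k + 1) * (4 * k + 2) = 4 * (4 * k * k + 3 * k) + 2 := by ring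
    omega
  · rw [hc] at h1
    generalize Nat.card F = q at h1 h hq
    obtain ⟨k, rfl⟩ : ∃ k, q = 4 * k + 3 := ⟨q / 4, by omega⟩
    have e1 : (4 * k + 3) * ((4 * k + 3) ^ 2 - 1) = ((4 * k + 3) * (4 * k + 2)) * (4 * k + 3 + 1) := by
      have : (4 * k + 3) ^ 2 - 1 = (4 * k + 2) * (4 * k + 3 + 1) := by
        rw [Nat.sub_eq_iff_eq_add (Nat.one_le_pow _ _ (by omega))]; ring
      rw [this]; ring
    rw [e1] at h1
    have h3 := Nat.eq_of_mul_eq_mul_right (by omega) h1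
    rw [h3]
    have : (4 * k + 3) * (4 * k + 2) = 4 * (4 * k * k + 5 * k + 1) + 2 := by ring
    omega

omit [Fintype F] in
theorem fix_iff {b : MulAut (SL2 F)} {i : SL2 F} (hb : ∀ x, b x = i * x * i⁻¹) (x : SL2 F) :
    b x = x ↔ x * i = i * x := by
  rw [hb, mul_inv_eq_iff_eq_mul, eq_comm]

/-- the index criterion -/
theorem odd_index_of_quat (hF : Odd (Fintype.card F)) {B : Subgroup (MulAut (SL2 F))} {b0 : MulAut (SL2 F)}
    (hb0 : b0 ∈ B) (hb01 : b0 ≠ 1) {i : SL2 F} (hi : i * i = -1) (hbi : ∀ x, b0 x = i * x * i⁻¹)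
    {x y : SL2 F} (hx : x ∈ JJ B) (hy : y ∈ JJ B) (hxx : x * x = -1) (hyy : y * y = -1)
    (hxy : y * x * y⁻¹ = x⁻¹) : ¬ 2 ∣ (JJ B).index :=
  odd_index_of_pair (neg_one_ne_one hF) (by rw [neg_mul_neg, one_mul]) (sq_one (two_ne_zero_of_odd hF)) hi (JJ B)
    (fun c hc => mem_JJ hb0 hb01 ((fix_iff hbi c).2 hc)) (index_centralizer hF hi) hx hy hxx hyy hxy

/-! ### inner automorphisms -/

theorem sq_of_conj (hF : Odd (Fintype.card F)) {c : MulAut (SL2 F)} {s : SL2 F} (hs : ∀ x, c x = s * x * s⁻¹)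
    (h1 : c ≠ 1) (hc : c * c = 1) : s * s = -1 := by
  have h3 : ∀ x, s * s * x = x * (s * s) := by
    intro x
    have h2 := DFunLike.congr_fun hc x
    rw [MulAut.mul_apply, MulAut.one_apply, hs, hs] at h2
    calc s * s * x = (s * (s * x * s⁻¹) * s⁻¹) * (s * s) := by group
      _ = x * (s * s) := by rw [h2]
  have h4 : s * s ∈ Subgroup.center (SL2 F) := Subgroup.mem_center_iff.2 fun x => (h3 x).symm
  rw [Cfsg.Agent.TwoFusion.QuatCoverSL.center_eq_zpowers hF, Subgroup.mem_zpowers_iff] at h4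
  obtain ⟨k, hk⟩ := h4
  rcases Int.even_or_odd k with he | ho
  · exfalso
    rw [he.neg_one_zpow] at hk
    rcases sq_one (two_ne_zero_of_odd hF) s hk.symm with rfl | rfl
    · exact h1 (MulEquiv.ext fun x => by rw [hs]; simp)
    · exact h1 (MulEquiv.ext fun x => by
        rw [hs, mul_inv_eq_iff_eq_mul]; simp)
  · obtain ⟨m, rfl⟩ := ho
    rw [← hk, _root_.zpow_add, _root_.zpow_mul, _root_.zpow_one, zpow_ofNat, neg_one_sq, _root_.one_zpow, one_mul]

/-- the case of two inner automorphisms -/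
theorem case_inner (hF : Odd (Fintype.card F)) {B : Subgroup (MulAut (SL2 F))} (h2 : ∀ b ∈ B, b * b = 1)
    {a b : MulAut (SL2 F)} (ha : a ∈ B) (hb : b ∈ B) (ha1 : a ≠ 1) (hb1 : b ≠ 1) (hab : a ≠ b)
    (hai : Inn a) (hbi : Inn b) : ¬ 2 ∣ (JJ B).index := by
  obtain ⟨x, hx⟩ := hai
  obtain ⟨y, hy⟩ := hbi
  have hab1 : a * b ≠ 1 := fun h => hab (by
    rw [eq_inv_of_mul_eq_one_left h, ← eq_inv_of_mul_eq_one_left (h2 b hb)])
  have hxx := sq_of_conj hF hx ha1 (h2 a ha)
  have hyy := sq_of_conj hF hy hb1 (h2 b hb)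
  have hxy := sq_of_conj hF (c := a * b) (s := x * y) (fun z => by rw [MulAut.mul_apply, hx, hy]; group) hab1
    (h2 _ (B.mul_mem ha hb))
  exact odd_index_of_quat hF ha ha1 hxx hx (mem_JJ ha ha1 (by rw [hx, mul_inv_cancel_right]))
    (mem_JJ hb hb1 (by rw [hy, mul_inv_cancel_right])) hxx hyy (pair_of_sq hyy hxy)

/-! ### field automorphisms -/

theorem isSquare_of_mem (hF : Odd (Fintype.card F)) (K : Subfield F) (hK : Nat.card F = Nat.card K ^ 2) {a : F}
    (ha : a ∈ K) : IsSquare a := by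
  by_cases ha0 : a = 0
  · subst ha0; exact ⟨0, by simp⟩
  have hch : ringChar F ≠ 2 := by
    intro h2
    have := FiniteField.even_card_of_char_two (F := F) h2
    exact (Nat.not_even_iff_odd.2 hF) (Nat.even_iff.2 this)
  rw [FiniteField.isSquare_iff hch ha0, ← Nat.card_eq_fintype_card, hK]
  have hodd : Odd (Nat.card K) := by
    rw [← Nat.card_eq_fintype_card, hK] at hF
    exact (Nat.odd_pow_iff (by norm_num)).1 hF
  obtain ⟨m, hm⟩ := hodd
  have e : Nat.card K ^ 2 / 2 = (Nat.card K - 1) * (m + 1) := by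
    rw [hm]
    have : (2 * m + 1) ^ 2 = 2 * ((2 * m) * (m + 1)) + 1 := by ring
    rw [this, Nat.add_sub_cancel]
    omega
  rw [e, pow_mul]
  have h1 : a ^ (Nat.card K - 1) = 1 := by
    let _ : Fintype K := Fintype.ofFinite K
    have h2 : (⟨a, ha⟩ : K) ^ (Fintype.card K - 1) = 1 :=
      FiniteField.pow_card_sub_one_eq_one _ (fun h => ha0 (congrArg Subtype.val h))
    have h3 := congrArg Subtype.val h2
    rw [← Nat.card_eq_fintype_card] at h3
    exact h3
  rw [h1, one_pow]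

/-- an automorphism of trivial type commuting with a field involution is inner -/
theorem inn_of_comm (hF : Odd (Fintype.card F)) {f b : MulAut (SL2 F)} (hf : f * f = 1) (ht : typ f ≠ 1)
    (hb : typ b = 1) (hc : f * b = b * f) : Inn b := by
  obtain ⟨h, σ, K, hK, hcard, hfact⟩ := exists_field_form hF hf ht
  obtain ⟨g, rfl⟩ := (typ_eq_one_iff b).1 hb
  have e1 : f * conjGL h = conjGL h * fieldAut σ := MulEquiv.ext fun x => hfact x
  set g' : GL (Fin 2) F := h⁻¹ * g * h with hg'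
  have e2 : fieldAut σ * conjGL g' = conjGL g' * fieldAut σ := by
    have e3 : fieldAut σ = (conjGL h)⁻¹ * f * conjGL h := by
      rw [mul_assoc, e1, inv_mul_cancel_left]
    rw [hg', map_mul, map_mul, map_inv, e3]
    calc (conjGL h)⁻¹ * f * conjGL h * ((conjGL h)⁻¹ * conjGL g * conjGL h)
        = (conjGL h)⁻¹ * (f * conjGL g) * conjGL h := by group
      _ = (conjGL h)⁻¹ * (conjGL g * f) * conjGL h := by rw [hc]
      _ = (conjGL h)⁻¹ * conjGL g * conjGL h * ((conjGL h)⁻¹ * f * conjGL h) := by group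
  rw [fieldAut_mul_conjGL] at e2
  have e4 : conjGL (Matrix.GeneralLinearGroup.map σ.toRingHom g') = conjGL g' := mul_right_cancel e2
  have e5 : conjGL ((Matrix.GeneralLinearGroup.map σ.toRingHom g') * g'⁻¹) = 1 := by
    rw [map_mul, map_inv, e4, mul_inv_cancel]
  obtain ⟨l, hl0, hl⟩ := LFourA.FieldInv.exists_scalar (k := (Matrix.GeneralLinearGroup.map σ.toRingHom g') * g'⁻¹)
    (by rw [e5]; rfl) (by rw [e5]; rfl)
  have e6 : ∀ i j, σ (g'.1 i j) = l * g'.1 i j := by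
    intro i j
    have h3 : (Matrix.GeneralLinearGroup.map σ.toRingHom g').1 = l • g'.1 := by
      calc (Matrix.GeneralLinearGroup.map σ.toRingHom g').1
          = (Matrix.GeneralLinearGroup.map σ.toRingHom g' * g'⁻¹).1 * g'.1 := by
            rw [← Units.val_mul, inv_mul_cancel_right]
        _ = l • g'.1 := by rw [hl, Matrix.smul_mul, Matrix.one_mul]
    have h4 := congrFun (congrFun h3 i) j
    exact h4
  obtain ⟨r, s, hrs⟩ : ∃ r s, g'.1 r s ≠ 0 := by
    by_contra hcon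
    push Not at hcon
    apply LFourA.FieldInv.gl_det_ne g'
    rw [Matrix.det_fin_two, hcon 0 0, hcon 0 1]; ring
  set m := g'.1 r s with hm
  have e7 : ∀ i j, g'.1 i j / m ∈ K := by
    intro i j
    rw [hK, map_div₀, e6, hm, e6, mul_div_mul_left _ _ hl0]
  have e8 : g'.1.det / m ^ 2 ∈ K := by
    have : g'.1.det / m ^ 2 = (g'.1 0 0 / m) * (g'.1 1 1 / m) - (g'.1 0 1 / m) * (g'.1 1 0 / m) := by
      rw [Matrix.det_fin_two]
      field_simp
    rw [this]
    exact K.sub_mem (K.mul_mem (e7 _ _) (e7 _ _)) (K.mul_mem (e7 _ _) (e7 _ _))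
  obtain ⟨d, hd⟩ := isSquare_of_mem hF K hcard e8
  have hdet : g.1.det = (d * m) ^ 2 := by
    have h5 : g'.1.det = g.1.det := by
      rw [hg', Units.val_mul, Units.val_mul, Matrix.det_mul, Matrix.det_mul, mul_right_comm, ← Matrix.det_mul,
        inv_val_mul_val, Matrix.det_one, one_mul]
    rw [← h5]
    have h6 : g'.1.det = (d * d) * m ^ 2 := by rw [← hd]; field_simp
    rw [h6]; ring
  have hdm : d * m ≠ 0 := by
    intro h0
    apply LFourA.FieldInv.gl_det_ne g
    rw [hdet, h0]; ring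
  exact conjGL_of_det_sq g (d * m) hdm hdet

/-- `SL(2,K)` contains a quaternion pair -/
theorem exists_quat {K : Type*} [Field K] [Finite K] (h2 : (2 : K) ≠ 0) :
    ∃ x y : SL2 K, x * x = -1 ∧ y * y = -1 ∧ y * x * y⁻¹ = x⁻¹ := by
  obtain ⟨i, j, w, d, -, -, -, -, hi, hj, hij, -⟩ := GH.L2Aut.exists_std (F := K) h2
  have hi' : i * i = -1 := Subtype.ext hi
  have hj' : j * j = -1 := Subtype.ext hj
  refine ⟨i, j, hi', hj', ?_⟩
  rw [mul_inv_eq_iff_eq_mul, SylowSp4.SLFacts.inv_eq_neg hi', neg_mul]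
  apply Subtype.ext
  change j.1 * i.1 = -(i.1 * j.1)
  rw [hij, neg_neg]

/-- the case of a field automorphism -/
theorem case_field (hF : Odd (Fintype.card F)) {B : Subgroup (MulAut (SL2 F))} (h4 : Nat.card B = 4)
    (h2 : ∀ b ∈ B, b * b = 1) {f : MulAut (SL2 F)} (hf : f ∈ B) (ht : typ f ≠ 1) : ¬ 2 ∣ (JJ B).index := by
  have h20 := two_ne_zero_of_odd hF
  have hf1 : f ≠ 1 := by rintro rfl; exact ht (map_one _)
  -- an element of trivial type
  obtain ⟨b, hb, hb1, hbt⟩ : ∃ b ∈ B, b ≠ 1 ∧ typ b = 1 := by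
    obtain ⟨c, hc, hc1, hcf⟩ : ∃ c ∈ B, c ≠ 1 ∧ c ≠ f := by
      obtain ⟨a, ha, b, hb, ha1, hb1, hab⟩ := exists_two h4
      by_cases h : a = f
      · exact ⟨b, hb, hb1, fun h' => hab (by rw [h, h'])⟩
      · exact ⟨a, ha, ha1, h⟩
    by_cases hct : typ c = 1
    · exact ⟨c, hc, hc1, hct⟩
    · refine ⟨f * c, B.mul_mem hf hc, fun h => hcf ?_, ?_⟩
      · rw [eq_inv_of_mul_eq_one_right h, ← eq_inv_of_mul_eq_one_left (h2 f hf)]
      · have hfin : Finite (F ≃+* F) := Finite.of_injective (fun σ : F ≃+* F => (σ : F → F)) DFunLike.coe_injective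
        have hcyc : IsCyclic (F ≃+* F) := LieRecognition.FieldSemilinear.isCyclic_ringAut F
        have hcyc' : IsCyclic (⊤ : Subgroup (F ≃+* F)) := inferInstance
        have h5 := Classification.TransferSign.eq_of_isCyclic (⊤ : Subgroup (F ≃+* F)) hcyc' (x := typ f) (y := typ c)
          (mem_top _) (mem_top _) (by rw [← map_mul, h2 f hf, map_one]) (by rw [← map_mul, h2 c hc, map_one]) ht hct
        rw [map_mul, h5, ← map_mul, h2 c hc, map_one]
  have hcomm := comm_of_sq h2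
  have hinn := inn_of_comm hF (h2 f hf) ht hbt (hcomm f hf b hb)
  obtain ⟨i, hi⟩ := hinn
  have hii := sq_of_conj hF hi hb1 (h2 b hb)
  obtain ⟨K, hK, ⟨e⟩⟩ := exists_fix hF (h2 f hf) ht
  have hK2 : (2 : K) ≠ 0 := by
    intro h
    apply h20
    have := congrArg Subtype.val h
    exact this
  obtain ⟨x, y, hxx, hyy, hxy⟩ := exists_quat hK2
  have hmem : ∀ w : SL2 K, ((e w : Fix f) : SL2 F) ∈ JJ B := fun w => mem_JJ hf hf1 (e w).2
  have hsq : ∀ w : SL2 K, w * w = -1 → ((e w : Fix f) : SL2 F) * ((e w : Fix f) : SL2 F) = -1 := by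
    intro w hw
    have h5 : ((e w : Fix f) : SL2 F) * ((e w : Fix f) : SL2 F) = ((e (-1) : Fix f) : SL2 F) := by
      rw [← hw, map_mul]; rfl
    rw [h5]
    have h6 : ((e (-1) : Fix f) : SL2 F) * ((e (-1) : Fix f) : SL2 F) = 1 := by
      have : e (-1) * e (-1) = 1 := by rw [← map_mul, neg_mul_neg, one_mul, map_one]
      exact congrArg Subtype.val this
    rcases sq_one h20 _ h6 with h7 | h7
    · exfalso
      have h8 : e (-1) = 1 := Subtype.ext h7
      rw [MulEquiv.map_eq_one_iff] at h8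
      exact neg_one_ne hK2 h8
    · exact h7
  refine odd_index_of_quat hF hb hb1 hii hi (hmem x) (hmem y) (hsq x hxx) (hsq y hyy) ?_
  have h9 : e y * e x * (e y)⁻¹ = (e x)⁻¹ := by rw [← map_inv, ← map_inv, ← map_mul, ← map_mul, hxy]
  exact congrArg Subtype.val h9

end Cfsg.Agent.Cit.LemmaJ
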