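import Cfsg.Agent.Cit.LongAbs

/-!
# Block matrices and the centraliser of `diag(-1,-1,1,…,1)`

`R : RepG Γ F μ κ` is a faithful matrix representation of `Γ` with index set `μ ⊕ κ` such that central
elements are scalar and `t = diag(-1,…,-1,1,…,1)` lies in `Γ`.  `R.E1` and `R.E2` are the two block subgroups.
`Rep Γ F κ` is the case `μ = Fin 2`.
-/

set_option autoImplicit false

namespace Cfsg.Agent.Cit.LongBlock

open Subgroup Cfsg Matrix Cfsg.Agent.Cit.LongAbs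

variable {Γ : Type*} [Group Γ] {F : Type*} [Field F] {κ : Type*} [Fintype κ] [DecidableEq κ]
  {μ : Type*} [Fintype μ] [DecidableEq μ]

/-- matrix representation on `μ ⊕ κ` -/
structure RepG (Γ : Type*) [Group Γ] (F : Type*) [Field F] (μ : Type*) [Fintype μ] [DecidableEq μ]
    (κ : Type*) [Fintype κ] [DecidableEq κ] where
  ρ : Γ →* Matrix (μ ⊕ κ) (μ ⊕ κ) F
  inj : Function.Injective ρ
  cen : ∀ g ∈ center Γ, ∃ c : F, ρ g = c • (1 : Matrix (μ ⊕ κ) (μ ⊕ κ) F)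
  t : Γ
  t_eq : ρ t = fromBlocks (-1) 0 0 1

/-- the case `μ = Fin 2` -/
abbrev Rep (Γ : Type*) [Group Γ] (F : Type*) [Field F] (κ : Type*) [Fintype κ] [DecidableEq κ] :=
  RepG Γ F (Fin 2) κ

namespace RepG

variable (R : RepG Γ F μ κ)

theorem mem_center_of_scalar {g : Γ} {c : F} (h : R.ρ g = c • 1) : g ∈ center Γ := by
  rw [mem_center_iff]
  intro x
  apply R.inj
  rw [map_mul, map_mul, h]
  simp

theorem ρ_mul_inv (g : Γ) : R.ρ g * R.ρ g⁻¹ = 1 := by rw [← map_mul, mul_inv_cancel, map_one]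

theorem ρ_inv_mul (g : Γ) : R.ρ g⁻¹ * R.ρ g = 1 := by rw [← map_mul, inv_mul_cancel, map_one]

/-- commuting up to a scalar with an element of non-zero trace is commuting -/
theorem comm_of_trace {g u : Γ} (h : g * u * g⁻¹ * u⁻¹ ∈ center Γ) (ht : trace (R.ρ u) ≠ 0) :
    g * u = u * g := by
  obtain ⟨c, hc⟩ := R.cen _ h
  have h1 : R.ρ (g * u * g⁻¹) = c • R.ρ u := by
    have h2 : g * u * g⁻¹ = (g * u * g⁻¹ * u⁻¹) * u := by group
    rw [h2, map_mul, hc, smul_mul_assoc, one_mul]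
  have h3 : trace (R.ρ (g * u * g⁻¹)) = trace (R.ρ u) := by
    rw [map_mul, map_mul, trace_mul_comm, ← mul_assoc, R.ρ_inv_mul, one_mul]
  rw [h1, trace_smul, smul_eq_mul] at h3
  have h4 : c = 1 := by
    have : (c - 1) * trace (R.ρ u) = 0 := by rw [sub_mul, h3, one_mul, sub_self]
    rcases mul_eq_zero.1 this with h | h
    · exact sub_eq_zero.1 h
    · exact absurd h ht
  rw [h4, one_smul] at h1
  have h5 : g * u * g⁻¹ = u := R.inj h1
  calc g * u = g * u * g⁻¹ * g := by group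
    _ = u * g := by rw [h5]

theorem blocks_inv {g : Γ} {P S} (h : R.ρ g = fromBlocks P 0 0 S) :
    ∃ P' S', R.ρ g⁻¹ = fromBlocks P' 0 0 S' ∧ P * P' = 1 ∧ P' * P = 1 ∧ S * S' = 1 ∧ S' * S = 1 := by
  have h0 := R.ρ_mul_inv g
  rw [h] at h0
  generalize R.ρ g⁻¹ = N at h0 ⊢
  have hN : N = fromBlocks N.toBlocks₁₁ N.toBlocks₁₂ N.toBlocks₂₁ N.toBlocks₂₂ :=
    (fromBlocks_toBlocks N).symm
  rw [hN, fromBlocks_multiply, ← fromBlocks_one, fromBlocks_inj] at h0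
  simp only [Matrix.zero_mul, add_zero, zero_add] at h0
  obtain ⟨h1, h2, h3, h4⟩ := h0
  have h1' := mul_eq_one_comm.1 h1
  have h4' := mul_eq_one_comm.1 h4
  have h5 : N.toBlocks₁₂ = 0 := by
    calc N.toBlocks₁₂ = (N.toBlocks₁₁ * P) * N.toBlocks₁₂ := by rw [h1', Matrix.one_mul]
      _ = 0 := by rw [Matrix.mul_assoc, h2, Matrix.mul_zero]
  have h6 : N.toBlocks₂₁ = 0 := by
    calc N.toBlocks₂₁ = (N.toBlocks₂₂ * S) * N.toBlocks₂₁ := by rw [h4', Matrix.one_mul]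
      _ = 0 := by rw [Matrix.mul_assoc, h3, Matrix.mul_zero]
  exact ⟨_, _, by rw [h5, h6] at hN; exact hN, h1, h1', h4, h4'⟩

/-- the block subgroup on the first two basis vectors -/
def E1 : Subgroup Γ where
  carrier := {g | ∃ P, R.ρ g = fromBlocks P 0 0 1}
  one_mem' := ⟨1, by rw [map_one, fromBlocks_one]⟩
  mul_mem' := by
    rintro a b ⟨P, hP⟩ ⟨P', hP'⟩
    exact ⟨P * P', by rw [map_mul, hP, hP', fromBlocks_multiply]; simp⟩
  inv_mem' := by
    rintro a ⟨P, hP⟩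
    obtain ⟨P', S', h, h1, h2, h3, h4⟩ := R.blocks_inv hP
    exact ⟨P', by rw [h]; congr 1; rw [← h4, Matrix.mul_one]⟩

/-- the block subgroup on the remaining basis vectors -/
def E2 : Subgroup Γ where
  carrier := {g | ∃ S, R.ρ g = fromBlocks 1 0 0 S}
  one_mem' := ⟨1, by rw [map_one, fromBlocks_one]⟩
  mul_mem' := by
    rintro a b ⟨P, hP⟩ ⟨P', hP'⟩
    exact ⟨P * P', by rw [map_mul, hP, hP', fromBlocks_multiply]; simp⟩
  inv_mem' := by
    rintro a ⟨P, hP⟩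
    obtain ⟨P', S', h, h1, h2, h3, h4⟩ := R.blocks_inv hP
    exact ⟨S', by rw [h]; congr 1; rw [← h2, Matrix.mul_one]⟩

theorem mem_E1 {g : Γ} : g ∈ R.E1 ↔ ∃ P, R.ρ g = fromBlocks P 0 0 1 := Iff.rfl
theorem mem_E2 {g : Γ} : g ∈ R.E2 ↔ ∃ S, R.ρ g = fromBlocks 1 0 0 S := Iff.rfl

theorem comm_E1_E2 {x y : Γ} (hx : x ∈ R.E1) (hy : y ∈ R.E2) : x * y = y * x := by
  obtain ⟨P, hP⟩ := hx
  obtain ⟨S, hS⟩ := hy
  apply R.inj
  rw [map_mul, map_mul, hP, hS, fromBlocks_multiply, fromBlocks_multiply]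
  simp

theorem t_mem : R.t ∈ R.E1 := ⟨-1, R.t_eq⟩

theorem t_sq : R.t * R.t = 1 := by
  apply R.inj
  rw [map_mul, R.t_eq, fromBlocks_multiply, map_one, ← fromBlocks_one]
  simp

theorem t_inv : R.t⁻¹ = R.t := inv_eq_of_mul_eq_one_left R.t_sq

/-- `C(t)` consists of block diagonal matrices -/
theorem blocks_of_comm (h2 : (2 : F) ≠ 0) {g : Γ} (h : g * R.t = R.t * g) :
    ∃ P S, R.ρ g = fromBlocks P 0 0 S := by
  have h1 := congrArg R.ρ h
  rw [map_mul, map_mul, R.t_eq] at h1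
  generalize R.ρ g = N at h1 ⊢
  have hN : N = fromBlocks N.toBlocks₁₁ N.toBlocks₁₂ N.toBlocks₂₁ N.toBlocks₂₂ :=
    (fromBlocks_toBlocks N).symm
  rw [hN, fromBlocks_multiply, fromBlocks_multiply, fromBlocks_inj] at h1
  simp only [Matrix.mul_neg, Matrix.mul_one, Matrix.mul_zero, zero_add, add_zero, Matrix.neg_mul,
    Matrix.one_mul, Matrix.zero_mul] at h1
  obtain ⟨-, h3, h4, -⟩ := h1
  have h5 : N.toBlocks₁₂ = 0 := by
    have : (2 : F) • N.toBlocks₁₂ = 0 := by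
      rw [two_smul]
      nth_rewrite 1 [h3]
      exact neg_add_cancel _
    exact (smul_eq_zero.1 this).resolve_left h2
  have h6 : N.toBlocks₂₁ = 0 := by
    have : (2 : F) • N.toBlocks₂₁ = 0 := by
      rw [two_smul]
      nth_rewrite 1 [← h4]
      exact neg_add_cancel _
    exact (smul_eq_zero.1 this).resolve_left h2
  exact ⟨_, _, by rw [h5, h6] at hN; exact hN⟩

theorem comm_t_of_blocks {g : Γ} {P S} (h : R.ρ g = fromBlocks P 0 0 S) : g * R.t = R.t * g := by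
  apply R.inj
  rw [map_mul, map_mul, h, R.t_eq, fromBlocks_multiply, fromBlocks_multiply]
  simp

theorem conj_mem_E1 {g x : Γ} (hg : g * R.t = R.t * g) (h2 : (2 : F) ≠ 0) (hx : x ∈ R.E1) :
    g * x * g⁻¹ ∈ R.E1 := by
  obtain ⟨P, S, h⟩ := R.blocks_of_comm h2 hg
  obtain ⟨P', S', h', h3, h4, h5, h6⟩ := R.blocks_inv h
  obtain ⟨A, hA⟩ := hx
  refine ⟨P * A * P', ?_⟩
  rw [map_mul, map_mul, h, h', hA, fromBlocks_multiply, fromBlocks_multiply]
  simp [h5]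

theorem conj_mem_E2 {g x : Γ} (hg : g * R.t = R.t * g) (h2 : (2 : F) ≠ 0) (hx : x ∈ R.E2) :
    g * x * g⁻¹ ∈ R.E2 := by
  obtain ⟨P, S, h⟩ := R.blocks_of_comm h2 hg
  obtain ⟨P', S', h', h3, h4, h5, h6⟩ := R.blocks_inv h
  obtain ⟨A, hA⟩ := hx
  refine ⟨S * A * S', ?_⟩
  rw [map_mul, map_mul, h, h', hA, fromBlocks_multiply, fromBlocks_multiply]
  simp [h3]

end RepG

end Cfsg.Agent.Cit.LongBlock
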