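import Cfsg.Agent.Cit.LongAbs
import Cfsg.Agent.Lib.PComponents
import Cfsg.Agent.SignalizersComponents.PCompQuot
import Cfsg.Agent.SignalizersComponents.ComponentImage

/-!
# `LongAbs.eq_or_eq` with odd cores

`Setup X E₁ E₂ z F`: the hypotheses of `LongAbs.eq_or_eq`.  They pass to `X ⧸ O(X)` (`Setup.quot`), which
centralises `E₁ E₂` (`Setup.core_comm`), and so `K ⊲⊲ X` with `z ∈ K` and `K / O(K) ≃ SL₂(F')` satisfies
`E_i ≤ K ≤ E_i O(X)` for `i = 1` or `i = 2` (`Setup.main`).
-/

set_option autoImplicit false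

namespace Cfsg.Agent.Cit.LongCore

open Subgroup Cfsg Cfsg.Agent.SignalizersComponents Cfsg.Agent.SignalizersComponents.Components
  Cfsg.Agent.Cit.LongSL3 Cfsg.Agent.Cit.LongAbs
open scoped commutatorElement

/-- hypotheses of `LongAbs.eq_or_eq` -/
structure Setup (X : Type*) [Group X] (E1 E2 : Subgroup X) (z : X) (F : Type*) [Field F]
    [Fintype F] : Prop where
  odd : Odd (Fintype.card F)
  s1 : E1.IsSubnormal
  e1 : Nonempty (E1 ≃* Matrix.SpecialLinearGroup (Fin 2) F)
  s2 : E2.IsSubnormal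
  comm : ∀ x ∈ E1, ∀ y ∈ E2, x * y = y * x
  zc : z ∈ center X
  zz : z * z = 1
  alt : Nonempty (E2 ≃* Matrix.SpecialLinearGroup (Fin 2) F) ∨
    (IsQuasisimple E2 ∧ Even (Nat.card E2) ∧ z ∉ E2 ∧ (Fintype.card F = 3 → center E2 = ⊥)) ∨ E2 = ⊥
  ab : ∀ x ∈ centralizer ((E1 ⊔ E2 : Subgroup X) : Set X),
    ∀ y ∈ centralizer ((E1 ⊔ E2 : Subgroup X) : Set X), x * y = y * x
  three : Fintype.card F = 3 → ∀ x : X, x * x * x = 1 → x ∈ E1 ⊔ E2

variable {X : Type*} [Group X] {E1 E2 : Subgroup X} {z : X} {F : Type*} [Field F] [Fintype F]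

theorem Setup.eq_or_eq [Finite X] (h : Setup X E1 E2 z F) {K : Subgroup X} {F' : Type*} [Field F']
    [Fintype F'] (ho' : Odd (Fintype.card F')) (hK : K.IsSubnormal)
    (eK : K ≃* Matrix.SpecialLinearGroup (Fin 2) F') (hzK : z ∈ K) : K = E1 ∨ K = E2 := by
  obtain ⟨e1⟩ := h.e1
  refine LongAbs.eq_or_eq h.odd ho' hK eK h.s1 e1 h.s2 h.comm hzK ?_ h.ab h.three
  rcases h.alt with h1 | ⟨h1, -, h2, h3⟩ | h1
  · exact Or.inl h1
  · exact Or.inr (Or.inl ⟨h1, h2, h3⟩)
  · exact Or.inr (Or.inr h1)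

/-! ### small facts on odd orders -/

theorem oddCore_pow_card [Finite X] {x : X} (hx : x ∈ oddCore X) :
    Odd (Nat.card (oddCore X)) ∧ x ^ Nat.card (oddCore X) = 1 := by
  refine ⟨Nat.coprime_two_right.1 (Lib.Cores.pPrimeCore_coprime 2), ?_⟩
  have h1 : (⟨x, hx⟩ : oddCore X) ^ Nat.card (oddCore X) = 1 := pow_card_eq_one'
  exact congrArg Subtype.val h1

theorem eq_one_of_sq [Finite X] {x : X} (hx : x ∈ oddCore X) (h : x * x = 1) : x = 1 := by
  obtain ⟨h1, h2⟩ := oddCore_pow_card hx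
  obtain ⟨k, hk⟩ := h1
  rw [hk, pow_add, pow_mul, pow_two, h, one_pow, one_mul, pow_one] at h2
  exact h2

theorem normal_core (X : Type*) [Group X] : (oddCore X).Normal := Lib.Cores.pPrimeCore_normal 2

/-- a component of even order commutes with the odd core -/
theorem component_comm_core [Finite X] {E : Subgroup X} (hE : IsComponent E) (hev : Even (Nat.card E))
    {x y : X} (hx : x ∈ E) (hy : y ∈ oddCore X) : x * y = y * x := by
  rcases component_le_or_commutator_eq_bot hE (normal_core X).isSubnormal with h | h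
  · exfalso
    have h1 : Nat.card E ∣ Nat.card (oddCore X) := card_dvd_of_le h
    have h2 : Odd (Nat.card (oddCore X)) :=
      Nat.coprime_two_right.1 (Lib.Cores.pPrimeCore_coprime 2)
    exact (Nat.not_even_iff_odd.2 h2) (hev.trans_dvd h1)
  · rw [commutator_comm, commutator_eq_bot_iff_le_centralizer] at h
    exact (mem_centralizer_iff.1 (h hy) x hx)

theorem even_SL2 {E : Subgroup X} [Finite X] {F : Type*} [Field F] [Fintype F]
    (ho : Odd (Fintype.card F)) (e : E ≃* Matrix.SpecialLinearGroup (Fin 2) F) :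
    Even (Nat.card E) := by
  have h2 := SLQuasisimple.two_ne_zero_of_odd ho
  set x : E := e.symm (-1) with hx
  have h3 : x ≠ 1 := by
    intro h
    have h4 : (-1 : Matrix.SpecialLinearGroup (Fin 2) F) = 1 := by
      rw [← e.apply_symm_apply (-1), ← hx, h, map_one]
    have h5 := congrArg (fun g : Matrix.SpecialLinearGroup (Fin 2) F =>
      (g : Matrix (Fin 2) (Fin 2) F) 0 0) h4
    simp at h5
    apply h2
    have : (1 : F) + 1 = 0 := by nth_rewrite 1 [← h5]; ring
    rw [← this]; norm_num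
  have h4 : x ^ 2 = 1 := by
    rw [hx, ← map_pow]
    simp
  have h5 : orderOf x = 2 := orderOf_eq_prime h4 h3
  exact (even_iff_two_dvd.2 (h5 ▸ orderOf_dvd_natCard x))

/-- central elements of `SL₂(F)` are involutions -/
theorem sq_of_central {E : Subgroup X} {F : Type*} [Field F]
    (e : E ≃* Matrix.SpecialLinearGroup (Fin 2) F) {x : X} (hx : x ∈ E)
    (h : ∀ y ∈ E, y * x = x * y) : x * x = 1 := by
  have h1 : e ⟨x, hx⟩ ∈ center (Matrix.SpecialLinearGroup (Fin 2) F) := by
    rw [mem_center_iff]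
    intro g
    have h2 := h (e.symm g) (e.symm g).2
    have h3 : e.symm g * ⟨x, hx⟩ = ⟨x, hx⟩ * e.symm g := Subtype.ext h2
    have h4 := congrArg e h3
    rwa [map_mul, map_mul, e.apply_symm_apply] at h4
  rw [Matrix.SpecialLinearGroup.mem_center_iff] at h1
  obtain ⟨r, hr, hr'⟩ := h1
  have h5 : e ⟨x, hx⟩ * e ⟨x, hx⟩ = 1 := by
    apply Subtype.ext
    rw [Matrix.SpecialLinearGroup.coe_mul, ← hr', ← map_mul, Matrix.SpecialLinearGroup.coe_one]
    rw [Fintype.card_fin, pow_two] at hr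
    rw [hr, map_one]
  rw [← map_mul, ← map_one e] at h5
  exact congrArg Subtype.val (e.injective h5)

/-- `O(X)` meets `SL₂(3)`-subgroups trivially -/
theorem inf_core_three [Finite X] {E : Subgroup X} (e : E ≃* S3) {x : X} (hx : x ∈ E)
    (hxO : x ∈ oddCore X) : x = 1 := by
  have hN := normal_core X
  have h3 : ∀ c ∈ E, c ∈ oddCore X → c * c * c = 1 → c = 1 := by
    intro c hc hcO hc3
    by_contra hc1
    have hle : ∀ q ∈ QQ4 E, q = 1 := by
      intro q hq
      have h4 : q * q * (q * q) = 1 := ((mem_QQ4 e).1 hq).2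
      obtain ⟨u, hu, v, hv, huv⟩ := exists_comm e hc hc3 hc1 hq
      have hqO : q ∈ oddCore X := by
        rw [huv]
        refine mul_mem (mul_mem (hN.conj_mem _ hcO u) (inv_mem hcO))
          (mul_mem (hN.conj_mem _ hcO v) (inv_mem hcO))
      exact eq_one_of_sq hqO (eq_one_of_sq (mul_mem hqO hqO) h4)
    obtain ⟨a, ha, b, hb, hab⟩ := nonabelian e
    exact hab (by rw [hle a ha, hle b hb])
  have h24 : x ^ 24 = 1 := by
    rw [← card_E e]
    exact congrArg Subtype.val (pow_card_eq_one' (x := (⟨x, hx⟩ : E)))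
  have h8 : x ^ 8 = 1 := by
    apply h3 _ (pow_mem hx 8) (pow_mem hxO 8)
    rw [← pow_add, ← pow_add]
    exact h24
  have h4 : x ^ 4 = 1 := eq_one_of_sq (pow_mem hxO 4) (by rw [← pow_add]; exact h8)
  have h2 : x ^ 2 = 1 := eq_one_of_sq (pow_mem hxO 2) (by rw [← pow_add]; exact h4)
  exact eq_one_of_sq hxO (by rw [← pow_two]; exact h2)

namespace Setup

variable (h : Setup X E1 E2 z F)
include h

theorem equiv1 (h3 : Fintype.card F = 3) : Nonempty (E1 ≃* S3) := by
  obtain ⟨e⟩ := h.e1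
  obtain ⟨f⟩ := equiv_S3 h3
  exact ⟨e.trans f⟩

theorem comp1 (h3 : Fintype.card F ≠ 3) : IsComponent E1 := by
  obtain ⟨e⟩ := h.e1
  exact ⟨h.s1, ComponentNormalize.quasisimple_congr e.symm (quasisimple_SL2 h.odd h3)⟩

theorem inf2 [Finite X] (h3 : Fintype.card F = 3) {x : X} (hx : x ∈ E2) (hxO : x ∈ oddCore X) : x = 1 := by
  rcases h.alt with ⟨⟨e⟩⟩ | ⟨h1, h2, h4, h5⟩ | h1
  · obtain ⟨f⟩ := equiv_S3 h3
    exact inf_core_three (e.trans f) hx hxO
  · have h6 : (⟨x, hx⟩ : E2) ∈ center E2 := by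
      rw [mem_center_iff]
      intro g
      exact Subtype.ext (component_comm_core ⟨h.s2, h1⟩ h2 g.2 hxO)
    rw [h5 h3, mem_bot] at h6
    exact congrArg Subtype.val h6
  · rw [h1, mem_bot] at hx
    exact hx

theorem normal1 {x y : X} (hx : x ∈ E1 ⊔ E2) (hy : y ∈ E1) : x * y * x⁻¹ ∈ E1 := by
  obtain ⟨a, ha, b, hb, rfl⟩ := mem_sup_comm h.comm hx
  have h1 := h.comm y hy b hb
  have : a * b * y * (a * b)⁻¹ = a * y * a⁻¹ := by
    calc a * b * y * (a * b)⁻¹ = a * (b * y) * b⁻¹ * a⁻¹ := by group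
      _ = a * (y * b) * b⁻¹ * a⁻¹ := by rw [h1]
      _ = _ := by group
  rw [this]
  exact mul_mem (mul_mem ha hy) (inv_mem ha)

theorem normal2 {x y : X} (hx : x ∈ E1 ⊔ E2) (hy : y ∈ E2) : x * y * x⁻¹ ∈ E2 := by
  obtain ⟨a, ha, b, hb, rfl⟩ := mem_sup_comm h.comm hx
  have h1 := h.comm a ha _ (mul_mem (mul_mem hb hy) (inv_mem hb))
  have : a * b * y * (a * b)⁻¹ = b * y * b⁻¹ := by
    calc a * b * y * (a * b)⁻¹ = a * (b * y * b⁻¹) * a⁻¹ := by group
      _ = _ := by rw [h1]; group
  rw [this]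
  exact mul_mem (mul_mem hb hy) (inv_mem hb)

/-- for `|F| = 3`, `O(X) ∩ E₁E₂ = 1` -/
theorem inf_three [Finite X] (h3 : Fintype.card F = 3) {w : X} (hw : w ∈ E1 ⊔ E2)
    (hwO : w ∈ oddCore X) : w = 1 := by
  have hN := normal_core X
  obtain ⟨e1⟩ := h.equiv1 h3
  -- `w` commutes with `E1` and `E2`
  have c1 : ∀ y ∈ E1, y * w = w * y := by
    intro y hy
    have h4 : y * (w * y⁻¹ * w⁻¹) ∈ E1 := mul_mem hy (h.normal1 hw (inv_mem hy))
    have h5 : y * (w * y⁻¹ * w⁻¹) ∈ oddCore X := by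
      have : y * (w * y⁻¹ * w⁻¹) = (y * w * y⁻¹) * w⁻¹ := by group
      rw [this]
      exact mul_mem (hN.conj_mem _ hwO y) (inv_mem hwO)
    have h6 := inf_core_three e1 h4 h5
    calc y * w = (y * (w * y⁻¹ * w⁻¹)) * w * y := by group
      _ = w * y := by rw [h6, one_mul]
  have c2 : ∀ y ∈ E2, y * w = w * y := by
    intro y hy
    have h4 : y * (w * y⁻¹ * w⁻¹) ∈ E2 := mul_mem hy (h.normal2 hw (inv_mem hy))
    have h5 : y * (w * y⁻¹ * w⁻¹) ∈ oddCore X := by
      have : y * (w * y⁻¹ * w⁻¹) = (y * w * y⁻¹) * w⁻¹ := by group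
      rw [this]
      exact mul_mem (hN.conj_mem _ hwO y) (inv_mem hwO)
    have h6 := h.inf2 h3 h4 h5
    calc y * w = (y * (w * y⁻¹ * w⁻¹)) * w * y := by group
      _ = w * y := by rw [h6, one_mul]
  obtain ⟨a, ha, b, hb, rfl⟩ := mem_sup_comm h.comm hw
  have ha2 : a * a = 1 := by
    obtain ⟨e⟩ := h.e1
    refine sq_of_central e ha fun y hy => ?_
    have h4 := c1 y hy
    have h5 := h.comm y hy b hb
    calc y * a = y * (a * b) * b⁻¹ := by group
      _ = a * (b * y) * b⁻¹ := by rw [h4]; group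
      _ = a * y := by rw [← h5]; group
  have c2' : ∀ y ∈ E2, y * b = b * y := by
    intro y hy
    have h4 := c2 y hy
    have h5 := h.comm a ha y hy
    calc y * b = a⁻¹ * (a * y) * b := by group
      _ = a⁻¹ * (y * (a * b)) := by rw [h5]; group
      _ = b * y := by rw [h4]; group
  have hb2 : b * b = 1 := by
    rcases h.alt with ⟨⟨e⟩⟩ | ⟨h1, h2, h4, h5⟩ | h1
    · exact sq_of_central e hb c2'
    · have h6 : (⟨b, hb⟩ : E2) ∈ center E2 := by
        rw [mem_center_iff]
        intro g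
        exact Subtype.ext (c2' g g.2)
      rw [h5 h3, mem_bot] at h6
      have : b = 1 := congrArg Subtype.val h6
      rw [this, one_mul]
    · rw [h1, mem_bot] at hb
      rw [hb, one_mul]
  refine eq_one_of_sq hwO ?_
  have h5 := h.comm a ha b hb
  calc a * b * (a * b) = a * (b * a) * b := by group
    _ = (a * a) * (b * b) := by rw [← h5]; group
    _ = 1 := by rw [ha2, hb2, one_mul]

theorem three_aux [Finite X] (h3 : Fintype.card F = 3) {E : Subgroup X} (e : E ≃* S3)
    (hE : E ≤ E1 ⊔ E2) {x y : X} (hx : x ∈ E) (hy : y ∈ oddCore X) : x * y = y * x := by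
  have hN := normal_core X
  have key : E ≤ centralizer {y} := by
    refine le_of_three e fun c hc hc3 => ?_
    rw [mem_centralizer_singleton_iff]
    have h1 : y * c * y⁻¹ ∈ E1 ⊔ E2 := by
      apply h.three h3
      calc y * c * y⁻¹ * (y * c * y⁻¹) * (y * c * y⁻¹) = y * (c * c * c) * y⁻¹ := by group
        _ = 1 := by rw [hc3]; group
    have h2 : c⁻¹ * (y * c * y⁻¹) ∈ E1 ⊔ E2 := mul_mem (inv_mem (hE hc)) h1
    have h4 : c⁻¹ * (y * c * y⁻¹) ∈ oddCore X := by
      have : c⁻¹ * (y * c * y⁻¹) = (c⁻¹ * y * c⁻¹⁻¹) * y⁻¹ := by group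
      rw [this]
      exact mul_mem (hN.conj_mem _ hy _) (inv_mem hy)
    have h5 := h.inf_three h3 h2 h4
    calc c * y = c * (c⁻¹ * (y * c * y⁻¹)) * y := by rw [h5]; group
      _ = y * c := by group
  exact mem_centralizer_singleton_iff.1 (key hx)

theorem comm1 [Finite X] {x y : X} (hx : x ∈ E1) (hy : y ∈ oddCore X) : x * y = y * x := by
  by_cases h3 : Fintype.card F = 3
  · obtain ⟨e⟩ := h.equiv1 h3
    exact h.three_aux h3 e le_sup_left hx hy
  · obtain ⟨e⟩ := h.e1
    exact component_comm_core (h.comp1 h3) (even_SL2 h.odd e) hx hy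

theorem comm2 [Finite X] {x y : X} (hx : x ∈ E2) (hy : y ∈ oddCore X) : x * y = y * x := by
  rcases h.alt with ⟨⟨e⟩⟩ | ⟨h1, h2, h4, h5⟩ | h1
  · by_cases h3 : Fintype.card F = 3
    · obtain ⟨f⟩ := equiv_S3 h3
      exact h.three_aux h3 (e.trans f) le_sup_right hx hy
    · exact component_comm_core ⟨h.s2, ComponentNormalize.quasisimple_congr e.symm
        (quasisimple_SL2 h.odd h3)⟩ (even_SL2 h.odd e) hx hy
  · exact component_comm_core ⟨h.s2, h1⟩ h2 hx hy
  · rw [h1, mem_bot] at hx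
    rw [hx, one_mul, mul_one]

end Setup

/-- the quotient map modulo the odd core -/
abbrev qt (X : Type*) [Group X] : X →* X ⧸ oddCore X := QuotientGroup.mk' (oddCore X)

theorem qt_surjective : Function.Surjective (qt X) := QuotientGroup.mk'_surjective _

theorem qt_eq_one {x : X} : qt X x = 1 ↔ x ∈ oddCore X := QuotientGroup.eq_one_iff x

/-- a subgroup meeting the core trivially maps isomorphically -/
noncomputable def mapEquiv {E : Subgroup X} (h : ∀ x ∈ E, x ∈ oddCore X → x = 1) :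
    E ≃* E.map (qt X) :=
  MulEquiv.ofBijective ((qt X).subgroupMap E) ⟨by
    rw [injective_iff_map_eq_one]
    intro a ha
    have h1 : qt X (a : X) = 1 := congrArg Subtype.val ha
    exact Subtype.ext (h a a.2 (qt_eq_one.1 h1)), (qt X).subgroupMap_surjective E⟩

/-- a perfect subgroup centralising the abelian core, normalised modulo the core by `x`, commutes
with `x` -/
theorem comm_of_perfect {E : Subgroup X} (hE : Group.IsPerfect E)
    (hO : ∀ a ∈ oddCore X, ∀ b ∈ oddCore X, a * b = b * a)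
    (hEO : ∀ a ∈ E, ∀ b ∈ oddCore X, a * b = b * a) {x : X}
    (hx : ∀ e ∈ E, e⁻¹ * (x * e * x⁻¹) ∈ oddCore X) {e : X} (he : e ∈ E) : x * e = e * x := by
  let φ : E →* X :=
    { toFun := fun e => (e : X)⁻¹ * (x * e * x⁻¹)
      map_one' := by simp
      map_mul' := by
        intro a b
        have h1 := hEO (b : X)⁻¹ (E.inv_mem b.2) _ (hx a a.2)
        calc ((a * b : E) : X)⁻¹ * (x * (a * b : E) * x⁻¹)
            = (b : X)⁻¹ * ((a : X)⁻¹ * (x * a * x⁻¹)) * (x * b * x⁻¹) := by
              rw [coe_mul]; group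
          _ = (a : X)⁻¹ * (x * a * x⁻¹) * ((b : X)⁻¹ * (x * b * x⁻¹)) := by rw [h1]; group }
  have h1 : commutator E ≤ φ.ker := by
    rw [commutator_def, commutator_le]
    intro a _ b _
    rw [MonoidHom.mem_ker, map_commutatorElement, commutatorElement_eq_one_iff_mul_comm]
    exact hO _ (hx a a.2) _ (hx b b.2)
  have h2 : (⟨e, he⟩ : E) ∈ φ.ker := h1 (by rw [hE.commutator_eq_top]; exact mem_top _)
  have h3 : e⁻¹ * (x * e * x⁻¹) = 1 := h2
  calc x * e = e * (e⁻¹ * (x * e * x⁻¹)) * x := by group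
    _ = e * x := by rw [h3, mul_one]

namespace Setup

variable (h : Setup X E1 E2 z F)
include h

theorem core_comm [Finite X] {x y : X} (hx : x ∈ E1 ⊔ E2) (hy : y ∈ oddCore X) : x * y = y * x := by
  obtain ⟨a, ha, b, hb, rfl⟩ := mem_sup_comm h.comm hx
  have h1 := h.comm1 ha hy
  have h2 := h.comm2 hb hy
  calc a * b * y = a * (b * y) := by group
    _ = a * y * b := by rw [h2]; group
    _ = y * (a * b) := by rw [h1]; group

theorem core_abelian [Finite X] : ∀ a ∈ oddCore X, ∀ b ∈ oddCore X, a * b = b * a := by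
  intro a ha b hb
  exact h.ab a (mem_centralizer_iff.2 fun x hx => h.core_comm hx ha) b
    (mem_centralizer_iff.2 fun x hx => h.core_comm hx hb)

theorem inf1 [Finite X] {x : X} (hx : x ∈ E1) (hxO : x ∈ oddCore X) : x = 1 := by
  obtain ⟨e⟩ := h.e1
  exact eq_one_of_sq hxO (sq_of_central e hx fun y hy => h.comm1 hy hxO)

theorem lift_comm [Finite X] {x : X}
    (hx : qt X x ∈ centralizer ((E1.map (qt X) ⊔ E2.map (qt X) : Subgroup (X ⧸ oddCore X)) :
      Set (X ⧸ oddCore X))) : x ∈ centralizer ((E1 ⊔ E2 : Subgroup X) : Set X) := by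
  have h0 : ∀ e ∈ E1 ⊔ E2, e⁻¹ * (x * e * x⁻¹) ∈ oddCore X := by
    intro e he
    have h1 : qt X e ∈ E1.map (qt X) ⊔ E2.map (qt X) := by
      rw [← Subgroup.map_sup]
      exact mem_map_of_mem _ he
    have h2 := mem_centralizer_iff.1 hx _ h1
    rw [← qt_eq_one, map_mul, map_mul, map_mul, map_inv, map_inv, ← h2]
    group
  have h1 : ∀ e ∈ E1, x * e = e * x := by
    intro e he
    by_cases h3 : Fintype.card F = 3
    · obtain ⟨f⟩ := h.equiv1 h3
      have key : E1 ≤ centralizer {x} := by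
        refine le_of_three f fun c hc hc3 => ?_
        rw [mem_centralizer_singleton_iff]
        have h4 : x * c * x⁻¹ ∈ E1 ⊔ E2 := by
          apply h.three h3
          calc x * c * x⁻¹ * (x * c * x⁻¹) * (x * c * x⁻¹) = x * (c * c * c) * x⁻¹ := by group
            _ = 1 := by rw [hc3]; group
        have h5 := h.inf_three h3 (mul_mem (inv_mem (le_sup_left (a := E1) hc)) h4)
          (h0 c (le_sup_left (a := E1) hc))
        calc c * x = c * (c⁻¹ * (x * c * x⁻¹)) * x := by rw [h5]; group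
          _ = x * c := by group
      exact (mem_centralizer_singleton_iff.1 (key he)).symm
    · exact comm_of_perfect (h.comp1 h3).2.1 h.core_abelian (fun a ha b hb => h.comm1 ha hb)
        (fun e he => h0 e (le_sup_left (a := E1) he)) he
  have h2 : ∀ e ∈ E2, x * e = e * x := by
    intro e he
    rcases h.alt with ⟨⟨f⟩⟩ | ⟨h1, h2, h4, h5⟩ | h1
    · by_cases h3 : Fintype.card F = 3
      · obtain ⟨g⟩ := equiv_S3 h3
        have key : E2 ≤ centralizer {x} := by
          refine le_of_three (f.trans g) fun c hc hc3 => ?_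
          rw [mem_centralizer_singleton_iff]
          have h4 : x * c * x⁻¹ ∈ E1 ⊔ E2 := by
            apply h.three h3
            calc x * c * x⁻¹ * (x * c * x⁻¹) * (x * c * x⁻¹) = x * (c * c * c) * x⁻¹ := by group
              _ = 1 := by rw [hc3]; group
          have h5 := h.inf_three h3 (mul_mem (inv_mem (le_sup_right (a := E1) hc)) h4)
            (h0 c (le_sup_right (a := E1) hc))
          calc c * x = c * (c⁻¹ * (x * c * x⁻¹)) * x := by rw [h5]; group
            _ = x * c := by group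
        exact (mem_centralizer_singleton_iff.1 (key he)).symm
      · exact comm_of_perfect (ComponentNormalize.quasisimple_congr f.symm
          (quasisimple_SL2 h.odd h3)).1 h.core_abelian (fun a ha b hb => h.comm2 ha hb)
          (fun e he => h0 e (le_sup_right (a := E1) he)) he
    · exact comm_of_perfect h1.1 h.core_abelian (fun a ha b hb => h.comm2 ha hb)
        (fun e he => h0 e (le_sup_right (a := E1) he)) he
    · rw [h1, mem_bot] at he
      rw [he, one_mul, mul_one]
  rw [mem_centralizer_iff]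
  intro e he
  obtain ⟨a, ha, b, hb, rfl⟩ := mem_sup_comm h.comm he
  calc a * b * x = a * (b * x) := by group
    _ = (a * x) * b := by rw [← h2 b hb]; group
    _ = x * (a * b) := by rw [← h1 a ha]; group

theorem lift_three [Finite X] (h3 : Fintype.card F = 3) {y : X ⧸ oddCore X} (hy : y * y * y = 1) :
    y ∈ E1.map (qt X) ⊔ E2.map (qt X) := by
  obtain ⟨x, rfl⟩ := qt_surjective y
  have hx3 : x ^ 3 ∈ oddCore X := by
    rw [← qt_eq_one, map_pow, pow_succ, pow_two, hy]
  have hco : Nat.Coprime 3 (Nat.card (oddCore X)) := by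
    rw [Nat.Prime.coprime_iff_not_dvd Nat.prime_three]
    intro hd
    have : Fact (Nat.Prime 3) := ⟨Nat.prime_three⟩
    obtain ⟨o, ho⟩ := exists_prime_orderOf_dvd_card' 3 hd
    have h4 : (o : X) * o * o = 1 := by
      have : o ^ 3 = 1 := by rw [← ho]; exact pow_orderOf_eq_one o
      simpa [pow_succ] using congrArg Subtype.val this
    have h5 := h.inf_three h3 (h.three h3 _ h4) o.2
    have h6 : o = 1 := Subtype.ext h5
    rw [h6, orderOf_one] at ho
    norm_num at ho
  obtain ⟨m, hm1, hm2⟩ := Nat.chineseRemainder hco 1 0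
  have h4 : (x ^ m) * (x ^ m) * (x ^ m) = 1 := by
    obtain ⟨k, hk⟩ := (Nat.modEq_zero_iff_dvd).1 hm2
    rw [← pow_two, ← pow_succ, ← pow_mul, mul_comm, pow_mul, hk, pow_mul, (oddCore_pow_card hx3).2,
      one_pow]
  have h5 : qt X (x ^ m) = qt X x := by
    have h1 : qt X x ^ 3 = 1 := by rw [pow_succ, pow_two, hy]
    have h4 : m = 3 * (m / 3) + 1 := by
      have : m % 3 = 1 := hm1
      omega
    rw [map_pow, h4, pow_add, pow_mul, h1, one_pow, one_mul, pow_one]
  rw [← h5, ← Subgroup.map_sup]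
  exact mem_map_of_mem _ (h.three h3 _ h4)

theorem z_notMem [Finite X] (hz : z ∉ E2) : qt X z ∉ E2.map (qt X) := by
  rintro ⟨e, he, hez⟩
  have h1 : e⁻¹ * z ∈ oddCore X := by
    rw [← qt_eq_one, map_mul, map_inv, hez]; group
  set o := e⁻¹ * z with ho
  have h2 : z = e * o := by rw [ho]; group
  have h3 : Commute e o := h.comm2 he h1
  obtain ⟨⟨k, hk⟩, h5⟩ := oddCore_pow_card h1
  have h6 : z ^ Nat.card (oddCore X) = z := by
    rw [hk, pow_add, pow_mul, pow_two, h.zz, one_pow, one_mul, pow_one]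
  apply hz
  rw [← h6, h2, h3.mul_pow, h5, mul_one]
  exact pow_mem he _

/-- **the hypotheses pass to `X ⧸ O(X)`** -/
theorem quot [Finite X] : Setup (X ⧸ oddCore X) (E1.map (qt X)) (E2.map (qt X)) (qt X z) F where
  odd := h.odd
  s1 := h.s1.map qt_surjective
  e1 := by
    obtain ⟨e⟩ := h.e1
    exact ⟨(mapEquiv fun x hx hxO => h.inf1 hx hxO).symm.trans e⟩
  s2 := h.s2.map qt_surjective
  comm := by
    rintro _ ⟨x, hx, rfl⟩ _ ⟨y, hy, rfl⟩
    rw [← map_mul, ← map_mul, h.comm x hx y hy]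
  zc := by
    rw [mem_center_iff]
    intro g
    obtain ⟨g, rfl⟩ := qt_surjective g
    rw [← map_mul, ← map_mul, mem_center_iff.1 h.zc]
  zz := by rw [← map_mul, h.zz, map_one]
  alt := by
    rcases h.alt with ⟨⟨e⟩⟩ | ⟨h1, h2, h4, h5⟩ | h1
    · left
      refine ⟨(mapEquiv fun x hx hxO => ?_).symm.trans e⟩
      exact eq_one_of_sq hxO (sq_of_central e hx fun y hy => h.comm2 hy hxO)
    · right; left
      -- an involution of `E2`
      have : Fact (Nat.Prime 2) := ⟨Nat.prime_two⟩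
      obtain ⟨t, ht⟩ := exists_prime_orderOf_dvd_card' 2 h2.two_dvd
      have ht2 : (t : X) * t = 1 := by
        have : t ^ 2 = 1 := by rw [← ht]; exact pow_orderOf_eq_one t
        simpa [pow_two] using congrArg Subtype.val this
      have ht1 : (t : X) ≠ 1 := by
        intro h6
        have : t = 1 := Subtype.ext h6
        rw [this, orderOf_one] at ht
        norm_num at ht
      have htq : qt X (t : X) ≠ 1 := fun h6 => ht1 (eq_one_of_sq (qt_eq_one.1 h6) ht2)
      let s : E2.map (qt X) := ⟨qt X (t : X), mem_map_of_mem _ t.2⟩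
      have hs1 : s ≠ 1 := fun h6 => htq (congrArg Subtype.val h6)
      have hs2 : s ^ 2 = 1 := by
        apply Subtype.ext
        change (qt X (t : X)) ^ 2 = 1
        rw [pow_two, ← map_mul, ht2, map_one]
      have hs : orderOf s = 2 := orderOf_eq_prime hs2 hs1
      refine ⟨?_, ?_, h.z_notMem h4, ?_⟩
      · exact ComponentImage.isQuasisimple_of_surjective h1 _
          ((qt X).subgroupMap_surjective E2) ⟨⟨s, 1, hs1⟩⟩
      · have h6 := orderOf_dvd_natCard s
        rw [hs] at h6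
        exact even_iff_two_dvd.2 h6
      · intro h3
        let e : E2 ≃* E2.map (qt X) := mapEquiv fun x hx hxO => h.inf2 h3 hx hxO
        rw [eq_bot_iff]
        intro y hy
        have h6 : e.symm y ∈ center E2 := by
          rw [mem_center_iff]
          intro g
          apply e.injective
          rw [map_mul, map_mul, e.apply_symm_apply, mem_center_iff.1 hy]
        rw [h5 h3, mem_bot] at h6
        rw [mem_bot, ← e.apply_symm_apply y, h6, map_one]
    · right; right
      rw [h1, Subgroup.map_bot]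
  ab := by
    intro x hx y hy
    obtain ⟨x, rfl⟩ := qt_surjective x
    obtain ⟨y, rfl⟩ := qt_surjective y
    rw [← map_mul, ← map_mul, h.ab x (h.lift_comm hx) y (h.lift_comm hy)]
  three := fun h3 y hy => h.lift_three h3 hy

/-- `E ≤ K O(X)` implies `E ≤ K` (for `E = E₁`, `E₂`) -/
theorem le_of_le_sup [Finite X] {K E : Subgroup X} (hK : K.IsSubnormal)
    (hEc : ∀ x ∈ E, ∀ y ∈ oddCore X, x * y = y * x)
    (hE : IsComponent E ∨ (Fintype.card F = 3 ∧ E ≤ E1 ⊔ E2 ∧ Nonempty (E ≃* S3)))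
    (hle : E ≤ K ⊔ oddCore X) : E ≤ K := by
  rcases hE with hE | ⟨h3, hE12, ⟨e⟩⟩
  · rcases component_le_or_commutator_eq_bot hE hK with h1 | h1
    · exact h1
    · exfalso
      rw [commutator_comm, commutator_eq_bot_iff_le_centralizer] at h1
      have h2 : K ⊔ oddCore X ≤ centralizer (E : Set X) := by
        refine sup_le ?_ ?_
        · exact h1
        · intro y hy
          exact mem_centralizer_iff.2 fun x hx => hEc x hx y hy
      apply quasisimple_not_isMulCommutative hE.2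
      exact ⟨⟨fun a b => Subtype.ext (mem_centralizer_iff.1 (h2 (hle b.2)) a a.2)⟩⟩
  · refine le_of_three e fun c hc hc3 => ?_
    have hN := normal_core X
    obtain ⟨k, hk, o, ho, hko⟩ := mem_sup_of_normal_right.1 (hle hc)
    -- `3` does not divide `|O(X)|`
    have hco : Nat.Coprime 3 (Nat.card (oddCore X)) := by
      rw [Nat.Prime.coprime_iff_not_dvd Nat.prime_three]
      intro hd
      have : Fact (Nat.Prime 3) := ⟨Nat.prime_three⟩
      obtain ⟨o, ho⟩ := exists_prime_orderOf_dvd_card' 3 hd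
      have h4 : (o : X) * o * o = 1 := by
        have : o ^ 3 = 1 := by rw [← ho]; exact pow_orderOf_eq_one o
        simpa [pow_succ] using congrArg Subtype.val this
      have h5 := h.inf_three h3 (h.three h3 _ h4) o.2
      have h6 : o = 1 := Subtype.ext h5
      rw [h6, orderOf_one] at ho
      norm_num at ho
    obtain ⟨m, hm1, hm2⟩ := Nat.chineseRemainder hco 1 0
    have h1 : k = c * o⁻¹ := by rw [← hko]; group
    have h2 : Commute c o⁻¹ := hEc c hc _ (inv_mem ho)
    have h4 : k ^ m = c := by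
      obtain ⟨j, hj⟩ := (Nat.modEq_zero_iff_dvd).1 hm2
      have h5 : o⁻¹ ^ m = 1 := by
        rw [hj, pow_mul, (oddCore_pow_card (inv_mem ho)).2, one_pow]
      have h6 : c ^ m = c := by
        have h7 : c ^ 3 = 1 := by rw [pow_succ, pow_two, hc3]
        have h8 : m = 3 * (m / 3) + 1 := by
          have : m % 3 = 1 := hm1
          omega
        rw [h8, pow_add, pow_mul, h7, one_pow, one_mul, pow_one]
      rw [h1, h2.mul_pow, h5, h6, mul_one]
    rw [← h4]
    exact pow_mem hk m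

theorem type1 : IsComponent E1 ∨ (Fintype.card F = 3 ∧ E1 ≤ E1 ⊔ E2 ∧ Nonempty (E1 ≃* S3)) := by
  by_cases h3 : Fintype.card F = 3
  · exact Or.inr ⟨h3, le_sup_left, h.equiv1 h3⟩
  · exact Or.inl (h.comp1 h3)

theorem type2 : IsComponent E2 ∨ (Fintype.card F = 3 ∧ E2 ≤ E1 ⊔ E2 ∧ Nonempty (E2 ≃* S3)) ∨
    E2 = ⊥ := by
  rcases h.alt with ⟨⟨f⟩⟩ | ⟨h1, h2, h4, h5⟩ | h1
  · by_cases h3 : Fintype.card F = 3
    · obtain ⟨g⟩ := equiv_S3 h3
      exact Or.inr (Or.inl ⟨h3, le_sup_right, ⟨f.trans g⟩⟩)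
    · exact Or.inl ⟨h.s2, ComponentNormalize.quasisimple_congr f.symm (quasisimple_SL2 h.odd h3)⟩
  · exact Or.inl ⟨h.s2, h1⟩
  · exact Or.inr (Or.inr h1)

/-- **F(L), abstract form with cores** -/
theorem main [Finite X] {K : Subgroup X} (hK : K.IsSubnormal) {F' : Type*} [Field F'] [Fintype F']
    (ho' : Odd (Fintype.card F')) (eK : ↥K ⧸ oddCore ↥K ≃* Matrix.SpecialLinearGroup (Fin 2) F')
    (hz : z ∈ K) :
    (E1 ≤ K ∧ K ≤ E1 ⊔ oddCore X) ∨
      (Nonempty (E2 ≃* Matrix.SpecialLinearGroup (Fin 2) F) ∧ E2 ≤ K ∧ K ≤ E2 ⊔ oddCore X) := by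
  obtain ⟨f, -⟩ := PCompQuot.exists_quotient_equiv 2 hK
  have hN := normal_core X
  have hker : ∀ E : Subgroup X, (E.map (qt X)).comap (qt X) = E ⊔ oddCore X := by
    intro E
    rw [comap_map_eq, QuotientGroup.ker_mk']
  rcases h.quot.eq_or_eq ho' (hK.map qt_surjective) (f.symm.trans eK) (mem_map_of_mem _ hz)
    with h1 | h1
  · left
    have h2 := congrArg (Subgroup.comap (qt X)) h1
    rw [hker, hker] at h2
    refine ⟨?_, ?_⟩
    · exact h.le_of_le_sup hK (fun x hx y hy => h.comm1 hx hy) h.type1 (by rw [h2]; exact le_sup_left)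
    · rw [← h2]; exact le_sup_left
  · right
    have h2 := congrArg (Subgroup.comap (qt X)) h1
    rw [hker, hker] at h2
    have hne : E2 ≠ ⊥ := by
      intro h3
      rw [h3, Subgroup.map_bot] at h1
      have h4 := even_SL2 ho' (f.symm.trans eK)
      rw [h1] at h4
      rw [Subgroup.card_bot] at h4
      exact absurd h4 (by decide)
    refine ⟨?_, ?_, ?_⟩
    · rcases h.alt with h3 | ⟨-, -, h3, -⟩ | h3
      · exact h3
      · exfalso
        apply h.z_notMem h3
        rw [← h1]; exact mem_map_of_mem _ hz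
      · exact absurd h3 hne
    · rcases h.type2 with h3 | h3 | h3
      · exact h.le_of_le_sup hK (fun x hx y hy => h.comm2 hx hy) (Or.inl h3)
          (by rw [h2]; exact le_sup_left)
      · exact h.le_of_le_sup hK (fun x hx y hy => h.comm2 hx hy) (Or.inr h3)
          (by rw [h2]; exact le_sup_left)
      · exact absurd h3 hne
    · rw [← h2]; exact le_sup_left

/-- a component which is not of type `SL₂(F)` does not contain `z` -/
theorem component_false [Finite X] {K : Subgroup X} (hK : IsComponent K)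
    (hne : ¬ Nonempty (K ≃* Matrix.SpecialLinearGroup (Fin 2) F)) (hz : z ∈ K) : False := by
  have key : ∀ E : Subgroup X, E.IsSubnormal →
      Nonempty (E ≃* Matrix.SpecialLinearGroup (Fin 2) F) → ⁅K, E⁆ = ⊥ := by
    rintro E hE ⟨e⟩
    by_cases h3 : Fintype.card F = 3
    · rcases component_le_or_commutator_eq_bot hK hE with h1 | h1
      · exfalso
        obtain ⟨f⟩ := equiv_S3 h3
        have h2 : Group.IsSolvable E := isSolvable_E (e.trans f)
        exact quasisimple_not_isSolvable hK.2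
          (Group.isSolvable_of_isSolvable_injective (f := inclusion h1) (inclusion_injective h1))
      · exact h1
    · apply component_commutator_eq_bot_of_ne hK ⟨hE, ComponentNormalize.quasisimple_congr e.symm
        (quasisimple_SL2 h.odd h3)⟩
      rintro rfl
      exact hne ⟨e⟩
  have h1 : ⁅K, E1⁆ = ⊥ := key E1 h.s1 h.e1
  have h2 : ⁅K, E2⁆ = ⊥ := by
    rcases h.alt with h3 | ⟨h3, h4, h5, h6⟩ | h3
    · exact key E2 h.s2 h3
    · apply component_commutator_eq_bot_of_ne hK ⟨h.s2, h3⟩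
      rintro rfl
      exact h5 hz
    · rw [h3, commutator_bot_right]
  rw [commutator_eq_bot_iff_le_centralizer] at h1 h2
  have hle : K ≤ centralizer ((E1 ⊔ E2 : Subgroup X) : Set X) := by
    intro x hx
    rw [mem_centralizer_iff]
    intro y hy
    obtain ⟨a, ha, b, hb, rfl⟩ := mem_sup_comm h.comm hy
    have h3 := mem_centralizer_iff.1 (h1 hx) a ha
    have h4 := mem_centralizer_iff.1 (h2 hx) b hb
    calc a * b * x = a * (b * x) := by group
      _ = (a * x) * b := by rw [h4]; group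
      _ = x * (a * b) := by rw [h3]; group
  apply quasisimple_not_isMulCommutative hK.2
  exact ⟨⟨fun a b => Subtype.ext (h.ab a (hle a.2) b (hle b.2))⟩⟩

/-- other quasisimple types (`2.A₇`) do not occur -/
theorem main_quasisimple [Finite X] {K : Subgroup X} (hK : K.IsSubnormal)
    (hq : IsQuasisimple (↥K ⧸ oddCore ↥K))
    (hne : ¬ Nonempty (↥K ⧸ oddCore ↥K ≃* Matrix.SpecialLinearGroup (Fin 2) F))
    (hz : z ∈ K) : False := by
  obtain ⟨f, -⟩ := PCompQuot.exists_quotient_equiv 2 hK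
  refine h.quot.component_false ⟨hK.map qt_surjective, ComponentNormalize.quasisimple_congr f hq⟩ ?_
    (mem_map_of_mem _ hz)
  rintro ⟨e⟩
  exact hne ⟨f.trans e⟩

end Setup

end Cfsg.Agent.Cit.LongCore
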