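import Cfsg.Agent.Cit.LongFiveB

/-!
# `F(L)`, part (C), `n = 5`: final statements
-/

set_option autoImplicit false

namespace Cfsg.Agent.Cit.LongFinal

open Subgroup Cfsg Matrix Cfsg.Agent.Cit.LongAbs Cfsg.Agent.Cit.LongBlock Cfsg.Agent.Cit.LongQuot
  Cfsg.Agent.Cit.LongMain Cfsg.Agent.Cit.LongModel Cfsg.Agent.Cit.LongInst Cfsg.Agent.Cit.LongTwo
  Cfsg.Agent.Cit.LongFive Cfsg.Agent.Cit.LongFiveB

/-- at most one involution -/
def OneInv (G : Type*) [Group G] : Prop :=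
  ∀ x y : G, x ≠ 1 → y ≠ 1 → x * x = 1 → y * y = 1 → x = y

/-- not commutative -/
def NonComm (G : Type*) [Group G] : Prop := ¬ ∀ x y : G, x * y = y * x

theorem OneInv.congr {G H : Type*} [Group G] [Group H] (e : G ≃* H) (h : OneInv G) : OneInv H := by
  intro x y hx hy hxx hyy
  apply e.symm.injective
  refine h _ _ ?_ ?_ ?_ ?_
  · rwa [ne_eq, EmbeddingLike.map_eq_one_iff]
  · rwa [ne_eq, EmbeddingLike.map_eq_one_iff]
  · rw [← map_mul, hxx, map_one]
  · rw [← map_mul, hyy, map_one]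

theorem NonComm.congr {G H : Type*} [Group G] [Group H] (e : G ≃* H) (h : NonComm G) : NonComm H := by
  intro h1
  apply h
  intro x y
  apply e.injective
  rw [map_mul, map_mul, h1]

/-- the index equivalence `5 = 4 + 1` -/
def e5 : Fin 5 ≃ Fin 4 ⊕ Fin 1 := (finSumFinEquiv (m := 4) (n := 1)).symm

theorem w_eq (F : Type*) [Field F] :
    (fromBlocks (-1) 0 0 (V1 F) : Matrix (Fin 2 ⊕ Fin 3) (Fin 2 ⊕ Fin 3) F).submatrix (ee 3) (ee 3) =
      (fromBlocks (-1) 0 0 1 : Matrix (Fin 4 ⊕ Fin 1) (Fin 4 ⊕ Fin 1) F).submatrix e5 e5 := by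
  have h2 : ∀ i : Fin 5, ee 3 i = if h : i.val < 2 then Sum.inl ⟨i.val, h⟩ else
      Sum.inr ⟨i.val - 2, by omega⟩ := by
    decide
  have h4 : ∀ i : Fin 5, e5 i = if h : i.val < 4 then Sum.inl ⟨i.val, h⟩ else
      Sum.inr ⟨i.val - 4, by omega⟩ := by
    decide
  ext i j
  rw [submatrix_apply, submatrix_apply, h2, h2, h4, h4]
  fin_cases i <;> fin_cases j <;> simp [V1]

/-- combination of `five_cases` and `no41` -/
theorem combine {Γ : Type*} [Group Γ] [Finite Γ] {F : Type*} [Field F] {T : Set (F →+* F)}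
    {R : Rep Γ F (Fin 3)} (hR : Model R T) {a b : F} (h2 : (2 : F) ≠ 0) (h : Quat T a b)
    {R' : RepG Γ F (Fin 4) (Fin 1)} (hR' : WModel R' T) (hq : IsQuasisimple (Un T (Fin 4)))
    (hv : R.ρ R'.t = fromBlocks (-1) 0 0 (V1 F)) (S : Sylow 2 (Γ ⧸ center Γ))
    {z : Γ ⧸ center Γ} (hz2 : z * z = 1) (hz1 : z ≠ 1) (hS : ∀ s ∈ S, (s * s) * z = z * (s * s))
    {K : Subgroup (Γ ⧸ center Γ)} (hK : K ≤ centralizer {z})
    (hsn : (K.subgroupOf (centralizer {z})).IsSubnormal)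
    (hKu : OneInv (↥K ⧸ oddCore ↥K)) (hKn : NonComm (↥K ⧸ oddCore ↥K)) :
    ∃ g, g * z * g⁻¹ = z0 R := by
  obtain ⟨g, hg | hg⟩ := five_cases hR h2 h hv S hz2 hz1 hS
  · exact ⟨g, hg⟩
  · exfalso
    obtain ⟨h3, h4, ⟨f⟩⟩ := conj_hyp g hK hsn
    rw [hg] at h3 h4
    have f' : (↥K ⧸ oddCore ↥K) ≃* (↥(K.map (MulAut.conj g).toMonoidHom) ⧸
        oddCore ↥(K.map (MulAut.conj g).toMonoidHom)) :=
      QuotientGroup.congr _ _ f (Lib.Cores.map_equiv_pPrimeCore _ 2)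
    exact no41 hR' h2 hq h3 h4 (hKu.congr f') (hKn.congr f')

section SL

variable {F : Type*} [Field F]

/-- `diag(-1,-1,-1,-1,1)` -/
def v5 (F : Type*) [Field F] : SpecialLinearGroup (Fin 5) F :=
  ⟨(fromBlocks (-1) 0 0 1 : Matrix (Fin 4 ⊕ Fin 1) (Fin 4 ⊕ Fin 1) F).submatrix e5 e5, by
    rw [det_submatrix_equiv_self, det_fromBlocks_zero₂₁, det_one, mul_one, det_neg]
    simp [pow_succ]⟩

/-- `SL₅` with blocks `4 + 1` -/
def sl41 (F : Type*) [Field F] : RepG (SpecialLinearGroup (Fin 5) F) F (Fin 4) (Fin 1) :=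
  mkRep e5 (MonoidHom.id _) Function.injective_id (sl_cen F 3) (v5 F) rfl

theorem sl41_model : Model (sl41 F) ∅ := by
  refine mkRep_model ∅ _ _ _ _ _ _ fun A => ?_
  constructor
  · intro _
    exact ⟨A.2, fun t ht => absurd ht (Set.notMem_empty t)⟩
  · intro _
    exact ⟨A, rfl⟩

theorem cond_one_V1 (T : Set (F →+* F)) :
    Cond T (fromBlocks (-1) 0 0 (V1 F) : Matrix (Fin 2 ⊕ Fin 3) (Fin 2 ⊕ Fin 3) F) := by
  have h1 : Cond T (-1 : Matrix (Fin 2) (Fin 2) F) := by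
    refine ⟨by rw [det_neg]; simp, fun t _ => ?_⟩
    ext i j
    fin_cases i <;> fin_cases j <;> simp
  exact h1.fromBlocks (cond_V1 T)

variable [Fintype F] (ho : Odd (Fintype.card F))
include ho

/-- **`PSL₅(F)`**: an involution `z` which commutes with all squares of a Sylow 2-subgroup, and over which
there is a subnormal `K` of `C(z)` with `K / O(K)` non-abelian with one involution, is conjugate to `z₀` -/
theorem sl5_conj (S : Sylow 2 (ProjectiveSpecialLinearGroup (Fin 5) F))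
    {z : ProjectiveSpecialLinearGroup (Fin 5) F} (hz2 : z * z = 1) (hz1 : z ≠ 1)
    (hS : ∀ s ∈ S, (s * s) * z = z * (s * s))
    {K : Subgroup (ProjectiveSpecialLinearGroup (Fin 5) F)} (hK : K ≤ centralizer {z})
    (hsn : (K.subgroupOf (centralizer {z})).IsSubnormal)
    (hKu : OneInv (↥K ⧸ oddCore ↥K)) (hKn : NonComm (↥K ⧸ oddCore ↥K)) :
    ∃ g, g * z * g⁻¹ = z0 (slRep F 3) := by
  obtain ⟨a, b, h⟩ := exists_quat F
  obtain ⟨e⟩ := un_empty_equiv F (Fin 4)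
  refine combine (slRep_model F 3) (SignalizersComponents.SLQuasisimple.two_ne_zero_of_odd ho) h
    (sl41_model (F := F)).toW ?_ ?_ S hz2 hz1 hS hK hsn hKu hKn
  · exact SignalizersComponents.ComponentNormalize.quasisimple_congr e.symm
      (SignalizersComponents.SLQuasisimple.isQuasisimple_of_three_le (by simp))
  · exact rho_eq_iff.2 (w_eq F).symm

variable {q : ℕ} (hF : Fintype.card F = q ^ 2)

omit ho in
/-- `diag(-1,-1,-1,-1,1)` in `SU` -/
def su_v5 : SU 5 F q := ⟨v5 F, by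
  rw [su_cond hF]
  change Cond {cj hF} ((fromBlocks (-1) 0 0 1 : Matrix (Fin 4 ⊕ Fin 1) (Fin 4 ⊕ Fin 1) F).submatrix
    e5 e5)
  rw [← w_eq]
  exact (cond_reindex (ee 3).symm).2 (cond_one_V1 _)⟩

omit ho in
/-- `SU₅` with blocks `4 + 1` -/
def su41 : RepG (SU 5 F q) F (Fin 4) (Fin 1) :=
  mkRep e5 (SU 5 F q).subtype (SU 5 F q).subtype_injective
    (su_cen hF (by norm_num)) (su_v5 hF) rfl

omit ho in
theorem su41_model : Model (su41 hF) {cj hF} := by
  refine mkRep_model _ _ _ _ _ _ _ fun A => ?_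
  rw [← su_cond, Subgroup.range_subtype]

omit ho in
theorem un4_quasisimple : IsQuasisimple (Un ({cj hF} : Set (F →+* F)) (Fin 4)) := by
  rw [un_cj]
  have h32 : ¬ (4 = 3 ∧ q = 2) := by
    rintro ⟨h, -⟩
    exact absurd h (by decide)
  exact ⟨⟨LieClassical.HermPerfect.commutator_SU_eq_top hF (by norm_num) h32⟩,
    LieClassical.HermSimple.isSimpleGroup_of_perfect hF (by norm_num)
      (LieClassical.HermPerfect.commutator_SU_eq_top hF (by norm_num) h32)⟩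

/-- **`PSU₅(q)`** -/
theorem su5_conj (S : Sylow 2 (PSU 5 F q)) {z : PSU 5 F q} (hz2 : z * z = 1) (hz1 : z ≠ 1)
    (hS : ∀ s ∈ S, (s * s) * z = z * (s * s)) {K : Subgroup (PSU 5 F q)} (hK : K ≤ centralizer {z})
    (hsn : (K.subgroupOf (centralizer {z})).IsSubnormal)
    (hKu : OneInv (↥K ⧸ oddCore ↥K)) (hKn : NonComm (↥K ⧸ oddCore ↥K)) :
    ∃ g, g * z * g⁻¹ = z0 (suRep hF 3 (by norm_num)) := by
  obtain ⟨a, b, h⟩ := exists_quat_su hF ho
  refine combine (suRep_model hF 3 (by norm_num))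
    (SignalizersComponents.SLQuasisimple.two_ne_zero_of_odd ho) h
    (su41_model hF).toW (un4_quasisimple hF) ?_ S hz2 hz1 hS hK hsn hKu hKn
  exact rho_eq_iff.2 (w_eq F).symm

end SL

end Cfsg.Agent.Cit.LongFinal
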