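import Cfsg.Agent.Cit.LongTwo

/-!
# `n = 5`: the involution of type `diag(-1,-1,-1,-1,1)` is not classical

`L = PSL₅(F)` or `PSU₅(q)`, `w₀` the image of `diag(-1,-1,-1,-1,1)`.  `C_L(w₀)` has the component
`SL₄` (`SU₄`) with abelian centraliser, so no subnormal `K` of `C_L(w₀)` with `w₀ ∈ K` has
`K / O(K) ≃ SL₂(F')`.
-/

set_option autoImplicit false

namespace Cfsg.Agent.Cit.LongFive

open Subgroup Cfsg Matrix Cfsg.Agent.Cit.LongAbs Cfsg.Agent.Cit.LongBlock Cfsg.Agent.Cit.LongQuot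
  Cfsg.Agent.Cit.LongMain Cfsg.Agent.Cit.LongModel Cfsg.Agent.Cit.LongInst Cfsg.Agent.Cit.LongTwo
  Cfsg.Agent.SignalizersComponents Cfsg.Agent.SignalizersComponents.Components

/-! ### abstract part -/

/-- an element of the odd core squares to one only if it is one -/
theorem no_component {X : Type*} [Group X] [Finite X] {E K : Subgroup X} (hE : IsComponent E)
    (hab : ∀ x ∈ centralizer (E : Set X), ∀ y ∈ centralizer (E : Set X), x * y = y * x)
    {s s' : X} (hs : s ∈ E) (hs' : s' ∈ E) (h1 : s ≠ 1) (h1' : s' ≠ 1) (h2 : s * s = 1)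
    (h2' : s' * s' = 1) (hc : s * s' = s' * s) (hne : s ≠ s') (hK : K.IsSubnormal)
    (hKu : ∀ x y : ↥K ⧸ oddCore ↥K, x ≠ 1 → y ≠ 1 → x * x = 1 → y * y = 1 → x = y)
    (hKn : ¬ ∀ x y : ↥K ⧸ oddCore ↥K, x * y = y * x) : False := by
  rcases component_le_or_commutator_eq_bot hE hK with h | h
  · let a : K := ⟨s, h hs⟩
    let b : K := ⟨s', h hs'⟩
    have key : ∀ x : K, x ∈ oddCore ↥K → x * x = 1 → x = 1 := fun x hx hxx =>
      LongCore.eq_one_of_sq hx hxx
    have ha : (QuotientGroup.mk' (oddCore ↥K)) a ≠ 1 := by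
      intro h3
      have h4 : a ∈ oddCore ↥K := (QuotientGroup.eq_one_iff a).1 h3
      exact h1 (congrArg Subtype.val (key a h4 (Subtype.ext h2)))
    have hb : (QuotientGroup.mk' (oddCore ↥K)) b ≠ 1 := by
      intro h3
      have h4 : b ∈ oddCore ↥K := (QuotientGroup.eq_one_iff b).1 h3
      exact h1' (congrArg Subtype.val (key b h4 (Subtype.ext h2')))
    have h3 := hKu _ _ ha hb (by rw [← map_mul]; rw [show a * a = 1 from Subtype.ext h2, map_one])
      (by rw [← map_mul]; rw [show b * b = 1 from Subtype.ext h2', map_one])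
    have h4 : a * b⁻¹ ∈ oddCore ↥K := by
      rw [← QuotientGroup.ker_mk' (oddCore ↥K), MonoidHom.mem_ker, map_mul, map_inv, h3,
        mul_inv_cancel]
    have h5 : a * b⁻¹ = 1 := by
      refine key _ h4 (Subtype.ext ?_)
      change s * s'⁻¹ * (s * s'⁻¹) = 1
      have h6 : s'⁻¹ = s' := inv_eq_of_mul_eq_one_left h2'
      rw [h6]
      calc s * s' * (s * s') = s * (s' * s) * s' := by group
        _ = (s * s) * (s' * s') := by rw [← hc]; group
        _ = 1 := by rw [h2, h2', one_mul]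
    exact hne (congrArg Subtype.val (mul_inv_eq_one.1 h5))
  · rw [commutator_comm, commutator_eq_bot_iff_le_centralizer] at h
    apply hKn
    intro x y
    obtain ⟨x, rfl⟩ := QuotientGroup.mk'_surjective _ x
    obtain ⟨y, rfl⟩ := QuotientGroup.mk'_surjective _ y
    rw [← map_mul, ← map_mul]
    congr 1
    exact Subtype.ext (hab x (h x.2) y (h y.2))

/-! ### matrices of size 4 -/

section Four

variable (F : Type*) [Field F]

/-- `diag(-1,-1,1,1)` -/
def A1 : Matrix (Fin 4) (Fin 4) F := !![-1, 0, 0, 0; 0, -1, 0, 0; 0, 0, 1, 0; 0, 0, 0, 1]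
/-- `diag(1,1,-1,-1)` -/
def A2 : Matrix (Fin 4) (Fin 4) F := !![1, 0, 0, 0; 0, 1, 0, 0; 0, 0, -1, 0; 0, 0, 0, -1]
/-- `diag(1,-1,-1,1)` -/
def A3 : Matrix (Fin 4) (Fin 4) F := !![1, 0, 0, 0; 0, -1, 0, 0; 0, 0, -1, 0; 0, 0, 0, 1]
/-- `(0 1)(2 3)` -/
def B1 : Matrix (Fin 4) (Fin 4) F := !![0, 1, 0, 0; 1, 0, 0, 0; 0, 0, 0, 1; 0, 0, 1, 0]
/-- `(0 2)(1 3)` -/
def B2 : Matrix (Fin 4) (Fin 4) F := !![0, 0, 1, 0; 0, 0, 0, 1; 1, 0, 0, 0; 0, 1, 0, 0]

variable {F}

theorem cond_of {T : Set (F →+* F)} {M : Matrix (Fin 4) (Fin 4) F} (hd : M.det = 1)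
    (h1 : Mᵀ * M = 1) (h2 : ∀ t : F →+* F, M.map t = M) : Cond T M :=
  ⟨hd, fun t _ => by rw [h2 t, h1]⟩

theorem cond_A1 (T : Set (F →+* F)) : Cond T (A1 F) := by
  refine cond_of ?_ ?_ ?_
  · simp [A1, Matrix.det_succ_row_zero, Fin.sum_univ_succ]
  · ext i j; fin_cases i <;> fin_cases j <;> simp [A1, Matrix.mul_apply, Fin.sum_univ_succ]
  · intro t; ext i j; fin_cases i <;> fin_cases j <;> simp [A1]

theorem cond_A2 (T : Set (F →+* F)) : Cond T (A2 F) := by
  refine cond_of ?_ ?_ ?_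
  · simp [A2, Matrix.det_succ_row_zero, Fin.sum_univ_succ]
  · ext i j; fin_cases i <;> fin_cases j <;> simp [A2, Matrix.mul_apply, Fin.sum_univ_succ]
  · intro t; ext i j; fin_cases i <;> fin_cases j <;> simp [A2]

theorem cond_A3 (T : Set (F →+* F)) : Cond T (A3 F) := by
  refine cond_of ?_ ?_ ?_
  · simp [A3, Matrix.det_succ_row_zero, Fin.sum_univ_succ]
  · ext i j; fin_cases i <;> fin_cases j <;> simp [A3, Matrix.mul_apply, Fin.sum_univ_succ]
  · intro t; ext i j; fin_cases i <;> fin_cases j <;> simp [A3]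

theorem cond_B1 (T : Set (F →+* F)) : Cond T (B1 F) := by
  refine cond_of ?_ ?_ ?_
  · simp [B1, Matrix.det_succ_row_zero, Fin.sum_univ_succ]
    rfl
  · ext i j; fin_cases i <;> fin_cases j <;> simp [B1, Matrix.mul_apply, Fin.sum_univ_succ]
  · intro t; ext i j; fin_cases i <;> fin_cases j <;> simp [B1]

theorem cond_B2 (T : Set (F →+* F)) : Cond T (B2 F) := by
  refine cond_of ?_ ?_ ?_
  · simp [B2, Matrix.det_succ_row_zero, Fin.sum_univ_succ]
    rfl
  · ext i j; fin_cases i <;> fin_cases j <;> simp [B2, Matrix.mul_apply, Fin.sum_univ_succ]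
  · intro t; ext i j; fin_cases i <;> fin_cases j <;> simp [B2]

theorem A12 : A1 F * A2 F = -1 := by
  ext i j; fin_cases i <;> fin_cases j <;> simp [A1, A2, Matrix.mul_apply, Fin.sum_univ_succ]

theorem A21 : A2 F * A1 F = -1 := by
  ext i j; fin_cases i <;> fin_cases j <;> simp [A1, A2, Matrix.mul_apply, Fin.sum_univ_succ]

theorem A1_sq : A1 F * A1 F = 1 := by
  ext i j; fin_cases i <;> fin_cases j <;> simp [A1, Matrix.mul_apply, Fin.sum_univ_succ]

theorem A2_sq : A2 F * A2 F = 1 := by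
  ext i j; fin_cases i <;> fin_cases j <;> simp [A2, Matrix.mul_apply, Fin.sum_univ_succ]

theorem four_scalar (h2 : (2 : F) ≠ 0) {P : Matrix (Fin 4) (Fin 4) F} (h1 : P * A1 F = A1 F * P)
    (h3 : P * A3 F = A3 F * P) (h4 : P * B1 F = B1 F * P) (h5 : P * B2 F = B2 F * P) :
    ∃ c : F, P = c • 1 := by
  have key : ∀ x : F, -x = x → x = 0 := by
    intro x hx
    have : 2 * x = 0 := by linear_combination -hx
    exact (mul_eq_zero.1 this).resolve_left h2
  have key' : ∀ x : F, x = -x → x = 0 := fun x hx => key x hx.symm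
  have a02 := congrFun (congrFun h1 0) 2
  have a03 := congrFun (congrFun h1 0) 3
  have a12 := congrFun (congrFun h1 1) 2
  have a13 := congrFun (congrFun h1 1) 3
  have a20 := congrFun (congrFun h1 2) 0
  have a21 := congrFun (congrFun h1 2) 1
  have a30 := congrFun (congrFun h1 3) 0
  have a31 := congrFun (congrFun h1 3) 1
  have a01 := congrFun (congrFun h3 0) 1
  have a10 := congrFun (congrFun h3 1) 0
  have a23 := congrFun (congrFun h3 2) 3
  have a32 := congrFun (congrFun h3 3) 2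
  have b0 := congrFun (congrFun h4 0) 1
  have b1 := congrFun (congrFun h4 2) 3
  have b2 := congrFun (congrFun h5 0) 2
  simp [A1, A3, B1, B2, Matrix.mul_apply, Fin.sum_univ_succ] at a02 a03 a12 a13 a20 a21 a30 a31 a01 a10 a23 a32 b0 b1 b2
  refine ⟨P 0 0, ?_⟩
  ext i j
  fin_cases i <;> fin_cases j <;> simp
  all_goals first
    | exact key _ (by assumption)
    | exact key' _ (by assumption)
    | exact b0.symm
    | exact b2.symm
    | exact (b2.trans b1).symm

end Four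

/-! ### the representation with blocks `4 + 1` -/

section Rep41

variable {Γ : Type*} [Group Γ] {F : Type*} [Field F] {T : Set (F →+* F)}

theorem big41 {R : RepG Γ F (Fin 4) (Fin 1)} (hR : WModel R T) (h2 : (2 : F) ≠ 0) : Big R := by
  have e1 : trace (A1 F) = 0 := by simp [A1, trace, Fin.sum_univ_succ]
  have e2 : trace (A2 F) = 0 := by simp [A2, trace, Fin.sum_univ_succ]
  have e3 : trace (A3 F) = 0 := by simp [A3, trace, Fin.sum_univ_succ]
  have e4 : trace (B1 F) = 0 := by simp [B1, trace, Fin.sum_univ_succ]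
  have e5 : trace (B2 F) = 0 := by simp [B2, trace, Fin.sum_univ_succ]
  let W : Set (Matrix (Fin 4) (Fin 4) F) := {A1 F, A2 F, A3 F, B1 F, B2 F}
  have hW : ∀ w ∈ W, Cond T w ∧ trace w = 0 := by
    rintro w (rfl | rfl | rfl | rfl | rfl)
    · exact ⟨cond_A1 T, e1⟩
    · exact ⟨cond_A2 T, e2⟩
    · exact ⟨cond_A3 T, e3⟩
    · exact ⟨cond_B1 T, e4⟩
    · exact ⟨cond_B2 T, e5⟩
  refine ⟨{g | ∃ w ∈ W, R.ρ g = fromBlocks w 0 0 1}, ?_, ?_, ?_⟩
  · rintro u ⟨w, hw, hu⟩
    exact mem_sup_left ⟨w, hu⟩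
  · rintro u ⟨w, hw, hu⟩
    rw [hu, trace_blocks, (hW w hw).2]
    simp
  · intro g hg
    have key : ∀ w ∈ W, ∃ u, R.ρ u = fromBlocks w 0 0 1 ∧ g * u = u * g := by
      intro w hw
      obtain ⟨u, hu⟩ := hR.ex w 1 (hW w hw).1 (Cond.one T)
      exact ⟨u, hu, hg u ⟨w, hw, hu⟩⟩
    obtain ⟨u1, hu1, c1⟩ := key (A1 F) (Or.inl rfl)
    obtain ⟨u2, hu2, c2⟩ := key (A2 F) (Or.inr (Or.inl rfl))
    obtain ⟨u3, hu3, c3⟩ := key (A3 F) (Or.inr (Or.inr (Or.inl rfl)))
    obtain ⟨u4, hu4, c4⟩ := key (B1 F) (Or.inr (Or.inr (Or.inr (Or.inl rfl))))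
    obtain ⟨u5, hu5, c5⟩ := key (B2 F) (Or.inr (Or.inr (Or.inr (Or.inr rfl))))
    have ht : u1 * u2 = R.t := by
      apply R.inj
      rw [map_mul, hu1, hu2, fromBlocks_multiply, R.t_eq]
      simp [A12]
    have hgt : g * R.t = R.t * g := by
      rw [← ht]
      calc g * (u1 * u2) = (g * u1) * u2 := (mul_assoc _ _ _).symm
        _ = u1 * (g * u2) := by rw [c1, mul_assoc]
        _ = u1 * u2 * g := by rw [c2, mul_assoc]
    obtain ⟨P, S, hPS⟩ := R.blocks_of_comm h2 hgt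
    have dd : ∀ {u w}, R.ρ u = fromBlocks w 0 0 1 → g * u = u * g → P * w = w * P := by
      intro u w hu hc
      have d1 := congrArg R.ρ hc
      rw [map_mul, map_mul, hPS, hu, fromBlocks_multiply, fromBlocks_multiply, fromBlocks_inj] at d1
      simp only [Matrix.zero_mul, Matrix.mul_zero, add_zero] at d1
      exact d1.1
    obtain ⟨c, hc⟩ := four_scalar h2 (dd hu1 c1) (dd hu3 c3) (dd hu4 c4) (dd hu5 c5)
    refine ⟨c, S 0 0, ?_⟩
    rw [hPS, hc]
    congr 1
    ext i j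
    fin_cases i; fin_cases j; simp

/-- **no classical `K` over `w₀`** -/
theorem no41 [Finite Γ] {R : RepG Γ F (Fin 4) (Fin 1)} (hR : WModel R T) (h2 : (2 : F) ≠ 0)
    (hq : IsQuasisimple (Un T (Fin 4))) {K : Subgroup (Γ ⧸ center Γ)} (hK : K ≤ CC R)
    (hsn : (K.subgroupOf (CC R)).IsSubnormal)
    (hKu : ∀ x y : ↥K ⧸ oddCore ↥K, x ≠ 1 → y ≠ 1 → x * x = 1 → y * y = 1 → x = y)
    (hKn : ¬ ∀ x y : ↥K ⧸ oddCore ↥K, x * y = y * x) : False := by
  have hE2 : R.E2 = ⊥ := by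
    rw [eq_bot_iff]
    rintro x ⟨S, hS⟩
    rw [mem_bot]
    apply R.inj
    have h1 := (hR.right x S hS).1
    rw [det_fin_one] at h1
    rw [hS, map_one, ← fromBlocks_one]
    congr 1
    ext i j
    fin_cases i; fin_cases j
    simpa using h1
  have hD2 : D2 R = ⊥ := by rw [D2, hE2, Subgroup.map_bot]
  have hle : D1 R ≤ CC R := (D1_le R).trans (C0_le R)
  obtain ⟨e1⟩ := hR.equiv1
  have eD : ↥((D1 R).subgroupOf (CC R)) ≃* Un T (Fin 4) :=
    ((subgroupOfEquivOfLe hle).trans (D1Equiv R).symm).trans e1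
  have hcomp : IsComponent ((D1 R).subgroupOf (CC R)) :=
    ⟨D1_subnormal R h2, ComponentNormalize.quasisimple_congr eD.symm hq⟩
  have hab : ∀ x ∈ centralizer (((D1 R).subgroupOf (CC R) : Subgroup (CC R)) : Set (CC R)),
      (x : Γ ⧸ center Γ) ∈ centralizer ((D1 R ⊔ D2 R : Subgroup (Γ ⧸ center Γ)) : Set (Γ ⧸ center Γ)) := by
    intro x hx
    rw [hD2, sup_bot_eq, mem_centralizer_iff]
    intro y hy
    exact congrArg Subtype.val (mem_centralizer_iff.1 hx ⟨y, hle hy⟩ (mem_subgroupOf.2 hy))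
  have hB := big41 hR h2
  -- two involutions
  obtain ⟨u1, hu1⟩ := hR.ex (A1 F) 1 (cond_A1 T) (Cond.one T)
  obtain ⟨u2, hu2⟩ := hR.ex (A2 F) 1 (cond_A2 T) (Cond.one T)
  have m1 : pr Γ u1 ∈ D1 R := mem_map_of_mem _ ⟨_, hu1⟩
  have m2 : pr Γ u2 ∈ D1 R := mem_map_of_mem _ ⟨_, hu2⟩
  have hsq1 : u1 * u1 = 1 := by
    apply R.inj
    rw [map_mul, hu1, fromBlocks_multiply, map_one, ← fromBlocks_one]
    simp [A1_sq]
  have hsq2 : u2 * u2 = 1 := by
    apply R.inj
    rw [map_mul, hu2, fromBlocks_multiply, map_one, ← fromBlocks_one]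
    simp [A2_sq]
  have h12 : u1 * u2 = u2 * u1 := by
    apply R.inj
    rw [map_mul, map_mul, hu1, hu2, fromBlocks_multiply, fromBlocks_multiply]
    simp [A12, A21]
  have hninj : ∀ x ∈ R.E1, pr Γ x = 1 → x = 1 := fun x hx h => E1_center R hx (pr_eq_one.1 h)
  have h10 : (-1 : F) ≠ 1 := by
    intro h
    apply h2
    have : (1 : F) + 1 = 0 := by nth_rewrite 1 [← h]; ring
    rw [← this]; norm_num
  have n1 : u1 ≠ 1 := by
    intro h
    have h3 := congrArg R.ρ h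
    rw [hu1, map_one, ← fromBlocks_one, fromBlocks_inj] at h3
    have := congrFun (congrFun h3.1 0) 0
    simp [A1] at this
    exact h10 this
  have n2 : u2 ≠ 1 := by
    intro h
    have h3 := congrArg R.ρ h
    rw [hu2, map_one, ← fromBlocks_one, fromBlocks_inj] at h3
    have := congrFun (congrFun h3.1 2) 2
    simp [A2] at this
    exact h10 this
  have n12 : u1 ≠ u2 := by
    intro h
    have h3 := congrArg R.ρ h
    rw [hu1, hu2, fromBlocks_inj] at h3
    have := congrFun (congrFun h3.1 0) 0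
    simp [A1, A2] at this
    exact h10 this
  obtain ⟨f⟩ := exists_quot_equiv hK
  refine no_component (s := (⟨pr Γ u1, hle m1⟩ : CC R)) (s' := ⟨pr Γ u2, hle m2⟩) hcomp ?_
    (mem_subgroupOf.2 m1) (mem_subgroupOf.2 m2) ?_ ?_ ?_ ?_ ?_ ?_ hsn ?_ ?_
  · intro x hx y hy
    exact Subtype.ext (hB.comm R (hab x hx) (hab y hy))
  · intro h
    exact n1 (hninj _ ⟨_, hu1⟩ (congrArg Subtype.val h))
  · intro h
    exact n2 (hninj _ ⟨_, hu2⟩ (congrArg Subtype.val h))
  · apply Subtype.ext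
    change pr Γ u1 * pr Γ u1 = 1
    rw [← map_mul, hsq1, map_one]
  · apply Subtype.ext
    change pr Γ u2 * pr Γ u2 = 1
    rw [← map_mul, hsq2, map_one]
  · apply Subtype.ext
    change pr Γ u1 * pr Γ u2 = pr Γ u2 * pr Γ u1
    rw [← map_mul, h12, map_mul]
  · intro h
    have h3 : pr Γ u1 = pr Γ u2 := congrArg Subtype.val h
    have h4 : u1 * u2⁻¹ = 1 := by
      refine hninj _ (mul_mem ⟨_, hu1⟩ (inv_mem ⟨_, hu2⟩)) ?_
      rw [map_mul, map_inv, h3, mul_inv_cancel]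
    exact n12 (mul_inv_eq_one.1 h4)
  · intro x y hx hy hxx hyy
    apply f.injective
    refine hKu _ _ ?_ ?_ ?_ ?_
    · rwa [ne_eq, EmbeddingLike.map_eq_one_iff]
    · rwa [ne_eq, EmbeddingLike.map_eq_one_iff]
    · rw [← map_mul, hxx, map_one]
    · rw [← map_mul, hyy, map_one]
  · intro h
    apply hKn
    intro x y
    have h3 := congrArg f (h (f.symm x) (f.symm y))
    rwa [map_mul, map_mul, f.apply_symm_apply, f.apply_symm_apply] at h3

end Rep41

end Cfsg.Agent.Cit.LongFive
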