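import Cfsg.Agent.Cit.LongFive

/-!
# `n = 5`: involutions commuting with all squares of a Sylow 2-subgroup

They are conjugate to `z₀` or to `w₀ = diag(-1,-1,-1,-1,1)`.
-/

set_option autoImplicit false

namespace Cfsg.Agent.Cit.LongFiveB

open Subgroup Cfsg Matrix Cfsg.Agent.Cit.LongAbs Cfsg.Agent.Cit.LongBlock Cfsg.Agent.Cit.LongQuot
  Cfsg.Agent.Cit.LongMain Cfsg.Agent.Cit.LongModel Cfsg.Agent.Cit.LongInst Cfsg.Agent.Cit.LongTwo
  Cfsg.Agent.Cit.LongFive

section Matrices

variable {F : Type*} [Field F]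

/-- a `2 × 2` block in size 3 -/
def Ex (M : Matrix (Fin 2) (Fin 2) F) : Matrix (Fin 3) (Fin 3) F :=
  !![M 0 0, M 0 1, 0; M 1 0, M 1 1, 0; 0, 0, 1]

theorem Ex_mul (M N : Matrix (Fin 2) (Fin 2) F) : Ex M * Ex N = Ex (M * N) := by
  ext i j; fin_cases i <;> fin_cases j <;>
    simp [Ex, Matrix.mul_apply, Fin.sum_univ_succ]

theorem Ex_one : Ex (1 : Matrix (Fin 2) (Fin 2) F) = 1 := by
  ext i j; fin_cases i <;> fin_cases j <;> simp [Ex]

theorem Ex_neg_one : Ex (-1 : Matrix (Fin 2) (Fin 2) F) = V1 F := by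
  ext i j; fin_cases i <;> fin_cases j <;> simp [Ex, V1]

theorem Ex_det (M : Matrix (Fin 2) (Fin 2) F) : (Ex M).det = M.det := by
  simp [Ex, det_fin_three, det_fin_two]

theorem Ex_trace (M : Matrix (Fin 2) (Fin 2) F) : trace (Ex M) = trace M + 1 := by
  simp [Ex, trace_fin_three, trace_fin_two]

theorem Ex_transpose (M : Matrix (Fin 2) (Fin 2) F) : (Ex M)ᵀ = Ex Mᵀ := by
  ext i j; fin_cases i <;> fin_cases j <;> simp [Ex]

theorem Ex_map (M : Matrix (Fin 2) (Fin 2) F) (t : F →+* F) : (Ex M).map t = Ex (M.map t) := by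
  ext i j; fin_cases i <;> fin_cases j <;> simp [Ex]

theorem Ex_cond {T : Set (F →+* F)} {M : Matrix (Fin 2) (Fin 2) F} (h : Cond T M) : Cond T (Ex M) :=
  ⟨by rw [Ex_det, h.1], fun t ht => by rw [Ex_transpose, Ex_map, Ex_mul, h.2 t ht, Ex_one]⟩

/-- upper right block of the swap -/
def Bm (F : Type*) [Field F] : Matrix (Fin 2) (Fin 3) F := !![1, 0, 0; 0, 1, 0]
/-- lower left block of the swap -/
def Cm (F : Type*) [Field F] : Matrix (Fin 3) (Fin 2) F := !![1, 0; 0, 1; 0, 0]
/-- lower right block of the swap -/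
def Dm (F : Type*) [Field F] : Matrix (Fin 3) (Fin 3) F := !![0, 0, 0; 0, 0, 0; 0, 0, 1]

theorem BC : Bm F * Cm F = 1 := by
  ext i j; fin_cases i <;> fin_cases j <;> simp [Bm, Cm, Matrix.mul_apply, Fin.sum_univ_succ]
theorem BD : Bm F * Dm F = 0 := by
  ext i j; fin_cases i <;> fin_cases j <;> simp [Bm, Dm, Matrix.mul_apply, Fin.sum_univ_succ]
theorem DC : Dm F * Cm F = 0 := by
  ext i j; fin_cases i <;> fin_cases j <;> simp [Dm, Cm, Matrix.mul_apply, Fin.sum_univ_succ]
theorem CPB (P : Matrix (Fin 2) (Fin 2) F) : Cm F * P * Bm F + Dm F * Dm F = Ex P := by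
  have key : ∀ a b c d : F, Cm F * !![a, b; c, d] * Bm F + Dm F * Dm F =
      !![a, b, 0; c, d, 0; 0, 0, 1] := by
    intro a b c d
    ext i j; fin_cases i <;> fin_cases j <;> simp [Bm, Dm, Cm]
  have h := key (P 0 0) (P 0 1) (P 1 0) (P 1 1)
  rw [← Matrix.eta_fin_two P] at h
  exact h

/-- the swap -/
def Wm (F : Type*) [Field F] : Matrix (Fin 2 ⊕ Fin 3) (Fin 2 ⊕ Fin 3) F :=
  fromBlocks 0 (Bm F) (Cm F) (Dm F)

theorem Wm_sq : Wm F * Wm F = 1 := by
  have h := CPB (1 : Matrix (Fin 2) (Fin 2) F)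
  rw [Matrix.mul_one, Ex_one] at h
  rw [Wm, fromBlocks_multiply, BC, BD, DC, h, ← fromBlocks_one]
  simp

theorem Wm_conj (P : Matrix (Fin 2) (Fin 2) F) :
    Wm F * fromBlocks P 0 0 1 * Wm F = fromBlocks 1 0 0 (Ex P) := by
  rw [Wm, fromBlocks_multiply, fromBlocks_multiply]
  simp only [Matrix.zero_mul, Matrix.mul_zero, Matrix.mul_one, zero_add, add_zero]
  rw [BC, BD, DC, CPB]

theorem Wm_transpose : (Wm F)ᵀ = Wm F := by
  rw [Wm, fromBlocks_transpose]
  congr 1
  · ext i j; fin_cases i <;> fin_cases j <;> simp [Bm, Cm]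
  · ext i j; fin_cases i <;> fin_cases j <;> simp [Bm, Cm]
  · ext i j; fin_cases i <;> fin_cases j <;> simp [Dm]

theorem Wm_map (t : F →+* F) : (Wm F).map t = Wm F := by
  rw [Wm, fromBlocks_map]
  congr 1
  · ext i j; simp
  · ext i j; fin_cases i <;> fin_cases j <;> simp [Bm]
  · ext i j; fin_cases i <;> fin_cases j <;> simp [Cm]
  · ext i j; fin_cases i <;> fin_cases j <;> simp [Dm]

theorem Wm_det : (Wm F).det = 1 := by
  let σ : Equiv.Perm (Fin 2 ⊕ Fin 3) :=
    Equiv.swap (Sum.inl 0) (Sum.inr 0) * Equiv.swap (Sum.inl 1) (Sum.inr 1)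
  have h1 : Wm F = σ.permMatrix F := by
    ext i j
    rcases i with i | i <;> rcases j with j | j <;> fin_cases i <;> fin_cases j <;>
      simp [Wm, Bm, Cm, Dm, σ, Equiv.swap_apply_def, PEquiv.toMatrix_apply, Equiv.toPEquiv]
  rw [h1, det_permutation]
  have h2 : Equiv.Perm.sign σ = 1 := by
    simp [σ]
  rw [h2]; simp

theorem Wm_cond (T : Set (F →+* F)) : Cond T (Wm F) :=
  ⟨Wm_det, fun t _ => by rw [Wm_transpose, Wm_map, Wm_sq]⟩

end Matrices

section Five

variable {Γ : Type*} [Group Γ] {F : Type*} [Field F] {T : Set (F →+* F)}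

/-- the special shape of the lift -/
theorem five_shape [Finite Γ] {R : Rep Γ F (Fin 3)} (hR : Model R T) {a b : F} (h2 : (2 : F) ≠ 0)
    (h : Quat T a b) (S : Sylow 2 (Γ ⧸ center Γ)) {z : Γ ⧸ center Γ}
    (hS : ∀ s ∈ S, (s * s) * z = z * (s * s)) :
    ∃ g : Γ ⧸ center Γ, ∃ x : Γ, pr Γ x = g * z * g⁻¹ ∧ ∃ c d e : F,
      R.ρ x = fromBlocks (c • 1) 0 0 (!![d, 0, 0; 0, d, 0; 0, 0, e]) := by
  have hW := hR.toW
  obtain ⟨x, hx⟩ := hW.ex _ _ (cond_U1 T) (Cond.one T)
  obtain ⟨y, hy⟩ := hW.ex _ _ (cond_U2 h) (Cond.one T)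
  obtain ⟨x', hx'⟩ := hW.ex _ _ (Cond.one T) (Ex_cond (cond_U1 T))
  obtain ⟨y', hy'⟩ := hW.ex _ _ (Cond.one T) (Ex_cond (cond_U2 h))
  obtain ⟨s, hs⟩ := (hR (Wm F)).2 (Wm_cond T)
  have hss : s * s = 1 := by
    apply R.inj
    rw [map_mul, hs, Wm_sq, map_one]
  have hsx : s * x * s = x' := by
    apply R.inj
    rw [map_mul, map_mul, hs, hx, Wm_conj, hx']
  have hsy : s * y * s = y' := by
    apply R.inj
    rw [map_mul, map_mul, hs, hy, Wm_conj, hy']
  have hsi : s⁻¹ = s := inv_eq_of_mul_eq_one_left hss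
  -- `closure {x', y'}` is the conjugate of `closure {x, y}`
  have hp := pair_pgroup h hx hy
  have hp' : IsPGroup 2 (closure {x', y'}) := by
    have h1 : closure {x', y'} = (closure {x, y}).map (MulAut.conj s).toMonoidHom := by
      rw [MonoidHom.map_closure, Set.image_pair]
      simp [hsi, hsx, hsy]
    rw [h1]
    exact hp.map _
  have hcom : ∀ u ∈ ({x, y} : Set Γ), ∀ v ∈ ({x', y'} : Set Γ), u * v = v * u := by
    rintro u hu v hv
    refine R.comm_E1_E2 ?_ ?_
    · rcases hu with rfl | rfl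
      · exact ⟨_, hx⟩
      · exact ⟨_, hy⟩
    · rcases hv with rfl | rfl
      · exact ⟨_, hx'⟩
      · exact ⟨_, hy'⟩
  have hA := isPGroup_sup_of_comm hp hp' hcom
  set A := closure ({x, y} ∪ {x', y'}) with hAdef
  have hmem : x ∈ A ∧ y ∈ A ∧ x' ∈ A ∧ y' ∈ A :=
    ⟨subset_closure (Or.inl (Or.inl rfl)), subset_closure (Or.inl (Or.inr rfl)),
      subset_closure (Or.inr (Or.inl rfl)), subset_closure (Or.inr (Or.inr rfl))⟩
  have hsA : ∀ u ∈ A, s * u * s ∈ A := by
    intro u hu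
    refine closure_induction (p := fun u _ => s * u * s ∈ A) ?_ ?_ ?_ ?_ hu
    · rintro u ((rfl | rfl) | (rfl | rfl))
      · rw [hsx]; exact hmem.2.2.1
      · rw [hsy]; exact hmem.2.2.2
      · have : s * u * s = x := by
          rw [← hsx]
          calc s * (s * x * s) * s = (s * s) * x * (s * s) := by group
            _ = x := by rw [hss]; group
        rw [this]; exact hmem.1
      · have : s * u * s = y := by
          rw [← hsy]
          calc s * (s * y * s) * s = (s * s) * y * (s * s) := by group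
            _ = y := by rw [hss]; group
        rw [this]; exact hmem.2.1
    · rw [mul_one, hss]; exact A.one_mem
    · intro u v _ _ h3 h4
      have : s * (u * v) * s = (s * u * s) * (s * v * s) := by
        calc s * (u * v) * s = s * u * (s * s) * v * s := by rw [hss]; group
          _ = _ := by group
      rw [this]; exact A.mul_mem h3 h4
    · intro u _ h3
      have : s * u⁻¹ * s = (s * u * s)⁻¹ := by
        rw [_root_.mul_inv_rev, _root_.mul_inv_rev, hsi]; group
      rw [this]; exact A.inv_mem h3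
  have hpB : IsPGroup 2 (A ⊔ zpowers s : Subgroup Γ) := by
    refine IsPGroup.to_sup_of_normal_left' hA ?_ ?_
    · rintro ⟨g, k, rfl⟩
      refine ⟨1, Subtype.ext ?_⟩
      change (s ^ k) ^ (2 ^ 1) = 1
      rw [pow_one, ← zpow_natCast, ← _root_.zpow_mul, mul_comm, _root_.zpow_mul]
      have h0 : s ^ ((2 : ℕ) : ℤ) = 1 := by rw [zpow_natCast, pow_two, hss]
      rw [h0, _root_.one_zpow]
    · rw [zpowers_le, mem_normalizer_iff]
      intro u
      rw [hsi]
      constructor
      · exact hsA u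
      · intro h3
        have := hsA _ h3
        have h4 : s * (s * u * s) * s = u := by
          calc s * (s * u * s) * s = (s * s) * u * (s * s) := by group
            _ = u := by rw [hss]; group
        rwa [h4] at this
  obtain ⟨g, hg⟩ := exists_conj_mem (hpB.map (pr Γ)) S
  have hAB : ∀ u ∈ A, u ∈ A ⊔ zpowers s := fun u hu => mem_sup_left hu
  have hsB : s ∈ A ⊔ zpowers s := mem_sup_right (mem_zpowers s)
  -- squares of elements of `B`
  have hsq : ∀ u ∈ A ⊔ zpowers s, pr Γ (u * u) * (g * z * g⁻¹) = (g * z * g⁻¹) * pr Γ (u * u) := by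
    intro u hu
    have h3 := hS _ (hg _ (mem_map_of_mem (pr Γ) hu))
    rw [map_mul]
    calc pr Γ u * pr Γ u * (g * z * g⁻¹)
        = g * ((g⁻¹ * pr Γ u * g * (g⁻¹ * pr Γ u * g)) * z) * g⁻¹ := by group
      _ = g * z * g⁻¹ * (pr Γ u * pr Γ u) := by rw [h3]; group
  obtain ⟨w, hw⟩ := pr_surjective (g * z * g⁻¹)
  have key : ∀ u ∈ A ⊔ zpowers s, trace (R.ρ (u * u)) ≠ 0 → w * (u * u) = (u * u) * w := by
    intro u hu ht
    apply R.comm_of_trace _ ht
    rw [← pr_comm, hw]
    exact (hsq u hu).symm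
  -- the four squares
  have q1 : R.ρ (x * x) = fromBlocks (-1) 0 0 1 := by
    rw [map_mul, hx, fromBlocks_multiply]; simp [U1_sq]
  have q2 : R.ρ (x' * x') = fromBlocks 1 0 0 (V1 F) := by
    rw [map_mul, hx', fromBlocks_multiply]
    simp only [Matrix.zero_mul, Matrix.mul_zero, add_zero, zero_add, Matrix.one_mul]
    rw [Ex_mul, U1_sq, Ex_neg_one]
  have q3 : R.ρ ((x * s) * (x * s)) = fromBlocks (U1 F) 0 0 (Ex (U1 F)) := by
    have : (x * s) * (x * s) = x * x' := by
      rw [← hsx]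
      group
    rw [this, map_mul, hx, hx', fromBlocks_multiply]
    simp
  have q4 : R.ρ ((y * s) * (y * s)) = fromBlocks (U2 a b) 0 0 (Ex (U2 a b)) := by
    have : (y * s) * (y * s) = y * y' := by
      rw [← hsy]
      group
    rw [this, map_mul, hy, hy', fromBlocks_multiply]
    simp
  have tV : trace (V1 F) = -1 := by simp [V1, trace_fin_three]
  have c1 := key x (hAB x hmem.1) (by
    rw [q1, trace_blocks]
    simp only [trace_neg, trace_one, Fintype.card_fin]
    norm_num)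
  have c2 := key x' (hAB x' hmem.2.2.1) (by
    rw [q2, trace_blocks, tV]
    simp only [trace_one, Fintype.card_fin]
    norm_num)
  have c3 := key (x * s) (mul_mem (hAB x hmem.1) hsB) (by
    rw [q3, trace_blocks, Ex_trace, trace_U1]; simp)
  have c4 := key (y * s) (mul_mem (hAB y hmem.2.1) hsB) (by
    rw [q4, trace_blocks, Ex_trace, trace_U2]; simp)
  have hxx : x * x = R.t := R.inj (by rw [q1, R.t_eq])
  obtain ⟨P, N, hPN⟩ := R.blocks_of_comm h2 (g := w) (by rw [← hxx]; exact c1)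
  have dd : ∀ {u v : Γ}, u * v = v * u → R.ρ u * R.ρ v = R.ρ v * R.ρ u := by
    intro u v huv
    rw [← map_mul, ← map_mul, huv]
  have d2 := dd c2
  have d3 := dd c3
  have d4 := dd c4
  rw [hPN, q2, fromBlocks_multiply, fromBlocks_multiply, fromBlocks_inj] at d2
  rw [hPN, q3, fromBlocks_multiply, fromBlocks_multiply, fromBlocks_inj] at d3
  rw [hPN, q4, fromBlocks_multiply, fromBlocks_multiply, fromBlocks_inj] at d4
  simp only [Matrix.zero_mul, Matrix.mul_zero, add_zero, zero_add] at d2 d3 d4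
  obtain ⟨c, hc⟩ := scalar_of_comm h2 h d3.1 d4.1
  -- the lower block
  have e2 := d2.2.2.2
  have e3 := d3.2.2.2
  have e4 := d4.2.2.2
  have kz : ∀ t : F, t = -t → t = 0 := by
    intro t ht
    have : 2 * t = 0 := by linear_combination ht
    exact (mul_eq_zero.1 this).resolve_left h2
  have n02 : N 0 2 = 0 := by
    have := congrFun (congrFun e2 0) 2
    simp [V1, Matrix.mul_apply, Fin.sum_univ_succ] at this
    exact kz _ this
  have n12 : N 1 2 = 0 := by
    have := congrFun (congrFun e2 1) 2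
    simp [V1, Matrix.mul_apply, Fin.sum_univ_succ] at this
    exact kz _ this
  have n20 : N 2 0 = 0 := by
    have := congrFun (congrFun e2 2) 0
    simp [V1, Matrix.mul_apply, Fin.sum_univ_succ] at this
    exact kz _ this.symm
  have n21 : N 2 1 = 0 := by
    have := congrFun (congrFun e2 2) 1
    simp [V1, Matrix.mul_apply, Fin.sum_univ_succ] at this
    exact kz _ this.symm
  have hN : N = !![N 0 0, N 0 1, 0; N 1 0, N 1 1, 0; 0, 0, N 2 2] := by
    ext i j; fin_cases i <;> fin_cases j <;> simp [n02, n12, n20, n21]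
  have f3 : !![N 0 0, N 0 1; N 1 0, N 1 1] * U1 F = U1 F * !![N 0 0, N 0 1; N 1 0, N 1 1] := by
    ext i j
    have := congrFun (congrFun e3 (Fin.castSucc i)) (Fin.castSucc j)
    rw [hN] at this
    fin_cases i <;> fin_cases j <;>
      simpa [Ex, Matrix.mul_apply, Fin.sum_univ_succ] using this
  have f4 : !![N 0 0, N 0 1; N 1 0, N 1 1] * U2 a b = U2 a b * !![N 0 0, N 0 1; N 1 0, N 1 1] := by
    ext i j
    have := congrFun (congrFun e4 (Fin.castSucc i)) (Fin.castSucc j)
    rw [hN] at this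
    fin_cases i <;> fin_cases j <;>
      simpa [Ex, Matrix.mul_apply, Fin.sum_univ_succ] using this
  obtain ⟨d, hd⟩ := scalar_of_comm h2 h f3 f4
  have g00 : N 0 0 = d := by have := congrFun (congrFun hd 0) 0; simpa using this
  have g01 : N 0 1 = 0 := by have := congrFun (congrFun hd 0) 1; simpa using this
  have g10 : N 1 0 = 0 := by have := congrFun (congrFun hd 1) 0; simpa using this
  have g11 : N 1 1 = d := by have := congrFun (congrFun hd 1) 1; simpa using this
  refine ⟨g, w, hw, c, d, N 2 2, ?_⟩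
  rw [hPN, hc]
  congr 1
  rw [hN, g00, g01, g10, g11]
  simp

theorem pr_eq_of_smul {κ : Type*} [Fintype κ] [DecidableEq κ] {μ : Type*} [Fintype μ] [DecidableEq μ]
    (R : RepG Γ F μ κ) {w v : Γ} {e : F} (h : R.ρ w = e • R.ρ v) : pr Γ w = pr Γ v := by
  have h1 : w * v⁻¹ ∈ center Γ := by
    apply R.mem_center_of_scalar (c := e)
    rw [map_mul, h, smul_mul_assoc, ← map_mul, mul_inv_cancel, map_one]
  rwa [← pr_eq_one, map_mul, map_inv, mul_inv_eq_one] at h1

/-- **(C), n = 5, first part** -/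
theorem five_cases [Finite Γ] {R : Rep Γ F (Fin 3)} (hR : Model R T) {a b : F} (h2 : (2 : F) ≠ 0)
    (h : Quat T a b) {v : Γ} (hv : R.ρ v = fromBlocks (-1) 0 0 (V1 F)) (S : Sylow 2 (Γ ⧸ center Γ))
    {z : Γ ⧸ center Γ} (hz2 : z * z = 1) (hz1 : z ≠ 1)
    (hS : ∀ s ∈ S, (s * s) * z = z * (s * s)) :
    ∃ g, g * z * g⁻¹ = z0 R ∨ g * z * g⁻¹ = pr Γ v := by
  obtain ⟨g, w, hw, c, d, e, hρ⟩ := five_shape hR h2 h S hS
  obtain ⟨s, hs⟩ := (hR (Wm F)).2 (Wm_cond T)
  have hw2 : w * w ∈ center Γ := by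
    rw [← pr_eq_one, map_mul, hw]
    calc g * z * g⁻¹ * (g * z * g⁻¹) = g * (z * z) * g⁻¹ := by group
      _ = 1 := by rw [hz2]; group
  obtain ⟨l, hl⟩ := R.cen _ hw2
  rw [map_mul, hρ, fromBlocks_multiply] at hl
  have e1 : c * c = l := by
    have := congrFun (congrFun hl (Sum.inl 0)) (Sum.inl 0)
    simpa using this
  have e2 : d * d = l := by
    have := congrFun (congrFun hl (Sum.inr 0)) (Sum.inr 0)
    simpa using this
  have e3 : e * e = l := by
    have := congrFun (congrFun hl (Sum.inr 2)) (Sum.inr 2)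
    simpa using this
  have f1 : (c - e) * (c + e) = 0 := by linear_combination e1 - e3
  have f2 : (d - e) * (d + e) = 0 := by linear_combination e2 - e3
  have hV : (!![-e, 0, 0; 0, -e, 0; 0, 0, e] : Matrix (Fin 3) (Fin 3) F) = e • V1 F := by
    ext i j; fin_cases i <;> fin_cases j <;> simp [V1]
  have h1 : (!![e, 0, 0; 0, e, 0; 0, 0, e] : Matrix (Fin 3) (Fin 3) F) = e • 1 := by
    ext i j; fin_cases i <;> fin_cases j <;> simp
  rcases mul_eq_zero.1 f1 with hc | hc <;> rcases mul_eq_zero.1 f2 with hd | hd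
  · -- scalar
    exfalso
    apply hz1
    have hc' := sub_eq_zero.1 hc
    have hd' := sub_eq_zero.1 hd
    have h3 : w ∈ center Γ := by
      apply R.mem_center_of_scalar (c := e)
      rw [hρ, hc', hd', h1, ← fromBlocks_one, fromBlocks_smul]
      simp
    have h4 : g * z * g⁻¹ = 1 := by rw [← hw]; exact pr_eq_one.2 h3
    calc z = g⁻¹ * (g * z * g⁻¹) * g := by group
      _ = 1 := by rw [h4]; group
  · -- `(1, -1)`
    have hc' := sub_eq_zero.1 hc
    have hd' := eq_neg_of_add_eq_zero_left hd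
    refine ⟨pr Γ s * g, Or.inl ?_⟩
    have h3 : pr Γ w = pr Γ (s⁻¹ * R.t * s) := by
      apply pr_eq_of_smul R (e := e)
      have hss : s * s = 1 := by
        apply R.inj
        rw [map_mul, hs, Wm_sq, map_one]
      have hsi : s⁻¹ = s := inv_eq_of_mul_eq_one_left hss
      rw [hsi, map_mul, map_mul, hs, R.t_eq, Wm_conj, Ex_neg_one, hρ, hc', hd', hV, fromBlocks_smul]
      simp
    calc pr Γ s * g * z * (pr Γ s * g)⁻¹ = pr Γ s * (g * z * g⁻¹) * (pr Γ s)⁻¹ := by group
      _ = z0 R := by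
          rw [← hw, h3, map_mul, map_mul, map_inv, z0]; group
  · -- `(-1, 1)`
    have hc' := eq_neg_of_add_eq_zero_left hc
    have hd' := sub_eq_zero.1 hd
    refine ⟨g, Or.inl ?_⟩
    rw [← hw]
    apply pr_eq_of_smul R (e := e)
    rw [hρ, R.t_eq, hc', hd', h1, fromBlocks_smul]
    simp
  · -- `(-1, -1)`
    have hc' := eq_neg_of_add_eq_zero_left hc
    have hd' := eq_neg_of_add_eq_zero_left hd
    refine ⟨g, Or.inr ?_⟩
    rw [← hw]
    apply pr_eq_of_smul R (e := e)
    rw [hρ, hv, hc', hd', hV, fromBlocks_smul]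
    simp

end Five

/-! ### conjugation of the data -/

section Conj

variable {L : Type*} [Group L]

theorem map_centralizer_conj (g z : L) :
    (centralizer {z}).map (MulAut.conj g).toMonoidHom = centralizer {g * z * g⁻¹} := by
  ext x
  rw [mem_centralizer_singleton_iff]
  constructor
  · rintro ⟨y, hy, rfl⟩
    have h1 : y * z = z * y := mem_centralizer_singleton_iff.1 hy
    change g * y * g⁻¹ * (g * z * g⁻¹) = g * z * g⁻¹ * (g * y * g⁻¹)
    calc g * y * g⁻¹ * (g * z * g⁻¹) = g * (y * z) * g⁻¹ := by group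
      _ = _ := by rw [h1]; group
  · intro h1
    refine ⟨g⁻¹ * x * g, mem_centralizer_singleton_iff.2 ?_, by simp [mul_assoc]⟩
    calc g⁻¹ * x * g * z = g⁻¹ * (x * (g * z * g⁻¹)) * g := by group
      _ = z * (g⁻¹ * x * g) := by rw [h1]; group

/-- transport of the hypotheses on `K` by conjugation -/
theorem conj_hyp {K : Subgroup L} {z : L} (g : L) (hK : K ≤ centralizer {z})
    (hsn : (K.subgroupOf (centralizer {z})).IsSubnormal) :
    K.map (MulAut.conj g).toMonoidHom ≤ centralizer {g * z * g⁻¹} ∧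
    ((K.map (MulAut.conj g).toMonoidHom).subgroupOf (centralizer {g * z * g⁻¹})).IsSubnormal ∧
    Nonempty (K ≃* K.map (MulAut.conj g).toMonoidHom) := by
  refine ⟨?_, ?_, ⟨K.equivMapOfInjective _ (MulAut.conj g).injective⟩⟩
  · rw [← map_centralizer_conj]
    exact Subgroup.map_mono hK
  · let e := (centralizer {z}).equivMapOfInjective (MulAut.conj g).toMonoidHom (MulAut.conj g).injective
    have h1 := hsn.map (f := e.toMonoidHom) e.surjective
    have key : ∀ Z : Subgroup L, (centralizer {z}).map (MulAut.conj g).toMonoidHom = Z →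
        ((K.map (MulAut.conj g).toMonoidHom).subgroupOf Z).IsSubnormal := by
      rintro Z rfl
      convert h1 using 1
      ext x
      rw [mem_subgroupOf]
      constructor
      · rintro ⟨k, hk, hkx⟩
        refine ⟨⟨k, hK hk⟩, mem_subgroupOf.2 hk, ?_⟩
        exact Subtype.ext hkx
      · rintro ⟨k, hk, hkx⟩
        exact ⟨k, mem_subgroupOf.1 hk, congrArg Subtype.val hkx⟩
    exact key _ (map_centralizer_conj g z)

end Conj

end Cfsg.Agent.Cit.LongFiveB
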