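import Cfsg.Agent.Cit.LongLeaf
import Cfsg.Agent.Nodes.ChartTypeC
import Cfsg.Agent.Nodes.ChartTypeA
import Cfsg.Agent.Nodes.WittBlock

/-!
# Base leaves of THEOREM T for matrix groups, part 2: the charts

* `chartA_isTy`, `chartC_isTy` : the types of the charts of `Nodes/ChartTypeA`, `Nodes/ChartTypeC`;
* `D1_sl`, `KC_su`, `KC_sp` : the classical subgroup of the chart is `D₁`;
* `Leaf.hasPieces` : from a member over a conjugate of `z₀` and a chart to `HasPieces`.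
-/

set_option autoImplicit false

namespace Cfsg.Agent.Cit.LongLeafCh

open Subgroup Cfsg Matrix Cfsg.Agent.Cit.LongAbs Cfsg.Agent.Cit.LongBlock Cfsg.Agent.Cit.LongQuot
  Cfsg.Agent.Cit.LongMain Cfsg.Agent.Cit.LongModel Cfsg.Agent.Cit.LongInst Cfsg.Agent.Cit.LongTwo
  Cfsg.Agent.Cit.LongFinal Cfsg.Agent.Cit.LongConj Cfsg.Agent.Cit.LongLeaf Cfsg.Agent.Nodes.Chart

/-! ### types of the charts -/

section Types

open Cfsg.Agent.Nodes Cfsg.Agent.Nodes.TypeC Cfsg.Agent.Nodes.ClsWitt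
open Cfsg.Agent.ChevalleyStructure.CoxeterGeom Cfsg.Agent.Tits.Roots

theorem sr_mem_LR {n : ℕ} (i : Fin n) : sr i ∈ LR n ↔ (i : ℕ) + 1 = n := by
  constructor
  · rintro ⟨a, ha⟩
    rw [ee_sr, bt] at ha
    by_contra hne
    have hlt : (i : ℕ) + 1 < n := by have := i.2; omega
    have hnx : nx i = (⟨i + 1, hlt⟩, false) := dif_pos hlt
    rcases wt_add_eq (ok_nx i) (Or.inr rfl) ha with ⟨h1, h2⟩ | ⟨h1, h2⟩
    · rw [← h1, hnx] at h2
      exact absurd (congrArg Prod.snd h2) (by simp)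
    · rw [← h1, hnx] at h2
      exact absurd (congrArg Prod.snd h2) (by simp)
  · intro h
    refine ⟨(i, true), ?_⟩
    have hnx : nx i = (i, true) := dif_neg (by omega)
    rw [ee_sr, bt, hnx]

end Types

/-! ### existence of the charts -/

theorem exists_char {F : Type*} [Field F] [Fintype F] (ho : Odd (Fintype.card F)) :
    ∃ p : ℕ, p.Prime ∧ p ≠ 2 ∧ CharP F p := by
  obtain ⟨p, hp⟩ := CharP.exists F
  have h1 : p.Prime := CharP.char_is_prime F p
  refine ⟨p, h1, ?_, hp⟩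
  rintro rfl
  apply SignalizersComponents.SLQuasisimple.two_ne_zero_of_odd ho
  have := CharP.cast_eq_zero F 2
  exact_mod_cast this

section Linear

open Cfsg.Agent.Nodes.ChartTypeA

/-- chart of an image of `SL_{n+1}(F)` -/
theorem exists_chart_sl {n : ℕ} (hn : 1 ≤ n) {F : Type*} [Field F] [Fintype F] (ho : Odd (Fintype.card F))
    {G : Type*} [Group G] (f : SpecialLinearGroup (Fin (n + 1)) F →* G) (hs : Function.Surjective f)
    (hf : f.ker ≤ center (SpecialLinearGroup (Fin (n + 1)) F)) (Om : Set (Subgroup G))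
    (hcj : ∀ K ∈ Om, ∀ g, cj g K ∈ Om) (a b : Fin (n + 1)) (hab : a ≠ b) (hJ : (blk F a b).map f ∈ Om)
    (hOm : ∀ K ∈ Om, ∃ g, K = cj g ((blk F a b).map f)) :
    ∃ (p : ℕ) (_ : CharP F p) (c : Chart Om p (⊤ : Subgroup G)), c.IsTy (.A n) ∧ ∀ r ∈ c.R, c.Z r = c.X r := by
  obtain ⟨p, hp, h2, hch⟩ := exists_char ho
  have : Fact p.Prime := ⟨hp⟩
  refine ⟨p, hch, chartA h2 hn f hs hf Om hcj a b hab hJ hOm, ⟨Equiv.refl _, fun i j => rfl, fun i => ?_⟩,
    fun r _ => rfl⟩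
  exact ⟨fun _ => trivial, fun _ => Cfsg.Agent.Tits.Roots.isRoot_sr _ _ i⟩

end Linear

section Unitary

open Cfsg.Agent.Nodes.ChartTypeC Cfsg.Agent.Nodes.WittU Cfsg.Agent.Nodes.TypeC Cfsg.Agent.Nodes.ClsWitt
open Cfsg.Agent.TitsThree Cfsg.Agent.TitsThree.Siegel Cfsg.Agent.TitsThree.WittFrame
  Cfsg.Agent.TitsThree.WittWeyl Cfsg.Agent.TitsThree.FrameCN
open Cfsg.Agent.TitsThree.SiegelGen Cfsg.Agent.TitsThree.WBridge Cfsg.Agent.TitsThree.KSideU
  Cfsg.Agent.TitsThree.KSideUDesc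

/-- chart of `PSU_N(q)` -/
theorem exists_chart_su {F : Type*} [Field F] [Fintype F] (ho : Odd (Fintype.card F)) {q N m : ℕ}
    (hF : Fintype.card F = q ^ 2) (hN : 3 ≤ N) (hm : 0 < m) (hNm : N = 2 * m ∨ N = 2 * m + 1)
    (Om : Set (Subgroup (PSU N F q))) (hcj : ∀ K ∈ Om, ∀ g, cj g K ∈ Om) {r s : Fin N} (hr : (r : ℕ) = 0)
    (hs : (s : ℕ) = 1)
    (hJ : (Cfsg.Agent.Nodes.WittBlock.blkU F q N r s).map
      (QuotientGroup.mk' (center (SU N F q))) ∈ Om)
    (hOm : ∀ K ∈ Om, ∃ g, K = cj g ((Cfsg.Agent.Nodes.WittBlock.blkU F q N r s).map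
      (QuotientGroup.mk' (center (SU N F q))))) :
    ∃ (p : ℕ) (_ : CharP F p) (c : Chart Om p (⊤ : Subgroup (PSU N F q))), c.IsTy (.C m) := by
  obtain ⟨p, hp, h2, hch⟩ := exists_char ho
  have : Fact p.Prime := ⟨hp⟩
  obtain ⟨W, hW⟩ := exists_wframe hF hNm
  obtain ⟨x, hx⟩ := exists_long (CoxeterMatrix.B m).toCoxeterSystem ((⟨0, hm⟩ : Fin m), true)
  have hKC : KC (KInstU.model hF hN W) ((⟨0, hm⟩ : Fin m), true) =
      (Cfsg.Agent.Nodes.WittBlock.blkU F q N r s).map (QuotientGroup.mk' (center (SU N F q))) :=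
    (ZM_sup (KInstU.model hF hN W) (amb_U hF W) hx).symm.trans
      (Cfsg.Agent.Nodes.WittBlock.sup_ZM_U hF hN W hW
        (SignalizersComponents.SLQuasisimple.two_ne_zero_of_odd ho) (⟨0, hm⟩ : Fin m)
        (by simpa using hr) (by simpa using hs) hx)
  refine ⟨p, hch, chartU hF hN hm W h2 (MonoidHom.id (PSU N F q)) Function.surjective_id
    (by rw [MonoidHom.ker_id]; exact bot_le) Om hcj ((⟨0, hm⟩ : Fin m), true)
    (by rw [Subgroup.map_id, hKC]; exact hJ) (by rw [Subgroup.map_id, hKC]; exact hOm),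
    Equiv.refl _, fun i j => rfl, fun i => sr_mem_LR i⟩

/-- chart of `PSp_{2m}(F)` -/
theorem exists_chart_sp {F : Type*} [Field F] [Fintype F] (ho : Odd (Fintype.card F)) {m : ℕ} (i : Fin m)
    (Om : Set (Subgroup (PSp m F))) (hcj : ∀ K ∈ Om, ∀ g, cj g K ∈ Om)
    (hJ : (Cfsg.Agent.Nodes.WittBlock.blkSp F i).map
      (QuotientGroup.mk' (center (symplecticGroup (Fin m) F))) ∈ Om)
    (hOm : ∀ K ∈ Om, ∃ g, K = cj g ((Cfsg.Agent.Nodes.WittBlock.blkSp F i).map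
      (QuotientGroup.mk' (center (symplecticGroup (Fin m) F))))) :
    ∃ (p : ℕ) (_ : CharP F p) (c : Chart Om p (⊤ : Subgroup (PSp m F))), c.IsTy (.C m) := by
  obtain ⟨p, hp, h2, hch⟩ := exists_char ho
  have : Fact p.Prime := ⟨hp⟩
  obtain ⟨x, hx⟩ := exists_long (CoxeterMatrix.B m).toCoxeterSystem (i, true)
  have hm : 0 < m := by have := i.2; omega
  have hKC : KC (KInstSp.model m F) (i, true) =
      (Cfsg.Agent.Nodes.WittBlock.blkSp F i).map (QuotientGroup.mk' (center (symplecticGroup (Fin m) F))) :=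
    (ZM_sup (KInstSp.model m F) amb_Sp hx).symm.trans
      (Cfsg.Agent.Nodes.WittBlock.sup_ZM_Sp
        (SignalizersComponents.SLQuasisimple.two_ne_zero_of_odd ho) i hx)
  refine ⟨p, hch, chartSp hm h2 (MonoidHom.id (PSp m F)) Function.surjective_id
    (by rw [MonoidHom.ker_id]; exact bot_le) Om hcj (i, true)
    (by rw [Subgroup.map_id, hKC]; exact hJ) (by rw [Subgroup.map_id, hKC]; exact hOm),
    Equiv.refl _, fun i j => rfl, fun i => sr_mem_LR i⟩

end Unitary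

end Cfsg.Agent.Cit.LongLeafCh
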