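import Cfsg.Agent.Cit.LongQuot
import Cfsg.Agent.Cit.LongCore

/-!
# `F(L)` for `L = Γ ⧸ Z(Γ)`, `R : Rep Γ F κ`

`Good R F₁`: `E₁ ≃ SL₂(F₁)`, `E₂` of one of the three types, and the data `Big`, `Split`.
Then every `K ≤ C_L(z₀)`, subnormal, `z₀ ∈ K`, `K / O(K) ≃ SL₂(F')` satisfies
`D_i ≤ K ≤ D_i O(C_L(z₀))` (`i = 1` or `2`).
-/

set_option autoImplicit false

namespace Cfsg.Agent.Cit.LongMain

open Subgroup Cfsg Matrix Cfsg.Agent.Cit.LongAbs Cfsg.Agent.Cit.LongBlock Cfsg.Agent.Cit.LongQuot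
  Cfsg.Agent.Cit.LongCore

variable {Γ : Type*} [Group Γ] {F : Type*} [Field F] {κ : Type*} [Fintype κ] [DecidableEq κ]

/-- the data needed -/
structure Good (R : Rep Γ F κ) (F1 : Type*) [Field F1] [Fintype F1] : Prop where
  two : (2 : F) ≠ 0
  ne : Nonempty κ
  odd : Odd (Fintype.card F1)
  e1 : Nonempty (R.E1 ≃* SpecialLinearGroup (Fin 2) F1)
  alt : Nonempty (R.E2 ≃* SpecialLinearGroup (Fin 2) F1) ∨
    (IsQuasisimple R.E2 ∧ Even (Nat.card R.E2) ∧ (¬ ∃ g, R.ρ g = fromBlocks 1 0 0 (-1)) ∧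
      (Fintype.card F1 = 3 → center R.E2 = ⊥)) ∨ R.E2 = ⊥
  big : Big R
  split : Split R
  char3 : Fintype.card F1 = 3 → (3 : F) = 0

variable {R : Rep Γ F κ} {F1 : Type*} [Field F1] [Fintype F1]

theorem z0_mul : z0 R * z0 R = 1 := by rw [z0, ← map_mul, R.t_sq, map_one]

theorem z0_mem_CC : z0 R ∈ CC R := mem_centralizer_singleton_iff.2 rfl

theorem z0_mem : z0 R ∈ D1 R := mem_map_of_mem _ R.t_mem

theorem D1_le_CC : D1 R ≤ CC R := (D1_le R).trans (C0_le R)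
theorem D2_le_CC : D2 R ≤ CC R := (D2_le R).trans (C0_le R)

theorem mem_center_CC : (⟨z0 R, z0_mem_CC⟩ : CC R) ∈ center (CC R) := by
  rw [mem_center_iff]
  intro g
  exact Subtype.ext (mem_centralizer_singleton_iff.1 g.2)

/-- if `z0 ∈ D2` then `fromBlocks 1 0 0 (-1)` lies in the group -/
theorem exists_of_mem_D2 (hne : Nonempty κ) (h : z0 R ∈ D2 R) : ∃ g, R.ρ g = fromBlocks 1 0 0 (-1) := by
  obtain ⟨s, ⟨S, hS⟩, hs⟩ := h
  have h1 : R.t * s⁻¹ ∈ center Γ := by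
    rw [← pr_eq_one, map_mul, map_inv, hs]
    exact mul_inv_cancel _
  obtain ⟨c, hc⟩ := R.cen _ h1
  obtain ⟨P', S', h', h3, h4, h5, h6⟩ := R.blocks_inv hS
  obtain ⟨k⟩ := hne
  rw [map_mul, R.t_eq, h', fromBlocks_multiply, ← fromBlocks_one, fromBlocks_smul, fromBlocks_inj] at hc
  simp only [Matrix.zero_mul, Matrix.mul_zero, add_zero, zero_add, Matrix.one_mul] at hc
  obtain ⟨h7, -, -, h8⟩ := hc
  have hP' : P' = 1 := by rw [← h3, Matrix.one_mul]
  have hc1 : c = -1 := by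
    have := congrFun (congrFun h7 0) 0
    rw [hP'] at this
    simpa using this.symm
  refine ⟨s, ?_⟩
  rw [hS]
  have h9 : S' = -1 := by rw [h8, hc1, neg_smul, one_smul]
  have h10 : S = -1 := by
    rw [h9] at h5
    have : -S = 1 := by simpa using h5
    rw [← this, neg_neg]
  rw [h10]

theorem subgroupOf_sup (A B : Subgroup (Γ ⧸ center Γ)) (X : Subgroup (Γ ⧸ center Γ)) (hA : A ≤ X) (hB : B ≤ X) :
    A.subgroupOf X ⊔ B.subgroupOf X = (A ⊔ B).subgroupOf X := by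
  apply Subgroup.map_injective X.subtype_injective
  rw [Subgroup.map_sup, map_subgroupOf_eq_of_le hA, map_subgroupOf_eq_of_le hB,
    map_subgroupOf_eq_of_le (sup_le hA hB)]

theorem center_eq_bot_congr {A B : Type*} [Group A] [Group B] (e : A ≃* B) (h : center A = ⊥) :
    center B = ⊥ := by
  rw [eq_bot_iff]
  intro y hy
  have h6 : e.symm y ∈ center A := by
    rw [mem_center_iff]
    intro g
    apply e.injective
    rw [map_mul, map_mul, e.apply_symm_apply, mem_center_iff.1 hy]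
  rw [h, mem_bot] at h6
  rw [mem_bot, ← e.apply_symm_apply y, h6, map_one]

theorem Good.setup [Finite Γ] (h : Good R F1) :
    Setup (CC R) ((D1 R).subgroupOf (CC R)) ((D2 R).subgroupOf (CC R)) ⟨z0 R, z0_mem_CC⟩ F1 where
  odd := h.odd
  s1 := D1_subnormal R h.two
  e1 := by
    have := h.ne
    obtain ⟨e⟩ := h.e1
    exact ⟨((subgroupOfEquivOfLe D1_le_CC).trans (D1Equiv R).symm).trans e⟩
  s2 := D2_subnormal R h.two
  comm := fun x hx y hy => Subtype.ext (comm_D1_D2 R hx hy)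
  zc := mem_center_CC
  zz := Subtype.ext z0_mul
  alt := by
    have e2 := (subgroupOfEquivOfLe (D2_le_CC (R := R))).trans (D2Equiv R).symm
    rcases h.alt with ⟨⟨e⟩⟩ | ⟨h1, h2, h3, h4⟩ | h1
    · exact Or.inl ⟨e2.trans e⟩
    · refine Or.inr (Or.inl ⟨SignalizersComponents.ComponentNormalize.quasisimple_congr e2.symm h1,
        ?_, ?_, fun h5 => center_eq_bot_congr e2.symm (h4 h5)⟩)
      · rwa [Nat.card_congr e2.toEquiv]
      · intro h5
        exact h3 (exists_of_mem_D2 h.ne (mem_subgroupOf.1 h5))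
    · right; right
      rw [eq_bot_iff]
      intro x hx
      have h2 : (x : Γ ⧸ center Γ) ∈ D2 R := mem_subgroupOf.1 hx
      rw [D2, h1, Subgroup.map_bot, mem_bot] at h2
      exact (mem_bot.2 (Subtype.ext h2))
  ab := by
    have key : ∀ x : CC R, x ∈ centralizer (((D1 R).subgroupOf (CC R) ⊔ (D2 R).subgroupOf (CC R) :
        Subgroup (CC R)) : Set (CC R)) → (x : Γ ⧸ center Γ) ∈
        centralizer ((D1 R ⊔ D2 R : Subgroup (Γ ⧸ center Γ)) : Set (Γ ⧸ center Γ)) := by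
      intro x hx
      rw [mem_centralizer_iff]
      intro y hy
      have hyC : y ∈ CC R := (sup_le D1_le_CC D2_le_CC) hy
      rw [subgroupOf_sup _ _ _ D1_le_CC D2_le_CC] at hx
      exact congrArg Subtype.val (mem_centralizer_iff.1 hx ⟨y, hyC⟩ hy)
    intro x hx y hy
    exact Subtype.ext (h.big.comm R (key x hx) (key y hy))
  three := by
    intro h3 x hx
    rw [subgroupOf_sup _ _ _ D1_le_CC D2_le_CC]
    exact h.split.three R h.two (h.char3 h3) x.2 (congrArg Subtype.val hx)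

/-- `O(C_L(z₀))` -/
def OC (R : Rep Γ F κ) : Subgroup (Γ ⧸ center Γ) := (oddCore (CC R)).map (CC R).subtype

theorem OC_le : OC R ≤ CC R := map_subtype_le _

/-- transport of `K / O(K)` to `K.subgroupOf X` -/
theorem exists_quot_equiv {G : Type*} [Group G] {K X : Subgroup G} (h : K ≤ X) :
    Nonempty ((↥(K.subgroupOf X) ⧸ oddCore ↥(K.subgroupOf X)) ≃* (↥K ⧸ oddCore ↥K)) :=
  ⟨QuotientGroup.congr _ _ (subgroupOfEquivOfLe h) (Lib.Cores.map_equiv_pPrimeCore _ 2)⟩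

theorem le_of_subgroupOf_le {G : Type*} [Group G] {K E X : Subgroup G} (h : E ≤ X)
    (hle : E.subgroupOf X ≤ K.subgroupOf X) : E ≤ K := by
  intro x hx
  exact mem_subgroupOf.1 (hle (mem_subgroupOf.2 (show ((⟨x, h hx⟩ : X) : G) ∈ E from hx)))

theorem le_sup_of_subgroupOf_le {G : Type*} [Group G] {K E X : Subgroup G} (hK : K ≤ X) (hE : E ≤ X)
    {O : Subgroup X} (hle : K.subgroupOf X ≤ E.subgroupOf X ⊔ O) : K ≤ E ⊔ O.map X.subtype := by
  have h1 := Subgroup.map_mono (f := X.subtype) hle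
  rwa [Subgroup.map_sup, map_subgroupOf_eq_of_le hK, map_subgroupOf_eq_of_le hE] at h1

/-- **F(L)** with cores: `D_i ≤ K ≤ D_i O(C_L(z₀))` -/
theorem Good.main [Finite Γ] (h : Good R F1) {K : Subgroup (Γ ⧸ center Γ)} (hK : K ≤ CC R)
    (hsn : (K.subgroupOf (CC R)).IsSubnormal) (hz : z0 R ∈ K) {F' : Type*} [Field F'] [Fintype F']
    (ho' : Odd (Fintype.card F')) (eK : Nonempty (↥K ⧸ oddCore ↥K ≃* SpecialLinearGroup (Fin 2) F')) :
    (D1 R ≤ K ∧ K ≤ D1 R ⊔ OC R) ∨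
      (Nonempty (R.E2 ≃* SpecialLinearGroup (Fin 2) F1) ∧ D2 R ≤ K ∧ K ≤ D2 R ⊔ OC R) := by
  obtain ⟨f⟩ := exists_quot_equiv hK
  obtain ⟨eK⟩ := eK
  rcases h.setup.main hsn ho' (f.trans eK) (mem_subgroupOf.2 hz) with ⟨h1, h2⟩ | ⟨⟨e2⟩, h1, h2⟩
  · exact Or.inl ⟨le_of_subgroupOf_le D1_le_CC h1, le_sup_of_subgroupOf_le hK D1_le_CC h2⟩
  · exact Or.inr ⟨⟨((D2Equiv R).trans (subgroupOfEquivOfLe D2_le_CC).symm).trans e2⟩,
      le_of_subgroupOf_le D2_le_CC h1, le_sup_of_subgroupOf_le hK D2_le_CC h2⟩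

/-- **F(L)**, exact form -/
theorem Good.main_exact [Finite Γ] (h : Good R F1) {K : Subgroup (Γ ⧸ center Γ)} (hK : K ≤ CC R)
    (hsn : (K.subgroupOf (CC R)).IsSubnormal) (hz : z0 R ∈ K) {F' : Type*} [Field F'] [Fintype F']
    (ho' : Odd (Fintype.card F')) (eK : Nonempty (↥K ≃* SpecialLinearGroup (Fin 2) F')) :
    K = D1 R ∨ (Nonempty (R.E2 ≃* SpecialLinearGroup (Fin 2) F1) ∧ K = D2 R) := by
  obtain ⟨eK⟩ := eK
  have e0 := (subgroupOfEquivOfLe hK).trans eK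
  rcases h.setup.eq_or_eq ho' hsn e0 (mem_subgroupOf.2 hz) with h1 | h1
  · left
    have h2 := congrArg (Subgroup.map (CC R).subtype) h1
    rwa [map_subgroupOf_eq_of_le hK, map_subgroupOf_eq_of_le D1_le_CC] at h2
  · right
    have h2 := congrArg (Subgroup.map (CC R).subtype) h1
    rw [map_subgroupOf_eq_of_le hK, map_subgroupOf_eq_of_le D2_le_CC] at h2
    refine ⟨?_, h2⟩
    rcases h.alt with h3 | ⟨-, -, h3, -⟩ | h3
    · exact h3
    · exfalso
      apply h3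
      apply exists_of_mem_D2 h.ne
      rw [← h2]; exact hz
    · exfalso
      have h4 : D2 R = ⊥ := by rw [D2, h3, Subgroup.map_bot]
      rw [h2, h4, mem_bot] at hz
      have h5 : R.t ∈ center Γ := pr_eq_one.1 hz
      have := h.ne
      have h6 := congrArg R.ρ (E1_center R R.t_mem h5)
      rw [R.t_eq, map_one, ← fromBlocks_one, fromBlocks_inj] at h6
      have h7 := congrFun (congrFun h6.1 0) 0
      simp at h7
      apply h.two
      have : (1 : F) + 1 = 0 := by nth_rewrite 1 [← h7]; ring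
      rw [← this]; norm_num

/-- other quasisimple types (`2.A₇`) do not occur -/
theorem Good.false_of_quasisimple [Finite Γ] (h : Good R F1) {K : Subgroup (Γ ⧸ center Γ)}
    (hK : K ≤ CC R) (hsn : (K.subgroupOf (CC R)).IsSubnormal) (hz : z0 R ∈ K)
    (hq : IsQuasisimple (↥K ⧸ oddCore ↥K))
    (hne : ¬ Nonempty (↥K ⧸ oddCore ↥K ≃* SpecialLinearGroup (Fin 2) F1)) : False := by
  obtain ⟨f⟩ := exists_quot_equiv hK
  refine h.setup.main_quasisimple hsn
    (SignalizersComponents.ComponentNormalize.quasisimple_congr f.symm hq) ?_ (mem_subgroupOf.2 hz)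
  rintro ⟨e⟩
  exact hne ⟨f.symm.trans e⟩

end Cfsg.Agent.Cit.LongMain
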