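import Cfsg.Agent.Cit.LongMain

/-!
# The groups `{M | det M = 1, Mᵀ M^t = 1 (t ∈ T)}`

`T = ∅` gives `SL`, `T = {x ↦ x ^ q}` gives `SU`.  `Model R T` says that the range of `R.ρ` is this group on
the index set `Fin 2 ⊕ κ`; then `E1`, `E2` are the same groups on `Fin 2`, `κ`, and `Split`, `Big` hold.
-/

set_option autoImplicit false

namespace Cfsg.Agent.Cit.LongModel

open Subgroup Cfsg Matrix Cfsg.Agent.Cit.LongAbs Cfsg.Agent.Cit.LongBlock Cfsg.Agent.Cit.LongQuot
  Cfsg.Agent.Cit.LongMain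

section Cond

variable {F : Type*} [Field F] (T : Set (F →+* F))
variable {ι : Type*} [Fintype ι] [DecidableEq ι] {κ : Type*} [Fintype κ] [DecidableEq κ]

/-- determinant one, unitary for all `t ∈ T` -/
def Cond {ι : Type*} [Fintype ι] [DecidableEq ι] (M : Matrix ι ι F) : Prop :=
  M.det = 1 ∧ ∀ t ∈ T, Mᵀ * M.map t = 1

theorem Cond.one : Cond T (1 : Matrix ι ι F) := by
  refine ⟨det_one, fun t _ => ?_⟩
  rw [transpose_one, Matrix.one_mul, Matrix.map_one t (map_zero t) (map_one t)]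

variable {T}

theorem Cond.mul {M N : Matrix ι ι F} (hM : Cond T M) (hN : Cond T N) : Cond T (M * N) := by
  refine ⟨by rw [det_mul, hM.1, hN.1, one_mul], fun t ht => ?_⟩
  rw [transpose_mul, Matrix.map_mul]
  calc Nᵀ * Mᵀ * (M.map t * N.map t) = Nᵀ * (Mᵀ * M.map t) * N.map t := by
        simp only [Matrix.mul_assoc]
    _ = 1 := by rw [hM.2 t ht, Matrix.mul_one, hN.2 t ht]

theorem Cond.of_mul_eq_one {M N : Matrix ι ι F} (hM : Cond T M) (h : M * N = 1) : Cond T N := by
  refine ⟨?_, fun t ht => ?_⟩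
  · have h1 := congrArg det h
    rwa [det_mul, hM.1, one_mul, det_one] at h1
  · have h0 := mul_eq_one_comm.1 (hM.2 t ht)
    have h1 : N = M⁻¹ := by
      rw [← Matrix.one_mul N]
      have : IsUnit M.det := by rw [hM.1]; exact isUnit_one
      rw [← nonsing_inv_mul M this, Matrix.mul_assoc, h, Matrix.mul_one]
    have h2 : N.map t * M.map t = 1 := by
      rw [← Matrix.map_mul, mul_eq_one_comm.1 h, Matrix.map_one t (map_zero t) (map_one t)]
    have h3 : Nᵀ * Mᵀ = 1 := by rw [← transpose_mul, h, transpose_one]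
    calc Nᵀ * N.map t = Nᵀ * ((Mᵀ * M.map t) * N.map t) := by rw [hM.2 t ht, Matrix.one_mul]
      _ = (Nᵀ * Mᵀ) * (M.map t * N.map t) := by simp only [Matrix.mul_assoc]
      _ = 1 := by rw [h3, Matrix.one_mul]; exact mul_eq_one_comm.1 h2

theorem cond_fromBlocks {P : Matrix ι ι F} {S : Matrix κ κ F} (hP : P.det = 1) (hS : S.det = 1) :
    Cond T (fromBlocks P 0 0 S) ↔ Cond T P ∧ Cond T S := by
  have h1 : ∀ t : F →+* F, (fromBlocks P 0 0 S)ᵀ * (fromBlocks P 0 0 S).map t =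
      fromBlocks (Pᵀ * P.map t) 0 0 (Sᵀ * S.map t) := by
    intro t
    rw [fromBlocks_transpose, fromBlocks_map, fromBlocks_multiply]
    simp
  constructor
  · rintro ⟨-, h⟩
    refine ⟨⟨hP, fun t ht => ?_⟩, ⟨hS, fun t ht => ?_⟩⟩
    · have h2 := h t ht
      rw [h1, ← fromBlocks_one, fromBlocks_inj] at h2
      exact h2.1
    · have h2 := h t ht
      rw [h1, ← fromBlocks_one, fromBlocks_inj] at h2
      exact h2.2.2.2
  · rintro ⟨hP', hS'⟩
    refine ⟨by rw [det_fromBlocks_zero₂₁, hP, hS, one_mul], fun t ht => ?_⟩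
    rw [h1, hP'.2 t ht, hS'.2 t ht, fromBlocks_one]

theorem Cond.fromBlocks {P : Matrix ι ι F} {S : Matrix κ κ F} (hP : Cond T P) (hS : Cond T S) :
    Cond T (fromBlocks P 0 0 S) := (cond_fromBlocks hP.1 hS.1).2 ⟨hP, hS⟩

theorem cond_fromBlocks_left {P : Matrix ι ι F} :
    Cond T (Matrix.fromBlocks P 0 0 (1 : Matrix κ κ F)) ↔ Cond T P := by
  constructor
  · intro h
    have hd : P.det = 1 := by
      have := h.1
      rwa [det_fromBlocks_zero₂₁, det_one, mul_one] at this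
    exact ((cond_fromBlocks hd det_one).1 h).1
  · intro h
    exact h.fromBlocks (Cond.one T)

theorem cond_fromBlocks_right {S : Matrix κ κ F} :
    Cond T (Matrix.fromBlocks (1 : Matrix ι ι F) 0 0 S) ↔ Cond T S := by
  constructor
  · intro h
    have hd : S.det = 1 := by
      have := h.1
      rwa [det_fromBlocks_zero₂₁, det_one, one_mul] at this
    exact ((cond_fromBlocks det_one hd).1 h).2
  · intro h
    exact (Cond.one T).fromBlocks h

theorem cond_reindex {ι' : Type*} [Fintype ι'] [DecidableEq ι'] (e : ι ≃ ι') {M : Matrix ι ι F} :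
    Cond T (M.submatrix e.symm e.symm) ↔ Cond T M := by
  have h0 : ∀ t : F →+* F, (M.submatrix e.symm e.symm)ᵀ * (M.submatrix e.symm e.symm).map t =
      (Mᵀ * M.map t).submatrix e.symm e.symm := by
    intro t
    rw [transpose_submatrix, ← submatrix_map, submatrix_mul_equiv]
  constructor
  · rintro ⟨h1, h2⟩
    refine ⟨by rwa [det_submatrix_equiv_self] at h1, fun t ht => ?_⟩
    have h3 := h2 t ht
    rw [h0] at h3
    have h4 := congrArg (fun N => N.submatrix e e) h3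
    simpa using h4
  · rintro ⟨h1, h2⟩
    refine ⟨by rwa [det_submatrix_equiv_self], fun t ht => ?_⟩
    rw [h0, h2 t ht]
    simp

/-- the group -/
def Un (T : Set (F →+* F)) (ι : Type*) [Fintype ι] [DecidableEq ι] :
    Subgroup (SpecialLinearGroup ι F) where
  carrier := {A : SpecialLinearGroup ι F | Cond T (A : Matrix ι ι F)}
  one_mem' := Cond.one T
  mul_mem' := fun {a b} ha hb => Cond.mul (M := a.1) (N := b.1) ha hb
  inv_mem' := fun {a} ha => by
    refine Cond.of_mul_eq_one (M := a.1) (N := (a⁻¹).1) ha ?_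
    exact congrArg Subtype.val (mul_inv_cancel a)

theorem mem_Un {A : SpecialLinearGroup ι F} : A ∈ Un T ι ↔ Cond T (A : Matrix ι ι F) := Iff.rfl

/-- constructor -/
def Un.mk {M : Matrix ι ι F} (h : Cond T M) : Un T ι := ⟨⟨M, h.1⟩, h⟩

end Cond

/-! ### models -/

variable {Γ : Type*} [Group Γ] {F : Type*} [Field F] {κ : Type*} [Fintype κ] [DecidableEq κ]
  {μ : Type*} [Fintype μ] [DecidableEq μ]
variable {T : Set (F →+* F)}

/-- the range of `ρ` is given by `Cond T` -/
def Model (R : RepG Γ F μ κ) (T : Set (F →+* F)) : Prop := ∀ M, (∃ g, R.ρ g = M) ↔ Cond T M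

/-- the weaker statement which is used: only the block diagonal part -/
structure WModel (R : RepG Γ F μ κ) (T : Set (F →+* F)) : Prop where
  ex : ∀ P S, Cond T P → Cond T S → ∃ g, R.ρ g = fromBlocks P 0 0 S
  left : ∀ g P, R.ρ g = fromBlocks P 0 0 1 → Cond T P
  right : ∀ g S, R.ρ g = fromBlocks 1 0 0 S → Cond T S
  split : Split R

theorem Model.toW {R : RepG Γ F μ κ} (hR : Model R T) : WModel R T where
  ex P S hP hS := (hR _).2 (hP.fromBlocks hS)
  left g P h := cond_fromBlocks_left.1 (h ▸ (hR _).1 ⟨g, rfl⟩)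
  right g S h := cond_fromBlocks_right.1 (h ▸ (hR _).1 ⟨g, rfl⟩)
  split := by
    intro g P S h hP hS
    have h1 : Cond T (R.ρ g) := (hR _).1 ⟨g, rfl⟩
    rw [h] at h1
    exact (hR _).2 (((cond_fromBlocks hP hS).1 h1).1.fromBlocks (Cond.one T))

variable {R : RepG Γ F μ κ} (hR : WModel R T)
include hR

theorem WModel.equiv1 : Nonempty (R.E1 ≃* Un T μ) := by
  have h0 : ∀ x : R.E1, R.ρ x = fromBlocks (R.ρ x).toBlocks₁₁ 0 0 1 ∧ Cond T (R.ρ x).toBlocks₁₁ := by
    rintro ⟨x, P, hP⟩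
    rw [hP, toBlocks_fromBlocks₁₁]
    exact ⟨rfl, hR.left _ _ hP⟩
  let φ : R.E1 →* Un T μ :=
    { toFun := fun x => Un.mk (h0 x).2
      map_one' := by
        apply Subtype.ext; apply Subtype.ext
        change (R.ρ ((1 : R.E1) : Γ)).toBlocks₁₁ = 1
        rw [Subgroup.coe_one, map_one, ← fromBlocks_one, toBlocks_fromBlocks₁₁]
      map_mul' := by
        intro x y
        apply Subtype.ext; apply Subtype.ext
        change (R.ρ ((x * y : R.E1) : Γ)).toBlocks₁₁ = (R.ρ x).toBlocks₁₁ * (R.ρ y).toBlocks₁₁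
        rw [Subgroup.coe_mul, map_mul]
        nth_rewrite 1 [(h0 x).1, (h0 y).1]
        rw [fromBlocks_multiply, toBlocks_fromBlocks₁₁]
        simp }
  refine ⟨MulEquiv.ofBijective φ ⟨?_, ?_⟩⟩
  · intro x y hxy
    have h1 : (R.ρ x).toBlocks₁₁ = (R.ρ y).toBlocks₁₁ :=
      congrArg (fun A : Un T μ => (A.1.1 : Matrix μ μ F)) hxy
    apply Subtype.ext
    apply R.inj
    rw [(h0 x).1, (h0 y).1, h1]
  · rintro ⟨⟨M, hM⟩, hM'⟩
    have h1 : Cond T M := hM'
    obtain ⟨g, hg⟩ := hR.ex M 1 h1 (Cond.one T)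
    refine ⟨⟨g, M, hg⟩, ?_⟩
    apply Subtype.ext; apply Subtype.ext
    change (R.ρ g).toBlocks₁₁ = M
    rw [hg, toBlocks_fromBlocks₁₁]

theorem WModel.equiv2 : Nonempty (R.E2 ≃* Un T κ) := by
  have h0 : ∀ x : R.E2, R.ρ x = fromBlocks 1 0 0 (R.ρ x).toBlocks₂₂ ∧ Cond T (R.ρ x).toBlocks₂₂ := by
    rintro ⟨x, P, hP⟩
    rw [hP, toBlocks_fromBlocks₂₂]
    exact ⟨rfl, hR.right _ _ hP⟩
  let φ : R.E2 →* Un T κ :=
    { toFun := fun x => Un.mk (h0 x).2
      map_one' := by
        apply Subtype.ext; apply Subtype.ext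
        change (R.ρ ((1 : R.E2) : Γ)).toBlocks₂₂ = 1
        rw [Subgroup.coe_one, map_one, ← fromBlocks_one, toBlocks_fromBlocks₂₂]
      map_mul' := by
        intro x y
        apply Subtype.ext; apply Subtype.ext
        change (R.ρ ((x * y : R.E2) : Γ)).toBlocks₂₂ = (R.ρ x).toBlocks₂₂ * (R.ρ y).toBlocks₂₂
        rw [Subgroup.coe_mul, map_mul]
        nth_rewrite 1 [(h0 x).1, (h0 y).1]
        rw [fromBlocks_multiply, toBlocks_fromBlocks₂₂]
        simp }
  refine ⟨MulEquiv.ofBijective φ ⟨?_, ?_⟩⟩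
  · intro x y hxy
    have h1 : (R.ρ x).toBlocks₂₂ = (R.ρ y).toBlocks₂₂ :=
      congrArg (fun A : Un T κ => (A.1.1 : Matrix κ κ F)) hxy
    apply Subtype.ext
    apply R.inj
    rw [(h0 x).1, (h0 y).1, h1]
  · rintro ⟨⟨M, hM⟩, hM'⟩
    have h1 : Cond T M := hM'
    obtain ⟨g, hg⟩ := hR.ex 1 M (Cond.one T) h1
    refine ⟨⟨g, M, hg⟩, ?_⟩
    apply Subtype.ext; apply Subtype.ext
    change (R.ρ g).toBlocks₂₂ = M
    rw [hg, toBlocks_fromBlocks₂₂]

omit hR

/-! ### quaternion pairs -/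

/-- the data for a quaternion pair -/
def Quat (T : Set (F →+* F)) (a b : F) : Prop := a * a + b * b = -1 ∧ ∀ t ∈ T, t a = -a ∧ t b = -b

/-- first element -/
def U1 (F : Type*) [Field F] : Matrix (Fin 2) (Fin 2) F := !![0, 1; -1, 0]
/-- second element -/
def U2 (a b : F) : Matrix (Fin 2) (Fin 2) F := !![a, b; b, -a]

theorem U1_sq : U1 F * U1 F = -1 := by
  ext i j
  fin_cases i <;> fin_cases j <;> simp [U1, Matrix.mul_apply, Fin.sum_univ_two]

theorem U2_sq {a b : F} (h : Quat T a b) : U2 a b * U2 a b = -1 := by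
  have h1 := h.1
  ext i j
  fin_cases i <;> fin_cases j <;> simp [U2, Matrix.mul_apply, Fin.sum_univ_two]
  · linear_combination h1
  · ring
  · ring
  · linear_combination h1

theorem cond_U1 (T : Set (F →+* F)) : Cond T (U1 F) := by
  refine ⟨by simp [U1], fun t _ => ?_⟩
  ext i j
  fin_cases i <;> fin_cases j <;> simp [U1, Matrix.mul_apply, Fin.sum_univ_two]

theorem cond_U2 {a b : F} (h : Quat T a b) : Cond T (U2 a b) := by
  have h1 := h.1
  refine ⟨?_, fun t ht => ?_⟩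
  · rw [U2, det_fin_two_of]
    linear_combination -h1
  · obtain ⟨h2, h3⟩ := h.2 t ht
    ext i j
    fin_cases i <;> fin_cases j <;>
      simp [U2, Matrix.mul_apply, Fin.sum_univ_two, h2, h3]
    · linear_combination -h1
    · ring
    · ring
    · linear_combination -h1

theorem trace_U1 : trace (U1 F) = 0 := by simp [U1, trace_fin_two]
theorem trace_U2 (a b : F) : trace (U2 a b) = 0 := by simp [U2, trace_fin_two]

theorem scalar_of_comm {a b : F} (h2 : (2 : F) ≠ 0) (h : Quat T a b) {P : Matrix (Fin 2) (Fin 2) F}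
    (h3 : P * U1 F = U1 F * P) (h4 : P * U2 a b = U2 a b * P) : ∃ c : F, P = c • 1 := by
  have e1 := congrFun (congrFun h3 0) 0
  have e2 := congrFun (congrFun h3 0) 1
  have e3 := congrFun (congrFun h4 0) 0
  have e4 := congrFun (congrFun h4 0) 1
  simp [U1, Matrix.mul_apply, Fin.sum_univ_two] at e1 e2
  simp [U2, Matrix.mul_apply, Fin.sum_univ_two] at e3 e4
  -- `e1 : -P 0 1 = P 1 0`, `e2 : P 0 0 = P 1 1`
  have e5 : 2 * (P 0 1 * b) = 0 := by linear_combination e3 - b * e1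
  have e6 : 2 * (P 0 1 * a) = 0 := by linear_combination -e4 + b * e2
  have hb : P 0 1 * b = 0 := (mul_eq_zero.1 e5).resolve_left h2
  have ha : P 0 1 * a = 0 := (mul_eq_zero.1 e6).resolve_left h2
  have h0 : P 0 1 = 0 := by
    have h1 := h.1
    linear_combination (P 0 1) * h1 - a * ha - b * hb
  have h5 : P 1 0 = 0 := by rw [← e1, h0, neg_zero]
  refine ⟨P 0 0, ?_⟩
  ext i j
  fin_cases i <;> fin_cases j <;> simp [h0, h5, e2]

omit [DecidableEq κ] in
theorem trace_blocks {ι : Type*} [Fintype ι] (P : Matrix ι ι F) (S : Matrix κ κ F) :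
    trace (fromBlocks P 0 0 S) = trace P + trace S := by
  simp [trace, Fintype.sum_sum_type]

theorem WModel.big_of {R : Rep Γ F κ} (hR : WModel R T) {a b : F} (h2 : (2 : F) ≠ 0) (h : Quat T a b) (w0 : Matrix κ κ F)
    (hw0 : Cond T w0) (hw0s : w0 * w0 = 1) (hw0t : trace w0 ≠ 0) (W : Set (Matrix κ κ F))
    (hW : ∀ w ∈ W, Cond T w) (hWt : ∀ w ∈ W, 2 + trace w ≠ 0)
    (hWc : ∀ S : Matrix κ κ F, (∀ w ∈ W, S * w = w * S) → ∃ c : F, S = c • 1) : Big R := by
  have hmem : ∀ g P S, R.ρ g = fromBlocks P 0 0 S → P.det = 1 → S.det = 1 → g ∈ R.E1 ⊔ R.E2 :=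
    fun g P S hg hP hS => hR.split.mem R hg hP hS
  refine ⟨{g | (∃ U ∈ ({U1 F, U2 a b} : Set (Matrix (Fin 2) (Fin 2) F)), R.ρ g = fromBlocks U 0 0 w0) ∨
    ∃ w ∈ W, R.ρ g = fromBlocks 1 0 0 w}, ?_, ?_, ?_⟩
  · rintro u (⟨U, hU, hu⟩ | ⟨w, hw, hu⟩)
    · refine hmem u _ _ hu ?_ hw0.1
      rcases hU with rfl | rfl
      · exact (cond_U1 T).1
      · exact (cond_U2 h).1
    · exact hmem u _ _ hu det_one (hW w hw).1
  · rintro u (⟨U, hU, hu⟩ | ⟨w, hw, hu⟩)
    · rw [hu, trace_blocks]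
      have : trace U = 0 := by
        rcases hU with rfl | rfl
        · exact trace_U1
        · exact trace_U2 a b
      rwa [this, zero_add]
    · rw [hu, trace_blocks, trace_one, Fintype.card_fin]
      exact_mod_cast hWt w hw
  · intro g hg
    obtain ⟨u1, hu1⟩ := hR.ex _ _ (cond_U1 T) hw0
    obtain ⟨u2, hu2⟩ := hR.ex _ _ (cond_U2 h) hw0
    have c1 := hg u1 (Or.inl ⟨_, Or.inl rfl, hu1⟩)
    have c2 := hg u2 (Or.inl ⟨_, Or.inr rfl, hu2⟩)
    have ht : u1 * u1 = R.t := by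
      apply R.inj
      rw [map_mul, hu1, fromBlocks_multiply, R.t_eq]
      simp [U1_sq, hw0s]
    have hgt : g * R.t = R.t * g := by
      rw [← ht]
      calc g * (u1 * u1) = (g * u1) * u1 := (mul_assoc _ _ _).symm
        _ = u1 * (g * u1) := by rw [c1, mul_assoc, c1, ← mul_assoc]
        _ = u1 * u1 * g := by rw [c1, mul_assoc]
    obtain ⟨P, S, hPS⟩ := R.blocks_of_comm h2 hgt
    have d1 := congrArg R.ρ c1
    have d2 := congrArg R.ρ c2
    rw [map_mul, map_mul, hPS, hu1, fromBlocks_multiply, fromBlocks_multiply, fromBlocks_inj] at d1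
    rw [map_mul, map_mul, hPS, hu2, fromBlocks_multiply, fromBlocks_multiply, fromBlocks_inj] at d2
    simp only [Matrix.zero_mul, Matrix.mul_zero, add_zero, zero_add] at d1 d2
    obtain ⟨c, hc⟩ := scalar_of_comm h2 h d1.1 d2.1
    obtain ⟨d, hd⟩ := hWc S fun w hw => by
      obtain ⟨k, hk⟩ := hR.ex _ _ (Cond.one T) (hW w hw)
      have d3 := congrArg R.ρ (hg k (Or.inr ⟨w, hw, hk⟩))
      rw [map_mul, map_mul, hPS, hk, fromBlocks_multiply, fromBlocks_multiply, fromBlocks_inj] at d3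
      simp only [Matrix.zero_mul, Matrix.mul_zero, add_zero, zero_add] at d3
      exact d3.2.2.2
    exact ⟨c, d, by rw [hPS, hc, hd]⟩

theorem WModel.big1 {R : Rep Γ F (Fin 1)} (hR : WModel R T) {a b : F} (h2 : (2 : F) ≠ 0)
    (h : Quat T a b) : Big R := by
  refine hR.big_of h2 h 1 (Cond.one T) (Matrix.one_mul _) (by simp) ∅ (by simp) (by simp) ?_
  intro S _
  refine ⟨S 0 0, ?_⟩
  ext i j
  fin_cases i; fin_cases j; simp

theorem WModel.big2 {R : Rep Γ F (Fin 2)} (hR : WModel R T) {a b : F} (h2 : (2 : F) ≠ 0)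
    (h : Quat T a b) : Big R := by
  refine hR.big_of h2 h 1 (Cond.one T) (Matrix.one_mul _) (by simpa using h2) {U1 F, U2 a b} ?_ ?_ ?_
  · rintro w (rfl | rfl)
    · exact cond_U1 T
    · exact cond_U2 h
  · rintro w (rfl | rfl)
    · rw [trace_U1, add_zero]; exact h2
    · rw [trace_U2, add_zero]; exact h2
  · intro S hS
    exact scalar_of_comm h2 h (hS _ (Or.inl rfl)) (hS _ (Or.inr rfl))

/-- `diag(-1,-1,1)` -/
def V1 (F : Type*) [Field F] : Matrix (Fin 3) (Fin 3) F := !![-1, 0, 0; 0, -1, 0; 0, 0, 1]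
/-- `diag(1,-1,-1)` -/
def V2 (F : Type*) [Field F] : Matrix (Fin 3) (Fin 3) F := !![1, 0, 0; 0, -1, 0; 0, 0, -1]
/-- a 3-cycle -/
def V3 (F : Type*) [Field F] : Matrix (Fin 3) (Fin 3) F := !![0, 1, 0; 0, 0, 1; 1, 0, 0]

theorem cond_V1 (T : Set (F →+* F)) : Cond T (V1 F) := by
  refine ⟨by simp [V1, det_fin_three], fun t _ => ?_⟩
  ext i j
  fin_cases i <;> fin_cases j <;> simp [V1, Matrix.mul_apply, Fin.sum_univ_three]

theorem cond_V2 (T : Set (F →+* F)) : Cond T (V2 F) := by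
  refine ⟨by simp [V2, det_fin_three], fun t _ => ?_⟩
  ext i j
  fin_cases i <;> fin_cases j <;> simp [V2, Matrix.mul_apply, Fin.sum_univ_three]

theorem cond_V3 (T : Set (F →+* F)) : Cond T (V3 F) := by
  refine ⟨by simp [V3, det_fin_three], fun t _ => ?_⟩
  ext i j
  fin_cases i <;> fin_cases j <;> simp [V3, Matrix.mul_apply, Fin.sum_univ_three]

theorem V1_sq : V1 F * V1 F = 1 := by
  ext i j
  fin_cases i <;> fin_cases j <;> simp [V1, Matrix.mul_apply, Fin.sum_univ_three]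

theorem WModel.big3 {R : Rep Γ F (Fin 3)} (hR : WModel R T) {a b : F} (h2 : (2 : F) ≠ 0)
    (h : Quat T a b) : Big R := by
  have t1 : trace (V1 F) = -1 := by simp [V1, trace_fin_three]
  have t2 : trace (V2 F) = -1 := by simp [V2, trace_fin_three]
  have t3 : trace (V3 F) = 0 := by simp [V3, trace_fin_three]
  refine hR.big_of h2 h (V1 F) (cond_V1 T) V1_sq ?_ {V1 F, V2 F, V3 F} ?_ ?_ ?_
  · rw [t1]; exact neg_ne_zero.2 one_ne_zero
  · rintro w (rfl | rfl | rfl)
    · exact cond_V1 T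
    · exact cond_V2 T
    · exact cond_V3 T
  · have h1 : (2 : F) + -1 ≠ 0 := by
      have : (2 : F) + -1 = 1 := by norm_num
      rw [this]; exact one_ne_zero
    rintro w (rfl | rfl | rfl)
    · rw [t1]; exact h1
    · rw [t2]; exact h1
    · rw [t3, add_zero]; exact h2
  · intro S hS
    have e1 := hS _ (Or.inl rfl)
    have e2 := hS _ (Or.inr (Or.inl rfl))
    have e3 := hS _ (Or.inr (Or.inr rfl))
    have key : ∀ x : F, -x = x → x = 0 := by
      intro x hx
      have : 2 * x = 0 := by linear_combination -hx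
      exact (mul_eq_zero.1 this).resolve_left h2
    have key' : ∀ x : F, x = -x → x = 0 := fun x hx => key x hx.symm
    have a02 := congrFun (congrFun e1 0) 2
    have a12 := congrFun (congrFun e1 1) 2
    have a20 := congrFun (congrFun e1 2) 0
    have a21 := congrFun (congrFun e1 2) 1
    have a01 := congrFun (congrFun e2 0) 1
    have a10 := congrFun (congrFun e2 1) 0
    have b0 := congrFun (congrFun e3 0) 1
    have b1 := congrFun (congrFun e3 1) 2
    simp [V1, V2, V3, Matrix.mul_apply, Fin.sum_univ_three] at a02 a12 a20 a21 a01 a10 b0 b1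
    refine ⟨S 0 0, ?_⟩
    ext i j
    fin_cases i <;> fin_cases j <;> simp
    all_goals first
      | exact key _ (by assumption)
      | exact key' _ (by assumption)
      | exact b0.symm
      | exact (b0.trans b1).symm

end Cfsg.Agent.Cit.LongModel
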