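import Cfsg.Agent.Cit.LongBlock

/-!
# Passage to `Γ ⧸ Z(Γ)`

`R : Rep Γ F κ` with `Γ` finite.  In `L = Γ ⧸ Z(Γ)` the images `D1`, `D2` of the block subgroups are
subnormal in the centraliser of the image of `t`, and the hypotheses of `LongAbs.eq_or_eq` hold there.
-/

set_option autoImplicit false

namespace Cfsg.Agent.Cit.LongQuot

open Subgroup Cfsg Matrix Cfsg.Agent.Cit.LongAbs Cfsg.Agent.Cit.LongBlock

variable {Γ : Type*} [Group Γ] {F : Type*} [Field F] {κ : Type*} [Fintype κ] [DecidableEq κ]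
  {μ : Type*} [Fintype μ] [DecidableEq μ]

/-- the quotient map -/
abbrev pr (Γ : Type*) [Group Γ] : Γ →* Γ ⧸ center Γ := QuotientGroup.mk' (center Γ)

theorem pr_surjective : Function.Surjective (pr Γ) := QuotientGroup.mk'_surjective _

theorem pr_eq_one {g : Γ} : pr Γ g = 1 ↔ g ∈ center Γ := QuotientGroup.eq_one_iff g

theorem pr_comm {g h : Γ} : pr Γ g * pr Γ h = pr Γ h * pr Γ g ↔ g * h * g⁻¹ * h⁻¹ ∈ center Γ := by
  rw [← pr_eq_one, map_mul, map_mul, map_mul, map_inv, map_inv, mul_inv_eq_one, mul_inv_eq_iff_eq_mul]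

variable (R : RepG Γ F μ κ)

/-- image of `E1` -/
def D1 : Subgroup (Γ ⧸ center Γ) := R.E1.map (pr Γ)
/-- image of `E2` -/
def D2 : Subgroup (Γ ⧸ center Γ) := R.E2.map (pr Γ)
/-- image of `t` -/
def z0 : Γ ⧸ center Γ := pr Γ R.t

/-- the centraliser of `z0` -/
abbrev CC : Subgroup (Γ ⧸ center Γ) := centralizer {z0 R}

theorem mem_CC {g : Γ} : pr Γ g ∈ CC R ↔ g * R.t * g⁻¹ * R.t⁻¹ ∈ center Γ := by
  rw [CC, mem_centralizer_singleton_iff, z0, pr_comm]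

theorem mem_CC_of_comm {g : Γ} (h : g * R.t = R.t * g) : pr Γ g ∈ CC R := by
  rw [mem_CC, h]
  simp [(center Γ).one_mem]

/-- image of `C(t)` -/
def C0 : Subgroup (Γ ⧸ center Γ) := (centralizer {R.t}).map (pr Γ)

theorem C0_le : C0 R ≤ CC R := by
  rintro _ ⟨g, hg, rfl⟩
  exact mem_CC_of_comm R (mem_centralizer_singleton_iff.1 hg)

theorem D1_le : D1 R ≤ C0 R := by
  rintro _ ⟨g, hg, rfl⟩
  obtain ⟨P, hP⟩ := hg
  exact ⟨g, mem_centralizer_singleton_iff.2 (R.comm_t_of_blocks hP), rfl⟩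

theorem D2_le : D2 R ≤ C0 R := by
  rintro _ ⟨g, hg, rfl⟩
  obtain ⟨P, hP⟩ := hg
  exact ⟨g, mem_centralizer_singleton_iff.2 (R.comm_t_of_blocks hP), rfl⟩

theorem C0_conj {x c : Γ ⧸ center Γ} (hx : x ∈ CC R) (hc : c ∈ C0 R) : x * c * x⁻¹ ∈ C0 R := by
  obtain ⟨g, rfl⟩ := pr_surjective x
  obtain ⟨c, hc, rfl⟩ := hc
  rw [mem_CC] at hx
  have hct : c * R.t = R.t * c := mem_centralizer_singleton_iff.1 hc
  refine ⟨g * c * g⁻¹, ?_, by simp⟩
  refine mem_centralizer_singleton_iff.2 ?_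
  set ζ := g * R.t * g⁻¹ * R.t⁻¹ with hζ
  have hζc := mem_center_iff.1 hx
  have h1 : g * R.t * g⁻¹ = ζ * R.t := by rw [hζ]; group
  have h2 : R.t = ζ⁻¹ * (g * R.t * g⁻¹) := by rw [h1]; group
  have h3 : (g * c * g⁻¹) * ζ⁻¹ = ζ⁻¹ * (g * c * g⁻¹) := by
    have := hζc (g * c * g⁻¹)
    calc (g * c * g⁻¹) * ζ⁻¹ = ζ⁻¹ * (ζ * (g * c * g⁻¹)) * ζ⁻¹ := by group
      _ = ζ⁻¹ * ((g * c * g⁻¹) * ζ) * ζ⁻¹ := by rw [this]
      _ = _ := by group
  calc g * c * g⁻¹ * R.t = g * c * g⁻¹ * (ζ⁻¹ * (g * R.t * g⁻¹)) := by rw [← h2]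
    _ = (g * c * g⁻¹ * ζ⁻¹) * (g * R.t * g⁻¹) := by group
    _ = ζ⁻¹ * (g * (c * R.t) * g⁻¹) := by rw [h3]; group
    _ = ζ⁻¹ * (g * R.t * g⁻¹) * (g * c * g⁻¹) := by rw [hct]; group
    _ = R.t * (g * c * g⁻¹) := by rw [← h2]

variable (h2 : (2 : F) ≠ 0)
include h2

theorem D1_conj {x c : Γ ⧸ center Γ} (hx : x ∈ C0 R) (hc : c ∈ D1 R) : x * c * x⁻¹ ∈ D1 R := by
  obtain ⟨g, hg, rfl⟩ := hx
  obtain ⟨c, hc, rfl⟩ := hc
  exact ⟨g * c * g⁻¹, R.conj_mem_E1 (mem_centralizer_singleton_iff.1 hg) h2 hc, by simp⟩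

theorem D2_conj {x c : Γ ⧸ center Γ} (hx : x ∈ C0 R) (hc : c ∈ D2 R) : x * c * x⁻¹ ∈ D2 R := by
  obtain ⟨g, hg, rfl⟩ := hx
  obtain ⟨c, hc, rfl⟩ := hc
  exact ⟨g * c * g⁻¹, R.conj_mem_E2 (mem_centralizer_singleton_iff.1 hg) h2 hc, by simp⟩

omit h2 in
/-- two-step normal chain gives a subnormal subgroup of the top term -/
theorem isSubnormal_of_chain {L : Type*} [Group L] {D C X : Subgroup L} (hDC : D ≤ C) 
    (h1 : ∀ x ∈ X, ∀ c ∈ C, x * c * x⁻¹ ∈ C) (h2 : ∀ x ∈ C, ∀ c ∈ D, x * c * x⁻¹ ∈ D) :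
    (D.subgroupOf X).IsSubnormal := by
  have hC : (C.subgroupOf X).Normal :=
    ⟨fun n hn g => mem_subgroupOf.2 (h1 g g.2 n (mem_subgroupOf.1 hn))⟩
  refine IsSubnormal.step _ (C.subgroupOf X) ?_ ?_ ?_
  · intro x hx
    exact mem_subgroupOf.2 (hDC (mem_subgroupOf.1 hx))
  · exact hC.isSubnormal
  · constructor
    intro n hn g
    refine mem_subgroupOf.2 (mem_subgroupOf.2 ?_)
    exact h2 _ (mem_subgroupOf.1 g.2) _ (mem_subgroupOf.1 (mem_subgroupOf.1 hn))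

theorem D1_subnormal : ((D1 R).subgroupOf (CC R)).IsSubnormal :=
  isSubnormal_of_chain (D1_le R) (fun _ hx _ hc => C0_conj R hx hc)
    (fun _ hx _ hc => D1_conj R h2 hx hc)

theorem D2_subnormal : ((D2 R).subgroupOf (CC R)).IsSubnormal :=
  isSubnormal_of_chain (D2_le R) (fun _ hx _ hc => C0_conj R hx hc)
    (fun _ hx _ hc => D2_conj R h2 hx hc)

omit h2

theorem comm_D1_D2 {x y : Γ ⧸ center Γ} (hx : x ∈ D1 R) (hy : y ∈ D2 R) : x * y = y * x := by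
  obtain ⟨x, hx, rfl⟩ := hx
  obtain ⟨y, hy, rfl⟩ := hy
  rw [← map_mul, ← map_mul, R.comm_E1_E2 hx hy]

/-- a subgroup meeting the centre trivially maps isomorphically -/
noncomputable def mapEquiv {E : Subgroup Γ} (h : ∀ x ∈ E, x ∈ center Γ → x = 1) :
    E ≃* E.map (pr Γ) :=
  MulEquiv.ofBijective ((pr Γ).subgroupMap E) ⟨by
    rw [injective_iff_map_eq_one]
    intro a ha
    have h1 : pr Γ (a : Γ) = 1 := congrArg Subtype.val ha
    exact Subtype.ext (h a a.2 (pr_eq_one.1 h1)), (pr Γ).subgroupMap_surjective E⟩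

theorem E1_center [Nonempty κ] {x : Γ} (hx : x ∈ R.E1) (hc : x ∈ center Γ) : x = 1 := by
  obtain ⟨P, hP⟩ := hx
  obtain ⟨c, hc⟩ := R.cen x hc
  obtain ⟨k⟩ := ‹Nonempty κ›
  have h1 : c = 1 := by
    have := congrFun (congrFun (hP.symm.trans hc) (Sum.inr k)) (Sum.inr k)
    simpa using this.symm
  apply R.inj
  rw [hc, h1, one_smul, map_one]

theorem E2_center [Nonempty μ] {x : Γ} (hx : x ∈ R.E2) (hc : x ∈ center Γ) : x = 1 := by
  obtain ⟨P, hP⟩ := hx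
  obtain ⟨c, hc⟩ := R.cen x hc
  obtain ⟨m⟩ := ‹Nonempty μ›
  have h1 : c = 1 := by
    have := congrFun (congrFun (hP.symm.trans hc) (Sum.inl m)) (Sum.inl m)
    simpa using this.symm
  apply R.inj
  rw [hc, h1, one_smul, map_one]

noncomputable def D1Equiv [Nonempty κ] : R.E1 ≃* D1 R := mapEquiv fun _ hx hc => E1_center R hx hc
noncomputable def D2Equiv [Nonempty μ] : R.E2 ≃* D2 R := mapEquiv fun _ hx hc => E2_center R hx hc

/-- the data on `R` used below: a set `T` of block elements of non-zero trace whose commutant consists of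
pairs of scalars -/
def Big : Prop := ∃ T : Set Γ, (∀ u ∈ T, u ∈ R.E1 ⊔ R.E2) ∧ (∀ u ∈ T, trace (R.ρ u) ≠ 0) ∧
  ∀ g, (∀ u ∈ T, g * u = u * g) → ∃ a b : F, R.ρ g = fromBlocks (a • 1) 0 0 (b • 1)

theorem Big.centralizer (hB : Big R) {x : Γ ⧸ center Γ}
    (hx : x ∈ centralizer ((D1 R ⊔ D2 R : Subgroup (Γ ⧸ center Γ)) : Set (Γ ⧸ center Γ))) :
    ∃ g, pr Γ g = x ∧ ∃ a b : F, R.ρ g = fromBlocks (a • 1) 0 0 (b • 1) := by
  obtain ⟨T, hT, hTt, hTc⟩ := hB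
  obtain ⟨g, rfl⟩ := pr_surjective x
  refine ⟨g, rfl, hTc g fun u hu => R.comm_of_trace (pr_comm.1 ?_) (hTt u hu)⟩
  have h1 : pr Γ u ∈ D1 R ⊔ D2 R := by
    rw [D1, D2, ← Subgroup.map_sup]
    exact mem_map_of_mem _ (hT u hu)
  exact (mem_centralizer_iff.1 hx _ h1).symm

theorem Big.comm (hB : Big R) {x y : Γ ⧸ center Γ}
    (hx : x ∈ Subgroup.centralizer ((D1 R ⊔ D2 R : Subgroup (Γ ⧸ center Γ)) : Set (Γ ⧸ center Γ)))
    (hy : y ∈ Subgroup.centralizer ((D1 R ⊔ D2 R : Subgroup (Γ ⧸ center Γ)) : Set (Γ ⧸ center Γ))) :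
    x * y = y * x := by
  obtain ⟨g, rfl, a, b, hg⟩ := hB.centralizer R hx
  obtain ⟨g', rfl, a', b', hg'⟩ := hB.centralizer R hy
  rw [← map_mul, ← map_mul]
  congr 1
  apply R.inj
  rw [map_mul, map_mul, hg, hg', fromBlocks_multiply, fromBlocks_multiply]
  simp [smul_smul, mul_comm]


/-! ### elements of order 3 in characteristic 3 -/

theorem eq_one_of_cube {c : F} (h3 : (3 : F) = 0) (h : c * c * c = 1) : c = 1 := by
  have h1 : (c - 1) ^ 3 = 0 := by linear_combination h - (c ^ 2 - c) * h3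
  exact sub_eq_zero.1 (pow_eq_zero_iff (by norm_num) |>.1 h1)

include R in
theorem center_cube [Nonempty μ] (h3 : (3 : F) = 0) {ζ : Γ} (hc : ζ ∈ center Γ) (h : ζ ^ 3 = 1) : ζ = 1 := by
  obtain ⟨c, hc⟩ := R.cen ζ hc
  obtain ⟨m⟩ := ‹Nonempty μ›
  have h1 : R.ρ (ζ ^ 3) = (c * c * c) • (1 : Matrix (μ ⊕ κ) (μ ⊕ κ) F) := by
    rw [pow_succ, pow_two, map_mul, map_mul, hc]
    simp [smul_smul, mul_assoc]
  rw [h, map_one] at h1
  have h4 : c * c * c = 1 := by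
    have := congrFun (congrFun h1 (Sum.inl m)) (Sum.inl m)
    simpa using this.symm
  apply R.inj
  rw [hc, eq_one_of_cube h3 h4, one_smul, map_one]

include R in
theorem exists_lift_three [Finite Γ] [Nonempty μ] (h3 : (3 : F) = 0) {x : Γ ⧸ center Γ} (hx : x * x * x = 1) :
    ∃ g, pr Γ g = x ∧ g ^ 3 = 1 := by
  obtain ⟨g, rfl⟩ := pr_surjective x
  have hz : g ^ 3 ∈ center Γ := by
    rw [← pr_eq_one, map_pow, pow_succ, pow_two, hx]
  set ζ := g ^ 3 with hζ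
  have hco : Nat.Coprime 3 (orderOf ζ) := by
    rw [Nat.Prime.coprime_iff_not_dvd Nat.prime_three]
    rintro ⟨k, hk⟩
    have hpos : 0 < orderOf ζ := orderOf_pos ζ
    have h1 : (ζ ^ k) ^ 3 = 1 := by
      rw [← pow_mul, mul_comm, ← hk, pow_orderOf_eq_one]
    have h4 : ζ ^ k = 1 := center_cube R h3 ((center Γ).pow_mem hz k) h1
    have h5 := Nat.le_of_dvd (by omega) (orderOf_dvd_of_pow_eq_one h4)
    omega
  obtain ⟨m, hm1, hm2⟩ := Nat.chineseRemainder hco 1 0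
  refine ⟨g ^ m, ?_, ?_⟩
  · have h1 : pr Γ g ^ 3 = 1 := by rw [pow_succ, pow_two, hx]
    have h4 : m = 3 * (m / 3) + 1 := by
      have : m % 3 = 1 := hm1
      omega
    rw [map_pow, h4, pow_add, pow_mul, h1, one_pow, one_mul, pow_one]
  · have h1 : orderOf ζ ∣ m := (Nat.modEq_zero_iff_dvd).1 hm2
    rw [← pow_mul, mul_comm, pow_mul, ← hζ]
    exact orderOf_dvd_iff_pow_eq_one.1 h1

theorem comm_of_three {g : Γ} (hg : g ^ 3 = 1) (h : pr Γ g ∈ CC R) : g * R.t = R.t * g := by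
  rw [mem_CC] at h
  set ζ := g * R.t * g⁻¹ * R.t⁻¹ with hζ
  have hc := mem_center_iff.1 h
  have h1 : g * R.t * g⁻¹ = ζ * R.t := by rw [hζ]; group
  have hc2 : g * ζ * g⁻¹ = ζ := by rw [hc]; group
  have hsq : ζ * ζ = 1 := by
    have h4 : (ζ * R.t) * (ζ * R.t) = 1 := by
      rw [← h1]
      calc g * R.t * g⁻¹ * (g * R.t * g⁻¹) = g * (R.t * R.t) * g⁻¹ := by group
        _ = 1 := by rw [R.t_sq]; group
    calc ζ * ζ = ζ * ζ * (R.t * R.t) := by rw [R.t_sq, mul_one]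
      _ = ζ * (ζ * R.t) * R.t := by group
      _ = ζ * (R.t * ζ) * R.t := by rw [hc R.t]
      _ = (ζ * R.t) * (ζ * R.t) := by group
      _ = 1 := h4
  have h5 : g * (g * (g * R.t * g⁻¹) * g⁻¹) * g⁻¹ = ζ * ζ * ζ * R.t := by
    have h6 : g * (ζ * R.t) * g⁻¹ = ζ * ζ * R.t := by
      calc g * (ζ * R.t) * g⁻¹ = (g * ζ * g⁻¹) * (g * R.t * g⁻¹) := by group
        _ = ζ * ζ * R.t := by rw [hc2, h1]; group
    rw [h1, h6]
    calc g * (ζ * ζ * R.t) * g⁻¹ = (g * ζ * g⁻¹) * (g * ζ * g⁻¹) * (g * R.t * g⁻¹) := by group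
      _ = ζ * ζ * ζ * R.t := by rw [hc2, h1]; group
  have h6 : g * (g * (g * R.t * g⁻¹) * g⁻¹) * g⁻¹ = R.t := by
    calc g * (g * (g * R.t * g⁻¹) * g⁻¹) * g⁻¹ = g ^ 3 * R.t * (g ^ 3)⁻¹ := by
          rw [pow_succ, pow_two]; group
      _ = R.t := by rw [hg]; group
  have h7 : ζ * ζ * ζ = 1 := by
    rw [h6] at h5
    exact (mul_eq_right.1 h5.symm)
  have h8 : ζ = 1 := by rwa [hsq, one_mul] at h7
  rw [h8, one_mul] at h1
  calc g * R.t = g * R.t * g⁻¹ * g := by group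
    _ = R.t * g := by rw [h1]

/-- block diagonal elements with blocks of determinant one split -/
def Split : Prop := ∀ (g : Γ) P S, R.ρ g = fromBlocks P 0 0 S → P.det = 1 → S.det = 1 →
  ∃ g1, R.ρ g1 = fromBlocks P 0 0 1

theorem Split.mem (hs : Split R) {g : Γ} {P S} (h : R.ρ g = fromBlocks P 0 0 S) (hP : P.det = 1)
    (hS : S.det = 1) : g ∈ R.E1 ⊔ R.E2 := by
  obtain ⟨g1, h1⟩ := hs g P S h hP hS
  have hm : g1 ∈ R.E1 := ⟨P, h1⟩
  obtain ⟨P', S', h', h3, h4, h5, h6⟩ := R.blocks_inv h1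
  have h7 : g1⁻¹ * g ∈ R.E2 := by
    refine ⟨S, ?_⟩
    rw [map_mul, h', h, fromBlocks_multiply]
    have : S' = 1 := by rw [← h5, Matrix.one_mul]
    simp [h4, this]
  have h8 : g = g1 * (g1⁻¹ * g) := by group
  rw [h8]
  exact mul_mem (mem_sup_left hm) (mem_sup_right h7)

theorem Split.three [Finite Γ] [Nonempty μ] (hs : Split R) (h2 : (2 : F) ≠ 0) (h3 : (3 : F) = 0)
    {x : Γ ⧸ center Γ} (hxC : x ∈ CC R) (hx : x * x * x = 1) : x ∈ D1 R ⊔ D2 R := by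
  obtain ⟨g, rfl, hg⟩ := exists_lift_three R h3 hx
  have hgt := comm_of_three R hg hxC
  obtain ⟨P, S, h⟩ := R.blocks_of_comm h2 hgt
  have h4 : R.ρ g * R.ρ g * R.ρ g = 1 := by rw [← map_mul, ← map_mul, ← pow_two, ← pow_succ, hg, map_one]
  rw [h, fromBlocks_multiply, fromBlocks_multiply, ← fromBlocks_one, fromBlocks_inj] at h4
  simp only [Matrix.zero_mul, Matrix.mul_zero, add_zero, zero_add] at h4
  have hP : P.det = 1 := by
    apply eq_one_of_cube h3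
    rw [← det_mul, ← det_mul, h4.1, det_one]
  have hS : S.det = 1 := by
    apply eq_one_of_cube h3
    rw [← det_mul, ← det_mul, h4.2.2.2, det_one]
  rw [D1, D2, ← Subgroup.map_sup]
  exact mem_map_of_mem _ (hs.mem R h hP hS)

end Cfsg.Agent.Cit.LongQuot
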