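import Cfsg.Agent.Cit.LongInst
import Cfsg.Agent.LieClassical.SympCenter

/-!
# `F(L)` for `PSp₄(F)`
-/

set_option autoImplicit false

namespace Cfsg.Agent.Cit.LongSp

open Subgroup Cfsg Matrix Cfsg.Agent.Cit.LongAbs Cfsg.Agent.Cit.LongBlock Cfsg.Agent.Cit.LongQuot
  Cfsg.Agent.Cit.LongMain Cfsg.Agent.Cit.LongModel Cfsg.Agent.Cit.LongInst

variable (F : Type*) [Field F]

/-- the index equivalence -/
def e4 : Fin 2 ⊕ Fin 2 ≃ Fin 2 ⊕ Fin 2 := Equiv.swap (Sum.inl 1) (Sum.inr 0)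

/-- the form on a block -/
def jj : Matrix (Fin 2) (Fin 2) F := !![0, -1; 1, 0]

theorem J_eq : (J (Fin 2) F).submatrix e4 e4 = fromBlocks (jj F) 0 0 (jj F) := by
  ext i j
  rcases i with i | i <;> rcases j with j | j <;> fin_cases i <;> fin_cases j <;>
    simp [J, jj, e4, Equiv.swap_apply_def]

theorem e4_symm : e4.symm = e4 := Equiv.symm_swap _ _

omit [Field F] in
theorem e4_e4 (M : Matrix (Fin 2 ⊕ Fin 2) (Fin 2 ⊕ Fin 2) F) :
    (M.submatrix e4 e4).submatrix e4 e4 = M := by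
  ext i j
  simp [e4]

variable {F}

theorem mul_jj (P : Matrix (Fin 2) (Fin 2) F) : P * jj F * Pᵀ = P.det • jj F := by
  ext i j
  fin_cases i <;> fin_cases j <;>
    simp [jj, Matrix.mul_apply, Fin.sum_univ_two, det_fin_two] <;> ring

theorem jj_ne : jj F ≠ 0 := by
  intro h
  have := congrFun (congrFun h 1) 0
  simp [jj] at this

theorem sp_iff (M : Matrix (Fin 2 ⊕ Fin 2) (Fin 2 ⊕ Fin 2) F) :
    M.submatrix e4 e4 ∈ symplecticGroup (Fin 2) F ↔
      M * fromBlocks (jj F) 0 0 (jj F) * Mᵀ = fromBlocks (jj F) 0 0 (jj F) := by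
  rw [SymplecticGroup.mem_iff]
  have h1 : M.submatrix e4 e4 * J (Fin 2) F * (M.submatrix e4 e4)ᵀ =
      (M * fromBlocks (jj F) 0 0 (jj F) * Mᵀ).submatrix e4 e4 := by
    rw [← J_eq]
    nth_rewrite 1 [← e4_e4 F (J (Fin 2) F)]
    rw [transpose_submatrix, submatrix_mul_equiv, submatrix_mul_equiv]
  rw [h1]
  constructor
  · intro h
    have := congrArg (fun N => N.submatrix e4 e4) h
    simp only [e4_e4, J_eq] at this
    exact this
  · intro h
    rw [h, ← J_eq, e4_e4]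

theorem sp_blocks (P S : Matrix (Fin 2) (Fin 2) F) :
    (fromBlocks P 0 0 S).submatrix e4 e4 ∈ symplecticGroup (Fin 2) F ↔ P.det = 1 ∧ S.det = 1 := by
  rw [sp_iff, fromBlocks_transpose, fromBlocks_multiply, fromBlocks_multiply, fromBlocks_inj]
  simp only [Matrix.zero_mul, Matrix.mul_zero, add_zero, zero_add, transpose_zero, mul_jj]
  have key : ∀ c : F, c • jj F = jj F ↔ c = 1 := by
    intro c
    constructor
    · intro h
      have := congrFun (congrFun h 1) 0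
      simpa [jj] using this
    · rintro rfl; rw [one_smul]
  rw [key, key]
  simp

variable (F)

/-- `diag(-1,-1,1,1)` -/
def sp_t : symplecticGroup (Fin 2) F :=
  ⟨(fromBlocks (-1) 0 0 1 : Matrix (Fin 2 ⊕ Fin 2) (Fin 2 ⊕ Fin 2) F).submatrix e4 e4,
    (sp_blocks _ _).2 ⟨by rw [det_neg]; simp, det_one⟩⟩

/-- `Sp₄(F)` -/
def spRep : Rep (symplecticGroup (Fin 2) F) F (Fin 2) where
  ρ :=
    { toFun := fun g => g.1.submatrix e4 e4
      map_one' := submatrix_one_equiv e4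
      map_mul' := fun g h => (submatrix_mul_equiv g.1 h.1 e4 e4 e4).symm }
  inj := by
    intro g h hgh
    have h1 : g.1.submatrix e4 e4 = h.1.submatrix e4 e4 := hgh
    apply Subtype.ext
    rw [← e4_e4 F g.1, h1, e4_e4]
  cen := by
    intro g hg
    rw [LieClassical.SympCenter.mem_center_iff] at hg
    obtain ⟨c, hc⟩ := hg
    refine ⟨c, ?_⟩
    change g.1.submatrix e4 e4 = c • 1
    rw [hc]
    ext i j
    simp [Matrix.one_apply]
  t := sp_t F
  t_eq := e4_e4 F _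

theorem spRep_ρ (g : symplecticGroup (Fin 2) F) : (spRep F).ρ g = g.1.submatrix e4 e4 := rfl

theorem spRep_blocks {g : symplecticGroup (Fin 2) F} {P S} (h : (spRep F).ρ g = fromBlocks P 0 0 S) :
    P.det = 1 ∧ S.det = 1 := by
  rw [← sp_blocks, ← h, spRep_ρ, e4_e4]
  exact g.2

theorem spRep_model : WModel (spRep F) ∅ where
  ex P S hP hS := by
    refine ⟨⟨(fromBlocks P 0 0 S).submatrix e4 e4, (sp_blocks P S).2 ⟨hP.1, hS.1⟩⟩, ?_⟩
    rw [spRep_ρ, e4_e4]
  left g P h := ⟨(spRep_blocks F h).1, fun t ht => absurd ht (Set.notMem_empty t)⟩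
  right g S h := ⟨(spRep_blocks F h).2, fun t ht => absurd ht (Set.notMem_empty t)⟩
  split := by
    intro g P S h hP hS
    refine ⟨⟨(fromBlocks P 0 0 1).submatrix e4 e4, (sp_blocks P 1).2 ⟨hP, det_one⟩⟩, ?_⟩
    rw [spRep_ρ, e4_e4]

theorem sp_good {F : Type*} [Field F] [Fintype F] (ho : Odd (Fintype.card F)) : Good (spRep F) F := by
  obtain ⟨a, b, h⟩ := exists_quat F
  exact good2 (spRep_model F) (SignalizersComponents.SLQuasisimple.two_ne_zero_of_odd ho) h ho
    (un_empty_equiv F _) three_eq_zero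

end Cfsg.Agent.Cit.LongSp
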