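import Cfsg.Agent.Cit.LongSp

/-!
# Involutions in the centre of a Sylow 2-subgroup

`L = Γ ⧸ Z(Γ)` as in `LongMain`.  For `n = 3, 4` and `Sp₄` every involution of `L` which centralises a Sylow
2-subgroup is conjugate to `z₀`.
-/

set_option autoImplicit false

namespace Cfsg.Agent.Cit.LongTwo

open Subgroup Cfsg Matrix Cfsg.Agent.Cit.LongAbs Cfsg.Agent.Cit.LongBlock Cfsg.Agent.Cit.LongQuot
  Cfsg.Agent.Cit.LongMain Cfsg.Agent.Cit.LongModel Cfsg.Agent.Cit.LongInst

open scoped Pointwise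

section General

variable {Γ : Type*} [Group Γ] {F : Type*} [Field F] {κ : Type*} [Fintype κ] [DecidableEq κ]
  {μ : Type*} [Fintype μ] [DecidableEq μ]

/-- an involution with a biscalar preimage is `z0` -/
theorem eq_z0 [Nonempty μ] [Nonempty κ] (R : RepG Γ F μ κ) {g : Γ} (h2 : pr Γ g * pr Γ g = 1)
    (h1 : pr Γ g ≠ 1) {a b : F} (h : R.ρ g = fromBlocks (a • 1) 0 0 (b • 1)) : pr Γ g = z0 R := by
  have hc : g * g ∈ center Γ := by rw [← pr_eq_one, map_mul, h2]
  obtain ⟨c, hc⟩ := R.cen _ hc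
  obtain ⟨m⟩ := ‹Nonempty μ›
  obtain ⟨k⟩ := ‹Nonempty κ›
  rw [map_mul, h, fromBlocks_multiply] at hc
  have e1 : a * a = c := by
    have := congrFun (congrFun hc (Sum.inl m)) (Sum.inl m)
    simpa using this
  have e2 : b * b = c := by
    have := congrFun (congrFun hc (Sum.inr k)) (Sum.inr k)
    simpa using this
  have e3 : (a - b) * (a + b) = 0 := by linear_combination e1 - e2
  rcases mul_eq_zero.1 e3 with h3 | h3
  · exfalso
    apply h1
    rw [pr_eq_one]
    have h4 : a = b := sub_eq_zero.1 h3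
    apply R.mem_center_of_scalar (c := b)
    rw [h, h4, ← fromBlocks_one, fromBlocks_smul]
    simp
  · have h4 : a = -b := eq_neg_of_add_eq_zero_left h3
    have h5 : g * R.t⁻¹ ∈ center Γ := by
      apply R.mem_center_of_scalar (c := b)
      rw [R.t_inv, map_mul, h, R.t_eq, fromBlocks_multiply, h4, ← fromBlocks_one, fromBlocks_smul]
      simp
    rw [← pr_eq_one, map_mul, map_inv, mul_inv_eq_one] at h5
    exact h5

theorem smul_mem_iff {G : Type*} [Group G] (P : Sylow 2 G) (g x : G) :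
    x ∈ g • P ↔ g⁻¹ * x * g ∈ P := by
  have h : x ∈ (g • P : Sylow 2 G) ↔ x ∈ MulAut.conj g • (P : Subgroup G) := Iff.rfl
  rw [h, Subgroup.mem_pointwise_smul_iff_inv_smul_mem, ← map_inv, MulAut.smul_def,
    MulAut.conj_apply, inv_inv]
  exact Iff.rfl

/-- a 2-subgroup is conjugate into a given Sylow 2-subgroup -/
theorem exists_conj_mem {G : Type*} [Group G] [Finite G] {P : Subgroup G} (hP : IsPGroup 2 P)
    (S : Sylow 2 G) : ∃ g : G, ∀ p ∈ P, g⁻¹ * p * g ∈ S := by
  obtain ⟨Q, hQ⟩ := hP.exists_le_sylow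
  obtain ⟨g, hg⟩ := MulAction.exists_smul_eq G S Q
  refine ⟨g, fun p hp => ?_⟩
  have h1 : p ∈ Q := hQ hp
  rw [← hg] at h1
  exact (smul_mem_iff S g p).1 h1

/-- **2-central involutions**, given a 2-group with biscalar commutant and non-zero traces -/
theorem two_central [Finite Γ] [Nonempty μ] [Nonempty κ] (R : RepG Γ F μ κ) (T : Set Γ)
    (hT : IsPGroup 2 (closure (pr Γ '' T))) (htr : ∀ u ∈ T, trace (R.ρ u) ≠ 0)
    (hcom : ∀ g, (∀ u ∈ T, g * u = u * g) → ∃ a b : F, R.ρ g = fromBlocks (a • 1) 0 0 (b • 1))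
    (S : Sylow 2 (Γ ⧸ center Γ)) {z : Γ ⧸ center Γ} (hz2 : z * z = 1) (hz1 : z ≠ 1)
    (hS : ∀ s ∈ S, s * z = z * s) : ∃ g, g * z * g⁻¹ = z0 R := by
  obtain ⟨g, hg⟩ := exists_conj_mem hT S
  refine ⟨g, ?_⟩
  set z' := g * z * g⁻¹ with hz'
  have hz2' : z' * z' = 1 := by
    calc z' * z' = g * (z * z) * g⁻¹ := by rw [hz']; group
      _ = 1 := by rw [hz2]; group
  have hz1' : z' ≠ 1 := by
    intro h
    apply hz1
    calc z = g⁻¹ * z' * g := by rw [hz']; group
      _ = 1 := by rw [h]; group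
  have hcomm : ∀ u ∈ T, pr Γ u * z' = z' * pr Γ u := by
    intro u hu
    have h3 := hS _ (hg _ (subset_closure ⟨u, hu, rfl⟩))
    calc pr Γ u * z' = g * ((g⁻¹ * pr Γ u * g) * z) * g⁻¹ := by rw [hz']; group
      _ = z' * pr Γ u := by rw [h3, hz']; group
  obtain ⟨x, hx⟩ := pr_surjective z'
  obtain ⟨a, b, hab⟩ := hcom x fun u hu => by
    apply R.comm_of_trace _ (htr u hu)
    rw [← pr_comm, hx]
    exact (hcomm u hu).symm
  rw [← hx] at hz2' hz1' ⊢
  exact eq_z0 R hz2' hz1' hab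

theorem pow_four_eq {G : Type*} [Group G] (w : G) : w ^ 4 = (w * w) * (w * w) := by
  rw [← pow_two w, ← pow_add]

/-- quaternion-like 2-groups -/
theorem isPGroup_closure_pair {G : Type*} [Group G] {x y : G} (hx : x ^ 4 = 1) (hy : y ^ 4 = 1)
    (h : y * x * y⁻¹ = x⁻¹) : IsPGroup 2 (closure {x, y}) := by
  have h1 : IsPGroup 2 (zpowers x) := by
    rintro ⟨g, k, rfl⟩
    refine ⟨2, Subtype.ext ?_⟩
    change (x ^ k) ^ 4 = 1
    rw [← zpow_natCast, ← _root_.zpow_mul, mul_comm, _root_.zpow_mul]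
    have h0 : x ^ ((4 : ℕ) : ℤ) = 1 := by rw [zpow_natCast, hx]
    rw [h0, _root_.one_zpow]
  have h2 : IsPGroup 2 (zpowers y) := by
    rintro ⟨g, k, rfl⟩
    refine ⟨2, Subtype.ext ?_⟩
    change (y ^ k) ^ 4 = 1
    rw [← zpow_natCast, ← _root_.zpow_mul, mul_comm, _root_.zpow_mul]
    have h0 : y ^ ((4 : ℕ) : ℤ) = 1 := by rw [zpow_natCast, hy]
    rw [h0, _root_.one_zpow]
  have h3 : closure {x, y} = zpowers x ⊔ zpowers y := by
    rw [zpowers_eq_closure, zpowers_eq_closure, ← Subgroup.closure_union]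
    congr 1
  rw [h3]
  refine IsPGroup.to_sup_of_normal_left' h1 h2 ?_
  rw [zpowers_le, mem_normalizer_iff]
  intro g
  have h4 : ∀ k : ℤ, y * x ^ k * y⁻¹ = (x ^ k)⁻¹ := by
    intro k
    rw [← conj_zpow, h, _root_.inv_zpow]
  have h5 : ∀ k : ℤ, y⁻¹ * x ^ k * y = (x ^ k)⁻¹ := by
    intro k
    have := h4 (-k)
    calc y⁻¹ * x ^ k * y = y⁻¹ * (y * x ^ (-k) * y⁻¹) * y := by rw [this]; group
      _ = _ := by group
  constructor
  · rintro ⟨k, rfl⟩
    rw [h4]
    exact inv_mem ⟨k, rfl⟩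
  · rintro ⟨k, hk⟩
    have h6 : g = y⁻¹ * x ^ k * y := by
      have : x ^ k = y * g * y⁻¹ := hk
      rw [this]; group
    rw [h6, h5]
    exact inv_mem ⟨k, rfl⟩

/-- commuting 2-groups generate a 2-group -/
theorem isPGroup_sup_of_comm {G : Type*} [Group G] {A B : Set G} (hA : IsPGroup 2 (closure A))
    (hB : IsPGroup 2 (closure B)) (h : ∀ a ∈ A, ∀ b ∈ B, a * b = b * a) :
    IsPGroup 2 (closure (A ∪ B)) := by
  rw [Subgroup.closure_union]
  refine IsPGroup.to_sup_of_normal_left' hA hB ?_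
  have h1 : closure B ≤ centralizer (closure A : Set G) := by
    rw [closure_le]
    intro b hb
    have h2 : closure A ≤ centralizer {b} := by
      rw [closure_le]
      intro a ha
      exact mem_centralizer_singleton_iff.2 (h a ha b hb)
    exact mem_centralizer_iff.2 fun a ha => (mem_centralizer_singleton_iff.1 (h2 ha))
  intro b hb
  rw [mem_normalizer_iff]
  intro g
  have h2 := mem_centralizer_iff.1 (h1 hb)
  constructor
  · intro hg
    have : b * g * b⁻¹ = g := by rw [← h2 g hg]; group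
    rwa [this]
  · intro hg
    have h3 := h2 _ hg
    have h4 : g = b * g * b⁻¹ := by
      calc g = b⁻¹ * ((b * g * b⁻¹) * b) := by group
        _ = b⁻¹ * (b * (b * g * b⁻¹)) := by rw [h3]
        _ = _ := by group
    rw [h4]; exact hg

end General

section Models

variable {Γ : Type*} [Group Γ] {F : Type*} [Field F] {T : Set (F →+* F)}
  {κ : Type*} [Fintype κ] [DecidableEq κ]

theorem U21 (a b : F) : U2 a b * U1 F = -(U1 F * U2 a b) := by
  ext i j
  fin_cases i <;> fin_cases j <;> simp [U1, U2, Matrix.mul_apply, Fin.sum_univ_two]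

/-- the pair of a quaternion group in a block -/
theorem pair_pgroup {R : RepG Γ F (Fin 2) κ} {a b : F} (h : Quat T a b) {x y : Γ}
    (hx : R.ρ x = fromBlocks (U1 F) 0 0 1) (hy : R.ρ y = fromBlocks (U2 a b) 0 0 1) :
    IsPGroup 2 (closure {x, y}) := by
  have hx2 : x * x = R.t := by
    apply R.inj
    rw [map_mul, hx, fromBlocks_multiply, R.t_eq]
    simp [U1_sq]
  have hy2 : y * y = R.t := by
    apply R.inj
    rw [map_mul, hy, fromBlocks_multiply, R.t_eq]
    simp [U2_sq h]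
  have h4 : ∀ w : Γ, w * w = R.t → w ^ 4 = 1 := by
    intro w hw
    rw [pow_four_eq, hw, R.t_sq]
  have hyx : y * x = R.t * (x * y) := by
    apply R.inj
    rw [map_mul, map_mul, map_mul, hx, hy, R.t_eq, fromBlocks_multiply, fromBlocks_multiply,
      fromBlocks_multiply]
    simp [U21]
  refine isPGroup_closure_pair (h4 x hx2) (h4 y hy2) ?_
  calc y * x * y⁻¹ = R.t * x := by rw [hyx]; group
    _ = R.t * (x * x) * x⁻¹ := by group
    _ = x⁻¹ := by rw [hx2, R.t_sq, one_mul]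

theorem map_pgroup {A : Set Γ} (h : IsPGroup 2 (closure A)) : IsPGroup 2 (closure (pr Γ '' A)) := by
  rw [← MonoidHom.map_closure]
  exact h.map _

/-- **(C), n = 3** -/
theorem two1 [Finite Γ] {R : Rep Γ F (Fin 1)} (hR : WModel R T) {a b : F} (h2 : (2 : F) ≠ 0)
    (h : Quat T a b) (S : Sylow 2 (Γ ⧸ center Γ)) {z : Γ ⧸ center Γ} (hz2 : z * z = 1) (hz1 : z ≠ 1)
    (hS : ∀ s ∈ S, s * z = z * s) : ∃ g, g * z * g⁻¹ = z0 R := by
  obtain ⟨x, hx⟩ := hR.ex _ _ (cond_U1 T) (Cond.one T)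
  obtain ⟨y, hy⟩ := hR.ex _ _ (cond_U2 h) (Cond.one T)
  refine two_central R {x, y} (map_pgroup (pair_pgroup h hx hy)) ?_ ?_ S hz2 hz1 hS
  · rintro u (rfl | rfl)
    · rw [hx, trace_blocks, trace_U1]; simp
    · rw [hy, trace_blocks, trace_U2]; simp
  · intro g hg
    have c1 := hg x (Or.inl rfl)
    have c2 := hg y (Or.inr rfl)
    have ht : x * x = R.t := by
      apply R.inj
      rw [map_mul, hx, fromBlocks_multiply, R.t_eq]
      simp [U1_sq]
    have hgt : g * R.t = R.t * g := by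
      rw [← ht]
      calc g * (x * x) = (g * x) * x := (mul_assoc _ _ _).symm
        _ = x * (g * x) := by rw [c1, mul_assoc, c1, ← mul_assoc]
        _ = x * x * g := by rw [c1, mul_assoc]
    obtain ⟨P, S, hPS⟩ := R.blocks_of_comm h2 hgt
    have d1 := congrArg R.ρ c1
    have d2 := congrArg R.ρ c2
    rw [map_mul, map_mul, hPS, hx, fromBlocks_multiply, fromBlocks_multiply, fromBlocks_inj] at d1
    rw [map_mul, map_mul, hPS, hy, fromBlocks_multiply, fromBlocks_multiply, fromBlocks_inj] at d2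
    simp only [Matrix.zero_mul, Matrix.mul_zero, add_zero, zero_add] at d1 d2
    obtain ⟨c, hc⟩ := scalar_of_comm h2 h d1.1 d2.1
    refine ⟨c, S 0 0, ?_⟩
    rw [hPS, hc]
    congr 1
    ext i j
    fin_cases i; fin_cases j; simp

/-- **(C), n = 4 and Sp₄** -/
theorem two2 [Finite Γ] {R : Rep Γ F (Fin 2)} (hR : WModel R T) {a b : F} (h2 : (2 : F) ≠ 0)
    (h : Quat T a b) (S : Sylow 2 (Γ ⧸ center Γ)) {z : Γ ⧸ center Γ} (hz2 : z * z = 1) (hz1 : z ≠ 1)
    (hS : ∀ s ∈ S, s * z = z * s) : ∃ g, g * z * g⁻¹ = z0 R := by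
  obtain ⟨x, hx⟩ := hR.ex _ _ (cond_U1 T) (Cond.one T)
  obtain ⟨y, hy⟩ := hR.ex _ _ (cond_U2 h) (Cond.one T)
  obtain ⟨x', hx'⟩ := hR.ex _ _ (Cond.one T) (cond_U1 T)
  obtain ⟨y', hy'⟩ := hR.ex _ _ (Cond.one T) (cond_U2 h)
  have hp' : IsPGroup 2 (closure {x', y'}) := by
    have hx2 : (x' * x') * (x' * x') = 1 := by
      apply R.inj
      rw [map_mul, map_mul, hx', fromBlocks_multiply, fromBlocks_multiply, map_one, ← fromBlocks_one]
      simp [U1_sq]
    have hy2 : (y' * y') * (y' * y') = 1 := by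
      apply R.inj
      rw [map_mul, map_mul, hy', fromBlocks_multiply, fromBlocks_multiply, map_one, ← fromBlocks_one]
      simp [U2_sq h]
    have hyx : y' * x' = (x' * x' * x') * y' := by
      apply R.inj
      rw [map_mul, map_mul, map_mul, map_mul, hx', hy', fromBlocks_multiply, fromBlocks_multiply,
        fromBlocks_multiply, fromBlocks_multiply]
      simp [U1_sq, U21]
    refine isPGroup_closure_pair ?_ ?_ ?_
    · rw [pow_four_eq, hx2]
    · rw [pow_four_eq, hy2]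
    · calc y' * x' * y'⁻¹ = (x' * x') * (x' * x') * x'⁻¹ := by rw [hyx]; group
        _ = x'⁻¹ := by rw [hx2, one_mul]
  have hcom : ∀ u ∈ ({x, y} : Set Γ), ∀ v ∈ ({x', y'} : Set Γ), u * v = v * u := by
    rintro u hu v hv
    refine R.comm_E1_E2 ?_ ?_
    · rcases hu with rfl | rfl
      · exact ⟨_, hx⟩
      · exact ⟨_, hy⟩
    · rcases hv with rfl | rfl
      · exact ⟨_, hx'⟩
      · exact ⟨_, hy'⟩
  refine two_central R ({x, y} ∪ {x', y'})
    (map_pgroup (isPGroup_sup_of_comm (pair_pgroup h hx hy) hp' hcom)) ?_ ?_ S hz2 hz1 hS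
  · rintro u ((rfl | rfl) | (rfl | rfl))
    · rw [hx, trace_blocks, trace_U1]; simpa using h2
    · rw [hy, trace_blocks, trace_U2]; simpa using h2
    · rw [hx', trace_blocks, trace_U1]; simpa using h2
    · rw [hy', trace_blocks, trace_U2]; simpa using h2
  · intro g hg
    have c1 := hg x (Or.inl (Or.inl rfl))
    have c2 := hg y (Or.inl (Or.inr rfl))
    have c3 := hg x' (Or.inr (Or.inl rfl))
    have c4 := hg y' (Or.inr (Or.inr rfl))
    have ht : x * x = R.t := by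
      apply R.inj
      rw [map_mul, hx, fromBlocks_multiply, R.t_eq]
      simp [U1_sq]
    have hgt : g * R.t = R.t * g := by
      rw [← ht]
      calc g * (x * x) = (g * x) * x := (mul_assoc _ _ _).symm
        _ = x * (g * x) := by rw [c1, mul_assoc, c1, ← mul_assoc]
        _ = x * x * g := by rw [c1, mul_assoc]
    obtain ⟨P, S, hPS⟩ := R.blocks_of_comm h2 hgt
    have d1 := congrArg R.ρ c1
    have d2 := congrArg R.ρ c2
    have d3 := congrArg R.ρ c3
    have d4 := congrArg R.ρ c4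
    rw [map_mul, map_mul, hPS, hx, fromBlocks_multiply, fromBlocks_multiply, fromBlocks_inj] at d1
    rw [map_mul, map_mul, hPS, hy, fromBlocks_multiply, fromBlocks_multiply, fromBlocks_inj] at d2
    rw [map_mul, map_mul, hPS, hx', fromBlocks_multiply, fromBlocks_multiply, fromBlocks_inj] at d3
    rw [map_mul, map_mul, hPS, hy', fromBlocks_multiply, fromBlocks_multiply, fromBlocks_inj] at d4
    simp only [Matrix.zero_mul, Matrix.mul_zero, add_zero, zero_add] at d1 d2 d3 d4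
    obtain ⟨c, hc⟩ := scalar_of_comm h2 h d1.1 d2.1
    obtain ⟨d, hd⟩ := scalar_of_comm h2 h d3.2.2.2 d4.2.2.2
    exact ⟨c, d, by rw [hPS, hc, hd]⟩

end Models

/-! ### instances -/

section Instances

variable {F : Type*} [Field F] [Fintype F] (ho : Odd (Fintype.card F))
include ho

/-- `PSL₃(F)`: every involution centralising a Sylow 2-subgroup is conjugate to `z0` -/
theorem sl3_two_central (S : Sylow 2 (ProjectiveSpecialLinearGroup (Fin 3) F))
    {z : ProjectiveSpecialLinearGroup (Fin 3) F} (hz2 : z * z = 1) (hz1 : z ≠ 1)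
    (hS : ∀ s ∈ S, s * z = z * s) : ∃ g, g * z * g⁻¹ = z0 (slRep F 1) := by
  obtain ⟨a, b, h⟩ := exists_quat F
  exact two1 (slRep_model F 1).toW (SignalizersComponents.SLQuasisimple.two_ne_zero_of_odd ho) h S hz2
    hz1 hS

/-- `PSL₄(F)` -/
theorem sl4_two_central (S : Sylow 2 (ProjectiveSpecialLinearGroup (Fin 4) F))
    {z : ProjectiveSpecialLinearGroup (Fin 4) F} (hz2 : z * z = 1) (hz1 : z ≠ 1)
    (hS : ∀ s ∈ S, s * z = z * s) : ∃ g, g * z * g⁻¹ = z0 (slRep F 2) := by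
  obtain ⟨a, b, h⟩ := exists_quat F
  exact two2 (slRep_model F 2).toW (SignalizersComponents.SLQuasisimple.two_ne_zero_of_odd ho) h S hz2
    hz1 hS

/-- `PSp₄(F)` -/
theorem sp4_two_central (S : Sylow 2 (PSp 2 F)) {z : PSp 2 F} (hz2 : z * z = 1) (hz1 : z ≠ 1)
    (hS : ∀ s ∈ S, s * z = z * s) : ∃ g, g * z * g⁻¹ = z0 (LongSp.spRep F) := by
  obtain ⟨a, b, h⟩ := exists_quat F
  exact two2 (LongSp.spRep_model F) (SignalizersComponents.SLQuasisimple.two_ne_zero_of_odd ho) h S hz2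
    hz1 hS

variable {q : ℕ} (hF : Fintype.card F = q ^ 2)

/-- `PSU₃(q)` -/
theorem su3_two_central (S : Sylow 2 (PSU 3 F q)) {z : PSU 3 F q} (hz2 : z * z = 1) (hz1 : z ≠ 1)
    (hS : ∀ s ∈ S, s * z = z * s) : ∃ g, g * z * g⁻¹ = z0 (suRep hF 1 le_rfl) := by
  obtain ⟨a, b, h⟩ := exists_quat_su hF ho
  exact two1 (suRep_model hF 1 le_rfl).toW (SignalizersComponents.SLQuasisimple.two_ne_zero_of_odd ho)
    h S hz2 hz1 hS

/-- `PSU₄(q)` -/
theorem su4_two_central (S : Sylow 2 (PSU 4 F q)) {z : PSU 4 F q} (hz2 : z * z = 1) (hz1 : z ≠ 1)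
    (hS : ∀ s ∈ S, s * z = z * s) : ∃ g, g * z * g⁻¹ = z0 (suRep hF 2 (by norm_num)) := by
  obtain ⟨a, b, h⟩ := exists_quat_su hF ho
  exact two2 (suRep_model hF 2 (by norm_num)).toW
    (SignalizersComponents.SLQuasisimple.two_ne_zero_of_odd ho) h S hz2 hz1 hS

end Instances

end Cfsg.Agent.Cit.LongTwo
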