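import Cfsg.Agent.Cit.LemmaB

/-!
# LEMMA 1 and LEMMA B' (helper545) for a member `K` of `Om` which is a 2-group

`HYP(G, Om)`, `K ∈ Om` a 2-group, `z = zz K`.

* `Hyp.comm_of_not_mem` : `K` normalises `N`, `z ∉ N`: the elements of `N` commuting with `z` commute with `K`;
* `Hyp.lemma_one` : `K` normalises the 2-group `N`, `z ∉ N`: `K` centralises `N`;
* `Hyp.lemma_two` (LEMMA B') : `K` normalises `M`, `O(M) = 1`, `z ∉ M`: `z` centralises `M`;
* `Hyp.comm_of_zz_comm` : if `zz L` commutes with all elements of the 2-group `K ∈ Om`, then `K = L` or `K` and `L`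
  commute (`L` a 2-group).
-/

set_option autoImplicit false
set_option linter.style.haveILetI false

namespace Cfsg.Agent.Cit

open Subgroup Cfsg

variable {G : Type*} [Group G]

theorem syl_self {K : Subgroup G} (h2 : IsPGroup 2 K) : Syl K K :=
  ⟨le_rfl, h2, by rw [relIndex_self]; omega⟩

theorem OO_eq_bot_of_two [Finite G] {K : Subgroup G} (h2 : IsPGroup 2 K) : OO K = ⊥ := by
  rw [eq_bot_iff]
  intro x hx
  exact eq_one_of_mem_odd h2 (odd_OO K) (OO_le K hx) hx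

namespace Hyp

variable [Finite G] {Om : Set (Subgroup G)} {K L N M : Subgroup G}

/-- `zz K` is a commutator of `K` -/
theorem exists_comm_eq (h : Hyp Om) (hK : K ∈ Om) (h2 : IsPGroup 2 K) :
    ∃ v ∈ K, ∃ c ∈ K, v * c * v⁻¹ * c⁻¹ = zz K := by
  obtain ⟨c, v, n, hgq⟩ := h.exists_gq hK (syl_self h2)
  obtain ⟨y, hy, -, hyv⟩ := hgq.exists_inverting hgq.v_mem hgq.orderOf_v
  refine ⟨y, hy, v, hgq.v_mem, ?_⟩
  rw [hyv, ← mul_inv_rev, hgq.v_sq, hgq.z_inv]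

/-- a member is not commutative modulo a subgroup without `zz K` -/
theorem exists_comm_not_mem (h : Hyp Om) (hK : K ∈ Om) (h2 : IsPGroup 2 K) (hz : zz K ∉ N) :
    ∃ v ∈ K, ∃ c ∈ K, v * c * v⁻¹ * c⁻¹ ∉ N := by
  obtain ⟨v, hv, c, hc, hvc⟩ := h.exists_comm_eq hK h2
  exact ⟨v, hv, c, hc, by rwa [hvc]⟩

omit [Finite G] in
/-- `K ⊓ N` is trivial if `zz K ∉ N` -/
theorem eq_one_of_mem (h : Hyp Om) (hK : K ∈ Om) (h2 : IsPGroup 2 K) (hz : zz K ∉ N) {x : G} (hx : x ∈ K)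
    (hxN : x ∈ N) : x = 1 := by
  haveI : Fact (Nat.Prime 2) := ⟨Nat.prime_two⟩
  by_contra hx1
  obtain ⟨k, hk⟩ := h2 ⟨x, hx⟩
  have hk' : x ^ 2 ^ k = 1 := congrArg Subtype.val hk
  -- minimal `k`
  obtain ⟨k, hk, hmin⟩ : ∃ k, x ^ 2 ^ k = 1 ∧ ∀ j < k, x ^ 2 ^ j ≠ 1 := by
    classical
    have hex : ∃ k, x ^ 2 ^ k = 1 := ⟨k, hk'⟩
    exact ⟨Nat.find hex, Nat.find_spec hex, fun j hj => Nat.find_min hex hj⟩
  have hk0 : k ≠ 0 := by
    rintro rfl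
    apply hx1
    simpa using hk
  obtain ⟨j, rfl⟩ : ∃ j, k = j + 1 := ⟨k - 1, by omega⟩
  have h3 := hmin j (by omega)
  have h4 : x ^ 2 ^ j * x ^ 2 ^ j = 1 := by
    rw [← pow_add, ← two_mul, ← pow_succ', hk]
  have h5 := h.eq_zz hK (K.pow_mem hx _) h4 h3
  exact hz (h5 ▸ N.pow_mem hxN _)

/-- the elements of `N` commuting with `zz K` commute with `K` -/
theorem comm_of_not_mem (h : Hyp Om) (hK : K ∈ Om) (h2 : IsPGroup 2 K) (hN : K ≤ normalizer (N : Set G))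
    (hz : zz K ∉ N) {c : G} (hc : c ∈ N) (hcz : c * zz K = zz K * c) : ∀ k ∈ K, k * c = c * k := by
  -- `c` normalises `K`
  have hcK : cj c K = K := by
    by_contra hne
    have h3 : zz (cj c K) = zz K := by rw [h.zz_cj hK, hcz, mul_inv_cancel_right]
    rcases h.h2 _ (h.conj K hK c) _ hK h3 with h4 | h4
    · exact hne h4
    rw [OO_eq_bot_of_two h2, inf_bot_eq, le_bot_iff, Subgroup.commutator_eq_bot_iff_le_centralizer] at h4
    obtain ⟨a, ha, b, hb, hab⟩ := h.exists_comm_not_mem hK h2 hz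
    apply hab
    -- `c a c⁻¹` commutes with `b`, and `c a c⁻¹ = a n`
    have h5 := mem_centralizer_iff.1 (h4 (conj_mem_cj (g := c) ha)) b hb
    have h6 : a⁻¹ * (c * a * c⁻¹) ∈ N := by
      have h7 := (mem_normalizer_iff.1 (hN (K.inv_mem ha)) c).1 hc
      have h8 : a⁻¹ * (c * a * c⁻¹) = a⁻¹ * c * a⁻¹⁻¹ * c⁻¹ := by group
      rw [h8]
      exact N.mul_mem h7 (N.inv_mem hc)
    set n := a⁻¹ * (c * a * c⁻¹) with hn
    have h9 : c * a * c⁻¹ = a * n := by rw [hn]; group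
    rw [h9] at h5
    -- `b a n = a n b`
    have h10 : a * b * a⁻¹ * b⁻¹ = a * (b * n * b⁻¹ * n⁻¹) * a⁻¹ := by
      have h11 : b * a = a * n * b * n⁻¹ := by rw [← h5]; group
      have h12 : a * b * a⁻¹ * b⁻¹ = a * b * (b * a)⁻¹ := by group
      rw [h12, h11]; group
    rw [h10]
    refine (mem_normalizer_iff.1 (hN ha) _).1 (N.mul_mem ((mem_normalizer_iff.1 (hN hb) _).1 h6) (N.inv_mem h6))
  intro k hk
  have h3 : k * c * k⁻¹ * c⁻¹ ∈ N :=
    N.mul_mem ((mem_normalizer_iff.1 (hN hk) c).1 hc) (N.inv_mem hc)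
  have h4 : k * c * k⁻¹ * c⁻¹ ∈ K := by
    have h5 := conj_mem_cj (g := c) (K.inv_mem hk)
    rw [hcK] at h5
    have h6 := K.mul_mem hk h5
    have h7 : k * (c * k⁻¹ * c⁻¹) = k * c * k⁻¹ * c⁻¹ := by group
    rwa [h7] at h6
  have h5 := h.eq_one_of_mem hK h2 hz h4 h3
  rwa [mul_inv_eq_one, mul_inv_eq_iff_eq_mul] at h5

/-- **LEMMA 1** -/
theorem lemma_one (h : Hyp Om) (hK : K ∈ Om) (h2 : IsPGroup 2 K) (hN2 : IsPGroup 2 N)
    (hN : K ≤ normalizer (N : Set G)) (hz : zz K ∉ N) : ∀ k ∈ K, ∀ n ∈ N, k * n = n * k := by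
  have hC := fun {c : G} (hc : c ∈ N) => h.comm_of_not_mem hK h2 hN hz hc
  set C := N ⊓ centralizer {zz K} with hCdef
  have hCK : ∀ c ∈ C, ∀ k ∈ K, k * c = c * k := fun c hc =>
    hC hc.1 (mem_centralizer_singleton_iff.1 hc.2)
  by_cases hCN : C = N
  · intro k hk n hn
    rw [← hCN] at hn
    exact hCK n hn k hk
  exfalso
  have hKC : K ≤ normalizer (C : Set G) := by
    intro k hk
    rw [mem_normalizer_iff]
    intro x
    constructor
    · intro hx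
      rw [hCK x hx k hk, mul_inv_cancel_right]; exact hx
    · intro hx
      have h3 := hCK _ hx k⁻¹ (K.inv_mem hk)
      have h4 : x = k⁻¹ * (k * x * k⁻¹) * k := by group
      rw [h4, h3, inv_mul_cancel_right]
      exact hx
  have hT : IsPGroup 2 (N ⊔ K : Subgroup G) := by
    haveI : Fact (Nat.Prime 2) := ⟨Nat.prime_two⟩
    have := IsPGroup.to_sup_of_normal_left' hN2 h2 hN
    exact this
  have hT₀ : ∀ x ∈ (C ⊔ K : Subgroup G), x ∈ N → x ∈ C := by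
    intro x hx hxN
    obtain ⟨c, hc, k, hk, rfl⟩ := LB.exists_mul_of_mem_sup hKC hx
    have h3 : k ∈ N := by
      have := N.mul_mem (N.inv_mem hc.1) hxN
      simpa using this
    rw [h.eq_one_of_mem hK h2 hz hk h3, mul_one]
    exact hc
  obtain ⟨t, ht, htn, htT⟩ := LB.exists_normalizing hT (sup_le_sup_right (inf_le_left : C ≤ N) K) (by
    intro h3
    apply hCN
    refine le_antisymm inf_le_left fun x hx => hT₀ x ?_ hx
    rw [h3]
    exact (le_sup_left : N ≤ N ⊔ K) hx)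
  obtain ⟨a, ha, b, hb, rfl⟩ := LB.exists_mul_of_mem_sup hN ht
  have hbT : b ∈ C ⊔ K := (le_sup_right : K ≤ C ⊔ K) hb
  have haT : cj a (C ⊔ K) = C ⊔ K := by
    rw [cj_mul, mem_normalizer_iff_cj.1 (le_normalizer hbT)] at htT
    exact htT
  have han : a ∉ C ⊔ K := fun h3 => htn ((C ⊔ K).mul_mem h3 hbT)
  -- `μ q = q⁻¹ (a q a⁻¹)`
  have hμ : ∀ q ∈ K, q⁻¹ * (a * q * a⁻¹) ∈ C := by
    intro q hq
    apply hT₀
    · refine (C ⊔ K).mul_mem ((le_sup_right : K ≤ C ⊔ K) (K.inv_mem hq)) ?_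
      have h3 := conj_mem_cj (g := a) ((le_sup_right : K ≤ C ⊔ K) hq)
      rwa [haT] at h3
    · have h3 := (mem_normalizer_iff.1 (hN (K.inv_mem hq)) a).1 ha
      have h4 : q⁻¹ * (a * q * a⁻¹) = q⁻¹ * a * q⁻¹⁻¹ * a⁻¹ := by group
      rw [h4]
      exact N.mul_mem h3 (N.inv_mem ha)
  have hμm : ∀ p ∈ K, ∀ q ∈ K, (p * q)⁻¹ * (a * (p * q) * a⁻¹) =
      (p⁻¹ * (a * p * a⁻¹)) * (q⁻¹ * (a * q * a⁻¹)) := by
    intro p hp q hq
    have h3 := hCK _ (hμ p hp) q⁻¹ (K.inv_mem hq)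
    calc (p * q)⁻¹ * (a * (p * q) * a⁻¹) = (q⁻¹ * (p⁻¹ * (a * p * a⁻¹))) * (a * q * a⁻¹) := by group
      _ = ((p⁻¹ * (a * p * a⁻¹)) * q⁻¹) * (a * q * a⁻¹) := by rw [h3]
      _ = _ := by group
  -- `a` normalises `C`
  have haC : ∀ x ∈ C, a⁻¹ * x * a ∈ C := by
    intro x hx
    apply hT₀
    · have h3 : cj a⁻¹ (C ⊔ K) = C ⊔ K := by
        conv_lhs => rw [← haT]
        exact cj_inv_cj _ _
      have h4 := conj_mem_cj (g := a⁻¹) ((le_sup_left : C ≤ C ⊔ K) hx)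
      rwa [h3, inv_inv] at h4
    · exact N.mul_mem (N.mul_mem (N.inv_mem ha) hx.1) ha
  have hμc : ∀ q ∈ K, ∀ x ∈ C, (q⁻¹ * (a * q * a⁻¹)) * x = x * (q⁻¹ * (a * q * a⁻¹)) := by
    intro q hq x hx
    have h3 := hCK _ (haC x hx) q hq
    have h4 := hCK x hx q⁻¹ (K.inv_mem hq)
    calc (q⁻¹ * (a * q * a⁻¹)) * x = q⁻¹ * (a * (q * (a⁻¹ * x * a)) * a⁻¹) := by group
      _ = q⁻¹ * (a * ((a⁻¹ * x * a) * q) * a⁻¹) := by rw [h3]
      _ = (q⁻¹ * x) * (a * q * a⁻¹) := by group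
      _ = (x * q⁻¹) * (a * q * a⁻¹) := by rw [h4]
      _ = _ := by group
  obtain ⟨v, hv, c, hc, hvc⟩ := h.exists_comm_eq hK h2
  -- `μ z = 1`
  have hone : (1 : G)⁻¹ * (a * 1 * a⁻¹) = 1 := by group
  have hzμ : (zz K)⁻¹ * (a * zz K * a⁻¹) = 1 := by
    have h3 : zz K * (c * v) = v * c := by rw [← hvc]; group
    have h4 := hμm (zz K) (h.zz_mem hK) (c * v) (K.mul_mem hc hv)
    rw [h3, hμm v hv c hc, hμm c hc v hv, hμc v hv _ (hμ c hc)] at h4
    exact (mul_eq_right.1 h4.symm)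
  apply han
  rw [inv_mul_eq_one, eq_mul_inv_iff_mul_eq] at hzμ
  exact (le_sup_left : C ≤ C ⊔ K) ⟨ha, mem_centralizer_singleton_iff.2 hzμ.symm⟩

/-- **LEMMA B'** -/
theorem lemma_two (h : Hyp Om) (h2 : ∀ L ∈ Om, IsPGroup 2 L) (hK : K ∈ Om)
    (hM : K ≤ normalizer (M : Set G)) (hO : OO M = ⊥) (hz : zz K ∉ M) : M ≤ centralizer {zz K} := by
  haveI : Fact (Nat.Prime 2) := ⟨Nat.prime_two⟩
  by_contra hcen
  have hzK : ∀ k ∈ K, k * zz K = zz K * k := fun k hk => h.comm_zz hK (le_normalizer hk)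
  have hzQ := h.zz_mem hK
  set z := zz K with hzdef
  have hMQ : M ⊔ K ≤ normalizer (M : Set G) := sup_le le_normalizer hM
  obtain ⟨S, hS, hKS⟩ := LB.exists_syl_ge (h2 K hK) (le_sup_right : K ≤ M ⊔ K)
  have hT : Syl (S ⊓ M) M := LB.syl_inf_normal hS le_sup_left hMQ
  set T := S ⊓ M with hTdef
  have hKT : K ≤ normalizer (T : Set G) := by
    intro k hk
    rw [mem_normalizer_iff_cj, hTdef, cj_inf, mem_normalizer_iff_cj.1 (le_normalizer (hKS hk)),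
      mem_normalizer_iff_cj.1 (hM hk)]
  have hQT := h.lemma_one hK (h2 K hK) hT.2.1 hKT (fun h3 => hz h3.2)
  obtain ⟨g, hgMQ, hgS, hgz⟩ : ∃ g ∈ M ⊔ K, g * z * g⁻¹ ∈ S ∧ g * z * g⁻¹ ≠ z := by
    by_contra hcon
    push Not at hcon
    obtain ⟨P, hP⟩ := hS.exists_sylow
    have hzMQ : z ∈ M ⊔ K := (le_sup_right : K ≤ M ⊔ K) hzQ
    obtain ⟨N, hN, hNodd, hNz⟩ := Cfsg.Agent.S0215.result P (⟨z, hzMQ⟩ : (M ⊔ K : Subgroup G))
      (by rw [Subgroup.orderOf_mk]; exact h.orderOf_zz hK)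
      (by
        have : (⟨z, hzMQ⟩ : (M ⊔ K : Subgroup G)) ∈ (P : Subgroup _) := by
          rw [hP]; exact hKS hzQ
        exact this)
      (by
        rintro ⟨g, hg⟩ hgP
        have h3 : g * z * g⁻¹ ∈ S := by
          have h4 : (⟨g, hg⟩ : (M ⊔ K : Subgroup G)) * ⟨z, hzMQ⟩ * (⟨g, hg⟩ : (M ⊔ K : Subgroup G))⁻¹ ∈
              (P : Subgroup _) := hgP
          rw [hP] at h4
          exact h4
        exact Subtype.ext (hcon g hg h3))
    apply hcen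
    intro m hm
    rw [mem_centralizer_singleton_iff]
    have hmMQ : m ∈ M ⊔ K := (le_sup_left : M ≤ M ⊔ K) hm
    have h3 : z * m * z⁻¹ * m⁻¹ ∈ N.map (M ⊔ K).subtype ⊓ M := by
      refine ⟨⟨_, hNz ⟨m, hmMQ⟩, rfl⟩, ?_⟩
      exact M.mul_mem ((mem_normalizer_iff.1 (hM hzQ) _).1 hm) (M.inv_mem hm)
    have h4 : N.map (M ⊔ K).subtype ⊓ M ≤ OO M := by
      refine le_OO inf_le_right ?_ ?_
      · intro y hy
        rw [mem_normalizer_iff_cj, cj_inf, mem_normalizer_iff_cj.1 (le_normalizer hy)]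
        congr 1
        rw [← mem_normalizer_iff_cj]
        have h5 := (normal_subgroupOf_iff_le_normalizer (map_subtype_le N : N.map (M ⊔ K).subtype ≤ _)).1 (by
          rw [subgroupOf, comap_map_eq_self_of_injective (M ⊔ K).subtype_injective]
          exact hN)
        exact h5 ((le_sup_left : M ≤ M ⊔ K) hy)
      · intro h5
        have h6 : Nat.card (N.map (M ⊔ K).subtype) = Nat.card N :=
          card_map_of_injective (M ⊔ K).subtype_injective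
        have h7 := h5.trans (card_dvd_of_le (inf_le_left : N.map (M ⊔ K).subtype ⊓ M ≤ _))
        rw [h6] at h7
        rw [← Nat.not_even_iff_odd, even_iff_two_dvd] at hNodd
        exact hNodd h7
    have h5 := h4 h3
    rw [hO, Subgroup.mem_bot, mul_inv_eq_one, mul_inv_eq_iff_eq_mul] at h5
    exact h5.symm
  -- `K` centralizes `z' = z^g`
  have hz'T : z⁻¹ * (g * z * g⁻¹) ∈ T := by
    refine ⟨S.mul_mem (S.inv_mem (hKS hzQ)) hgS, ?_⟩
    obtain ⟨m, hm, q, hq, rfl⟩ := LB.exists_mul_of_mem_sup hM hgMQ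
    have hqz := hzK q hq
    have h3 : z⁻¹ * (m * q * z * (m * q)⁻¹) = (z⁻¹ * m * z⁻¹⁻¹) * m⁻¹ := by
      calc z⁻¹ * (m * q * z * (m * q)⁻¹) = z⁻¹ * m * (q * z) * q⁻¹ * m⁻¹ := by group
        _ = z⁻¹ * m * (z * q) * q⁻¹ * m⁻¹ := by rw [hqz]
        _ = _ := by group
    rw [h3]
    exact M.mul_mem ((mem_normalizer_iff.1 (hM (K.inv_mem hzQ)) _).1 hm) (M.inv_mem hm)
  have hK' : cj g K ∈ Om := h.conj K hK g
  have hzz' : zz (cj g K) = g * z * g⁻¹ := h.zz_cj hK g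
  have hQz' : ∀ a ∈ K, a * zz (cj g K) = zz (cj g K) * a := by
    intro a ha
    rw [hzz']
    have h3 := hQT a ha _ hz'T
    have h4 := hzK a ha
    set w := z⁻¹ * (g * z * g⁻¹) with hw
    have h5 : g * z * g⁻¹ = z * w := by rw [hw]; group
    rw [h5]
    calc a * (z * w) = (a * z) * w := by group
      _ = z * (a * w) := by rw [h4]; group
      _ = z * (w * a) := by rw [h3]
      _ = z * w * a := by group
  have hneK : K ≠ cj g K := by
    intro h3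
    apply hgz
    rw [← hzz', ← h3]
  have hQK' := h.le_normalizer_of_commute hK hK' (syl_self (h2 K hK)) hQz'
  obtain ⟨Q', hQ', -, hQQ'⟩ := h.comm_of_normalizes hK hK' hneK (syl_self (h2 K hK)) hQK'
  have hQ'eq : Q' = cj g K := LB.syl_eq_of_le hQ' (h2 _ hK') le_rfl hQ'.1
  subst hQ'eq
  -- `K ≤ M ⊔ K'`
  have hcjMK : cj g (M ⊔ K) = M ⊔ K := mem_normalizer_iff_cj.1 (le_normalizer hgMQ)
  have hcjM : cj g M = M := mem_normalizer_iff_cj.1 (hMQ hgMQ)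
  have hMK' : M ⊔ cj g K = M ⊔ K := by
    rw [← hcjMK, cj_sup, hcjM]
  have hK'n : cj g K ≤ normalizer (M : Set G) := le_sup_right.trans (hMK'.le.trans hMQ)
  obtain ⟨v, hv, c, hc, hvc⟩ := h.exists_comm_eq hK (h2 K hK)
  have hcM : c ∈ M ⊔ cj g K := by rw [hMK']; exact (le_sup_right : K ≤ M ⊔ K) hc
  obtain ⟨m, hm, y, hy, hcy⟩ := LB.exists_mul_of_mem_sup hK'n hcM
  have h3 := hQQ' v hv y hy
  apply hz
  rw [hzdef, ← hvc]
  have h4 : v * c * v⁻¹ * c⁻¹ = (v * m * v⁻¹) * m⁻¹ := by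
    rw [hcy]
    calc v * (m * y) * v⁻¹ * (m * y)⁻¹ = v * m * (y * v⁻¹) * y⁻¹ * m⁻¹ := by group
      _ = v * m * (v⁻¹ * (v * y) * v⁻¹) * y⁻¹ * m⁻¹ := by group
      _ = v * m * (v⁻¹ * (y * v) * v⁻¹) * y⁻¹ * m⁻¹ := by rw [h3]
      _ = _ := by group
  rw [h4]
  exact M.mul_mem ((mem_normalizer_iff.1 (hM hv) _).1 hm) (M.inv_mem hm)

/-- **E'** : if `zz L` commutes with the 2-group `K`, then `K = L` or `K` and `L` commute -/
theorem comm_of_zz_comm (h : Hyp Om) (hK : K ∈ Om) (hL : L ∈ Om) (h2 : IsPGroup 2 K) (hL2 : IsPGroup 2 L)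
    (hc : ∀ a ∈ K, a * zz L = zz L * a) (hne : K ≠ L) : ∀ a ∈ K, ∀ b ∈ L, a * b = b * a := by
  obtain ⟨R, hR, -, hRc⟩ := h.comm_of_normalizes hK hL hne (syl_self h2)
    (h.le_normalizer_of_commute hK hL (syl_self h2) hc)
  have h3 : R = L := LB.syl_eq_of_le hR hL2 le_rfl hR.1
  subst h3
  exact hRc

end Hyp

end Cfsg.Agent.Cit
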