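import Cfsg.Agent.Cit.OneRR

/-!
# Classical involutions, `|Om(S)| = 1`: Lemma `L1` of theorem `F1`
-/

set_option autoImplicit false
set_option linter.style.haveILetI false
set_option linter.unusedSectionVars false
set_option linter.unusedVariables false

namespace Cfsg.Agent.Cit

open Subgroup Cfsg OneBasic

variable {G : Type*} [Group G]

namespace OneBasic

/-- a Sylow 2-subgroup meets a normal subgroup in a Sylow subgroup -/
theorem syl_inf_normal [Finite G] {N M M' : Subgroup G} (hN : Syl N M) (hM' : M' ≤ M)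
    (hn : M ≤ normalizer (M' : Set G)) : Syl (N ⊓ M') M' := by
  haveI : Fact (Nat.Prime 2) := ⟨Nat.prime_two⟩
  obtain ⟨S, hS⟩ := hN.exists_sylow
  haveI : (M'.subgroupOf M).Normal := (normal_subgroupOf_iff_le_normalizer hM').2 hn
  refine ⟨inf_le_right, hN.2.1.to_le inf_le_left, ?_⟩
  rw [inf_relIndex_right]
  have h1 := Lib.SylowNormalInf.not_dvd_relIndex S (M'.subgroupOf M)
  rw [hS, ← relIndex_map_map_of_injective _ _ M.subtype_injective, map_subgroupOf_eq_of_le hM',
    map_subgroupOf_eq_of_le hN.1] at h1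
  exact h1

/-- `u` centralises `c` and maps `v` to `v c^e` -/
structure Act (c v u : G) (e : ℤ) : Prop where
  comm : u * c = c * u
  act : u * v * u⁻¹ = v * c ^ e

namespace Act

variable {c v : G}

theorem mul {u w : G} {d e : ℤ} (hu : Act c v u d) (hw : Act c v w e) : Act c v (u * w) (d + e) := by
  refine ⟨?_, ?_⟩
  · rw [mul_assoc, hw.comm, ← mul_assoc, hu.comm, mul_assoc]
  · have h1 : u * c ^ e = c ^ e * u := ((show Commute u c from hu.comm).zpow_right e).eq
    calc u * w * v * (u * w)⁻¹ = u * (w * v * w⁻¹) * u⁻¹ := by group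
      _ = u * (v * c ^ e) * u⁻¹ := by rw [hw.act]
      _ = (u * v * u⁻¹) * (u * c ^ e) * u⁻¹ := by group
      _ = v * c ^ d * c ^ e := by rw [hu.act, h1]; group
      _ = v * c ^ (d + e) := by rw [mul_assoc, ← zpow_add]

theorem one : Act c v 1 0 := ⟨by simp, by simp⟩

theorem inv {u : G} {e : ℤ} (hu : Act c v u e) : Act c v u⁻¹ (-e) := by
  have h1 : u⁻¹ * c = c * u⁻¹ := ((show Commute u c from hu.comm).inv_left).eq
  refine ⟨h1, ?_⟩
  have h2 : u⁻¹ * c ^ (-e) = c ^ (-e) * u⁻¹ := ((show Commute u⁻¹ c from h1).zpow_right (-e)).eq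
  have h3 : v = u⁻¹ * (v * c ^ e) * u := by rw [← hu.act]; group
  have h4 : u⁻¹ * v * u⁻¹⁻¹ = (u⁻¹ * (v * c ^ e) * u) * (u⁻¹ * c ^ (-e) * u) := by
    rw [inv_inv, zpow_neg]; group
  rw [h4, ← h3, h2]; group

theorem pow {u : G} {e : ℤ} (hu : Act c v u e) (k : ℕ) : Act c v (u ^ k) (e * k) := by
  induction k with
  | zero => simpa using one
  | succ k ih =>
    have := ih.mul hu
    rw [pow_succ]
    convert this using 1
    push_cast
    ring

theorem zpow {u : G} {e : ℤ} (hu : Act c v u e) (k : ℤ) : Act c v (u ^ k) (e * k) := by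
  obtain ⟨m, rfl | rfl⟩ := k.eq_nat_or_neg
  · rw [zpow_natCast]; exact hu.pow m
  · have := (hu.pow m).inv
    rw [zpow_neg, zpow_natCast]
    convert this using 1
    ring

end Act

end OneBasic

namespace GQ

variable {Q : Subgroup G} {c v z : G} {n : ℕ}

theorem act_c (h : GQ Q c v z n) (k : ℤ) : Act c v (c ^ k) (-2 * k) :=
  ⟨((Commute.refl c).zpow_left k).eq, h.conj_zpow_v k⟩

theorem act_unique (h : GQ Q c v z n) {u : G} {d e : ℤ} (hd : Act c v u d) (he : Act c v u e) :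
    (2 : ℤ) ^ (n + 2) ∣ d - e := by
  rw [← h.zpow_eq_iff]
  exact mul_left_cancel (hd.act.symm.trans he.act)

end GQ

namespace OPair.Co

variable [Finite G] {Om : Set (Subgroup G)} {K L T Q Q' : Subgroup G} {x y x' y' : G} {n : ℕ}

/-- type `W`: the generator `x'` of `C_Q'(z)` acts on `Q` as a diagonal element -/
theorem W_act (c : Co Om K L T Q Q' x y x' y' n) (h : One Om) (hW' : zz K * x' = x' * zz K)
    (hW : zz L * x = x * zz L) : ∃ i : ℤ, Odd i ∧ Act x y x' i := by
  have hx'T : x' ∈ T := c.pair.symm.mem_T h c.gq'.c_mem hW'.symm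
  have hxT : x ∈ T := c.pair.mem_T h c.gq.c_mem hW.symm
  obtain ⟨i, hi⟩ := c.conj_y hx'T
  have hx'x : x' * x = x * x' := (c.pair.commute_R h c.gq.c_mem hxT c.gq'.c_mem hx'T).symm
  have ha : Act x y x' i := ⟨hx'x, hi⟩
  refine ⟨i, ?_, ha⟩
  have h1 := ha.pow (2 ^ (n + 1))
  rw [c.gq'.z_eq] at h1
  have h2 := h1.act
  rw [c.t_y h hW] at h2
  have h3 := mul_left_cancel h2
  rw [← c.gq.z_zpow, c.gq.zpow_eq_iff] at h3
  push_cast at h3
  have h4 : (2 : ℤ) ^ (n + 1) - i * 2 ^ (n + 1) = 2 ^ (n + 1) * (1 - i) := by ring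
  rw [h4, pow_succ (2 : ℤ) (n + 1)] at h3
  have h5 : (2 : ℤ) ∣ 1 - i := (mul_dvd_mul_iff_left (by positivity)).1 h3
  obtain ⟨k, hk⟩ := h5
  exact ⟨-k, by omega⟩

end OPair.Co

namespace Frm

variable [Finite G] {Om : Set (Subgroup G)} {K T Q : Subgroup G} {x y : G} {n : ℕ}
  {f : Frm Om K T Q x y n}

theorem not_cent_four (f : Frm Om K T Q x y n) (h : One Om) {q r : G} (hq : q ∈ Q) (hq4 : orderOf q = 4)
    (hr : ∀ a ∈ Q, r * a = a * r) : ¬ ∀ a ∈ Q, (q * r) * a = a * (q * r) := by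
  intro hh
  have h1 : ∀ a ∈ Q, q * a = a * q := by
    intro a ha
    have c1 : Commute (q * r) a := hh a ha
    have c2 : Commute r a := hr a ha
    have h2 : (q * r) * r⁻¹ = q := by group
    rw [← h2]
    exact (c1.mul_left c2.inv_left).eq
  rcases f.gq.eq_of_cent hq h1 with h2 | h2
  · rw [h2, orderOf_one] at hq4; omega
  · rw [h2, f.gq.orderOf_z] at hq4; omega

theorem ne_z (f : Frm Om K T Q x y n) (h : One Om) {q r : G} (hq : q ∈ Q) (hq4 : orderOf q = 4)
    (hr : ∀ a ∈ Q, r * a = a * r) : zz K ≠ q * r := by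
  intro hh
  apply f.not_cent_four h hq hq4 hr
  intro a ha
  rw [← hh]
  exact (f.comm_z h (f.hQT ha)).symm

theorem wQ (f : Frm Om K T Q x y n) : x ^ 2 ^ n ∈ Q := Q.pow_mem f.gq.c_mem _

/-- the outer type, in coordinates -/
theorem out (f : Frm Om K T Q x y n) (h : One Om) {t : G} (ht : t ∈ T) (htz : InZ Om t)
    (hO : ∀ q ∈ Q, q * t = t * q → q = 1 ∨ q = zz K) :
    t * x * t⁻¹ = x⁻¹ ∧ ∃ j : ℤ, Odd j ∧ t * y * t⁻¹ = y * x ^ j :=
  f.gq.out_act (f.hTQ ht) (f.inv t ht) (htz.mul_self h) hO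

/-- part (a) of (*) -/
theorem not_comm_RR (f : Frm Om K T Q x y n) (h : One Om) {t : G} (ht : t ∈ T)
    (htz : InZ Om t) (hO : ∀ q ∈ Q, q * t = t * q → q = 1 ∨ q = zz K) {r : G} (hr : f.RR r) :
    t * r ≠ r * t := by
  intro htr
  obtain ⟨htx, j, hj, hty⟩ := f.out h ht htz hO
  obtain ⟨w, hw⟩ : ∃ w, w = x ^ 2 ^ n := ⟨_, rfl⟩
  have hwQ : w ∈ Q := by rw [hw]; exact f.wQ
  have hw4 : orderOf w = 4 := by rw [hw]; exact f.gq.orderOf_w
  have hwx : w * x = x * w := by rw [hw]; exact ((Commute.refl x).pow_left _).eq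
  have htw : t * w * t⁻¹ = w⁻¹ := by rw [hw, ← conj_pow, htx, inv_pow]
  have hyw : y * w * y⁻¹ = w⁻¹ := by rw [hw, ← conj_pow, f.gq.conj, inv_pow]
  have htt : t * t = 1 := htz.mul_self h
  have hti : t⁻¹ = t := htz.inv h
  obtain ⟨L, hL, hLz⟩ := hr.inZ w hwQ hw4
  have hne : K ≠ L := by
    rintro rfl
    exact f.ne_z h hwQ hw4 hr.cent hLz
  have hzw : zz K * w = w * zz K := (f.comm_z h (f.hQT hwQ)).symm
  have hcz : zz K * zz L = zz L * zz K := by
    rw [hLz]
    have h1 := f.comm_z h hr.mem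
    calc zz K * (w * r) = (zz K * w) * r := by group
      _ = w * (zz K * r) := by rw [hzw]; group
      _ = (w * r) * zz K := by rw [← h1]; group
  have hwinv : w⁻¹ = zz K * w := by
    rw [inv_eq_iff_mul_eq_one]
    calc w * (zz K * w) = (w * zz K) * w := by group
      _ = zz K * (w * w) := by rw [← hzw]; group
      _ = 1 := by rw [f.four_sq h hwQ hw4, h.hyp.zz_mul f.hK]
  -- `M2 = C(z) ∩ C(t1)`, `M1 = N(K) ∩ N(M2)`
  set M2 : Subgroup G := normalizer (K : Set G) ⊓ normalizer (L : Set G) with hM2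
  have hM2z : M2 = centralizer {zz K} ⊓ centralizer {zz L} := by
    rw [h.centralizer_zz f.hK, h.centralizer_zz hL]
  set M1 : Subgroup G := normalizer (K : Set G) ⊓ normalizer (M2 : Set G) with hM1
  have hM21 : M2 ≤ M1 := le_inf inf_le_left le_normalizer
  have hmem1 : ∀ a ∈ T, (a * zz L * a⁻¹ = zz L ∨ a * zz L * a⁻¹ = zz K * zz L) → a ∈ M1 := by
    intro a ha ha2
    refine ⟨f.hTK ha, (mem_normalizer_iff_cj (K := M2)).2 ?_⟩
    rw [hM2z, cj_inf, cj_centralizer, cj_centralizer, f.comm_z h ha, mul_inv_cancel_right]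
    rcases ha2 with ha2 | ha2
    · rw [ha2]
    · rw [ha2]
      ext b
      rw [mem_inf, mem_inf, mem_centralizer_singleton_iff, mem_centralizer_singleton_iff,
        mem_centralizer_singleton_iff]
      constructor
      · rintro ⟨h1, h2⟩
        refine ⟨h1, ?_⟩
        have h3 : zz K * (b * zz L) = zz K * (zz L * b) := by
          calc zz K * (b * zz L) = (zz K * b) * zz L := by group
            _ = b * (zz K * zz L) := by rw [← h1]; group
            _ = zz K * zz L * b := h2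
            _ = _ := by group
        exact mul_left_cancel h3
      · rintro ⟨h1, h2⟩
        refine ⟨h1, ?_⟩
        calc b * (zz K * zz L) = (b * zz K) * zz L := by group
          _ = zz K * (b * zz L) := by rw [h1]; group
          _ = zz K * zz L * b := by rw [h2]; group
  have hQM1 : ∀ a ∈ Q, a ∈ M1 := by
    intro a ha
    apply hmem1 a (f.hQT ha)
    rw [hLz]
    have h2 : a * (w * r) * a⁻¹ = (a * w * a⁻¹) * r := by
      calc a * (w * r) * a⁻¹ = a * w * (r * a⁻¹) := by group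
        _ = a * w * (a⁻¹ * r) := by rw [hr.cent _ (Q.inv_mem ha)]
        _ = _ := by group
    rw [h2]
    rcases f.gq.covZ ha with ⟨i, hi⟩ | ⟨i, hi⟩
    · left
      have hi' : x ^ i = a := hi
      have h3 : a * w = w * a := by
        rw [← hi']
        exact ((show Commute x w from hwx.symm).zpow_left i).eq
      rw [h3, mul_inv_cancel_right]
    · right
      have h3 : a * w * a⁻¹ = w⁻¹ := by
        have h4 : x ^ i * w = w * x ^ i := ((show Commute x w from hwx.symm).zpow_left i).eq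
        rw [hi]
        calc y * x ^ i * w * (y * x ^ i)⁻¹ = y * (x ^ i * w) * (x ^ i)⁻¹ * y⁻¹ := by group
          _ = y * w * y⁻¹ := by rw [h4]; group
          _ = w⁻¹ := hyw
      rw [h3, hwinv]; group
  have htL : t * zz L * t⁻¹ = zz K * zz L := by
    rw [hLz]
    calc t * (w * r) * t⁻¹ = (t * w * t⁻¹) * (t * r) * t⁻¹ := by group
      _ = w⁻¹ * r := by rw [htw, htr]; group
      _ = zz K * (w * r) := by rw [hwinv]; group
  have htM1 : t ∈ M1 := hmem1 t ht (Or.inr htL)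
  set A : Subgroup G := Q ⊔ zpowers t with hA
  have hAT : A ≤ T := sup_le f.hQT (zpowers_le.2 ht)
  have hAM1 : A ≤ M1 := sup_le hQM1 (zpowers_le.2 htM1)
  obtain ⟨N, hN, hAN⟩ := exists_syl_ge (f.hT.to_le hAT) hAM1
  have hQN : Q ≤ N := le_sup_left.trans hAN
  have htN : t ∈ N := hAN (mem_sup_right (mem_zpowers t))
  have hNK : Q = K ⊓ N := syl_eq_of_le f.hQ (hN.2.1.to_le inf_le_right) inf_le_left (le_inf f.hQ.1 hQN)
  have hNQ : N ≤ normalizer (Q : Set G) := by
    intro a ha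
    have h2 : cj a (K ⊓ N) = K ⊓ N := by
      rw [cj_inf, mem_normalizer_iff_cj.1 (hN.1 ha).1, mem_normalizer_iff_cj.1 (le_normalizer ha)]
    rw [mem_normalizer_iff_cj]
    rw [← hNK] at h2
    exact h2
  have hT1 : Syl (N ⊓ M2) M2 := syl_inf_normal hN hM21 inf_le_right
  obtain ⟨Q', hQ', hT1Q'⟩ := exists_syl_normalized hT1.2.1 (hT1.1.trans (inf_le_right : M2 ≤ _))
  have p : OPair Om K L (N ⊓ M2) Q Q' :=
    ⟨f.hK, hL, hne, hcz, f.hQ, hQ', hT1, inf_le_left.trans hNQ, hT1Q'⟩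
  obtain ⟨x1, y1, x', y', n1, c1⟩ := p.exists_co h
  have hn1 : n1 = n := by
    have h2 := c1.gq.card
    rw [f.gq.card] at h2
    have := Nat.pow_right_injective (le_refl 2) h2
    omega
  subst hn1
  -- `x` centralises `t1`
  have hxL : x * zz L = zz L * x := by
    rw [hLz]
    calc x * (w * r) = (x * w) * r := by group
      _ = w * (x * r) := by rw [← hwx]; group
      _ = w * r * x := by rw [← hr.cent x f.gq.c_mem]; group
  have hwL : w * zz L = zz L * w := by rw [hw]; exact ((show Commute x (zz L) from hxL).pow_left _).eq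
  have hWW : zz K * x' = x' * zz K ∧ zz L * x1 = x1 * zz L := by
    rcases c1.dich h with h2 | h2
    · exact h2
    · exfalso
      rcases h2.1 w hwQ hwL with h3 | h3
      · rw [h3, orderOf_one] at hw4; omega
      · rw [h3, f.gq.orderOf_z] at hw4; omega
  have hx1 : x ∈ zpowers x1 := by
    by_contra hx
    have h2 : Q ≤ centralizer {zz L} := c1.gq.le_of_mem (mem_centralizer_singleton_iff.2 hWW.2.symm)
      f.gq.c_mem hx (mem_centralizer_singleton_iff.2 hxL)
    exact p.not_cent h fun a ha => (mem_centralizer_singleton_iff.1 (h2 ha)).symm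
  have hx2 : x1 ∈ zpowers x := by
    by_contra hx
    have h2 : Q ≤ centralizer {zz L} := f.gq.le_of_mem (mem_centralizer_singleton_iff.2 hxL)
      c1.gq.c_mem hx (mem_centralizer_singleton_iff.2 hWW.2.symm)
    exact p.not_cent h fun a ha => (mem_centralizer_singleton_iff.1 (h2 ha)).symm
  have c : OPair.Co Om K L (N ⊓ M2) Q Q' x y x' y' n1 := by
    refine ⟨p, f.gq, c1.gq', ?_, c1.inv'⟩
    intro a ha
    obtain ⟨k, hk⟩ := hx1
    have hk' : x1 ^ k = x := hk
    obtain ⟨l, hl⟩ := c1.exp ha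
    rw [← hk', conj_zpow_pow hl, hk']
    exact zpow_mem hx2 _
  obtain ⟨i, hi, hai⟩ := c.W_act h hWW.1 hxL.symm
  obtain ⟨i', hi', hai'⟩ := c.symm.W_act h hxL.symm hWW.1
  have hT1' : ∀ a ∈ N, a * zz L = zz L * a → a ∈ N ⊓ M2 := by
    intro a ha ha2
    exact ⟨ha, (hN.1 ha).1, h.mem_normalizer hL ha2⟩
  have hx'T : x' ∈ N ⊓ M2 := p.symm.mem_T h c.gq'.c_mem hWW.1.symm
  -- `g = t y⁻¹`
  obtain ⟨g, hg⟩ : ∃ g, g = t * y⁻¹ := ⟨_, rfl⟩
  have hyQ : y ∈ Q := f.gq.v_mem
  have hgN : g ∈ N := by rw [hg]; exact N.mul_mem htN (N.inv_mem (hQN hyQ))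
  have hgL : g * zz L = zz L * g := by
    have h2 : y⁻¹ * zz L * y = zz K * zz L := by
      rw [hLz]
      have h3 : y⁻¹ * w * y = w⁻¹ := by
        have h4 : y * w⁻¹ * y⁻¹ = w := by
          have h5 : y * w⁻¹ * y⁻¹ = (y * w * y⁻¹)⁻¹ := by group
          rw [h5, hyw, inv_inv]
        calc y⁻¹ * w * y = y⁻¹ * (y * w⁻¹ * y⁻¹) * y := by rw [h4]
          _ = w⁻¹ := by group
      calc y⁻¹ * (w * r) * y = y⁻¹ * w * (r * y) := by group
        _ = (y⁻¹ * w * y) * r := by rw [hr.cent y hyQ]; group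
        _ = zz K * (w * r) := by rw [h3, hwinv]; group
    have h3 : t * (zz K * zz L) * t⁻¹ = zz L := by
      rw [← htL]
      calc t * (t * zz L * t⁻¹) * t⁻¹ = (t * t) * zz L * (t * t)⁻¹ := by group
        _ = zz L := by rw [htt]; group
    calc g * zz L = t * (y⁻¹ * zz L * y) * t⁻¹ * (t * y⁻¹) := by rw [hg]; group
      _ = zz L * g := by rw [h2, h3, hg]
  have hgT := hT1' g hgN hgL
  have hga : Act x y g j := by
    constructor
    · have h2 : y⁻¹ * x = x⁻¹ * y⁻¹ := by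
        have h3 : y * x⁻¹ * y⁻¹ = x := by
          have h5 : y * x⁻¹ * y⁻¹ = (y * x * y⁻¹)⁻¹ := by group
          rw [h5, f.gq.conj, inv_inv]
        calc y⁻¹ * x = y⁻¹ * (y * x⁻¹ * y⁻¹) := by rw [h3]
          _ = _ := by group
      have h3 : t * x⁻¹ = x * t := by
        have h5 : t * x⁻¹ * t⁻¹ = x := by
          have h6 : t * x⁻¹ * t⁻¹ = (t * x * t⁻¹)⁻¹ := by group
          rw [h6, htx, inv_inv]
        rw [mul_inv_eq_iff_eq_mul] at h5
        exact h5
      rw [hg, mul_assoc, h2, ← mul_assoc, h3, mul_assoc]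
    · have h2 : g * y * g⁻¹ = t * y * t⁻¹ := by rw [hg]; group
      rw [h2, hty]
  obtain ⟨m, hm⟩ := exists_odd_inv (n1 + 2) hi j
  have hmodd : Odd m := by
    rcases Int.even_or_odd m with ⟨k, hk⟩ | hk
    · exfalso
      have h2 : (2 : ℤ) ∣ i * m - j := (dvd_pow_self 2 (by omega)).trans hm
      obtain ⟨j0, hj0⟩ := hj
      have h3 : i * m = 2 * (i * k) := by rw [hk]; ring
      rw [h3] at h2
      omega
    · exact hk
  obtain ⟨d, hd⟩ : ∃ d, d = x' ^ (-m) * g := ⟨_, rfl⟩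
  have hdT : d ∈ N ⊓ M2 := by rw [hd]; exact (N ⊓ M2).mul_mem ((N ⊓ M2).zpow_mem hx'T _) hgT
  have hda : Act x y d (i * -m + j) := by rw [hd]; exact (hai.zpow (-m)).mul hga
  have hdy : d * y = y * d := by
    have h2 := hda.act
    have h3 : x ^ (i * -m + j) = 1 := by
      rw [f.gq.zpow_eq_one_iff]
      have : i * -m + j = -(i * m - j) := by ring
      rw [this]
      exact hm.neg_right
    rw [h3, mul_one, mul_inv_eq_iff_eq_mul] at h2
    exact h2
  have hdQ : ∀ a ∈ Q, d * a = a * d := c.cent_Q hda.comm hdy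
  have hdx' : d * x' = x' * d := p.cent_R' h hdT hdQ c.gq'.c_mem hx'T
  have hgd : g = x' ^ m * d := by rw [hd, zpow_neg]; group
  -- `y x' y⁻¹ = x^i x'`
  have hyx' : y * x' * y⁻¹ = x ^ i * x' := by
    have h2 : x' * y = y * x ^ i * x' := by rw [← hai.act]; group
    have h3 : x' = x ^ (-i) * (y * x' * y⁻¹) := by
      calc x' = (x' * y) * y⁻¹ := by group
        _ = (y * x ^ i) * x' * y⁻¹ := by rw [h2]
        _ = x ^ (-i) * (y * x' * y⁻¹) := by rw [f.gq.v_zpow]; group
    nth_rewrite 2 [h3]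
    rw [zpow_neg]; group
  have hxx' : Commute (x ^ i) x' := ((show Commute x' x from hai.comm).symm).zpow_left i
  have hygy : y * g * y⁻¹ = x ^ (i * m) * x' ^ m * d := by
    have h2 : y * x' ^ m * y⁻¹ = (x ^ i) ^ m * x' ^ m := by
      rw [← conj_zpow, hyx', hxx'.mul_zpow]
    calc y * g * y⁻¹ = (y * x' ^ m * y⁻¹) * (y * d) * y⁻¹ := by rw [hgd]; group
      _ = (x ^ i) ^ m * x' ^ m * (d * y) * y⁻¹ := by rw [h2, hdy]
      _ = x ^ (i * m) * x' ^ m * d := by rw [zpow_mul]; group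
  have hgg : g * (y * g * y⁻¹) = zz K := by
    have h2 : g * (y * g * y⁻¹) * (y * y) = 1 := by
      have h3 : g * y = t := by rw [hg]; group
      calc g * (y * g * y⁻¹) * (y * y) = (g * y) * (g * y) := by group
        _ = 1 := by rw [h3, htt]
    rw [f.gq.v_sq] at h2
    rw [eq_inv_of_mul_eq_one_left h2, h.hyp.zz_inv f.hK]
  -- action on `y'`
  have hal : ∃ l, Act x' y' d l := by
    obtain ⟨l, hl⟩ := c.symm.conj_y hdT
    exact ⟨l, hdx', hl⟩
  obtain ⟨l, hal⟩ := hal
  have hgy' : Act x' y' g (-2 * m + l) := by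
    rw [hgd]; exact (c.gq'.act_c m).mul hal
  have hygy' : Act x' y' (y * g * y⁻¹) (i' * (i * m) + -2 * m + l) := by
    rw [hygy]; exact ((hai'.zpow (i * m)).mul (c.gq'.act_c m)).mul hal
  have hz1 : Act x' y' (zz K) (2 ^ (n1 + 1)) := by
    refine ⟨hWW.1, ?_⟩
    rw [c.symm.t_y h hWW.1, c.gq'.z_zpow]
  have hz2 := hgy'.mul hygy'
  rw [hgg] at hz2
  have hfin := c.gq'.act_unique hz1 hz2
  have h2 : (2 : ℤ) ∣ 2 ^ (n1 + 1) - (-2 * m + l + (i' * (i * m) + -2 * m + l)) :=
    (dvd_pow_self 2 (by omega)).trans hfin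
  have h3 : (2 : ℤ) ∣ 2 ^ (n1 + 1) := dvd_pow_self 2 (by omega)
  have h4 : Odd (i' * (i * m)) := hi'.mul (hi.mul hmodd)
  obtain ⟨e, he⟩ := h4
  rw [he] at h2
  omega

/-- **(*)** -/
theorem exists_inverted (f : Frm Om K T Q x y n) (h : One Om) (h1 : KOne Om) {t : G} (ht : t ∈ T)
    (htz : InZ Om t) (hO : ∀ q ∈ Q, q * t = t * q → q = 1 ∨ q = zz K) {r : G} (hr : f.RR r) :
    ∃ r', f.RR r' ∧ t * r' * t⁻¹ = r'⁻¹ := by
  have htt : t * t = 1 := htz.mul_self h
  obtain ⟨s, hs⟩ : ∃ s, s = t * r * t⁻¹ := ⟨_, rfl⟩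
  have hsr : f.RR s := by rw [hs]; exact hr.conj h ht
  have hne : s ≠ r := by
    intro h2
    apply f.not_comm_RR h ht htz hO hr
    rw [hs, mul_inv_eq_iff_eq_mul] at h2
    exact h2
  by_cases hne' : s = r⁻¹
  · exact ⟨r, hr, by rw [← hs, hne']⟩
  obtain ⟨v, hv, hve, -, -⟩ := RR.exists_anti h h1 hr hsr hne hne'
  refine ⟨v, hv, ?_⟩
  obtain ⟨k, hk⟩ := hve
  have hk' : (zz K * (r * s)) ^ k = v := hk
  have h2 : t * (zz K * (r * s)) * t⁻¹ = (zz K * (r * s))⁻¹ := by
    have e1 : t * s * t⁻¹ = r := by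
      rw [hs]
      calc t * (t * r * t⁻¹) * t⁻¹ = (t * t) * r * (t * t)⁻¹ := by group
        _ = r := by rw [htt]; group
    have e2 : t * zz K * t⁻¹ = zz K := by rw [f.comm_z h ht, mul_inv_cancel_right]
    have e3 : (zz K * (r * s))⁻¹ = s⁻¹ * r⁻¹ * zz K := by
      rw [mul_inv_rev, mul_inv_rev, h.hyp.zz_inv f.hK]
    have e4 : s * r⁻¹ = r⁻¹⁻¹⁻¹ * 1 * r * s * r⁻¹ := by group
    calc t * (zz K * (r * s)) * t⁻¹ = (t * zz K * t⁻¹) * (t * r * t⁻¹) * (t * s * t⁻¹) := by group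
      _ = zz K * s * r := by rw [e1, e2, ← hs]
      _ = (zz K * s) * r := by group
      _ = s⁻¹ * (zz K * r⁻¹) := by
          rw [← hsr.inv_eq h, hr.inv_eq h, ← mul_assoc (zz K) (zz K) r, h.hyp.zz_mul f.hK, one_mul]
      _ = s⁻¹ * (r⁻¹ * zz K) := by rw [f.comm_z h (T.inv_mem hr.mem)]
      _ = (zz K * (r * s))⁻¹ := by rw [e3]; group
  rw [← hk', ← conj_zpow, h2, inv_zpow]

variable {b : G}

/-- the step of (in,in) for anticommuting elements -/
theorem inin_step (f : Frm Om K T Q x y n) (h : One Om) (h1 : KOne Om) (hbT : b ∈ T)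
    (hb : ∀ a ∈ T, b * a = a * b) (hb2 : PThree Om b)
    (hbK : Perp b K) {r s : G} (hr : f.RR r) (hs : f.RR s) (hrs : s * r = zz K * (r * s))
    {q : G} (hq : q ∈ Q) (hq4 : orderOf q = 4) (hg : Good Om b (q * r)) {q' : G} (hq' : q' ∈ Q)
    (hq4' : orderOf q' = 4) : Good Om b (q' * s) := by
  obtain ⟨q1, hq1, q2, hq2, h14, h24, h124, h21⟩ := f.gq.exists_pair
  have hzz := h.hyp.zz_mul f.hK
  have cz : ∀ a ∈ T, a * zz K = zz K * a := fun a ha => f.comm_z h ha
  have g1 := hr.good h h1 hbT hb hq hq4 hq1 h14 hg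
  have m1 : q1 * r ∈ T := T.mul_mem (f.hQT hq1) hr.mem
  have m2 : q2 * s ∈ T := T.mul_mem (f.hQT hq2) hs.mem
  have e1 : q1 * q2 * (r * s) = (q1 * r) * (q2 * s) := by
    calc q1 * q2 * (r * s) = q1 * (q2 * r) * s := by group
      _ = (q1 * r) * (q2 * s) := by rw [← hr.cent q2 hq2]; group
  have e2 : (q2 * s) * (q1 * r) = (q1 * r) * (q2 * s) := by
    calc (q2 * s) * (q1 * r) = q2 * (s * q1) * r := by group
      _ = (q2 * q1) * (s * r) := by rw [hs.cent q1 hq1]; group
      _ = (q1 * q2 * zz K) * (zz K * (r * s)) := by rw [h21, hrs]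
      _ = q1 * q2 * (zz K * zz K) * (r * s) := by group
      _ = q1 * q2 * (r * s) := by rw [hzz, mul_one]
      _ = (q1 * r) * (q2 * s) := e1
  have e3 : q1 * r ≠ q2 * s := by
    intro h3
    have h4 : q2⁻¹ * q1 = s * r⁻¹ := by
      calc q2⁻¹ * q1 = q2⁻¹ * (q1 * r) * r⁻¹ := by group
        _ = q2⁻¹ * (q2 * s) * r⁻¹ := by rw [h3]
        _ = s * r⁻¹ := by group
    have h5 : (q2⁻¹ * q1) * q1 = q1 * (q2⁻¹ * q1) := by
      rw [h4]
      have c1 : Commute s q1 := hs.cent q1 hq1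
      have c2 : Commute r q1 := hr.cent q1 hq1
      exact (c1.mul_left c2.inv_left).eq
    have h6 : q2⁻¹ * q1 = q1 * q2⁻¹ := by
      have : q2⁻¹ * q1 * q1 = (q1 * q2⁻¹) * q1 := by rw [h5]; group
      exact mul_right_cancel this
    have h7 : q2 * q1 = q1 * q2 := by
      calc q2 * q1 = q2 * (q1 * q2⁻¹) * q2 := by group
        _ = q2 * (q2⁻¹ * q1) * q2 := by rw [h6]
        _ = q1 * q2 := by group
    rw [h7] at h21
    have h8 : zz K = 1 := by
      have : q1 * q2 * 1 = q1 * q2 * zz K := by rw [mul_one]; exact h21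
      exact (mul_left_cancel this).symm
    exact h.hyp.zz_ne f.hK h8
  have hgz : Good Om b (zz K) := ⟨K, f.hK, rfl, hbK⟩
  have g2 : Good Om b (q2 * s) :=
    Good.three h hb2 hgz g1 (hs.inZ q2 hq2 h24) (f.ne_z h hq1 h14 hr.cent) (f.ne_z h hq2 h24 hs.cent) e3
      (cz _ m1).symm (cz _ m2).symm e2.symm (hb _ m2)
  exact hs.good h h1 hbT hb hq2 h24 hq' hq4' g2

/-- (in,in) -/
theorem inin (f : Frm Om K T Q x y n) (h : One Om) (h1 : KOne Om) (hbT : b ∈ T)
    (hb : ∀ a ∈ T, b * a = a * b) (hb2 : PThree Om b)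
    (hbK : Perp b K) {r s : G} (hr : f.RR r) (hs : f.RR s)
    {q : G} (hq : q ∈ Q) (hq4 : orderOf q = 4) (hg : Good Om b (q * r)) {q' : G} (hq' : q' ∈ Q)
    (hq4' : orderOf q' = 4) : Good Om b (q' * s) := by
  by_cases hsr : s = r
  · rw [hsr]; exact hr.good h h1 hbT hb hq hq4 hq' hq4' hg
  by_cases hsr' : s = r⁻¹
  · have h2 : q' * s = (q' * zz K) * r := by rw [hsr', hr.inv_eq h]; group
    rw [h2]
    refine hr.good h h1 hbT hb hq hq4 (Q.mul_mem hq' f.gq.z_mem) ?_ hg
    apply f.sq_four h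
    have h3 := f.comm_z h (f.hQT hq')
    calc q' * zz K * (q' * zz K) = q' * (zz K * q') * zz K := by group
      _ = (q' * q') * (zz K * zz K) := by rw [← h3]; group
      _ = zz K := by rw [f.four_sq h hq' hq4', h.hyp.zz_mul f.hK, mul_one]
  obtain ⟨v, hv, -, hvr, hvs⟩ := RR.exists_anti h h1 hr hs hsr hsr'
  have g1 : Good Om b (q * v) := f.inin_step h h1 hbT hb hb2 hbK hr hv hvr hq hq4 hg hq hq4
  have h2 : s * v = zz K * (v * s) := by
    rw [hvs, ← mul_assoc, h.hyp.zz_mul f.hK, one_mul]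
  exact f.inin_step h h1 hbT hb hb2 hbK hv hs h2 hq hq4 g1 hq' hq4'

/-- elements of inner type -/
theorem exists_RR (f : Frm Om K T Q x y n) (h : One Om) (h1 : KOne Om) {t q : G} (ht : t ∈ T)
    (htz : InZ Om t) (hq : q ∈ Q) (hq2 : q * q = zz K) (hqt : ∀ a ∈ Q, (q⁻¹ * t) * a = a * (q⁻¹ * t)) :
    f.RR (q⁻¹ * t) := by
  have hq4 := f.sq_four h hq2
  have h2 : q * (q⁻¹ * t) = t := by group
  refine RR.of_one h h1 (T.mul_mem (T.inv_mem (f.hQT hq)) ht) ?_ hqt hq hq4 (by rw [h2]; exact htz)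
  have h3 := hqt q hq
  have h4 : (q * q) * ((q⁻¹ * t) * (q⁻¹ * t)) = 1 := by
    calc (q * q) * ((q⁻¹ * t) * (q⁻¹ * t)) = q * (q * (q⁻¹ * t)) * (q⁻¹ * t) := by group
      _ = q * ((q⁻¹ * t) * q) * (q⁻¹ * t) := by rw [h3]
      _ = t * t := by group
      _ = 1 := htz.mul_self h
  rw [hq2] at h4
  rw [eq_inv_of_mul_eq_one_right h4, h.hyp.zz_inv f.hK]

/-- an element inverting both `w` and `r'` commutes with `w r'` -/
theorem comm_mul_of_inv (f : Frm Om K T Q x y n) (h : One Om) {t q r : G} (ht : t ∈ T) (hq : q ∈ Q)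
    (hq4 : orderOf q = 4) (hr : f.RR r) (htq : t * q * t⁻¹ = q⁻¹) (htr : t * r * t⁻¹ = r⁻¹) :
    t * (q * r) = (q * r) * t := by
  have hzz := h.hyp.zz_mul f.hK
  have hqz : q * zz K = zz K * q := f.comm_z h (f.hQT hq)
  have hqinv : q⁻¹ = q * zz K := by
    rw [inv_eq_iff_mul_eq_one, ← mul_assoc, f.four_sq h hq hq4, hzz]
  have h2 : t * (q * r) * t⁻¹ = q * r := by
    calc t * (q * r) * t⁻¹ = (t * q * t⁻¹) * (t * r * t⁻¹) := by group
      _ = q * zz K * (zz K * r) := by rw [htq, htr, hqinv, hr.inv_eq h]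
      _ = q * (zz K * zz K) * r := by group
      _ = q * r := by rw [hzz, mul_one]
  rw [mul_inv_eq_iff_eq_mul] at h2
  exact h2

/-- **core of L1** -/
theorem core (f : Frm Om K T Q x y n) (h : One Om) (h1 : KOne Om) (hbT : b ∈ T)
    (hb : ∀ a ∈ T, b * a = a * b) (hb2 : PThree Om b)
    (hbK : Perp b K) {t u : G} (ht : t ∈ T) (hu : u ∈ T) (htz : t ≠ zz K) (huz : u ≠ zz K)
    (htg : Good Om b t) (huZ : InZ Om u) : Good Om b u := by
  have hzz := h.hyp.zz_mul f.hK
  have cz : ∀ a ∈ T, a * zz K = zz K * a := fun a ha => f.comm_z h ha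
  have hgz : Good Om b (zz K) := ⟨K, f.hK, rfl, hbK⟩
  -- types
  have htype : ∀ a ∈ T, a ≠ zz K → InZ Om a →
      (∃ q ∈ Q, q * q = zz K ∧ ∀ c ∈ Q, (q⁻¹ * a) * c = c * (q⁻¹ * a)) ∨
      (∀ q ∈ Q, q * a = a * q → q = 1 ∨ q = zz K) := by
    rintro a ha haz ⟨L, hL, rfl⟩
    exact h.type f.hK hL (fun hh => haz (by rw [hh])) (cz _ ha).symm f.hQ (f.hTQ ha)
  have hwQ := f.wQ
  obtain ⟨w, hw⟩ : ∃ w, w = x ^ 2 ^ n := ⟨_, rfl⟩
  rw [← hw] at hwQ
  have hw4 : orderOf w = 4 := by rw [hw]; exact f.gq.orderOf_w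
  have hww := f.four_sq h hwQ hw4
  have houtw : ∀ a ∈ T, InZ Om a → (∀ q ∈ Q, q * a = a * q → q = 1 ∨ q = zz K) →
      a * w * a⁻¹ = w⁻¹ := by
    intro a ha haZ haO
    rw [hw, ← conj_pow, (f.out h ha haZ haO).1, inv_pow]
  have hnew : ∀ a ∈ T, (∀ q ∈ Q, q * a = a * q → q = 1 ∨ q = zz K) → ∀ r, f.RR r → a ≠ w * r := by
    rintro a ha haO r hr rfl
    have h2 : w * (w * r) = (w * r) * w := by
      rw [mul_assoc, hr.cent w hwQ]
    rcases haO w hwQ h2 with h3 | h3
    · rw [h3, orderOf_one] at hw4; omega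
    · rw [h3, f.gq.orderOf_z] at hw4; omega
  rcases htype t ht htz htg.inZ with ⟨q, hq, hq2, hqt⟩ | htO
  · have hr := f.exists_RR h h1 ht htg.inZ hq hq2 hqt
    have hq4 := f.sq_four h hq2
    obtain ⟨r, hrdef⟩ : ∃ r, r = q⁻¹ * t := ⟨_, rfl⟩
    rw [← hrdef] at hr
    have htq : t = q * r := by rw [hrdef]; group
    rw [htq] at htg
    rcases htype u hu huz huZ with ⟨q', hq', hq2', hqt'⟩ | huO
    · have hs := f.exists_RR h h1 hu huZ hq' hq2' hqt'
      have h2 := f.inin h h1 hbT hb hb2 hbK hr hs hq hq4 htg hq' (f.sq_four h hq2')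
      have h3 : q' * (q'⁻¹ * u) = u := by group
      rwa [h3] at h2
    · -- (in,out)
      obtain ⟨r', hr', hr'u⟩ := f.exists_inverted h h1 hu huZ huO hr
      have g1 : Good Om b (w * r') := f.inin h h1 hbT hb hb2 hbK hr hr' hq hq4 htg hwQ hw4
      have huw := houtw u hu huZ huO
      have hc := f.comm_mul_of_inv h hu hwQ hw4 hr' huw hr'u
      exact Good.three h hb2 hgz g1 huZ (f.ne_z h hwQ hw4 hr'.cent) huz.symm
        (hnew u hu huO r' hr').symm (cz _ (T.mul_mem (f.hQT hwQ) hr'.mem)).symm (cz u hu).symm hc.symm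
        (hb u hu)
  · rcases htype u hu huz huZ with ⟨q', hq', hq2', hqt'⟩ | huO
    · -- (out,in)
      have hs := f.exists_RR h h1 hu huZ hq' hq2' hqt'
      obtain ⟨r', hr', hr't⟩ := f.exists_inverted h h1 ht htg.inZ htO hs
      have htw := houtw t ht htg.inZ htO
      have hc := f.comm_mul_of_inv h ht hwQ hw4 hr' htw hr't
      have hmem : w * r' ∈ T := T.mul_mem (f.hQT hwQ) hr'.mem
      have g1 : Good Om b (w * r') :=
        Good.three h hb2 hgz htg (hr'.inZ w hwQ hw4) htz.symm (f.ne_z h hwQ hw4 hr'.cent)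
          (hnew t ht htO r' hr') (cz t ht).symm (cz _ hmem).symm hc (hb _ hmem)
      have h2 := f.inin h h1 hbT hb hb2 hbK hr' hs hwQ hw4 g1 hq' (f.sq_four h hq2')
      have h3 : q' * (q'⁻¹ * u) = u := by group
      rwa [h3] at h2
    · -- (out,out)
      obtain ⟨htx, j, hj, hty⟩ := f.out h ht htg.inZ htO
      obtain ⟨hux, j1, hj1, huy⟩ := f.out h hu huZ huO
      -- make `u` act like `t`
      obtain ⟨m, hm⟩ : ∃ m, j1 - 2 * m = j := by
        obtain ⟨a, ha⟩ := hj
        obtain ⟨c, hc⟩ := hj1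
        exact ⟨c - a, by rw [ha, hc]; ring⟩
      obtain ⟨q, hq, hqu⟩ := f.gq.out_conj hux hj1 huy m
      have hqb : q * b = b * q := (hb q (f.hQT hq)).symm
      obtain ⟨u', hu'⟩ : ∃ u', u' = q * u * q⁻¹ := ⟨_, rfl⟩
      have hu'T : u' ∈ T := by rw [hu']; exact T.mul_mem (T.mul_mem (f.hQT hq) hu) (T.inv_mem (f.hQT hq))
      have hu'Z : InZ Om u' := by rw [hu']; exact huZ.conj h q
      have hfin : Good Om b u' → Good Om b u := by
        intro hg
        rw [hu'] at hg
        exact Good.of_conj h hqb hg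
      apply hfin
      have hu'm : u' = x ^ m * u := by rw [hu', hqu]
      have hu'x : u' * x * u'⁻¹ = x⁻¹ := by
        rw [hu'm]
        calc x ^ m * u * x * (x ^ m * u)⁻¹ = x ^ m * (u * x * u⁻¹) * (x ^ m)⁻¹ := by group
          _ = x ^ m * x⁻¹ * (x ^ m)⁻¹ := by rw [hux]
          _ = x⁻¹ := by group
      have hu'y : u' * y * u'⁻¹ = y * x ^ j := by
        rw [hu'm]
        calc x ^ m * u * y * (x ^ m * u)⁻¹ = x ^ m * (u * y * u⁻¹) * (x ^ m)⁻¹ := by group
          _ = (x ^ m * y) * x ^ j1 * (x ^ m)⁻¹ := by rw [huy]; group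
          _ = y * (x ^ (-m) * x ^ j1 * (x ^ m)⁻¹) := by rw [f.gq.zpow_v]; group
          _ = y * x ^ j := by
              rw [← zpow_neg, ← zpow_add, ← zpow_add, ← hm]
              congr 2
              ring
      -- `c = t u'` centralises `Q`
      obtain ⟨c, hc⟩ : ∃ c, c = t * u' := ⟨_, rfl⟩
      have hcT : c ∈ T := by rw [hc]; exact T.mul_mem ht hu'T
      have htt := htg.inZ.mul_self h
      have huu := hu'Z.mul_self h
      have hcc : ∀ a ∈ Q, c * a = a * c := by
        have hcx : c * x = x * c := by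
          have h2 : c * x * c⁻¹ = x := by
            rw [hc]
            calc t * u' * x * (t * u')⁻¹ = t * (u' * x * u'⁻¹) * t⁻¹ := by group
              _ = (t * x * t⁻¹)⁻¹ := by rw [hu'x]; group
              _ = x := by rw [htx, inv_inv]
          rw [mul_inv_eq_iff_eq_mul] at h2
          exact h2
        have hcy : c * y = y * c := by
          have h2 : c * y * c⁻¹ = y := by
            have htx' : t * x * t⁻¹ = x ^ (-1 : ℤ) := by rw [htx, zpow_neg_one]
            rw [hc]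
            calc t * u' * y * (t * u')⁻¹ = t * (u' * y * u'⁻¹) * t⁻¹ := by group
              _ = (t * y * t⁻¹) * (t * x ^ j * t⁻¹) := by rw [hu'y]; group
              _ = y * x ^ j * x ^ (-1 * j) := by rw [hty, conj_zpow_pow htx']
              _ = y := by rw [mul_assoc, ← zpow_add]; simp
          rw [mul_inv_eq_iff_eq_mul] at h2
          exact h2
        intro a ha
        have h2 : Q ≤ centralizer {c} := f.gq.le_of_mem (mem_centralizer_singleton_iff.2 hcx.symm)
          f.gq.v_mem f.gq.v_not_mem (mem_centralizer_singleton_iff.2 hcy.symm)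
        exact (mem_centralizer_singleton_iff.1 (h2 ha)).symm
      by_cases htu : t = u'
      · rw [← htu]; exact htg
      obtain ⟨l, hl, hlz⟩ := htg.inZ.exists_dih h f.hT hu'Z ht hu'T htu
      rw [← hc] at hl hlz
      have hcz : c ^ 2 ^ l = zz K := by
        apply f.eq_z h hlz
        intro a ha
        exact ((show Commute c a from hcc a ha).pow_left _).eq
      have htc : t * c * t⁻¹ = c⁻¹ := by
        rw [hc, mul_inv_rev, htg.inZ.inv h, hu'Z.inv h]
        calc t * (t * u') * t = (t * t) * u' * t := by group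
          _ = u' * t := by rw [htt, one_mul]
      have htck : ∀ k : ℕ, t * c ^ k * t⁻¹ = (c ^ k)⁻¹ := by
        intro k
        rw [← conj_pow, htc, inv_pow]
      rcases Nat.eq_zero_or_pos l with rfl | hl0
      · -- `u' = t z`
        rw [pow_zero, pow_one] at hcz
        have h2 : u' = t * zz K := by
          rw [← hcz, hc, ← mul_assoc, htt, one_mul]
        rw [h2]
        exact htg.mul h hgz htz (cz t ht)
      · obtain ⟨i, rfl⟩ := Nat.exists_eq_succ_of_ne_zero hl0.ne'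
        obtain ⟨v, hv⟩ : ∃ v, v = c ^ 2 ^ i := ⟨_, rfl⟩
        have hvT : v ∈ T := by rw [hv]; exact T.pow_mem hcT _
        have hvv : v * v = zz K := by
          rw [hv, ← pow_add, ← two_mul, ← pow_succ', ← Nat.succ_eq_add_one, hcz]
        have hvQ : ∀ a ∈ Q, v * a = a * v := by
          intro a ha
          rw [hv]
          exact ((show Commute c a from hcc a ha).pow_left _).eq
        have htv : t * v * t⁻¹ = v⁻¹ := by rw [hv]; exact htck _
        -- `t v ∈ Z`
        have htvZ : InZ Om (t * v) := by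
          rcases Nat.eq_zero_or_pos i with rfl | hi0
          · rw [pow_zero, pow_one] at hv
            have h2 : t * v = u' := by rw [hv, hc, ← mul_assoc, htt, one_mul]
            rw [h2]; exact hu'Z
          · obtain ⟨k, rfl⟩ := Nat.exists_eq_succ_of_ne_zero hi0.ne'
            have h2 : t * v = (c ^ 2 ^ k)⁻¹ * t * (c ^ 2 ^ k)⁻¹⁻¹ := by
              have h3 : t * c ^ 2 ^ k = (c ^ 2 ^ k)⁻¹ * t := by rw [← htck]; group
              have h4 : v = c ^ 2 ^ k * c ^ 2 ^ k := by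
                rw [hv, ← pow_add, ← two_mul, ← pow_succ']
              rw [h4, inv_inv, ← mul_assoc, h3]
            rw [h2]
            exact htg.inZ.conj h _
        -- `t v` acts on `Q` like `t`, so `t v w ∈ Z`
        have hvinv : v⁻¹ = zz K * v := by
          rw [inv_eq_iff_mul_eq_one]
          calc v * (zz K * v) = (v * zz K) * v := by group
            _ = zz K * (v * v) := by rw [cz v hvT]; group
            _ = 1 := by rw [hvv, hzz]
        have htvx : (t * v) * x * (t * v)⁻¹ = x⁻¹ := by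
          calc (t * v) * x * (t * v)⁻¹ = t * (v * x) * v⁻¹ * t⁻¹ := by group
            _ = t * x * t⁻¹ := by rw [hvQ x f.gq.c_mem]; group
            _ = x⁻¹ := htx
        have htvy : (t * v) * y * (t * v)⁻¹ = y * x ^ j := by
          calc (t * v) * y * (t * v)⁻¹ = t * (v * y) * v⁻¹ * t⁻¹ := by group
            _ = t * y * t⁻¹ := by rw [hvQ y f.gq.v_mem]; group
            _ = y * x ^ j := hty
        obtain ⟨q3, hq3, hq3'⟩ := f.gq.out_conj htvx hj htvy (2 ^ n : ℕ)
        have hwtv : InZ Om (w * (t * v)) := by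
          have h2 := htvZ.conj h q3
          rw [hq3', zpow_natCast, ← hw] at h2
          exact h2
        have htw := houtw t ht htg.inZ htO
        -- `w t v = t (w⁻¹ v)`
        have h3 : t * w⁻¹ = w * t := by
          have : t * w⁻¹ * t⁻¹ = w := by
            have h5 : t * w⁻¹ * t⁻¹ = (t * w * t⁻¹)⁻¹ := by group
            rw [h5, htw, inv_inv]
          rw [mul_inv_eq_iff_eq_mul] at this
          exact this
        have hwinv : w⁻¹ = w * zz K := by
          rw [inv_eq_iff_mul_eq_one, ← mul_assoc, hww, hzz]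
        have hwinvQ : w⁻¹ ∈ Q := Q.inv_mem hwQ
        have hwinv4 : orderOf w⁻¹ = 4 := by rw [orderOf_inv]; exact hw4
        have hzz1 : t * (w * (t * v)) = w⁻¹ * v := by
          calc t * (w * (t * v)) = t * (w * t) * v := by group
            _ = t * (t * w⁻¹) * v := by rw [h3]
            _ = (t * t) * w⁻¹ * v := by group
            _ = w⁻¹ * v := by rw [htt, one_mul]
        have hcomm1 : t * (w * (t * v)) = (w * (t * v)) * t := by
          rw [hzz1]
          calc w⁻¹ * v = w * (zz K * v) := by rw [hwinv]; group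
            _ = w * v⁻¹ := by rw [hvinv]
            _ = w * (t * v * t⁻¹) := by rw [htv]
            _ = w * (t * v) * t⁻¹ := by group
            _ = w * (t * v) * t := by rw [htg.inZ.inv h]
        have hvZ : InZ Om (w⁻¹ * v) := by
          rw [← hzz1]
          refine htg.inZ.mul h hwtv ?_ hcomm1
          intro h4
          have h5 : t * (w * (t * v)) = 1 := by rw [← h4, htt]
          rw [hzz1] at h5
          apply f.not_cent_four h hwinvQ hwinv4 hvQ
          intro a ha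
          rw [h5]; group
        have hvRR : f.RR v := RR.of_one h h1 hvT hvv hvQ hwinvQ hwinv4 hvZ
        have hmem : w * v ∈ T := T.mul_mem (f.hQT hwQ) hvT
        have hc1 := f.comm_mul_of_inv h ht hwQ hw4 hvRR htw htv
        have g1 : Good Om b (w * v) :=
          Good.three h hb2 hgz htg (hvRR.inZ w hwQ hw4) htz.symm (f.ne_z h hwQ hw4 hvQ)
            (hnew t ht htO v hvRR) (cz t ht).symm (cz _ hmem).symm hc1 (hb _ hmem)
        -- `u'` is outer too
        have hu'w : u' * w * u'⁻¹ = w⁻¹ := by rw [hw, ← conj_pow, hu'x, inv_pow]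
        have hu'v : u' * v * u'⁻¹ = v⁻¹ := by
          have h4 : u' = t * c := by rw [hc, ← mul_assoc, htt, one_mul]
          have h5 : c * v = v * c := by rw [hv]; exact ((Commute.refl c).pow_right _).eq
          rw [h4]
          calc t * c * v * (t * c)⁻¹ = t * (c * v) * c⁻¹ * t⁻¹ := by group
            _ = t * v * t⁻¹ := by rw [h5]; group
            _ = v⁻¹ := htv
        have hc2 := f.comm_mul_of_inv h hu'T hwQ hw4 hvRR hu'w hu'v
        have hu'z : u' ≠ zz K := by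
          intro h4
          apply huz
          have h5 : u = q⁻¹ * u' * q := by rw [hu']; group
          rw [h5, h4]
          calc q⁻¹ * zz K * q = q⁻¹ * (zz K * q) := by group
            _ = q⁻¹ * (q * zz K) := by rw [cz q (f.hQT hq)]
            _ = zz K := by group
        have hwu' : w * v ≠ u' := by
          intro h4
          rw [← h4] at hu'w
          have h5 : w * v * w * (w * v)⁻¹ = w := by
            calc w * v * w * (w * v)⁻¹ = w * (v * w) * v⁻¹ * w⁻¹ := by group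
              _ = w := by rw [hvQ w hwQ]; group
          rw [h5] at hu'w
          have h6 : w * w = 1 := by
            nth_rewrite 2 [hu'w]
            exact mul_inv_cancel w
          rw [hww] at h6
          exact h.hyp.zz_ne f.hK h6
        exact Good.three h hb2 hgz g1 hu'Z (f.ne_z h hwQ hw4 hvQ) hu'z.symm hwu'
          (cz _ hmem).symm (cz _ hu'T).symm hc2.symm (hb _ hu'T)

end Frm

/-! ### `L1` -/

namespace One

variable [Finite G] {Om : Set (Subgroup G)}

/-- **L1** -/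
theorem L1 (h : One Om) (h1 : KOne Om) {b : G}
    (hb2 : PThree Om b) {K L M : Subgroup G} (hK : K ∈ Om)
    (hL : L ∈ Om) (hM : M ∈ Om) (hKL : K ≠ L) (hKM : K ≠ M) (hcKL : zz K * zz L = zz L * zz K)
    (hcKM : zz K * zz M = zz M * zz K) (hbK : Perp b K) (hbL : Perp b L)
    (hbM : b ∈ normalizer (M : Set G)) : Perp b M := by
  set X : Subgroup G := centralizer {b} ⊓ centralizer {zz K} with hX
  have hzp : ∀ {N : Subgroup G}, N ∈ Om → IsPGroup 2 (zpowers (zz N)) := fun hN =>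
    (Perp.zz_self h.hyp hN).p
  have hbz : b * zz K = zz K * b := h.perp_comm hK hbK
  have hbX : b ∈ X := ⟨mem_centralizer_singleton_iff.2 rfl, mem_centralizer_singleton_iff.2 hbz⟩
  have hLX : zz L ∈ X := ⟨mem_centralizer_singleton_iff.2 (h.perp_comm hL hbL).symm,
    mem_centralizer_singleton_iff.2 hcKL.symm⟩
  have hMX : zz M ∈ X := ⟨mem_centralizer_singleton_iff.2 (h.hyp.comm_zz hM hbM).symm,
    mem_centralizer_singleton_iff.2 hcKM.symm⟩
  obtain ⟨T, hT, hLT⟩ := exists_syl_ge (hzp hL) (zpowers_le.2 hLX)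
  obtain ⟨T2, hT2, hMT2⟩ := exists_syl_ge (hzp hM) (zpowers_le.2 hMX)
  obtain ⟨c, hc, hcT⟩ := hT2.exists_conj hT
  have hTK : T ≤ normalizer (K : Set G) := by
    rw [← h.centralizer_zz hK]
    exact hT.1.trans inf_le_right
  have hbc : ∀ a ∈ T, b * a = a * b := fun a ha => (mem_centralizer_singleton_iff.1 (hT.1 ha).1).symm
  have hbT : b ∈ T := by
    have h2 : zpowers b ≤ T := by
      refine syl_le_of_normalizes hT hbK.p (zpowers_le.2 hbX) ?_
      intro a ha
      apply mem_normalizer_of_cent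
      rintro _ ⟨k, rfl⟩
      exact ((show Commute a b from (hbc a ha).symm).zpow_right k).eq
    exact h2 (mem_zpowers b)
  -- `K ∩ T` is Sylow in `K`
  obtain ⟨-, -, Q0, hQ0, hbQ0⟩ := id hbK
  have hQ0X : Q0 ≤ X := by
    intro a ha
    refine ⟨mem_centralizer_singleton_iff.2 (hbQ0 a ha).symm, ?_⟩
    exact mem_centralizer_singleton_iff.2 (h.hyp.comm_zz hK (le_normalizer (hQ0.1 ha)))
  obtain ⟨T0, hT0, hQ0T0⟩ := exists_syl_ge hQ0.2.1 hQ0X
  obtain ⟨c0, hc0, hc0T⟩ := hT0.exists_conj hT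
  have hc0K : cj c0 K = K := by
    rw [← mem_normalizer_iff_cj, ← h.centralizer_zz hK]
    exact hc0.2
  have hKT : K ∈ OmS Om T := by
    have h2 := hQ0.cj c0
    rw [hc0K] at h2
    refine mem_OmS_of_le hK h2 ?_
    rw [← hc0T]
    exact cj_mono c0 hQ0T0
  have hQ : Syl (K ⊓ T) K := syl_inf hT.2.1 hKT
  have hTQ : T ≤ normalizer ((K ⊓ T : Subgroup G) : Set G) := by
    intro a ha
    rw [mem_normalizer_iff_cj, cj_inf, mem_normalizer_iff_cj.1 (hTK ha),
      mem_normalizer_iff_cj.1 (le_normalizer ha)]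
  obtain ⟨x, y, n, hxy, hinv⟩ := h.hyp.exists_gq_cyclic hK hQ hT.2.1 hTQ
  have f : Frm Om K T (K ⊓ T) x y n := ⟨hK, hT.2.1, hTK, hQ, inf_le_right, hTQ, hxy, hinv⟩
  have hcb : c * b = b * c := mem_centralizer_singleton_iff.1 hc.1
  have hcz : c * zz K = zz K * c := mem_centralizer_singleton_iff.1 hc.2
  have hMT : c * zz M * c⁻¹ ∈ T := by
    rw [← hcT]
    exact conj_mem_cj (hMT2 (mem_zpowers _))
  have h2 : Good Om b (c * zz M * c⁻¹) := by
    refine f.core h h1 hbT hbc hb2 hbK (hLT (mem_zpowers _)) hMT ?_ ?_ ⟨L, hL, rfl, hbL⟩ ?_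
    · intro h3
      exact hKL (h.eq_of_zz_eq hK hL h3.symm)
    · intro h3
      apply hKM
      apply h.eq_of_zz_eq hK hM
      have h4 : zz M = c⁻¹ * (c * zz M * c⁻¹) * c := by group
      rw [h4, h3]
      calc zz K = c⁻¹ * (c * zz K) := by group
        _ = c⁻¹ * zz K * c := by rw [hcz]; group
    · exact InZ.conj h (u := zz M) ⟨M, hM, rfl⟩ c
  exact Good.perp h hM (Good.of_conj h hcb h2)

end One

end Cfsg.Agent.Cit
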