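import Cfsg.Agent.Cit.OnePerp

/-!
# Classical involutions, `|Om(S)| = 1`: the two types of neighbours, on an arbitrary invariant Sylow subgroup
-/

set_option autoImplicit false
set_option linter.style.haveILetI false
set_option linter.unusedSectionVars false
set_option linter.unusedVariables false

namespace Cfsg.Agent.Cit

open Subgroup Cfsg OneBasic

variable {G : Type*} [Group G]

namespace OneBasic

/-- `a` odd is invertible modulo powers of two -/
theorem exists_odd_inv (n : ℕ) {a : ℤ} (ha : Odd a) (b : ℤ) : ∃ m : ℤ, (2 : ℤ) ^ n ∣ a * m - b := by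
  obtain ⟨c, hc⟩ := ha
  have h1 : IsCoprime ((2 : ℤ) ^ n) a := by
    apply IsCoprime.pow_left
    exact ⟨-c, 1, by rw [hc]; ring⟩
  obtain ⟨u, v, huv⟩ := h1
  refine ⟨v * b, -(u * b), ?_⟩
  linear_combination b * huv

theorem odd_of_sq_dvd {n : ℕ} {k : ℤ} (h : (2 : ℤ) ^ (n + 2) ∣ k ^ 2 - 1) : Odd k := by
  have h2 : (2 : ℤ) ∣ k ^ 2 - 1 := (dvd_pow_self 2 (by omega)).trans h
  rcases Int.even_or_odd k with hk | hk
  · exfalso
    have h3 : (2 : ℤ) ∣ k ^ 2 := (even_iff_two_dvd.1 hk).trans (dvd_pow_self k (by norm_num))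
    omega
  · exact hk

/-- transport between two invariant Sylow subgroups -/
theorem exists_trans [Finite G] {K Q Q1 : Subgroup G} (hQ : Syl Q K) (hQ1 : Syl Q1 K) {f : G}
    (hfK : f ∈ normalizer (K : Set G)) (hf2 : IsPGroup 2 (zpowers f))
    (hfQ : f ∈ normalizer (Q : Set G)) (hf1 : f ∈ normalizer (Q1 : Set G)) :
    ∃ b ∈ K, cj b Q = Q1 ∧ ∃ q ∈ Q1, b * f * b⁻¹ = q * f := by
  haveI : Fact (Nat.Prime 2) := ⟨Nat.prime_two⟩
  set M : Subgroup G := zpowers f ⊔ K with hM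
  have hKM : K ≤ M := le_sup_right
  have hfM : f ∈ M := mem_sup_left (mem_zpowers f)
  have key : ∀ {R : Subgroup G}, Syl R K → f ∈ normalizer (R : Set G) →
      Syl (zpowers f ⊔ R) M ∧ K ⊓ (zpowers f ⊔ R) = R := by
    intro R hR hfR
    have h1 : IsPGroup 2 (zpowers f ⊔ R : Subgroup G) :=
      isPGroup_sup_of_normalizes hf2 hR.2.1 (zpowers_le.2 hfR)
    have h3 : K ⊓ (zpowers f ⊔ R) = R := by
      symm
      exact syl_eq_of_le hR (h1.to_le inf_le_right) inf_le_left (le_inf hR.1 le_sup_right)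
    refine ⟨?_, h3⟩
    obtain ⟨T, hT, hXT⟩ := exists_syl_ge h1 (sup_le_sup_left hR.1 _ : zpowers f ⊔ R ≤ M)
    have h4 : T = zpowers f ⊔ R := by
      refine le_antisymm ?_ hXT
      intro x hx
      obtain ⟨a, ha, k, hk, rfl⟩ := exists_mul_of_mem_sup (zpowers_le.2 hfK) (hT.1 hx)
      refine mul_mem (mem_sup_left ha) ?_
      have h5 : k ∈ K ⊓ T := by
        refine ⟨hk, ?_⟩
        have : k = a⁻¹ * (a * k) := by group
        rw [this]
        exact T.mul_mem (T.inv_mem (hXT (mem_sup_left ha))) hx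
      have h6 : K ⊓ T = R :=
        (syl_eq_of_le hR (hT.2.1.to_le inf_le_right) inf_le_left (le_inf hR.1 (le_sup_right.trans hXT))).symm
      rw [h6] at h5
      exact mem_sup_right h5
    rw [← h4]
    exact hT
  obtain ⟨hA, hA2⟩ := key hQ hfQ
  obtain ⟨hB, hB2⟩ := key hQ1 hf1
  obtain ⟨m, hm, hmAB⟩ := hA.exists_conj hB
  obtain ⟨a, ha, l, hl, hal⟩ := exists_mul_of_mem_sup (zpowers_le.2 hfK) hm
  obtain ⟨b, hb, k, hk, hbk⟩ : ∃ b ∈ K, ∃ k ∈ zpowers f, m = b * k := by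
    refine ⟨a * l * a⁻¹, ?_, a, ha, by rw [hal]; group⟩
    have h1 := (zpowers_le.2 hfK : zpowers f ≤ normalizer (K : Set G)) ha
    exact (mem_normalizer_iff.1 h1 l).1 hl
  have hbAB : cj b (zpowers f ⊔ Q) = zpowers f ⊔ Q1 := by
    rw [← hmAB, hbk, cj_mul]
    congr 1
    symm
    rw [← mem_normalizer_iff_cj]
    exact le_normalizer (mem_sup_left hk)
  have hbQ : cj b Q = Q1 := by
    have h1 : cj b (K ⊓ (zpowers f ⊔ Q)) = K ⊓ (zpowers f ⊔ Q1) := by
      rw [cj_inf, hbAB, mem_normalizer_iff_cj.1 (le_normalizer hb)]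
    rwa [hA2, hB2] at h1
  refine ⟨b, hb, hbQ, b * f * b⁻¹ * f⁻¹, ?_, by group⟩
  rw [← hB2]
  constructor
  · have h1 := (mem_normalizer_iff.1 hfK b⁻¹).1 (K.inv_mem hb)
    have h2 := K.mul_mem hb h1
    simpa [mul_assoc] using h2
  · have h1 : b * f * b⁻¹ ∈ zpowers f ⊔ Q1 := by
      rw [← hbAB]
      exact conj_mem_cj (mem_sup_left (mem_zpowers f))
    exact (zpowers f ⊔ Q1).mul_mem h1 ((zpowers f ⊔ Q1).inv_mem (mem_sup_left (mem_zpowers f)))

end OneBasic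

namespace GQ

variable {Q : Subgroup G} {c v z : G} {n : ℕ}

theorem zpow_eq_iff (h : GQ Q c v z n) (i j : ℤ) : c ^ i = c ^ j ↔ (2 : ℤ) ^ (n + 2) ∣ i - j := by
  rw [← h.zpow_eq_one_iff, zpow_sub, mul_inv_eq_one]

/-- the centre -/
theorem eq_of_cent (h : GQ Q c v z n) {q : G} (hq : q ∈ Q) (hc : ∀ x ∈ Q, q * x = x * q) :
    q = 1 ∨ q = z := by
  rcases h.covZ hq with ⟨i, rfl⟩ | ⟨i, rfl⟩
  · change c ^ i = 1 ∨ c ^ i = z
    have h1 : c ^ i * v = v * c ^ i := hc v h.v_mem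
    rw [h.zpow_v] at h1
    have h2 := (h.zpow_eq_iff _ _).1 (mul_left_cancel h1)
    apply h.zpow_sq
    rw [h.zpow_eq_one_iff]
    have : 2 * i = -(-i - i) := by ring
    rw [this]
    exact h2.neg_right
  · exfalso
    apply h.not_comm
    have h1 := hc c h.c_mem
    have h2 : v * c * c ^ i = c * v * c ^ i := by
      calc v * c * c ^ i = v * c ^ i * c := by
            rw [mul_assoc, mul_assoc, ((Commute.refl c).zpow_right i).eq]
        _ = c * (v * c ^ i) := h1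
        _ = _ := by group
    exact mul_right_cancel h2

/-- the action of an outer involution `u` with `C_Q(u) = {1, z}` -/
theorem out_act (h : GQ Q c v z n) {u : G} (hu : u ∈ normalizer (Q : Set G))
    (hx : u * c * u⁻¹ ∈ zpowers c) (hu2 : u * u = 1) (hC : ∀ q ∈ Q, q * u = u * q → q = 1 ∨ q = z) :
    u * c * u⁻¹ = c⁻¹ ∧ ∃ j : ℤ, Odd j ∧ u * v * u⁻¹ = v * c ^ j := by
  have hui : u⁻¹ = u := inv_eq_of_mul_eq_one_right hu2
  obtain ⟨k, hk⟩ := hx
  have hk' : u * c * u⁻¹ = c ^ k := hk.symm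
  have hkk : (2 : ℤ) ^ (n + 2) ∣ k ^ 2 - 1 := by
    rw [← h.zpow_eq_iff]
    have h1 : u * (u * c ^ (1 : ℤ) * u⁻¹) * u⁻¹ = c := by
      calc u * (u * c ^ (1 : ℤ) * u⁻¹) * u⁻¹ = (u * u) * c * (u * u)⁻¹ := by group
        _ = c := by rw [hu2]; group
    rw [conj_zpow_pow hk', conj_zpow_pow hk'] at h1
    rw [zpow_one]
    conv_rhs => rw [← h1]
    congr 1
    ring
  have hodd := odd_of_sq_dvd hkk
  -- `k = 3 mod 4`
  obtain ⟨a, ha⟩ : ∃ a : ℤ, k = 4 * a + 3 := by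
    obtain ⟨b, hb⟩ := hodd
    rcases Int.even_or_odd b with ⟨a, ha⟩ | ⟨a, ha⟩
    · exfalso
      have h1 : u * (c ^ (2 ^ n : ℕ)) * u⁻¹ = c ^ (2 ^ n : ℕ) := by
        have h2 := conj_zpow_pow hk' (2 ^ n : ℕ)
        rw [zpow_natCast] at h2
        rw [h2, ← zpow_natCast c (2 ^ n), h.zpow_eq_iff]
        refine ⟨a, ?_⟩
        rw [hb, ha]
        push_cast
        ring
      have h2 := h.orderOf_w
      rw [mul_inv_eq_iff_eq_mul] at h1
      rcases hC _ (Q.pow_mem h.c_mem _) h1.symm with h3 | h3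
      · rw [h3, orderOf_one] at h2; omega
      · rw [h3, h.orderOf_z] at h2; omega
    · exact ⟨a, by rw [hb, ha]; ring⟩
  obtain ⟨j, hj⟩ := h.exists_act hu (by
    have : u⁻¹ * c * u = u * c * u⁻¹ := by rw [hui]
    rw [this]; exact ⟨k, hk⟩)
  have hjodd : Odd j := by
    rcases Int.even_or_odd j with ⟨j', hj'⟩ | hj'
    · exfalso
      obtain ⟨m, hm⟩ := exists_odd_inv (n + 1) (a := -(2 * a + 1))
        ⟨-(a + 1), by ring⟩ j'
      have h1 : u * (v * c ^ m) * u⁻¹ = v * c ^ m := by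
        have h2 : u * (v * c ^ m) * u⁻¹ = (u * v * u⁻¹) * (u * c ^ m * u⁻¹) := by group
        rw [h2, hj, conj_zpow_pow hk', mul_assoc, ← zpow_add]
        congr 1
        rw [h.zpow_eq_iff]
        have h3 : j + k * m - m = -(2 * (-(2 * a + 1) * m - j')) := by
          rw [hj', ha]; ring
        rw [h3, pow_succ']
        exact (mul_dvd_mul_left 2 hm).neg_right
      rw [mul_inv_eq_iff_eq_mul] at h1
      have h2 := h.vc_not_mem m
      rcases hC _ (Q.mul_mem h.v_mem (Q.zpow_mem h.c_mem m)) h1.symm with h3 | h3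
      · rw [h3] at h2; exact h2 (one_mem _)
      · rw [h3, ← h.z_eq] at h2
        exact h2 (pow_mem (mem_zpowers c) _)
    · exact hj'
  refine ⟨?_, j, hjodd, hj⟩
  have h1 : (2 : ℤ) ^ (n + 2) ∣ j * (1 + k) - 0 := by
    rw [← h.zpow_eq_iff, zpow_zero]
    have h2 : u * (u * v * u⁻¹) * u⁻¹ = v := by
      calc u * (u * v * u⁻¹) * u⁻¹ = (u * u) * v * (u * u)⁻¹ := by group
        _ = v := by rw [hu2]; group
    have h3 : u * (v * c ^ j) * u⁻¹ = (u * v * u⁻¹) * (u * c ^ j * u⁻¹) := by group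
    rw [hj, h3, hj, conj_zpow_pow hk', mul_assoc, ← zpow_add] at h2
    have h4 : c ^ (j + k * j) = 1 := by simpa using h2
    rw [← h4]
    congr 1
    ring
  rw [sub_zero] at h1
  have h2 : (2 : ℤ) ^ (n + 2) ∣ 1 + k := by
    obtain ⟨j', hj'⟩ := hjodd
    have h3 : IsCoprime ((2 : ℤ) ^ (n + 2)) j := by
      apply IsCoprime.pow_left
      exact ⟨-j', 1, by rw [hj']; ring⟩
    exact h3.dvd_of_dvd_mul_left h1
  rw [hk', ← zpow_neg_one, h.zpow_eq_iff]
  have : k - -1 = 1 + k := by ring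
  rw [this]
  exact h2

/-- `u ~ c^m u` under `Q` for an outer involution `u` -/
theorem out_conj (h : GQ Q c v z n) {u : G} (hx : u * c * u⁻¹ = c⁻¹) {j : ℤ} (hj : Odd j)
    (hy : u * v * u⁻¹ = v * c ^ j) (m : ℤ) : ∃ q ∈ Q, q * u * q⁻¹ = c ^ m * u := by
  have h1 : ∀ a : ℤ, c ^ a * u * (c ^ a)⁻¹ = c ^ (2 * a) * u := by
    intro a
    have hx' : u * c * u⁻¹ = c ^ (-1 : ℤ) := by rw [hx, zpow_neg_one]
    calc c ^ a * u * (c ^ a)⁻¹ = c ^ a * (u * c ^ (-a) * u⁻¹) * u := by rw [zpow_neg]; group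
      _ = c ^ a * c ^ (-1 * -a) * u := by rw [conj_zpow_pow hx']
      _ = c ^ (2 * a) * u := by rw [← zpow_add]; congr 2; ring
  have h2 : v * u * v⁻¹ = c ^ j * u := by
    calc v * u * v⁻¹ = v * (u * v * u⁻¹)⁻¹ * u := by group
      _ = v * (v * c ^ j)⁻¹ * u := by rw [hy]
      _ = v * c ^ (-j) * v⁻¹ * u := by rw [zpow_neg]; group
      _ = c ^ (- -j) * u := by rw [h.v_zpow]; group
      _ = c ^ j * u := by rw [neg_neg]
  rcases Int.even_or_odd m with ⟨a, ha⟩ | hm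
  · refine ⟨c ^ a, Q.zpow_mem h.c_mem a, ?_⟩
    rw [h1, ha, two_mul]
  · obtain ⟨a, ha⟩ : ∃ a, m = j + 2 * a := by
      obtain ⟨b, hb⟩ := hm
      obtain ⟨d, hd⟩ := hj
      exact ⟨b - d, by rw [hb, hd]; ring⟩
    refine ⟨c ^ a * v, Q.mul_mem (Q.zpow_mem h.c_mem a) h.v_mem, ?_⟩
    calc c ^ a * v * u * (c ^ a * v)⁻¹ = c ^ a * (v * u * v⁻¹) * (c ^ a)⁻¹ := by group
      _ = c ^ a * (c ^ j * u) * (c ^ a)⁻¹ := by rw [h2]
      _ = c ^ j * (c ^ a * u * (c ^ a)⁻¹) := by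
          rw [← mul_assoc (c ^ a), ← zpow_add, add_comm a j, zpow_add]; group
      _ = c ^ j * (c ^ (2 * a) * u) := by rw [h1]
      _ = c ^ m * u := by rw [← mul_assoc, ← zpow_add, ← ha]

end GQ

namespace One

variable [Finite G] {Om : Set (Subgroup G)}

/-- **the two types of a neighbour `u = zz L` of `z`, on any `u`-invariant Sylow subgroup `Q`** -/
theorem type (h : One Om) {K L Q : Subgroup G} (hK : K ∈ Om) (hL : L ∈ Om) (hne : K ≠ L)
    (hc : zz K * zz L = zz L * zz K) (hQ : Syl Q K) (huQ : zz L ∈ normalizer (Q : Set G)) :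
    (∃ q ∈ Q, q * q = zz K ∧ ∀ x ∈ Q, (q⁻¹ * zz L) * x = x * (q⁻¹ * zz L)) ∨
    (∀ q ∈ Q, q * zz L = zz L * q → q = 1 ∨ q = zz K) := by
  have huK : zz L ∈ normalizer (K : Set G) := h.mem_normalizer hK hc.symm
  have hup : IsPGroup 2 (zpowers (zz L)) := (Perp.zz_self h.hyp hL).p
  obtain ⟨T, Q1, Q1', hT, p⟩ := h.exists_pair hK hL hne hc (A := ⊥) IsPGroup.of_bot bot_le bot_le
  have huT : zz L ∈ T := p.zL_mem h
  obtain ⟨x, y, x', y', n, c⟩ := p.exists_co h
  obtain ⟨b, hb, hbQ, q1, hq1, hbu⟩ := exists_trans hQ p.hQ huK hup huQ (p.hTQ huT)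
  have hu2 : zz L * zz L = 1 := h.hyp.zz_mul hL
  rcases c.dich h with hW | hS
  · left
    have hxu := hW.2
    have hyu := c.t_y h hxu
    set w := x ^ 2 ^ n with hw
    have hwQ : w ∈ Q1 := Q1.pow_mem c.gq.c_mem _
    have hww : w * w = zz K := c.gq.w_sq
    have hw1 : ∀ a ∈ Q1, (w⁻¹ * zz L) * a = a * (w⁻¹ * zz L) := by
      have huw : zz L * w = w * zz L := (c.w_comm hxu).symm
      apply c.cent_Q
      · have h1 : w⁻¹ * x = x * w⁻¹ := ((Commute.refl x).pow_left _).inv_left.eq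
        calc w⁻¹ * zz L * x = w⁻¹ * (zz L * x) := by group
          _ = (w⁻¹ * x) * zz L := by rw [hxu]; group
          _ = x * (w⁻¹ * zz L) := by rw [h1]; group
      · have h1 : zz L * y = y * zz K * zz L := by
          rw [← hyu]; group
        have h2 : w⁻¹ * y = y * w := by
          have h3 := c.gq.zpow_v (-(2 ^ n : ℕ))
          rw [neg_neg, zpow_neg, zpow_natCast] at h3
          exact h3
        have h4 : w * zz K = w⁻¹ := by
          rw [← hww, ← mul_assoc]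
          rw [eq_comm, inv_eq_iff_mul_eq_one]
          calc w * (w * w * w) = (w * w) * (w * w) := by group
            _ = 1 := by rw [hww, h.hyp.zz_mul hK]
        calc w⁻¹ * zz L * y = w⁻¹ * (zz L * y) := by group
          _ = (w⁻¹ * y) * zz K * zz L := by rw [h1]; group
          _ = y * (w * zz K) * zz L := by rw [h2]; group
          _ = y * (w⁻¹ * zz L) := by rw [h4]; group
    obtain ⟨q, hq⟩ : ∃ q, q = b⁻¹ * (q1 * w) * b := ⟨_, rfl⟩
    have hqQ : q ∈ Q := by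
      have h1 : q1 * w ∈ cj b Q := by rw [hbQ]; exact Q1.mul_mem hq1 hwQ
      rw [mem_cj] at h1
      rw [hq]; exact h1
    have hqu : q⁻¹ * zz L = b⁻¹ * (w⁻¹ * zz L) * b := by
      calc q⁻¹ * zz L = b⁻¹ * (w⁻¹ * q1⁻¹ * (b * zz L * b⁻¹)) * b := by rw [hq]; group
        _ = b⁻¹ * (w⁻¹ * zz L) * b := by rw [hbu]; group
    have hcent : ∀ a ∈ Q, (q⁻¹ * zz L) * a = a * (q⁻¹ * zz L) := by
      intro a ha
      have h1 : b * a * b⁻¹ ∈ Q1 := by rw [← hbQ]; exact conj_mem_cj ha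
      have h2 := hw1 _ h1
      rw [hqu]
      calc b⁻¹ * (w⁻¹ * zz L) * b * a = b⁻¹ * ((w⁻¹ * zz L) * (b * a * b⁻¹)) * b := by group
        _ = b⁻¹ * ((b * a * b⁻¹) * (w⁻¹ * zz L)) * b := by rw [h2]
        _ = _ := by group
    refine ⟨q, hqQ, ?_, hcent⟩
    -- `q^2 = z`
    obtain ⟨c0, v0, n0, hc0⟩ := h.hyp.exists_gq hK hQ
    have hqr : q * (q⁻¹ * zz L) = (q⁻¹ * zz L) * q := (hcent q hqQ).symm
    have h1 : (q * q) * ((q⁻¹ * zz L) * (q⁻¹ * zz L)) = 1 := by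
      calc (q * q) * ((q⁻¹ * zz L) * (q⁻¹ * zz L)) = q * (q * (q⁻¹ * zz L)) * (q⁻¹ * zz L) := by group
        _ = q * ((q⁻¹ * zz L) * q) * (q⁻¹ * zz L) := by rw [hqr]
        _ = zz L * zz L := by group
        _ = 1 := hu2
    have h2 : ∀ a ∈ Q, (q * q) * a = a * (q * q) := by
      intro a ha
      have h3 : q * q = ((q⁻¹ * zz L) * (q⁻¹ * zz L))⁻¹ := eq_inv_of_mul_eq_one_left h1
      have h4 : Commute (q⁻¹ * zz L) a := hcent a ha
      rw [h3]
      exact ((h4.mul_left h4).inv_left).eq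
    rcases hc0.eq_of_cent (Q.mul_mem hqQ hqQ) h2 with h3 | h3
    · exfalso
      have h4 : q = 1 ∨ q = zz K := by
        by_cases hq1 : q = 1
        · exact Or.inl hq1
        · exact Or.inr (h.hyp.eq_zz hK (hQ.1 hqQ) h3 hq1)
      apply hne
      apply h.eq_of_cent hK hL hQ
      intro a ha
      have h5 := hcent a ha
      rcases h4 with h4 | h4
      · rw [h4, inv_one, one_mul] at h5
        exact h5
      · have h6 : zz K * a = a * zz K := (h.hyp.comm_zz hK (le_normalizer (hQ.1 ha))).symm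
        have h7 : Commute (zz K * (q⁻¹ * zz L)) a := Commute.mul_left h6 h5
        have h8 : zz K * (q⁻¹ * zz L) = zz L := by rw [h4]; group
        rw [h8] at h7
        exact h7.eq
    · exact h3
  · right
    -- `q1 * zz L` is conjugate to `zz L` under `Q1`
    obtain ⟨hux, j, hjodd, huy⟩ := c.gq.out_act (p.hTQ huT) (c.inv _ huT) hu2 hS.1
    have hinv : (q1 * zz L) * (q1 * zz L) = 1 := by
      rw [← hbu]
      calc b * zz L * b⁻¹ * (b * zz L * b⁻¹) = b * (zz L * zz L) * b⁻¹ := by group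
        _ = 1 := by rw [hu2]; group
    have hq1x : q1 ∈ zpowers x := by
      by_contra hq1x
      obtain ⟨m, rfl⟩ := c.gq.exists_eq_of_not_mem hq1 hq1x
      have h1 : (y * x ^ m * zz L) * (y * x ^ m * zz L) = zz K * x ^ (j - 2 * m) := by
        have hui : (zz L)⁻¹ = zz L := h.hyp.zz_inv hL
        have hux' : zz L * x * (zz L)⁻¹ = x ^ (-1 : ℤ) := by rw [hux, zpow_neg_one]
        calc (y * x ^ m * zz L) * (y * x ^ m * zz L)
            = y * x ^ m * (zz L * y * (zz L)⁻¹) * (zz L * x ^ m * (zz L)⁻¹) * (zz L * zz L) := by group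
          _ = y * x ^ m * (y * x ^ j) * x ^ (-1 * m) := by
              rw [huy, conj_zpow_pow hux', hu2, mul_one]
          _ = y * (x ^ m * y) * (x ^ j * x ^ (-1 * m)) := by group
          _ = y * (y * x ^ (-m)) * (x ^ j * x ^ (-1 * m)) := by rw [c.gq.zpow_v]
          _ = (y * y) * (x ^ (-m) * (x ^ j * x ^ (-1 * m))) := by group
          _ = zz K * x ^ (j - 2 * m) := by
              rw [c.gq.v_sq, ← zpow_add, ← zpow_add]
              congr 2
              ring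
      rw [h1, ← c.gq.z_zpow, ← zpow_add, c.gq.zpow_eq_one_iff] at hinv
      have h2 : (2 : ℤ) ∣ 2 ^ (n + 1) + (j - 2 * m) := (dvd_pow_self 2 (by omega)).trans hinv
      have h3 : (2 : ℤ) ∣ 2 ^ (n + 1) := dvd_pow_self 2 (by omega)
      obtain ⟨j', hj'⟩ := hjodd
      omega
    obtain ⟨m, hm⟩ := hq1x
    have hm' : x ^ m = q1 := hm
    obtain ⟨q2, hq2, hq2u⟩ := c.gq.out_conj hux hjodd huy m
    intro q hq hqu
    have h1 : b * q * b⁻¹ ∈ Q1 := by rw [← hbQ]; exact conj_mem_cj hq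
    have h2 : (b * q * b⁻¹) * (q1 * zz L) = (q1 * zz L) * (b * q * b⁻¹) := by
      rw [← hbu]
      calc b * q * b⁻¹ * (b * zz L * b⁻¹) = b * (q * zz L) * b⁻¹ := by group
        _ = b * (zz L * q) * b⁻¹ := by rw [hqu]
        _ = _ := by group
    rw [← hm', ← hq2u] at h2
    have h3 : (q2⁻¹ * (b * q * b⁻¹) * q2) * zz L = zz L * (q2⁻¹ * (b * q * b⁻¹) * q2) := by
      calc (q2⁻¹ * (b * q * b⁻¹) * q2) * zz L
          = q2⁻¹ * ((b * q * b⁻¹) * (q2 * zz L * q2⁻¹)) * q2 := by group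
        _ = q2⁻¹ * ((q2 * zz L * q2⁻¹) * (b * q * b⁻¹)) * q2 := by rw [h2]
        _ = _ := by group
    have hbz : b * zz K = zz K * b := h.hyp.comm_zz hK (le_normalizer hb)
    have hq2z : q2 * zz K = zz K * q2 := h.hyp.comm_zz hK (le_normalizer (p.hQ.1 hq2))
    rcases hS.1 _ (Q1.mul_mem (Q1.mul_mem (Q1.inv_mem hq2) h1) hq2) h3 with h4 | h4
    · left
      have h5 : q = b⁻¹ * (q2 * (q2⁻¹ * (b * q * b⁻¹) * q2) * q2⁻¹) * b := by group
      rw [h5, h4]; group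
    · right
      have h5 : q = b⁻¹ * (q2 * (q2⁻¹ * (b * q * b⁻¹) * q2) * q2⁻¹) * b := by group
      rw [h5, h4, hq2z]
      have h6 : b⁻¹ * (zz K * q2 * q2⁻¹) * b = b⁻¹ * (zz K * b) := by group
      rw [h6, ← hbz]; group

end One

end Cfsg.Agent.Cit
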