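import Cfsg.Agent.Cit.Tau

/-!
# Theorem TAU (helper545, bb #5436), (6b)

`tau`: if the members of `Om` have an equivariant `V_K` (`VChoice Om U`), there is a homomorphism `f : G → ±1` with
`f = 1` on `XX U K` and `f = -1` on `K \ XX U K` for all `K ∈ Om`; so `G` has a subgroup of index two meeting every
`K` in `O(K) X_K`.

Instead of the transfer of helper545 the proof uses the permutation sign on all of `Om` (class by class fixed points).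
-/

set_option autoImplicit false
set_option linter.style.haveILetI false
set_option linter.unusedSectionVars false

namespace Cfsg.Agent.Cit.TauMain

open Subgroup Cfsg Cfsg.Agent.Cit Cfsg.Agent.Cit.Tau

variable {G : Type*} [Group G] [Finite G] {Om : Set (Subgroup G)} {U : Subgroup G → Subgroup G}

theorem sq_commute {X : Type*} [Group X] {g w : X} (h : g * w = w * g ∨ g * w * g⁻¹ = w⁻¹) : w * (g * g) = (g * g) * w := by
  rcases h with h3 | h3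
  · have : Commute w g := h3.symm
    exact (this.mul_right this).eq
  · have h4 : g * (g * w * g⁻¹) * g⁻¹ = w := by
      rw [h3]
      have : g * w⁻¹ * g⁻¹ = (g * w * g⁻¹)⁻¹ := by group
      rw [this, h3, inv_inv]
    have h5 : g * g * w * (g * g)⁻¹ = w := by
      have : g * g * w * (g * g)⁻¹ = g * (g * w * g⁻¹) * g⁻¹ := by group
      rw [this, h4]
    exact (mul_inv_eq_iff_eq_mul.mp h5).symm

/-- the retraction `L → L ⊓ T` with kernel `O(L)` -/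
structure Ret (L T : Subgroup G) (ρ : L →* G) : Prop where
  fix : ∀ (x : G) (hx : x ∈ L), x ∈ T → ρ ⟨x, hx⟩ = x
  ker : ∀ (x : G) (hx : x ∈ L), ρ ⟨x, hx⟩ = 1 ↔ x ∈ OO L
  mem : ∀ x, ρ x ∈ L ⊓ T

section

variable (h : Hyp Om) (hU : VChoice Om U)
include h hU

theorem exists_ret {L T : Subgroup G} (hT : IsPGroup 2 T) (hL : L ∈ OmS Om T) : ∃ ρ : L →* G, Ret L T ρ := by
  haveI hN : ((OO L).subgroupOf L).Normal := (normal_subgroupOf_iff_le_normalizer (OO_le L)).2 (le_normalizer_OO L)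
  set φ : ↥((L ⊓ T).subgroupOf L) →* L ⧸ (OO L).subgroupOf L :=
    (QuotientGroup.mk' ((OO L).subgroupOf L)).comp ((L ⊓ T).subgroupOf L).subtype with hφ
  have hinj : Function.Injective φ := by
    rw [injective_iff_map_eq_one]
    rintro ⟨⟨x, hxL⟩, hx⟩ h1
    have h2 : (⟨x, hxL⟩ : L) ∈ (OO L).subgroupOf L := by
      have h3 : ((⟨x, hxL⟩ : L) : L ⧸ (OO L).subgroupOf L) = 1 := h1
      exact (QuotientGroup.eq_one_iff _).mp h3
    have h3 : x = 1 := eq_one_of_mem_odd hT (odd_OO L) hx.2 h2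
    subst h3
    rfl
  have hsurj : Function.Surjective φ := by
    intro y
    obtain ⟨x, rfl⟩ := QuotientGroup.mk_surjective y
    obtain ⟨o, ho, t, ht, hx⟩ := decomp h hU hT hL x.2
    refine ⟨⟨⟨t, ht.1⟩, ht⟩, ?_⟩
    change ((⟨t, ht.1⟩ : L) : L ⧸ (OO L).subgroupOf L) = (x : L ⧸ (OO L).subgroupOf L)
    rw [QuotientGroup.eq]
    change t⁻¹ * (x : G) ∈ OO L
    rw [hx]
    have := conj_OO (inv_mem (le_normalizer ht.1)) ho
    have h4 : t⁻¹ * o * t⁻¹⁻¹ = t⁻¹ * (o * t) := by group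
    rwa [h4] at this
  set e := MulEquiv.ofBijective φ ⟨hinj, hsurj⟩ with he
  set ρ : L →* G := (L.subtype.comp ((L ⊓ T).subgroupOf L).subtype).comp
    (e.symm.toMonoidHom.comp (QuotientGroup.mk' ((OO L).subgroupOf L))) with hρ
  have hfix : ∀ (x : G) (hx : x ∈ L), x ∈ T → ρ ⟨x, hx⟩ = x := by
    intro x hx hxT
    have h1 : e ⟨⟨x, hx⟩, ⟨hx, hxT⟩⟩ = QuotientGroup.mk' ((OO L).subgroupOf L) ⟨x, hx⟩ := rfl
    have h2 : e.symm (QuotientGroup.mk' ((OO L).subgroupOf L) ⟨x, hx⟩) = ⟨⟨x, hx⟩, ⟨hx, hxT⟩⟩ := by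
      rw [← h1, MulEquiv.symm_apply_apply]
    change (((e.symm (QuotientGroup.mk' ((OO L).subgroupOf L) ⟨x, hx⟩) : ↥((L ⊓ T).subgroupOf L)) : L) : G) = x
    rw [h2]
  refine ⟨ρ, hfix, ?_, ?_⟩
  · intro x hx
    have h1 : ρ ⟨x, hx⟩ = 1 ↔ e.symm (QuotientGroup.mk' ((OO L).subgroupOf L) ⟨x, hx⟩) = 1 := by
      constructor
      · intro h2
        have h3 : (((e.symm (QuotientGroup.mk' ((OO L).subgroupOf L) ⟨x, hx⟩) : ↥((L ⊓ T).subgroupOf L)) : L) : G) = 1 := h2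
        exact Subtype.ext (Subtype.ext h3)
      · intro h2
        change (((e.symm (QuotientGroup.mk' ((OO L).subgroupOf L) ⟨x, hx⟩) : ↥((L ⊓ T).subgroupOf L)) : L) : G) = 1
        rw [h2]; rfl
    rw [h1, map_eq_one_iff e.symm e.symm.injective]
    exact (QuotientGroup.eq_one_iff _)
  · intro x
    exact (e.symm (QuotientGroup.mk' ((OO L).subgroupOf L) x)).2

end

/-- local data at `L` -/
structure Loc (U : Subgroup G → Subgroup G) (L T : Subgroup G) (c v : G) (n : ℕ) (ρ : L →* G) : Prop where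
  gq : GQ (L ⊓ T) c v (zz L) n
  w_mem : c ^ 2 ^ n ∈ U L
  ret : Ret L T ρ

theorem exists_loc (h : Hyp Om) (hU : VChoice Om U) {L T : Subgroup G} (hT : IsPGroup 2 T) (hL : L ∈ OmS Om T) :
    ∃ c v n ρ, Loc U L T c v n ρ := by
  obtain ⟨c, v, n, hc, hw⟩ := exists_coord h hU hT hL
  obtain ⟨ρ, hρ⟩ := exists_ret h hU hT hL
  exact ⟨c, v, n, ρ, hc, hw, hρ⟩

namespace Loc

variable {L T : Subgroup G} {c v : G} {n : ℕ} {ρ : L →* G}

theorem w_sq (l : Loc U L T c v n ρ) : c ^ 2 ^ n * c ^ 2 ^ n = zz L := by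
  rw [← pow_add, ← two_mul, ← pow_succ', l.gq.z_eq]

theorem orderOf_w (l : Loc U L T c v n ρ) : orderOf (c ^ 2 ^ n) = 4 :=
  GQ.orderOf_of_sq l.w_sq l.gq.z_mul l.gq.z_ne

/-- membership in `XX U L` -/
theorem mem_XX (l : Loc U L T c v n ρ) (h : Hyp Om) (hU : VChoice Om U) (hT : IsPGroup 2 T) (hL : L ∈ OmS Om T)
    {x : G} (hx : x ∈ L) : x ∈ XX U L ↔ ∃ i : ℕ, ρ ⟨x, hx⟩ = c ^ i := by
  have hm := l.ret.mem ⟨x, hx⟩
  rw [← mem_XX_coord h hU hT hL l.gq l.w_mem hm]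
  -- `x` and `ρ x` differ by an element of `O(L)`
  have h1 : x * (ρ ⟨x, hx⟩)⁻¹ ∈ OO L := by
    rw [← l.ret.ker _ (L.mul_mem hx (L.inv_mem hm.1))]
    have h2 : (⟨x * (ρ ⟨x, hx⟩)⁻¹, L.mul_mem hx (L.inv_mem hm.1)⟩ : L) = ⟨x, hx⟩ * ⟨ρ ⟨x, hx⟩, hm.1⟩⁻¹ := rfl
    rw [h2, map_mul, map_inv, l.ret.fix _ hm.1 hm.2, mul_inv_cancel]
  have h2 : x * (ρ ⟨x, hx⟩)⁻¹ ∈ XX U L := OO_le_XX L (hU.le L hL.1) h1
  constructor
  · intro h3
    have h4 := (XX U L).mul_mem ((XX U L).inv_mem h2) h3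
    have h5 : (x * (ρ ⟨x, hx⟩)⁻¹)⁻¹ * x = ρ ⟨x, hx⟩ := by group
    rwa [h5] at h4
  · intro h3
    have h4 := (XX U L).mul_mem h2 h3
    rwa [inv_mul_cancel_right] at h4

theorem mem_W2 (l : Loc U L T c v n ρ) (h : Hyp Om) (hU : VChoice Om U) (hT : IsPGroup 2 T) (hL : L ∈ OmS Om T)
    {x : G} (hx : x ∈ L) {i : ℕ} (hi : ρ ⟨x, hx⟩ = c ^ i) : W2 U L x ↔ Even i := by
  constructor
  · rintro ⟨k, hk, hkx⟩
    obtain ⟨j, hj⟩ := (l.mem_XX h hU hT hL (XX_le L hk)).mp hk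
    have hkL := XX_le L hk
    rw [← l.ret.ker _ (L.mul_mem (L.inv_mem (L.mul_mem hkL hkL)) hx)] at hkx
    have h2 : (⟨(k * k)⁻¹ * x, L.mul_mem (L.inv_mem (L.mul_mem hkL hkL)) hx⟩ : L) =
      (⟨k, hkL⟩ * ⟨k, hkL⟩)⁻¹ * ⟨x, hx⟩ := rfl
    rw [h2, map_mul, map_inv, map_mul, hj, hi, inv_mul_eq_one, ← pow_add, pow_inj_mod, l.gq.ord] at hkx
    have h3 : (j + j) % 2 = i % 2 := by
      have h4 : (2 : ℕ) ∣ 2 ^ (n + 2) := dvd_pow_self 2 (by omega)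
      rw [← Nat.mod_mod_of_dvd (j + j) h4, hkx, Nat.mod_mod_of_dvd i h4]
    rw [Nat.even_iff]
    omega
  · rintro ⟨j, rfl⟩
    have hcj : c ^ j ∈ L ⊓ T := (L ⊓ T).pow_mem l.gq.c_mem j
    refine ⟨c ^ j, (mem_XX_coord h hU hT hL l.gq l.w_mem hcj).mpr ⟨j, rfl⟩, ?_⟩
    rw [← l.ret.ker _ (L.mul_mem (L.inv_mem (L.mul_mem hcj.1 hcj.1)) hx)]
    have h2 : (⟨(c ^ j * c ^ j)⁻¹ * x, L.mul_mem (L.inv_mem (L.mul_mem hcj.1 hcj.1)) hx⟩ : L) =
      (⟨c ^ j, hcj.1⟩ * ⟨c ^ j, hcj.1⟩)⁻¹ * ⟨x, hx⟩ := rfl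
    rw [h2, map_mul, map_inv, map_mul, l.ret.fix _ hcj.1 hcj.2, hi, pow_add, inv_mul_cancel]

/-- the squares have index two in `XX U L` -/
theorem W2_mul (l : Loc U L T c v n ρ) (h : Hyp Om) (hU : VChoice Om U) (hT : IsPGroup 2 T) (hL : L ∈ OmS Om T)
    {x y : G} (hx : x ∈ XX U L) (hy : y ∈ XX U L) : W2 U L (x * y) ↔ (W2 U L x ↔ W2 U L y) := by
  have hxL := XX_le L hx
  have hyL := XX_le L hy
  obtain ⟨i, hi⟩ := (l.mem_XX h hU hT hL hxL).mp hx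
  obtain ⟨j, hj⟩ := (l.mem_XX h hU hT hL hyL).mp hy
  have hxy : ρ ⟨x * y, L.mul_mem hxL hyL⟩ = c ^ (i + j) := by
    have h2 : (⟨x * y, L.mul_mem hxL hyL⟩ : L) = ⟨x, hxL⟩ * ⟨y, hyL⟩ := rfl
    rw [h2, map_mul, hi, hj, pow_add]
  rw [l.mem_W2 h hU hT hL hxL hi, l.mem_W2 h hU hT hL hyL hj, l.mem_W2 h hU hT hL (L.mul_mem hxL hyL) hxy,
    Nat.even_add]

/-- action of an element of `T ∩ N(L)` in coordinates -/
theorem act (l : Loc U L T c v n ρ) (h : Hyp Om) (hU : VChoice Om U) (hT : IsPGroup 2 T) (hL : L ∈ OmS Om T)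
    {g : G} (hg : g ∈ T) (hgL : g ∈ normalizer (L : Set G)) :
    ∃ a b : ℕ, g * c * g⁻¹ = c ^ a ∧ g * v * g⁻¹ = v * c ^ b ∧
      ((g * c ^ 2 ^ n = c ^ 2 ^ n * g ∧ a % 4 = 1) ∨ (g * c ^ 2 ^ n * g⁻¹ = (c ^ 2 ^ n)⁻¹ ∧ a % 4 = 3)) := by
  have hconj : ∀ x ∈ L ⊓ T, g * x * g⁻¹ ∈ L ⊓ T := fun x hx =>
    ⟨(mem_normalizer_iff.mp hgL x).mp hx.1, T.mul_mem (T.mul_mem hg hx.2) (T.inv_mem hg)⟩
  have hXn : ∀ x, x ∈ XX U L ↔ g * x * g⁻¹ ∈ XX U L := mem_normalizer_iff.mp (le_normalizer_XX hU hL.1 hgL)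
  have hcX : c ∈ XX U L := (mem_XX_coord h hU hT hL l.gq l.w_mem l.gq.c_mem).mpr ⟨1, by simp⟩
  obtain ⟨a, ha⟩ := (mem_XX_coord h hU hT hL l.gq l.w_mem (hconj c l.gq.c_mem)).mp ((hXn c).mp hcX)
  have hvX := v_not_mem_XX h hU hT hL l.gq l.w_mem
  obtain ⟨b, hb⟩ : ∃ b : ℕ, g * v * g⁻¹ = v * c ^ b := by
    rcases l.gq.cov _ (hconj v l.gq.v_mem) with hb | hb
    · exact absurd ((hXn v).mpr ((mem_XX_coord h hU hT hL l.gq l.w_mem (hconj v l.gq.v_mem)).mpr hb)) hvX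
    · exact hb
  refine ⟨a, b, ha, hb, ?_⟩
  have hwU : g * c ^ 2 ^ n * g⁻¹ ∈ U L := (mem_normalizer_iff.mp (hU.le_normalizer hL.1 hgL) _).mp l.w_mem
  have hwT : c ^ 2 ^ n ∈ T := T.pow_mem l.gq.c_mem.2 _
  have hpow : g * c ^ 2 ^ n * g⁻¹ = (c ^ 2 ^ n) ^ a := by
    rw [← conj_pow, ha, ← pow_mul, ← pow_mul, mul_comm]
  have h4 : (c ^ 2 ^ n) ^ a = (c ^ 2 ^ n) ^ (a % 4) := by
    rw [← l.orderOf_w, pow_mod_orderOf]
  have hlt : a % 4 < 4 := Nat.mod_lt _ (by norm_num)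
  have hne : c ^ 2 ^ n * c ^ 2 ^ n ≠ 1 := by rw [l.w_sq]; exact l.gq.z_ne
  rcases hU.eq_or hL.1 l.w_mem l.orderOf_w hwU (orderOf_conj_four l.orderOf_w g) hT hwT
    (T.mul_mem (T.mul_mem hg hwT) (T.inv_mem hg)) with h1 | h1
  · left
    refine ⟨mul_inv_eq_iff_eq_mul.mp h1, ?_⟩
    rw [hpow, h4] at h1
    have h2 : (c ^ 2 ^ n) ^ (a % 4) = (c ^ 2 ^ n) ^ 1 := by rw [h1, pow_one]
    rw [pow_inj_mod, l.orderOf_w] at h2
    omega
  · right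
    refine ⟨h1, ?_⟩
    rw [hpow, h4] at h1
    have h2 : (c ^ 2 ^ n) ^ (a % 4) = (c ^ 2 ^ n) ^ 3 := by
      have h5 := pow_orderOf_eq_one (c ^ 2 ^ n)
      rw [l.orderOf_w] at h5
      rw [h1, inv_eq_iff_mul_eq_one, ← pow_succ']
      exact h5
    rw [pow_inj_mod, l.orderOf_w] at h2
    omega

end Loc

/-! ### The double cover -/

open Classical in
/-- the sign of a proposition -/
noncomputable def sg (P : Prop) : ℤˣ := if P then 1 else -1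

theorem sg_mul {P Q R : Prop} (h : P ↔ (Q ↔ R)) : sg P = sg Q * sg R := by
  unfold sg
  by_cases hQ : Q <;> by_cases hR : R <;> simp [h, hQ, hR]

theorem sg_congr {P Q : Prop} (h : P ↔ Q) : sg P = sg Q := by rw [propext h]

/-- comparison of two frames at `L` -/
noncomputable def dl (U : Subgroup G → Subgroup G) (L : Subgroup G) (t t' : G × G) : ℤˣ :=
  sg (t.1⁻¹ * t'.1 ∈ OO L) * sg (W2 U L (t.2⁻¹ * t'.2))

/-- frames -/
def Fr (U : Subgroup G → Subgroup G) (L : Subgroup G) (t : G × G) : Prop :=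
  t.1 ∈ U L ∧ orderOf t.1 = 4 ∧ t.2 ∈ L ∧ t.2 ∉ XX U L

section

variable (h : Hyp Om) (hU : VChoice Om U)
include h hU

theorem dl_mul {L : Subgroup G} (hL : L ∈ Om) {t t' t'' : G × G} (ht : Fr U L t) (ht' : Fr U L t')
    (ht'' : Fr U L t'') : dl U L t t'' = dl U L t t' * dl U L t' t'' := by
  obtain ⟨hv, hv4, he, heX⟩ := ht
  obtain ⟨hv', hv4', he', heX'⟩ := ht'
  obtain ⟨hv'', hv4'', he'', heX''⟩ := ht''
  have h1 : t.1⁻¹ * t''.1 ∈ OO L ↔ (t.1⁻¹ * t'.1 ∈ OO L ↔ t'.1⁻¹ * t''.1 ∈ OO L) := by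
    have hm : t.1⁻¹ * t''.1 = (t.1⁻¹ * t'.1) * (t'.1⁻¹ * t''.1) := by group
    have hn' : t'.1 ∈ normalizer (L : Set G) := le_normalizer (hU.le L hL hv')
    by_cases hA : t.1⁻¹ * t'.1 ∈ OO L
    · rw [hm, mul_mem_cancel_left hA]
      simp [hA]
    · by_cases hB : t'.1⁻¹ * t''.1 ∈ OO L
      · rw [hm, mul_mem_cancel_right hB]
        simp [hA, hB]
      · simp only [hA, hB, iff_true]
        have hA' := (UU_or hU hL hv hv' hv4 hv4').resolve_left hA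
        have hB' := (UU_or hU hL hv' hv'' hv4' hv4'').resolve_left hB
        have h2 := (OO L).mul_mem (conj_OO hn' ((OO L).inv_mem hA')) hB'
        have h3 : t'.1 * (t.1 * t'.1)⁻¹ * t'.1⁻¹ * (t'.1 * t''.1) = t.1⁻¹ * t''.1 := by group
        rwa [h3] at h2
  obtain ⟨T, hT, -, -, hLT⟩ := exists_T hL (P := ⊥) (IsPGroup.of_bot) bot_le
  obtain ⟨c, v, n, ρ, l⟩ := exists_loc h hU hT hLT
  have h2 : W2 U L (t.2⁻¹ * t''.2) ↔ (W2 U L (t.2⁻¹ * t'.2) ↔ W2 U L (t'.2⁻¹ * t''.2)) := by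
    have hm : t.2⁻¹ * t''.2 = (t.2⁻¹ * t'.2) * (t'.2⁻¹ * t''.2) := by group
    rw [hm]
    exact l.W2_mul h hU hT hLT (inv_mul_mem_XX hU hL he he' heX heX') (inv_mul_mem_XX hU hL he' he'' heX' heX'')
  rw [dl, dl, dl, sg_mul h1, sg_mul h2]
  exact mul_mul_mul_comm _ _ _ _

theorem exists_fr {L : Subgroup G} (hL : L ∈ Om) : ∃ t, Fr U L t := by
  obtain ⟨T, hT, -, -, hLT⟩ := exists_T hL (P := ⊥) (IsPGroup.of_bot) bot_le
  obtain ⟨c, v, n, ρ, l⟩ := exists_loc h hU hT hLT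
  exact ⟨(c ^ 2 ^ n, v), l.w_mem, l.orderOf_w, l.gq.v_mem.1, v_not_mem_XX h hU hT hLT l.gq l.w_mem⟩

theorem fr_conj {L : Subgroup G} (hL : L ∈ Om) (g : G) {t : G × G} (ht : Fr U L t) :
    Fr U (cj g L) (g * t.1 * g⁻¹, g * t.2 * g⁻¹) :=
  ⟨hU.conj_mem hL ht.1 g, orderOf_conj_four ht.2.1 g, conj_mem_cj ht.2.2.1,
    fun hh => ht.2.2.2 ((conj_mem_XX (hU.cj L hL g)).mp hh)⟩

theorem dl_conj {L : Subgroup G} (hL : L ∈ Om) (g : G) (t t' : G × G) :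
    dl U (cj g L) (g * t.1 * g⁻¹, g * t.2 * g⁻¹) (g * t'.1 * g⁻¹, g * t'.2 * g⁻¹) = dl U L t t' := by
  unfold dl
  have h1 : (g * t.1 * g⁻¹)⁻¹ * (g * t'.1 * g⁻¹) ∈ OO (cj g L) ↔ t.1⁻¹ * t'.1 ∈ OO L := by
    have h2 : (g * t.1 * g⁻¹)⁻¹ * (g * t'.1 * g⁻¹) = g * (t.1⁻¹ * t'.1) * g⁻¹ := by group
    rw [h2, OO_cj, conj_mem_cj_iff]
  have h3 : W2 U (cj g L) ((g * t.2 * g⁻¹)⁻¹ * (g * t'.2 * g⁻¹)) ↔ W2 U L (t.2⁻¹ * t'.2) := by
    have h2 : (g * t.2 * g⁻¹)⁻¹ * (g * t'.2 * g⁻¹) = g * (t.2⁻¹ * t'.2) * g⁻¹ := by group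
    rw [h2, conj_W2 (hU.cj L hL g)]
  simp only
  rw [sg_congr h1, sg_congr h3]

/-- the data for `TauHom` -/
noncomputable def cover : TauHom.Cover G {L // L ∈ Om} (G × G) where
  a g L := ⟨cj g L.1, h.conj L.1 L.2 g⟩
  a_one L := Subtype.ext (cj_one L.1)
  a_mul g k L := Subtype.ext (cj_mul g k L.1)
  b g t := (g * t.1 * g⁻¹, g * t.2 * g⁻¹)
  b_one t := by simp
  b_mul g k t := by simp [mul_assoc]
  F L t := Fr U L.1 t
  ex L := exists_fr h hU L.2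
  bF g L t ht := fr_conj h hU L.2 g ht
  δ L t t' := dl U L.1 t t'
  δ_mul L t t' t'' ht ht' ht'' := dl_mul h hU L.2 ht ht' ht''
  δ_b g L t t' _ _ := dl_conj h hU L.2 g t t'

/-- the local sign in coordinates -/
theorem dl_coord {L T : Subgroup G} (hT : IsPGroup 2 T) (hL : L ∈ OmS Om T) {c v : G} {n : ℕ} {ρ : L →* G}
    (l : Loc U L T c v n ρ) {g : G} (hg : g ∈ T) {b : ℕ} (hb : g * v * g⁻¹ = v * c ^ b) :
    dl U L (g * c ^ 2 ^ n * g⁻¹, g * v * g⁻¹) (c ^ 2 ^ n, v) = sg (g * c ^ 2 ^ n = c ^ 2 ^ n * g) * sg (Even b) := by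
  have hwT : c ^ 2 ^ n ∈ T := T.pow_mem l.gq.c_mem.2 _
  unfold dl
  have h1 : (g * c ^ 2 ^ n * g⁻¹)⁻¹ * c ^ 2 ^ n ∈ OO L ↔ g * c ^ 2 ^ n = c ^ 2 ^ n * g := by
    constructor
    · intro h2
      have h3 := eq_one_of_mem_odd hT (odd_OO L)
        (T.mul_mem (T.inv_mem (T.mul_mem (T.mul_mem hg hwT) (T.inv_mem hg))) hwT) h2
      rw [inv_mul_eq_one] at h3
      exact mul_inv_eq_iff_eq_mul.mp h3
    · intro h2
      rw [h2, mul_inv_cancel_right, inv_mul_cancel]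
      exact (OO L).one_mem
  have hcb : c ^ (b * (2 ^ (n + 2) - 1)) = (v * c ^ b)⁻¹ * v := by
    have h2 : c ^ (b * (2 ^ (n + 2) - 1)) * c ^ b = 1 := by
      rw [← pow_add]
      have h3 : b * (2 ^ (n + 2) - 1) + b = 2 ^ (n + 2) * b := by
        have : 1 ≤ 2 ^ (n + 2) := Nat.one_le_two_pow
        zify [this]; ring
      rw [h3, pow_mul, ← l.gq.ord, pow_orderOf_eq_one, one_pow]
    rw [eq_inv_of_mul_eq_one_left h2]; group
  have hmL : (v * c ^ b)⁻¹ * v ∈ L ⊓ T := (L ⊓ T).mul_mem ((L ⊓ T).inv_mem ((L ⊓ T).mul_mem l.gq.v_mem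
    ((L ⊓ T).pow_mem l.gq.c_mem b))) l.gq.v_mem
  have h3 : W2 U L ((g * v * g⁻¹)⁻¹ * v) ↔ Even b := by
    rw [hb]
    have h4 : ρ ⟨(v * c ^ b)⁻¹ * v, hmL.1⟩ = c ^ (b * (2 ^ (n + 2) - 1)) := by
      rw [l.ret.fix _ hmL.1 hmL.2, hcb]
    rw [l.mem_W2 h hU hT hL hmL.1 h4, Nat.even_mul]
    have h5 : ¬ Even (2 ^ (n + 2) - 1) := by
      have h6 : 2 ^ (n + 2) = 2 * 2 ^ (n + 1) := by ring
      have h7 : 1 ≤ 2 ^ (n + 1) := Nat.one_le_two_pow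
      rw [Nat.even_iff]
      omega
    simp [h5]
  simp only
  rw [sg_congr h1, sg_congr h3]

/-- (1): the involutions `zz K` have local sign one -/
theorem local_zz {K L : Subgroup G} (hK : K ∈ Om) (hL : L ∈ Om) (hz : zz K ∈ normalizer (L : Set G)) :
    ∃ t, Fr U L t ∧ dl U L (zz K * t.1 * (zz K)⁻¹, zz K * t.2 * (zz K)⁻¹) t = 1 := by
  have hzp : IsPGroup 2 (zpowers (zz K)) := by
    apply IsPGroup.of_card (n := 1)
    rw [Nat.card_zpowers, h.orderOf_zz hK, pow_one]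
  obtain ⟨T, hT, hzT, hTL, hLT⟩ := exists_T hL hzp (zpowers_le.2 hz)
  have hzT' : zz K ∈ T := hzT (mem_zpowers _)
  obtain ⟨c, v, n, ρ, l⟩ := exists_loc h hU hT hLT
  have hwT : c ^ 2 ^ n ∈ T := T.pow_mem l.gq.c_mem.2 _
  obtain ⟨a, b, ha, hb, hab⟩ := l.act h hU hT hLT hzT' hz
  refine ⟨(c ^ 2 ^ n, v), ⟨l.w_mem, l.orderOf_w, l.gq.v_mem.1, v_not_mem_XX h hU hT hLT l.gq l.w_mem⟩, ?_⟩
  simp only
  rw [dl_coord h hU hT hLT l hzT' hb]
  have hzz := h.zz_mul hK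
  have hzi := h.zz_inv hK
  -- the powers of `c`
  have hcp : ∀ i : ℕ, zz K * c ^ i * (zz K)⁻¹ = c ^ (a * i) := fun i => by rw [← conj_pow, ha, pow_mul]
  rcases hab with ⟨h1, h2⟩ | ⟨h1, h2⟩
  · -- `zz K` centralises `w`
    have h3 : c ^ (b + a * b) = 1 := by
      have h4 : zz K * (v * c ^ b) * (zz K)⁻¹ = v := by
        rw [← hb, hzi]
        calc zz K * (zz K * v * zz K) * zz K = (zz K * zz K) * v * (zz K * zz K) := by simp only [mul_assoc]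
          _ = v := by rw [hzz, one_mul, mul_one]
      have h5 : zz K * (v * c ^ b) * (zz K)⁻¹ = v * c ^ (b + a * b) := by
        calc zz K * (v * c ^ b) * (zz K)⁻¹ = (zz K * v * (zz K)⁻¹) * (zz K * c ^ b * (zz K)⁻¹) := by group
          _ = _ := by rw [hb, hcp, mul_assoc, ← pow_add]
      rw [h5] at h4
      exact mul_eq_left.mp h4
    have h4 := orderOf_dvd_of_pow_eq_one h3
    rw [l.gq.ord] at h4
    obtain ⟨k, hk⟩ : ∃ k, a = 4 * k + 1 := ⟨a / 4, by omega⟩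
    have h5 : b + a * b = 2 * (b * (2 * k + 1)) := by rw [hk]; ring
    rw [h5, pow_succ', Nat.mul_dvd_mul_iff_left (by norm_num)] at h4
    have h6 : 2 ∣ b * (2 * k + 1) := (dvd_pow_self 2 (by omega)).trans h4
    have h7 : 2 ∣ b := by
      rcases (Nat.Prime.dvd_mul Nat.prime_two).mp h6 with h8 | h8
      · exact h8
      · omega
    have h8 : Even b := even_iff_two_dvd.mpr h7
    simp [sg, h1, h8]
  · -- `zz K` inverts `w`
    have hne : ¬ (zz K * c ^ 2 ^ n = c ^ 2 ^ n * zz K) := by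
      intro h3
      rw [h3, mul_inv_cancel_right] at h1
      rw [← mul_eq_one_iff_eq_inv, l.w_sq] at h1
      exact l.gq.z_ne h1
    have hodd : ¬ Even b := by
      rintro ⟨b', hb'⟩
      -- an element of order four of `L` commuting with `zz K`
      obtain ⟨k, hk⟩ : ∃ k, a = 4 * k + 3 := ⟨a / 4, by omega⟩
      obtain ⟨j, hj⟩ : ∃ j : ℕ, 2 ^ (n + 2) ∣ b + a * j + (2 ^ (n + 2) - 1) * j := by
        have hcop : Nat.Coprime (2 * k + 1) (2 ^ (n + 1)) :=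
          Nat.Coprime.pow_right _ (by
            rw [Nat.coprime_comm]
            exact (Nat.Prime.coprime_iff_not_dvd Nat.prime_two).2 (by omega))
        obtain ⟨m, hm⟩ : ∃ m : ℕ, 2 ^ (n + 1) ∣ b' + (2 * k + 1) * m := by
          obtain ⟨x, hx1, hx2⟩ := Nat.chineseRemainder hcop 0 ((2 ^ (n + 1) - 1) * b')
          obtain ⟨m, rfl⟩ := (Nat.modEq_zero_iff_dvd).mp hx1
          refine ⟨m, (Nat.modEq_zero_iff_dvd).mp ?_⟩
          have h3 := Nat.ModEq.add_left b' hx2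
          have h4 : b' + (2 ^ (n + 1) - 1) * b' = 2 ^ (n + 1) * b' := by
            have : 1 ≤ 2 ^ (n + 1) := Nat.one_le_two_pow
            zify [this]; ring
          rw [h4] at h3
          exact h3.trans ((Nat.modEq_zero_iff_dvd).mpr (dvd_mul_right _ _))
        refine ⟨m, ?_⟩
        have h3 : b + a * m + (2 ^ (n + 2) - 1) * m = 2 * (b' + (2 * k + 1) * m) + 2 ^ (n + 2) * m := by
          have : 1 ≤ 2 ^ (n + 2) := Nat.one_le_two_pow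
          rw [hk, hb']
          zify [this]; ring
        rw [h3]
        refine Nat.dvd_add ?_ (dvd_mul_right _ _)
        rw [pow_succ' 2 (n + 1)]
        exact Nat.mul_dvd_mul_left 2 hm
      have hcj : c ^ (b + a * j) = c ^ j := by
        have h3 : c ^ (b + a * j + (2 ^ (n + 2) - 1) * j) = 1 := orderOf_dvd_iff_pow_eq_one.mp (by rw [l.gq.ord]; exact hj)
        have h4 : c ^ j * c ^ ((2 ^ (n + 2) - 1) * j) = 1 := by
          rw [← pow_add]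
          have h5 : j + (2 ^ (n + 2) - 1) * j = 2 ^ (n + 2) * j := by
            have : 1 ≤ 2 ^ (n + 2) := Nat.one_le_two_pow
            zify [this]; ring
          rw [h5, pow_mul, ← l.gq.ord, pow_orderOf_eq_one, one_pow]
        rw [pow_add] at h3
        exact mul_right_cancel (h3.trans h4.symm)
      have hqz : v * c ^ j * zz K = zz K * (v * c ^ j) := by
        have h3 : zz K * (v * c ^ j) * (zz K)⁻¹ = v * c ^ j := by
          calc zz K * (v * c ^ j) * (zz K)⁻¹ = (zz K * v * (zz K)⁻¹) * (zz K * c ^ j * (zz K)⁻¹) := by group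
            _ = v * c ^ (b + a * j) := by rw [hb, hcp, mul_assoc, ← pow_add]
            _ = _ := by rw [hcj]
        exact (mul_inv_eq_iff_eq_mul.mp h3).symm
      have hqm : v * c ^ j ∈ L ⊓ T := (L ⊓ T).mul_mem l.gq.v_mem ((L ⊓ T).pow_mem l.gq.c_mem j)
      have hq4 : orderOf (v * c ^ j) = 4 := l.gq.orderOf_out j
      have hqK : v * c ^ j ∈ normalizer (K : Set G) := h.norm_four hT hL hK hqm.1 hqm.2 hq4.ge hqz
      obtain ⟨T₂, hT₂, hqT₂, -, hKT₂⟩ := exists_T hK (isPGroup_zpowers hT hqm.2) (zpowers_le.2 hqK)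
      obtain ⟨c₂, v₂, n₂, ρ₂, l₂⟩ := exists_loc h hU hT₂ hKT₂
      have hs : c₂ ^ 2 ^ n₂ * zz L = zz L * c₂ ^ 2 ^ n₂ := by
        obtain ⟨_, _, _, _, hab₂⟩ := l₂.act h hU hT₂ hKT₂ (hqT₂ (mem_zpowers _)) hqK
        rw [← l.gq.sq_out j]
        exact sq_commute (hab₂.imp (fun h3 => h3.1) (fun h3 => h3.1))
      have hsK : c₂ ^ 2 ^ n₂ ∈ K := hU.le K hK l₂.w_mem
      have hsT : c₂ ^ 2 ^ n₂ ∈ T₂ := T₂.pow_mem l₂.gq.c_mem.2 _
      have hsL : c₂ ^ 2 ^ n₂ ∈ normalizer (L : Set G) := h.norm_four hT₂ hK hL hsK hsT l₂.orderOf_w.ge hs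
      have h6 := sq_act hU hL hsL l.w_mem l.orderOf_w
      rw [l₂.w_sq] at h6
      have h7 := eq_one_of_mem_odd hT (odd_OO L) (T.mul_mem (T.mul_mem (T.mul_mem hzT' hwT) (T.inv_mem hzT'))
        (T.inv_mem hwT)) h6
      rw [mul_inv_eq_one, mul_inv_eq_iff_eq_mul] at h7
      exact hne h7
    simp [sg, hne, hodd]

/-- (2): the local sign of `y` at its own member -/
theorem local_self {K : Subgroup G} (hK : K ∈ Om) {y : G} (hy : y ∈ K) (hy4 : orderOf y = 4) (hyX : y ∉ XX U K) :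
    ∃ t, Fr U K t ∧ dl U K (y * t.1 * y⁻¹, y * t.2 * y⁻¹) t = -1 := by
  have hyp : IsPGroup 2 (zpowers y) := by
    apply IsPGroup.of_card (n := 2)
    rw [Nat.card_zpowers, hy4]
    norm_num
  obtain ⟨T, hT, hyT, -, hKT⟩ := exists_T hK hyp (zpowers_le.2 (le_normalizer hy))
  have hyT' : y ∈ T := hyT (mem_zpowers _)
  obtain ⟨c, v, n, ρ, l⟩ := exists_loc h hU hT hKT
  refine ⟨(c ^ 2 ^ n, v), ⟨l.w_mem, l.orderOf_w, l.gq.v_mem.1, v_not_mem_XX h hU hT hKT l.gq l.w_mem⟩, ?_⟩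
  simp only
  obtain ⟨i, hi⟩ : ∃ i : ℕ, y = v * c ^ i := by
    rcases l.gq.cov y ⟨hy, hyT'⟩ with h1 | h1
    · exact absurd ((mem_XX_coord h hU hT hKT l.gq l.w_mem ⟨hy, hyT'⟩).mpr h1) hyX
    · exact h1
  have hb : y * v * y⁻¹ = v * c ^ (i + i) := by
    rw [hi, pow_add]
    have h1 : c ^ i * v = v * (c ^ i)⁻¹ := by
      have := l.gq.conj_pow i
      calc c ^ i * v = c ^ i * (v * c ^ i) * (c ^ i)⁻¹ := by group
        _ = c ^ i * ((c ^ i)⁻¹ * v) * (c ^ i)⁻¹ := by rw [this]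
        _ = v * (c ^ i)⁻¹ := by group
    calc v * c ^ i * v * (v * c ^ i)⁻¹ = v * (c ^ i * v) * (c ^ i)⁻¹ * v⁻¹ := by group
      _ = v * (v * (c ^ i)⁻¹) * (c ^ i)⁻¹ * v⁻¹ := by rw [h1]
      _ = v * (v * ((c ^ i)⁻¹ * (c ^ i)⁻¹) * v⁻¹) := by group
      _ = v * (c ^ i * c ^ i) := by
          have h2 : v * ((c ^ i)⁻¹ * (c ^ i)⁻¹) * v⁻¹ = c ^ i * c ^ i := by
            have h3 : v * (c ^ i)⁻¹ * v⁻¹ = c ^ i := by
              have := l.gq.conj_pow i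
              calc v * (c ^ i)⁻¹ * v⁻¹ = (v * c ^ i * v⁻¹)⁻¹ := by group
                _ = ((c ^ i)⁻¹ * v * v⁻¹)⁻¹ := by rw [this]
                _ = c ^ i := by group
            calc v * ((c ^ i)⁻¹ * (c ^ i)⁻¹) * v⁻¹ = (v * (c ^ i)⁻¹ * v⁻¹) * (v * (c ^ i)⁻¹ * v⁻¹) := by group
              _ = _ := by rw [h3]
          rw [h2]
  rw [dl_coord h hU hT hKT l hyT' hb]
  have hne : ¬ (y * c ^ 2 ^ n = c ^ 2 ^ n * y) := by
    intro h1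
    exact hyX ((mem_XX_T h hU hT hK l.w_mem (T.pow_mem l.gq.c_mem.2 _) l.orderOf_w hy hyT').mpr h1)
  have hev : Even (i + i) := ⟨i, rfl⟩
  simp [sg, hne, hev]

/-- (3): the local sign of `y` at the other members is one -/
theorem local_other {K L : Subgroup G} (hK : K ∈ Om) (hL : L ∈ Om) (hne : L ≠ K) {y : G} (hy : y ∈ K)
    (hy4 : orderOf y = 4) (hyX : y ∉ XX U K) (hyL : y ∈ normalizer (L : Set G)) :
    ∃ t, Fr U L t ∧ dl U L (y * t.1 * y⁻¹, y * t.2 * y⁻¹) t = 1 := by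
  have hyp : IsPGroup 2 (zpowers y) := by
    apply IsPGroup.of_card (n := 2)
    rw [Nat.card_zpowers, hy4]
    norm_num
  have hyy : y * y = zz K := h.sq_eq_zz hK hy hy4
  obtain ⟨T, hT, hyT, hTL, hLT⟩ := exists_T hL hyp (zpowers_le.2 hyL)
  have hyT' : y ∈ T := hyT (mem_zpowers _)
  obtain ⟨c, v, n, ρ, l⟩ := exists_loc h hU hT hLT
  obtain ⟨w, hw⟩ : ∃ w, w = c ^ 2 ^ n := ⟨_, rfl⟩
  have hwU : w ∈ U L := by rw [hw]; exact l.w_mem
  have hwL : w ∈ L := hU.le L hL hwU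
  have hwT : w ∈ T := by rw [hw]; exact T.pow_mem l.gq.c_mem.2 _
  have hw4 : orderOf w = 4 := by rw [hw]; exact l.orderOf_w
  have hww : w * w = zz L := hU.sq_eq h hL hwU hw4
  obtain ⟨_, _, _, _, hab⟩ := l.act h hU hT hLT hyT' hyL
  rw [← hw] at hab
  -- `y²` commutes with `w`
  have hzw : w * zz K = zz K * w := by
    rw [← hyy]
    exact sq_commute (hab.imp (fun h3 => h3.1) (fun h3 => h3.1))
  have hwK : w ∈ normalizer (K : Set G) := h.norm_four hT hL hK hwL hwT hw4.ge hzw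
  -- step A
  have hyw : y * w = w * y := by
    rcases hab with ⟨h3, -⟩ | ⟨h3, -⟩
    · exact h3
    · exfalso
      have h4 : w * y * w⁻¹ * y⁻¹ = zz L := by
        calc w * y * w⁻¹ * y⁻¹ = w * (y * w * y⁻¹)⁻¹ := by group
          _ = zz L := by rw [h3, inv_inv, hww]
      have h5 : zz L ∈ K := by
        rw [← h4]
        exact K.mul_mem ((mem_normalizer_iff.mp hwK y).mp hy) (K.inv_mem hy)
      have h6 : zz L = zz K := h.eq_zz hK h5 (h.zz_mul hL) (h.zz_ne hL)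
      have h7 := h.comm_of_zz_eq hT hK hL h6.symm (fun hh => hne hh.symm) hy hyT' hwL hwT
      rw [← h7, mul_inv_cancel_right, mul_inv_cancel] at h4
      exact h.zz_ne hL h4.symm
  -- step B
  obtain ⟨T₂, hT₂, hPT₂, hT₂K, hKT₂⟩ := exists_T (P := T ⊓ normalizer (K : Set G)) hK (hT.to_le inf_le_left) inf_le_right
  have hyT₂ : y ∈ T₂ := hPT₂ ⟨hyT', le_normalizer hy⟩
  have hwT₂ : w ∈ T₂ := hPT₂ ⟨hwT, hwK⟩
  obtain ⟨c₂, v₂, n₂, ρ₂, l₂⟩ := exists_loc h hU hT₂ hKT₂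
  obtain ⟨s, hs⟩ : ∃ s, s = c₂ ^ 2 ^ n₂ := ⟨_, rfl⟩
  have hsU : s ∈ U K := by rw [hs]; exact l₂.w_mem
  have hsK : s ∈ K := hU.le K hK hsU
  have hsT₂ : s ∈ T₂ := by rw [hs]; exact T₂.pow_mem l₂.gq.c_mem.2 _
  have hs4 : orderOf s = 4 := by rw [hs]; exact l₂.orderOf_w
  have hss : s * s = zz K := hU.sq_eq h hK hsU hs4
  have hsw : s * w = w * s := hU.commute h hT₂ hK hL hsU hwU hs4 hw4 hsT₂ hwT₂
  have hys : y * s * y⁻¹ = s⁻¹ := by
    obtain ⟨_, _, _, _, hab₂⟩ := l₂.act h hU hT₂ hKT₂ hyT₂ (le_normalizer hy)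
    rw [← hs] at hab₂
    rcases hab₂ with ⟨h3, -⟩ | ⟨h3, -⟩
    · exact absurd ((mem_XX_T h hU hT₂ hK hsU hsT₂ hs4 hy hyT₂).mpr h3) hyX
    · exact h3
  have hsz : s * zz L = zz L * s := by
    rw [← hww]
    have h3 : Commute s w := hsw
    exact (h3.mul_right h3).eq
  have hsL : s ∈ normalizer (L : Set G) := h.norm_four hT₂ hK hL hsK hsT₂ hs4.ge hsz
  -- step C
  obtain ⟨T₃, hT₃, hPT₃, hT₃L, hLT₃⟩ := exists_T (P := T₂ ⊓ normalizer (L : Set G)) hL (hT₂.to_le inf_le_left) inf_le_right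
  have hyT₃ : y ∈ T₃ := hPT₃ ⟨hyT₂, hyL⟩
  have hwT₃ : w ∈ T₃ := hPT₃ ⟨hwT₂, le_normalizer hwL⟩
  have hsT₃ : s ∈ T₃ := hPT₃ ⟨hsT₂, hsL⟩
  obtain ⟨c₃, v₃, n₃, ρ₃, l₃⟩ := exists_loc h hU hT₃ hLT₃
  have hw₃ : c₃ ^ 2 ^ n₃ = w ∨ c₃ ^ 2 ^ n₃ = w⁻¹ :=
    hU.eq_or hL hwU hw4 l₃.w_mem l₃.orderOf_w hT₃ hwT₃ (T₃.pow_mem l₃.gq.c_mem.2 _)
  have hyw₃ : y * c₃ ^ 2 ^ n₃ = c₃ ^ 2 ^ n₃ * y := by
    rcases hw₃ with h1 | h1
    · rw [h1]; exact hyw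
    · rw [h1]; exact (Commute.inv_right hyw : Commute y w⁻¹).eq
  have hsw₃ : s * c₃ ^ 2 ^ n₃ = c₃ ^ 2 ^ n₃ * s := by
    rcases hw₃ with h1 | h1
    · rw [h1]; exact hsw
    · rw [h1]; exact (Commute.inv_right hsw : Commute s w⁻¹).eq
  have hnotinv : ∀ g : G, g * c₃ ^ 2 ^ n₃ = c₃ ^ 2 ^ n₃ * g → g * c₃ ^ 2 ^ n₃ * g⁻¹ ≠ (c₃ ^ 2 ^ n₃)⁻¹ := by
    intro g hg h1
    rw [hg, mul_inv_cancel_right, ← mul_eq_one_iff_eq_inv, l₃.w_sq] at h1
    exact l₃.gq.z_ne h1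
  obtain ⟨a, b, ha, hb, hab'⟩ := l₃.act h hU hT₃ hLT₃ hyT₃ hyL
  obtain ⟨a', b', ha', hb', hab''⟩ := l₃.act h hU hT₃ hLT₃ hsT₃ hsL
  have ha1 : a % 4 = 1 := by
    rcases hab' with ⟨-, h1⟩ | ⟨h1, -⟩
    · exact h1
    · exact absurd h1 (hnotinv y hyw₃)
  have ha1' : a' % 4 = 1 := by
    rcases hab'' with ⟨-, h1⟩ | ⟨h1, -⟩
    · exact h1
    · exact absurd h1 (hnotinv s hsw₃)
  have hrel : y * s * y = s := by
    calc y * s * y = (y * s * y⁻¹) * (y * y) := by group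
      _ = s⁻¹ * (s * s) := by rw [hys, hyy, hss]
      _ = s := by group
  have hcy : ∀ i : ℕ, y * c₃ ^ i * y⁻¹ = c₃ ^ (a * i) := fun i => by rw [← conj_pow, ha, pow_mul]
  have hcs : ∀ i : ℕ, s * c₃ ^ i * s⁻¹ = c₃ ^ (a' * i) := fun i => by rw [← conj_pow, ha', pow_mul]
  have h1 : v₃ * c₃ ^ b' = v₃ * c₃ ^ (b + a * (b' + a' * b)) := by
    calc v₃ * c₃ ^ b' = s * v₃ * s⁻¹ := hb'.symm
      _ = (y * s * y) * v₃ * (y * s * y)⁻¹ := by rw [hrel]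
      _ = y * (s * (y * v₃ * y⁻¹) * s⁻¹) * y⁻¹ := by group
      _ = y * (s * (v₃ * c₃ ^ b) * s⁻¹) * y⁻¹ := by rw [hb]
      _ = y * ((s * v₃ * s⁻¹) * (s * c₃ ^ b * s⁻¹)) * y⁻¹ := by group
      _ = y * (v₃ * c₃ ^ (b' + a' * b)) * y⁻¹ := by rw [hb', hcs, mul_assoc v₃, ← pow_add]
      _ = (y * v₃ * y⁻¹) * (y * c₃ ^ (b' + a' * b) * y⁻¹) := by group
      _ = _ := by rw [hb, hcy, mul_assoc v₃, ← pow_add]
  have h2 := mul_left_cancel h1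
  rw [pow_inj_mod, l₃.gq.ord] at h2
  have hd4 : (4 : ℕ) ∣ 2 ^ (n₃ + 2) := by
    rw [pow_add]
    exact dvd_mul_left _ _
  have h3 : b' % 4 = (b + a * (b' + a' * b)) % 4 := by
    rw [← Nat.mod_mod_of_dvd b' hd4, h2, Nat.mod_mod_of_dvd _ hd4]
  have hev : Even b := by
    obtain ⟨k, hk⟩ : ∃ k, a = 4 * k + 1 := ⟨a / 4, by omega⟩
    obtain ⟨k', hk'⟩ : ∃ k', a' = 4 * k' + 1 := ⟨a' / 4, by omega⟩
    have h4 : b + a * (b' + a' * b) = 4 * (k * (b' + a' * b) + k' * b) + (2 * b + b') := by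
      rw [hk, hk']; ring
    rw [h4] at h3
    rw [Nat.even_iff]
    omega
  refine ⟨(c₃ ^ 2 ^ n₃, v₃), ⟨l₃.w_mem, l₃.orderOf_w, l₃.gq.v_mem.1, v_not_mem_XX h hU hT₃ hLT₃ l₃.gq l₃.w_mem⟩, ?_⟩
  simp only
  rw [dl_coord h hU hT₃ hLT₃ l₃ hyT₃ hb]
  simp [sg, hyw₃, hev]

/-- elements of order four outside `XX U K` -/
theorem exists_hom : ∃ f : G →* ℤˣ, ∀ K ∈ Om, ∀ y ∈ K, orderOf y = 4 → y ∉ XX U K → f y = -1 := by
  classical
  haveI : Fintype {L // L ∈ Om} := Fintype.ofFinite _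
  refine ⟨(cover h hU).f, fun K hK y hy hy4 hyX => ?_⟩
  have hyy : y * y = zz K := h.sq_eq_zz hK hy hy4
  refine (cover h hU).f_eq (y := y) (by rw [hyy]; exact h.zz_mul hK) ?_ ⟨K, hK⟩ ?_ ?_ ?_
  · intro L hL
    have h1 : cj (y * y) L.1 = L.1 := congrArg Subtype.val hL
    rw [← mem_normalizer_iff_cj, hyy] at h1
    rw [hyy]
    exact local_zz h hU hK L.2 h1
  · exact Subtype.ext (mem_normalizer_iff_cj.mp (le_normalizer hy))
  · exact local_self h hU hK hy hy4 hyX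
  · intro L hne hL
    have h1 : cj y L.1 = L.1 := congrArg Subtype.val hL
    rw [← mem_normalizer_iff_cj] at h1
    exact local_other h hU hK L.2 (fun hh => hne (Subtype.ext hh)) hy hy4 hyX h1

/-- **Theorem TAU** -/
theorem tau : ∃ f : G →* ℤˣ, ∀ K ∈ Om, ∀ x ∈ K, f x = 1 ↔ x ∈ XX U K := by
  obtain ⟨f, hf⟩ := exists_hom h hU
  have hodd : ∀ (N : Subgroup G), ¬ 2 ∣ Nat.card N → ∀ x ∈ N, f x = 1 := by
    intro N hN x hx
    rcases Int.units_eq_one_or (f x) with h1 | h1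
    · exact h1
    · exfalso
      have h2 : x ^ Nat.card N = 1 := by
        have := pow_card_eq_one' (G := N) (x := ⟨x, hx⟩)
        exact congrArg Subtype.val this
      have h3 := congrArg f h2
      rw [map_pow, h1, map_one, Odd.neg_one_pow (by rwa [← Nat.not_even_iff_odd, even_iff_two_dvd])] at h3
      exact absurd h3 (by decide)
  have hout : ∀ K ∈ Om, ∀ x ∈ K, x ∉ XX U K → f x = -1 := by
    intro K hK x hx hxX
    obtain ⟨T, hT, -, -, hKT⟩ := exists_T hK (P := ⊥) (IsPGroup.of_bot) bot_le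
    obtain ⟨c, v, n, ρ, l⟩ := exists_loc h hU hT hKT
    obtain ⟨o, ho, t, ht, rfl⟩ := decomp h hU hT hKT hx
    have htX : t ∉ XX U K := fun hh => hxX ((XX U K).mul_mem (OO_le_XX K (hU.le K hK) ho) hh)
    have ht4 : orderOf t = 4 := by
      rcases l.gq.cov t ht with h1 | ⟨i, h1⟩
      · exact absurd ((mem_XX_coord h hU hT hKT l.gq l.w_mem ht).mpr h1) htX
      · rw [h1]; exact l.gq.orderOf_out i
    rw [map_mul, hodd _ (odd_OO K) o ho, one_mul]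
    exact hf K hK t ht.1 ht4 htX
  refine ⟨f, fun K hK x hx => ⟨fun h1 => ?_, fun h1 => ?_⟩⟩
  · by_contra h2
    rw [hout K hK x hx h2] at h1
    exact absurd h1 (by decide)
  · obtain ⟨T, hT, -, -, hKT⟩ := exists_T hK (P := ⊥) (IsPGroup.of_bot) bot_le
    obtain ⟨c, v, n, ρ, l⟩ := exists_loc h hU hT hKT
    have hv := v_not_mem_XX h hU hT hKT l.gq l.w_mem
    have hvx : v * x ∉ XX U K := fun hh => hv (((XX U K).mul_mem_cancel_right h1).mp hh)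
    have h3 := hout K hK _ (K.mul_mem l.gq.v_mem.1 hx) hvx
    rw [map_mul, hout K hK v l.gq.v_mem.1 hv] at h3
    exact (mul_eq_left.mp h3)

end

end Cfsg.Agent.Cit.TauMain
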