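import Cfsg.Agent.Cit.Quat
import Cfsg.Agent.SylowG2.Coord
import Cfsg.Agent.Lib.NormalAbelian
import Cfsg.Prelude.Def_CaseTheorems

/-!
# One classical involution, type W, the end game

A `W` pair `(z, t)`: `t` acts on the quaternion group `Q` (normal in the Sylow 2-subgroup `S`, `z` its involution)
as an inner element of order 4 modulo the centre.  If no involution centralises `Q` and `Q'` then `S` is wreathed
or a Sylow 2-subgroup of `G₂(q)`.
-/

set_option autoImplicit false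

namespace Cfsg.Agent.Cit.OneEndW

open Subgroup

variable {G : Type*} [Group G]

section gq

variable {Q : Subgroup G} {c v z : G} {n : ℕ}

theorem zpow_one_iff (h : GQ Q c v z n) {k : ℤ} : c ^ k = 1 ↔ (2 ^ (n + 2) : ℤ) ∣ k := by
  rw [← orderOf_dvd_iff_zpow_eq_one, h.ord]
  push_cast
  rfl

theorem v_zpow (h : GQ Q c v z n) (k : ℤ) : v * c ^ k * v⁻¹ = c ^ (-k) := by
  have h1 : v * c ^ k * v⁻¹ = (v * c * v⁻¹) ^ k := by rw [conj_zpow]
  rw [h1, h.conj, inv_zpow, zpow_neg]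

theorem v_zpow' (h : GQ Q c v z n) (k : ℤ) : v * c ^ k = c ^ (-k) * v := by
  rw [← v_zpow h k]; group

theorem zpow_v (h : GQ Q c v z n) (k : ℤ) : c ^ k * v = v * c ^ (-k) := by
  rw [v_zpow' h (-k), neg_neg]

theorem cov' (h : GQ Q c v z n) : ∀ x ∈ Q, (∃ i : ℤ, x = c ^ i) ∨ (∃ i : ℤ, x = v * c ^ i) := by
  intro x hx
  rcases h.cov x hx with ⟨i, hi⟩ | ⟨i, hi⟩
  · exact Or.inl ⟨i, by rw [hi, zpow_natCast]⟩
  · exact Or.inr ⟨i, by rw [hi, zpow_natCast]⟩

theorem v_ne (h : GQ Q c v z n) (k : ℤ) : v ≠ c ^ k := by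
  intro hv
  apply h.not_comm
  rw [hv]
  exact ((Commute.refl c).zpow_left k).eq

theorem z_eq' (h : GQ Q c v z n) : c ^ ((2 : ℤ) ^ (n + 1)) = z := by
  rw [← h.z_eq, ← zpow_natCast]
  push_cast
  rfl

theorem z_eq_odd (h : GQ Q c v z n) {l : ℤ} (hl : Odd l) : c ^ (l * (2 : ℤ) ^ (n + 1)) = z := by
  obtain ⟨k, rfl⟩ := hl
  rw [add_mul, one_mul, zpow_add, z_eq' h, show 2 * k * (2 : ℤ) ^ (n + 1) = 2 ^ (n + 2) * k by ring,
    (zpow_one_iff h).2 (Dvd.intro _ rfl), one_mul]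

theorem zc (h : GQ Q c v z n) : z * c = c * z := by
  rw [← z_eq' h]; exact ((Commute.refl c).zpow_left _).eq

theorem zv (h : GQ Q c v z n) : z * v = v * z := by
  rw [← h.v_sq]; group

theorem comm_of (h : GQ Q c v z n) {s : G} (h1 : s * c = c * s) (h2 : s * v = v * s) :
    ∀ x ∈ Q, s * x = x * s := by
  have hc : ∀ k : ℤ, Commute s (c ^ k) := fun k => Commute.zpow_right h1 k
  intro x hx
  rcases cov' h x hx with ⟨i, rfl⟩ | ⟨i, rfl⟩
  · exact (hc i).eq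
  · exact (Commute.mul_right h2 (hc i)).eq

/-- a nontrivial 2-element of a quaternion group has the involution as a power -/
theorem exists_pow (h : GQ Q c v z n) {x : G} (hx : x ∈ Q) (hx1 : x ≠ 1) : ∃ k : ℕ, x ^ k = z := by
  by_cases h2 : x * x = 1
  · exact ⟨1, by rw [pow_one]; exact h.eq_z hx h2 hx1⟩
  rcases h.cov x hx with ⟨i, rfl⟩ | ⟨i, rfl⟩
  · -- the order of `c ^ i`
    have h3 : orderOf (c ^ i) ∣ 2 ^ (n + 2) := by
      apply orderOf_dvd_of_pow_eq_one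
      rw [← pow_mul, mul_comm, pow_mul, ← h.ord, pow_orderOf_eq_one, one_pow]
    obtain ⟨j, -, hj⟩ := (Nat.dvd_prime_pow Nat.prime_two).1 h3
    rcases j with _ | j
    · exfalso
      apply hx1
      rw [← orderOf_eq_one_iff, hj, pow_zero]
    · refine ⟨2 ^ j, h.eq_z (Q.pow_mem hx _) ?_ ?_⟩
      · rw [← pow_add, ← two_mul, ← pow_succ', ← hj, pow_orderOf_eq_one]
      · intro h4
        have := Nat.le_of_dvd (by positivity) (orderOf_dvd_of_pow_eq_one h4)
        rw [hj] at this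
        have h5 : 2 ^ j < 2 ^ (j + 1) := Nat.pow_lt_pow_right (by norm_num) (by omega)
        omega
  · exact ⟨2, by rw [pow_two]; exact h.sq_out i⟩

end gq

theorem conj_zpow_of {a b x : G} (hx : a * x = x * a) (h : a * b * a⁻¹ = b * x) (k : ℤ) :
    a ^ k * b * (a ^ k)⁻¹ = b * x ^ k := by
  have h1 : b⁻¹ * a * b = x * a := by
    calc b⁻¹ * a * b = b⁻¹ * (a * b * a⁻¹) * a := by group
      _ = x * a := by rw [h]; group
  have h2 : b⁻¹ * a ^ k * b = (b⁻¹ * a * b) ^ k := by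
    have := conj_zpow (i := k) (a := b⁻¹) (b := a)
    rw [inv_inv] at this
    exact this.symm
  have h3 : (x * a) ^ k = x ^ k * a ^ k := (show Commute x a from hx.symm).mul_zpow k
  calc a ^ k * b * (a ^ k)⁻¹ = b * (b⁻¹ * a ^ k * b) * (a ^ k)⁻¹ := by group
    _ = b * x ^ k := by rw [h2, h1, h3]; group

/-- an element of `P - ⟨z⟩`, central modulo `⟨z⟩` -/
theorem exists_almost_central [Finite G] {S P : Subgroup G} {z y : G} (hS : IsPGroup 2 S) (hPS : P ≤ S)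
    (hn : ∀ s ∈ S, ∀ p ∈ P, s * p * s⁻¹ ∈ P) (hz : z ∈ P) (hzc : ∀ s ∈ S, s * z = z * s) (hz2 : z * z = 1)
    (hy : y ∈ P) (hy1 : y ≠ 1) (hyz : y ≠ z) :
    ∃ u ∈ P, u ≠ 1 ∧ u ≠ z ∧ (u * u = 1 ∨ u * u = z) ∧ ∀ s ∈ S, s * u * s⁻¹ = u ∨ s * u * s⁻¹ = u * z := by
  have : Fact (Nat.Prime 2) := ⟨Nat.prime_two⟩
  have hzS : z ∈ S := hPS hz
  let z' : S := ⟨z, hzS⟩
  let Z : Subgroup S := zpowers z'
  have hZmem : ∀ x : S, x ∈ Z → (x : G) = 1 ∨ (x : G) = z := by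
    have hzz : z' * z' = 1 := Subtype.ext hz2
    rintro x ⟨k, rfl⟩
    rcases Int.even_or_odd k with ⟨j, rfl⟩ | ⟨j, rfl⟩
    · left
      have : z' ^ (j + j) = 1 := by rw [zpow_add, ← (Commute.refl z').mul_zpow, hzz, one_zpow]
      show ((z' ^ (j + j) : S) : G) = 1
      rw [this]; rfl
    · right
      have : z' ^ (2 * j + 1) = z' := by
        rw [zpow_add, zpow_one, two_mul, zpow_add, ← (Commute.refl z').mul_zpow, hzz, one_zpow, one_mul]
      show ((z' ^ (2 * j + 1) : S) : G) = z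
      rw [this]
  have hZn : Z.Normal := by
    refine ⟨fun x hx g => ?_⟩
    have : g * x * g⁻¹ = x := by
      rcases hZmem x hx with h | h
      · have : x = 1 := Subtype.ext h
        rw [this]; group
      · apply Subtype.ext
        simp only [Subgroup.coe_mul, InvMemClass.coe_inv, h, hzc g g.2]
        group
    rw [this]; exact hx
  have : (P.subgroupOf S).Normal := by
    refine ⟨fun x hx g => ?_⟩
    rw [mem_subgroupOf] at hx ⊢
    exact hn g g.2 x hx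
  let π : S →* (S ⧸ Z) := QuotientGroup.mk' Z
  have hπs : Function.Surjective π := QuotientGroup.mk'_surjective Z
  have hN : ((P.subgroupOf S).map π).Normal := Subgroup.Normal.map inferInstance π hπs
  have hpi1 : ∀ x : S, π x = 1 ↔ x ∈ Z := fun x => by
    show (QuotientGroup.mk' Z) x = 1 ↔ _
    rw [← MonoidHom.mem_ker, QuotientGroup.ker_mk']
  have hne : (P.subgroupOf S).map π ≠ ⊥ := by
    intro hb
    have h1 : π ⟨y, hPS hy⟩ ∈ (P.subgroupOf S).map π := mem_map_of_mem _ (by rw [mem_subgroupOf]; exact hy)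
    rw [hb, mem_bot, hpi1] at h1
    rcases hZmem _ h1 with h | h
    · exact hy1 h
    · exact hyz h
  have hp : IsPGroup 2 (S ⧸ Z) := hS.to_quotient Z
  have : Group.IsNilpotent (S ⧸ Z) := hp.isNilpotent
  have h1 := Cfsg.Agent.Lib.NormalAbelian.normal_inf_center_ne_bot ((P.subgroupOf S).map π) hne
  rw [Ne, Subgroup.eq_bot_iff_forall] at h1
  push Not at h1
  obtain ⟨x, hx, hx1⟩ := h1
  obtain ⟨k, hk⟩ := hp x
  -- an involution in `zpowers x`
  have h2 : ∃ j : ℕ, x ^ (2 ^ j) ≠ 1 ∧ x ^ (2 ^ (j + 1)) = 1 := by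
    have hex : ∃ k, x ^ 2 ^ k = 1 := ⟨k, hk⟩
    classical
    have hm := Nat.find_spec hex
    have hpos : Nat.find hex ≠ 0 := by
      intro h0
      rw [h0, pow_zero, pow_one] at hm
      exact hx1 hm
    obtain ⟨j, hj⟩ := Nat.exists_eq_succ_of_ne_zero hpos
    refine ⟨j, Nat.find_min hex (by omega), ?_⟩
    rw [hj] at hm; exact hm
  obtain ⟨j, hj1, hj2⟩ := h2
  set w : S ⧸ Z := x ^ (2 ^ j) with hw
  have hw2 : w * w = 1 := by rw [hw, ← pow_add, ← two_mul, ← pow_succ', hj2]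
  have hwm : w ∈ (P.subgroupOf S).map π ⊓ center (S ⧸ Z) := Subgroup.pow_mem _ hx _
  obtain ⟨⟨u, huP, hu⟩, hwc⟩ := hwm
  have hwc' : ∀ g, g * w = w * g := mem_center_iff.1 hwc
  refine ⟨u, by simpa [mem_subgroupOf] using huP, ?_, ?_, ?_, ?_⟩
  · intro h
    apply hj1
    rw [← hu, hpi1]
    have : u = 1 := Subtype.ext h
    rw [this]; exact Z.one_mem
  · intro h
    apply hj1
    rw [← hu, hpi1]
    have : u = z' := Subtype.ext h
    rw [this]; exact mem_zpowers z'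
  · have h3 : u * u ∈ Z := by rw [← hpi1, map_mul, hu, hw2]
    exact hZmem _ h3
  · intro s hs
    have h3 : (u⁻¹ * (⟨s, hs⟩ * u * ⟨s, hs⟩⁻¹) : S) ∈ Z := by
      rw [← hpi1, map_mul, map_mul, map_mul, map_inv, map_inv, hu, hwc']
      group
    rcases hZmem _ h3 with h | h
    · left
      simp only [Subgroup.coe_mul, InvMemClass.coe_inv] at h
      calc s * u * s⁻¹ = u * ((u : G)⁻¹ * (s * u * s⁻¹)) := by group
        _ = u := by rw [h, mul_one]
    · right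
      simp only [Subgroup.coe_mul, InvMemClass.coe_inv] at h
      calc s * u * s⁻¹ = u * ((u : G)⁻¹ * (s * u * s⁻¹)) := by group
        _ = u * z := by rw [h]

/-- solving a congruence -/
theorem exists_mul_eq {l : ℤ} (hl : Odd l) (N : ℕ) (i : ℤ) : ∃ k r : ℤ, k * l = i + 2 ^ N * r := by
  have h1 : IsCoprime l ((2 : ℤ) ^ N) := by
    apply IsCoprime.pow_right
    rw [Int.isCoprime_iff_gcd_eq_one]
    obtain ⟨k, rfl⟩ := hl
    have : Int.gcd (2 * k + 1) 2 = Int.gcd 1 2 := by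
      rw [show (2 * k + 1 : ℤ) = 1 + 2 * k by ring]
      simp
    rw [this]; rfl
  obtain ⟨a, b, hab⟩ := h1
  exact ⟨i * a, -(i * b), by linear_combination i * hab⟩

/-- the data of a `W` pair -/
structure WP (S Q Q' : Subgroup G) (c v z c' v' t : G) (n : ℕ) : Prop where
  two : IsPGroup 2 S
  gq : GQ Q c v z n
  gq' : GQ Q' c' v' t n
  Q_le : Q ≤ S
  nor : ∀ s ∈ S, ∀ q ∈ Q, s * q * s⁻¹ ∈ Q
  t_mem : t ∈ S
  c'_mem : c' ∈ S
  t_c : t * c = c * t
  t_v : t * v ≠ v * t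
  z_v' : z * v' ≠ v' * z
  nor' : ∀ s ∈ S, s * t = t * s → ∀ q ∈ Q', s * q * s⁻¹ ∈ Q'
  T_v' : ∀ s ∈ S, s * t = t * s → v' * s * v'⁻¹ ∈ S
  idx : ∀ s ∈ S, (∃ q ∈ Q, ∀ x ∈ Q, (q⁻¹ * s) * x = x * (q⁻¹ * s)) ∨
    ∃ q ∈ Q, ∀ x ∈ Q, (q⁻¹ * (c' * s)) * x = x * (q⁻¹ * (c' * s))
  F : ∀ f ∈ S, (∀ x ∈ Q, f * x = x * f) → (∀ x ∈ Q', f * x = x * f) → f = 1

namespace WP

variable {S Q Q' : Subgroup G} {c v z c' v' t : G} {n : ℕ}

section basic

variable (h : WP S Q Q' c v z c' v' t n)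
include h

theorem z_cen {s : G} (hs : s ∈ S) : s * z = z * s := by
  have h1 : s * z * s⁻¹ = z := by
    apply h.gq.eq_z (h.nor s hs z h.gq.z_mem)
    · calc s * z * s⁻¹ * (s * z * s⁻¹) = s * (z * z) * s⁻¹ := by group
        _ = 1 := by rw [h.gq.z_mul]; group
    · intro h2
      apply h.gq.z_ne
      calc z = s⁻¹ * (s * z * s⁻¹) * s := by group
        _ = 1 := by rw [h2]; group
  calc s * z = s * z * s⁻¹ * s := by group
    _ = z * s := by rw [h1]

theorem c_mem : c ∈ S := h.Q_le h.gq.c_mem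
theorem v_mem : v ∈ S := h.Q_le h.gq.v_mem
theorem z_mem : z ∈ S := h.Q_le h.gq.z_mem
theorem tt : t * t = 1 := h.gq'.z_mul
theorem tinv : t⁻¹ = t := h.gq'.z_inv

theorem z_c' : z * c' = c' * z := (h.z_cen h.c'_mem).symm
theorem z_t : z * t = t * z := (h.z_cen h.t_mem).symm
theorem c'_t : c' * t = t * c' := (zc h.gq').symm

theorem z_ne_t : z ≠ t := by
  intro hzt
  apply h.z_v'
  rw [hzt]; exact zv h.gq'

theorem t_zpow (k : ℤ) : t * c ^ k = c ^ k * t := (Commute.zpow_right (show Commute t c from h.t_c) k).eq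

/-- `t v t⁻¹ = v z` -/
theorem t_v_t : t * v * t⁻¹ = v * z := by
  rcases cov' h.gq _ (h.nor t h.t_mem v h.gq.v_mem) with ⟨i, hi⟩ | ⟨i, hi⟩
  · exfalso
    apply v_ne h.gq i
    calc v = t⁻¹ * (t * v * t⁻¹) * t := by group
      _ = t⁻¹ * (t * c ^ i) := by rw [hi, mul_assoc, ← h.t_zpow]
      _ = c ^ i := by group
  · rw [hi]
    congr 1
    have h1 : v = v * (c ^ i * c ^ i) := by
      calc v = t * (t * v * t⁻¹) * t⁻¹ := by
            have := h.tt
            calc v = (t * t) * v * (t * t)⁻¹ := by rw [this]; group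
              _ = t * (t * v * t⁻¹) * t⁻¹ := by group
        _ = t * (v * c ^ i) * t⁻¹ := by rw [hi]
        _ = (t * v * t⁻¹) * (t * c ^ i * t⁻¹) := by group
        _ = (v * c ^ i) * c ^ i := by
            rw [hi, h.t_zpow i]; group
        _ = v * (c ^ i * c ^ i) := by group
    have h2 : c ^ i * c ^ i = 1 := by
      calc c ^ i * c ^ i = v⁻¹ * (v * (c ^ i * c ^ i)) := by group
        _ = 1 := by rw [← h1]; group
    apply h.gq.eq_z (Q.zpow_mem h.gq.c_mem i) h2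
    intro h3
    apply h.t_v
    rw [h3, mul_one] at hi
    calc t * v = t * v * t⁻¹ * t := by group
      _ = v * t := by rw [hi]

/-- `Q ∩ Q' = 1` -/
theorem inf {x : G} (h1 : x ∈ Q) (h2 : x ∈ Q') : x = 1 := by
  by_contra hx
  obtain ⟨k, hk⟩ := exists_pow h.gq h1 hx
  obtain ⟨l, hl⟩ := exists_pow h.gq' h2 hx
  apply h.z_v'
  -- `x` commutes with `z`, `t`; both are powers of `x`
  have h3 : z = t := by
    have hz : z ∈ Q' := by rw [← hk]; exact Q'.pow_mem h2 k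
    exact h.gq'.eq_z hz h.gq.z_mul h.gq.z_ne
  rw [h3]; exact zv h.gq'

theorem cc' : c * c' = c' * c := by
  have h1 : c * c' * c⁻¹ ∈ Q' := h.nor' c h.c_mem h.t_c.symm c' h.gq'.c_mem
  have h2 : c' * c⁻¹ * c'⁻¹ ∈ Q := h.nor c' h.c'_mem _ (Q.inv_mem h.gq.c_mem)
  have h3 : c * c' * c⁻¹ * c'⁻¹ = 1 := by
    apply h.inf
    · have := Q.mul_mem h.gq.c_mem h2
      convert this using 1; group
    · exact Q'.mul_mem h1 (Q'.inv_mem h.gq'.c_mem)
  calc c * c' = c * c' * c⁻¹ * c'⁻¹ * (c' * c) := by group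
    _ = c' * c := by rw [h3, one_mul]

theorem comm_cc' (a b : ℤ) : Commute (c ^ a) (c' ^ b) :=
  Commute.zpow_zpow h.cc' a b

/-- `z v' z⁻¹ = v' t` -/
theorem z_v'_z : z * v' * z⁻¹ = v' * t := by
  have hzt : z * t = t * z := h.z_t
  rcases cov' h.gq' _ (h.nor' z h.z_mem hzt v' h.gq'.v_mem) with ⟨i, hi⟩ | ⟨i, hi⟩
  · exfalso
    apply v_ne h.gq' i
    have hc : Commute z (c' ^ i) := Commute.zpow_right (show Commute z c' from h.z_c') i
    calc v' = z⁻¹ * (z * v' * z⁻¹) * z := by group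
      _ = z⁻¹ * (z * c' ^ i) := by rw [hi, mul_assoc, hc.eq]
      _ = c' ^ i := by group
  · rw [hi]
    congr 1
    have hc : Commute z (c' ^ i) := Commute.zpow_right (show Commute z c' from h.z_c') i
    have h1 : v' = v' * (c' ^ i * c' ^ i) := by
      calc v' = z * (z * v' * z⁻¹) * z⁻¹ := by
            have := h.gq.z_mul
            calc v' = (z * z) * v' * (z * z)⁻¹ := by rw [this]; group
              _ = z * (z * v' * z⁻¹) * z⁻¹ := by group
        _ = z * (v' * c' ^ i) * z⁻¹ := by rw [hi]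
        _ = (z * v' * z⁻¹) * (z * c' ^ i * z⁻¹) := by group
        _ = (v' * c' ^ i) * c' ^ i := by
            rw [hi, hc.eq]; group
        _ = v' * (c' ^ i * c' ^ i) := by group
    have h2 : c' ^ i * c' ^ i = 1 := by
      calc c' ^ i * c' ^ i = v'⁻¹ * (v' * (c' ^ i * c' ^ i)) := by group
        _ = 1 := by rw [← h1]; group
    apply h.gq'.eq_z (Q'.zpow_mem h.gq'.c_mem i) h2
    intro h3
    apply h.z_v'
    rw [h3, mul_one] at hi
    calc z * v' = z * v' * z⁻¹ * z := by group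
      _ = v' * z := by rw [hi]

/-- generalities on an element acting on `v` by `v ↦ v c^l` -/
theorem exists_l : ∃ l : ℤ, Odd l ∧ c' * v * c'⁻¹ = v * c ^ l := by
  have hcc : ∀ k : ℤ, Commute c' (c ^ k) := fun k => Commute.zpow_right (show Commute c' c from h.cc'.symm) k
  rcases cov' h.gq _ (h.nor c' h.c'_mem v h.gq.v_mem) with ⟨i, hi⟩ | ⟨l, hl⟩
  · exfalso
    apply v_ne h.gq i
    calc v = c'⁻¹ * (c' * v * c'⁻¹) * c' := by group
      _ = c'⁻¹ * (c' * c ^ i) := by rw [hi, mul_assoc, (hcc i).eq]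
      _ = c ^ i := by group
  · refine ⟨l, ?_, hl⟩
    have h1 : ∀ k : ℕ, c' ^ k * v * (c' ^ k)⁻¹ = v * c ^ (l * k) := by
      intro k
      induction k with
      | zero => simp
      | succ k ih =>
        calc c' ^ (k + 1) * v * (c' ^ (k + 1))⁻¹ = c' * (c' ^ k * v * (c' ^ k)⁻¹) * c'⁻¹ := by
              rw [pow_succ']; group
          _ = c' * (v * c ^ (l * k)) * c'⁻¹ := by rw [ih]
          _ = (c' * v * c'⁻¹) * (c' * c ^ (l * k) * c'⁻¹) := by group
          _ = v * c ^ l * c ^ (l * k) := by rw [hl, (hcc _).eq]; group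
          _ = v * c ^ (l * ((k + 1 : ℕ) : ℤ)) := by
              rw [mul_assoc, ← zpow_add]; congr 2; push_cast; ring
    have h2 := h1 (2 ^ (n + 1))
    rw [h.gq'.z_eq, h.t_v_t] at h2
    have h3 : c ^ (l * ((2 ^ (n + 1) : ℕ) : ℤ) - 2 ^ (n + 1)) = 1 := by
      rw [zpow_sub, z_eq' h.gq, ← mul_left_cancel h2, mul_inv_cancel]
    rw [zpow_one_iff h.gq] at h3
    obtain ⟨k, hk⟩ := h3
    push_cast at hk
    have h4 : (2 : ℤ) ^ (n + 1) * (l - 1) = 2 ^ (n + 1) * (2 * k) := by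
      rw [show (2 : ℤ) ^ (n + 2) = 2 ^ (n + 1) * 2 by ring] at hk
      linear_combination hk
    have h5 := mul_left_cancel₀ (by positivity) h4
    exact ⟨k, by linarith⟩

theorem exists_l2 : ∃ l : ℤ, Odd l ∧ c * v' * c⁻¹ = v' * c' ^ l := by
  have hcc : ∀ k : ℤ, Commute c (c' ^ k) := fun k => Commute.zpow_right (show Commute c c' from h.cc') k
  rcases cov' h.gq' _ (h.nor' c h.c_mem h.t_c.symm v' h.gq'.v_mem) with ⟨i, hi⟩ | ⟨l, hl⟩
  · exfalso
    apply v_ne h.gq' i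
    calc v' = c⁻¹ * (c * v' * c⁻¹) * c := by group
      _ = c⁻¹ * (c * c' ^ i) := by rw [hi, mul_assoc, (hcc i).eq]
      _ = c' ^ i := by group
  · refine ⟨l, ?_, hl⟩
    have h1 : ∀ k : ℕ, c ^ k * v' * (c ^ k)⁻¹ = v' * c' ^ (l * k) := by
      intro k
      induction k with
      | zero => simp
      | succ k ih =>
        calc c ^ (k + 1) * v' * (c ^ (k + 1))⁻¹ = c * (c ^ k * v' * (c ^ k)⁻¹) * c⁻¹ := by
              rw [pow_succ']; group
          _ = c * (v' * c' ^ (l * k)) * c⁻¹ := by rw [ih]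
          _ = (c * v' * c⁻¹) * (c * c' ^ (l * k) * c⁻¹) := by group
          _ = v' * c' ^ l * c' ^ (l * k) := by rw [hl, (hcc _).eq]; group
          _ = v' * c' ^ (l * ((k + 1 : ℕ) : ℤ)) := by
              rw [mul_assoc, ← zpow_add]; congr 2; push_cast; ring
    have h2 := h1 (2 ^ (n + 1))
    rw [h.gq.z_eq, h.z_v'_z] at h2
    have h3 : c' ^ (l * ((2 ^ (n + 1) : ℕ) : ℤ) - 2 ^ (n + 1)) = 1 := by
      rw [zpow_sub, z_eq' h.gq', ← mul_left_cancel h2, mul_inv_cancel]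
    rw [zpow_one_iff h.gq'] at h3
    obtain ⟨k, hk⟩ := h3
    push_cast at hk
    have h4 : (2 : ℤ) ^ (n + 1) * (l - 1) = 2 ^ (n + 1) * (2 * k) := by
      rw [show (2 : ℤ) ^ (n + 2) = 2 ^ (n + 1) * 2 by ring] at hk
      linear_combination hk
    have h5 := mul_left_cancel₀ (by positivity) h4
    exact ⟨k, by linarith⟩

end basic

/-! ### (c), (d): `P ∩ T = ⟨y₀⟩` -/

section cd

variable (h : WP S Q Q' c v z c' v' t n)
include h

theorem y0_c (l : ℤ) : c ^ l * c' ^ (2 : ℤ) * c = c * (c ^ l * c' ^ (2 : ℤ)) := by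
  have h1 : Commute (c ^ l) c := (Commute.refl c).zpow_left l
  have h2 : Commute (c' ^ (2 : ℤ)) c := Commute.zpow_left (show Commute c' c from h.cc'.symm) 2
  exact (h1.mul_left h2).eq

theorem y0_c' (l : ℤ) : c ^ l * c' ^ (2 : ℤ) * c' = c' * (c ^ l * c' ^ (2 : ℤ)) := by
  have h1 : Commute (c' ^ (2 : ℤ)) c' := (Commute.refl c').zpow_left 2
  have h2 : Commute (c ^ l) c' := Commute.zpow_left (show Commute c c' from h.cc') l
  exact (h2.mul_left h1).eq

theorem y0_v {l : ℤ} (hl : c' * v * c'⁻¹ = v * c ^ l) : c ^ l * c' ^ (2 : ℤ) * v = v * (c ^ l * c' ^ (2 : ℤ)) := by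
  have hcc : c' * c ^ l = c ^ l * c' := (Commute.zpow_right (show Commute c' c from h.cc'.symm) l).eq
  have h1 := conj_zpow_of hcc hl 2
  have h2 : c' ^ (2 : ℤ) * v = v * (c ^ l) ^ (2 : ℤ) * c' ^ (2 : ℤ) := by
    rw [← h1]; group
  rw [mul_assoc, h2, ← zpow_mul, ← mul_assoc, ← mul_assoc, zpow_v h.gq, mul_assoc v, ← zpow_add,
    show -l + l * 2 = l by ring, mul_assoc]

theorem y0_v' {l l2 : ℤ} (hl2 : c * v' * c⁻¹ = v' * c' ^ l2) :
    (c ^ l * c' ^ (2 : ℤ)) * v' * (c ^ l * c' ^ (2 : ℤ))⁻¹ = v' * c' ^ (l * l2 - 4) := by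
  have hcc : c * c' ^ l2 = c' ^ l2 * c := (Commute.zpow_right (show Commute c c' from h.cc') l2).eq
  have h1 := conj_zpow_of hcc hl2 l
  have hcc2 : Commute (c ^ l) (c' ^ (-4 : ℤ)) := h.comm_cc' l (-4)
  calc (c ^ l * c' ^ (2 : ℤ)) * v' * (c ^ l * c' ^ (2 : ℤ))⁻¹
      = c ^ l * (c' ^ (2 : ℤ) * v') * c' ^ (-2 : ℤ) * (c ^ l)⁻¹ := by group
    _ = c ^ l * (v' * c' ^ (-2 : ℤ)) * c' ^ (-2 : ℤ) * (c ^ l)⁻¹ := by rw [zpow_v h.gq' 2]
    _ = c ^ l * v' * (c' ^ (-4 : ℤ)) * (c ^ l)⁻¹ := by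
        rw [show (-4 : ℤ) = -2 + -2 by norm_num, zpow_add]; group
    _ = c ^ l * v' * (c ^ l)⁻¹ * (c ^ l * c' ^ (-4 : ℤ) * (c ^ l)⁻¹) := by group
    _ = v' * (c' ^ l2) ^ l * c' ^ (-4 : ℤ) := by rw [h1, hcc2.eq]; group
    _ = v' * c' ^ (l * l2 - 4) := by
        rw [← zpow_mul, mul_assoc, ← zpow_add]; congr 2; ring

theorem y0_pow {l : ℤ} (hl : Odd l) : (c ^ l * c' ^ (2 : ℤ)) ^ ((2 : ℤ) ^ (n + 1)) = z := by
  rw [(h.comm_cc' l 2).mul_zpow, ← zpow_mul, z_eq_odd h.gq hl, ← zpow_mul,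
    (zpow_one_iff h.gq').2 ⟨1, by ring⟩, mul_one]

theorem y0_mem (l : ℤ) : c ^ l * c' ^ (2 : ℤ) ∈ S :=
  S.mul_mem (S.zpow_mem h.c_mem l) (S.zpow_mem h.c'_mem 2)

/-- `x ∈ Q'` centralising `Q` is trivial -/
theorem eq_one_of_cent {x : G} (hx : x ∈ Q') (_hc : x * c = c * x) (hv : x * v = v * x) : x = 1 := by
  by_contra hx1
  obtain ⟨k, hk⟩ := exists_pow h.gq' hx hx1
  apply h.t_v
  rw [← hk]
  exact (Commute.pow_left (show Commute x v from hv) k).eq

theorem comm_c'_of {p : G} (hp : p ∈ S) (hc : p * c = c * p) (hv : p * v = v * p) (ht : p * t = t * p) :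
    p * c' = c' * p := by
  have h1 : p * c' * p⁻¹ * c'⁻¹ = 1 := by
    apply h.eq_one_of_cent (Q'.mul_mem (h.nor' p hp ht c' h.gq'.c_mem) (Q'.inv_mem h.gq'.c_mem))
    · have e1 : p⁻¹ * c = c * p⁻¹ := by
        calc p⁻¹ * c = p⁻¹ * (c * p) * p⁻¹ := by group
          _ = c * p⁻¹ := by rw [← hc]; group
      have e2 : c'⁻¹ * c = c * c'⁻¹ := by
        calc c'⁻¹ * c = c'⁻¹ * (c * c') * c'⁻¹ := by group
          _ = c * c'⁻¹ := by rw [h.cc']; group
      calc p * c' * p⁻¹ * c'⁻¹ * c = p * c' * p⁻¹ * (c'⁻¹ * c) := by group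
        _ = p * c' * (p⁻¹ * c) * c'⁻¹ := by rw [e2]; group
        _ = p * (c' * c) * p⁻¹ * c'⁻¹ := by rw [e1]; group
        _ = (p * c) * c' * p⁻¹ * c'⁻¹ := by rw [← h.cc']; group
        _ = c * (p * c' * p⁻¹ * c'⁻¹) := by rw [hc]; group
    · -- `u = c'⁻¹ v c' ∈ Q` commutes with `p`
      have hu : c'⁻¹ * v * c' ∈ Q := by
        have := h.nor c'⁻¹ (S.inv_mem h.c'_mem) v h.gq.v_mem
        simpa using this
      have hpu := comm_of h.gq hc hv _ hu
      have e1 : p⁻¹ * (c'⁻¹ * v * c') = (c'⁻¹ * v * c') * p⁻¹ := by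
        calc p⁻¹ * (c'⁻¹ * v * c') = p⁻¹ * ((c'⁻¹ * v * c') * p) * p⁻¹ := by group
          _ = (c'⁻¹ * v * c') * p⁻¹ := by rw [← hpu]; group
      calc p * c' * p⁻¹ * c'⁻¹ * v = p * c' * (p⁻¹ * (c'⁻¹ * v * c')) * c'⁻¹ := by group
        _ = (p * v) * c' * p⁻¹ * c'⁻¹ := by rw [e1]; group
        _ = v * (p * c' * p⁻¹ * c'⁻¹) := by rw [hv]; group
  calc p * c' = p * c' * p⁻¹ * c'⁻¹ * (c' * p) := by group
    _ = c' * p := by rw [h1, one_mul]

/-- `P ∩ T = ⟨y₀⟩` -/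
theorem eq_zpow_of {l : ℤ} (hlo : Odd l) (hl : c' * v * c'⁻¹ = v * c ^ l) {p : G} (hp : p ∈ S)
    (hc : p * c = c * p) (hv : p * v = v * p) (ht : p * t = t * p) :
    ∃ k : ℤ, p = (c ^ l * c' ^ (2 : ℤ)) ^ k := by
  obtain ⟨l2, hl2o, hl2⟩ := h.exists_l2
  have hpc' := h.comm_c'_of hp hc hv ht
  set y0 : G := c ^ l * c' ^ (2 : ℤ) with hy0
  obtain ⟨i, hi⟩ : ∃ i : ℤ, p * v' * p⁻¹ = v' * c' ^ i := by
    rcases cov' h.gq' _ (h.nor' p hp ht v' h.gq'.v_mem) with ⟨i, hi⟩ | ⟨i, hi⟩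
    · exfalso
      apply v_ne h.gq' i
      have h1 : Commute p (c' ^ i) := Commute.zpow_right (show Commute p c' from hpc') i
      calc v' = p⁻¹ * (p * v' * p⁻¹) * p := by group
        _ = p⁻¹ * (p * c' ^ i) := by rw [hi, mul_assoc, h1.eq]
        _ = c' ^ i := by group
    · exact ⟨i, hi⟩
  have hodd : Odd (l * l2 - 4) := by
    have : Odd (l * l2) := hlo.mul hl2o
    exact this.sub_even (by decide)
  obtain ⟨k, r, hkr⟩ := exists_mul_eq hodd (n + 2) i
  refine ⟨k, ?_⟩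
  have hy0v' : y0 ^ k * v' * (y0 ^ k)⁻¹ = v' * c' ^ i := by
    have h1 : y0 * c' ^ (l * l2 - 4) = c' ^ (l * l2 - 4) * y0 :=
      (Commute.zpow_right (show Commute y0 c' from h.y0_c' l) _).eq
    rw [conj_zpow_of h1 (h.y0_v' hl2) k, ← zpow_mul, show (l * l2 - 4) * k = i + 2 ^ (n + 2) * r by
      rw [← hkr]; ring, zpow_add, (zpow_one_iff h.gq').2 (Dvd.intro _ rfl), mul_one]
  have key : (y0 ^ k)⁻¹ * p = 1 := by
    have cy : ∀ {x : G}, y0 * x = x * y0 → Commute ((y0 ^ k)⁻¹) x := fun {x} hx =>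
      (Commute.zpow_left (show Commute y0 x from hx) k).inv_left
    apply h.F
    · exact S.mul_mem (S.inv_mem (S.zpow_mem (h.y0_mem l) k)) hp
    · refine comm_of h.gq ?_ ?_
      · exact ((cy (h.y0_c l)).mul_left (show Commute p c from hc)).eq
      · exact ((cy (h.y0_v hl)).mul_left (show Commute p v from hv)).eq
    · refine comm_of h.gq' ?_ ?_
      · exact ((cy (h.y0_c' l)).mul_left (show Commute p c' from hpc')).eq
      · have e1 : p * v' = v' * c' ^ i * p := by rw [← hi]; group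
        have e2 : y0 ^ k * v' = v' * c' ^ i * y0 ^ k := by rw [← hy0v']; group
        calc (y0 ^ k)⁻¹ * p * v' = (y0 ^ k)⁻¹ * (p * v') := by group
          _ = (y0 ^ k)⁻¹ * (v' * c' ^ i * y0 ^ k) * (y0 ^ k)⁻¹ * p := by rw [e1]; group
          _ = v' * ((y0 ^ k)⁻¹ * p) := by rw [← e2]; group
  calc p = y0 ^ k * ((y0 ^ k)⁻¹ * p) := by group
    _ = y0 ^ k := by rw [key, mul_one]

end cd

/-! ### (e): `T` acts on `⟨c⟩ × ⟨c'⟩` by scalars -/

section e

variable (h : WP S Q Q' c v z c' v' t n)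
include h

/-- `v t v⁻¹ = z t` -/
theorem v_t_v : v * t * v⁻¹ = z * t := by
  have h1 := h.t_v_t
  have h2 : z * v = v * z := zv h.gq
  have h3 : t * v = v * z * t := by rw [← h1]; group
  calc v * t * v⁻¹ = v * (z * z) * t * v⁻¹ := by rw [h.gq.z_mul]; group
    _ = (z * v) * (z * t) * v⁻¹ := by rw [h2]; group
    _ = z * (v * z * t) * v⁻¹ := by group
    _ = z * t := by rw [← h3]; group

theorem v_c'_v {l : ℤ} (hl : c' * v * c'⁻¹ = v * c ^ l) : v * c' * v⁻¹ = c ^ l * c' := by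
  have hcc : c' * c ^ l = c ^ l * c' := (Commute.zpow_right (show Commute c' c from h.cc'.symm) l).eq
  have h1 : c' * v = v * c ^ l * c' := by rw [← hl]; group
  have h2 : c' * v = c ^ (-l) * (v * c') := by
    rw [h1, ← mul_assoc (c ^ (-l)), zpow_v h.gq, neg_neg]
  calc v * c' * v⁻¹ = c ^ l * (c ^ (-l) * (v * c')) * v⁻¹ := by group
    _ = c ^ l * c' := by rw [← h2]; group

theorem scalar {s : G} (hs : s ∈ S) (hst : s * t = t * s) :
    ∃ a : ℤ, s * c * s⁻¹ = c ^ a ∧ s * c' * s⁻¹ = c' ^ a := by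
  obtain ⟨l, hlo, hl⟩ := h.exists_l
  -- `s` normalises `⟨c⟩`
  have hA : ∃ a : ℤ, s * c * s⁻¹ = c ^ a := by
    rcases cov' h.gq _ (h.nor s hs c h.gq.c_mem) with ⟨i, hi⟩ | ⟨i, hi⟩
    · exact ⟨i, hi⟩
    · exfalso
      apply h.t_v
      have e1 : Commute t (s * c * s⁻¹) :=
        ((show Commute t s from hst.symm).mul_right (show Commute t c from h.t_c)).mul_right
          (show Commute t s from hst.symm).inv_right
      rw [hi] at e1
      have e2 : Commute t (c ^ (-i)) := Commute.zpow_right (show Commute t c from h.t_c) _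
      have e3 : Commute t (v * c ^ i * c ^ (-i)) := e1.mul_right e2
      rw [mul_assoc, ← zpow_add, add_neg_cancel, zpow_zero, mul_one] at e3
      exact e3.eq
  -- every element of `T` normalises `⟨c'⟩`
  have hB : ∀ s : G, s ∈ S → s * t = t * s → ∃ a : ℤ, s * c' * s⁻¹ = c' ^ a := by
    intro s hs hst
    rcases cov' h.gq' _ (h.nor' s hs hst c' h.gq'.c_mem) with ⟨i, hi⟩ | ⟨i, hi⟩
    · exact ⟨i, hi⟩
    · exfalso
      apply h.z_v'
      have hzs : Commute z s := (h.z_cen hs).symm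
      have e1 : Commute z (s * c' * s⁻¹) := (hzs.mul_right (show Commute z c' from h.z_c')).mul_right hzs.inv_right
      rw [hi] at e1
      have e2 : Commute z (c' ^ (-i)) := Commute.zpow_right (show Commute z c' from h.z_c') _
      have e3 : Commute z (v' * c' ^ i * c' ^ (-i)) := e1.mul_right e2
      rw [mul_assoc, ← zpow_add, add_neg_cancel, zpow_zero, mul_one] at e3
      exact e3.eq
  obtain ⟨a, ha⟩ := hA
  obtain ⟨b, hb⟩ := hB s hs hst
  have hs1 : v⁻¹ * s * v ∈ S := S.mul_mem (S.mul_mem (S.inv_mem h.v_mem) hs) h.v_mem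
  have hs1t : v⁻¹ * s * v * t = t * (v⁻¹ * s * v) := by
    have e1 : v * t = z * t * v := by rw [← h.v_t_v]; group
    have e2 : v⁻¹ * (z * t) = t * v⁻¹ := by rw [← h.v_t_v]; group
    have e3 : s * z = z * s := h.z_cen hs
    calc v⁻¹ * s * v * t = v⁻¹ * s * (v * t) := by group
      _ = v⁻¹ * (s * z) * t * v := by rw [e1]; group
      _ = v⁻¹ * z * (s * t) * v := by rw [e3]; group
      _ = (v⁻¹ * (z * t)) * s * v := by rw [hst]; group
      _ = t * (v⁻¹ * s * v) := by rw [e2]; group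
  obtain ⟨b1, hb1⟩ := hB _ hs1 hs1t
  have hvc := h.v_c'_v hl
  -- `s (c^l c') s⁻¹ = (c^l c')^b1`
  have e4 : s * (c ^ l * c') * s⁻¹ = (c ^ l * c') ^ b1 := by
    calc s * (c ^ l * c') * s⁻¹ = v * ((v⁻¹ * s * v) * c' * (v⁻¹ * s * v)⁻¹) * v⁻¹ := by
          rw [← hvc]; group
      _ = v * c' ^ b1 * v⁻¹ := by rw [hb1]
      _ = (v * c' * v⁻¹) ^ b1 := by rw [conj_zpow]
      _ = (c ^ l * c') ^ b1 := by rw [hvc]
  have e5 : s * (c ^ l * c') * s⁻¹ = c ^ (a * l) * c' ^ b := by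
    calc s * (c ^ l * c') * s⁻¹ = (s * c ^ l * s⁻¹) * (s * c' * s⁻¹) := by group
      _ = (s * c * s⁻¹) ^ l * (s * c' * s⁻¹) := by rw [conj_zpow]
      _ = c ^ (a * l) * c' ^ b := by rw [ha, hb, ← zpow_mul]
  have hcl : Commute (c ^ l) c' := Commute.zpow_left (show Commute c c' from h.cc') l
  have e6 : c ^ (l * b1) * c' ^ b1 = c ^ (a * l) * c' ^ b := by
    rw [← e5, e4, hcl.mul_zpow, ← zpow_mul]
  have e7 : c ^ (l * b1 - a * l) = c' ^ (b - b1) := by
    rw [zpow_sub, zpow_sub]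
    calc c ^ (l * b1) * (c ^ (a * l))⁻¹ = (c ^ (l * b1) * c' ^ b1) * (c' ^ b1)⁻¹ * (c ^ (a * l))⁻¹ := by group
      _ = c ^ (a * l) * (c' ^ b * (c' ^ b1)⁻¹) * (c ^ (a * l))⁻¹ := by rw [e6]; group
      _ = c' ^ b * (c' ^ b1)⁻¹ := by
          rw [← zpow_sub c' b b1, (h.comm_cc' (a * l) (b - b1)).eq]; group
  have e8 : c' ^ (b - b1) = 1 :=
    h.inf (by rw [← e7]; exact Q.zpow_mem h.gq.c_mem _) (Q'.zpow_mem h.gq'.c_mem _)
  rw [e8] at e7
  rw [zpow_one_iff h.gq, show l * b1 - a * l = l * (b1 - a) by ring] at e7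
  have hcop : IsCoprime ((2 : ℤ) ^ (n + 2)) l := by
    apply IsCoprime.pow_left
    rw [Int.isCoprime_iff_gcd_eq_one]
    obtain ⟨k, rfl⟩ := hlo
    have : Int.gcd 2 (2 * k + 1) = Int.gcd 2 1 := by
      rw [show (2 * k + 1 : ℤ) = 1 + 2 * k by ring]
      simp
    rw [this]; rfl
  have e9 := hcop.dvd_of_dvd_mul_left e7
  have e10 : c ^ (b1 - a) = 1 := (zpow_one_iff h.gq).2 e9
  refine ⟨b1, ?_, ?_⟩
  · rw [ha]
    rw [zpow_sub] at e10
    exact (mul_inv_eq_one.1 e10).symm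
  · rw [hb]
    rw [zpow_sub] at e8
    exact mul_inv_eq_one.1 e8

theorem inv_of_inv {s : G} (hs : s ∈ S) (hst : s * t = t * s) (hc : s * c * s⁻¹ = c⁻¹) :
    s * c' * s⁻¹ = c'⁻¹ := by
  obtain ⟨a, ha, hb⟩ := h.scalar hs hst
  rw [hb]
  have h1 : c ^ (a + 1) = 1 := by
    rw [zpow_add_one, ← ha, hc, inv_mul_cancel]
  rw [zpow_one_iff h.gq, ← zpow_one_iff h.gq'] at h1
  rw [zpow_add_one] at h1
  exact mul_eq_one_iff_eq_inv.1 h1

end e

/-! ### (f), (g): `⟨y⟩` is normal in `S` -/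

section fg

variable (h : WP S Q Q' c v z c' v' t n)
include h

/-- the element `y` of order 4 -/
theorem exists_y : ∃ w y : G, w ∈ Q ∧ w * w = z ∧ w * c = c * w ∧ w * t = t * w ∧ t = w * y ∧ y ∈ S ∧
    y * c = c * y ∧ y * v = v * y ∧ y * t = t * y ∧ y * y = z := by
  have hwc : Commute (c ^ ((2 : ℤ) ^ n)) c := (Commute.refl c).zpow_left _
  have hwt : Commute (c ^ ((2 : ℤ) ^ n)) t := (Commute.zpow_right (show Commute t c from h.t_c) _).symm
  have hww : c ^ ((2 : ℤ) ^ n) * c ^ ((2 : ℤ) ^ n) = z := by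
    rw [← zpow_add, ← z_eq' h.gq]; congr 1; ring
  set w : G := c ^ ((2 : ℤ) ^ n) with hw
  refine ⟨w, w⁻¹ * t, Q.zpow_mem h.gq.c_mem _, hww, hwc.eq, hwt.eq, by group,
    S.mul_mem (S.inv_mem (S.zpow_mem h.c_mem _)) h.t_mem, ?_, ?_, ?_, ?_⟩
  · exact (hwc.inv_left.mul_left (show Commute t c from h.t_c)).eq
  · have h1 : t * v = v * z * t := by rw [← h.t_v_t]; group
    have h2 : w⁻¹ * v = v * w := by
      rw [hw, ← zpow_neg, zpow_v h.gq, neg_neg]
    have h3 : w * z = w⁻¹ := by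
      have h4 : w * z * w = 1 := by
        have hwz : Commute w z := by rw [← hww]; exact (Commute.refl w).mul_right (Commute.refl w)
        calc w * z * w = w * (z * w) := by group
          _ = w * w * z := by rw [← hwz.eq]; group
          _ = 1 := by rw [hww, h.gq.z_mul]
      exact eq_inv_of_mul_eq_one_left h4
    calc w⁻¹ * t * v = w⁻¹ * (t * v) := by group
      _ = (w⁻¹ * v) * z * t := by rw [h1]; group
      _ = v * (w * z) * t := by rw [h2]; group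
      _ = v * (w⁻¹ * t) := by rw [h3]; group
  · exact (hwt.inv_left.mul_left (Commute.refl t)).eq
  · calc w⁻¹ * t * (w⁻¹ * t) = w⁻¹ * (t * w⁻¹) * t := by group
      _ = w⁻¹ * w⁻¹ * (t * t) := by rw [← hwt.inv_left.eq]; group
      _ = (w * w)⁻¹ := by rw [h.tt]; group
      _ = z := by rw [hww, h.gq.z_inv]

theorem y0_one_iff {l : ℤ} (hl : Odd l) (k : ℤ) :
    (c ^ l * c' ^ (2 : ℤ)) ^ k = 1 ↔ (2 : ℤ) ^ (n + 2) ∣ k := by
  constructor
  · intro hk
    rw [(h.comm_cc' l 2).mul_zpow, ← zpow_mul, ← zpow_mul] at hk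
    have h1 : c ^ (l * k) = c' ^ (-(2 * k)) := by
      rw [zpow_neg]; exact mul_eq_one_iff_eq_inv.1 hk
    have h2 : c ^ (l * k) = 1 := h.inf (Q.zpow_mem h.gq.c_mem _) (by rw [h1]; exact Q'.zpow_mem h.gq'.c_mem _)
    rw [zpow_one_iff h.gq] at h2
    have hcop : IsCoprime ((2 : ℤ) ^ (n + 2)) l := by
      apply IsCoprime.pow_left
      rw [Int.isCoprime_iff_gcd_eq_one]
      obtain ⟨k, rfl⟩ := hl
      have : Int.gcd 2 (2 * k + 1) = Int.gcd 2 1 := by
        rw [show (2 * k + 1 : ℤ) = 1 + 2 * k by ring]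
        simp
      rw [this]; rfl
    exact hcop.dvd_of_dvd_mul_left h2
  · rintro ⟨r, rfl⟩
    rw [zpow_mul, show (2 : ℤ) ^ (n + 2) = 2 ^ (n + 1) * 2 by ring, zpow_mul, h.y0_pow hl,
      zpow_two, h.gq.z_mul, one_zpow]

/-- the elements `x` of `⟨y₀⟩` with `x⁴ = 1` -/
theorem y0_cases {l : ℤ} (hl : Odd l) {k : ℤ} {x : G} (hx : x = (c ^ l * c' ^ (2 : ℤ)) ^ k)
    (hx4 : x * x = 1 ∨ x * x = z) :
    x = 1 ∨ x = z ∨ x = (c ^ l * c' ^ (2 : ℤ)) ^ ((2 : ℤ) ^ n) ∨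
      x = (c ^ l * c' ^ (2 : ℤ)) ^ ((2 : ℤ) ^ n) * z := by
  set y0 : G := c ^ l * c' ^ (2 : ℤ) with hy0
  have h1 : y0 ^ (4 * k) = 1 := by
    rw [show 4 * k = k + k + (k + k) by ring, zpow_add, zpow_add, ← hx]
    rcases hx4 with h4 | h4
    · rw [h4, one_mul]
    · rw [h4, h.gq.z_mul]
  rw [hy0, h.y0_one_iff hl] at h1
  obtain ⟨r, hr⟩ := h1
  have h2 : k = 2 ^ n * r := by
    have : (4 : ℤ) * k = 4 * (2 ^ n * r) := by rw [hr]; ring
    exact mul_left_cancel₀ (by norm_num) this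
  have hz : y0 ^ ((2 : ℤ) ^ n * 2) = z := by
    rw [show (2 : ℤ) ^ n * 2 = 2 ^ (n + 1) by ring]; exact h.y0_pow hl
  have h3 : ∀ j : ℤ, y0 ^ ((2 : ℤ) ^ n * (4 * j)) = 1 := fun j => by
    rw [hy0, h.y0_one_iff hl]; exact ⟨j, by ring⟩
  have h4 : r = 4 * (r / 4) ∨ r = 4 * (r / 4) + 1 ∨ r = 4 * (r / 4) + 2 ∨ r = 4 * (r / 4) + 3 := by omega
  rw [hx, h2]
  rcases h4 with h4 | h4 | h4 | h4
  · left
    rw [h4, h3]
  · right; right; left
    rw [h4, mul_add, zpow_add, h3, one_mul, mul_one]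
  · right; left
    rw [h4, mul_add, zpow_add, h3, one_mul, hz]
  · right; right; right
    rw [h4, mul_add, zpow_add, h3, one_mul, show (2 : ℤ) ^ n * 3 = 2 ^ n + 2 ^ n * 2 by ring, zpow_add, hz]

theorem y_norm [Finite G] {y : G} (hyS : y ∈ S) (hyc : y * c = c * y)
    (hyv : y * v = v * y) (hyt : y * t = t * y) (hyy : y * y = z) :
    ∀ s ∈ S, s * y * s⁻¹ = y ∨ s * y * s⁻¹ = y * z := by
  obtain ⟨l, hlo, hl⟩ := h.exists_l
  have hcen : ∀ {p : G}, p ∈ S ⊓ centralizer (Q : Set G) ↔ p ∈ S ∧ p * c = c * p ∧ p * v = v * p := by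
    intro p
    rw [mem_inf, mem_centralizer_iff]
    constructor
    · rintro ⟨h1, h2⟩
      exact ⟨h1, (h2 c h.gq.c_mem).symm, (h2 v h.gq.v_mem).symm⟩
    · rintro ⟨h1, h2, h3⟩
      exact ⟨h1, fun x hx => (comm_of h.gq h2 h3 x hx).symm⟩
  have hzP : z ∈ S ⊓ centralizer (Q : Set G) := hcen.2 ⟨h.z_mem, zc h.gq, zv h.gq⟩
  have hyP : y ∈ S ⊓ centralizer (Q : Set G) := hcen.2 ⟨hyS, hyc, hyv⟩
  have hn : ∀ s ∈ S, ∀ p ∈ S ⊓ centralizer (Q : Set G), s * p * s⁻¹ ∈ S ⊓ centralizer (Q : Set G) := by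
    intro s hs p hp
    obtain ⟨hp1, hp2⟩ := mem_inf.1 hp
    refine mem_inf.2 ⟨S.mul_mem (S.mul_mem hs hp1) (S.inv_mem hs), ?_⟩
    rw [mem_centralizer_iff] at hp2 ⊢
    intro q hq
    have h1 : s⁻¹ * q * s ∈ Q := by simpa using h.nor s⁻¹ (S.inv_mem hs) q hq
    have h2 := hp2 _ h1
    calc q * (s * p * s⁻¹) = s * ((s⁻¹ * q * s) * p) * s⁻¹ := by group
      _ = s * p * s⁻¹ * q := by rw [h2]; group
  have hy1 : y ≠ 1 := by
    rintro rfl
    exact h.gq.z_ne (by rw [← hyy, mul_one])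
  have hyz : y ≠ z := by
    intro h1
    rw [h1, h.gq.z_mul] at hyy
    exact h.gq.z_ne hyy.symm
  obtain ⟨u, huP, hu1, huz, huu, hus⟩ :=
    exists_almost_central h.two inf_le_left hn hzP (fun s hs => h.z_cen hs) h.gq.z_mul hyP hy1 hyz
  obtain ⟨huS, huc, huv⟩ := hcen.1 huP
  -- `u` commutes with `t`
  have hut : u * t = t * u := by
    have hu2 : (c' * c') * u = u * (c' * c') := by
      have hzc' : z * c' = c' * z := h.z_c'
      rcases hus c' h.c'_mem with h1 | h1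
      · have h2 : c' * u = u * c' := by
          calc c' * u = c' * u * c'⁻¹ * c' := by group
            _ = u * c' := by rw [h1]
        calc c' * c' * u = c' * (c' * u) := by group
          _ = c' * (u * c') := by rw [h2]
          _ = (c' * u) * c' := by group
          _ = (u * c') * c' := by rw [h2]
          _ = u * (c' * c') := by group
      · have h2 : c' * u = u * z * c' := by
          calc c' * u = c' * u * c'⁻¹ * c' := by group
            _ = u * z * c' := by rw [h1]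
        calc c' * c' * u = c' * (c' * u) := by group
          _ = c' * (u * z * c') := by rw [h2]
          _ = (c' * u) * (z * c') := by group
          _ = (u * z * c') * (z * c') := by rw [h2]
          _ = u * z * (c' * z) * c' := by group
          _ = u * z * (z * c') * c' := by rw [hzc']
          _ = u * (z * z) * (c' * c') := by group
          _ = u * (c' * c') := by rw [h.gq.z_mul, mul_one]
    have h3 : t = (c' * c') ^ (2 ^ n) := by
      rw [← h.gq'.z_eq, ← pow_two, ← pow_mul, ← pow_succ']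
    rw [h3]
    exact ((show Commute u (c' * c') from hu2.symm).pow_right _).eq
  obtain ⟨k1, hk1⟩ := h.eq_zpow_of hlo hl huS huc huv hut
  obtain ⟨k2, hk2⟩ := h.eq_zpow_of hlo hl hyS hyc hyv hyt
  have hu := h.y0_cases hlo hk1 huu
  have hy := h.y0_cases hlo hk2 (Or.inr hyy)
  set y1 := (c ^ l * c' ^ (2 : ℤ)) ^ ((2 : ℤ) ^ n) with hy1d
  have hzz := h.gq.z_mul
  have huy : u = y ∨ u = y * z := by
    rcases hu with h1 | h1 | h1 | h1
    · exact absurd h1 hu1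
    · exact absurd h1 huz
    · rcases hy with h2 | h2 | h2 | h2
      · exact absurd h2 hy1
      · exact absurd h2 hyz
      · left; rw [h1, h2]
      · right; rw [h1, h2, mul_assoc, hzz, mul_one]
    · rcases hy with h2 | h2 | h2 | h2
      · exact absurd h2 hy1
      · exact absurd h2 hyz
      · right; rw [h1, h2]
      · left; rw [h1, h2]
  intro s hs
  rcases huy with rfl | rfl
  · exact hus s hs
  · have hsz := h.z_cen hs
    have e1 : s * (y * z) * s⁻¹ = s * y * s⁻¹ * z := by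
      have e2 : z * s⁻¹ = s⁻¹ * z := by
        calc z * s⁻¹ = s⁻¹ * (s * z) * s⁻¹ := by group
          _ = s⁻¹ * (z * s) * s⁻¹ := by rw [hsz]
          _ = s⁻¹ * z := by group
      calc s * (y * z) * s⁻¹ = s * y * (z * s⁻¹) := by group
        _ = s * y * (s⁻¹ * z) := by rw [e2]
        _ = s * y * s⁻¹ * z := by group
    rcases hus s hs with h1 | h1
    · left
      rw [e1] at h1
      calc s * y * s⁻¹ = s * y * s⁻¹ * z * z := by rw [mul_assoc _ z z, hzz, mul_one]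
        _ = y := by rw [h1, mul_assoc, hzz, mul_one]
    · right
      rw [e1] at h1
      calc s * y * s⁻¹ = s * y * s⁻¹ * z * z := by rw [mul_assoc _ z z, hzz, mul_one]
        _ = y * z := by rw [h1, mul_assoc _ z z, hzz, mul_one]

end fg

/-! ### (h): the element `t'` -/

section hh

variable (h : WP S Q Q' c v z c' v' t n)
include h

theorem comm_t_of {w y p : G} (hwQ : w ∈ Q) (hty : t = w * y) (hpc : p * c = c * p) (hpv : p * v = v * p)
    (hpy : p * y * p⁻¹ = y) : p * t = t * p := by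
  have h1 : p * w = w * p := comm_of h.gq hpc hpv w hwQ
  have h2 : p * y = y * p := mul_inv_eq_iff_eq_mul.1 hpy
  rw [hty]
  calc p * (w * y) = (p * w) * y := by group
    _ = w * (p * y) := by rw [h1]; group
    _ = w * y * p := by rw [h2]; group

/-- the involution `s₀ = v t'` inverting `⟨c, c'⟩` -/
theorem s0_props {w y t' : G} (hwQ : w ∈ Q) (hty : t = w * y)
    (hyy : y * y = z) (ht'S : t' ∈ S) (ht'c : t' * c = c * t') (ht'v : t' * v = v * t')
    (ht'y : t' * y * t'⁻¹ = y * z) :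
    (v * t') * t = t * (v * t') ∧ (v * t') * c = c⁻¹ * (v * t') ∧ (v * t') * c' = c'⁻¹ * (v * t') ∧
      (v * t') * (v * t') = 1 ∧ t' * t' = z ∧ t' * t = t * z * t' := by
  obtain ⟨l, hlo, hl⟩ := h.exists_l
  have hs0S : v * t' ∈ S := S.mul_mem h.v_mem ht'S
  have hzt' : t' * z = z * t' := h.z_cen ht'S
  have hzy : z * y = y * z := by rw [← hyy]; group
  have hzt : z * t = t * z := h.z_t
  have ht't : t' * t = t * z * t' := by
    have h1 : t' * w = w * t' := comm_of h.gq ht'c ht'v w hwQ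
    have h2 : t' * y = y * z * t' := mul_inv_eq_iff_eq_mul.1 ht'y
    calc t' * t = (t' * w) * y := by rw [hty]; group
      _ = w * (t' * y) := by rw [h1]; group
      _ = (w * y) * z * t' := by rw [h2]; group
      _ = t * z * t' := by rw [← hty]
  have hvt : v * t = z * t * v := mul_inv_eq_iff_eq_mul.1 h.v_t_v
  have hvz : z * v = v * z := zv h.gq
  have hs0t : (v * t') * t = t * (v * t') := by
    calc (v * t') * t = v * (t' * t) := by group
      _ = (v * t) * z * t' := by rw [ht't]; group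
      _ = z * t * (v * z) * t' := by rw [hvt]; group
      _ = (z * t) * z * v * t' := by rw [← hvz]; group
      _ = t * (z * z) * v * t' := by rw [hzt]; group
      _ = t * (v * t') := by rw [h.gq.z_mul]; group
  have hvc : v * c = c⁻¹ * v := mul_inv_eq_iff_eq_mul.1 h.gq.conj
  have hs0c : (v * t') * c = c⁻¹ * (v * t') := by
    calc (v * t') * c = v * (t' * c) := by group
      _ = (v * c) * t' := by rw [ht'c]; group
      _ = c⁻¹ * (v * t') := by rw [hvc]; group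
  have hs0c' : (v * t') * c' = c'⁻¹ * (v * t') := by
    have := h.inv_of_inv hs0S hs0t (by rw [hs0c]; group)
    exact mul_inv_eq_iff_eq_mul.1 this
  -- the square
  set s0 : G := v * t' with hs0
  have hsq : s0 * s0 = z * (t' * t') := by
    calc s0 * s0 = v * (t' * v) * t' := by rw [hs0]; group
      _ = v * (v * t') * t' := by rw [ht'v]
      _ = (v * v) * (t' * t') := by group
      _ = z * (t' * t') := by rw [h.gq.v_sq]
  have hsqc : (s0 * s0) * c = c * (s0 * s0) := by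
    rw [hsq]
    have h1 : Commute (z * (t' * t')) c :=
      (show Commute z c from zc h.gq).mul_left
        ((show Commute t' c from ht'c).mul_left (show Commute t' c from ht'c))
    exact h1.eq
  have hsqv : (s0 * s0) * v = v * (s0 * s0) := by
    rw [hsq]
    have h1 : Commute (z * (t' * t')) v :=
      (show Commute z v from hvz).mul_left
        ((show Commute t' v from ht'v).mul_left (show Commute t' v from ht'v))
    exact h1.eq
  have hsqt : (s0 * s0) * t = t * (s0 * s0) :=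
    ((show Commute s0 t from hs0t).mul_left (show Commute s0 t from hs0t)).eq
  obtain ⟨k, hk⟩ := h.eq_zpow_of hlo hl (S.mul_mem hs0S hs0S) hsqc hsqv hsqt
  -- `s0` inverts `y0`
  have hinv : ∀ j : ℤ, s0 * c ^ j = c ^ (-j) * s0 := by
    intro j
    have : s0 * c ^ j * s0⁻¹ = c ^ (-j) := by
      rw [← conj_zpow, mul_inv_eq_iff_eq_mul.2 hs0c, inv_zpow, zpow_neg]
    exact mul_inv_eq_iff_eq_mul.1 this
  have hinv' : ∀ j : ℤ, s0 * c' ^ j = c' ^ (-j) * s0 := by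
    intro j
    have : s0 * c' ^ j * s0⁻¹ = c' ^ (-j) := by
      rw [← conj_zpow, mul_inv_eq_iff_eq_mul.2 hs0c', inv_zpow, zpow_neg]
    exact mul_inv_eq_iff_eq_mul.1 this
  have hy0i : s0 * (c ^ l * c' ^ (2 : ℤ)) * s0⁻¹ = (c ^ l * c' ^ (2 : ℤ))⁻¹ := by
    rw [mul_inv_eq_iff_eq_mul]
    calc s0 * (c ^ l * c' ^ (2 : ℤ)) = (s0 * c ^ l) * c' ^ (2 : ℤ) := by group
      _ = c ^ (-l) * (s0 * c' ^ (2 : ℤ)) := by rw [hinv]; group
      _ = c ^ (-l) * c' ^ (-2 : ℤ) * s0 := by rw [hinv']; group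
      _ = c' ^ (-2 : ℤ) * c ^ (-l) * s0 := by rw [(h.comm_cc' (-l) (-2)).eq]
      _ = (c ^ l * c' ^ (2 : ℤ))⁻¹ * s0 := by group
  have h4 : (s0 * s0) * (s0 * s0) = 1 := by
    have h5 : s0 * (s0 * s0) * s0⁻¹ = (s0 * s0)⁻¹ := by
      rw [hk, ← conj_zpow, hy0i, inv_zpow]
    calc (s0 * s0) * (s0 * s0) = (s0 * (s0 * s0) * s0⁻¹) * (s0 * s0) := by group
      _ = 1 := by rw [h5]; group
  -- `s0²` is an involution of `⟨y0⟩` or trivial: in `{1, z}`
  have h5 : s0 * s0 = 1 ∨ s0 * s0 = z := by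
    rcases h.y0_cases hlo hk (Or.inl h4) with h6 | h6 | h6 | h6
    · exact Or.inl h6
    · exact Or.inr h6
    · exfalso
      have h7 : (c ^ l * c' ^ (2 : ℤ)) ^ ((2 : ℤ) ^ n) * (c ^ l * c' ^ (2 : ℤ)) ^ ((2 : ℤ) ^ n) = z := by
        rw [← zpow_add, ← two_mul, show (2 : ℤ) * 2 ^ n = 2 ^ (n + 1) by ring, h.y0_pow hlo]
      rw [← h6, h4] at h7
      exact h.gq.z_ne h7.symm
    · exfalso
      have h7 : (c ^ l * c' ^ (2 : ℤ)) ^ ((2 : ℤ) ^ n) * (c ^ l * c' ^ (2 : ℤ)) ^ ((2 : ℤ) ^ n) = z := by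
        rw [← zpow_add, ← two_mul, show (2 : ℤ) * 2 ^ n = 2 ^ (n + 1) by ring, h.y0_pow hlo]
      set y1 := (c ^ l * c' ^ (2 : ℤ)) ^ ((2 : ℤ) ^ n)
      have hzs : z * (s0 * s0) = (s0 * s0) * z := by
        have hz : Commute z s0 := (h.z_cen hs0S).symm
        exact (hz.mul_right hz).eq
      have h8 : y1 = (s0 * s0) * z := by rw [h6, mul_assoc, h.gq.z_mul, mul_one]
      apply h.gq.z_ne
      calc z = y1 * y1 := h7.symm
        _ = (s0 * s0) * (z * (s0 * s0)) * z := by rw [h8]; group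
        _ = (s0 * s0) * ((s0 * s0) * z) * z := by rw [hzs]
        _ = (s0 * s0) * (s0 * s0) * (z * z) := by group
        _ = 1 := by rw [h4, h.gq.z_mul, mul_one]
  have h6 : s0 * s0 = 1 := by
    rcases h5 with h5 | h5
    · exact h5
    exfalso
    -- `v'` commutes with `s0²`
    obtain ⟨i, hi⟩ : ∃ i : ℤ, s0 * v' * s0⁻¹ = v' * c' ^ i := by
      rcases cov' h.gq' _ (h.nor' s0 hs0S hs0t v' h.gq'.v_mem) with ⟨i, hi⟩ | ⟨i, hi⟩
      · exfalso
        apply v_ne h.gq' (-i)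
        calc v' = s0⁻¹ * (s0 * v' * s0⁻¹) * s0 := by group
          _ = s0⁻¹ * (c' ^ i * s0) := by rw [hi]; group
          _ = s0⁻¹ * (s0 * c' ^ (-i)) := by rw [hinv', neg_neg]
          _ = c' ^ (-i) := by group
      · exact ⟨i, hi⟩
    have h7 : s0 * v' = v' * c' ^ i * s0 := mul_inv_eq_iff_eq_mul.1 hi
    have h8 : z * v' = v' * z := by
      rw [← h5]
      calc s0 * s0 * v' = s0 * (s0 * v') := by group
        _ = s0 * (v' * c' ^ i * s0) := by rw [h7]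
        _ = (s0 * v') * (c' ^ i * s0) := by group
        _ = (v' * c' ^ i * s0) * (c' ^ i * s0) := by rw [h7]
        _ = v' * c' ^ i * (s0 * c' ^ i) * s0 := by group
        _ = v' * (s0 * s0) := by rw [hinv']; group
    exact h.z_v' h8
  refine ⟨hs0t, hs0c, hs0c', h6, ?_, ht't⟩
  rw [h6] at hsq
  calc t' * t' = z * z * (t' * t') := by rw [h.gq.z_mul, one_mul]
    _ = z * (z * (t' * t')) := by group
    _ = z := by rw [← hsq, mul_one]

end hh

end WP

/-! ### Coordinates -/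

section coord

/-- coordinates in `⟨e₁⟩ × ⟨e₂⟩` -/
def vv (e1 e2 : G) (m : ℕ) (i j : ZMod (2 ^ m)) : G := e1 ^ i.val * e2 ^ j.val

theorem pow_val {e : G} {m : ℕ} (he : e ^ 2 ^ m = 1) (a : ℤ) : e ^ ((a : ZMod (2 ^ m)).val) = e ^ a := by
  have : NeZero (2 ^ m) := ⟨by positivity⟩
  rw [← zpow_natCast e, ZMod.val_intCast]
  have h1 : e ^ (((2 ^ m : ℕ) : ℤ) * (a / ((2 ^ m : ℕ) : ℤ))) = 1 := by
    rw [zpow_mul, zpow_natCast, he, one_zpow]
  conv_rhs => rw [← Int.emod_add_mul_ediv a ((2 ^ m : ℕ) : ℤ), zpow_add, h1, mul_one]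

/-- the data of `A = ⟨e₁⟩ × ⟨e₂⟩` homocyclic -/
structure HC (e1 e2 : G) (m : ℕ) : Prop where
  hm : 2 ≤ m
  comm : e1 * e2 = e2 * e1
  p1 : e1 ^ 2 ^ m = 1
  p2 : e2 ^ 2 ^ m = 1
  ind : ∀ a b : ℤ, e1 ^ a * e2 ^ b = 1 → (2 ^ m : ℤ) ∣ a ∧ (2 ^ m : ℤ) ∣ b

namespace HC

variable {e1 e2 r s : G} {m : ℕ} (h : HC e1 e2 m)
include h

theorem vv_int (a b : ℤ) : vv e1 e2 m a b = e1 ^ a * e2 ^ b := by
  rw [vv, pow_val h.p1, pow_val h.p2]

theorem zz (a b : ℤ) : Commute (e1 ^ a) (e2 ^ b) := Commute.zpow_zpow h.comm a b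

theorem vv_zero : vv e1 e2 m 0 0 = 1 := by
  simpa using h.vv_int 0 0

theorem vv_mul (i j k l : ZMod (2 ^ m)) :
    vv e1 e2 m i j * vv e1 e2 m k l = vv e1 e2 m (i + k) (j + l) := by
  obtain ⟨i, rfl⟩ := ZMod.intCast_surjective i
  obtain ⟨j, rfl⟩ := ZMod.intCast_surjective j
  obtain ⟨k, rfl⟩ := ZMod.intCast_surjective k
  obtain ⟨l, rfl⟩ := ZMod.intCast_surjective l
  rw [← Int.cast_add, ← Int.cast_add, h.vv_int, h.vv_int, h.vv_int, zpow_add, zpow_add]
  calc e1 ^ i * e2 ^ j * (e1 ^ k * e2 ^ l) = e1 ^ i * (e2 ^ j * e1 ^ k) * e2 ^ l := by group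
    _ = e1 ^ i * (e1 ^ k * e2 ^ j) * e2 ^ l := by rw [(h.zz k j).eq]
    _ = e1 ^ i * e1 ^ k * (e2 ^ j * e2 ^ l) := by group

theorem vv_inj (i j : ZMod (2 ^ m)) (h1 : vv e1 e2 m i j = 1) : i = 0 ∧ j = 0 := by
  obtain ⟨i, rfl⟩ := ZMod.intCast_surjective i
  obtain ⟨j, rfl⟩ := ZMod.intCast_surjective j
  rw [h.vv_int] at h1
  obtain ⟨ha, hb⟩ := h.ind i j h1
  constructor
  · rw [ZMod.intCast_zmod_eq_zero_iff_dvd]; exact_mod_cast ha
  · rw [ZMod.intCast_zmod_eq_zero_iff_dvd]; exact_mod_cast hb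

theorem vv_eq {i j k l : ZMod (2 ^ m)} (he : vv e1 e2 m i j = vv e1 e2 m k l) : i = k ∧ j = l := by
  have h1 : vv e1 e2 m (i - k) (j - l) * vv e1 e2 m k l = vv e1 e2 m k l := by
    rw [h.vv_mul, sub_add_cancel, sub_add_cancel, he]
  obtain ⟨h2, h3⟩ := h.vv_inj _ _ (mul_eq_right.1 h1)
  exact ⟨sub_eq_zero.1 h2, sub_eq_zero.1 h3⟩

theorem r_vv (h1 : r * e1 = e2 * r) (h2 : r * e2 = e1 * r) (i j : ZMod (2 ^ m)) :
    r * vv e1 e2 m i j = vv e1 e2 m j i * r := by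
  obtain ⟨i, rfl⟩ := ZMod.intCast_surjective i
  obtain ⟨j, rfl⟩ := ZMod.intCast_surjective j
  rw [h.vv_int, h.vv_int]
  have e1' : ∀ k : ℤ, r * e1 ^ k = e2 ^ k * r := fun k => by
    rw [← mul_inv_eq_iff_eq_mul, ← conj_zpow, mul_inv_eq_iff_eq_mul.2 h1]
  have e2' : ∀ k : ℤ, r * e2 ^ k = e1 ^ k * r := fun k => by
    rw [← mul_inv_eq_iff_eq_mul, ← conj_zpow, mul_inv_eq_iff_eq_mul.2 h2]
  calc r * (e1 ^ i * e2 ^ j) = (r * e1 ^ i) * e2 ^ j := by group
    _ = e2 ^ i * (r * e2 ^ j) := by rw [e1']; group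
    _ = (e2 ^ i * e1 ^ j) * r := by rw [e2']; group
    _ = e1 ^ j * e2 ^ i * r := by rw [(h.zz j i).eq]

theorem s_vv (h1 : s * e1 = e1⁻¹ * s) (h2 : s * e2 = e2⁻¹ * s) (i j : ZMod (2 ^ m)) :
    s * vv e1 e2 m i j = vv e1 e2 m (-i) (-j) * s := by
  obtain ⟨i, rfl⟩ := ZMod.intCast_surjective i
  obtain ⟨j, rfl⟩ := ZMod.intCast_surjective j
  rw [← Int.cast_neg, ← Int.cast_neg, h.vv_int, h.vv_int]
  have e1' : ∀ k : ℤ, s * e1 ^ k = e1 ^ (-k) * s := fun k => by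
    rw [← mul_inv_eq_iff_eq_mul, ← conj_zpow, mul_inv_eq_iff_eq_mul.2 h1, inv_zpow, zpow_neg]
  have e2' : ∀ k : ℤ, s * e2 ^ k = e2 ^ (-k) * s := fun k => by
    rw [← mul_inv_eq_iff_eq_mul, ← conj_zpow, mul_inv_eq_iff_eq_mul.2 h2, inv_zpow, zpow_neg]
  calc s * (e1 ^ i * e2 ^ j) = (s * e1 ^ i) * e2 ^ j := by group
    _ = e1 ^ (-i) * (s * e2 ^ j) := by rw [e1']; group
    _ = (e1 ^ (-i) * e2 ^ (-j)) * s := by rw [e2']; group

theorem ne : e1 ≠ e2 := by
  intro he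
  have h1 : e1 ^ (1 : ℤ) * e2 ^ (-1 : ℤ) = 1 := by rw [he]; group
  obtain ⟨h2, -⟩ := h.ind _ _ h1
  have h3 := Int.le_of_dvd (by norm_num) h2
  have h4 : (2 : ℤ) ^ 2 ≤ 2 ^ m := pow_le_pow_right₀ (by norm_num) h.hm
  omega

/-- a wreathed 2-group from coordinates -/
theorem isWreathed {S : Subgroup G} (h1S : e1 ∈ S) (h2S : e2 ∈ S) (hrS : r ∈ S)
    (h1 : r * e1 = e2 * r) (hr : r * r = 1)
    (hS : ∀ g ∈ S, ∃ a b : ℤ, g = e1 ^ a * e2 ^ b ∨ g = e1 ^ a * e2 ^ b * r) :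
    Cfsg.IsWreathed S := by
  have : NeZero (2 ^ m) := ⟨by positivity⟩
  have hvm : ∀ i j, vv e1 e2 m i j ∈ S := fun i j => S.mul_mem (S.pow_mem h1S _) (S.pow_mem h2S _)
  have hrA : ∀ i j, r ≠ vv e1 e2 m i j := by
    intro i j hrv
    have hc : Commute (vv e1 e2 m i j) e1 :=
      ((Commute.refl e1).pow_left _).mul_left ((show Commute e2 e1 from h.comm.symm).pow_left _)
    apply h.ne
    rw [← hrv] at hc
    have : e1 * r = e2 * r := by rw [← hc.eq, h1]
    exact mul_right_cancel this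
  have hr1 : r ≠ 1 := by
    intro h0
    exact hrA 0 0 (by rw [h.vv_zero, h0])
  refine ⟨m, h.hm, ?_, ⟨e1, h1S⟩, ⟨e2, h2S⟩, ⟨r, hrS⟩, ?_, Subtype.ext h.comm, ?_, ?_, Subtype.ext ?_⟩
  · let f : ZMod (2 ^ m) × ZMod (2 ^ m) × Bool → S := fun x =>
      ⟨vv e1 e2 m x.1 x.2.1 * (if x.2.2 then r else 1), by
        refine S.mul_mem (hvm _ _) ?_
        split_ifs
        · exact hrS
        · exact S.one_mem⟩
    have hf : Function.Bijective f := by
      constructor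
      · rintro ⟨i, j, b⟩ ⟨i', j', b'⟩ hE
        have hE' : vv e1 e2 m i j * (if b then r else 1) = vv e1 e2 m i' j' * (if b' then r else 1) :=
          congrArg Subtype.val hE
        have key : ∀ i j i' j', vv e1 e2 m i j * r ≠ vv e1 e2 m i' j' := by
          intro i j i' j' hh
          apply hrA (-i + i') (-j + j')
          rw [← h.vv_mul, ← hh, ← mul_assoc, h.vv_mul, neg_add_cancel, neg_add_cancel, h.vv_zero, one_mul]
        rcases b with _ | _ <;> rcases b' with _ | _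
        · simp only [Bool.false_eq_true, if_false, mul_one] at hE'
          obtain ⟨rfl, rfl⟩ := h.vv_eq hE'
          rfl
        · simp only [Bool.false_eq_true, if_false, mul_one, if_true] at hE'
          exact absurd hE'.symm (key _ _ _ _)
        · simp only [Bool.false_eq_true, if_false, mul_one, if_true] at hE'
          exact absurd hE' (key _ _ _ _)
        · simp only [if_true] at hE'
          obtain ⟨rfl, rfl⟩ := h.vv_eq (mul_right_cancel hE')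
          rfl
      · rintro ⟨g, hg⟩
        obtain ⟨a, b, hab | hab⟩ := hS g hg
        · refine ⟨(a, b, false), Subtype.ext ?_⟩
          show vv e1 e2 m a b * (if false = true then r else 1) = g
          rw [h.vv_int, hab]; simp
        · refine ⟨(a, b, true), Subtype.ext ?_⟩
          show vv e1 e2 m a b * (if true = true then r else 1) = g
          rw [h.vv_int, hab]; simp
    rw [← Nat.card_congr (Equiv.ofBijective f hf), Nat.card_prod, Nat.card_prod, Nat.card_zmod,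
      Nat.card_eq_fintype_card, Fintype.card_bool]
    ring
  · rw [← Subgroup.orderOf_coe]
    show orderOf e1 = 2 ^ m
    obtain ⟨k, hk⟩ : ∃ k, m = k + 1 := ⟨m - 1, by have := h.hm; omega⟩
    rw [hk]
    apply orderOf_eq_prime_pow
    · intro h0
      have h2 : e1 ^ ((2 ^ k : ℕ) : ℤ) * e2 ^ (0 : ℤ) = 1 := by
        rw [zpow_zero, mul_one, zpow_natCast, h0]
      obtain ⟨h3, -⟩ := h.ind _ _ h2
      have h4 := Int.le_of_dvd (by positivity) h3
      rw [hk] at h4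
      push_cast at h4
      have h5 : (2 : ℤ) ^ k < 2 ^ (k + 1) := pow_lt_pow_right₀ (by norm_num) (by omega)
      omega
    · rw [← hk]; exact h.p1
  · rw [eq_bot_iff]
    rintro ⟨x, hx⟩ hxx
    obtain ⟨⟨a, ha⟩, ⟨b, hb⟩⟩ := mem_inf.1 hxx
    have ha' : e1 ^ a = x := congrArg Subtype.val ha
    have hb' : e2 ^ b = x := congrArg Subtype.val hb
    have h2 : e1 ^ a * e2 ^ (-b) = 1 := by rw [zpow_neg, ha', hb', mul_inv_cancel]
    obtain ⟨⟨d, hd⟩, -⟩ := h.ind _ _ h2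
    rw [mem_bot]
    apply Subtype.ext
    show x = 1
    rw [← ha', hd, zpow_mul, show ((2 : ℤ) ^ m) = ((2 ^ m : ℕ) : ℤ) by push_cast; rfl, zpow_natCast, h.p1,
      one_zpow]
  · rw [← Subgroup.orderOf_coe]
    show orderOf r = 2
    exact orderOf_eq_prime (by rw [pow_two, hr]) hr1
  · show r * e1 * r⁻¹ = e2
    exact mul_inv_eq_iff_eq_mul.2 h1

end HC

end coord

/-! ### (i): the conclusion -/

namespace WP

variable {S Q Q' : Subgroup G} {c v z c' v' t : G} {n : ℕ}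

/-- **the end game for type `W`**: `S` is wreathed or of type `G₂(q)` -/
theorem main [Finite G] (h : WP S Q Q' c v z c' v' t n) :
    Cfsg.IsWreathed S ∨ ∃ f r s, SylowG2.Coord.TG2 S (n + 2) f r s := by
  obtain ⟨l, hlo, hl⟩ := h.exists_l
  obtain ⟨w, y, hwQ, -, -, -, hty, hyS, hyc, hyv, hyt, hyy⟩ := h.exists_y
  have hyn := h.y_norm hyS hyc hyv hyt hyy
  have hzz := h.gq.z_mul
  have hzv : z * v = v * z := zv h.gq
  have hzt : z * t = t * z := h.z_t
  have htt := h.tt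
  have hcl : Commute (c ^ l) c' := Commute.zpow_left (show Commute c c' from h.cc') l
  -- homocyclic
  have hHC : HC c' (c ^ l * c') (n + 2) := by
    refine ⟨by omega, ?_, ?_, ?_, ?_⟩
    · exact (hcl.symm.mul_right (Commute.refl c')).eq
    · rw [← h.gq'.ord]; exact pow_orderOf_eq_one c'
    · rw [hcl.mul_pow, ← h.gq'.ord, pow_orderOf_eq_one, mul_one, ← zpow_natCast, ← zpow_mul, zpow_one_iff h.gq,
        h.gq'.ord]
      push_cast
      exact Dvd.intro_left _ rfl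
    · intro a b hab
      rw [hcl.mul_zpow, ← zpow_mul] at hab
      have h1 : c ^ (l * b) = c' ^ (-(a + b)) := by
        calc c ^ (l * b) = c' ^ (-a) * (c' ^ a * (c ^ (l * b) * c' ^ b)) * c' ^ (-b) := by group
          _ = c' ^ (-(a + b)) := by rw [hab]; group
      have h2 : c ^ (l * b) = 1 := h.inf (Q.zpow_mem h.gq.c_mem _) (by rw [h1]; exact Q'.zpow_mem h.gq'.c_mem _)
      rw [h2] at h1
      have h3 := (zpow_one_iff h.gq').1 h1.symm
      rw [zpow_one_iff h.gq] at h2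
      have hcop : IsCoprime ((2 : ℤ) ^ (n + 2)) l := by
        apply IsCoprime.pow_left
        rw [Int.isCoprime_iff_gcd_eq_one]
        obtain ⟨k, rfl⟩ := hlo
        have : Int.gcd 2 (2 * k + 1) = Int.gcd 2 1 := by
          rw [show (2 * k + 1 : ℤ) = 1 + 2 * k by ring]
          simp
        rw [this]; rfl
      have h4 := hcop.dvd_of_dvd_mul_left h2
      rw [dvd_neg] at h3
      exact ⟨(dvd_add_left h4).1 h3, h4⟩
  -- the involution `r = v t`
  set r : G := v * t with hr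
  have hvt : v * t = z * t * v := mul_inv_eq_iff_eq_mul.1 h.v_t_v
  have htv : t * v = v * z * t := mul_inv_eq_iff_eq_mul.1 h.t_v_t
  have hrr : r * r = 1 := by
    calc r * r = v * (t * v) * t := by rw [hr]; group
      _ = v * (v * z * t) * t := by rw [htv]
      _ = (v * v) * z * (t * t) := by group
      _ = 1 := by rw [h.gq.v_sq, hzz, htt, one_mul]
  have hvc' : v * c' = c ^ l * c' * v := mul_inv_eq_iff_eq_mul.1 (h.v_c'_v hl)
  have hr1 : r * c' = c ^ l * c' * r := by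
    calc r * c' = v * (c' * t) := by rw [h.c'_t, hr]; group
      _ = (v * c') * t := by group
      _ = c ^ l * c' * v * t := by rw [hvc']
      _ = c ^ l * c' * r := by rw [hr]; group
  have hr2 : r * (c ^ l * c') = c' * r := by
    calc r * (c ^ l * c') = r * (c ^ l * c' * r) * r⁻¹ := by group
      _ = r * (r * c') * r⁻¹ := by rw [hr1]
      _ = (r * r) * c' * r⁻¹ := by group
      _ = c' * r := by rw [hrr, one_mul, inv_eq_of_mul_eq_one_left hrr]
  have hrS : r ∈ S := S.mul_mem h.v_mem h.t_mem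
  have he2S : c ^ l * c' ∈ S := S.mul_mem (S.zpow_mem h.c_mem l) h.c'_mem
  -- the elements of `A`
  set e2 : G := c ^ l * c' with he2
  obtain ⟨k, r0, hkr⟩ := exists_mul_eq hlo (n + 2) 1
  have hcA : ∀ i j : ℤ, c ^ i * c' ^ j = c' ^ (j - k * i) * e2 ^ (k * i) := by
    intro i j
    have h1 : c ^ i = (c ^ l) ^ (k * i) := by
      rw [← zpow_mul, show l * (k * i) = i + 2 ^ (n + 2) * (r0 * i) by
        rw [show l * (k * i) = (k * l) * i by ring, hkr]; ring, zpow_add, (zpow_one_iff h.gq).2 (Dvd.intro _ rfl),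
        mul_one]
    rw [he2, hcl.mul_zpow, h1]
    have h2 : Commute (c' ^ (j - k * i)) ((c ^ l) ^ (k * i)) := (Commute.zpow_zpow hcl _ _).symm
    calc (c ^ l) ^ (k * i) * c' ^ j = ((c ^ l) ^ (k * i) * c' ^ (j - k * i)) * c' ^ (k * i) := by
          rw [mul_assoc, ← zpow_add]; congr 2; ring
      _ = c' ^ (j - k * i) * ((c ^ l) ^ (k * i) * c' ^ (k * i)) := by rw [← h2.eq]; group
  have htA : t = c ^ (0 : ℤ) * c' ^ ((2 : ℤ) ^ (n + 1)) := by rw [z_eq' h.gq', zpow_zero, one_mul]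
  have hzA : z = c ^ ((2 : ℤ) ^ (n + 1)) * c' ^ (0 : ℤ) := by rw [z_eq' h.gq, zpow_zero, mul_one]
  have hcc := h.comm_cc'
  -- products in `⟨c⟩⟨c'⟩`
  have hmul : ∀ a b a' b' : ℤ, (c ^ a * c' ^ b) * (c ^ a' * c' ^ b') = c ^ (a + a') * c' ^ (b + b') := by
    intro a b a' b'
    rw [zpow_add, zpow_add]
    calc c ^ a * c' ^ b * (c ^ a' * c' ^ b') = c ^ a * (c' ^ b * c ^ a') * c' ^ b' := by group
      _ = c ^ a * (c ^ a' * c' ^ b) * c' ^ b' := by rw [(hcc a' b).eq]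
      _ = c ^ a * c ^ a' * (c' ^ b * c' ^ b') := by group
  -- `v = z t r`
  have hvr : v = (c ^ ((2 : ℤ) ^ (n + 1)) * c' ^ ((2 : ℤ) ^ (n + 1))) * r := by
    rw [z_eq' h.gq, z_eq' h.gq', hr, hvt]
    calc v = (z * z) * (t * t) * v := by rw [hzz, htt]; group
      _ = z * (z * t) * t * v := by group
      _ = z * (t * z) * t * v := by rw [hzt]
      _ = z * t * (z * t * v) := by group
  have hy0 : ∀ j : ℤ, (c ^ l * c' ^ (2 : ℤ)) ^ j = c ^ (l * j) * c' ^ (2 * j) := by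
    intro j
    rw [(hcc l 2).mul_zpow, ← zpow_mul, ← zpow_mul]
  have hy0v : ∀ j : ℤ, v * (c ^ l * c' ^ (2 : ℤ)) ^ j = (c ^ l * c' ^ (2 : ℤ)) ^ j * v := fun j =>
    (Commute.zpow_left (show Commute (c ^ l * c' ^ (2 : ℤ)) v from h.y0_v hl) j).symm.eq
  -- the elements of `Q`
  have hQc : ∀ q ∈ Q, (∃ i : ℤ, q = c ^ i) ∨ ∃ i : ℤ, q = c ^ i * v := by
    intro q hq
    rcases cov' h.gq q hq with ⟨i, hi⟩ | ⟨i, hi⟩
    · exact Or.inl ⟨i, hi⟩
    · exact Or.inr ⟨-i, by rw [hi, v_zpow' h.gq]⟩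
  -- reduction to `q p`
  have hred : ∀ s ∈ S, ∃ (e : ℤ) (q p : G), q ∈ Q ∧ p ∈ S ∧ p * c = c * p ∧ p * v = v * p ∧
      s = c' ^ e * (q * p) := by
    intro s hs
    rcases h.idx s hs with ⟨q, hq, hqp⟩ | ⟨q, hq, hqp⟩
    · exact ⟨0, q, q⁻¹ * s, hq, S.mul_mem (S.inv_mem (h.Q_le hq)) hs, hqp c h.gq.c_mem, hqp v h.gq.v_mem,
        by group⟩
    · exact ⟨-1, q, q⁻¹ * (c' * s), hq, S.mul_mem (S.inv_mem (h.Q_le hq)) (S.mul_mem h.c'_mem hs),
        hqp c h.gq.c_mem, hqp v h.gq.v_mem, by group⟩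
  by_cases hP : ∃ t' ∈ S, t' * c = c * t' ∧ t' * v = v * t' ∧ t' * y * t'⁻¹ = y * z
  · -- type `G₂(q)`
    right
    obtain ⟨t', ht'S, ht'c, ht'v, ht'y⟩ := hP
    obtain ⟨hs0t, hs0c, hs0c', hs02, ht'2, ht't⟩ := h.s0_props hwQ hty hyy ht'S ht'c ht'v ht'y
    have hs0S : v * t' ∈ S := S.mul_mem h.v_mem ht'S
    have hrs0 : r * (v * t') = (v * t') * r := by
      have e1 : r * (v * t') = t * t' := by
        calc r * (v * t') = v * (t * v) * t' := by rw [hr]; group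
          _ = v * (v * z * t) * t' := by rw [htv]
          _ = (v * v) * z * t * t' := by group
          _ = t * t' := by rw [h.gq.v_sq, hzz]; group
      have e2 : (v * t') * r = t * t' := by
        calc (v * t') * r = v * (t' * v) * t := by rw [hr]; group
          _ = v * (v * t') * t := by rw [ht'v]
          _ = (v * v) * (t' * t) := by group
          _ = z * (t * z * t') := by rw [h.gq.v_sq, ht't]
          _ = (z * t) * z * t' := by group
          _ = t * (z * z) * t' := by rw [hzt]; group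
          _ = t * t' := by rw [hzz]; group
      rw [e1, e2]
    set s0 : G := v * t' with hs0
    have hs0e2 : s0 * e2 = e2⁻¹ * s0 := by
      have hinv : s0 * c ^ l = c ^ (-l) * s0 := by
        have : s0 * c ^ l * s0⁻¹ = c ^ (-l) := by
          rw [← conj_zpow, mul_inv_eq_iff_eq_mul.2 hs0c, inv_zpow, zpow_neg]
        exact mul_inv_eq_iff_eq_mul.1 this
      have hcl2 : c ^ (-l) * c'⁻¹ = c'⁻¹ * c ^ (-l) := by
        have := hcc (-l) (-1)
        rw [zpow_neg_one] at this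
        exact this.eq
      calc s0 * e2 = (s0 * c ^ l) * c' := by rw [he2]; group
        _ = c ^ (-l) * (s0 * c') := by rw [hinv]; group
        _ = (c ^ (-l) * c'⁻¹) * s0 := by rw [hs0c']; group
        _ = c'⁻¹ * c ^ (-l) * s0 := by rw [hcl2]
        _ = e2⁻¹ * s0 := by rw [he2]; group
    -- `t' = t r s0`
    have ht'r : t' = (c ^ (0 : ℤ) * c' ^ ((2 : ℤ) ^ (n + 1))) * (r * s0) := by
      rw [← htA, hr, hs0]
      calc t' = (t * t) * t' := by rw [htt, one_mul]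
        _ = t * ((z * z) * t) * t' := by rw [hzz]; group
        _ = t * (v * v * z * t) * t' := by rw [h.gq.v_sq]
        _ = t * v * (v * z * t) * t' := by group
        _ = t * v * (t * v) * t' := by rw [htv]
        _ = t * (v * t * (v * t')) := by group
    refine ⟨vv c' e2 (n + 2), r, s0, by omega,
      fun i j => S.mul_mem (S.pow_mem h.c'_mem _) (S.pow_mem he2S _), hrS, hs0S, hHC.vv_zero, hHC.vv_mul,
      hHC.vv_inj, hHC.r_vv hr1 hr2, hHC.s_vv hs0c' hs0e2, hrr, hs02, hrs0, ?_⟩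
    intro g hg
    obtain ⟨e, q, p, hq, hpS, hpc, hpv, hg'⟩ := hred g hg
    -- `p ∈ ⟨y0⟩ ∪ ⟨y0⟩ t'`
    have hp : ∃ j : ℤ, p = (c ^ l * c' ^ (2 : ℤ)) ^ j ∨ p = (c ^ l * c' ^ (2 : ℤ)) ^ j * t' := by
      rcases hyn p hpS with hpy | hpy
      · obtain ⟨j, hj⟩ := h.eq_zpow_of hlo hl hpS hpc hpv (h.comm_t_of hwQ hty hpc hpv hpy)
        exact ⟨j, Or.inl hj⟩
      · obtain ⟨-, -, -, -, -, hpt⟩ := h.s0_props hwQ hty hyy hpS hpc hpv hpy
        have hpt' : (p * t'⁻¹) * t = t * (p * t'⁻¹) := by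
          have e1 : t'⁻¹ * t = t * z * t'⁻¹ := by
            have hzt' : t' * z = z * t' := h.z_cen ht'S
            calc t'⁻¹ * t = t'⁻¹ * (t * (z * z)) * (t' * t'⁻¹) := by rw [hzz]; group
              _ = t'⁻¹ * (t * z) * (z * t') * t'⁻¹ := by group
              _ = t'⁻¹ * (t * z) * (t' * z) * t'⁻¹ := by rw [hzt']
              _ = t'⁻¹ * (t * z * t') * z * t'⁻¹ := by group
              _ = t'⁻¹ * (t' * t) * z * t'⁻¹ := by rw [ht't]
              _ = t * z * t'⁻¹ := by group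
          calc (p * t'⁻¹) * t = p * (t'⁻¹ * t) := by group
            _ = p * (t * z * t'⁻¹) := by rw [e1]
            _ = (p * t) * z * t'⁻¹ := by group
            _ = (t * z * p) * z * t'⁻¹ := by rw [hpt]
            _ = t * z * (p * z) * t'⁻¹ := by group
            _ = t * z * (z * p) * t'⁻¹ := by rw [h.z_cen hpS]
            _ = t * (z * z) * (p * t'⁻¹) := by group
            _ = t * (p * t'⁻¹) := by rw [hzz, mul_one]
        obtain ⟨j, hj⟩ := h.eq_zpow_of hlo hl (S.mul_mem hpS (S.inv_mem ht'S))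
          ((show Commute p c from hpc).mul_left (show Commute t' c from ht'c).inv_left).eq
          ((show Commute p v from hpv).mul_left (show Commute t' v from ht'v).inv_left).eq hpt'
        exact ⟨j, Or.inr (by rw [← hj]; group)⟩
    obtain ⟨j, hp⟩ := hp
    have hform : ∃ a b : ℤ, g = c ^ a * c' ^ b ∨ g = c ^ a * c' ^ b * r ∨ g = c ^ a * c' ^ b * s0 ∨
        g = c ^ a * c' ^ b * (r * s0) := by
      have e0 : ∀ x : G, c' ^ e * (x) = c ^ (0 : ℤ) * c' ^ e * x := fun x => by group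
      rcases hQc q hq with ⟨i, hi⟩ | ⟨i, hi⟩ <;> rcases hp with hp | hp
      · refine ⟨0 + (i + l * j), e + (0 + 2 * j), Or.inl ?_⟩
        rw [hg', hi, hp, hy0, ← hmul, ← hmul]
        group
      · refine ⟨0 + (i + l * j) + 0, e + (0 + 2 * j) + 2 ^ (n + 1), Or.inr (Or.inr (Or.inr ?_))⟩
        rw [hg', hi, hp, hy0, ← hmul, ← hmul, ← hmul, mul_assoc _ (c ^ (0 : ℤ) * c' ^ ((2 : ℤ) ^ (n + 1))) (r * s0),
          ← ht'r]
        group
      · refine ⟨0 + (i + l * j) + 2 ^ (n + 1), e + (0 + 2 * j) + 2 ^ (n + 1), Or.inr (Or.inl ?_)⟩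
        rw [hg', hi, hp]
        rw [← hmul, ← hmul, ← hmul, mul_assoc _ (c ^ ((2 : ℤ) ^ (n + 1)) * c' ^ ((2 : ℤ) ^ (n + 1))) r, ← hvr,
          ← hy0]
        calc c' ^ e * (c ^ i * v * (c ^ l * c' ^ (2 : ℤ)) ^ j)
            = c' ^ e * c ^ i * (v * (c ^ l * c' ^ (2 : ℤ)) ^ j) := by group
          _ = c' ^ e * c ^ i * ((c ^ l * c' ^ (2 : ℤ)) ^ j * v) := by rw [hy0v]
          _ = c ^ (0 : ℤ) * c' ^ e * (c ^ i * c' ^ (0 : ℤ) * (c ^ l * c' ^ (2 : ℤ)) ^ j) * v := by group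
      · refine ⟨0 + (i + l * j), e + (0 + 2 * j), Or.inr (Or.inr (Or.inl ?_))⟩
        rw [hg', hi, hp]
        rw [← hmul, ← hmul, ← hy0, hs0]
        calc c' ^ e * (c ^ i * v * ((c ^ l * c' ^ (2 : ℤ)) ^ j * t'))
            = c' ^ e * c ^ i * (v * (c ^ l * c' ^ (2 : ℤ)) ^ j) * t' := by group
          _ = c' ^ e * c ^ i * ((c ^ l * c' ^ (2 : ℤ)) ^ j * v) * t' := by rw [hy0v]
          _ = c ^ (0 : ℤ) * c' ^ e * (c ^ i * c' ^ (0 : ℤ) * (c ^ l * c' ^ (2 : ℤ)) ^ j) * (v * t') := by group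
    obtain ⟨a, b, hab⟩ := hform
    refine ⟨((b - k * a : ℤ) : ZMod (2 ^ (n + 2))), ((k * a : ℤ) : ZMod (2 ^ (n + 2))), ?_⟩
    rw [hHC.vv_int, ← hcA]
    exact hab
  · -- wreathed
    left
    push Not at hP
    refine hHC.isWreathed h.c'_mem he2S hrS hr1 hrr ?_
    intro g hg
    obtain ⟨e, q, p, hq, hpS, hpc, hpv, hg'⟩ := hred g hg
    obtain ⟨j, hp⟩ : ∃ j : ℤ, p = (c ^ l * c' ^ (2 : ℤ)) ^ j := by
      rcases hyn p hpS with hpy | hpy
      · exact h.eq_zpow_of hlo hl hpS hpc hpv (h.comm_t_of hwQ hty hpc hpv hpy)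
      · exact absurd hpy (hP p hpS hpc hpv)
    have hform : ∃ a b : ℤ, g = c ^ a * c' ^ b ∨ g = c ^ a * c' ^ b * r := by
      rcases hQc q hq with ⟨i, hi⟩ | ⟨i, hi⟩
      · refine ⟨0 + (i + l * j), e + (0 + 2 * j), Or.inl ?_⟩
        rw [hg', hi, hp, hy0, ← hmul, ← hmul]
        group
      · refine ⟨0 + (i + l * j) + 2 ^ (n + 1), e + (0 + 2 * j) + 2 ^ (n + 1), Or.inr ?_⟩
        rw [hg', hi, hp]
        rw [← hmul, ← hmul, ← hmul, mul_assoc _ (c ^ ((2 : ℤ) ^ (n + 1)) * c' ^ ((2 : ℤ) ^ (n + 1))) r, ← hvr,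
          ← hy0]
        calc c' ^ e * (c ^ i * v * (c ^ l * c' ^ (2 : ℤ)) ^ j)
            = c' ^ e * c ^ i * (v * (c ^ l * c' ^ (2 : ℤ)) ^ j) := by group
          _ = c' ^ e * c ^ i * ((c ^ l * c' ^ (2 : ℤ)) ^ j * v) := by rw [hy0v]
          _ = c ^ (0 : ℤ) * c' ^ e * (c ^ i * c' ^ (0 : ℤ) * (c ^ l * c' ^ (2 : ℤ)) ^ j) * v := by group
    obtain ⟨a, b, hab⟩ := hform
    refine ⟨b - k * a, k * a, ?_⟩
    rw [← hcA]
    exact hab

end WP

end Cfsg.Agent.Cit.OneEndW
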