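import Cfsg.Agent.Cit.OnePair
import Cfsg.Agent.Cit.OneEndW

/-!
# `|Om(S)| = 1`: from a pair of type `W` to the end game `OneEndW.WP`
-/

set_option autoImplicit false
set_option linter.style.haveILetI false
set_option linter.unusedSectionVars false
set_option linter.unusedVariables false

namespace Cfsg.Agent.Cit.OneEndGlue

open Subgroup Cfsg OneBasic

variable {G : Type*} [Group G] [Finite G] {Om : Set (Subgroup G)}

/-- a pair inside a Sylow 2-subgroup `S` of `N(K)`: `T = C_S(t)`, `Q = K ∩ S` -/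
structure Fr (Om : Set (Subgroup G)) (K L T Q Q' S : Subgroup G) : Prop where
  pair : OPair Om K L T Q Q'
  hS : Syl S (normalizer (K : Set G))
  TS : T ≤ S
  QS : Q ≤ S
  SQ : S ≤ normalizer (Q : Set G)

/-- every pair `(K, L)` of members with commuting involutions has a frame -/
theorem exists_fr (h : One Om) {K L : Subgroup G} (hK : K ∈ Om) (hL : L ∈ Om) (hne : K ≠ L)
    (hc : zz K * zz L = zz L * zz K) {A : Subgroup G} (hA : IsPGroup 2 A) (hAK : A ≤ normalizer (K : Set G))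
    (hAL : A ≤ normalizer (L : Set G)) : ∃ T Q Q' S, A ≤ T ∧ Fr Om K L T Q Q' S := by
  obtain ⟨T, Q0, Q', hAT, p⟩ := h.exists_pair hK hL hne hc hA hAK hAL
  obtain ⟨S, hS, hTS⟩ := exists_syl_ge p.tp p.tK
  -- `K ∩ S` is Sylow in `K`
  have hKO : K ∈ OmS Om S := by
    obtain ⟨R, hR, hQR, hRS⟩ : ∃ R, Syl R K ∧ R ≤ S ∧ True := by
      obtain ⟨R, hR⟩ := Hyp.exists_syl K
      obtain ⟨S1, hS1, hRS1⟩ := exists_syl_ge hR.2.1 (hR.1.trans le_normalizer)
      obtain ⟨g, hg, hgS⟩ := hS1.exists_conj hS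
      refine ⟨cj g R, ?_, ?_, trivial⟩
      · have := hR.cj g
        rwa [mem_normalizer_iff_cj.1 hg] at this
      · rw [← hgS]; exact cj_mono g hRS1
    exact mem_OmS_of_le hK hR hQR
  have hQ : Syl (K ⊓ S) K := syl_inf hS.2.1 hKO
  have hSQ : S ≤ normalizer ((K ⊓ S : Subgroup G) : Set G) := by
    intro s hs
    rw [mem_normalizer_iff_cj, cj_inf, mem_normalizer_iff_cj.1 (hS.1 hs), mem_normalizer_iff_cj.1 (le_normalizer hs)]
  exact ⟨T, K ⊓ S, Q', S, hAT, ⟨p.hK, p.hL, p.ne, p.comm, hQ, p.hQ', p.hT, hTS.trans hSQ, p.hTQ'⟩, hS, hTS,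
    inf_le_right, hSQ⟩

namespace Fr

variable {K L T Q Q' S : Subgroup G}

/-- `C_S(t) = T` -/
theorem mem_T (f : Fr Om K L T Q Q' S) (h : One Om) {s : G} (hs : s ∈ S) (hst : s * zz L = zz L * s) : s ∈ T := by
  have h1 : S ⊓ normalizer (L : Set G) = T := by
    symm
    refine syl_eq_of_le f.pair.hT (f.hS.2.1.to_le inf_le_left) (inf_le_inf_right _ f.hS.1) (le_inf f.TS f.pair.tL)
  rw [← h1]
  exact mem_inf.2 ⟨hs, h.mem_normalizer f.pair.hL hst⟩

/-- an element `v' ∈ Q'` with `z^{v'} = z t` normalises `T` -/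
theorem conj_T (f : Fr Om K L T Q Q' S) (h : One Om) {v s : G} (hv : v ∈ Q') (hvz : v * zz K * v⁻¹ = zz K * zz L)
    (hs : s ∈ T) : v * s * v⁻¹ ∈ T := by
  have p := f.pair
  -- `R = T Q'`
  have hR : IsPGroup 2 (T ⊔ Q' : Subgroup G) := isPGroup_sup_of_normalizes p.tp p.hQ'.2.1 p.hTQ'
  have hRL : T ⊔ Q' ≤ normalizer (L : Set G) := sup_le p.tL (p.hQ'.1.trans le_normalizer)
  have hRt : ∀ r ∈ T ⊔ Q', r * zz L = zz L * r := fun r hr => h.hyp.comm_zz p.hL (hRL hr)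
  have h1 : (T ⊔ Q') ⊓ centralizer {zz K} = T := by
    symm
    refine syl_eq_of_le p.hT (hR.to_le inf_le_left) ?_ ?_
    · rw [h.centralizer_zz p.hK]
      exact le_inf inf_le_right (inf_le_left.trans hRL)
    · refine le_inf le_sup_left ?_
      rw [h.centralizer_zz p.hK]
      exact p.tK
  rw [← h1]
  have hsR : s ∈ T ⊔ Q' := (le_sup_left : T ≤ T ⊔ Q') hs
  have hvR : v ∈ T ⊔ Q' := (le_sup_right : Q' ≤ T ⊔ Q') hv
  refine mem_inf.2 ⟨mul_mem (mul_mem hvR hsR) (inv_mem hvR), ?_⟩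
  rw [mem_centralizer_singleton_iff]
  have hx : v * s * v⁻¹ ∈ T ⊔ Q' := mul_mem (mul_mem hvR hsR) (inv_mem hvR)
  have e1 : s * zz K = zz K * s := p.tz h hs
  -- `v s v⁻¹` commutes with `z t` and with `t`
  have e2 : (v * s * v⁻¹) * (zz K * zz L) = (zz K * zz L) * (v * s * v⁻¹) := by
    rw [← hvz]
    calc v * s * v⁻¹ * (v * zz K * v⁻¹) = v * (s * zz K) * v⁻¹ := by group
      _ = v * zz K * v⁻¹ * (v * s * v⁻¹) := by rw [e1]; group
  have e3 := hRt _ hx
  have e4 : zz K = (zz K * zz L) * (zz L)⁻¹ := by group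
  rw [e4]
  exact ((show Commute _ _ from e2).mul_right (show Commute _ _ from e3).inv_right).eq

/-- type `W`: `x'` acts on `Q` by `y ↦ y x^l`, `l` odd -/
theorem exists_l (p : OPair Om K L T Q Q') (h : One Om) {x y x' y' : G} {n : ℕ}
    (c : OPair.Co Om K L T Q Q' x y x' y' n) (hW : zz L * x = x * zz L) (hW' : zz K * x' = x' * zz K) :
    x * x' = x' * x ∧ ∃ l : ℤ, Odd l ∧ x' * y * x'⁻¹ = y * x ^ l := by
  have hx'T : x' ∈ T := p.symm.mem_T h c.gq'.c_mem hW'.symm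
  have hxT : x ∈ T := p.mem_T h c.gq.c_mem hW.symm
  have hxx := p.commute_R h c.gq.c_mem hxT c.gq'.c_mem hx'T
  refine ⟨hxx, ?_⟩
  obtain ⟨l, hl⟩ := c.gq.exists_act (p.hTQ hx'T) (by
    have : x'⁻¹ * x * x' = x := by rw [mul_assoc, hxx]; group
    rw [this]; exact mem_zpowers x)
  refine ⟨l, ?_, hl⟩
  have h1 := OneEndW.conj_zpow_of (Commute.zpow_right (show Commute x' x from hxx.symm) l).eq hl ((2 : ℤ) ^ (n + 1))
  rw [OneEndW.z_eq' c.gq', c.t_y h hW, ← zpow_mul] at h1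
  have h2 : x ^ (l * 2 ^ (n + 1) - 2 ^ (n + 1)) = 1 := by
    rw [zpow_sub, OneEndW.z_eq' c.gq, ← mul_left_cancel h1, mul_inv_cancel]
  rw [OneEndW.zpow_one_iff c.gq] at h2
  obtain ⟨k, hk⟩ := h2
  have h4 : (2 : ℤ) ^ (n + 1) * (l - 1) = 2 ^ (n + 1) * (2 * k) := by
    rw [show (2 : ℤ) ^ (n + 2) = 2 ^ (n + 1) * 2 by ring] at hk
    linear_combination hk
  have h5 := mul_left_cancel₀ (by positivity) h4
  exact ⟨k, by linarith⟩

/-- type `W`: `S` normalises `⟨x⟩` -/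
theorem norm_x (f : Fr Om K L T Q Q' S) (h : One Om) {x y x' y' : G} {n : ℕ}
    (c : OPair.Co Om K L T Q Q' x y x' y' n) (hW : zz L * x = x * zz L) (hW' : zz K * x' = x' * zz K) :
    ∀ s ∈ S, s * x * s⁻¹ ∈ zpowers x := by
  obtain ⟨x1, y1, n1, hg, hS⟩ := h.hyp.exists_gq_cyclic f.pair.hK f.pair.hQ f.hS.2.1 f.SQ
  have hn : n1 = n := by
    have h1 := hg.card
    rw [c.gq.card] at h1
    have := Nat.pow_right_injective (le_refl 2) h1
    omega
  subst hn
  obtain ⟨hxx, l, hlo, hl⟩ := exists_l f.pair h c hW hW'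
  have hx'T : x' ∈ T := f.pair.symm.mem_T h c.gq'.c_mem hW'.symm
  have hx1 : x1 ∈ zpowers x := by
    rcases c.gq.covZ hg.c_mem with h1 | ⟨i, hi⟩
    · exact h1
    exfalso
    -- `x1 = y x^i` has order 4, so `n = 0`
    have h4 : orderOf x1 = 4 := by
      rw [hi]
      refine Cit.GQ.orderOf_of_sq ?_ c.gq.z_mul c.gq.z_ne
      calc y * x ^ i * (y * x ^ i) = y * (x ^ i * y) * x ^ i := by group
        _ = y * (y * x ^ (-i)) * x ^ i := by rw [OneEndW.zpow_v c.gq]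
        _ = y * y := by group
        _ = zz K := c.gq.v_sq
    have h0 : n1 = 0 := by
      rw [hg.ord] at h4
      by_contra hne
      have : 2 ^ 3 ≤ 2 ^ (n1 + 2) := Nat.pow_le_pow_right (by norm_num) (by omega)
      omega
    subst h0
    -- `x'` normalises `⟨x1⟩`
    have h5 := hS x' (f.TS hx'T)
    have h6 : x' * x1 * x'⁻¹ = x1 * x ^ l := by
      have e1 : x' * x ^ i = x ^ i * x' := (Commute.zpow_right (show Commute x' x from hxx.symm) i).eq
      rw [hi]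
      calc x' * (y * x ^ i) * x'⁻¹ = (x' * y * x'⁻¹) * (x' * x ^ i) * x'⁻¹ := by group
        _ = y * x ^ l * (x ^ i * x') * x'⁻¹ := by rw [hl, e1]
        _ = y * (x ^ l * x ^ i) := by group
        _ = y * (x ^ i * x ^ l) := by rw [← zpow_add, ← zpow_add, add_comm]
        _ = y * x ^ i * x ^ l := by group
    rw [h6] at h5
    have h7 : x ^ l ∈ zpowers x1 := by
      have := mul_mem (inv_mem (mem_zpowers x1)) h5
      rwa [inv_mul_cancel_left] at this
    -- `x ^ l` has order 4 and commutes with `x1`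
    obtain ⟨k, hk⟩ := h7
    have hk' : x1 ^ k = x ^ l := hk
    have h8 : x1 * x ^ l = x ^ l * x1 := by
      rw [← hk']; exact ((Commute.refl x1).zpow_right k).eq
    have h9 : x ^ (2 * l) = 1 := by
      have e2 : y * x ^ l = x ^ l * y := by
        rw [hi] at h8
        have e3 : x ^ i * x ^ l = x ^ l * x ^ i := by rw [← zpow_add, ← zpow_add, add_comm]
        calc y * x ^ l = (y * (x ^ l * x ^ i)) * (x ^ i)⁻¹ := by group
          _ = (y * x ^ i * x ^ l) * (x ^ i)⁻¹ := by rw [← e3]; group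
          _ = x ^ l * y := by rw [h8]; group
      have e4 : x ^ l * y = y * x ^ (-l) := OneEndW.zpow_v c.gq l
      rw [e4] at e2
      have e5 := mul_left_cancel e2
      calc x ^ (2 * l) = x ^ l * x ^ l := by rw [← zpow_add]; congr 1; ring
        _ = x ^ l * x ^ (-l) := by rw [← e5]
        _ = 1 := by group
    rw [OneEndW.zpow_one_iff c.gq] at h9
    obtain ⟨r, hr⟩ := h9
    obtain ⟨q, hq⟩ := hlo
    have : (2 : ℤ) ^ (0 + 2) = 4 := by norm_num
    rw [this] at hr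
    omega
  -- `⟨x1⟩ = ⟨x⟩`
  have heq : zpowers x1 = zpowers x := by
    apply eq_of_le_of_card_ge (zpowers_le.2 hx1)
    rw [Nat.card_zpowers, Nat.card_zpowers, hg.ord, c.gq.ord]
  intro s hs
  obtain ⟨k, hk⟩ : x ∈ zpowers x1 := by rw [heq]; exact mem_zpowers x
  have hk' : x1 ^ k = x := hk
  rw [← heq]
  have h1 : s * x * s⁻¹ = (s * x1 * s⁻¹) ^ k := by rw [← hk', conj_zpow]
  rw [h1]
  exact zpow_mem (hS s hs) k

/-- type `W`: `|S : Q P| ≤ 2` from the absence of field automorphisms -/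
theorem idx (f : Fr Om K L T Q Q' S) (h : One Om) {x y x' y' : G} {n : ℕ}
    (c : OPair.Co Om K L T Q Q' x y x' y' n) (hW : zz L * x = x * zz L) (hW' : zz K * x' = x' * zz K)
    (hfield : ∀ s ∈ S, ∀ a : ℤ, s * x * s⁻¹ = x ^ a → x ^ a = x ∨ x ^ a = x⁻¹) :
    ∀ s ∈ S, (∃ q ∈ Q, ∀ u ∈ Q, (q⁻¹ * s) * u = u * (q⁻¹ * s)) ∨
      ∃ q ∈ Q, ∀ u ∈ Q, (q⁻¹ * (x' * s)) * u = u * (q⁻¹ * (x' * s)) := by
  obtain ⟨hxx, l, hlo, hl⟩ := exists_l f.pair h c hW hW'
  have hx'T : x' ∈ T := f.pair.symm.mem_T h c.gq'.c_mem hW'.symm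
  have hx'S : x' ∈ S := f.TS hx'T
  have hN := f.norm_x h c hW hW'
  -- elements centralising `x`
  have key : ∀ s ∈ S, s * x = x * s →
      (∃ q ∈ Q, ∀ u ∈ Q, (q * s) * u = u * (q * s)) ∨
      ∃ q ∈ Q, ∀ u ∈ Q, (q * (x' * s)) * u = u * (q * (x' * s)) := by
    intro s hs hsx
    obtain ⟨j, hj⟩ := c.gq.exists_act (f.SQ hs) (by
      have : s⁻¹ * x * s = x := by rw [mul_assoc, ← hsx]; group
      rw [this]; exact mem_zpowers x)
    have haux : ∀ (g : G) (i : ℤ), g * x = x * g → g * y * g⁻¹ = y * x ^ (2 * i) →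
        ∀ u ∈ Q, (x ^ i * g) * u = u * (x ^ i * g) := by
      intro g i hgx hgy
      apply OneEndW.comm_of c.gq
      · exact (((Commute.refl x).zpow_left i).mul_left (show Commute g x from hgx)).eq
      · have e1 : g * y = y * x ^ (2 * i) * g := mul_inv_eq_iff_eq_mul.1 hgy
        have e2 : x ^ i * y = y * x ^ (-i) := OneEndW.zpow_v c.gq i
        calc x ^ i * g * y = x ^ i * (g * y) := by group
          _ = (x ^ i * y) * x ^ (2 * i) * g := by rw [e1]; group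
          _ = y * x ^ (-i) * x ^ (2 * i) * g := by rw [e2]
          _ = y * (x ^ i * g) := by rw [mul_assoc y, ← zpow_add]; rw [show -i + 2 * i = i by ring]; group
    rcases Int.even_or_odd j with ⟨i, hi⟩ | ho
    · left
      refine ⟨x ^ i, Q.zpow_mem c.gq.c_mem i, haux s i hsx ?_⟩
      rw [hj, hi]; congr 2; ring
    · right
      obtain ⟨i, hi⟩ := hlo.add_odd ho
      refine ⟨x ^ i, Q.zpow_mem c.gq.c_mem i, haux (x' * s) i ?_ ?_⟩
      · exact ((show Commute x' x from hxx.symm).mul_left (show Commute s x from hsx)).eq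
      · have e1 : x' * x ^ j = x ^ j * x' := (Commute.zpow_right (show Commute x' x from hxx.symm) j).eq
        calc x' * s * y * (x' * s)⁻¹ = x' * (s * y * s⁻¹) * x'⁻¹ := by group
          _ = x' * (y * x ^ j) * x'⁻¹ := by rw [hj]
          _ = (x' * y * x'⁻¹) * (x' * x ^ j) * x'⁻¹ := by group
          _ = y * x ^ l * (x ^ j * x') * x'⁻¹ := by rw [hl, e1]
          _ = y * (x ^ l * x ^ j) := by group
          _ = y * x ^ (2 * i) := by rw [← zpow_add]; congr 2; rw [hi]; ring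
  intro s hs
  obtain ⟨a, ha⟩ := hN s hs
  have ha' : s * x * s⁻¹ = x ^ a := ha.symm
  rcases hfield s hs a ha' with h1 | h1
  · have hsx : s * x = x * s := by
      rw [h1] at ha'; exact mul_inv_eq_iff_eq_mul.1 ha'
    rcases key s hs hsx with ⟨q, hq, hc⟩ | ⟨q, hq, hc⟩
    · exact Or.inl ⟨q⁻¹, Q.inv_mem hq, by simpa using hc⟩
    · exact Or.inr ⟨q⁻¹, Q.inv_mem hq, by simpa using hc⟩
  · -- `y s` centralises `x`
    have hsx : (y * s) * x = x * (y * s) := by
      rw [h1] at ha'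
      have e1 : s * x = x⁻¹ * s := mul_inv_eq_iff_eq_mul.1 ha'
      have e2 : y * x⁻¹ = x * y := by
        have := OneEndW.v_zpow' c.gq (-1)
        rw [zpow_neg_one, neg_neg, zpow_one] at this
        exact this
      calc y * s * x = y * (s * x) := by group
        _ = (y * x⁻¹) * s := by rw [e1]; group
        _ = x * (y * s) := by rw [e2]; group
    rcases key (y * s) (S.mul_mem (f.QS c.gq.v_mem) hs) hsx with ⟨q, hq, hc⟩ | ⟨q, hq, hc⟩
    · refine Or.inl ⟨(q * y)⁻¹, Q.inv_mem (Q.mul_mem hq c.gq.v_mem), ?_⟩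
      rw [inv_inv]
      intro u hu
      have := hc u hu
      rw [← mul_assoc] at this
      exact this
    · -- `q x' y s = q (x' y x'⁻¹) x' s`
      refine Or.inr ⟨(q * (x' * y * x'⁻¹))⁻¹, Q.inv_mem (Q.mul_mem hq (conj_mem_of (f.SQ hx'S) c.gq.v_mem)), ?_⟩
      rw [inv_inv]
      intro u hu
      have := hc u hu
      have e1 : q * (x' * (y * s)) = q * (x' * y * x'⁻¹) * (x' * s) := by group
      rw [e1] at this
      exact this

/-- **type `W`**: coordinates of a pair in a frame give the data of the end game -/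
theorem wp (f : Fr Om K L T Q Q' S) (h : One Om) {x y x' y' : G} {n : ℕ}
    (c : OPair.Co Om K L T Q Q' x y x' y' n) (hW : zz L * x = x * zz L)
    (hidx : ∀ s ∈ S, (∃ q ∈ Q, ∀ u ∈ Q, (q⁻¹ * s) * u = u * (q⁻¹ * s)) ∨
      ∃ q ∈ Q, ∀ u ∈ Q, (q⁻¹ * (x' * s)) * u = u * (q⁻¹ * (x' * s)))
    (hF : ∀ a ∈ T, (∀ u ∈ Q, a * u = u * a) → (∀ u ∈ Q', a * u = u * a) → a = 1) :
    OneEndW.WP S Q Q' x y (zz K) x' y' (zz L) n := by
  have p := c.pair
  have hW' : zz K * x' = x' * zz K := by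
    rcases c.dich h with ⟨h1, -⟩ | ⟨h1, -⟩
    · exact h1
    · exfalso
      have h2 : c.gq.orderOf_w = c.gq.orderOf_w := rfl
      rcases h1 _ (Q.pow_mem c.gq.c_mem (2 ^ n)) (c.w_comm hW) with h3 | h3
      · have := c.gq.orderOf_w
        rw [h3, orderOf_one] at this
        omega
      · have := c.gq.orderOf_w
        rw [h3, c.gq.orderOf_z] at this
        omega
  have hty : zz L * y ≠ y * zz L := fun hty =>
    p.not_cent h (OneEndW.comm_of c.gq hW hty)
  have hzy' : zz K * y' ≠ y' * zz K := fun hzy' =>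
    p.symm.not_cent h (OneEndW.comm_of c.gq' hW' hzy')
  have hx'T : x' ∈ T := p.symm.mem_T h c.gq'.c_mem hW'.symm
  refine ⟨f.hS.2.1, c.gq, c.gq', f.QS, fun s hs q hq => conj_mem_of (f.SQ hs) hq, f.TS (p.zL_mem h), f.TS hx'T, hW,
    hty, hzy', fun s hs hst q hq => conj_mem_of (p.hTQ' (f.mem_T h hs hst)) hq, ?_, hidx, ?_⟩
  · intro s hs hst
    refine f.TS (f.conj_T h c.gq'.v_mem ?_ (f.mem_T h hs hst))
    -- `y' z y'⁻¹ = z t`
    have h1 := c.symm.t_y h hW'
    have h2 : zz L * y' = y' * zz L := by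
      exact OneEndW.zv c.gq'
    have h3 : zz K * y' = y' * zz L * zz K := mul_inv_eq_iff_eq_mul.1 h1
    have hzt := p.comm
    rw [mul_inv_eq_iff_eq_mul]
    have htt := h.hyp.zz_mul p.hL
    calc y' * zz K = y' * (zz L * zz L) * zz K := by rw [htt]; group
      _ = (y' * zz L) * (zz L * zz K) := by group
      _ = (zz L * y') * (zz L * zz K) := by rw [h2]
      _ = zz L * (y' * zz L * zz K) := by group
      _ = zz L * (zz K * y') := by rw [h3]
      _ = (zz L * zz K) * y' := by group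
      _ = zz K * zz L * y' := by rw [hzt]
  · intro a ha haQ haQ'
    refine hF a (f.mem_T h ha (haQ' _ ?_)) haQ haQ'
    exact c.gq'.z_mem

/-- a Sylow 2-subgroup of `N(K)` is one of `G` -/
theorem syl_top (h : One Om) {K S : Subgroup G} (hK : K ∈ Om) (hS : Syl S (normalizer (K : Set G))) : Syl S ⊤ := by
  obtain ⟨R, hR⟩ := Hyp.exists_syl K
  obtain ⟨S1, hS1, hRS1⟩ := exists_syl_ge hR.2.1 (le_top : R ≤ ⊤)
  have h1 := h.le_normalizer_self hS1.2.1 (mem_OmS_of_le hK hR hRS1)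
  obtain ⟨g, hg, hgS⟩ := (syl_of_le hS1 h1 le_top).exists_conj hS
  rw [← hgS]
  have h2 := hS1.cj g
  have h3 : cj g (⊤ : Subgroup G) = ⊤ := by
    ext x; rw [mem_cj]; simp
  rwa [h3] at h2

end Fr

/-! ### Transport under conjugation -/

theorem isWreathed_cj {S : Subgroup G} (g : G) (hS : Cfsg.IsWreathed S) : Cfsg.IsWreathed ↥(cj g S) := by
  obtain ⟨n, hn, hc, x, y, z, hx, hxy, hd, hz, hzx⟩ := hS
  have hi := (cjEquiv g S).injective
  refine ⟨n, hn, ?_, cjEquiv g S x, cjEquiv g S y, cjEquiv g S z, ?_, ?_, ?_, ?_, ?_⟩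
  · rw [← hc]; exact (Nat.card_congr (cjEquiv g S).toEquiv).symm
  · rw [MulEquiv.orderOf_eq, hx]
  · rw [← map_mul, hxy, map_mul]
  · have h1 : zpowers (cjEquiv g S x) = (zpowers x).map (cjEquiv g S).toMonoidHom := by
      rw [MonoidHom.map_zpowers]; rfl
    have h2 : zpowers (cjEquiv g S y) = (zpowers y).map (cjEquiv g S).toMonoidHom := by
      rw [MonoidHom.map_zpowers]; rfl
    rw [h1, h2, ← Subgroup.map_inf _ _ _ hi, hd, Subgroup.map_bot]
  · rw [MulEquiv.orderOf_eq, hz]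
  · rw [← map_inv, ← map_mul, ← map_mul, hzx]

theorem tg2_cj {S : Subgroup G} (g : G) {m : ℕ} {v : ZMod (2 ^ m) → ZMod (2 ^ m) → G} {r s : G}
    (h : SylowG2.Coord.TG2 S m v r s) :
    SylowG2.Coord.TG2 (cj g S) m (fun i j => g * v i j * g⁻¹) (g * r * g⁻¹) (g * s * g⁻¹) := by
  have hmul : ∀ a b : G, g * a * g⁻¹ * (g * b * g⁻¹) = g * (a * b) * g⁻¹ := fun a b => by group
  refine ⟨h.hm, fun i j => conj_mem_cj (h.v_mem i j), conj_mem_cj h.r_mem, conj_mem_cj h.s_mem, ?_, ?_, ?_, ?_, ?_,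
    ?_, ?_, ?_, ?_⟩
  · show g * v 0 0 * g⁻¹ = 1
    rw [h.v_zero]; group
  · intro i j k l
    show g * v i j * g⁻¹ * (g * v k l * g⁻¹) = _
    rw [hmul, h.v_mul]
  · intro i j hij
    apply h.v_inj
    have h1 : g * v i j * g⁻¹ = 1 := hij
    calc v i j = g⁻¹ * (g * v i j * g⁻¹) * g := by group
      _ = 1 := by rw [h1]; group
  · intro i j
    show g * r * g⁻¹ * (g * v i j * g⁻¹) = g * v j i * g⁻¹ * (g * r * g⁻¹)
    rw [hmul, hmul, h.r_v]
  · intro i j
    show g * s * g⁻¹ * (g * v i j * g⁻¹) = g * v (-i) (-j) * g⁻¹ * (g * s * g⁻¹)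
    rw [hmul, hmul, h.s_v]
  · rw [hmul, h.r_r]; group
  · rw [hmul, h.s_s]; group
  · rw [hmul, hmul, h.r_s]
  · intro x hx
    rw [mem_cj] at hx
    obtain ⟨i, j, hij⟩ := h.cases _ hx
    have hx' : x = g * (g⁻¹ * x * g) * g⁻¹ := by group
    refine ⟨i, j, ?_⟩
    rcases hij with h1 | h1 | h1 | h1
    · left; rw [hx', h1]
    · right; left; rw [hx', h1, hmul]
    · right; right; left; rw [hx', h1, hmul]
    · right; right; right; rw [hx', h1, hmul, hmul]

/-- **type `W`, conclusion**: if there is a pair of type `W`, no field automorphisms and `F = 1`, then the Sylow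
2-subgroups of `G` are wreathed or of type `G₂(q)` -/
theorem main_W (h : One Om)
    (hfield : ∀ K ∈ Om, ∀ S Q, Syl S (normalizer (K : Set G)) → Syl Q K → Q ≤ S → ∀ x y n, GQ Q x y (zz K) n →
      ∀ s ∈ S, ∀ a : ℤ, s * x * s⁻¹ = x ^ a → x ^ a = x ∨ x ^ a = x⁻¹)
    (hF : ∀ K L T Q Q', OPair Om K L T Q Q' → ∀ a ∈ T, (∀ u ∈ Q, a * u = u * a) → (∀ u ∈ Q', a * u = u * a) →
      a = 1)
    (hW : ∃ K ∈ Om, ∃ L ∈ Om, K ≠ L ∧ zz K * zz L = zz L * zz K ∧ ∃ u ∈ K, u * u = zz K ∧ u * zz L = zz L * u)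
    {S : Subgroup G} (hS : Syl S ⊤) :
    Cfsg.IsWreathed S ∨ ∃ n f r s, SylowG2.Coord.TG2 S (n + 2) f r s := by
  obtain ⟨K, hK, L, hL, hne, hc, u, huK, huu, hut⟩ := hW
  -- `⟨u⟩` is a 2-group normalising `K` and `L`
  have hu2 : IsPGroup 2 (zpowers u) := by
    apply IsPGroup.of_card (n := 2)
    rw [Nat.card_zpowers]
    exact GQ.orderOf_of_sq huu (h.hyp.zz_mul hK) (h.hyp.zz_ne hK)
  obtain ⟨T, Q, Q', S1, hAT, f⟩ := exists_fr h hK hL hne hc hu2
    (zpowers_le.2 (le_normalizer huK)) (zpowers_le.2 (h.mem_normalizer hL hut))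
  obtain ⟨x, y, x', y', n, c⟩ := f.pair.exists_co h
  have huT : u ∈ T := hAT (mem_zpowers u)
  have huQ : u ∈ Q := by
    have h1 : Q = K ⊓ S1 := syl_eq_of_le f.pair.hQ (f.hS.2.1.to_le inf_le_right) inf_le_left (le_inf f.pair.hQ.1 f.QS)
    rw [h1]; exact ⟨huK, f.TS huT⟩
  obtain ⟨hW', hW⟩ : zz K * x' = x' * zz K ∧ zz L * x = x * zz L := by
    rcases c.dich h with h1 | ⟨h1, -⟩
    · exact h1
    · exfalso
      rcases h1 u huQ hut with h2 | h2
      · rw [h2, one_mul] at huu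
        exact h.hyp.zz_ne hK huu.symm
      · rw [h2, h.hyp.zz_mul hK] at huu
        exact h.hyp.zz_ne hK huu.symm
  have hwp := f.wp h c hW (f.idx h c hW hW' (hfield K hK S1 Q f.hS f.pair.hQ f.QS x y n c.gq)) (hF K L T Q Q' f.pair)
  obtain ⟨g, -, hg⟩ := (Fr.syl_top h hK f.hS).exists_conj hS
  rw [← hg]
  rcases hwp.main with h1 | ⟨v, r, s, h1⟩
  · exact Or.inl (isWreathed_cj g h1)
  · exact Or.inr ⟨n, _, _, _, tg2_cj g h1⟩

end Cfsg.Agent.Cit.OneEndGlue
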