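import Cfsg.Agent.Cit.OnePair
import Cfsg.Agent.Cit.OneField
import Mathlib.Data.ZMod.Units
import Mathlib.FieldTheory.Finite.Basic

/-!
# The field homomorphism (`|Om(S)| = 1`)

`C(zz K) = N(K)` acts on the `K`-classes of the elements `c` of order `2^(n+2)` of `K` (`|Q| = 2^(n+3)`,
`n > 0`): `h c h⁻¹` is `K`-conjugate to `c ^ a` with `a` unique modulo `±1`. This gives homomorphisms
`N(K) → (ℤ/2^(n+2))ˣ / {±1}` which form a compatible family (`OneField.Psi`).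
-/

set_option autoImplicit false
set_option linter.style.haveILetI false
set_option linter.unusedSectionVars false

namespace Cfsg.Agent.Cit.OneFieldHom

open Subgroup Cfsg Cit OneBasic

variable {G : Type*} [Group G]

/-! ### Powers with exponents in `ZMod N` -/

/-- `c ^ a` for `a : ZMod N` -/
def cp {N : ℕ} (c : G) (a : ZMod N) : G := c ^ a.val

section cp

variable {N : ℕ} [NeZero N] {c : G}

theorem cp_natCast (hc : c ^ N = 1) (m : ℕ) : cp c (m : ZMod N) = c ^ m := by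
  unfold cp
  rw [ZMod.val_natCast]
  conv_rhs => rw [← Nat.mod_add_div m N, pow_add, pow_mul, hc, one_pow, mul_one]

theorem cp_intCast (hc : c ^ N = 1) (m : ℤ) : cp c (m : ZMod N) = c ^ m := by
  unfold cp
  have h1 : ((((m : ZMod N).val : ℤ)) : ZMod N) = ((m : ℤ) : ZMod N) := by
    rw [Int.cast_natCast, ZMod.natCast_zmod_val]
  rw [ZMod.intCast_eq_intCast_iff_dvd_sub] at h1
  obtain ⟨k, hk⟩ := h1
  have h2 : m = ((m : ZMod N).val : ℤ) + N * k := by linarith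
  conv_rhs => rw [h2, zpow_add, zpow_mul, zpow_natCast, zpow_natCast, hc, one_zpow, mul_one]

theorem cp_mul (hc : c ^ N = 1) (a b : ZMod N) : cp c (a * b) = cp (cp c a) b := by
  have h1 : ((a.val * b.val : ℕ) : ZMod N) = a * b := by
    rw [Nat.cast_mul, ZMod.natCast_zmod_val, ZMod.natCast_zmod_val]
  rw [← h1, cp_natCast hc, pow_mul]
  rfl

theorem cp_add (hc : c ^ N = 1) (a b : ZMod N) : cp c (a + b) = cp c a * cp c b := by
  have h1 : ((a.val + b.val : ℕ) : ZMod N) = a + b := by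
    rw [Nat.cast_add, ZMod.natCast_zmod_val, ZMod.natCast_zmod_val]
  rw [← h1, cp_natCast hc, pow_add]
  rfl

theorem cp_one (hc : c ^ N = 1) : cp c (1 : ZMod N) = c := by
  have := cp_natCast hc 1
  rwa [Nat.cast_one, pow_one] at this

theorem cp_neg_one (hc : c ^ N = 1) : cp c (-1 : ZMod N) = c⁻¹ := by
  have := cp_intCast hc (-1)
  rwa [Int.cast_neg, Int.cast_one, zpow_neg_one] at this

theorem cp_pow (hc : c ^ N = 1) (a : ZMod N) : (cp c a) ^ N = 1 := by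
  unfold cp
  rw [← pow_mul, mul_comm, pow_mul, hc, one_pow]

theorem cp_conj (g c : G) (a : ZMod N) : g * cp c a * g⁻¹ = cp (g * c * g⁻¹) a := by
  unfold cp
  rw [conj_pow]

theorem cp_inj (hc : orderOf c = N) {a b : ZMod N} (h : cp c a = cp c b) : a = b := by
  have ha : a.val ∈ Set.Iio (orderOf c) := by rw [hc]; exact Set.mem_Iio.2 (ZMod.val_lt a)
  have hb : b.val ∈ Set.Iio (orderOf c) := by rw [hc]; exact Set.mem_Iio.2 (ZMod.val_lt b)
  have h1 : a.val = b.val := pow_injOn_Iio_orderOf ha hb h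
  exact ZMod.val_injective N h1

theorem pow_eq_one (hc : orderOf c = N) : c ^ N = 1 := by rw [← hc]; exact pow_orderOf_eq_one c

theorem orderOf_cp [Finite G] (hc : orderOf c = N) (a : (ZMod N)ˣ) : orderOf (cp c (a : ZMod N)) = N := by
  unfold cp
  rw [orderOf_pow, hc]
  have h1 : Nat.Coprime (a : ZMod N).val N := ZMod.val_coe_unit_coprime a
  rw [Nat.Coprime.gcd_eq_one h1.symm, Nat.div_one]

/-- a power of `c` of the same order -/
theorem exists_unit [Finite G] (hc : orderOf c = N) {d : G} (hd : orderOf d = N) (h : d ∈ zpowers c) :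
    ∃ a : (ZMod N)ˣ, d = cp c (a : ZMod N) := by
  have hfin : IsOfFinOrder c := by
    rw [← orderOf_pos_iff, hc]; exact Nat.pos_of_ne_zero (NeZero.ne N)
  obtain ⟨k, hk⟩ := (hfin.mem_powers_iff_mem_zpowers).2 h
  have hk' : c ^ k = d := hk
  have h1 : Nat.Coprime k N := by
    rw [← hk', orderOf_pow, hc] at hd
    have h2 : Nat.gcd N k = 1 := by
      have h3 := Nat.div_mul_cancel (Nat.gcd_dvd_left N k)
      rw [hd] at h3
      have h4 : N * Nat.gcd N k = N * 1 := by rw [h3, mul_one]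
      exact Nat.eq_of_mul_eq_mul_left (Nat.pos_of_ne_zero (NeZero.ne N)) h4
    exact (Nat.coprime_iff_gcd_eq_one.2 h2).symm
  refine ⟨ZMod.unitOfCoprime k h1, ?_⟩
  rw [ZMod.coe_unitOfCoprime, cp_natCast (pow_eq_one hc), hk']

end cp

/-! ### Quaternion groups -/

theorem mem_zpowers_of_orderOf {Q : Subgroup G} {c v z : G} {n : ℕ} (h : GQ Q c v z n) (hn : n ≠ 0) {d : G}
    (hd : d ∈ Q) (ho : orderOf d = 2 ^ (n + 2)) : d ∈ zpowers c := by
  rcases h.cov d hd with ⟨i, rfl⟩ | ⟨i, rfl⟩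
  · exact pow_mem (mem_zpowers c) i
  · exfalso
    rw [h.orderOf_out] at ho
    have h1 : 2 ^ 3 ≤ 2 ^ (n + 2) := Nat.pow_le_pow_right (by norm_num) (by omega)
    omega

theorem zpowers_eq_of_orderOf [Finite G] {Q : Subgroup G} {c v z : G} {n : ℕ} (h : GQ Q c v z n) (hn : n ≠ 0) {d : G}
    (hd : d ∈ Q) (ho : orderOf d = 2 ^ (n + 2)) : zpowers d = zpowers c := by
  apply eq_of_le_of_card_ge (zpowers_le.2 (mem_zpowers_of_orderOf h hn hd ho))
  rw [Nat.card_zpowers, Nat.card_zpowers, ho, h.ord]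

/-! ### One group `K` -/

/-- the Sylow 2-subgroups of `K` are generalised quaternion of order `2^(n+3)` -/
def QK (K : Subgroup G) (n : ℕ) : Prop := ∀ Q, Syl Q K → ∃ c v z, GQ Q c v z n

section one

variable [Finite G] {K : Subgroup G} {n : ℕ}

theorem isPGroup_zpowers_of_orderOf {c : G} {m : ℕ} (hc : orderOf c = 2 ^ m) : IsPGroup 2 (zpowers c) :=
  IsPGroup.of_card (n := m) (by rw [Nat.card_zpowers, hc])

/-- **(F1)** -/
theorem exists_rel (h : QK K n) (hn : n ≠ 0) {c d : G} (hc : c ∈ K) (hco : orderOf c = 2 ^ (n + 2))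
    (hd : d ∈ K) (hdo : orderOf d = 2 ^ (n + 2)) :
    ∃ a : (ZMod (2 ^ (n + 2)))ˣ, ∃ k ∈ K, d = k * cp c (a : ZMod (2 ^ (n + 2))) * k⁻¹ := by
  obtain ⟨Q, hQ, hcQ⟩ := exists_syl_ge (isPGroup_zpowers_of_orderOf hco) (zpowers_le.2 hc)
  obtain ⟨R, hR, hdR⟩ := exists_syl_ge (isPGroup_zpowers_of_orderOf hdo) (zpowers_le.2 hd)
  obtain ⟨k, hk, hkR⟩ := hQ.exists_conj hR
  obtain ⟨c0, v, z, g⟩ := h Q hQ
  have h1 : k⁻¹ * d * k ∈ Q := by
    rw [← mem_cj, hkR]; exact hdR (mem_zpowers d)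
  have h2 : orderOf (k⁻¹ * d * k) = 2 ^ (n + 2) := by
    have := (MulAut.conj k⁻¹).orderOf_eq d
    rw [MulAut.conj_apply, inv_inv] at this
    rw [this, hdo]
  have h3 : k⁻¹ * d * k ∈ zpowers c := by
    rw [zpowers_eq_of_orderOf g hn (hcQ (mem_zpowers c)) hco]
    exact mem_zpowers_of_orderOf g hn h1 h2
  obtain ⟨a, ha⟩ := exists_unit hco h2 h3
  exact ⟨a, k, hk, by rw [← ha]; group⟩

theorem conj_pow_cp {c k : G} {N : ℕ} [NeZero N] (hc : c ^ N = 1) (a : ZMod N) (h : k * c * k⁻¹ = cp c a)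
    (m : ℕ) : k ^ m * c * (k ^ m)⁻¹ = cp c (a ^ m) := by
  induction m with
  | zero => rw [pow_zero, pow_zero, cp_one hc]; group
  | succ m ih =>
    calc k ^ (m + 1) * c * (k ^ (m + 1))⁻¹ = k ^ m * (k * c * k⁻¹) * (k ^ m)⁻¹ := by rw [pow_succ]; group
      _ = k ^ m * cp c a * (k ^ m)⁻¹ := by rw [h]
      _ = cp (k ^ m * c * (k ^ m)⁻¹) a := cp_conj _ _ _
      _ = cp (cp c (a ^ m)) a := by rw [ih]
      _ = cp c (a ^ (m + 1)) := by rw [← cp_mul hc, pow_succ]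

/-- the units of `ℤ / 2^(n+2)` form a 2-group -/
theorem card_units (n : ℕ) : Nat.card (ZMod (2 ^ (n + 2)))ˣ = 2 ^ (n + 1) := by
  haveI : NeZero (2 ^ (n + 2)) := ⟨by positivity⟩
  rw [Nat.card_eq_fintype_card, ZMod.card_units_eq_totient, Nat.totient_prime_pow Nat.prime_two (by omega)]
  simp

/-- an odd power detects `±1` -/
theorem eq_one_of_pow {M : Type*} [Group M] {s : ℕ} (hM : Nat.card M = 2 ^ s) {x : M} {m : ℕ} (hm : Odd m)
    (hx : x ^ m = 1) : x = 1 := by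
  haveI : Finite M := Nat.finite_of_card_ne_zero (by rw [hM]; positivity)
  have h1 : orderOf x ∣ m := orderOf_dvd_of_pow_eq_one hx
  have h2 : orderOf x ∣ 2 ^ s := by rw [← hM]; exact orderOf_dvd_natCard x
  have h3 : Nat.Coprime m (2 ^ s) := Nat.Coprime.pow_right s (Nat.coprime_two_right.2 hm)
  exact orderOf_eq_one_iff.1 (Nat.eq_one_of_dvd_coprimes h3 h1 h2)

/-- every element has an odd power which is a 2-element -/
theorem exists_odd_pow (k : G) : ∃ m, Odd m ∧ IsPGroup 2 (zpowers (k ^ m)) := by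
  obtain ⟨s, m, hm, hk⟩ := Nat.exists_eq_two_pow_mul_odd (orderOf_pos k).ne'
  refine ⟨m, hm, IsPGroup.of_card (n := s) ?_⟩
  rw [Nat.card_zpowers, orderOf_pow, hk, Nat.gcd_mul_left_left, Nat.mul_div_cancel _ hm.pos]

/-- **(F2)** -/
theorem eq_one_or (h : QK K n) (hn : n ≠ 0) {c k : G} (hc : c ∈ K) (hco : orderOf c = 2 ^ (n + 2))
    (hk : k ∈ K) (a : (ZMod (2 ^ (n + 2)))ˣ) (hka : k * c * k⁻¹ = cp c (a : ZMod (2 ^ (n + 2)))) :
    a = 1 ∨ a = -1 := by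
  have hc1 := pow_eq_one hco
  obtain ⟨m, hm, hm2⟩ := exists_odd_pow k
  -- `k ^ m` and `c` lie in a Sylow 2-subgroup `Q` of `K`
  have hkm : k ^ m * c * (k ^ m)⁻¹ = cp c ((a : ZMod (2 ^ (n + 2))) ^ m) := conj_pow_cp hc1 _ hka m
  have hnorm : zpowers (k ^ m) ≤ normalizer (zpowers c : Set G) := by
    rw [zpowers_le]
    have h1 : cj (k ^ m) (zpowers c) ≤ zpowers c := by
      rw [cj_def, MonoidHom.map_zpowers, zpowers_le]
      change k ^ m * c * (k ^ m)⁻¹ ∈ _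
      rw [hkm]
      exact pow_mem (mem_zpowers c) _
    rw [mem_normalizer_iff_cj]
    exact eq_of_le_of_card_ge h1 (by rw [card_cj])
  have h2 : IsPGroup 2 (zpowers (k ^ m) ⊔ zpowers c : Subgroup G) :=
    isPGroup_sup_of_normalizes hm2 (isPGroup_zpowers_of_orderOf hco) hnorm
  obtain ⟨Q, hQ, hle⟩ := exists_syl_ge h2 (sup_le (zpowers_le.2 (K.pow_mem hk m)) (zpowers_le.2 hc))
  obtain ⟨c0, v, z, g⟩ := h Q hQ
  have hcQ : c ∈ Q := hle (mem_sup_right (mem_zpowers c))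
  have hkQ : k ^ m ∈ Q := hle (mem_sup_left (mem_zpowers _))
  have hcz := mem_zpowers_of_orderOf g hn hcQ hco
  obtain ⟨i, hi⟩ := hcz
  have hi' : c0 ^ i = c := hi
  -- `a ^ m = ± 1`
  have h3 : a ^ m = 1 ∨ a ^ m = -1 := by
    rcases g.covZ hkQ with ⟨j, hj⟩ | ⟨j, hj⟩
    · left
      have hj' : c0 ^ j = k ^ m := hj
      have h4 : cp c ((a : ZMod (2 ^ (n + 2))) ^ m) = cp c (1 : ZMod (2 ^ (n + 2))) := by
        rw [← hkm, cp_one hc1, ← hj', ← hi']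
        group
      exact Units.ext (by simpa using cp_inj hco h4)
    · right
      have h4 : cp c ((a : ZMod (2 ^ (n + 2))) ^ m) = cp c (-1 : ZMod (2 ^ (n + 2))) := by
        rw [← hkm, cp_neg_one hc1, hj, ← hi']
        have h5 : v * c0 ^ i * v⁻¹ = (c0 ^ i)⁻¹ := by rw [← conj_zpow, g.conj, inv_zpow]
        calc v * c0 ^ j * c0 ^ i * (v * c0 ^ j)⁻¹ = v * (c0 ^ j * c0 ^ i * (c0 ^ j)⁻¹) * v⁻¹ := by group
          _ = v * c0 ^ i * v⁻¹ := by
            rw [show c0 ^ j * c0 ^ i * (c0 ^ j)⁻¹ = c0 ^ i by group]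
          _ = _ := h5
      exact Units.ext (by simpa using cp_inj hco h4)
  -- so `a ^ 2 = 1`
  have h4 : a ^ 2 = 1 := by
    apply eq_one_of_pow (card_units n) hm
    rw [← pow_mul, mul_comm, pow_mul]
    rcases h3 with h3 | h3
    · rw [h3, one_pow]
    · rw [h3]; exact Units.ext (by simp)
  have h5 : a ^ m = a := by
    obtain ⟨j, hj⟩ := hm
    calc a ^ m = a ^ (2 * j + 1) := by rw [hj]
      _ = a := by rw [pow_succ a, pow_mul a, h4, one_pow, one_mul]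
  rwa [h5] at h3

/-- `h` maps the `K`-class of `c` to that of `c ^ a`, for all `c ∈ K` of order `2^(n+2)` -/
def R (K : Subgroup G) (n : ℕ) (h : G) (a : (ZMod (2 ^ (n + 2)))ˣ) : Prop :=
  ∀ c ∈ K, orderOf c = 2 ^ (n + 2) → ∃ k ∈ K, h * c * h⁻¹ = k * cp c (a : ZMod (2 ^ (n + 2))) * k⁻¹

/-- one `c` is enough -/
theorem R_of_one (hq : QK K n) (hn : n ≠ 0) {h : G} (hh : h ∈ normalizer (K : Set G)) {c : G} (hc : c ∈ K)
    (hco : orderOf c = 2 ^ (n + 2)) {a : (ZMod (2 ^ (n + 2)))ˣ} {k : G} (hk : k ∈ K)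
    (hck : h * c * h⁻¹ = k * cp c (a : ZMod (2 ^ (n + 2))) * k⁻¹) : R K n h a := by
  intro d hd hdo
  have hc1 := pow_eq_one hco
  obtain ⟨u, j, hj, rfl⟩ := exists_rel hq hn hc hco hd hdo
  refine ⟨(h * j * h⁻¹) * k * j⁻¹, K.mul_mem (K.mul_mem ((mem_normalizer_iff.1 hh j).1 hj) hk)
    (K.inv_mem hj), ?_⟩
  have h1 : cp (cp c (a : ZMod (2 ^ (n + 2)))) (u : ZMod (2 ^ (n + 2))) =
      cp (cp c (u : ZMod (2 ^ (n + 2)))) (a : ZMod (2 ^ (n + 2))) := by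
    rw [← cp_mul hc1, ← cp_mul hc1, mul_comm]
  calc h * (j * cp c (u : ZMod (2 ^ (n + 2))) * j⁻¹) * h⁻¹
      = (h * j * h⁻¹) * (h * cp c (u : ZMod (2 ^ (n + 2))) * h⁻¹) * (h * j * h⁻¹)⁻¹ := by group
    _ = (h * j * h⁻¹) * (cp (h * c * h⁻¹) (u : ZMod (2 ^ (n + 2)))) * (h * j * h⁻¹)⁻¹ := by rw [cp_conj]
    _ = (h * j * h⁻¹) * (k * cp (cp c (a : ZMod (2 ^ (n + 2)))) (u : ZMod (2 ^ (n + 2))) * k⁻¹) *
        (h * j * h⁻¹)⁻¹ := by rw [hck, ← cp_conj k]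
    _ = (h * j * h⁻¹) * (k * cp (cp c (u : ZMod (2 ^ (n + 2)))) (a : ZMod (2 ^ (n + 2))) * k⁻¹) *
        (h * j * h⁻¹)⁻¹ := by rw [h1]
    _ = (h * j * h⁻¹) * k * j⁻¹ * (j * cp (cp c (u : ZMod (2 ^ (n + 2)))) (a : ZMod (2 ^ (n + 2))) * j⁻¹) *
        ((h * j * h⁻¹) * k * j⁻¹)⁻¹ := by group
    _ = _ := by rw [cp_conj]

theorem exists_mem (hq : QK K n) : ∃ c ∈ K, orderOf c = 2 ^ (n + 2) := by
  obtain ⟨Q, hQ⟩ := Hyp.exists_syl K
  obtain ⟨c, v, z, g⟩ := hq Q hQ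
  exact ⟨c, hQ.1 g.c_mem, g.ord⟩

theorem exists_R (hq : QK K n) (hn : n ≠ 0) {h : G} (hh : h ∈ normalizer (K : Set G)) : ∃ a, R K n h a := by
  obtain ⟨c, hc, hco⟩ := exists_mem hq
  have h1 : orderOf (h * c * h⁻¹) = 2 ^ (n + 2) := by
    have := (MulAut.conj h).orderOf_eq c
    rw [MulAut.conj_apply] at this
    rw [this, hco]
  obtain ⟨a, k, hk, hka⟩ := exists_rel hq hn hc hco ((mem_normalizer_iff.1 hh c).1 hc) h1
  exact ⟨a, R_of_one hq hn hh hc hco hk hka⟩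

theorem R_unique (hq : QK K n) (hn : n ≠ 0) {h : G} {a b : (ZMod (2 ^ (n + 2)))ˣ} (ha : R K n h a)
    (hb : R K n h b) : a = b ∨ a = -b := by
  obtain ⟨c, hc, hco⟩ := exists_mem hq
  obtain ⟨k, hk, h1⟩ := ha c hc hco
  obtain ⟨l, hl, h2⟩ := hb c hc hco
  rw [h1] at h2
  have hc1 := pow_eq_one hco
  have h3 : (l⁻¹ * k) * cp c (a : ZMod (2 ^ (n + 2))) * (l⁻¹ * k)⁻¹ = cp c (b : ZMod (2 ^ (n + 2))) := by
    calc (l⁻¹ * k) * cp c (a : ZMod (2 ^ (n + 2))) * (l⁻¹ * k)⁻¹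
        = l⁻¹ * (k * cp c (a : ZMod (2 ^ (n + 2))) * k⁻¹) * l := by group
      _ = _ := by rw [h2]; group
  have h4 : cp (cp c (a : ZMod (2 ^ (n + 2)))) ((a⁻¹ * b : (ZMod (2 ^ (n + 2)))ˣ) : ZMod (2 ^ (n + 2))) =
      cp c (b : ZMod (2 ^ (n + 2))) := by
    rw [← cp_mul hc1, ← Units.val_mul, mul_inv_cancel_left]
  rw [← h4] at h3
  rcases eq_one_or hq hn (K.pow_mem hc _) (orderOf_cp hco a) (K.mul_mem (K.inv_mem hl) hk) _ h3 with h5 | h5
  · left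
    rw [inv_mul_eq_one] at h5
    exact h5
  · right
    rw [inv_mul_eq_iff_eq_mul] at h5
    rw [h5, mul_neg, mul_one, neg_neg]

theorem R_mul (hq : QK K n) (hn : n ≠ 0) {h g : G} (hh : h ∈ normalizer (K : Set G))
    (hg : g ∈ normalizer (K : Set G)) {a b : (ZMod (2 ^ (n + 2)))ˣ} (ha : R K n h a)
    (hb : R K n g b) : R K n (h * g) (a * b) := by
  obtain ⟨c, hc, hco⟩ := exists_mem hq
  obtain ⟨k, hk, h1⟩ := ha c hc hco
  obtain ⟨l, hl, h2⟩ := hb c hc hco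
  refine R_of_one hq hn (mul_mem hh hg) hc hco (k := (h * l * h⁻¹) * k)
    (K.mul_mem ((mem_normalizer_iff.1 hh l).1 hl) hk) ?_
  calc h * g * c * (h * g)⁻¹ = h * (g * c * g⁻¹) * h⁻¹ := by group
    _ = h * (l * cp c (b : ZMod (2 ^ (n + 2))) * l⁻¹) * h⁻¹ := by rw [h2]
    _ = (h * l * h⁻¹) * (h * cp c (b : ZMod (2 ^ (n + 2))) * h⁻¹) * (h * l * h⁻¹)⁻¹ := by group
    _ = (h * l * h⁻¹) * (k * cp (cp c (a : ZMod (2 ^ (n + 2)))) (b : ZMod (2 ^ (n + 2))) * k⁻¹) *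
        (h * l * h⁻¹)⁻¹ := by rw [cp_conj h, h1, ← cp_conj k]
    _ = (h * l * h⁻¹) * (k * cp c ((a * b : (ZMod (2 ^ (n + 2)))ˣ) : ZMod (2 ^ (n + 2))) * k⁻¹) *
        (h * l * h⁻¹)⁻¹ := by rw [← cp_mul (pow_eq_one hco), Units.val_mul]
    _ = _ := by group

theorem R_self {h : G} (hh : h ∈ K) : R K n h 1 := by
  intro c _ hco
  refine ⟨h, hh, ?_⟩
  rw [Units.val_one, cp_one (pow_eq_one hco)]

theorem R_conj {h : G} {a : (ZMod (2 ^ (n + 2)))ˣ} (ha : R K n h a) (g : G) :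
    R (cj g K) n (g * h * g⁻¹) a := by
  intro c hc hco
  rw [mem_cj] at hc
  have h1 : orderOf (g⁻¹ * c * g) = 2 ^ (n + 2) := by
    have := (MulAut.conj g⁻¹).orderOf_eq c
    rw [MulAut.conj_apply, inv_inv] at this
    rw [this, hco]
  obtain ⟨k, hk, h2⟩ := ha _ hc h1
  refine ⟨g * k * g⁻¹, mem_cj.2 (by rwa [show g⁻¹ * (g * k * g⁻¹) * g = k by group]), ?_⟩
  calc g * h * g⁻¹ * c * (g * h * g⁻¹)⁻¹ = g * (h * (g⁻¹ * c * g) * h⁻¹) * g⁻¹ := by group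
    _ = g * (k * cp (g⁻¹ * c * g) (a : ZMod (2 ^ (n + 2))) * k⁻¹) * g⁻¹ := by rw [h2]
    _ = (g * k * g⁻¹) * (g * cp (g⁻¹ * c * g) (a : ZMod (2 ^ (n + 2))) * g⁻¹) * (g * k * g⁻¹)⁻¹ := by group
    _ = _ := by
      rw [cp_conj g]
      congr 3
      group

end one

/-! ### The group `M n = (ℤ/2^(n+2))ˣ / {±1}` -/

/-- the value group -/
def M (n : ℕ) : Type := (ZMod (2 ^ (n + 2)))ˣ ⧸ zpowers (-1 : (ZMod (2 ^ (n + 2)))ˣ)

instance (n : ℕ) : CommGroup (M n) :=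
  inferInstanceAs (CommGroup ((ZMod (2 ^ (n + 2)))ˣ ⧸ zpowers (-1 : (ZMod (2 ^ (n + 2)))ˣ)))

/-- the projection -/
def q (n : ℕ) : (ZMod (2 ^ (n + 2)))ˣ →* M n := QuotientGroup.mk' _

theorem q_eq_one {n : ℕ} (a : (ZMod (2 ^ (n + 2)))ˣ) : q n a = 1 ↔ a = 1 ∨ a = -1 := by
  have h1 : q n a = 1 ↔ a ∈ zpowers (-1 : (ZMod (2 ^ (n + 2)))ˣ) := QuotientGroup.eq_one_iff a
  rw [h1]
  constructor
  · rintro ⟨k, hk⟩
    have hk' : (-1 : (ZMod (2 ^ (n + 2)))ˣ) ^ k = a := hk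
    rcases Int.even_or_odd k with h | h
    · left; rw [← hk', h.neg_one_zpow]
    · right; rw [← hk', h.neg_one_zpow]
  · rintro (rfl | rfl)
    · exact one_mem _
    · exact mem_zpowers _

theorem q_eq {n : ℕ} {a b : (ZMod (2 ^ (n + 2)))ˣ} (h : a = b ∨ a = -b) : q n a = q n b := by
  rw [← mul_inv_eq_one, ← map_inv, ← map_mul, q_eq_one]
  rcases h with rfl | rfl
  · left; rw [mul_inv_cancel]
  · right; rw [neg_mul, mul_inv_cancel]

theorem card_M (n : ℕ) : ∃ s, Nat.card (M n) = 2 ^ s := by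
  have h1 : Nat.card (M n) ∣ 2 ^ (n + 1) := by
    rw [← card_units n]
    exact card_quotient_dvd_card _
  obtain ⟨s, -, hs⟩ := (Nat.dvd_prime_pow Nat.prime_two).1 h1
  exact ⟨s, hs⟩

open Classical in
/-- the homomorphism for one `K` -/
noncomputable def psiK (K : Subgroup G) (n : ℕ) (h : G) : M n :=
  if hh : ∃ a, R K n h a then q n hh.choose else 1

theorem psiK_eq [Finite G] {K : Subgroup G} {n : ℕ} (hq : QK K n) (hn : n ≠ 0) {h : G}
    {a : (ZMod (2 ^ (n + 2)))ˣ} (ha : R K n h a) : psiK K n h = q n a := by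
  unfold psiK
  rw [dif_pos ⟨a, ha⟩]
  exact q_eq (R_unique hq hn (⟨a, ha⟩ : ∃ a, R K n h a).choose_spec ha)

end Cfsg.Agent.Cit.OneFieldHom
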