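import Cfsg.Agent.Cit.TSimple

/-!
# THEOREM T: the pieces coming from the components

`O(G) = 1`, `L` a component with `OmL Om L ≠ ∅`: then `L` is a piece, the members of `OmL Om L` are contained in `L`
and have trivial odd core (`component_piece`).
-/

set_option autoImplicit false
set_option linter.unusedSectionVars false
set_option linter.style.haveILetI false

namespace Cfsg.Agent.Cit

open Subgroup Cfsg Cfsg.Agent.Cit.OneCompE Cfsg.Agent.Cit.OneComp Cfsg.Agent.Cit.Comp
open Cfsg.Agent.SignalizersComponents.Components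

universe u

theorem TLt.mono {M N : ℕ} (h : TLt.{u} N) (hMN : M ≤ N) : TLt.{u} M :=
  fun Y _ _ hY Om h1 h2 h3 => h Y (hY.trans_le hMN) Om h1 h2 h3

theorem isPGroup_center_component {G : Type*} [Group G] [Finite G] (hO : pPrimeCore 2 G = ⊥) {L : Subgroup G}
    (hL : IsComponent L) : IsPGroup 2 (center L) := by
  haveI : Fact (Nat.Prime 2) := ⟨Nat.prime_two⟩
  have h1 : OO L = ⊥ := OO_eq_bot_of_isSubnormal hO hL.1
  have h2 : oddCore L = ⊥ := by
    rw [OO, Subgroup.map_eq_bot_iff, ker_subtype, le_bot_iff] at h1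
    exact h1
  intro x
  -- the odd part of `x`
  obtain ⟨k, m, hm, hkm⟩ := Nat.exists_eq_two_pow_mul_odd (orderOf_pos x).ne'
  refine ⟨k, ?_⟩
  set y : center L := x ^ 2 ^ k with hy
  have hyo : orderOf y ∣ m := by
    apply orderOf_dvd_of_pow_eq_one
    rw [hy, ← pow_mul, ← hkm, pow_orderOf_eq_one]
  have hyc : (y : L) ∈ center L := y.2
  have hN : (zpowers (y : L)).Normal := by
    refine ⟨fun a ha g => ?_⟩
    have h3 : a ∈ center L := (zpowers_le.2 hyc) ha
    rw [mem_center_iff.1 h3 g, mul_assoc, mul_inv_cancel, mul_one]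
    exact ha
  have h3 : ¬ 2 ∣ Nat.card (zpowers (y : L)) := by
    rw [Nat.card_zpowers, Subgroup.orderOf_coe]
    intro h4
    exact (Nat.not_even_iff_odd.2 hm) (even_iff_two_dvd.2 (h4.trans hyo))
  have h4 := le_oddCore hN h3
  rw [h2, le_bot_iff, zpowers_eq_bot] at h4
  exact Subtype.ext h4

section

variable {G : Type u} [Group G] [Finite G] {Om : Set (Subgroup G)} {L : Subgroup G}

theorem component_piece (hcore : CoreLeaf.{u}) (hQ1 : Q1Leaf.{u}) (hQ2 : Q2Leaf.{u}) (hev : EvLeaf.{u})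
    (h : Hyp Om) (hT : ∀ K ∈ Om, Ty K) (hU : Uni Om) (hO : pPrimeCore 2 G = ⊥) (hL : IsComponent L)
    (hne : (OmL Om L).Nonempty) (ind : TLt.{u} (Nat.card G)) :
    Piece Om L ∧ ∀ K ∈ OmL Om L, K ≤ L ∧ OO K = ⊥ := by
  have hB : ∀ K ∈ OmL Om L, LemB K := fun K hK =>
    lemB_of_types h hK.1 (hT K hK.1).isType.tyOne (hT K hK.1).isType.tyTwo
  have hT2 : ∀ K ∈ OmL Om L, TyTwo K := fun K hK => (hT K hK.1).isType.tyTwo
  have hev' : EvQ G := hev G
  haveI hCN : (CL Om L).Normal := CL_normal h hO hev' hB hT2 hL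
  have hCc := CL_le_center h hO hev' hB hT2 hL
  have hC2 := isPGroup_CL h hO hev' hB hT2 hL
  set q := QuotientGroup.mk' (CL Om L) with hq
  have hkq : q.ker = CL Om L := QuotientGroup.ker_mk' _
  set Ob := img q (OmH Om L) with hObdef
  have hOb : Hyp Ob := hyp_quo h hO hev' hB hT2 hL
  have hTH : ∀ J ∈ OmH Om L, Ty J := fun J hJ =>
    Ty.of_map (HL Om L).subtype (HL Om L).subtype_injective (hT _ (show J.map (HL Om L).subtype ∈ Om from hJ.1))
  have hinf : ∀ J ∈ OmH Om L, J ⊓ q.ker = ⊥ := fun J hJ => by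
    rw [hkq]; exact inf_CL h hO hev' hB hT2 hL hJ
  have hTb : ∀ K ∈ Ob, Ty K := by
    rintro _ ⟨J, hJ, rfl⟩
    refine (hTH J hJ).map q ?_
    have h1 : (q.subgroupMap J).ker = ⊥ := by
      rw [eq_bot_iff]
      intro x hx
      rw [mem_bot]
      exact Subtype.ext (eq_one_of_inf (hinf J hJ) x.2 (congrArg Subtype.val (MonoidHom.mem_ker.1 hx)))
    rw [h1, card_bot]
    omega
  have hUb : Uni Ob := ((hU.mono fun K hK => hK.1 : Uni (OmL Om L)).restr (HL Om L)).img_inf hinf
  set F := Lbar Om L with hF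
  have hFn : F.Normal := Lbar_normal h hO hB hL
  have hFs : IsSimpleGroup F := Lbar_simple hL
  have hFc : centralizer (F : Set (HL Om L ⧸ CL Om L)) = ⊥ := centralizer_Lbar hL hCc
  have hObne : Ob.Nonempty := by
    obtain ⟨K, hK⟩ := hne
    exact ⟨_, K.subgroupOf (HL Om L), subgroupOf_mem_OmH hK, rfl⟩
  have hcard : Nat.card (HL Om L ⧸ CL Om L) ≤ Nat.card G := by
    refine (Nat.card_le_card_of_surjective q (QuotientGroup.mk'_surjective _)).trans ?_
    exact Nat.le_of_dvd Nat.card_pos (card_subgroup_dvd_card _)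
  have hp : HasPieces Ob := hasPieces_of_simple hcore hQ1 hQ2 hev hFn hFs hFc hOb hTb hUb hObne (ind.mono hcard)
  -- `Y = ⟨Ob⟩`
  have hgen : sSup Ob = ⊤ := by
    have h1 : L.subgroupOf (HL Om L) ⊔ sSup (OmH Om L) = ⊤ := by
      apply Subgroup.map_injective (HL Om L).subtype_injective
      rw [← MonoidHom.range_eq_map, range_subtype, Subgroup.map_sup, map_subgroupOf_eq_of_le le_HL]
      refine le_antisymm (sup_le le_HL (map_subtype_le _)) ?_
      refine HL_le le_sup_left fun K hK => ?_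
      refine le_trans ?_ le_sup_right
      rw [← map_subgroupOf_eq_of_le (mem_le_HL hK)]
      exact Subgroup.map_mono (le_sSup (subgroupOf_mem_OmH hK))
    have h2 : F ⊔ sSup Ob = ⊤ := by
      have h3 := congrArg (Subgroup.map q) h1
      rw [Subgroup.map_sup, Subgroup.map_top_of_surjective q (QuotientGroup.mk'_surjective _)] at h3
      rw [← top_le_iff, ← h3]
      refine sup_le_sup le_rfl ?_
      rw [Subgroup.map_le_iff_le_comap]
      refine sSup_le fun J hJ => ?_
      rw [← Subgroup.map_le_iff_le_comap]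
      exact le_sSup ⟨J, hJ, rfl⟩
    rwa [sup_eq_right.2 (le_sSup_of_simple hFn hFs hFc hOb hObne)] at h2
  have hpc : ∀ K ∈ Ob, pc Ob K = F := fun K hK => (pc_eq_of_simple hFn hFs hFc hOb hp hgen hK).1
  have hFOb : F ∉ Ob := by
    obtain ⟨K, hK⟩ := hObne
    exact (pc_eq_of_simple hFn hFs hFc hOb hp hgen hK).2
  have hleL : ∀ K ∈ OmL Om L, K ≤ L ∧ OO K = ⊥ := by
    intro K hK
    have hJ := subgroupOf_mem_OmH hK
    have h1 : (K.subgroupOf (HL Om L)).map q ≤ F := by
      rw [← hpc _ ⟨_, hJ, rfl⟩]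
      exact le_pc
    have h2 := le_of_map_le (f := q) (by rw [hkq]; exact hCc) (by rw [hkq]; exact hC2)
      (hTH _ hJ).isType.tyTwo h1
    refine ⟨fun x hx => h2 (x := ⟨x, mem_le_HL hK hx⟩) hx, ?_⟩
    have h3 : OO (K.subgroupOf (HL Om L)) = ⊥ := by
      have h4 := map_OO_le q (K.subgroupOf (HL Om L))
      rw [hp.core _ ⟨_, hJ, rfl⟩, le_bot_iff, Subgroup.map_eq_bot_iff] at h4
      rw [eq_bot_iff, ← hinf _ hJ]
      exact le_inf (OO_le _) h4
    have h5 := OO_map (HL Om L).subtype (HL Om L).subtype_injective (K.subgroupOf (HL Om L))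
    rw [map_subgroupOf_eq_of_le (mem_le_HL hK), h3, Subgroup.map_bot] at h5
    exact h5
  refine ⟨?_, hleL⟩
  -- members contained in `L`
  have hmem : ∀ K ∈ Om, K ≤ L → K ∈ OmL Om L := by
    intro K hK hKL
    refine ⟨hK, fun hle => ?_⟩
    rcases le_or_comm_of_le_centralizer h hK hL hle with h1 | h1
    · have h2 : K = L := le_antisymm hKL h1
      obtain ⟨K', hK'⟩ := hne
      have h3 := zz_mem_component h hO hK'.1 (hB K' hK') hL hK'.2
      have h4 : zz K' = zz K := h.uniq K hK _ (h2 ▸ h3) (h.orderOf_zz hK'.1)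
      exact hK'.2 (h4 ▸ hle)
    · refine h.not_le_centralizer_self hK fun x hx => ?_
      rw [mem_centralizer_iff]
      exact fun y hy => h1 y (hKL hy) x hx
  -- the map `L → F`
  let f0 : L →* (HL Om L ⧸ CL Om L) := q.comp (Subgroup.inclusion le_HL)
  let f : L →* F := f0.codRestrict F fun x => ⟨Subgroup.inclusion le_HL x, x.2, rfl⟩
  have hfs : Function.Surjective f := by
    rintro ⟨_, x, hx, rfl⟩
    exact ⟨⟨x, hx⟩, rfl⟩
  have hfk : f.ker = center L := by
    ext x
    rw [MonoidHom.mem_ker]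
    have h1 : f x = 1 ↔ q (Subgroup.inclusion le_HL x) = 1 := by
      constructor
      · exact fun h => congrArg Subtype.val h
      · exact fun h => Subtype.ext h
    rw [h1, hq, QuotientGroup.mk'_apply, QuotientGroup.eq_one_iff, mem_center_iff]
    change (x : G) ∈ centralizer (L : Set G) ↔ _
    rw [mem_centralizer_iff]
    constructor
    · intro h1 y
      exact Subtype.ext (h1 y y.2)
    · intro h1 y hy
      exact congrArg Subtype.val (h1 ⟨y, hy⟩)
  have hmapf : ∀ J : Subgroup L, (J.map f).map F.subtype =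
      ((J.map L.subtype).subgroupOf (HL Om L)).map q := by
    intro J
    rw [Subgroup.map_map]
    have h1 : F.subtype.comp f = f0 := by ext x; rfl
    rw [h1]
    ext y
    constructor
    · rintro ⟨x, hx, rfl⟩
      exact ⟨Subgroup.inclusion le_HL x, ⟨x, hx, rfl⟩, rfl⟩
    · rintro ⟨x, ⟨z, hz, hzx⟩, rfl⟩
      refine ⟨z, hz, ?_⟩
      have h2 : Subgroup.inclusion le_HL z = x := Subtype.ext hzx
      change q (Subgroup.inclusion le_HL z) = q x
      rw [h2]
  have himg : img f (restr Om L) = restr Ob F := by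
    ext E
    constructor
    · rintro ⟨J, hJ, rfl⟩
      change (J.map f).map F.subtype ∈ Ob
      rw [hmapf]
      have hJO : J.map L.subtype ∈ OmL Om L := hmem _ hJ (map_subtype_le J)
      exact ⟨_, subgroupOf_mem_OmH hJO, rfl⟩
    · intro hE
      obtain ⟨J, hJ, e⟩ := hE
      have hJO : J.map (HL Om L).subtype ∈ OmL Om L := hJ
      have hJL := (hleL _ hJO).1
      refine ⟨(J.map (HL Om L).subtype).subgroupOf L, subgroupOf_mem_restr hJO.1 hJL, ?_⟩
      apply Subgroup.map_injective F.subtype_injective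
      rw [hmapf, map_subgroupOf_eq_of_le hJL, ← e]
      congr 1
      exact comap_map_eq_self_of_injective (HL Om L).subtype_injective J
  have hPF : Piece (img f (restr Om L)) (⊤ : Subgroup F) := by
    rw [himg]
    obtain ⟨K, hK⟩ := hObne
    have h1 := hp.piece hOb hK
    rw [hpc K hK] at h1
    exact h1.restrict' hOb
  have hns : (⊤ : Subgroup F) ∉ img f (restr Om L) := by
    rw [himg]
    intro h1
    apply hFOb
    have h2 : (⊤ : Subgroup F).map F.subtype ∈ Ob := h1
    rwa [← MonoidHom.range_eq_map, range_subtype] at h2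
  have hPL : Piece (restr Om L) (⊤ : Subgroup L) := by
    refine Piece.lift' hfs hfk (isPGroup_center_component hO hL) hL.2 (h.restr L)
      (fun K hK => (Ty.restr hT L K hK).isType.tyTwo) ?_ hns hPF
    intro J hJ
    have hJO : J.map L.subtype ∈ OmL Om L := hmem _ hJ (map_subtype_le J)
    have h1 := inf_centralizer_eq_bot h hO hev' hJO.1 (hB _ hJO) (hT2 _ hJO) hL hJO.2
    rw [hfk, eq_bot_iff]
    rintro x ⟨hx1, hx2⟩
    have h2 : (x : G) ∈ J.map L.subtype ⊓ centralizer (L : Set G) := by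
      refine ⟨⟨x, hx1, rfl⟩, ?_⟩
      change (x : G) ∈ centralizer (L : Set G)
      rw [mem_centralizer_iff]
      exact fun y hy => congrArg Subtype.val (mem_center_iff.1 hx2 ⟨y, hy⟩)
    rw [h1, mem_bot] at h2
    rw [mem_bot]
    exact Subtype.ext h2
  have h1 := hPL.map' (Om' := Om) (h.restr L) L.subtype L.subtype_injective (fun K _ => Iff.rfl)
  rwa [← MonoidHom.range_eq_map, range_subtype] at h1

end

end Cfsg.Agent.Cit
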