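import Cfsg.Agent.GH.QSd
import Cfsg.Agent.Cit.OneEndGlue
import Cfsg.Agent.Transfer.ThompsonTransfer
import Cfsg.Agent.Cit.OneFieldPsi

/-!
# `|Om(S)| = 1`: all pairs of type `SD`, `F = 1`: the Sylow 2-subgroups are semidihedral
-/

set_option autoImplicit false
set_option linter.style.haveILetI false
set_option linter.unusedSectionVars false
set_option linter.unusedVariables false

namespace Cfsg.Agent.Cit.OneEndSD

open Subgroup Cfsg OneBasic
open Cfsg.Agent.GH.QSd (SD exists_sd)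

variable {G : Type*} [Group G]

/-- an element of `P - N` central in `S` modulo `N` -/
theorem exists_central_mod [Finite G] {S P N : Subgroup G} (hS : IsPGroup 2 S) (hPS : P ≤ S)
    (hn : ∀ s ∈ S, ∀ p ∈ P, s * p * s⁻¹ ∈ P) (hNP : N ≤ P) (hN : ∀ s ∈ S, ∀ p ∈ N, s * p * s⁻¹ ∈ N)
    {y : G} (hy : y ∈ P) (hyN : y ∉ N) :
    ∃ u ∈ P, u ∉ N ∧ ∀ s ∈ S, u⁻¹ * (s * u * s⁻¹) ∈ N := by
  have : Fact (Nat.Prime 2) := ⟨Nat.prime_two⟩
  have hNS : N ≤ S := hNP.trans hPS
  let Z : Subgroup S := N.subgroupOf S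
  have hZn : Z.Normal := by
    refine ⟨fun x hx g => ?_⟩
    rw [mem_subgroupOf] at hx ⊢
    exact hN g g.2 x hx
  have : (P.subgroupOf S).Normal := by
    refine ⟨fun x hx g => ?_⟩
    rw [mem_subgroupOf] at hx ⊢
    exact hn g g.2 x hx
  let π : S →* (S ⧸ Z) := QuotientGroup.mk' Z
  have hπs : Function.Surjective π := QuotientGroup.mk'_surjective Z
  have hNor : ((P.subgroupOf S).map π).Normal := Subgroup.Normal.map inferInstance π hπs
  have hpi1 : ∀ x : S, π x = 1 ↔ (x : G) ∈ N := fun x => by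
    show (QuotientGroup.mk' Z) x = 1 ↔ _
    rw [← MonoidHom.mem_ker, QuotientGroup.ker_mk', mem_subgroupOf]
  have hne : (P.subgroupOf S).map π ≠ ⊥ := by
    intro hb
    have h1 : π ⟨y, hPS hy⟩ ∈ (P.subgroupOf S).map π := mem_map_of_mem _ (by rw [mem_subgroupOf]; exact hy)
    rw [hb, mem_bot, hpi1] at h1
    exact hyN h1
  have hp : IsPGroup 2 (S ⧸ Z) := hS.to_quotient Z
  have : Group.IsNilpotent (S ⧸ Z) := hp.isNilpotent
  have h1 := Cfsg.Agent.Lib.NormalAbelian.normal_inf_center_ne_bot ((P.subgroupOf S).map π) hne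
  rw [Ne, Subgroup.eq_bot_iff_forall] at h1
  push Not at h1
  obtain ⟨w, hx, hj1⟩ := h1
  obtain ⟨⟨u, huP, hu⟩, hwc⟩ := hx
  have hwc' : ∀ g, g * w = w * g := mem_center_iff.1 hwc
  refine ⟨u, by simpa [mem_subgroupOf] using huP, ?_, ?_⟩
  · intro h
    apply hj1
    rw [← hu, hpi1]
    exact h
  · intro s hs
    have h3 : π (u⁻¹ * (⟨s, hs⟩ * u * ⟨s, hs⟩⁻¹) : S) = 1 := by
      rw [map_mul, map_mul, map_mul, map_inv, map_inv, hu, hwc']
      group
    rw [hpi1] at h3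
    simpa using h3

/-- data for the world of type `SD`, `F = 1` -/
structure SP (ZZ : Set G) (S Q : Subgroup G) (c v z t w' : G) (n : ℕ) : Prop where
  two : IsPGroup 2 S
  sd : SD Q c v z t n
  Q_le : Q ≤ S
  nor : ∀ s ∈ S, ∀ q ∈ Q, s * q * s⁻¹ ∈ Q
  t_mem : t ∈ S
  cen : ∀ p ∈ S, p * t = t * p → (∀ x ∈ Q, p * x = x * p) → p = 1 ∨ p = z
  w'_z : w' * z * w'⁻¹ = z * t
  w'_t : w' * t = t * w'
  T_w' : ∀ s ∈ S, s * t = t * s → w' * s * w'⁻¹ = s ∨ w' * s * w'⁻¹ = s * t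
  conj : ∀ x ∈ ZZ, ∀ g, g * x * g⁻¹ ∈ ZZ
  t_ZZ : t ∈ ZZ
  z_ZZ : z ∈ ZZ
  noW : ∀ x ∈ ZZ, x ≠ z → x * z = z * x → ∀ q ∈ Q, q * q = z → q * x ≠ x * q
  cov : ∀ s ∈ S, (∃ q ∈ Q, ∀ u ∈ Q, (q * s) * u = u * (q * s)) ∨
    ∃ q ∈ Q, ∀ u ∈ Q, (q * (t * s)) * u = u * (q * (t * s))

namespace SP

variable {ZZ : Set G} {S Q : Subgroup G} {c v z t w' : G} {n : ℕ}

section basic

variable (h : SP ZZ S Q c v z t w' n)
include h

theorem z_cen {s : G} (hs : s ∈ S) : s * z = z * s := by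
  have h1 : s * z * s⁻¹ = z := by
    apply h.sd.gq.eq_z (h.nor s hs z h.sd.gq.z_mem)
    · calc s * z * s⁻¹ * (s * z * s⁻¹) = s * (z * z) * s⁻¹ := by group
        _ = 1 := by rw [h.sd.gq.z_mul]; group
    · intro h2
      apply h.sd.gq.z_ne
      calc z = s⁻¹ * (s * z * s⁻¹) * s := by group
        _ = 1 := by rw [h2]; group
  exact mul_inv_eq_iff_eq_mul.1 h1

theorem c_mem : c ∈ S := h.Q_le h.sd.gq.c_mem
theorem v_mem : v ∈ S := h.Q_le h.sd.gq.v_mem
theorem z_mem : z ∈ S := h.Q_le h.sd.gq.z_mem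
theorem zt : z * t = t * z := (h.z_cen h.t_mem).symm

theorem t_ne : t ≠ 1 := by
  rintro rfl
  have h1 := h.sd.yc
  have h2 : c = c⁻¹ := by simpa using h1
  exact h.sd.gq.c_sq_ne (by rw [← mul_inv_cancel c]; exact congrArg (c * ·) h2)

/-- (2) `z` is not the square of an element of `T` -/
theorem not_sq {s : G} (hs : s ∈ S) (hst : s * t = t * s) : s * s ≠ z := by
  intro hsq
  have h1 : w' * (s * s) * w'⁻¹ = s * s := by
    rcases h.T_w' s hs hst with h2 | h2
    · calc w' * (s * s) * w'⁻¹ = (w' * s * w'⁻¹) * (w' * s * w'⁻¹) := by group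
        _ = s * s := by rw [h2]
    · calc w' * (s * s) * w'⁻¹ = (w' * s * w'⁻¹) * (w' * s * w'⁻¹) := by group
        _ = s * t * (s * t) := by rw [h2]
        _ = s * (t * s) * t := by group
        _ = s * (s * t) * t := by rw [hst]
        _ = s * s * (t * t) := by group
        _ = s * s := by rw [h.sd.sq, mul_one]
  rw [hsq, h.w'_z] at h1
  exact h.t_ne (mul_eq_left.1 h1)

/-- the element `w` of order 4 of `⟨c⟩` -/
theorem exists_w : ∃ w ∈ Q, w * w = z ∧ t * w = w * z * t ∧ w * z = z * w := by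
  refine ⟨c ^ ((2 : ℤ) ^ n), Q.zpow_mem h.sd.gq.c_mem _, ?_, ?_, ?_⟩
  · rw [← zpow_add, ← OneEndW.z_eq' h.sd.gq]; congr 1; ring
  · have h1 := h.sd.y_c ((2 : ℤ) ^ n)
    have h2 : c ^ (-(2 : ℤ) ^ n) = c ^ ((2 : ℤ) ^ n) * z := by
      rw [← OneEndW.z_eq' h.sd.gq, ← zpow_add]
      have h3 : c ^ ((2 : ℤ) ^ n + 2 ^ (n + 1) - (-(2 : ℤ) ^ n)) = 1 :=
        (OneEndW.zpow_one_iff h.sd.gq).2 ⟨1, by ring⟩
      rw [zpow_sub, mul_inv_eq_one] at h3
      exact h3.symm
    rw [h2] at h1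
    exact mul_inv_eq_iff_eq_mul.1 h1
  · exact h.z_cen (S.zpow_mem h.c_mem _)

/-- elements of `P = C_S(Q)` -/
theorem mem_P {p : G} : p ∈ S ⊓ centralizer (Q : Set G) ↔ p ∈ S ∧ ∀ x ∈ Q, p * x = x * p := by
  rw [mem_inf, mem_centralizer_iff]
  exact ⟨fun h1 => ⟨h1.1, fun x hx => (h1.2 x hx).symm⟩, fun h1 => ⟨h1.1, fun x hx => (h1.2 x hx).symm⟩⟩

theorem P_norm : ∀ s ∈ S, ∀ p ∈ S ⊓ centralizer (Q : Set G), s * p * s⁻¹ ∈ S ⊓ centralizer (Q : Set G) := by
  intro s hs p hp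
  rw [h.mem_P] at hp ⊢
  refine ⟨S.mul_mem (S.mul_mem hs hp.1) (S.inv_mem hs), fun q hq => ?_⟩
  have h1 : s⁻¹ * q * s ∈ Q := by simpa using h.nor s⁻¹ (S.inv_mem hs) q hq
  have h2 := hp.2 _ h1
  calc s * p * s⁻¹ * q = s * (p * (s⁻¹ * q * s)) * s⁻¹ := by group
    _ = q * (s * p * s⁻¹) := by rw [h2]; group

theorem z_P : z ∈ S ⊓ centralizer (Q : Set G) :=
  h.mem_P.2 ⟨h.z_mem, fun x hx => (h.z_cen (h.Q_le hx)).symm⟩

/-- an element of `Q ∩ C(Q)` -/
theorem eq_of_Q {q : G} (hq : q ∈ Q) (hc : ∀ x ∈ Q, q * x = x * q) : q = 1 ∨ q = z := by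
  by_cases h1 : q = 1
  · exact Or.inl h1
  right
  have h2 : q * q = 1 := by
    rcases OneEndW.cov' h.sd.gq q hq with ⟨i, rfl⟩ | ⟨i, rfl⟩
    · have h3 := hc v h.sd.gq.v_mem
      rw [OneEndW.zpow_v h.sd.gq] at h3
      have h4 := mul_left_cancel h3
      calc c ^ i * c ^ i = c ^ i * c ^ (-i) := by rw [← h4]
        _ = 1 := by group
    · exfalso
      have h3 := hc c h.sd.gq.c_mem
      have h4 : v * c = c * v := by
        have h5 : c ^ i * c = c * c ^ i := (((Commute.refl c).zpow_left i)).eq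
        calc v * c = v * (c ^ i * c) * (c ^ i)⁻¹ := by rw [h5]; group
          _ = (v * c ^ i * c) * (c ^ i)⁻¹ := by group
          _ = c * v := by rw [h3]; group
      exact h.sd.gq.not_comm h4
  exact h.sd.gq.eq_z hq h2 h1

end basic

section main

variable (h : SP ZZ S Q c v z t w' n)
include h

/-- (3) an element `u ∈ P` with `u² = z`, `u^t = u z`: then `u t ∉ ZZ`, and `w u` is an involution outside `ZZ` -/
theorem ut_not {u : G} (huS : u ∈ S) (huQ : ∀ x ∈ Q, u * x = x * u) (huu : u * u = z) (hut : t * u = u * z * t) :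
    u * t ∉ ZZ ∧ u * z * t ∉ ZZ ∧ ∃ e ∈ S, e * e = 1 ∧ e ∉ ZZ ∧ ∃ w ∈ Q, e = w * u := by
  obtain ⟨w, hwQ, hww, htw, hwz⟩ := h.exists_w
  have hwS : w ∈ S := h.Q_le hwQ
  have hzz := h.sd.gq.z_mul
  have htt := h.sd.sq
  have hzt := h.zt
  have huz : u * z = z * u := h.z_cen huS
  have huw : u * w = w * u := huQ w hwQ
  -- the involution `e = w u`
  obtain ⟨e, he⟩ : ∃ e, e = w * u := ⟨_, rfl⟩
  have heS : e ∈ S := by rw [he]; exact S.mul_mem hwS huS
  have hee : e * e = 1 := by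
    calc e * e = w * (u * w) * u := by rw [he]; group
      _ = w * w * (u * u) := by rw [huw]; group
      _ = 1 := by rw [hww, huu, hzz]
  have het : e * t = t * e := by
    calc e * t = w * (u * (z * z)) * t := by rw [hzz, mul_one, he]
      _ = w * (u * z) * z * t := by group
      _ = w * (z * u) * z * t := by rw [huz]
      _ = w * z * (u * z * t) := by group
      _ = w * z * (t * u) := by rw [hut]
      _ = (w * z * t) * u := by group
      _ = (t * w) * u := by rw [htw]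
      _ = t * e := by rw [he]; group
  have hez : e * z = z * e := h.z_cen heS
  have hew : e * w = w * e := by
    rw [he]
    calc w * u * w = w * (u * w) := by group
      _ = w * (w * u) := by rw [huw]
  have he_ne : e ≠ 1 ∧ e ≠ z := by
    have aux : ∀ q ∈ Q, e = q → False := by
      intro q hq heq
      have h1 : u = w⁻¹ * q := by rw [← heq, he]; group
      have h2 : u ∈ Q := by rw [h1]; exact Q.mul_mem (Q.inv_mem hwQ) hq
      rcases h.eq_of_Q h2 huQ with h3 | h3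
      · rw [h3, mul_one] at huu
        exact h.sd.gq.z_ne huu.symm
      · rw [h3, hzz] at huu
        exact h.sd.gq.z_ne huu.symm
    exact ⟨fun h1 => aux 1 Q.one_mem h1, fun h1 => aux z h.sd.gq.z_mem h1⟩
  -- elements commuting with `w` are not in `ZZ`
  have hnot : ∀ f : G, f ≠ z → f * z = z * f → w * f = f * w → f ∉ ZZ := fun f h1 h2 h3 h4 =>
    h.noW f h4 h1 h2 w hwQ hww h3
  have hzw' : w' * z * w'⁻¹ = z * t := h.w'_z
  have hwt : w * t * w⁻¹ = z * t := by
    rw [mul_inv_eq_iff_eq_mul]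
    calc w * t = w * (z * z) * t := by rw [hzz, mul_one]
      _ = z * (w * z * t) := by
          calc w * (z * z) * t = (w * z) * z * t := by group
            _ = (z * w) * z * t := by rw [hwz]
            _ = z * (w * z * t) := by group
      _ = z * (t * w) := by rw [htw]
      _ = z * t * w := by group
  -- `f0` commutes with `w'`
  obtain ⟨f0, hf0, hf0w'⟩ : ∃ f0, (f0 = e ∨ f0 = e * z) ∧ w' * f0 * w'⁻¹ = f0 := by
    rcases h.T_w' e heS het with h1 | h1
    · exact ⟨e, Or.inl rfl, h1⟩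
    · refine ⟨e * z, Or.inr rfl, ?_⟩
      calc w' * (e * z) * w'⁻¹ = (w' * e * w'⁻¹) * (w' * z * w'⁻¹) := by group
        _ = e * t * (z * t) := by rw [h1, hzw']
        _ = e * (t * z) * t := by group
        _ = e * (z * t) * t := by rw [hzt]
        _ = e * z * (t * t) := by group
        _ = e * z := by rw [htt, mul_one]
  have hf0z : f0 * z ∉ ZZ := by
    rcases hf0 with hf0 | hf0
    · rw [hf0]
      apply hnot
      · intro h1; exact he_ne.1 (mul_eq_right.1 h1)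
      · calc e * z * z = z * e * z := by rw [hez]
          _ = z * (e * z) := by group
      · calc w * (e * z) = (w * e) * z := by group
          _ = e * (w * z) := by rw [← hew]; group
          _ = e * z * w := by rw [hwz]; group
    · rw [hf0, mul_assoc, hzz, mul_one]
      exact hnot e he_ne.2 hez hew.symm
  have hf0zt : f0 * (z * t) ∉ ZZ := by
    intro h1
    apply hf0z
    have h2 := h.conj _ h1 w'⁻¹
    have h3 : w'⁻¹ * (f0 * (z * t)) * w'⁻¹⁻¹ = f0 * z := by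
      have h4 : w' * (f0 * z) * w'⁻¹ = f0 * (z * t) := by
        calc w' * (f0 * z) * w'⁻¹ = (w' * f0 * w'⁻¹) * (w' * z * w'⁻¹) := by group
          _ = f0 * (z * t) := by rw [hf0w', hzw']
      rw [← h4]; group
    rwa [h3] at h2
  have hf0w : w * f0 * w⁻¹ = f0 := by
    rcases hf0 with rfl | rfl
    · rw [← hew]; group
    · calc w * (e * z) * w⁻¹ = (w * e) * z * w⁻¹ := by group
        _ = e * (w * z) * w⁻¹ := by rw [← hew]; group
        _ = e * z := by rw [hwz]; group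
  have hf0t : f0 * t ∉ ZZ := by
    intro h1
    apply hf0zt
    have h2 := h.conj _ h1 w
    have h3 : w * (f0 * t) * w⁻¹ = f0 * (z * t) := by
      calc w * (f0 * t) * w⁻¹ = (w * f0 * w⁻¹) * (w * t * w⁻¹) := by group
        _ = f0 * (z * t) := by rw [hf0w, hwt]
    rwa [h3] at h2
  -- so `e t`, `e z t ∉ ZZ`
  have het' : e * t ∉ ZZ := by
    rcases hf0 with rfl | rfl
    · exact hf0t
    · have : e * z * (z * t) = e * t := by
        calc e * z * (z * t) = e * (z * z) * t := by group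
          _ = e * t := by rw [hzz, mul_one]
      rwa [this] at hf0zt
  -- `u t` is conjugate to `e t`
  have hut' : u * t ∉ ZZ := by
    intro h1
    apply het'
    have h2 : w * (t * w * t⁻¹) = 1 := by
      have : t * w * t⁻¹ = w * z := mul_inv_eq_iff_eq_mul.2 htw
      rw [this, ← mul_assoc, hww, hzz]
    obtain ⟨-, k, hkQ, hk⟩ := h.sd.exists_conj hwQ (Or.inl h2)
    have h3 := h.conj _ h1 k
    have h4 : k * (u * t) * k⁻¹ = e * t := by
      calc k * (u * t) * k⁻¹ = (k * u) * t * k⁻¹ := by group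
        _ = u * (k * t * k⁻¹) := by rw [← huQ k hkQ]; group
        _ = (u * w) * t := by rw [hk]; group
        _ = e * t := by rw [huw, he]
    rwa [h4] at h3
  refine ⟨hut', ?_, e, heS, hee, hnot e he_ne.2 hez hew.symm, w, hwQ, he⟩
  intro h1
  apply hut'
  have h2 := h.conj _ h1 w⁻¹
  have h4 : w⁻¹ * (u * z * t) * w⁻¹⁻¹ = u * t := by
    have h5 : w * (u * t) * w⁻¹ = u * z * t := by
      calc w * (u * t) * w⁻¹ = (w * u) * t * w⁻¹ := by group
        _ = u * (w * t * w⁻¹) := by rw [← huw]; group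
        _ = u * z * t := by rw [hwt]; group
    rw [← h5]; group
  rwa [h4] at h2

/-- (3)-(4): `P = {1, z}` or `P = ⟨u⟩` of order 4 -/
theorem P_cases [Finite G] : (∀ p ∈ S, (∀ x ∈ Q, p * x = x * p) → p = 1 ∨ p = z) ∨
    ∃ u ∈ S, (∀ x ∈ Q, u * x = x * u) ∧ u * u = z ∧ t * u = u * z * t ∧
      ∀ p ∈ S, (∀ x ∈ Q, p * x = x * p) → p = 1 ∨ p = z ∨ p = u ∨ p = u * z := by
  have hzz := h.sd.gq.z_mul
  have htt := h.sd.sq
  have hzt := h.zt
  by_cases hP : ∀ p ∈ S, (∀ x ∈ Q, p * x = x * p) → p = 1 ∨ p = z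
  · exact Or.inl hP
  right
  push Not at hP
  obtain ⟨y, hyS, hyQ, hy1, hyz⟩ := hP
  obtain ⟨u, huP, hu1, huz, huu, hus⟩ :=
    OneEndW.exists_almost_central h.two inf_le_left h.P_norm h.z_P (fun s hs => h.z_cen hs) hzz
      (h.mem_P.2 ⟨hyS, hyQ⟩) hy1 hyz
  obtain ⟨huS, huQ⟩ := h.mem_P.1 huP
  have hzu : u * z = z * u := h.z_cen huS
  -- `t u = u z t`
  have hut : t * u = u * z * t := by
    rcases hus t h.t_mem with h1 | h1
    · exfalso
      rcases h.cen u huS (mul_inv_eq_iff_eq_mul.1 h1).symm huQ with h2 | h2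
      · exact hu1 h2
      · exact huz h2
    · exact mul_inv_eq_iff_eq_mul.1 h1
  obtain ⟨w, hwQ, hww, htw, hwz⟩ := h.exists_w
  have huw : u * w = w * u := huQ w hwQ
  have hwut : (w * u) * t = t * (w * u) := by
    have e1 : t * (w * u) = w * u * (z * z) * t := by
      calc t * (w * u) = (t * w) * u := by group
        _ = w * z * (t * u) := by rw [htw]; group
        _ = w * (z * u) * z * t := by rw [hut]; group
        _ = w * (u * z) * z * t := by rw [hzu]
        _ = w * u * (z * z) * t := by group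
    rw [e1, hzz, mul_one]
  have huu' : u * u = z := by
    rcases huu with h1 | h1
    · exfalso
      apply h.not_sq (S.mul_mem (h.Q_le hwQ) huS) hwut
      calc w * u * (w * u) = w * (u * w) * u := by group
        _ = w * w * (u * u) := by rw [huw]; group
        _ = z := by rw [hww, h1, mul_one]
    · exact h1
  obtain ⟨hut1, hut2, -⟩ := h.ut_not huS huQ huu' hut
  refine ⟨u, huS, huQ, huu', hut, ?_⟩
  by_contra hcon
  push Not at hcon
  obtain ⟨y', hyS', hyQ', hy1', hyz', hyu', hyuz'⟩ := hcon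
  -- the subgroup `⟨u⟩ = {1, z, u, u z}`
  have hmem : ∀ g, g ∈ zpowers u → g = 1 ∨ g = z ∨ g = u ∨ g = u * z := by
    rintro g ⟨k, rfl⟩
    have h4 : ∀ j : ℤ, u ^ (4 * j) = 1 := by
      intro j
      rw [show 4 * j = 2 * (2 * j) by ring, zpow_mul, zpow_mul, zpow_two, zpow_two, huu', hzz, one_zpow]
    have h5 : k = 4 * (k / 4) ∨ k = 4 * (k / 4) + 1 ∨ k = 4 * (k / 4) + 2 ∨ k = 4 * (k / 4) + 3 := by omega
    show u ^ k = 1 ∨ u ^ k = z ∨ u ^ k = u ∨ u ^ k = u * z
    rcases h5 with h5 | h5 | h5 | h5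
    · left; rw [h5, h4]
    · right; right; left; rw [h5, zpow_add, h4, zpow_one, one_mul]
    · right; left; rw [h5, zpow_add, h4, zpow_two, one_mul, huu']
    · right; right; right
      rw [h5, zpow_add, h4, one_mul, show (3 : ℤ) = 1 + 2 by norm_num, zpow_add, zpow_one, zpow_two, huu']
  have hzm : z ∈ zpowers u := by rw [← huu']; exact mul_mem (mem_zpowers u) (mem_zpowers u)
  have hum : u ∈ zpowers u := mem_zpowers u
  have hNP : zpowers u ≤ S ⊓ centralizer (Q : Set G) := zpowers_le.2 huP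
  have hNn : ∀ s ∈ S, ∀ p ∈ zpowers u, s * p * s⁻¹ ∈ zpowers u := by
    intro s hs p hp
    obtain ⟨k, hk⟩ := hp
    have hk' : u ^ k = p := hk
    rw [← hk', ← _root_.conj_zpow]
    apply zpow_mem
    rcases hus s hs with h1 | h1
    · rw [h1]; exact hum
    · rw [h1]; exact mul_mem hum hzm
  have hy'N : y' ∉ zpowers u := by
    intro h1
    rcases hmem y' h1 with h2 | h2 | h2 | h2
    · exact hy1' h2
    · exact hyz' h2
    · exact hyu' h2
    · exact hyuz' h2
  obtain ⟨r, hrP, hrN, hrs⟩ := exists_central_mod h.two inf_le_left h.P_norm hNP hNn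
    (h.mem_P.2 ⟨hyS', hyQ'⟩) hy'N
  obtain ⟨hrS, hrQ⟩ := h.mem_P.1 hrP
  have hrz : r * z = z * r := h.z_cen hrS
  -- `t r = r n₀ t`
  have htr : ∀ n0 : G, r⁻¹ * (t * r * t⁻¹) = n0 → t * r = r * n0 * t := by
    intro n0 h1
    calc t * r = r * (r⁻¹ * (t * r * t⁻¹)) * t := by group
      _ = r * n0 * t := by rw [h1]
  -- conjugates of `t` under `r`
  have hconj : ∀ n0 : G, t * r = r * n0 * t → r * t * r⁻¹ = (r * n0⁻¹ * r⁻¹) * t := by
    intro n0 h1
    have h2 : t * r⁻¹ = (r * n0)⁻¹ * t := by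
      calc t * r⁻¹ = (r * n0)⁻¹ * (r * n0 * t) * r⁻¹ := by group
        _ = (r * n0)⁻¹ * (t * r) * r⁻¹ := by rw [← h1]
        _ = (r * n0)⁻¹ * t := by group
    calc r * t * r⁻¹ = r * (t * r⁻¹) := by group
      _ = (r * n0⁻¹ * r⁻¹) * t := by rw [h2]; group
  have hrt : r * t * r⁻¹ ∈ ZZ := h.conj t h.t_ZZ r
  have huinv : u⁻¹ = u * z := by
    apply inv_eq_of_mul_eq_one_left
    calc u * z * u = u * u * z := by rw [mul_assoc, ← hzu]; group
      _ = 1 := by rw [huu', hzz]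
  have hcase : ∀ n0, (n0 = u ∨ n0 = u * z) → t * r = r * n0 * t → False := by
    intro n0 hn0 h1
    have h2 := hconj n0 h1
    have h3 : n0⁻¹ = u ∨ n0⁻¹ = u * z := by
      rcases hn0 with rfl | rfl
      · right; exact huinv
      · left; rw [mul_inv_rev, h.sd.gq.z_inv, huinv, hzu, ← mul_assoc, hzz, one_mul]
    have h4 : r * n0⁻¹ * r⁻¹ = u ∨ r * n0⁻¹ * r⁻¹ = u * z := by
      rcases h3 with h3 | h3
      · rw [h3]; exact hus r hrS
      · rw [h3]
        have h5 : r * (u * z) * r⁻¹ = (r * u * r⁻¹) * z := by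
          calc r * (u * z) * r⁻¹ = (r * u * r⁻¹) * (r * z * r⁻¹) := by group
            _ = (r * u * r⁻¹) * z := by rw [hrz]; group
        rw [h5]
        rcases hus r hrS with h6 | h6
        · right; rw [h6]
        · left; rw [h6, mul_assoc, hzz, mul_one]
    rw [h2] at hrt
    rcases h4 with h4 | h4
    · rw [h4] at hrt; exact hut1 hrt
    · rw [h4] at hrt; exact hut2 hrt
  rcases hmem _ (hrs t h.t_mem) with h1 | h1 | h1 | h1
  · -- `[t, r] = 1`
    have h2 := htr 1 h1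
    rw [mul_one] at h2
    rcases h.cen r hrS h2.symm hrQ with h3 | h3
    · exact hrN (by rw [h3]; exact one_mem _)
    · exact hrN (by rw [h3]; exact hzm)
  · -- `[t, r u] = 1`
    have h2 := htr z h1
    have h3 : (r * u) * t = t * (r * u) := by
      have e1 : t * (r * u) = r * u * (z * z) * t := by
        calc t * (r * u) = (t * r) * u := by group
          _ = r * z * (t * u) := by rw [h2]; group
          _ = r * (z * u) * z * t := by rw [hut]; group
          _ = r * (u * z) * z * t := by rw [hzu]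
          _ = r * u * (z * z) * t := by group
      rw [e1, hzz, mul_one]
    have h4 : ∀ x ∈ Q, (r * u) * x = x * (r * u) := fun x hx =>
      ((show Commute r x from hrQ x hx).mul_left (show Commute u x from huQ x hx)).eq
    have h5 : r * u ∈ zpowers u := by
      rcases h.cen _ (S.mul_mem hrS huS) h3 h4 with h5 | h5
      · rw [h5]; exact one_mem _
      · rw [h5]; exact hzm
    apply hrN
    have := mul_mem h5 (inv_mem hum)
    rwa [mul_inv_cancel_right] at this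
  · exact hcase u (Or.inl rfl) (htr u h1)
  · exact hcase (u * z) (Or.inr rfl) (htr _ h1)

/-- `M = Q⟨t⟩` -/
def M (h : SP ZZ S Q c v z t w' n) : Subgroup G where
  carrier := {g | ∃ q ∈ Q, g = q ∨ g = q * t}
  one_mem' := ⟨1, Q.one_mem, Or.inl rfl⟩
  mul_mem' := by
    rintro a b ⟨q, hq, ha⟩ ⟨q', hq', hb⟩
    have htq : t * q' * t⁻¹ ∈ Q := h.nor t h.t_mem q' hq'
    have hti : t⁻¹ = t := GH.QSd.y_inv h.sd.sq
    rcases ha with rfl | rfl <;> rcases hb with rfl | rfl
    · exact ⟨_, Q.mul_mem hq hq', Or.inl rfl⟩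
    · exact ⟨_, Q.mul_mem hq hq', Or.inr (by group)⟩
    · refine ⟨_, Q.mul_mem hq htq, Or.inr ?_⟩
      group
    · refine ⟨_, Q.mul_mem hq htq, Or.inl ?_⟩
      calc q * t * (q' * t) = q * (t * q' * t⁻¹) * (t * t) := by group
        _ = q * (t * q' * t⁻¹) := by rw [h.sd.sq, mul_one]
  inv_mem' := by
    rintro a ⟨q, hq, ha⟩
    have hti : t⁻¹ = t := GH.QSd.y_inv h.sd.sq
    rcases ha with rfl | rfl
    · exact ⟨_, Q.inv_mem hq, Or.inl rfl⟩
    · refine ⟨_, h.nor t h.t_mem _ (Q.inv_mem hq), Or.inr ?_⟩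
      rw [mul_inv_rev]
      calc t⁻¹ * q⁻¹ = t * q⁻¹ := by rw [hti]
        _ = t * q⁻¹ * t⁻¹ * t := by group

theorem mem_M {g : G} : g ∈ h.M ↔ ∃ q ∈ Q, g = q ∨ g = q * t := Iff.rfl

theorem M_le : h.M ≤ S := by
  rintro g ⟨q, hq, rfl | rfl⟩
  · exact h.Q_le hq
  · exact S.mul_mem (h.Q_le hq) h.t_mem

theorem Q_le_M : Q ≤ h.M := fun q hq => ⟨q, hq, Or.inl rfl⟩

theorem t_mem_M : t ∈ h.M := ⟨1, Q.one_mem, Or.inr (one_mul t).symm⟩

/-- every element of `S` is in `M P` -/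
theorem exists_mul {s : G} (hs : s ∈ S) : ∃ m ∈ h.M, ∃ p ∈ S, (∀ x ∈ Q, p * x = x * p) ∧ s = m * p := by
  have hti : t⁻¹ = t := GH.QSd.y_inv h.sd.sq
  rcases h.cov s hs with ⟨q, hq, hc⟩ | ⟨q, hq, hc⟩
  · exact ⟨q⁻¹, h.Q_le_M (Q.inv_mem hq), q * s, S.mul_mem (h.Q_le hq) hs, hc, by group⟩
  · refine ⟨t * q⁻¹, h.M.mul_mem h.t_mem_M (h.Q_le_M (Q.inv_mem hq)), q * (t * s),
      S.mul_mem (h.Q_le hq) (S.mul_mem h.t_mem hs), hc, ?_⟩
    calc s = (t * t) * s := by rw [h.sd.sq, one_mul]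
      _ = t * q⁻¹ * (q * (t * s)) := by group

/-- `M ∩ C(Q) = ⟨z⟩` -/
theorem M_cent {g : G} (hg : g ∈ h.M) (hc : ∀ x ∈ Q, g * x = x * g) : g = 1 ∨ g = z := by
  obtain ⟨q, hq, rfl | rfl⟩ := hg
  · exact h.eq_of_Q hq hc
  · exfalso
    have h1 : q * t = t * q := by
      have h2 := hc q hq
      calc q * t = q⁻¹ * (q * (q * t)) := by group
        _ = q⁻¹ * (q * t * q) := by rw [h2]
        _ = t * q := by group
    have h3 : q = 1 ∨ q = z := by
      by_cases hq1 : q = 1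
      · exact Or.inl hq1
      right
      -- `q` commutes with `t`
      rcases OneEndW.cov' h.sd.gq q hq with ⟨i, hi⟩ | ⟨i, hi⟩
      · have h4 : c ^ (2 * i) = 1 := by
          have h5 := h.sd.y_c i
          have h6 : t * c ^ i * t⁻¹ = c ^ i := by rw [← hi, ← h1]; group
          rw [h6] at h5
          calc c ^ (2 * i) = c ^ i * (c ^ (-i))⁻¹ := by rw [← zpow_neg, ← zpow_add]; congr 1; ring
            _ = 1 := by rw [← h5, mul_inv_cancel]
        rcases h.sd.gq.zpow_sq h4 with h5 | h5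
        · exact absurd (hi.trans h5) hq1
        · exact hi.trans h5
      · exfalso
        have h5 := h.sd.y_vc i
        have h6 : t * (v * c ^ i) * t⁻¹ = v * c ^ i := by rw [← hi, ← h1]; group
        rw [h6] at h5
        have h7 := mul_left_cancel h5
        have h8 : c ^ (2 * i - 1) = 1 := by
          calc c ^ (2 * i - 1) = c ^ i * (c ^ (1 - i))⁻¹ := by rw [← zpow_neg, ← zpow_add]; congr 1; ring
            _ = 1 := by rw [← h7, mul_inv_cancel]
        rw [OneEndW.zpow_one_iff h.sd.gq] at h8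
        obtain ⟨r, hr⟩ := h8
        have h9 : (2 : ℤ) ^ (n + 2) = 2 * 2 ^ (n + 1) := by ring
        rw [h9, mul_assoc] at hr
        omega
    have h4 : t * c = c * t := by
      rcases h3 with h3 | h3
      · have h5 := hc c h.sd.gq.c_mem
        rwa [h3, one_mul] at h5
      · have h5 := hc c h.sd.gq.c_mem
        rw [h3] at h5
        have h6 : z * c = c * z := OneEndW.zc h.sd.gq
        calc t * c = z⁻¹ * (z * t * c) := by group
          _ = z⁻¹ * (c * z) * t := by rw [h5]; group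
          _ = z⁻¹ * (z * c) * t := by rw [h6]
          _ = c * t := by group
    have h5 := h.sd.yc
    rw [h4, mul_inv_cancel_right] at h5
    exact h.sd.gq.c_sq_ne (by
      calc c * c = c * c⁻¹ := by rw [← h5]
        _ = 1 := mul_inv_cancel c)

/-- involutions of `M` are in `ZZ` -/
theorem M_invol {g : G} (hg : g ∈ h.M) (hg2 : g * g = 1) (hg1 : g ≠ 1) : g ∈ ZZ := by
  obtain ⟨q, hq, rfl | rfl⟩ := hg
  · rw [h.sd.gq.eq_z hq hg2 hg1]; exact h.z_ZZ
  · have h1 : q * (t * q * t⁻¹) = 1 := by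
      calc q * (t * q * t⁻¹) = (q * t * (q * t)) * (t * t)⁻¹ := by group
        _ = 1 := by rw [hg2, h.sd.sq]; group
    obtain ⟨-, k, -, hk⟩ := h.sd.exists_conj hq (Or.inl h1)
    rw [← hk]
    exact h.conj t h.t_ZZ k

/-- (5) `P = ⟨z⟩` -/
theorem P_triv [Finite G] (P : Sylow 2 G) (hP : (P : Subgroup G) = S) (hidx : ∀ H : Subgroup G, H.index ≠ 2) :
    ∀ p ∈ S, (∀ x ∈ Q, p * x = x * p) → p = 1 ∨ p = z := by
  rcases h.P_cases with h1 | ⟨u, huS, huQ, huu, hut, hcase⟩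
  · exact h1
  exfalso
  have hzz := h.sd.gq.z_mul
  obtain ⟨-, -, e, heS, hee, heZ, w, hwQ, hew⟩ := h.ut_not huS huQ huu hut
  have hzu : u * z = z * u := h.z_cen huS
  have huM : u ∉ h.M := by
    intro h1
    rcases h.M_cent h1 huQ with h2 | h2
    · rw [h2, one_mul] at huu; exact h.sd.gq.z_ne huu.symm
    · rw [h2, hzz] at huu; exact h.sd.gq.z_ne huu.symm
  have hind : h.M.relIndex (P : Subgroup G) = 2 := by
    rw [hP, relIndex, Subgroup.index_eq_two_iff]
    refine ⟨⟨u, huS⟩, fun b => ?_⟩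
    rw [mem_subgroupOf, mem_subgroupOf]
    by_cases hb : (b : G) ∈ h.M
    · refine Or.inr ⟨hb, fun h2 => huM ?_⟩
      have := h.M.mul_mem (h.M.inv_mem hb) h2
      simpa using this
    · refine Or.inl ⟨?_, hb⟩
      obtain ⟨m, hm, p, hpS, hpQ, hbm⟩ := h.exists_mul b.2
      show (b : G) * u ∈ h.M
      have hzM : z ∈ h.M := h.Q_le_M h.sd.gq.z_mem
      rcases hcase p hpS hpQ with h2 | h2 | h2 | h2
      · exfalso; apply hb; rw [hbm, h2, mul_one]; exact hm
      · exfalso; apply hb; rw [hbm, h2]; exact h.M.mul_mem hm hzM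
      · rw [hbm, h2, mul_assoc, huu]; exact h.M.mul_mem hm hzM
      · have : (b : G) * u = m := by
          calc (b : G) * u = m * (u * z) * u := by rw [hbm, h2]
            _ = m * (u * u) * z := by rw [mul_assoc m, mul_assoc u, ← hzu]; group
            _ = m := by rw [huu, mul_assoc, hzz, mul_one]
        rw [this]; exact hm
  rcases Cfsg.Agent.Transfer.ThompsonTransfer.thompson_transfer P h.M (by rw [hP]; exact h.M_le) hind e
    (by rw [pow_two, hee]) with ⟨N, -, hN, -⟩ | ⟨g, hg⟩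
  · exact hidx N hN
  · apply heZ
    have h2 : g * e * g⁻¹ ∈ ZZ := by
      apply h.M_invol hg
      · calc g * e * g⁻¹ * (g * e * g⁻¹) = g * (e * e) * g⁻¹ := by group
          _ = 1 := by rw [hee]; group
      · intro h2
        have h3 : e = 1 := by
          calc e = g⁻¹ * (g * e * g⁻¹) * g := by group
            _ = 1 := by rw [h2]; group
        -- `w u = 1` impossible
        have h4 : u = w⁻¹ := by
          rw [hew] at h3
          exact eq_inv_of_mul_eq_one_right h3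
        apply huM
        rw [h4]
        exact h.Q_le_M (Q.inv_mem hwQ)
    have h3 := h.conj _ h2 g⁻¹
    have h4 : g⁻¹ * (g * e * g⁻¹) * g⁻¹⁻¹ = e := by group
    rwa [h4] at h3

/-- (6) **the conclusion**: `S` is semidihedral -/
theorem isQuasiDihedral [Finite G] (P : Sylow 2 G) (hP : (P : Subgroup G) = S)
    (hidx : ∀ H : Subgroup G, H.index ≠ 2) : Cfsg.IsQuasiDihedral S := by
  have hT := h.P_triv P hP hidx
  have hzz := h.sd.gq.z_mul
  have htt := h.sd.sq
  have hzt := h.zt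
  have hzM : z ∈ h.M := h.Q_le_M h.sd.gq.z_mem
  have hSM : ∀ s ∈ S, s ∈ h.M := by
    intro s hs
    obtain ⟨m, hm, p, hpS, hpQ, hsm⟩ := h.exists_mul hs
    rcases hT p hpS hpQ with h2 | h2
    · rw [hsm, h2, mul_one]; exact hm
    · rw [hsm, h2]; exact h.M.mul_mem hm hzM
  have htQ : t ∉ Q := by
    intro h1
    rcases OneEndW.cov' h.sd.gq t h1 with ⟨i, hi⟩ | ⟨i, hi⟩
    · have h2 := h.sd.yc
      rw [hi] at h2
      have h3 : c ^ i * c * (c ^ i)⁻¹ = c := by
        rw [((Commute.refl c).zpow_left i).eq, mul_inv_cancel_right]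
      rw [h3] at h2
      exact h.sd.gq.c_sq_ne (by
        calc c * c = c * c⁻¹ := by rw [← h2]
          _ = 1 := mul_inv_cancel c)
    · have h2 : (v * c ^ i) * (v * c ^ i) = z := by
        calc (v * c ^ i) * (v * c ^ i) = v * (c ^ i * v) * c ^ i := by group
          _ = v * (v * c ^ (-i)) * c ^ i := by rw [OneEndW.zpow_v h.sd.gq]
          _ = v * v := by group
          _ = z := h.sd.gq.v_sq
      rw [← hi, htt] at h2
      exact h.sd.gq.z_ne h2.symm
  have hind : (Q.subgroupOf S).index = 2 := by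
    rw [Subgroup.index_eq_two_iff]
    refine ⟨⟨t, h.t_mem⟩, fun b => ?_⟩
    rw [mem_subgroupOf, mem_subgroupOf]
    by_cases hb : (b : G) ∈ Q
    · refine Or.inr ⟨hb, fun h2 => htQ ?_⟩
      have := Q.mul_mem (Q.inv_mem hb) h2
      simpa using this
    · refine Or.inl ⟨?_, hb⟩
      show (b : G) * t ∈ Q
      obtain ⟨q, hq, h1 | h1⟩ := hSM b b.2
      · exact absurd (by rw [h1]; exact hq) hb
      · rw [h1, mul_assoc, htt, mul_one]; exact hq
  have hcard : Nat.card S = 2 ^ (n + 3 + 1) := by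
    have h1 := (Q.subgroupOf S).card_mul_index
    rw [hind, Nat.card_congr (subgroupOfEquivOfLe h.Q_le).toEquiv, h.sd.gq.card] at h1
    rw [← h1]; ring
  have hvt : (v * t) * (v * t) = z * c := by
    have h1 : t * v = v * c * t := mul_inv_eq_iff_eq_mul.1 h.sd.yv
    calc (v * t) * (v * t) = v * (t * v) * t := by group
      _ = v * (v * c * t) * t := by rw [h1]
      _ = (v * v) * c * (t * t) := by group
      _ = z * c := by rw [h.sd.gq.v_sq, htt, mul_one]
  have hzc : Commute z c := OneEndW.zc h.sd.gq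
  have hpow : (v * t) ^ 2 ^ (n + 2) = z := by
    have h1 : (v * t) ^ 2 ^ (n + 2) = (z * c) ^ 2 ^ (n + 1) := by
      rw [← hvt, ← pow_two, ← pow_mul, ← pow_succ']
    rw [h1, hzc.mul_pow, h.sd.gq.z_eq, pow_succ', pow_mul, pow_two, hzz, one_pow, one_mul]
  refine ⟨n + 3, by omega, hcard, ⟨v * t, S.mul_mem h.v_mem h.t_mem⟩, ⟨t, h.t_mem⟩, ?_, ?_, Subtype.ext ?_⟩
  · rw [← Subgroup.orderOf_coe]
    show orderOf (v * t) = 2 ^ (n + 2 + 1)
    apply orderOf_eq_prime_pow
    · rw [hpow]; exact h.sd.gq.z_ne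
    · rw [pow_succ, pow_mul, hpow, pow_two, hzz]
  · rw [← Subgroup.orderOf_coe]
    exact orderOf_eq_prime (by rw [pow_two]; exact htt) h.t_ne
  · show t * (v * t) * t⁻¹ = (v * t) ^ (2 ^ (n + 3 - 1) - 1)
    have h1 : (v * t) ^ (2 ^ (n + 3 - 1) - 1) * (v * t) = z := by
      rw [← pow_succ, Nat.sub_add_cancel (Nat.one_le_two_pow)]
      exact hpow
    have h2 : t * (v * t) * t⁻¹ * (v * t) = z := by
      have hvz : v * z = z * v := (OneEndW.zv h.sd.gq).symm
      calc t * (v * t) * t⁻¹ * (v * t) = t * (v * v) * t := by group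
        _ = (t * z) * t := by rw [h.sd.gq.v_sq]
        _ = z * (t * t) := by rw [← hzt]; group
        _ = z := by rw [htt, mul_one]
    exact mul_right_cancel (h2.trans h1.symm)

end main

end SP

/-! ### Glue -/

section glue

variable [Finite G] {Om : Set (Subgroup G)} {K L T Q Q' S : Subgroup G}

/-- `S` normalises `⟨x⟩` if it contains an outer diagonal element inverting `x` -/
theorem norm_of (h : One Om) (hK : K ∈ Om) (hQ : Syl Q K) (hS : IsPGroup 2 S) (hSQ : S ≤ normalizer (Q : Set G))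
    {x y g : G} {n : ℕ} (c : GQ Q x y (zz K) n) (hg : g ∈ S) (hgx : g * x * g⁻¹ = x⁻¹)
    {l : ℤ} (hl : g * y * g⁻¹ = y * x ^ l) (hlo : Odd l) : ∀ s ∈ S, s * x * s⁻¹ ∈ zpowers x := by
  obtain ⟨x1, y1, n1, hg1, hSx⟩ := h.hyp.exists_gq_cyclic hK hQ hS hSQ
  have hn : n1 = n := by
    have h1 := hg1.card
    rw [c.card] at h1
    have := Nat.pow_right_injective (le_refl 2) h1
    omega
  subst hn
  have hx1 : x1 ∈ zpowers x := by
    rcases c.covZ hg1.c_mem with h1 | ⟨i, hi⟩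
    · exact h1
    exfalso
    have h4 : orderOf x1 = 4 := by
      rw [hi]
      refine Cit.GQ.orderOf_of_sq ?_ c.z_mul c.z_ne
      calc y * x ^ i * (y * x ^ i) = y * (x ^ i * y) * x ^ i := by group
        _ = y * (y * x ^ (-i)) * x ^ i := by rw [OneEndW.zpow_v c]
        _ = y * y := by group
        _ = zz K := c.v_sq
    have h0 : n1 = 0 := by
      rw [hg1.ord] at h4
      by_contra hne
      have : 2 ^ 3 ≤ 2 ^ (n1 + 2) := Nat.pow_le_pow_right (by norm_num) (by omega)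
      omega
    subst h0
    have h5 := hSx g hg
    have h6 : g * x1 * g⁻¹ = x1 * x ^ (l - 2 * i) := by
      have e1 : g * x ^ i * g⁻¹ = x ^ (-i) := by rw [← _root_.conj_zpow, hgx, inv_zpow, zpow_neg]
      rw [hi]
      calc g * (y * x ^ i) * g⁻¹ = (g * y * g⁻¹) * (g * x ^ i * g⁻¹) := by group
        _ = y * x ^ l * x ^ (-i) := by rw [hl, e1]
        _ = y * x ^ (i + (l - 2 * i)) := by
            rw [mul_assoc, ← zpow_add]; congr 2; ring
        _ = y * x ^ i * x ^ (l - 2 * i) := by rw [zpow_add, mul_assoc]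
    rw [h6] at h5
    obtain ⟨m, hm⟩ : ∃ m, m = l - 2 * i := ⟨_, rfl⟩
    have hmo : Odd m := by
      obtain ⟨q, hq⟩ := hlo
      exact ⟨q - i, by rw [hm, hq]; ring⟩
    rw [← hm] at h5
    have h7 : x ^ m ∈ zpowers x1 := by
      have := mul_mem (inv_mem (mem_zpowers x1)) h5
      rwa [inv_mul_cancel_left] at this
    obtain ⟨k, hk⟩ := h7
    have hk' : x1 ^ k = x ^ m := hk
    have h8 : x1 * x ^ m = x ^ m * x1 := by
      rw [← hk']; exact ((Commute.refl x1).zpow_right k).eq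
    have h9 : x ^ (2 * m) = 1 := by
      have e2 : y * x ^ m = x ^ m * y := by
        rw [hi] at h8
        have e3 : x ^ i * x ^ m = x ^ m * x ^ i := by rw [← zpow_add, ← zpow_add, add_comm]
        calc y * x ^ m = (y * (x ^ m * x ^ i)) * (x ^ i)⁻¹ := by group
          _ = (y * x ^ i * x ^ m) * (x ^ i)⁻¹ := by rw [← e3]; group
          _ = x ^ m * y := by rw [h8]; group
      have e4 : x ^ m * y = y * x ^ (-m) := OneEndW.zpow_v c m
      rw [e4] at e2
      have e5 := mul_left_cancel e2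
      calc x ^ (2 * m) = x ^ m * x ^ m := by rw [← zpow_add]; congr 1; ring
        _ = x ^ m * x ^ (-m) := by rw [← e5]
        _ = 1 := by group
    rw [OneEndW.zpow_one_iff c] at h9
    obtain ⟨r, hr⟩ := h9
    obtain ⟨q, hq⟩ := hmo
    have : (2 : ℤ) ^ (0 + 2) = 4 := by norm_num
    rw [this] at hr
    omega
  have heq : zpowers x1 = zpowers x := by
    apply eq_of_le_of_card_ge (zpowers_le.2 hx1)
    rw [Nat.card_zpowers, Nat.card_zpowers, hg1.ord, c.ord]
  intro s hs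
  obtain ⟨k, hk⟩ : x ∈ zpowers x1 := by rw [heq]; exact mem_zpowers x
  have hk' : x1 ^ k = x := hk
  rw [← heq]
  have h1 : s * x * s⁻¹ = (s * x1 * s⁻¹) ^ k := by rw [← hk', _root_.conj_zpow]
  rw [h1]
  exact zpow_mem (hSx s hs) k

/-- `|S : Q P| ≤ 2` -/
theorem cov (h : One Om) (hK : K ∈ Om) (hQ : Syl Q K) (hS : IsPGroup 2 S) (hSQ : S ≤ normalizer (Q : Set G))
    (hQS : Q ≤ S) {c v t : G} {n : ℕ} (d : SD Q c v (zz K) t n) (ht : t ∈ S)
    (hfield : ∀ s ∈ S, ∀ a : ℤ, s * c * s⁻¹ = c ^ a → c ^ a = c ∨ c ^ a = c⁻¹) :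
    ∀ s ∈ S, (∃ q ∈ Q, ∀ u ∈ Q, (q * s) * u = u * (q * s)) ∨
      ∃ q ∈ Q, ∀ u ∈ Q, (q * (t * s)) * u = u * (q * (t * s)) := by
  have hN := norm_of h hK hQ hS hSQ d.gq ht d.yc (l := 1) (by rw [zpow_one]; exact d.yv) odd_one
  have haux : ∀ (g : G) (i : ℤ), g * c = c * g → g * v * g⁻¹ = v * c ^ (2 * i) →
      ∀ u ∈ Q, (c ^ i * g) * u = u * (c ^ i * g) := by
    intro g i hgx hgy
    apply OneEndW.comm_of d.gq
    · exact (((Commute.refl c).zpow_left i).mul_left (show Commute g c from hgx)).eq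
    · have e1 : g * v = v * c ^ (2 * i) * g := mul_inv_eq_iff_eq_mul.1 hgy
      have e2 : c ^ i * v = v * c ^ (-i) := OneEndW.zpow_v d.gq i
      calc c ^ i * g * v = c ^ i * (g * v) := by group
        _ = (c ^ i * v) * c ^ (2 * i) * g := by rw [e1]; group
        _ = v * c ^ (-i) * c ^ (2 * i) * g := by rw [e2]
        _ = v * (c ^ i * g) := by rw [mul_assoc v, ← zpow_add]; rw [show -i + 2 * i = i by ring]; group
  have key : ∀ s ∈ S, s * c = c * s →
      (∃ q ∈ Q, ∀ u ∈ Q, (q * s) * u = u * (q * s)) ∨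
      ∃ q ∈ Q, ∀ u ∈ Q, (q * (t * s)) * u = u * (q * (t * s)) := by
    intro s hs hsx
    obtain ⟨j, hj⟩ := d.gq.exists_act (hSQ hs) (by
      have : s⁻¹ * c * s = c := by rw [mul_assoc, ← hsx]; group
      rw [this]; exact mem_zpowers c)
    rcases Int.even_or_odd j with ⟨i, hi⟩ | ⟨i, hi⟩
    · left
      refine ⟨c ^ i, Q.zpow_mem d.gq.c_mem i, haux s i hsx ?_⟩
      rw [hj, hi]; congr 2; ring
    · right
      have hvc : ∀ m : ℤ, v * (v * c ^ m) * v⁻¹ = v * c ^ (-m) := by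
        intro m
        have := OneEndW.v_zpow d.gq m
        calc v * (v * c ^ m) * v⁻¹ = v * (v * c ^ m * v⁻¹) := by group
          _ = v * c ^ (-m) := by rw [this]
      have htc : t * c = c⁻¹ * t := mul_inv_eq_iff_eq_mul.1 d.yc
      have e1 : (v * (t * s)) * c = c * (v * (t * s)) := by
        have e2 : v * c⁻¹ = c * v := by
          have := OneEndW.v_zpow' d.gq (-1)
          rw [zpow_neg_one, neg_neg, zpow_one] at this
          exact this
        calc (v * (t * s)) * c = v * t * (s * c) := by group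
          _ = v * (t * c) * s := by rw [hsx]; group
          _ = (v * c⁻¹) * t * s := by rw [htc]; group
          _ = c * (v * (t * s)) := by rw [e2]; group
      have e3 : (v * (t * s)) * v * (v * (t * s))⁻¹ = v * c ^ (2 * i) := by
        calc (v * (t * s)) * v * (v * (t * s))⁻¹ = v * (t * (s * v * s⁻¹) * t⁻¹) * v⁻¹ := by group
          _ = v * (t * (v * c ^ j) * t⁻¹) * v⁻¹ := by rw [hj]
          _ = v * (v * c ^ (1 - j)) * v⁻¹ := by rw [d.y_vc]
          _ = v * c ^ (2 * i) := by rw [hvc]; congr 2; rw [hi]; ring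
      have e4 := haux _ i e1 e3
      refine ⟨c ^ i * v, Q.mul_mem (Q.zpow_mem d.gq.c_mem i) d.gq.v_mem, ?_⟩
      intro u hu
      have := e4 u hu
      rw [← mul_assoc] at this
      exact this
  intro s hs
  obtain ⟨a, ha⟩ := hN s hs
  have ha' : s * c * s⁻¹ = c ^ a := ha.symm
  rcases hfield s hs a ha' with h1 | h1
  · have hsx : s * c = c * s := by
      rw [h1] at ha'; exact mul_inv_eq_iff_eq_mul.1 ha'
    exact key s hs hsx
  · have hsx : (v * s) * c = c * (v * s) := by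
      rw [h1] at ha'
      have e1 : s * c = c⁻¹ * s := mul_inv_eq_iff_eq_mul.1 ha'
      have e2 : v * c⁻¹ = c * v := by
        have := OneEndW.v_zpow' d.gq (-1)
        rw [zpow_neg_one, neg_neg, zpow_one] at this
        exact this
      calc v * s * c = v * (s * c) := by group
        _ = (v * c⁻¹) * s := by rw [e1]; group
        _ = c * (v * s) := by rw [e2]; group
    rcases key (v * s) (S.mul_mem (hQS d.gq.v_mem) hs) hsx with ⟨q, hq, hc⟩ | ⟨q, hq, hc⟩
    · refine Or.inl ⟨q * v, Q.mul_mem hq d.gq.v_mem, ?_⟩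
      intro u hu
      have := hc u hu
      rw [← mul_assoc] at this
      exact this
    · refine Or.inr ⟨q * (t * v * t⁻¹), Q.mul_mem hq (conj_mem_of (hSQ ht) d.gq.v_mem), ?_⟩
      intro u hu
      have := hc u hu
      have e1 : q * (t * (v * s)) = q * (t * v * t⁻¹) * (t * s) := by group
      rw [e1] at this
      exact this

/-- a pair of type `SD` in a frame gives the data `SP` -/
theorem exists_sp (f : OneEndGlue.Fr Om K L T Q Q' S) (h : One Om)
    (hSD : ∀ u ∈ Q, u * zz L = zz L * u → u = 1 ∨ u = zz K)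
    (hSD' : ∀ u ∈ Q', u * zz K = zz K * u → u = 1 ∨ u = zz L)
    (hfield : ∀ K ∈ Om, ∀ S Q, Syl S (normalizer (K : Set G)) → Syl Q K → Q ≤ S → ∀ x y n, GQ Q x y (zz K) n →
      ∀ s ∈ S, ∀ a : ℤ, s * x * s⁻¹ = x ^ a → x ^ a = x ∨ x ^ a = x⁻¹)
    (hF : ∀ K L T Q Q', OPair Om K L T Q Q' → ∀ a ∈ T, (∀ u ∈ Q, a * u = u * a) → (∀ u ∈ Q', a * u = u * a) →
      a = 1)
    (hnoW : ∀ K ∈ Om, ∀ L ∈ Om, K ≠ L → zz K * zz L = zz L * zz K → ∀ u ∈ K, u * u = zz K →
      u * zz L ≠ zz L * u) :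
    ∃ c v w' n, SP {x | ∃ K ∈ Om, x = zz K} S Q c v (zz K) (zz L) w' n := by
  have p := f.pair
  obtain ⟨x, y, x', y', n, co⟩ := p.exists_co h
  have htS : zz L ∈ S := f.TS (p.zL_mem h)
  obtain ⟨c, v, n0, d⟩ := exists_sd (h.hyp.isGQ p.hK p.hQ) (p.zK_mem_Q h) (h.hyp.zz_mul p.hK) (h.hyp.zz_ne p.hK)
    (h.hyp.zz_mul p.hL) (fun q hq => conj_mem_of (f.SQ htS) hq) hSD
  refine ⟨c, v, x' ^ 2 ^ n, n0, f.hS.2.1, d, f.QS, fun s hs q hq => conj_mem_of (f.SQ hs) hq, htS, ?_, ?_, ?_, ?_,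
    ?_, ⟨L, p.hL, rfl⟩, ⟨K, p.hK, rfl⟩, ?_, cov h p.hK p.hQ f.hS.2.1 f.SQ f.QS d htS
      (hfield K p.hK S Q f.hS p.hQ f.QS c v n0 d.gq)⟩
  · -- `C_P(t) = ⟨z⟩`
    intro a ha hat haQ
    have haT := f.mem_T h ha hat
    rcases co.cent_or_SD h hSD hSD' haT haQ with h1 | h1
    · exact Or.inl (hF K L T Q Q' p a haT haQ h1)
    · right
      have h2 := hF K L T Q Q' p (zz K * a) (T.mul_mem (p.zK_mem h) haT) ?_ h1
      · calc a = (zz K)⁻¹ * (zz K * a) := by group
          _ = zz K := by rw [h2, mul_one, h.hyp.zz_inv p.hK]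
      · intro u hu
        have hzu : zz K * u = u * zz K := (h.hyp.comm_zz p.hK (le_normalizer (p.hQ.1 hu))).symm
        exact ((show Commute (zz K) u from hzu).mul_left (show Commute a u from haQ u hu)).eq
  · -- `w' z w'⁻¹ = z t`
    have e1 := conj_swap (h.hyp.comm_zz p.hL (le_normalizer (p.hQ'.1 (Q'.pow_mem co.gq'.c_mem (2 ^ n))))).symm
      (h.hyp.zz_mul p.hL) (co.symm.t_w h hSD')
    rw [e1, p.comm]
  · exact h.hyp.comm_zz p.hL (le_normalizer (p.hQ'.1 (Q'.pow_mem co.gq'.c_mem _)))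
  · intro s hs hst
    have hsT := f.mem_T h hs hst
    rcases co.symm.conj_w h hsT with h1 | h1
    · left
      have h2 : s * x' ^ 2 ^ n = x' ^ 2 ^ n * s := mul_inv_eq_iff_eq_mul.1 h1
      rw [← h2, mul_inv_cancel_right]
    · right
      have h2 : s * x' ^ 2 ^ n = x' ^ 2 ^ n * zz L * s := mul_inv_eq_iff_eq_mul.1 h1
      have htt := h.hyp.zz_mul p.hL
      have hwt : x' ^ 2 ^ n * zz L = zz L * x' ^ 2 ^ n :=
        h.hyp.comm_zz p.hL (le_normalizer (p.hQ'.1 (Q'.pow_mem co.gq'.c_mem _)))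
      rw [mul_inv_eq_iff_eq_mul]
      calc x' ^ 2 ^ n * s = x' ^ 2 ^ n * (zz L * zz L) * s := by rw [htt, mul_one]
        _ = (zz L * x' ^ 2 ^ n) * zz L * s := by rw [← hwt]; group
        _ = zz L * (x' ^ 2 ^ n * zz L * s) := by group
        _ = zz L * (s * x' ^ 2 ^ n) := by rw [h2]
        _ = (s * zz L) * x' ^ 2 ^ n := by rw [hst]; group
        _ = s * zz L * x' ^ 2 ^ n := rfl
  · rintro x ⟨K1, hK1, rfl⟩ g
    exact ⟨cj g K1, h.hyp.conj K1 hK1 g, (h.hyp.zz_cj hK1 g).symm⟩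
  · rintro x ⟨K1, hK1, rfl⟩ hne hcomm q hq hqq
    exact hnoW K p.hK K1 hK1 (fun hh => hne (by rw [hh])) hcomm.symm q (p.hQ.1 hq) hqq

theorem isQuasiDihedral_cj {S : Subgroup G} (g : G) (hS : Cfsg.IsQuasiDihedral S) :
    Cfsg.IsQuasiDihedral ↥(cj g S) := by
  obtain ⟨n, hn, hc, x, y, hx, hy, hxy⟩ := hS
  refine ⟨n, hn, ?_, cjEquiv g S x, cjEquiv g S y, ?_, ?_, ?_⟩
  · rw [← hc]; exact (Nat.card_congr (cjEquiv g S).toEquiv).symm
  · rw [MulEquiv.orderOf_eq, hx]
  · rw [MulEquiv.orderOf_eq, hy]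
  · rw [← map_inv, ← map_mul, ← map_mul, hxy, map_pow]

/-- **type `SD`, conclusion**: if there is a pair, no pair of type `W`, no field automorphisms, no subgroup of
index 2 and `F = 1`, then the Sylow 2-subgroups of `G` are semidihedral -/
theorem main_SD (h : One Om) (hidx : ∀ H : Subgroup G, H.index ≠ 2)
    (hF : ∀ K L T Q Q', OPair Om K L T Q Q' → ∀ a ∈ T, (∀ u ∈ Q, a * u = u * a) → (∀ u ∈ Q', a * u = u * a) →
      a = 1)
    (hpair : ∃ K ∈ Om, ∃ L ∈ Om, K ≠ L ∧ zz K * zz L = zz L * zz K)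
    (hnoW : ∀ K ∈ Om, ∀ L ∈ Om, K ≠ L → zz K * zz L = zz L * zz K → ∀ u ∈ K, u * u = zz K →
      u * zz L ≠ zz L * u) {S : Subgroup G} (hS : Syl S ⊤) : Cfsg.IsQuasiDihedral S := by
  have : Fact (Nat.Prime 2) := ⟨Nat.prime_two⟩
  have hfield := OneFieldPsi.hfield h hidx
  obtain ⟨K, hK, L, hL, hne, hc⟩ := hpair
  obtain ⟨T, Q, Q', S1, -, f⟩ := OneEndGlue.exists_fr h hK hL hne hc (IsPGroup.of_bot (p := 2)) bot_le bot_le
  obtain ⟨x, y, x', y', n, co⟩ := f.pair.exists_co h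
  have hSD : (∀ u ∈ Q, u * zz L = zz L * u → u = 1 ∨ u = zz K) ∧
      (∀ u ∈ Q', u * zz K = zz K * u → u = 1 ∨ u = zz L) := by
    rcases co.dich h with ⟨h1, h2⟩ | h1
    · exfalso
      exact hnoW K hK L hL hne hc _ (f.pair.hQ.1 (Q.pow_mem co.gq.c_mem (2 ^ n))) co.gq.w_sq (co.w_comm h2)
    · exact h1
  obtain ⟨c, v, w', n', sp⟩ := exists_sp f h hSD.1 hSD.2 hfield hF hnoW
  have hS1 := OneEndGlue.Fr.syl_top h hK f.hS
  -- `S1` as a Sylow subgroup
  have hP : ∃ P : Sylow 2 G, (P : Subgroup G) = S1 := by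
    refine ⟨hS1.2.1.toSylow ?_, rfl⟩
    rw [← relIndex_top_right]; exact hS1.2.2
  obtain ⟨P, hP⟩ := hP
  have h1 := sp.isQuasiDihedral P hP hidx
  obtain ⟨g, -, hg⟩ := hS1.exists_conj hS
  rw [← hg]
  exact isQuasiDihedral_cj g h1

end glue

end Cfsg.Agent.Cit.OneEndSD
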