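import Mathlib

/-!
# Quadratic modules of `SL₂` with `z = -1` split (project CIT, case `D₄`)

`SplitQuad V Z Xp Xm Pp Pm z`: `V` a group of odd order with `[V,V] ≤ Z ≤ Z(V)` on which the group `K` generated
by `Xp`, `Xm` acts, `z ∈ K` an involution, central in `K`, `C_V(z) = Z`, and `[V, Xs, Xs] ≤ Z`.
`Ps` is the set of the elements of `V` which commute with `Xs` and are inverted by `z`.
RESULT `SplitQuad.exists_mul`: `V = Z Pp Pm`, and `SplitQuad.card_eq`: `|V| = |Z| |Pp| |Pm|`.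
-/

set_option autoImplicit false
set_option linter.unusedSectionVars false

namespace Cfsg.Agent.Cit.SplitQuad

open scoped commutatorElement

variable {G : Type*} [Group G]

/-- The hypotheses. -/
structure Split (V Z Xp Xm Pp Pm : Subgroup G) (z : G) : Prop where
  odd : Odd (Nat.card V)
  Z_le : Z ≤ V
  Z_cent : ∀ a ∈ Z, ∀ b ∈ V, a * b = b * a
  der : ∀ a ∈ V, ∀ b ∈ V, ⁅a, b⁆ ∈ Z
  fix : ∀ v ∈ V, z * v = v * z → v ∈ Z
  z_sq : z * z = 1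
  z_mem : z ∈ Xp ⊔ Xm
  z_cent : ∀ k ∈ Xp ⊔ Xm, z * k = k * z
  norm : ∀ k ∈ Xp ⊔ Xm, ∀ v ∈ V, k * v * k⁻¹ ∈ V
  ZK : ∀ a ∈ Z, ∀ k ∈ Xp ⊔ Xm, a * k = k * a
  quadp : ∀ v ∈ V, ∀ x ∈ Xp, ∀ y ∈ Xp, ⁅⁅v, x⁆, y⁆ ∈ Z
  quadm : ∀ v ∈ V, ∀ x ∈ Xm, ∀ y ∈ Xm, ⁅⁅v, x⁆, y⁆ ∈ Z
  mem_Pp : ∀ v, v ∈ Pp ↔ v ∈ V ∧ (∀ x ∈ Xp, v * x = x * v) ∧ z * v * z = v⁻¹
  mem_Pm : ∀ v, v ∈ Pm ↔ v ∈ V ∧ (∀ x ∈ Xm, v * x = x * v) ∧ z * v * z = v⁻¹

namespace Split

variable {V Z Xp Xm Pp Pm : Subgroup G} {z : G} (H : Split V Z Xp Xm Pp Pm z)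

include H

theorem symm : Split V Z Xm Xp Pm Pp z where
  odd := H.odd
  Z_le := H.Z_le
  Z_cent := H.Z_cent
  der := H.der
  fix := H.fix
  z_sq := H.z_sq
  z_mem := by rw [sup_comm]; exact H.z_mem
  z_cent := by rw [sup_comm]; exact H.z_cent
  norm := by rw [sup_comm]; exact H.norm
  ZK := by rw [sup_comm]; exact H.ZK
  quadp := H.quadm
  quadm := H.quadp
  mem_Pp := H.mem_Pm
  mem_Pm := H.mem_Pp

theorem z_inv : z⁻¹ = z := inv_eq_of_mul_eq_one_left H.z_sq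

theorem finite : Finite V := by
  apply Nat.finite_of_card_ne_zero
  intro h0
  have := H.odd
  rw [h0] at this
  exact absurd this (by decide)

theorem odd_pow {v : G} (hv : v ∈ V) : v ^ Nat.card V = 1 := by
  have := H.finite
  have h1 : (⟨v, hv⟩ : V) ^ Nat.card V = 1 := pow_card_eq_one'
  have h2 := congrArg Subtype.val h1
  exact h2

theorem eq_one_of_sq {v : G} (hv : v ∈ V) (h2 : v * v = 1) : v = 1 := by
  obtain ⟨m, hm⟩ := H.odd
  have h1 := H.odd_pow hv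
  rw [hm, pow_succ, pow_mul, pow_two, h2, one_pow, one_mul] at h1
  exact h1

/-- The square root. -/
theorem exists_sqrt {v : G} (hv : v ∈ V) : ∃ k : ℕ, (v ^ k) * (v ^ k) = v := by
  obtain ⟨m, hm⟩ := H.odd
  refine ⟨m + 1, ?_⟩
  have h1 := H.odd_pow hv
  rw [← pow_add]
  have : m + 1 + (m + 1) = Nat.card V + 1 := by omega
  rw [this, pow_succ, h1, one_mul]

/-- the conjugation by `z` -/
theorem zz_mul (a b : G) : z * (a * b) * z = (z * a * z) * (z * b * z) := by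
  calc z * (a * b) * z = z * a * 1 * b * z := by group
    _ = z * a * (z * z) * b * z := by rw [H.z_sq]
    _ = (z * a * z) * (z * b * z) := by group

theorem zz_inv (a : G) : z * a⁻¹ * z = (z * a * z)⁻¹ := by
  rw [mul_inv_rev, mul_inv_rev, H.z_inv]; group

theorem zz_zz (a : G) : z * (z * a * z) * z = a := by
  calc z * (z * a * z) * z = (z * z) * a * (z * z) := by group
    _ = a := by rw [H.z_sq, one_mul, mul_one]

theorem zz_mem {v : G} (hv : v ∈ V) : z * v * z ∈ V := by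
  have := H.norm z H.z_mem v hv
  rwa [H.z_inv] at this

theorem zz_Z {a : G} (ha : a ∈ Z) : z * a * z = a := by
  rw [← H.ZK a ha z H.z_mem, mul_assoc, H.z_sq, mul_one]

theorem zz_fix {v : G} (hv : v ∈ V) (h : z * v * z = v) : v ∈ Z := by
  apply H.fix v hv
  calc z * v = z * v * (z * z) := by rw [H.z_sq, mul_one]
    _ = (z * v * z) * z := by group
    _ = v * z := by rw [h]

theorem zz_pow {a : G} (h : z * a * z = a⁻¹) (k : ℕ) : z * a ^ k * z = (a ^ k)⁻¹ := by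
  induction k with
  | zero => rw [pow_zero, mul_one, H.z_sq, inv_one]
  | succ k ih =>
    rw [pow_succ, H.zz_mul, ih, h, mul_inv_rev, ← inv_pow, ← pow_succ, ← pow_succ']

/-- `z` inverts `V` modulo `Z`. -/
theorem mul_zz_mem {v : G} (hv : v ∈ V) : v * (z * v * z) ∈ Z := by
  set u := v * (z * v * z) with hu
  have huV : u ∈ V := mul_mem hv (H.zz_mem hv)
  have h1 : z * u * z = (z * v * z) * v := by rw [hu, H.zz_mul, H.zz_zz]
  set c := u⁻¹ * (z * u * z) with hc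
  have hcZ : c ∈ Z := by
    have h2 : c = (z * v * z)⁻¹ * ⁅v⁻¹, z * v * z⁆ * (z * v * z) := by
      rw [hc, h1, hu, commutatorElement_def]; group
    have h3 := H.der v⁻¹ (inv_mem hv) _ (H.zz_mem hv)
    rw [h2, mul_assoc, H.Z_cent _ h3 _ (H.zz_mem hv), inv_mul_cancel_left]
    exact h3
  have h2 : z * u * z = u * c := by rw [hc]; group
  have h3 := congrArg (fun x => z * x * z) h2
  simp only [H.zz_zz] at h3
  rw [H.zz_mul, h2, H.zz_Z hcZ, mul_assoc] at h3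
  have h4 : c * c = 1 := by
    have : u * (c * c) = u * 1 := by rw [mul_one]; exact h3.symm
    exact mul_left_cancel this
  have h5 := H.eq_one_of_sq (H.Z_le hcZ) h4
  rw [h5, mul_one] at h2
  exact H.zz_fix huV h2

/-- `V = Z · {elements inverted by z}`; the second factor is a power of `[v,z]`. -/
theorem exists_decomp {v : G} (hv : v ∈ V) :
    ∃ a ∈ Z, ∃ k : ℕ, v = a * (v * (z * v⁻¹ * z)) ^ k ∧
      z * (v * (z * v⁻¹ * z)) ^ k * z = ((v * (z * v⁻¹ * z)) ^ k)⁻¹ := by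
  set d := v * (z * v⁻¹ * z) with hd
  have hdV : d ∈ V := mul_mem hv (H.zz_mem (inv_mem hv))
  have hdz : z * d * z = d⁻¹ := by
    rw [hd, H.zz_mul, H.zz_zz, mul_inv_rev, H.zz_inv, inv_inv]
  obtain ⟨k, hk⟩ := H.exists_sqrt hdV
  set b := d ^ k with hb
  have hbV : b ∈ V := pow_mem hdV k
  have hbz : z * b * z = b⁻¹ := H.zz_pow hdz k
  refine ⟨v * b⁻¹, ?_, k, (inv_mul_cancel_right v b).symm, hbz⟩
  have haV : v * b⁻¹ ∈ V := mul_mem hv (inv_mem hbV)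
  set a := v * b⁻¹ with ha
  have hzv : z * v * z = d⁻¹ * v := by
    have : z * v * z = (z * v⁻¹ * z)⁻¹ := by rw [H.zz_inv, inv_inv]
    rw [this, hd]; group
  have hza : z * a * z = d⁻¹ * v * b := by
    rw [ha, H.zz_mul, hzv, H.zz_inv, hbz, inv_inv]
  set c := (z * a * z) * a⁻¹ with hc
  have hcZ : c ∈ Z := by
    have h2 : c = ⁅(b * b)⁻¹, v⁆ := by
      rw [hc, hza, ha, ← hk, commutatorElement_def]
      simp only [mul_inv_rev, inv_inv, mul_assoc]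
    rw [h2]
    exact H.der _ (inv_mem (mul_mem hbV hbV)) _ hv
  have h2 : z * a * z = c * a := by rw [hc]; group
  have h3 := congrArg (fun x => z * x * z) h2
  simp only [H.zz_zz] at h3
  rw [H.zz_mul, h2, H.zz_Z hcZ, ← mul_assoc] at h3
  have h4 : c * c = 1 := by
    have : c * c * a = 1 * a := by rw [one_mul]; exact h3.symm
    exact mul_right_cancel this
  have h5 := H.eq_one_of_sq (H.Z_le hcZ) h4
  rw [h5, one_mul] at h2
  exact H.zz_fix haV h2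

theorem commute_pow {v y : G} (h1 : v * y = y * v) (h2 : z * y = y * z) (k : ℕ) :
    (v * (z * v⁻¹ * z)) ^ k * y = y * (v * (z * v⁻¹ * z)) ^ k := by
  have h3 : Commute v y := h1
  have h4 : Commute z y := h2
  have : Commute (v * (z * v⁻¹ * z)) y := h3.mul_left ((h4.mul_left h3.inv_left).mul_left h4)
  exact this.pow_left k

theorem comm_mem_V {v x : G} (hv : v ∈ V) (hx : x ∈ Xp ⊔ Xm) : ⁅v, x⁆ ∈ V := by
  have h1 := mul_mem hv (H.norm x hx v⁻¹ (inv_mem hv))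
  have : v * (x * v⁻¹ * x⁻¹) = ⁅v, x⁆ := by rw [commutatorElement_def]; group
  rwa [this] at h1

/-- an inverted element of `V` with `[b,Xp] ≤ Z` commutes with `Xp` -/
theorem mem_Pp_of {b : G} (hb : b ∈ V) (hbz : z * b * z = b⁻¹) (h : ∀ y ∈ Xp, ⁅b, y⁆ ∈ Z) : b ∈ Pp := by
  rw [H.mem_Pp]
  refine ⟨hb, fun y hy => ?_, hbz⟩
  have hu := h y hy
  set u := ⁅b, y⁆ with hudef
  have hyK : y ∈ Xp ⊔ Xm := Subgroup.mem_sup_left hy
  have h1 : z * y * z = y := by rw [H.z_cent y hyK, mul_assoc, H.z_sq, mul_one]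
  have h2 : z * u * z = b⁻¹ * y * b * y⁻¹ := by
    rw [hudef, commutatorElement_def, H.zz_mul, H.zz_mul, H.zz_mul, H.zz_inv, H.zz_inv, hbz, h1, inv_inv]
  have h3 : b⁻¹ * y * b * y⁻¹ = b⁻¹ * u⁻¹ * b := by rw [hudef, commutatorElement_def]; group
  have h4 : b⁻¹ * u⁻¹ * b = u⁻¹ := by
    have := H.Z_cent _ (inv_mem hu) b hb
    rw [mul_assoc, this, inv_mul_cancel_left]
  rw [h3, h4, H.zz_Z hu] at h2
  have h5 : u * u = 1 := by
    calc u * u = u⁻¹ * u := by rw [← h2]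
      _ = 1 := inv_mul_cancel u
  exact commutatorElement_eq_one_iff_mul_comm.1 (H.eq_one_of_sq (H.Z_le hu) h5)

/-- `[v, x] ∈ Z Pp`. -/
theorem comm_mem {v x : G} (hv : v ∈ V) (hx : x ∈ Xp) : ∃ a ∈ Z, ∃ b ∈ Pp, ⁅v, x⁆ = a * b := by
  have hcV : ⁅v, x⁆ ∈ V := H.comm_mem_V hv (Subgroup.mem_sup_left hx)
  obtain ⟨a, ha, k, hk, hz⟩ := H.exists_decomp hcV
  set b := (⁅v, x⁆ * (z * ⁅v, x⁆⁻¹ * z)) ^ k with hb
  have hbV : b ∈ V := pow_mem (mul_mem hcV (H.zz_mem (inv_mem hcV))) k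
  refine ⟨a, ha, b, ?_, hk⟩
  refine H.mem_Pp_of hbV hz fun y hy => ?_
  have h1 := H.quadp v hv x hx y hy
  rw [hk] at h1
  have hyK : y ∈ Xp ⊔ Xm := Subgroup.mem_sup_left hy
  have h2 : ⁅a * b, y⁆ = a * ⁅b, y⁆ * a⁻¹ * ⁅a, y⁆ := by simp only [commutatorElement_def]; group
  have h3 : ⁅a, y⁆ = 1 := commutatorElement_eq_one_iff_mul_comm.2 (H.ZK a ha y hyK)
  have h4 : a * ⁅b, y⁆ * a⁻¹ = ⁅b, y⁆ := by
    rw [H.Z_cent a ha _ (H.comm_mem_V hbV hyK), mul_inv_cancel_right]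
  rw [h2, h3, mul_one, h4] at h1
  exact h1

theorem Pp_le : Pp ≤ V := fun v hv => ((H.mem_Pp v).1 hv).1

theorem Pm_le : Pm ≤ V := H.symm.Pp_le

/-- the group `Z Pp Pm` -/
def D : Subgroup G where
  carrier := {v | ∃ a ∈ Z, ∃ b ∈ Pp, ∃ c ∈ Pm, v = a * b * c}
  one_mem' := ⟨1, one_mem _, 1, one_mem _, 1, one_mem _, by group⟩
  mul_mem' := by
    rintro _ _ ⟨a, ha, b, hb, c, hc, rfl⟩ ⟨a', ha', b', hb', c', hc', rfl⟩
    have hbV := H.Pp_le hb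
    have hbV' := H.Pp_le hb'
    have hcV := H.Pm_le hc
    have hcV' := H.Pm_le hc'
    have hk := H.der c hcV b' hbV'
    refine ⟨a * a' * ⁅c, b'⁆, mul_mem (mul_mem ha ha') hk, b * b', mul_mem hb hb', c * c', mul_mem hc hc', ?_⟩
    have h1 : c * b' = ⁅c, b'⁆ * b' * c := by rw [commutatorElement_def]; group
    have h2 := H.Z_cent a' ha' (b * c) (mul_mem hbV hcV)
    have h3 := H.Z_cent _ hk b hbV
    calc a * b * c * (a' * b' * c') = a * ((b * c) * a') * b' * c' := by group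
      _ = a * a' * b * (c * b') * c' := by rw [← h2]; group
      _ = a * a' * (b * ⁅c, b'⁆) * b' * c * c' := by rw [h1]; group
      _ = _ := by rw [← h3]; group
  inv_mem' := by
    rintro _ ⟨a, ha, b, hb, c, hc, rfl⟩
    have hbV := H.Pp_le hb
    have hcV := H.Pm_le hc
    have hk := H.der c⁻¹ (inv_mem hcV) b⁻¹ (inv_mem hbV)
    refine ⟨⁅c⁻¹, b⁻¹⁆ * a⁻¹, mul_mem hk (inv_mem ha), b⁻¹, inv_mem hb, c⁻¹, inv_mem hc, ?_⟩
    have h1 : c⁻¹ * b⁻¹ = ⁅c⁻¹, b⁻¹⁆ * b⁻¹ * c⁻¹ := by rw [commutatorElement_def]; group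
    have h2 := H.Z_cent a⁻¹ (inv_mem ha) (b⁻¹ * c⁻¹) (mul_mem (inv_mem hbV) (inv_mem hcV))
    calc (a * b * c)⁻¹ = (c⁻¹ * b⁻¹) * a⁻¹ := by group
      _ = ⁅c⁻¹, b⁻¹⁆ * ((b⁻¹ * c⁻¹) * a⁻¹) := by rw [h1]; group
      _ = _ := by rw [← h2]; group

theorem D_le : H.D ≤ V := by
  rintro _ ⟨a, ha, b, hb, c, hc, rfl⟩
  exact mul_mem (mul_mem (H.Z_le ha) (H.Pp_le hb)) (H.Pm_le hc)

theorem Z_le_D : Z ≤ H.D := fun a ha => ⟨a, ha, 1, one_mem _, 1, one_mem _, by group⟩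

theorem key {v k : G} (hv : v ∈ V) (hk : k ∈ Xp ⊔ Xm) : v⁻¹ * (k * v * k⁻¹) ∈ H.D := by
  let N : Subgroup G :=
    { carrier := {k | k ∈ Xp ⊔ Xm ∧ ∀ v ∈ V, v⁻¹ * (k * v * k⁻¹) ∈ H.D}
      one_mem' := ⟨one_mem _, fun v _ => by
        have : v⁻¹ * (1 * v * 1⁻¹) = 1 := by group
        rw [this]; exact one_mem _⟩
      mul_mem' := by
        rintro k l ⟨hk, hk'⟩ ⟨hl, hl'⟩
        refine ⟨mul_mem hk hl, fun v hv => ?_⟩
        have hlv : l * v * l⁻¹ ∈ V := H.norm l hl v hv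
        have h1 := hk' _ hlv
        have h2 := hl' v hv
        have := mul_mem h2 h1
        have e : v⁻¹ * (l * v * l⁻¹) * ((l * v * l⁻¹)⁻¹ * (k * (l * v * l⁻¹) * k⁻¹)) =
            v⁻¹ * (k * l * v * (k * l)⁻¹) := by group
        rwa [e] at this
      inv_mem' := by
        rintro k ⟨hk, hk'⟩
        refine ⟨inv_mem hk, fun v hv => ?_⟩
        have hkv : k⁻¹ * v * k⁻¹⁻¹ ∈ V := H.norm k⁻¹ (inv_mem hk) v hv
        have h1 := inv_mem (hk' _ hkv)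
        have e : ((k⁻¹ * v * k⁻¹⁻¹)⁻¹ * (k * (k⁻¹ * v * k⁻¹⁻¹) * k⁻¹))⁻¹ = v⁻¹ * (k⁻¹ * v * k⁻¹⁻¹) := by group
        rwa [e] at h1 }
  have h1 : Xp ⊔ Xm ≤ N := by
    refine sup_le (fun x hx => ⟨Subgroup.mem_sup_left hx, fun v hv => ?_⟩)
      (fun x hx => ⟨Subgroup.mem_sup_right hx, fun v hv => ?_⟩)
    · obtain ⟨a, ha, b, hb, e⟩ := H.comm_mem (inv_mem hv) hx
      have e' : v⁻¹ * (x * v * x⁻¹) = ⁅v⁻¹, x⁆ := by rw [commutatorElement_def]; group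
      rw [e', e]
      exact ⟨a, ha, b, hb, 1, one_mem _, by group⟩
    · obtain ⟨a, ha, b, hb, e⟩ := H.symm.comm_mem (inv_mem hv) hx
      have e' : v⁻¹ * (x * v * x⁻¹) = ⁅v⁻¹, x⁆ := by rw [commutatorElement_def]; group
      rw [e', e]
      exact ⟨a, ha, 1, one_mem _, b, hb, by group⟩
  exact (h1 hk).2 v hv

/-- **`V = Z Pp Pm`.** -/
theorem exists_mul {v : G} (hv : v ∈ V) : ∃ a ∈ Z, ∃ b ∈ Pp, ∃ c ∈ Pm, v = a * b * c := by
  have h1 := H.key (inv_mem hv) H.z_mem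
  rw [H.z_inv, inv_inv] at h1
  have h2 := H.Z_le_D (H.mul_zz_mem (inv_mem hv))
  have h3 : v⁻¹ * v⁻¹ ∈ H.D := by
    have h5 := mul_mem h2 (inv_mem h1)
    have e : v⁻¹ * (z * v⁻¹ * z) * (v * (z * v⁻¹ * z))⁻¹ = v⁻¹ * v⁻¹ := by group
    rwa [e] at h5
  obtain ⟨k, hk⟩ := H.exists_sqrt hv
  have h6 : v * v ∈ H.D := by
    have := inv_mem h3
    have e : (v⁻¹ * v⁻¹)⁻¹ = v * v := by rw [mul_inv_rev, inv_inv]
    rwa [e] at this
  have h7 : (v * v) ^ k = v := by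
    rw [← pow_two, ← pow_mul, mul_comm, pow_mul, pow_two, hk]
  have h8 := pow_mem h6 k
  rw [h7] at h8
  exact h8

theorem ext_mul {a a' b b' c c' : G} (ha : a ∈ Z) (ha' : a' ∈ Z) (hb : b ∈ Pp) (hb' : b' ∈ Pp) (hc : c ∈ Pm)
    (hc' : c' ∈ Pm) (h : a * b * c = a' * b' * c') : a = a' ∧ b = b' ∧ c = c' := by
  have hbV := H.Pp_le hb
  have hbV' := H.Pp_le hb'
  have e1 : c' * c⁻¹ = b'⁻¹ * (a'⁻¹ * a) * b := by
    have : c' = b'⁻¹ * a'⁻¹ * (a * b * c) := by rw [h]; group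
    rw [this]; group
  have hz := mul_mem (inv_mem ha') ha
  have e2 : c' * c⁻¹ = (a'⁻¹ * a) * (b'⁻¹ * b) := by
    rw [e1, ← H.Z_cent _ hz _ (inv_mem hbV')]; group
  -- `g = b'⁻¹ b` commutes with everything
  set g := b'⁻¹ * b with hg
  have hgP : g ∈ Pp := mul_mem (inv_mem hb') hb
  have hgp := (H.mem_Pp g).1 hgP
  have hcm := (H.mem_Pm (c' * c⁻¹)).1 (mul_mem hc' (inv_mem hc))
  have hgm : ∀ x ∈ Xm, g * x = x * g := by
    intro x hx
    have h1 := hcm.2.1 x hx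
    rw [e2] at h1
    have h2 := H.ZK _ hz x (Subgroup.mem_sup_right hx)
    have : (a'⁻¹ * a) * (g * x) = (a'⁻¹ * a) * (x * g) := by
      calc (a'⁻¹ * a) * (g * x) = (a'⁻¹ * a * g) * x := (mul_assoc _ _ _).symm
        _ = x * (a'⁻¹ * a) * g := by rw [h1, mul_assoc x]
        _ = (a'⁻¹ * a) * (x * g) := by rw [← h2, mul_assoc]
    exact mul_left_cancel this
  have hgK : Xp ⊔ Xm ≤ Subgroup.centralizer {g} := by
    refine sup_le (fun x hx => ?_) (fun x hx => ?_)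
    · rw [Subgroup.mem_centralizer_singleton_iff]; exact (hgp.2.1 x hx).symm
    · rw [Subgroup.mem_centralizer_singleton_iff]; exact (hgm x hx).symm
  have hgz : z * g = g * z := Subgroup.mem_centralizer_singleton_iff.1 (hgK H.z_mem)
  have hg1 : g = 1 := by
    have h1 := hgp.2.2
    rw [hgz, mul_assoc, H.z_sq, mul_one] at h1
    apply H.eq_one_of_sq hgp.1
    calc g * g = g⁻¹ * g := by rw [← h1]
      _ = 1 := inv_mul_cancel g
  rw [hg1, mul_one] at e2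
  have hz1 : a'⁻¹ * a = 1 := by
    have h1 := hcm.2.2
    rw [e2, H.zz_Z hz] at h1
    apply H.eq_one_of_sq (H.Z_le hz)
    calc (a'⁻¹ * a) * (a'⁻¹ * a) = (a'⁻¹ * a)⁻¹ * (a'⁻¹ * a) := by rw [← h1]
      _ = 1 := inv_mul_cancel _
  rw [hz1] at e2
  refine ⟨(inv_mul_eq_one.1 hz1).symm, (inv_mul_eq_one.1 hg1).symm, (mul_inv_eq_one.1 e2).symm⟩

theorem card_eq : Nat.card V = Nat.card Z * (Nat.card Pp * Nat.card Pm) := by
  let f : Z × Pp × Pm → V := fun x =>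
    ⟨x.1 * x.2.1 * x.2.2, mul_mem (mul_mem (H.Z_le x.1.2) (H.Pp_le x.2.1.2)) (H.Pm_le x.2.2.2)⟩
  have hf : Function.Bijective f := by
    constructor
    · rintro ⟨a, b, c⟩ ⟨a', b', c'⟩ h
      obtain ⟨h1, h2, h3⟩ := H.ext_mul a.2 a'.2 b.2 b'.2 c.2 c'.2 (congrArg Subtype.val h)
      rw [Prod.mk.injEq, Prod.mk.injEq]
      exact ⟨Subtype.ext h1, Subtype.ext h2, Subtype.ext h3⟩
    · rintro ⟨v, hv⟩
      obtain ⟨a, ha, b, hb, c, hc, e⟩ := H.exists_mul hv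
      exact ⟨⟨⟨a, ha⟩, ⟨b, hb⟩, ⟨c, hc⟩⟩, Subtype.ext e.symm⟩
  rw [← Nat.card_congr (Equiv.ofBijective f hf), Nat.card_prod, Nat.card_prod]

/-- If an element of the group generated by `Xp` and `Xm` swaps `Xp` and `Xm`, then `|Pp| = |Pm|`. -/
theorem card_swap {w : G} (hw : w ∈ Xp ⊔ Xm) (h1 : ∀ x ∈ Xm, w⁻¹ * x * w ∈ Xp) (h2 : ∀ x ∈ Xp, w * x * w⁻¹ ∈ Xm) :
    Nat.card Pp = Nat.card Pm := by
  have hz : ∀ v : G, z * v * z = v⁻¹ → ∀ k ∈ Xp ⊔ Xm, z * (k * v * k⁻¹) * z = (k * v * k⁻¹)⁻¹ := by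
    intro v hv k hk
    have hk1 : z * k * z = k := by rw [H.z_cent k hk, mul_assoc, H.z_sq, mul_one]
    rw [H.zz_mul, H.zz_mul, H.zz_inv, hv, hk1]; group
  let f : Pp → Pm := fun v => ⟨w * v * w⁻¹, by
    have hv := (H.mem_Pp v).1 v.2
    rw [H.mem_Pm]
    refine ⟨H.norm w hw v hv.1, fun x hx => ?_, hz v hv.2.2 w hw⟩
    have := hv.2.1 _ (h1 x hx)
    have e : (w * v * w⁻¹) * x = w * (v * (w⁻¹ * x * w)) * w⁻¹ := by group
    rw [e, this]; group⟩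
  let g : Pm → Pp := fun v => ⟨w⁻¹ * v * w, by
    have hv := (H.mem_Pm v).1 v.2
    rw [H.mem_Pp]
    have h3 := H.norm w⁻¹ (inv_mem hw) v hv.1
    have h4 := hz v hv.2.2 w⁻¹ (inv_mem hw)
    rw [inv_inv] at h3 h4
    refine ⟨h3, fun x hx => ?_, h4⟩
    have := hv.2.1 _ (h2 x hx)
    have e : (w⁻¹ * v * w) * x = w⁻¹ * (v * (w * x * w⁻¹)) * w := by group
    rw [e, this]; group⟩
  exact Nat.card_congr ⟨f, g, fun v => Subtype.ext (by simp only [f, g]; group),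
    fun v => Subtype.ext (by simp only [f, g]; group)⟩

end Split

end Cfsg.Agent.Cit.SplitQuad
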