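import Cfsg.Agent.Cit.OneField
import Cfsg.Agent.Cit.OnePair

/-!
# Classical involutions, `|Om(S)| = 1`: the field homomorphism `chi`

Let `Q` be generalised quaternion of order `2^(n+3)`. `Act Q g a`: `g` normalises `Q` and raises the elements
of order `≥ 8` of `Q` to the odd power `a`; the class of `a` modulo `±1` (and modulo `2^(n+2)`) is encoded by
`chiQ n Q g = a ^ 2` in the units of `ZMod (2^(n+3))`. For `K ∈ Om` this gives a homomorphism `ch n K` on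
`N(K)`, trivial on `K`, and, under `One Om`, a compatible family (`OneField.Psi`) on the centralisers of the
classical involutions. If `G` has no proper normal subgroup of 2-power index, then it is trivial on the Sylow
2-subgroup `S` of `G`, so `S` acts on the cyclic maximal subgroup `⟨x⟩` of `Q` by `x ↦ x^{±1}` and
`|S : Q C_S(Q)| ≤ 2` (3I of blueprints/R18-One-helper45.md).
-/

set_option autoImplicit false
set_option linter.style.haveILetI false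
set_option linter.unusedSectionVars false

namespace Cfsg.Agent.Cit.OneChi

open Subgroup Cfsg OneBasic

variable {G : Type*} [Group G]

/-! ### Arithmetic -/

/-- the group of values -/
abbrev UU (n : ℕ) := (ZMod (2 ^ (n + 3)))ˣ

theorem cast_sq_eq {n : ℕ} {a b : ℤ} (h : (2 : ℤ) ^ (n + 3) ∣ a ^ 2 - b ^ 2) :
    (a : ZMod (2 ^ (n + 3))) ^ 2 = (b : ZMod (2 ^ (n + 3))) ^ 2 := by
  have h1 : (((2 ^ (n + 3) : ℕ) : ℤ)) ∣ a ^ 2 - b ^ 2 := by exact_mod_cast h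
  rw [← ZMod.intCast_zmod_eq_zero_iff_dvd] at h1
  push_cast at h1
  exact sub_eq_zero.1 h1

theorem dvd_of_cast_sq_eq {n : ℕ} {a b : ℤ}
    (h : (a : ZMod (2 ^ (n + 3))) ^ 2 = (b : ZMod (2 ^ (n + 3))) ^ 2) :
    (2 : ℤ) ^ (n + 3) ∣ a ^ 2 - b ^ 2 := by
  have h1 : (((2 ^ (n + 3) : ℕ) : ℤ)) ∣ a ^ 2 - b ^ 2 := by
    rw [← ZMod.intCast_zmod_eq_zero_iff_dvd]
    push_cast
    exact sub_eq_zero.2 h
  exact_mod_cast h1

theorem exists_unit (n : ℕ) {a : ℤ} (ha : Odd a) : ∃ u : UU n, (u : ZMod (2 ^ (n + 3))) = (a : ZMod _) ^ 2 := by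
  have h1 : IsUnit (a : ZMod (2 ^ (n + 3))) := by
    rw [ZMod.coe_int_isUnit_iff_isCoprime]
    push_cast
    apply IsCoprime.pow_left
    obtain ⟨k, rfl⟩ := ha
    exact ⟨-k, 1, by ring⟩
  obtain ⟨u, hu⟩ := h1
  exact ⟨u ^ 2, by rw [Units.val_pow_eq_pow_val, hu]⟩

/-- odd squares agree modulo `8` -/
theorem odd_sq {a b : ℤ} (ha : Odd a) (hb : Odd b) : (2 : ℤ) ^ 3 ∣ a ^ 2 - b ^ 2 := by
  obtain ⟨k, rfl⟩ := ha
  obtain ⟨l, rfl⟩ := hb
  have h1 : (2 : ℤ) ∣ k * (k + 1) := (Int.even_mul_succ_self k).two_dvd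
  have h2 : (2 : ℤ) ∣ l * (l + 1) := (Int.even_mul_succ_self l).two_dvd
  obtain ⟨c, hc⟩ := h1
  obtain ⟨d, hd⟩ := h2
  refine ⟨c - d, ?_⟩
  linear_combination 4 * hc - 4 * hd

theorem sq_of_mod {n : ℕ} {a b : ℤ} (ha : Odd a) (hb : Odd b) (h : (2 : ℤ) ^ (n + 2) ∣ a - b) :
    (2 : ℤ) ^ (n + 3) ∣ a ^ 2 - b ^ 2 := by
  have h1 : (2 : ℤ) ∣ a + b := (ha.add_odd hb).two_dvd
  have h2 := mul_dvd_mul h h1
  rw [← pow_succ] at h2
  have h3 : a ^ 2 - b ^ 2 = (a - b) * (a + b) := by ring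
  rw [h3]; exact h2

/-- `a^2 = 1` modulo `2^(n+3)` iff `a = ±1` modulo `2^(n+2)` -/
theorem eq_one_or {n : ℕ} {a : ℤ} (ha : Odd a) (h : (2 : ℤ) ^ (n + 3) ∣ a ^ 2 - 1) :
    (2 : ℤ) ^ (n + 2) ∣ a - 1 ∨ (2 : ℤ) ^ (n + 2) ∣ a + 1 := by
  obtain ⟨k, rfl⟩ := ha
  have h1 : (2 * k + 1) ^ 2 - 1 = 2 * (2 * (k * (k + 1))) := by ring
  rw [h1, pow_succ', pow_succ'] at h
  have h2 : (2 : ℤ) ^ (n + 1) ∣ k * (k + 1) :=
    (mul_dvd_mul_iff_left (by norm_num)).1 ((mul_dvd_mul_iff_left (by norm_num)).1 h)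
  rcases Int.even_or_odd k with hk | hk
  · left
    have h3 : IsCoprime ((2 : ℤ) ^ (n + 1)) (k + 1) := by
      apply IsCoprime.pow_left
      obtain ⟨m, rfl⟩ := hk
      exact ⟨-m, 1, by ring⟩
    have h4 := h3.dvd_of_dvd_mul_right h2
    have h5 : 2 * k + 1 - 1 = 2 * k := by ring
    rw [h5, pow_succ']
    exact mul_dvd_mul_left 2 h4
  · right
    have h3 : IsCoprime ((2 : ℤ) ^ (n + 1)) k := by
      apply IsCoprime.pow_left
      obtain ⟨m, rfl⟩ := hk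
      exact ⟨-m, 1, by ring⟩
    have h4 := h3.dvd_of_dvd_mul_left h2
    have h5 : 2 * k + 1 + 1 = 2 * (k + 1) := by ring
    rw [h5, pow_succ']
    exact mul_dvd_mul_left 2 h4

theorem card_UU (n : ℕ) : Nat.card (UU n) = 2 ^ (n + 2) := by
  haveI : NeZero (2 ^ (n + 3)) := ⟨by positivity⟩
  rw [Nat.card_eq_fintype_card, ZMod.card_units_eq_totient, Nat.totient_prime_pow Nat.prime_two (by omega)]
  simp

/-- an element of odd order of `UU n` is trivial -/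
theorem eq_one_of_odd_pow {n : ℕ} {u : UU n} {m : ℕ} (hm : Odd m) (h : u ^ m = 1) : u = 1 := by
  haveI : NeZero (2 ^ (n + 3)) := ⟨by positivity⟩
  have h1 : orderOf u ∣ m := orderOf_dvd_of_pow_eq_one h
  have h2 : orderOf u ∣ 2 ^ (n + 2) := by rw [← card_UU n]; exact orderOf_dvd_natCard u
  have h3 : Nat.Coprime (2 ^ (n + 2)) m := Nat.Coprime.pow_left _ (Nat.coprime_two_left.2 hm)
  have h4 := Nat.dvd_gcd h2 h1
  rw [h3] at h4
  exact orderOf_eq_one_iff.1 (Nat.dvd_one.1 h4)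

/-! ### The action on the elements of order `≥ 8` -/

/-- `g` normalises `Q` and raises the elements of order `≥ 8` to the odd power `a` -/
structure Act (Q : Subgroup G) (g : G) (a : ℤ) : Prop where
  norm : g ∈ normalizer (Q : Set G)
  odd : Odd a
  eq : ∀ x ∈ Q, x ^ 4 ≠ 1 → g * x * g⁻¹ = x ^ a

namespace Act

variable {Q : Subgroup G} {c v z : G} {n : ℕ}

theorem mem_zpowers (h : GQ Q c v z n) {x : G} (hx : x ∈ Q) (h4 : x ^ 4 ≠ 1) : x ∈ zpowers c := by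
  by_contra hc
  apply h4
  rcases h.cov x hx with ⟨i, rfl⟩ | ⟨i, rfl⟩
  · exact absurd (pow_mem (Subgroup.mem_zpowers c) i) hc
  · have h1 := h.orderOf_out i
    rw [← h1, pow_orderOf_eq_one]

theorem c_pow (h : GQ Q c v z n) (hn : n ≠ 0) : c ^ 4 ≠ 1 := by
  intro h1
  have h2 := orderOf_dvd_of_pow_eq_one h1
  rw [h.ord] at h2
  have h3 := Nat.le_of_dvd (by norm_num) h2
  have h4 : 2 ^ 3 ≤ 2 ^ (n + 2) := Nat.pow_le_pow_right (by norm_num) (by omega)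
  omega

theorem pow_four (h : GQ Q c v z 0) {x : G} (hx : x ∈ Q) : x ^ 4 = 1 := by
  by_contra h4
  obtain ⟨k, rfl⟩ := mem_zpowers h hx h4
  apply h4
  change (c ^ k) ^ 4 = 1
  rw [← zpow_natCast, ← zpow_mul, mul_comm, zpow_mul]
  have h5 : c ^ ((4 : ℕ) : ℤ) = 1 := by
    rw [zpow_natCast]
    have := h.pow_ord
    norm_num at this
    exact this
  rw [h5, one_zpow]

theorem exists_act (h : GQ Q c v z n) {g : G} (hg : g ∈ normalizer (Q : Set G)) : ∃ a, Act Q g a := by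
  rcases Nat.eq_zero_or_pos n with rfl | hn
  · exact ⟨1, hg, odd_one, fun x hx h4 => absurd (pow_four h hx) h4⟩
  · have h1 : g * c * g⁻¹ ∈ zpowers c := by
      apply mem_zpowers h (conj_mem_of hg h.c_mem)
      rw [conj_pow]
      intro h2
      apply c_pow h hn.ne'
      calc c ^ 4 = g⁻¹ * (g * c ^ 4 * g⁻¹) * g := by group
        _ = 1 := by rw [h2]; group
    obtain ⟨a, ha⟩ := h1
    have ha' : g * c * g⁻¹ = c ^ a := ha.symm
    refine ⟨a, hg, ?_, ?_⟩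
    · rcases Int.even_or_odd a with ha1 | ha1
      · exfalso
        obtain ⟨b, rfl⟩ := ha1
        apply h.z_ne
        have h2 : g * z * g⁻¹ = 1 := by
          rw [← h.z_zpow, conj_zpow_pow ha']
          have h3 : (b + b) * 2 ^ (n + 1) = (2 ^ (n + 2)) * b := by ring
          rw [h3, h.zpow_eq_one_iff]
          exact dvd_mul_right _ _
        calc z = g⁻¹ * (g * z * g⁻¹) * g := by group
          _ = 1 := by rw [h2]; group
      · exact ha1
    · intro x hx h4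
      obtain ⟨k, rfl⟩ := mem_zpowers h hx h4
      change g * c ^ k * g⁻¹ = (c ^ k) ^ a
      rw [conj_zpow_pow ha', ← zpow_mul, mul_comm]

/-- the exponent is unique modulo the sign -/
theorem unique (h : GQ Q c v z n) {g : G} {a b : ℤ} (ha : Act Q g a) (hb : Act Q g b) :
    (2 : ℤ) ^ (n + 3) ∣ a ^ 2 - b ^ 2 := by
  rcases Nat.eq_zero_or_pos n with rfl | hn
  · exact odd_sq ha.odd hb.odd
  · have h1 := ha.eq c h.c_mem (c_pow h hn.ne')
    rw [hb.eq c h.c_mem (c_pow h hn.ne')] at h1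
    apply sq_of_mod ha.odd hb.odd
    rw [← h.zpow_eq_one_iff, zpow_sub, h1, mul_inv_cancel]

theorem mul {g k : G} {a b : ℤ} (ha : Act Q g a) (hb : Act Q k b) : Act Q (g * k) (a * b) := by
  refine ⟨mul_mem ha.norm hb.norm, ha.odd.mul hb.odd, fun x hx h4 => ?_⟩
  have h1 : g * k * x * (g * k)⁻¹ = g * (k * x * k⁻¹) * g⁻¹ := by group
  rw [h1, hb.eq x hx h4, ← conj_zpow, ha.eq x hx h4, zpow_mul]

theorem one : Act Q 1 1 := ⟨one_mem _, odd_one, fun x _ _ => by simp⟩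

theorem cj {g : G} {a : ℤ} (ha : Act Q g a) (k : G) : Act (Cit.cj k Q) (k * g * k⁻¹) a := by
  refine ⟨?_, ha.odd, ?_⟩
  · rw [mem_normalizer_iff_cj, ← cj_mul]
    have : k * g * k⁻¹ * k = k * g := by group
    rw [this, cj_mul, mem_normalizer_iff_cj.1 ha.norm]
  · intro x hx h4
    rw [mem_cj] at hx
    have h1 : (k⁻¹ * x * k) ^ 4 ≠ 1 := by
      have h2 : (k⁻¹ * x * k) ^ 4 = k⁻¹ * x ^ 4 * k := by
        have := conj_pow (i := 4) (a := k⁻¹) (b := x)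
        simpa using this
      rw [h2]
      intro h3
      apply h4
      calc x ^ 4 = k * (k⁻¹ * x ^ 4 * k) * k⁻¹ := by group
        _ = 1 := by rw [h3]; group
    have h2 := ha.eq _ hx h1
    have h3 : (k⁻¹ * x * k) ^ a = k⁻¹ * x ^ a * k := by
      have := conj_zpow (i := a) (a := k⁻¹) (b := x)
      simpa using this
    rw [h3] at h2
    calc k * g * k⁻¹ * x * (k * g * k⁻¹)⁻¹ = k * (g * (k⁻¹ * x * k) * g⁻¹) * k⁻¹ := by group
      _ = x ^ a := by rw [h2]; group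

/-- the action read off at a generator of the cyclic maximal subgroup -/
theorem of_conj (h : GQ Q c v z n) {g : G} (hg : g ∈ normalizer (Q : Set G)) {a : ℤ} (hc : g * c * g⁻¹ = c ^ a) :
    Act Q g a := by
  refine ⟨hg, ?_, ?_⟩
  · rcases Int.even_or_odd a with ha1 | ha1
    · exfalso
      obtain ⟨b, rfl⟩ := ha1
      apply h.z_ne
      have h2 : g * z * g⁻¹ = 1 := by
        rw [← h.z_zpow, conj_zpow_pow hc]
        have h3 : (b + b) * 2 ^ (n + 1) = (2 ^ (n + 2)) * b := by ring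
        rw [h3, h.zpow_eq_one_iff]
        exact dvd_mul_right _ _
      calc z = g⁻¹ * (g * z * g⁻¹) * g := by group
        _ = 1 := by rw [h2]; group
    · exact ha1
  · intro x hx h4
    obtain ⟨k, rfl⟩ := mem_zpowers h hx h4
    change g * c ^ k * g⁻¹ = (c ^ k) ^ a
    rw [conj_zpow_pow hc, ← zpow_mul, mul_comm]

end Act

/-! ### `chiQ` -/

open Classical in
/-- the square of the exponent in the units of `ZMod (2^(n+3))` -/
noncomputable def chiQ (n : ℕ) (Q : Subgroup G) (g : G) : UU n :=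
  if h : ∃ u : UU n, ∃ a : ℤ, Act Q g a ∧ (u : ZMod (2 ^ (n + 3))) = (a : ZMod _) ^ 2 then h.choose else 1

section chiQ

variable {Q : Subgroup G} {c v z : G} {n : ℕ}

theorem chiQ_eq (h : GQ Q c v z n) {g : G} {a : ℤ} (ha : Act Q g a) :
    (chiQ n Q g : ZMod (2 ^ (n + 3))) = (a : ZMod _) ^ 2 := by
  obtain ⟨u, hu⟩ := exists_unit n ha.odd
  have h1 : ∃ u : UU n, ∃ a : ℤ, Act Q g a ∧ (u : ZMod (2 ^ (n + 3))) = (a : ZMod _) ^ 2 := ⟨u, a, ha, hu⟩
  rw [chiQ, dif_pos h1]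
  obtain ⟨b, hb, hb2⟩ := h1.choose_spec
  rw [hb2]
  exact cast_sq_eq (Act.unique h hb ha)

theorem chiQ_mul (h : GQ Q c v z n) {g k : G} (hg : g ∈ normalizer (Q : Set G))
    (hk : k ∈ normalizer (Q : Set G)) : chiQ n Q (g * k) = chiQ n Q g * chiQ n Q k := by
  obtain ⟨a, ha⟩ := Act.exists_act h hg
  obtain ⟨b, hb⟩ := Act.exists_act h hk
  apply Units.ext
  rw [Units.val_mul, chiQ_eq h ha, chiQ_eq h hb, chiQ_eq h (ha.mul hb)]
  push_cast
  ring

theorem chiQ_one (h : GQ Q c v z n) : chiQ n Q 1 = 1 := by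
  apply Units.ext
  rw [chiQ_eq h Act.one]
  simp

theorem chiQ_pow (h : GQ Q c v z n) {g : G} (hg : g ∈ normalizer (Q : Set G)) (k : ℕ) :
    chiQ n Q (g ^ k) = chiQ n Q g ^ k := by
  induction k with
  | zero => simp [chiQ_one h]
  | succ k ih => rw [pow_succ, pow_succ, chiQ_mul h (pow_mem hg k) hg, ih]

theorem _root_.Cfsg.Agent.Cit.OneChi.gq_cj (h : GQ Q c v z n) (g : G) :
    GQ (cj g Q) (g * c * g⁻¹) (g * v * g⁻¹) (g * z * g⁻¹) n := by
  refine ⟨conj_mem_cj h.c_mem, conj_mem_cj h.v_mem, ?_, ?_, ?_, ?_, ?_⟩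
  · rw [← h.ord]; exact (MulAut.conj g).orderOf_eq c
  · rw [conj_pow, h.z_eq]
  · rw [← h.v_sq]; group
  · have h1 := h.conj
    calc g * v * g⁻¹ * (g * c * g⁻¹) * (g * v * g⁻¹)⁻¹ = g * (v * c * v⁻¹) * g⁻¹ := by group
      _ = (g * c * g⁻¹)⁻¹ := by rw [h1]; group
  · intro x hx
    rw [mem_cj] at hx
    rcases h.cov _ hx with ⟨i, hi⟩ | ⟨i, hi⟩
    · left
      refine ⟨i, ?_⟩
      rw [conj_pow, ← hi]; group
    · right
      refine ⟨i, ?_⟩
      rw [conj_pow]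
      calc x = g * (g⁻¹ * x * g) * g⁻¹ := by group
        _ = g * (v * c ^ i) * g⁻¹ := by rw [hi]
        _ = _ := by group

theorem chiQ_cj (h : GQ Q c v z n) {a : G} (ha : a ∈ normalizer (Q : Set G)) (g : G) :
    chiQ n (cj g Q) (g * a * g⁻¹) = chiQ n Q a := by
  obtain ⟨m, hm⟩ := Act.exists_act h ha
  apply Units.ext
  rw [chiQ_eq h hm, chiQ_eq (gq_cj h g) (hm.cj g)]

theorem chiQ_eq_one (h : GQ Q c v z n) {g : G} (hg : g ∈ normalizer (Q : Set G))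
    (hc : g * c * g⁻¹ = c ∨ g * c * g⁻¹ = c⁻¹) : chiQ n Q g = 1 := by
  apply Units.ext
  rcases hc with hc | hc
  · rw [chiQ_eq h (Act.of_conj h hg (a := 1) (by rw [hc, zpow_one]))]
    simp
  · rw [chiQ_eq h (Act.of_conj h hg (a := -1) (by rw [hc, zpow_neg, zpow_one]))]
    simp

/-- `chiQ` is trivial on `Q` -/
theorem chiQ_of_mem (h : GQ Q c v z n) {q : G} (hq : q ∈ Q) : chiQ n Q q = 1 := by
  apply chiQ_eq_one h (le_normalizer hq)
  rcases h.cov q hq with ⟨i, rfl⟩ | ⟨i, rfl⟩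
  · left; group
  · right
    calc v * c ^ i * c * (v * c ^ i)⁻¹ = v * c * v⁻¹ := by group
      _ = c⁻¹ := h.conj

/-- the kernel of `chiQ` -/
theorem conj_of_chiQ (h : GQ Q c v z n) {g : G} (hg : g ∈ normalizer (Q : Set G)) (hc : g * c * g⁻¹ ∈ zpowers c)
    (h1 : chiQ n Q g = 1) : g * c * g⁻¹ = c ∨ g * c * g⁻¹ = c⁻¹ := by
  obtain ⟨a, ha⟩ := hc
  have ha' : g * c * g⁻¹ = c ^ a := ha.symm
  have hA := Act.of_conj h hg ha'
  have h2 := chiQ_eq h hA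
  rw [h1, Units.val_one] at h2
  have h3 : (2 : ℤ) ^ (n + 3) ∣ a ^ 2 - 1 ^ 2 := by
    apply dvd_of_cast_sq_eq
    rw [← h2]
    simp
  rcases eq_one_or hA.odd (by simpa using h3) with h4 | h4
  · left
    rw [← h.zpow_eq_one_iff, zpow_sub, zpow_one, mul_inv_eq_one] at h4
    rw [ha', h4]
  · right
    rw [← h.zpow_eq_one_iff, zpow_add, zpow_one, mul_eq_one_iff_eq_inv] at h4
    rw [ha', h4]

end chiQ

/-! ### `ch`: elements of `N(K)` -/

section ch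

variable [Finite G] {Om : Set (Subgroup G)} {K Q : Subgroup G} {n : ℕ}

/-- the Sylow 2-subgroups of `K` are quaternion of order `2^(n+3)` -/
def Dim (K : Subgroup G) (n : ℕ) : Prop := ∃ Q c v, Syl Q K ∧ GQ Q c v (zz K) n

theorem Dim.gq (hn : Dim K n) (h : Hyp Om) (hK : K ∈ Om) (hQ : Syl Q K) : ∃ c v, GQ Q c v (zz K) n := by
  obtain ⟨Q1, c, v, hQ1, hc⟩ := hn
  obtain ⟨k, hk, hkQ⟩ := hQ1.exists_conj hQ
  have h1 := gq_cj hc k
  rw [hkQ, h.comm_zz hK (le_normalizer hk), mul_inv_cancel_right] at h1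
  exact ⟨_, _, h1⟩

theorem Dim.cj (hn : Dim K n) (h : Hyp Om) (hK : K ∈ Om) (g : G) : Dim (Cit.cj g K) n := by
  obtain ⟨Q1, c, v, hQ1, hc⟩ := hn
  refine ⟨_, g * c * g⁻¹, g * v * g⁻¹, hQ1.cj g, ?_⟩
  rw [h.zz_cj hK]
  exact gq_cj hc g

/-- `chiQ` is trivial on `N_K(Q)` -/
theorem chiQ_of_mem_K (h : Hyp Om) (hK : K ∈ Om) (hn : Dim K n) (hQ : Syl Q K) {k : G} (hk : k ∈ K)
    (hkQ : k ∈ normalizer (Q : Set G)) : chiQ n Q k = 1 := by
  obtain ⟨c, v, hc⟩ := hn.gq h hK hQ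
  set H : Subgroup G := K ⊓ normalizer (Q : Set G) with hH
  have hQH : Q ≤ H := le_inf hQ.1 le_normalizer
  have hQn : (Q.subgroupOf H).Normal := (normal_subgroupOf_iff_le_normalizer hQH).2 inf_le_right
  have h1 := Subgroup.pow_index_mem (Q.subgroupOf H) (⟨k, hk, hkQ⟩ : H)
  have h2 : ¬ 2 ∣ (Q.subgroupOf H).index := (syl_of_le hQ hQH inf_le_left).2.2
  have h3 : Odd (Q.subgroupOf H).index := by
    rw [← Nat.not_even_iff_odd, even_iff_two_dvd]; exact h2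
  refine eq_one_of_odd_pow h3 ?_
  rw [← chiQ_pow hc hkQ]
  exact chiQ_of_mem hc h1

/-- Frattini: every element of `N(K)` is congruent mod `K` to an element of `N(Q)` -/
theorem exists_norm (hQ : Syl Q K) {a : G} (ha : a ∈ normalizer (K : Set G)) :
    ∃ k ∈ K, k * a ∈ normalizer (Q : Set G) := by
  have h1 : Syl (cj a Q) K := by
    have := hQ.cj a
    rwa [mem_normalizer_iff_cj.1 ha] at this
  obtain ⟨k, hk, hkQ⟩ := h1.exists_conj hQ
  exact ⟨k, hk, by rw [mem_normalizer_iff_cj, cj_mul, hkQ]⟩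

/-- independence of the choices -/
theorem chiQ_unique (h : Hyp Om) (hK : K ∈ Om) (hn : Dim K n) (hQ : Syl Q K) {Q1 : Subgroup G} (hQ1 : Syl Q1 K)
    {a k k1 : G} (ha : a ∈ normalizer (K : Set G)) (hk : k ∈ K) (hk1 : k1 ∈ K)
    (hka : k * a ∈ normalizer (Q : Set G)) (hka1 : k1 * a ∈ normalizer (Q1 : Set G)) :
    chiQ n Q (k * a) = chiQ n Q1 (k1 * a) := by
  obtain ⟨c, v, hc⟩ := hn.gq h hK hQ
  obtain ⟨l, hl, hlQ⟩ := hQ.exists_conj hQ1
  obtain ⟨b, hb⟩ : ∃ b, b = l⁻¹ * (k1 * a) * l := ⟨_, rfl⟩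
  have hbk : k1 * a = l * b * l⁻¹ := by rw [hb]; group
  have hbQ : b ∈ normalizer (Q : Set G) := by
    rw [mem_normalizer_iff_cj, hb]
    have : l⁻¹ * (k1 * a) * l = l⁻¹ * ((k1 * a) * l) := by group
    rw [this, cj_mul, cj_mul, hlQ, mem_normalizer_iff_cj.1 hka1, ← hlQ, cj_inv_cj]
  have h1 : chiQ n Q1 (k1 * a) = chiQ n Q b := by
    rw [← hlQ, hbk, chiQ_cj hc hbQ]
  rw [h1]
  obtain ⟨m, hm⟩ : ∃ m, m = b * (k * a)⁻¹ := ⟨_, rfl⟩
  have hmb : b = m * (k * a) := by rw [hm]; group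
  have hmQ : m ∈ normalizer (Q : Set G) := by rw [hm]; exact mul_mem hbQ (inv_mem hka)
  have hmK : m ∈ K := by
    have h2 : m = l⁻¹ * k1 * (a * l * a⁻¹) * k⁻¹ := by rw [hm, hb]; group
    rw [h2]
    refine K.mul_mem (K.mul_mem (K.mul_mem (K.inv_mem hl) hk1) ?_) (K.inv_mem hk)
    exact (mem_normalizer_iff.1 ha l).1 hl
  rw [hmb, chiQ_mul hc hmQ hka, chiQ_of_mem_K h hK hn hQ hmK hmQ, one_mul]

open Classical in
/-- **the field homomorphism** on `N(K)` -/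
noncomputable def ch (n : ℕ) (K : Subgroup G) (a : G) : UU n :=
  if h : ∃ Q : Subgroup G, Syl Q K ∧ ∃ k ∈ K, k * a ∈ normalizer (Q : Set G) then
    chiQ n h.choose (h.choose_spec.2.choose * a) else 1

theorem ch_eq_chiQ (h : Hyp Om) (hK : K ∈ Om) (hn : Dim K n) (hQ : Syl Q K) {a k : G}
    (ha : a ∈ normalizer (K : Set G)) (hk : k ∈ K) (hka : k * a ∈ normalizer (Q : Set G)) :
    ch n K a = chiQ n Q (k * a) := by
  have h1 : ∃ Q : Subgroup G, Syl Q K ∧ ∃ k ∈ K, k * a ∈ normalizer (Q : Set G) := ⟨Q, hQ, k, hk, hka⟩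
  rw [ch, dif_pos h1]
  exact chiQ_unique h hK hn h1.choose_spec.1 hQ ha h1.choose_spec.2.choose_spec.1 hk
    h1.choose_spec.2.choose_spec.2 hka

theorem ch_eq_chiQ' (h : Hyp Om) (hK : K ∈ Om) (hn : Dim K n) (hQ : Syl Q K) {a : G}
    (ha : a ∈ normalizer (K : Set G)) (haQ : a ∈ normalizer (Q : Set G)) : ch n K a = chiQ n Q a := by
  have h1 := ch_eq_chiQ h hK hn hQ ha K.one_mem (by rwa [one_mul])
  rwa [one_mul] at h1

/-- `ch n K` is multiplicative on `N(K)` -/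
theorem ch_mul (h : Hyp Om) (hK : K ∈ Om) (hn : Dim K n) {a b : G} (ha : a ∈ normalizer (K : Set G))
    (hb : b ∈ normalizer (K : Set G)) : ch n K (a * b) = ch n K a * ch n K b := by
  obtain ⟨Q, hQ⟩ := Hyp.exists_syl K
  obtain ⟨c, v, hc⟩ := hn.gq h hK hQ
  obtain ⟨k, hk, hka⟩ := exists_norm hQ ha
  obtain ⟨l, hl, hlb⟩ := exists_norm hQ hb
  have h1 : (k * (a * l * a⁻¹)) * (a * b) = (k * a) * (l * b) := by group
  have h2 : k * (a * l * a⁻¹) ∈ K := K.mul_mem hk ((mem_normalizer_iff.1 ha l).1 hl)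
  rw [ch_eq_chiQ h hK hn hQ ha hk hka, ch_eq_chiQ h hK hn hQ hb hl hlb,
    ch_eq_chiQ h hK hn hQ (mul_mem ha hb) h2 (by rw [h1]; exact mul_mem hka hlb), h1, chiQ_mul hc hka hlb]

theorem ch_of_mem (h : Hyp Om) (hK : K ∈ Om) (hn : Dim K n) {k : G} (hk : k ∈ K) : ch n K k = 1 := by
  obtain ⟨Q, hQ⟩ := Hyp.exists_syl K
  obtain ⟨c, v, hc⟩ := hn.gq h hK hQ
  have h1 := ch_eq_chiQ h hK hn hQ (a := k) (k := k⁻¹) (le_normalizer hk) (K.inv_mem hk)
    (by rw [inv_mul_cancel]; exact one_mem _)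
  rw [h1, inv_mul_cancel, chiQ_one hc]

theorem ch_cj (h : Hyp Om) (hK : K ∈ Om) (hn : Dim K n) {a : G} (ha : a ∈ normalizer (K : Set G)) (g : G) :
    ch n (cj g K) (g * a * g⁻¹) = ch n K a := by
  obtain ⟨Q, hQ⟩ := Hyp.exists_syl K
  obtain ⟨c, v, hc⟩ := hn.gq h hK hQ
  obtain ⟨k, hk, hka⟩ := exists_norm hQ ha
  have h1 : (g * k * g⁻¹) * (g * a * g⁻¹) = g * (k * a) * g⁻¹ := by group
  have ha' : g * a * g⁻¹ ∈ normalizer (cj g K : Set G) := by
    rw [mem_normalizer_iff_cj, ← cj_mul]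
    have : g * a * g⁻¹ * g = g * a := by group
    rw [this, cj_mul, mem_normalizer_iff_cj.1 ha]
  have hka' : g * (k * a) * g⁻¹ ∈ normalizer (cj g Q : Set G) := by
    rw [mem_normalizer_iff_cj, ← cj_mul]
    have : g * (k * a) * g⁻¹ * g = g * (k * a) := by group
    rw [this, cj_mul, mem_normalizer_iff_cj.1 hka]
  rw [ch_eq_chiQ h hK hn hQ ha hk hka,
    ch_eq_chiQ h (h.conj K hK g) (hn.cj h hK g) (hQ.cj g) ha' (conj_mem_cj hk) (by rw [h1]; exact hka'), h1,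
    chiQ_cj hc hka]

end ch

/-! ### Pairs -/

section pair

variable [Finite G] {Om : Set (Subgroup G)} {K L T Q Q' : Subgroup G} {x y x' y' : G} {n : ℕ}

theorem dim_left (c : OPair.Co Om K L T Q Q' x y x' y' n) : Dim K n := ⟨Q, x, y, c.pair.hQ, c.gq⟩

/-- type `SD`: `t` inverts `x` -/
theorem t_inv (c : OPair.Co Om K L T Q Q' x y x' y' n) (h : One Om)
    (hS : ∀ u ∈ Q, u * zz L = zz L * u → u = 1 ∨ u = zz K) : zz L * x * (zz L)⁻¹ = x⁻¹ := by
  obtain ⟨t, ht⟩ : ∃ t, t = zz L := ⟨_, rfl⟩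
  have ht2 : t * t = 1 := by rw [ht]; exact h.hyp.zz_mul c.pair.hL
  have htT : t ∈ T := by rw [ht]; exact c.pair.zL_mem h
  obtain ⟨a, ha⟩ := c.exp htT
  obtain ⟨j, hj⟩ := c.conj_y htT
  have htw := c.t_w h hS
  rw [← ht] at htw hS ⊢
  have hA := Act.of_conj c.gq (c.pair.hTQ htT) ha
  -- `a^2 = 1`
  have h1 : (2 : ℤ) ^ (n + 2) ∣ a * a - 1 := by
    rw [← c.gq.zpow_eq_one_iff, zpow_sub, zpow_one, mul_inv_eq_one]
    have e1 : t * (t * x ^ (1 : ℤ) * t⁻¹) * t⁻¹ = x := by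
      calc t * (t * x ^ (1 : ℤ) * t⁻¹) * t⁻¹ = (t * t) * x * (t * t)⁻¹ := by group
        _ = x := by rw [ht2]; group
    rw [conj_zpow_pow ha, conj_zpow_pow ha, mul_one] at e1
    exact e1
  -- `j (1 + a) = 0`
  have h2 : (2 : ℤ) ^ (n + 2) ∣ j + a * j := by
    rw [← c.gq.zpow_eq_one_iff]
    have e1 : t * (t * y * t⁻¹) * t⁻¹ = y := by
      calc t * (t * y * t⁻¹) * t⁻¹ = (t * t) * y * (t * t)⁻¹ := by group
        _ = y := by rw [ht2]; group
    have e2 : t * (t * y * t⁻¹) * t⁻¹ = y * (x ^ (j + a * j)) := by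
      calc t * (t * y * t⁻¹) * t⁻¹ = t * (y * x ^ j) * t⁻¹ := by rw [hj]
        _ = (t * y * t⁻¹) * (t * x ^ j * t⁻¹) := by group
        _ = y * (x ^ (j + a * j)) := by rw [hj, conj_zpow_pow ha, mul_assoc, ← zpow_add]
    rw [e1] at e2
    exact left_eq_mul.1 e2
  -- `a = 3` modulo `4`
  have h3 : (4 : ℤ) ∣ a - 3 := by
    have e1 : x ^ (a * (2 : ℤ) ^ n) = x ^ ((2 : ℤ) ^ n) * x ^ ((2 : ℤ) ^ (n + 1)) := by
      have e2 : x ^ ((2 : ℤ) ^ n) = x ^ 2 ^ n := by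
        rw [← zpow_natCast x (2 ^ n)]
        push_cast
        rfl
      rw [← conj_zpow_pow ha, e2, c.gq.z_zpow]
      exact htw
    rw [← zpow_add] at e1
    have e3 : x ^ (a * (2 : ℤ) ^ n - ((2 : ℤ) ^ n + (2 : ℤ) ^ (n + 1))) = 1 := by
      rw [zpow_sub, e1, mul_inv_cancel]
    rw [c.gq.zpow_eq_one_iff] at e3
    have e4 : a * (2 : ℤ) ^ n - ((2 : ℤ) ^ n + (2 : ℤ) ^ (n + 1)) = (2 : ℤ) ^ n * (a - 3) := by ring
    have e5 : (2 : ℤ) ^ (n + 2) = (2 : ℤ) ^ n * 4 := by ring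
    rw [e4, e5] at e3
    exact (mul_dvd_mul_iff_left (by positivity)).1 e3
  obtain ⟨b, hb⟩ : ∃ b, a - 3 = 4 * b := h3
  have hab : a = 4 * b + 3 := by linarith
  -- `2^(n+1)` divides `a + 1`
  have h4 : (2 : ℤ) ^ (n + 1) ∣ a + 1 := by
    have e1 : a * a - 1 = 2 * ((a + 1) * (2 * b + 1)) := by rw [hab]; ring
    rw [e1, pow_succ'] at h1
    have e2 := (mul_dvd_mul_iff_left (by norm_num : (2 : ℤ) ≠ 0)).1 h1
    have e3 : IsCoprime ((2 : ℤ) ^ (n + 1)) (2 * b + 1) := by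
      apply IsCoprime.pow_left
      exact ⟨-b, 1, by ring⟩
    exact e3.dvd_of_dvd_mul_right e2
  obtain ⟨e, he⟩ := h4
  rcases Int.even_or_odd e with hev | hod
  · obtain ⟨f, hf⟩ := hev
    rw [ha]
    have e1 : x ^ (a + 1) = 1 := by
      rw [c.gq.zpow_eq_one_iff, he, hf]
      exact ⟨f, by ring⟩
    rw [zpow_add, zpow_one, mul_eq_one_iff_eq_inv] at e1
    exact e1
  · exfalso
    -- `j` is even
    have h5 : (2 : ℤ) ∣ j := by
      have e1 : j + a * j = (2 : ℤ) ^ (n + 1) * (e * j) := by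
        have : j + a * j = (a + 1) * j := by ring
        rw [this, he]; ring
      have e2 : (2 : ℤ) ^ (n + 2) = (2 : ℤ) ^ (n + 1) * 2 := by ring
      rw [e1, e2] at h2
      have e3 := (mul_dvd_mul_iff_left (by positivity)).1 h2
      have e4 : IsCoprime (2 : ℤ) e := by
        obtain ⟨m, rfl⟩ := hod
        exact ⟨-m, 1, by ring⟩
      exact e4.dvd_of_dvd_mul_left e3
    obtain ⟨j', hj'⟩ := h5
    -- solve `(2b+1) i = -j'`
    obtain ⟨r, s, hrs⟩ : IsCoprime (2 * b + 1) ((2 : ℤ) ^ (n + 1)) := by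
      apply IsCoprime.pow_right
      exact ⟨1, -b, by ring⟩
    obtain ⟨i, hi⟩ : ∃ i : ℤ, i = -(r * j') := ⟨_, rfl⟩
    have h6 : x ^ (j + (a - 1) * i) = 1 := by
      rw [c.gq.zpow_eq_one_iff]
      refine ⟨s * j', ?_⟩
      rw [hab, hi, hj']
      linear_combination (-(2 : ℤ) * j') * hrs
    have h7 : t * (y * x ^ i) * t⁻¹ = y * x ^ i := by
      calc t * (y * x ^ i) * t⁻¹ = (t * y * t⁻¹) * (t * x ^ i * t⁻¹) := by group
        _ = y * (x ^ j * x ^ (a * i)) := by rw [hj, conj_zpow_pow ha, mul_assoc]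
        _ = y * (x ^ (j + (a - 1) * i) * x ^ i) := by
            rw [← zpow_add, ← zpow_add]
            congr 2
            ring
        _ = y * x ^ i := by rw [h6, one_mul]
    have h8 := hS (y * x ^ i) (Q.mul_mem c.gq.v_mem (Q.zpow_mem c.gq.c_mem i)) (by
      rw [mul_inv_eq_iff_eq_mul] at h7
      exact h7.symm)
    apply c.gq.vc_not_mem i
    rcases h8 with h8 | h8
    · rw [h8]; exact one_mem _
    · rw [h8, ← c.gq.z_eq]; exact pow_mem (mem_zpowers x) _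

/-- `ch n K` is trivial on `C_Q'(z)` -/
theorem ch_pair (c : OPair.Co Om K L T Q Q' x y x' y' n) (h : One Om) {u : G} (hu : u ∈ Q') (huT : u ∈ T) :
    ch n K u = 1 := by
  have p := c.pair
  rw [ch_eq_chiQ' h.hyp p.hK (dim_left c) p.hQ (p.tK huT) (p.hTQ huT)]
  rcases c.dich h with ⟨h1, h2⟩ | ⟨h1, h2⟩
  · apply chiQ_eq_one c.gq (p.hTQ huT)
    left
    have h3 : x ∈ T := p.mem_T h c.gq.c_mem h2.symm
    have h4 := p.commute_R h c.gq.c_mem h3 hu huT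
    rw [← h4, mul_inv_cancel_right]
  · rcases h2 u hu (p.tz h huT) with rfl | rfl
    · exact chiQ_one c.gq
    · apply chiQ_eq_one c.gq (p.hTQ huT)
      right
      exact t_inv c h h1

/-- compatibility on a Sylow 2-subgroup of `C(z) ∩ C(t)` -/
theorem ch_agree_T (c : OPair.Co Om K L T Q Q' x y x' y' n) (h : One Om) {u : G} (hu : u ∈ T) :
    ch n K u = ch n L u := by
  have p := c.pair
  obtain ⟨q, hq, hqt⟩ := p.exists_swap h
  obtain ⟨q', hq', hqz⟩ := p.symm.exists_swap h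
  obtain ⟨z, hz⟩ : ∃ z, z = zz K := ⟨_, rfl⟩
  obtain ⟨t, ht⟩ : ∃ t, t = zz L := ⟨_, rfl⟩
  have hzz : z * z = 1 := by rw [hz]; exact h.hyp.zz_mul p.hK
  have hqK : q * z = z * q := by rw [hz]; exact h.hyp.comm_zz p.hK (le_normalizer (p.hQ.1 hq))
  have hqL : q' * t = t * q' := by rw [ht]; exact h.hyp.comm_zz p.hL (le_normalizer (p.hQ'.1 hq'))
  have huz : u * z = z * u := by rw [hz]; exact p.tz h hu
  have hut : u * t = t * u := by rw [ht]; exact p.tt h hu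
  have hcom : z * t = t * z := by rw [hz, ht]; exact p.comm
  rw [← hz, ← ht] at hqt hqz
  -- `g = q q'` maps `z` to `t`
  have hg : (q * q') * z * (q * q')⁻¹ = t := by
    calc (q * q') * z * (q * q')⁻¹ = q * (q' * z * q'⁻¹) * q⁻¹ := by group
      _ = q * (z * t) * q⁻¹ := by rw [hqz, hcom]
      _ = (q * z) * t * q⁻¹ := by group
      _ = z * (q * t * q⁻¹) := by rw [hqK]; group
      _ = z * z * t := by rw [hqt]; group
      _ = t := by rw [hzz, one_mul]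
  have hgK : cj (q * q') K = L := h.cj_eq p.hK p.hL (by rw [← hz, ← ht]; exact hg)
  -- `u1 = q⁻¹ u q = u r`
  obtain ⟨u1, hu1⟩ : ∃ u1, u1 = q⁻¹ * u * q := ⟨_, rfl⟩
  obtain ⟨r, hr⟩ : ∃ r, r = u⁻¹ * u1 := ⟨_, rfl⟩
  have hrQ : r ∈ Q := by
    have h1 : r = (u⁻¹ * q⁻¹ * u) * q := by rw [hr, hu1]; group
    rw [h1]
    exact Q.mul_mem (conj_mem_of' (p.hTQ hu) (Q.inv_mem hq)) hq
  have hu1t : u1 * t = t * u1 := by
    have e1 : q * t = z * t * q := by rw [← hqt]; group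
    calc u1 * t = q⁻¹ * u * (q * t) := by rw [hu1]; group
      _ = q⁻¹ * (u * z) * t * q := by rw [e1]; group
      _ = q⁻¹ * z * (u * t) * q := by rw [huz]; group
      _ = q⁻¹ * (z * t * q) * (q⁻¹ * u * q) := by rw [hut]; group
      _ = t * u1 := by rw [← e1, hu1]; group
  have hrt : r * t = t * r := by
    have e1 : u⁻¹ * t = t * u⁻¹ := ((show Commute u t from hut).inv_left).eq
    rw [hr]
    calc u⁻¹ * u1 * t = u⁻¹ * (u1 * t) := by group
      _ = (u⁻¹ * t) * u1 := by rw [hu1t]; group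
      _ = t * (u⁻¹ * u1) := by rw [e1]; group
  have hrT : r ∈ T := p.mem_T h hrQ (by rw [← ht]; exact hrt)
  have hu1T : u1 ∈ T := by
    have h1 : u1 = u * r := by rw [hr]; group
    rw [h1]; exact T.mul_mem hu hrT
  have hc1 : ch n K u1 = ch n K u := by
    have h1 : u1 = u * r := by rw [hr]; group
    rw [h1, ch_mul h.hyp p.hK (dim_left c) (p.tK hu) (p.tK hrT),
      ch_of_mem h.hyp p.hK (dim_left c) (p.hQ.1 hrQ), mul_one]
  -- `u2 = q'⁻¹ u1 q' = u1 r'`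
  obtain ⟨u2, hu2⟩ : ∃ u2, u2 = q'⁻¹ * u1 * q' := ⟨_, rfl⟩
  obtain ⟨r', hr'⟩ : ∃ r', r' = u1⁻¹ * u2 := ⟨_, rfl⟩
  have hrQ' : r' ∈ Q' := by
    have h1 : r' = (u1⁻¹ * q'⁻¹ * u1) * q' := by rw [hr', hu2]; group
    rw [h1]
    exact Q'.mul_mem (conj_mem_of' (p.hTQ' hu1T) (Q'.inv_mem hq')) hq'
  have hu1z : u1 * z = z * u1 := by rw [hz]; exact p.tz h hu1T
  have hu2z : u2 * z = z * u2 := by
    have e1 : q' * z = t * z * q' := by rw [← hqz]; group
    calc u2 * z = q'⁻¹ * u1 * (q' * z) := by rw [hu2]; group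
      _ = q'⁻¹ * (u1 * t) * z * q' := by rw [e1]; group
      _ = q'⁻¹ * t * (u1 * z) * q' := by rw [hu1t]; group
      _ = q'⁻¹ * (t * z * q') * (q'⁻¹ * u1 * q') := by rw [hu1z]; group
      _ = z * u2 := by rw [← e1, hu2]; group
  have hrz' : r' * z = z * r' := by
    have e1 : u1⁻¹ * z = z * u1⁻¹ := ((show Commute u1 z from hu1z).inv_left).eq
    rw [hr']
    calc u1⁻¹ * u2 * z = u1⁻¹ * (u2 * z) := by group
      _ = (u1⁻¹ * z) * u2 := by rw [hu2z]; group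
      _ = z * (u1⁻¹ * u2) := by rw [e1]; group
  have hrT' : r' ∈ T := p.symm.mem_T h hrQ' (by rw [← hz]; exact hrz')
  have hu2T : u2 ∈ T := by
    have h1 : u2 = u1 * r' := by rw [hr']; group
    rw [h1]; exact T.mul_mem hu1T hrT'
  have hc2 : ch n K u2 = ch n K u1 := by
    have h1 : u2 = u1 * r' := by rw [hr']; group
    rw [h1, ch_mul h.hyp p.hK (dim_left c) (p.tK hu1T) (p.tK hrT'), ch_pair c h hrQ' hrT', mul_one]
  have hgu : (q * q') * u2 * (q * q')⁻¹ = u := by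
    rw [hu2, hu1]; group
  have hc3 := ch_cj h.hyp p.hK (dim_left c) (p.tK hu2T) (q * q')
  rw [hgK, hgu] at hc3
  rw [hc3, hc2, hc1]

end pair

/-! ### The compatible family -/

section Psi

variable [Finite G] {Om : Set (Subgroup G)} {K L : Subgroup G} {n : ℕ}

theorem Dim.unique (h : Hyp Om) (hK : K ∈ Om) {m : ℕ} (hn : Dim K n) (hm : Dim K m) : n = m := by
  obtain ⟨Q, hQ⟩ := Hyp.exists_syl K
  obtain ⟨c, v, hc⟩ := hn.gq h hK hQ
  obtain ⟨c', v', hc'⟩ := hm.gq h hK hQ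
  have h1 := hc.card
  rw [hc'.card] at h1
  have := Nat.pow_right_injective (le_refl 2) h1
  omega

theorem exists_dim (h : Hyp Om) (hK : K ∈ Om) : ∃ n, Dim K n := by
  obtain ⟨Q, hQ⟩ := Hyp.exists_syl K
  obtain ⟨c, v, n, hc⟩ := h.exists_gq hK hQ
  exact ⟨n, Q, c, v, hQ, hc⟩

theorem dim_all (h : One Om) (hK : K ∈ Om) (hn : Dim K n) (hL : L ∈ Om) : Dim L n := by
  obtain ⟨g, rfl⟩ := h.exists_cj_eq hK hL
  exact hn.cj h.hyp hK g

theorem ch_pow (h : Hyp Om) (hK : K ∈ Om) (hn : Dim K n) {a : G} (ha : a ∈ normalizer (K : Set G)) (k : ℕ) :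
    ch n K (a ^ k) = ch n K a ^ k := by
  induction k with
  | zero => simp [ch_of_mem h hK hn K.one_mem]
  | succ k ih => rw [pow_succ, pow_succ, ch_mul h hK hn (pow_mem ha k) ha, ih]

theorem ch_inv (h : Hyp Om) (hK : K ∈ Om) (hn : Dim K n) {a : G} (ha : a ∈ normalizer (K : Set G)) :
    ch n K a⁻¹ = (ch n K a)⁻¹ := by
  have h1 := ch_mul h hK hn (inv_mem ha) ha
  rw [inv_mul_cancel, ch_of_mem h hK hn K.one_mem] at h1
  exact eq_inv_of_mul_eq_one_left h1.symm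

/-- compatibility for 2-elements -/
theorem ch_agree_two (h : One Om) (hK : K ∈ Om) (hn : Dim K n) (hL : L ∈ Om)
    (hc : zz K * zz L = zz L * zz K) {u : G} (hu2 : IsPGroup 2 (zpowers u))
    (huK : u ∈ normalizer (K : Set G)) (huL : u ∈ normalizer (L : Set G)) : ch n K u = ch n L u := by
  by_cases hKL : K = L
  · rw [hKL]
  · obtain ⟨T, Q, Q', huT, p⟩ := h.exists_pair hK hL hKL hc hu2 (zpowers_le.2 huK) (zpowers_le.2 huL)
    obtain ⟨x, y, x', y', m, c⟩ := p.exists_co h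
    obtain rfl := Dim.unique h.hyp hK hn (dim_left c)
    exact ch_agree_T c h (huT (mem_zpowers u))

/-- compatibility -/
theorem ch_agree (h : One Om) (hK : K ∈ Om) (hn : Dim K n) (hL : L ∈ Om)
    (hc : zz K * zz L = zz L * zz K) {u : G}
    (huK : u ∈ normalizer (K : Set G)) (huL : u ∈ normalizer (L : Set G)) : ch n K u = ch n L u := by
  have hnL := dim_all h hK hn hL
  obtain ⟨k, l, hl, hkl⟩ := Nat.exists_eq_pow_mul_and_not_dvd (orderOf_pos u).ne' 2 (by norm_num)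
  have hlo : Odd l := by
    rw [← Nat.not_even_iff_odd, even_iff_two_dvd]; exact hl
  have h2 : IsPGroup 2 (zpowers (u ^ l)) := by
    refine IsPGroup.of_card (n := k) ?_
    rw [Nat.card_zpowers, orderOf_pow' u hlo.pos.ne', hkl, Nat.gcd_mul_left_left,
      Nat.mul_div_cancel _ hlo.pos]
  have h3 := ch_agree_two h hK hn hL hc h2 (pow_mem huK l) (pow_mem huL l)
  rw [ch_pow h.hyp hK hn huK, ch_pow h.hyp hL hnL huL] at h3
  have h4 : (ch n K u * (ch n L u)⁻¹) ^ l = 1 := by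
    rw [mul_pow, h3, ← mul_pow, mul_inv_cancel, one_pow]
  exact mul_inv_eq_one.1 (eq_one_of_odd_pow hlo h4)

/-- the classical involutions -/
def DD (Om : Set (Subgroup G)) : Set G := {z | ∃ K ∈ Om, z = zz K}

open Classical in
/-- the value at `z` -/
noncomputable def psi (Om : Set (Subgroup G)) (n : ℕ) (z a : G) : UU n :=
  if hz : ∃ K ∈ Om, z = zz K then ch n hz.choose a else 1

theorem psi_zz (h : One Om) (hK : K ∈ Om) (a : G) : psi Om n (zz K) a = ch n K a := by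
  have h1 : ∃ K' ∈ Om, zz K = zz K' := ⟨K, hK, rfl⟩
  rw [psi, dif_pos h1]
  rw [← h.eq_of_zz_eq hK h1.choose_spec.1 h1.choose_spec.2]

/-- **the field homomorphisms form a compatible family** -/
noncomputable def fieldPsi (h : One Om) (hK : K ∈ Om) (hn : Dim K n) : OneField.Psi (DD Om) (UU n) where
  psi := psi Om n
  mul := by
    rintro z ⟨L, hL, rfl⟩ a b ha hb
    rw [psi_zz h hL, psi_zz h hL, psi_zz h hL]
    exact ch_mul h.hyp hL (dim_all h hK hn hL) (h.mem_normalizer hL ha) (h.mem_normalizer hL hb)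
  conj := by
    rintro z ⟨L, hL, rfl⟩ g a ha
    rw [← h.hyp.zz_cj hL, psi_zz h (h.hyp.conj L hL g), psi_zz h hL]
    exact ch_cj h.hyp hL (dim_all h hK hn hL) (h.mem_normalizer hL ha) g
  agree := by
    rintro z ⟨L, hL, rfl⟩ w ⟨M, hM, rfl⟩ hzw a ha hb
    rw [psi_zz h hL, psi_zz h hM]
    exact ch_agree h hL (dim_all h hK hn hL) hM hzw (h.mem_normalizer hL ha) (h.mem_normalizer hM hb)

theorem fieldPsi_psi (h : One Om) (hK : K ∈ Om) (hn : Dim K n) (hL : L ∈ Om) (a : G) :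
    (fieldPsi h hK hn).psi (zz L) a = ch n L a := psi_zz h hL a

theorem DD_conj (h : Hyp Om) : ∀ z ∈ DD Om, ∀ g, g * z * g⁻¹ ∈ DD Om := by
  rintro z ⟨K, hK, rfl⟩ g
  exact ⟨cj g K, h.conj K hK g, (h.zz_cj hK g).symm⟩

theorem DD_two (h : Hyp Om) : ∀ z ∈ DD Om, IsPGroup 2 (zpowers z) := by
  rintro z ⟨K, hK, rfl⟩
  refine IsPGroup.of_card (n := 1) ?_
  rw [Nat.card_zpowers, h.orderOf_zz hK, pow_one]

end Psi

/-! ### The action of the Sylow 2-subgroup -/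

section main

variable [Finite G] {Om : Set (Subgroup G)} {K S : Subgroup G} {n : ℕ}

/-- the field homomorphism is trivial on 2-elements -/
theorem ch_eq_one (h : One Om) (hK : K ∈ Om) (hn : Dim K n)
    (hG : ∀ N : Subgroup G, N.Normal → ∀ k, N.index = 2 ^ k → k = 0) {a : G} (ha : IsPGroup 2 (zpowers a))
    (haK : a ∈ normalizer (K : Set G)) : ch n K a = 1 := by
  -- a Sylow 2-subgroup of `G` containing a Sylow 2-subgroup of `K`
  obtain ⟨Q, hQ⟩ := Hyp.exists_syl K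
  obtain ⟨S, hS, hQS⟩ := exists_syl_ge hQ.2.1 (le_top : Q ≤ ⊤)
  have hSK : S ≤ centralizer {zz K} := by
    rw [h.centralizer_zz hK]
    exact h.le_normalizer_self hS.2.1 (mem_OmS_of_le hK hQ hQS)
  have hz : zz K ∈ DD Om := ⟨K, hK, rfl⟩
  have h1 := (fieldPsi h hK hn).eq_one' (DD_conj h.hyp) (DD_two h.hyp) hS hz hSK hG hz ha
    (h.hyp.comm_zz hK haK)
  rwa [fieldPsi_psi h hK hn hK] at h1

/-- a 2-group normalising `K`, a Sylow 2-subgroup `Q` of `K` and the cyclic maximal subgroup `⟨x⟩` of `Q`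
acts on it by `x ↦ x^{±1}` -/
theorem conj_x (h : One Om) (hK : K ∈ Om) (hG : ∀ N : Subgroup G, N.Normal → ∀ k, N.index = 2 ^ k → k = 0)
    {Q : Subgroup G} (hQ : Syl Q K) {x y : G} (hc : GQ Q x y (zz K) n) {s : G} (hs : IsPGroup 2 (zpowers s))
    (hsK : s ∈ normalizer (K : Set G)) (hsQ : s ∈ normalizer (Q : Set G)) (hx : s * x * s⁻¹ ∈ zpowers x) :
    s * x * s⁻¹ = x ∨ s * x * s⁻¹ = x⁻¹ := by
  have hn : Dim K n := ⟨Q, x, y, hQ, hc⟩
  apply conj_of_chiQ hc hsQ hx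
  rw [← ch_eq_chiQ' h.hyp hK hn hQ hsK hsQ]
  exact ch_eq_one h hK hn hG hs hsK

/-- **coordinates for `Q = K ∩ S` with `s x s⁻¹ = x^{±1}` for all `s ∈ S`** -/
theorem exists_coord (h : One Om) (hS : IsPGroup 2 S) (hK : K ∈ OmS Om S)
    (hG : ∀ N : Subgroup G, N.Normal → ∀ k, N.index = 2 ^ k → k = 0) :
    ∃ x y n, GQ (K ⊓ S) x y (zz K) n ∧ ∀ s ∈ S, s * x * s⁻¹ = x ∨ s * x * s⁻¹ = x⁻¹ := by
  have hQ : Syl (K ⊓ S) K := syl_inf hS hK
  have hSK : S ≤ normalizer (K : Set G) := h.le_normalizer_self hS hK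
  have hSQ : S ≤ normalizer ((K ⊓ S : Subgroup G) : Set G) := by
    intro s hs
    rw [mem_normalizer_iff_cj, cj_inf, mem_normalizer_iff_cj.1 (hSK hs),
      mem_normalizer_iff_cj.1 (le_normalizer hs)]
  obtain ⟨x, y, n, hc, hx⟩ := h.hyp.exists_gq_cyclic hK.1 hQ hS hSQ
  refine ⟨x, y, n, hc, fun s hs => ?_⟩
  exact conj_x h hK.1 hG hQ hc (hS.to_le (zpowers_le.2 hs)) (hSK hs) (hSQ hs) (hx s hs)

end main

/-! ### `|S : Q C_S(Q)| ≤ 2` -/

section index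

variable {Q : Subgroup G} {x y z : G} {n : ℕ}

theorem cent_of (hc : GQ Q x y z n) {a : G} (hx : a * x = x * a) (hy : a * y = y * a) :
    ∀ u ∈ Q, a * u = u * a := by
  intro u hu
  have h1 : Q ≤ centralizer {a} := by
    apply hc.le_of_mem (q := y)
    · exact mem_centralizer_singleton_iff.2 hx.symm
    · exact hc.v_mem
    · exact hc.v_not_mem
    · exact mem_centralizer_singleton_iff.2 hy.symm
  exact (mem_centralizer_singleton_iff.1 (h1 hu)).symm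

/-- an element with even exponent is an element of `Q` times one centralising `Q` -/
theorem exists_cent (hc : GQ Q x y z n) {s : G} (hx : s * x * s⁻¹ = x ∨ s * x * s⁻¹ = x⁻¹) {j : ℤ}
    (hy : s * y * s⁻¹ = y * x ^ (2 * j)) : ∃ q ∈ Q, ∀ u ∈ Q, (q⁻¹ * s) * u = u * (q⁻¹ * s) := by
  rcases hx with hx | hx
  · refine ⟨x ^ (-j), Q.zpow_mem hc.c_mem _, cent_of hc ?_ ?_⟩
    · rw [mul_inv_eq_iff_eq_mul] at hx
      calc (x ^ (-j))⁻¹ * s * x = (x ^ (-j))⁻¹ * (s * x) := by group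
        _ = x * ((x ^ (-j))⁻¹ * s) := by rw [hx]; group
    · have h1 := hc.conj_zpow_v (-j)
      have h2 : y * x ^ (2 * j) = x ^ (-j) * y * (x ^ (-j))⁻¹ := by
        rw [h1]
        congr 2
        ring
      rw [h2, mul_inv_eq_iff_eq_mul] at hy
      calc (x ^ (-j))⁻¹ * s * y = (x ^ (-j))⁻¹ * (s * y) := by group
        _ = y * ((x ^ (-j))⁻¹ * s) := by rw [hy]; group
  · refine ⟨y * x ^ j, Q.mul_mem hc.v_mem (Q.zpow_mem hc.c_mem _), cent_of hc ?_ ?_⟩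
    · rw [mul_inv_eq_iff_eq_mul] at hx
      have h1 : (y * x ^ j) * x = x⁻¹ * (y * x ^ j) := by
        have h2 := hc.conj
        rw [mul_inv_eq_iff_eq_mul] at h2
        calc (y * x ^ j) * x = (y * x) * x ^ j := by group
          _ = x⁻¹ * (y * x ^ j) := by rw [h2]; group
      have h3 : (y * x ^ j)⁻¹ * x⁻¹ = x * (y * x ^ j)⁻¹ := by
        calc (y * x ^ j)⁻¹ * x⁻¹ = (y * x ^ j)⁻¹ * (x⁻¹ * (y * x ^ j)) * (y * x ^ j)⁻¹ := by group
          _ = (y * x ^ j)⁻¹ * ((y * x ^ j) * x) * (y * x ^ j)⁻¹ := by rw [h1]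
          _ = x * (y * x ^ j)⁻¹ := by group
      calc (y * x ^ j)⁻¹ * s * x = (y * x ^ j)⁻¹ * (s * x) := by group
        _ = ((y * x ^ j)⁻¹ * x⁻¹) * s := by rw [hx]; group
        _ = x * ((y * x ^ j)⁻¹ * s) := by rw [h3]; group
    · -- `q y q⁻¹ = y x^(2j)` for `q = y x^j`
      have h1 : (y * x ^ j) * y * (y * x ^ j)⁻¹ = y * x ^ (2 * j) := by
        calc (y * x ^ j) * y * (y * x ^ j)⁻¹ = y * (x ^ j * y * (x ^ j)⁻¹) * y⁻¹ := by group
          _ = y * (y * x ^ (-2 * j)) * y⁻¹ := by rw [hc.conj_zpow_v]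
          _ = y * (y * x ^ (-2 * j)) * y⁻¹ := rfl
          _ = y * (x ^ (-(-2 * j)) * y) * y⁻¹ := by rw [hc.v_zpow]
          _ = y * x ^ (2 * j) := by
              have : -(-2 * j) = 2 * j := by ring
              rw [this]; group
      rw [← h1, mul_inv_eq_iff_eq_mul] at hy
      calc (y * x ^ j)⁻¹ * s * y = (y * x ^ j)⁻¹ * (s * y) := by group
        _ = y * ((y * x ^ j)⁻¹ * s) := by rw [hy]; group

/-- **`|S : Q C_S(Q)| ≤ 2`**, for elements: if `d` has odd exponent then every `s` or `d s` is in `Q C(Q)` -/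
theorem cover (hc : GQ Q x y z n) {d s : G} (hdx : d * x * d⁻¹ = x ∨ d * x * d⁻¹ = x⁻¹) {l : ℤ} (hl : Odd l)
    (hdy : d * y * d⁻¹ = y * x ^ l) (hsx : s * x * s⁻¹ = x ∨ s * x * s⁻¹ = x⁻¹) {j : ℤ}
    (hsy : s * y * s⁻¹ = y * x ^ j) :
    (∃ q ∈ Q, ∀ u ∈ Q, (q⁻¹ * s) * u = u * (q⁻¹ * s)) ∨
    ∃ q ∈ Q, ∀ u ∈ Q, (q⁻¹ * (d * s)) * u = u * (q⁻¹ * (d * s)) := by
  rcases Int.even_or_odd' j with ⟨i, hi | hi⟩
  · left
    rw [hi] at hsy
    exact exists_cent hc hsx hsy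
  · right
    obtain ⟨m, hm⟩ := hl
    have hdxz : ∃ e : ℤ, Odd e ∧ d * x * d⁻¹ = x ^ e := by
      rcases hdx with h1 | h1
      · exact ⟨1, odd_one, by rw [h1, zpow_one]⟩
      · exact ⟨-1, by decide, by rw [h1, zpow_neg, zpow_one]⟩
    obtain ⟨e, he, hde⟩ := hdxz
    have h1 : (d * s) * y * (d * s)⁻¹ = y * x ^ (l + e * j) := by
      calc (d * s) * y * (d * s)⁻¹ = d * (s * y * s⁻¹) * d⁻¹ := by group
        _ = d * (y * x ^ j) * d⁻¹ := by rw [hsy]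
        _ = (d * y * d⁻¹) * (d * x ^ j * d⁻¹) := by group
        _ = y * x ^ (l + e * j) := by rw [hdy, conj_zpow_pow hde, mul_assoc, ← zpow_add]
    obtain ⟨f, hf⟩ := he
    have h2 : l + e * j = 2 * (m + 2 * f * i + f + i + 1) := by
      rw [hm, hf, hi]; ring
    rw [h2] at h1
    apply exists_cent hc _ h1
    have h3 : (d * s) * x * (d * s)⁻¹ = d * (s * x * s⁻¹) * d⁻¹ := by group
    rw [h3]
    rcases hsx with h4 | h4
    · rw [h4]; exact hdx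
    · rw [h4]
      have h5 : d * x⁻¹ * d⁻¹ = (d * x * d⁻¹)⁻¹ := by group
      rw [h5]
      rcases hdx with h6 | h6
      · right; rw [h6]
      · left; rw [h6, inv_inv]

/-- the same without a choice of `d` -/
theorem cover_two (hc : GQ Q x y z n) {S : Subgroup G} (hQS : Q ≤ S) (hSQ : S ≤ normalizer (Q : Set G))
    (hx : ∀ s ∈ S, s * x * s⁻¹ = x ∨ s * x * s⁻¹ = x⁻¹) {s₁ s₂ : G} (h₁ : s₁ ∈ S) (h₂ : s₂ ∈ S) :
    s₁ ∈ Q ⊔ (S ⊓ centralizer (Q : Set G)) ∨ s₂ ∈ Q ⊔ (S ⊓ centralizer (Q : Set G)) ∨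
      s₁ * s₂ ∈ Q ⊔ (S ⊓ centralizer (Q : Set G)) := by
  have hact : ∀ s ∈ S, ∃ j : ℤ, s * y * s⁻¹ = y * x ^ j := by
    intro s hs
    apply hc.exists_act (hSQ hs)
    have := hx s⁻¹ (S.inv_mem hs)
    rw [inv_inv] at this
    rcases this with h1 | h1
    · rw [h1]; exact mem_zpowers x
    · rw [h1]; exact (zpowers x).inv_mem (mem_zpowers x)
  have hmem : ∀ s ∈ S, (∃ q ∈ Q, ∀ u ∈ Q, (q⁻¹ * s) * u = u * (q⁻¹ * s)) →
      s ∈ Q ⊔ (S ⊓ centralizer (Q : Set G)) := by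
    rintro s hs ⟨q, hq, hqs⟩
    have h1 : s = q * (q⁻¹ * s) := by group
    rw [h1]
    have h2 : q⁻¹ * s ∈ centralizer (Q : Set G) := by
      rw [mem_centralizer_iff]
      intro u hu
      exact (hqs u hu).symm
    exact mul_mem (mem_sup_left hq) (mem_sup_right ⟨S.mul_mem (S.inv_mem (hQS hq)) hs, h2⟩)
  obtain ⟨j, hj⟩ := hact s₁ h₁
  rcases Int.even_or_odd' j with ⟨i, hi | hi⟩
  · left
    rw [hi] at hj
    exact hmem s₁ h₁ (exists_cent hc (hx s₁ h₁) hj)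
  · right
    obtain ⟨k, hk⟩ := hact s₂ h₂
    rcases cover hc (hx s₁ h₁) ⟨i, hi⟩ hj (hx s₂ h₂) hk with h3 | h3
    · left; exact hmem s₂ h₂ h3
    · right; exact hmem _ (S.mul_mem h₁ h₂) h3

/-- **`|S : Q C_S(Q)| ≤ 2`** -/
theorem relIndex_le (hc : GQ Q x y z n) {S : Subgroup G} (hQS : Q ≤ S) (hSQ : S ≤ normalizer (Q : Set G))
    (hx : ∀ s ∈ S, s * x * s⁻¹ = x ∨ s * x * s⁻¹ = x⁻¹) :
    (Q ⊔ (S ⊓ centralizer (Q : Set G))).relIndex S = 1 ∨ (Q ⊔ (S ⊓ centralizer (Q : Set G))).relIndex S = 2 := by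
  obtain ⟨H, hH⟩ : ∃ H, H = Q ⊔ (S ⊓ centralizer (Q : Set G)) := ⟨_, rfl⟩
  have hcov : ∀ s₁ ∈ S, ∀ s₂ ∈ S, s₁ ∈ H ∨ s₂ ∈ H ∨ s₁ * s₂ ∈ H := by
    intro s₁ h₁ s₂ h₂
    rw [hH]
    exact cover_two hc hQS hSQ hx h₁ h₂
  rw [← hH]
  by_cases hSH : S ≤ H
  · left; exact relIndex_eq_one.2 hSH
  · right
    obtain ⟨d, hd, hdH⟩ := SetLike.not_le_iff_exists.1 hSH
    rw [relIndex, index_eq_two_iff]
    refine ⟨⟨d, hd⟩, ?_⟩
    rintro ⟨b, hb⟩
    simp only [mem_subgroupOf, MulMemClass.mk_mul_mk]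
    by_cases hbH : b ∈ H
    · right
      refine ⟨hbH, fun h1 => hdH ?_⟩
      have h2 := H.mul_mem (H.inv_mem hbH) h1
      rwa [inv_mul_cancel_left] at h2
    · left
      refine ⟨?_, hbH⟩
      rcases hcov b hb d hd with h1 | h1 | h1
      · exact absurd h1 hbH
      · exact absurd h1 hdH
      · exact h1

end index

end Cfsg.Agent.Cit.OneChi
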