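import Cfsg.Prelude.Def_LieTypeChar
import Cfsg.Agent.GH.QB.ModelG2
import Cfsg.Agent.TwoGenCore.IsoMEleven

/-!
# The end of `|Om(S)| = 1`: identification

A simple group with semidihedral, wreathed or `G₂`-type Sylow 2-subgroups (coordinates `TG2`) is `PSL₃(q)`, `PSU₃(q)`,
`M₁₁`, `G₂(q)`, `³D₄(q)` or `M₁₂`, if S0507, S0523, S1742 hold for this group (`Ext`).
-/

set_option autoImplicit false

namespace Cfsg.Agent.Cit.OneIdent

open Subgroup Cfsg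
open Cfsg.Agent.GH.Defs (IsL3odd IsU3odd IsG2odd IsD4odd TypeG2 SylOf)

/-- S0507, S0523, S1742 for the simple group `X` -/
structure Ext (X : Type*) [Group X] : Prop where
  h0507 : ∀ S : Sylow 2 X, IsQuasiDihedral (S : Subgroup X) →
    (∃ (F : Type) (_ : Field F) (_ : Fintype F), Fintype.card F % 4 = 3 ∧
      Nonempty (X ≃* Matrix.ProjectiveSpecialLinearGroup (Fin 3) F)) ∨
    (∃ (F : Type) (_ : Field F) (_ : Fintype F) (q : ℕ), Fintype.card F = q ^ 2 ∧ q % 4 = 1 ∧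
      Nonempty (X ≃* Cfsg.PSU 3 F q)) ∨ Cfsg.IsM11 X
  h0523 : ∀ S : Sylow 2 X, IsWreathed (S : Subgroup X) →
    (∃ (F : Type) (_ : Field F) (_ : Fintype F), Odd (Fintype.card F) ∧
      Nonempty (X ≃* Matrix.ProjectiveSpecialLinearGroup (Fin 3) F)) ∨
    (∃ (F : Type) (_ : Field F) (_ : Fintype F) (q : ℕ), Fintype.card F = q ^ 2 ∧ Odd q ∧
      Nonempty (X ≃* Cfsg.PSU 3 F q)) ∨ Cfsg.IsM11 X
  h1742 : ∀ (F : Type) [Field F] [Fintype F], Odd (Fintype.card F) → ∀ (S : Sylow 2 X)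
    (P : Sylow 2 ↥(Cfsg.Lie.chevG2.group F)),
    Nonempty (↥(S : Subgroup X) ≃* ↥(P : Subgroup ↥(Cfsg.Lie.chevG2.group F))) →
    (∃ (E : Type) (_ : Field E) (_ : Fintype E), Odd (Fintype.card E) ∧
      Nonempty (X ≃* ↥(Cfsg.Lie.chevG2.group E))) ∨
    (∃ (K : Type) (_ : Field K) (_ : Fintype K) (r : ℕ), Odd r ∧ Fintype.card K = r ^ 3 ∧
      Nonempty (X ≃* ↥(Cfsg.Lie.twistedD4 K r))) ∨ Cfsg.Spor.IsoM12 X

/-- the simple groups of the case `|Om(S)| = 1` -/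
def Concl (X : Type*) [Group X] : Prop :=
  IsL3odd X ∨ IsU3odd X ∨ Spor.IsoM11 X ∨ IsG2odd X ∨ IsD4odd X

theorem Concl.congr {X Y : Type*} [Group X] [Group Y] (e : X ≃* Y) (h : Concl X) : Concl Y := by
  rcases h with h | h | h | h | h
  · exact Or.inl (h.congr e)
  · exact Or.inr (Or.inl (h.congr e))
  · obtain ⟨f⟩ := h
    exact Or.inr (Or.inr (Or.inl ⟨e.symm.trans f⟩))
  · exact Or.inr (Or.inr (Or.inr (Or.inl (h.congr e))))
  · exact Or.inr (Or.inr (Or.inr (Or.inr (h.congr e))))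

section ident

variable {X : Type*} [Group X] [Finite X]

theorem of_quasiDihedral (ext : Ext X) (S : Sylow 2 X) (h : IsQuasiDihedral (S : Subgroup X)) : Concl X := by
  rcases ext.h0507 S h with ⟨F, i, j, h1, h2⟩ | ⟨F, i, j, q, h1, h2, h3⟩ | h1
  · exact Or.inl ⟨F, i, j, Nat.odd_iff.2 (by omega), h2⟩
  · exact Or.inr (Or.inl ⟨F, i, j, q, h1, Nat.odd_iff.2 (by omega), h3⟩)
  · exact Or.inr (Or.inr (Or.inl (TwoGenCore.IsoMEleven.isoM11 h1)))

theorem of_wreathed (ext : Ext X) (S : Sylow 2 X) (h : IsWreathed (S : Subgroup X)) : Concl X := by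
  rcases ext.h0523 S h with h1 | h1 | h1
  · exact Or.inl h1
  · exact Or.inr (Or.inl h1)
  · exact Or.inr (Or.inr (Or.inl (TwoGenCore.IsoMEleven.isoM11 h1)))

theorem of_typeG2 (ext : Ext X) (S : Sylow 2 X) (h : TypeG2 ↥(S : Subgroup X)) : Concl X ∨ Spor.IsoM12 X := by
  obtain ⟨F, i, j, hF, P, h2⟩ := h
  rcases ext.h1742 F hF S P h2 with h3 | h3 | h3
  · exact Or.inl (Or.inr (Or.inr (Or.inr (Or.inl h3))))
  · obtain ⟨K, i, j, q, h3, h4, h5⟩ := h3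
    exact Or.inl (Or.inr (Or.inr (Or.inr (Or.inr ⟨K, i, j, q, h3, h4, h5⟩))))
  · exact Or.inr h3

/-- the Sylow type determines the group -/
theorem ident (ext : Ext X) (S : Sylow 2 X)
    (h : IsQuasiDihedral (S : Subgroup X) ∨ IsWreathed (S : Subgroup X) ∨
      ∃ m v r s, SylowG2.Coord.TG2 (S : Subgroup X) m v r s) :
    Concl X ∨ (Spor.IsoM12 X ∧ ∃ m v r s, SylowG2.Coord.TG2 (S : Subgroup X) m v r s) := by
  rcases h with h | h | h
  · exact Or.inl (of_quasiDihedral ext S h)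
  · exact Or.inl (of_wreathed ext S h)
  · obtain ⟨m, v, r, s, h1⟩ := h
    rcases of_typeG2 ext S (GH.QB.typeG2_of_TG2 h1) with h2 | h2
    · exact Or.inl h2
    · exact Or.inr ⟨h2, m, v, r, s, h1⟩

end ident

/-! ### groups of Lie type of odd characteristic -/

section lie

variable {X : Type*} [Group X]

theorem exists_char {F : Type} [Field F] [Fintype F] (hF : Odd (Fintype.card F)) :
    ∃ p, p.Prime ∧ p ≠ 2 ∧ CharP F p := by
  obtain ⟨p, hp⟩ := CharP.exists F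
  haveI := hp
  have h1 : p.Prime := (CharP.char_is_prime_or_zero F p).resolve_right (CharP.char_ne_zero_of_finite F p)
  refine ⟨p, h1, ?_, hp⟩
  rintro rfl
  have h2 := FiniteField.even_card_of_char_two (F := F) ((ringChar.eq_iff (R := F)).2 hp)
  rw [Nat.odd_iff] at hF
  omega

theorem isPrimePow_of_pow {F : Type} [Field F] [Fintype F] {q k : ℕ} (hk : k ≠ 0) (h : Fintype.card F = q ^ k) :
    IsPrimePow q := by
  have h1 : IsPrimePow (Fintype.card F) := FiniteField.isPrimePow_card F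
  rw [h] at h1
  exact (isPrimePow_pow_iff hk).1 h1

/-- `IsG2D4` of `Cit/TDef.lean` -/
theorem isG2D4 (h : IsG2odd X ∨ IsD4odd X) : ∃ p, p.Prime ∧ p ≠ 2 ∧
    ∃ (F : Type) (_ : Field F) (_ : Fintype F) (_ : CharP F p),
      Nonempty (X ≃* Lie.chevG2.group F) ∨
        ∃ q : ℕ, IsPrimePow q ∧ Fintype.card F = q ^ 3 ∧ Nonempty (X ≃* Lie.twistedD4 F q) := by
  rcases h with ⟨F, i, j, h1, h2⟩ | ⟨F, i, j, q, h1, h2, h3⟩
  · obtain ⟨p, hp, hp2, hc⟩ := exists_char h1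
    exact ⟨p, hp, hp2, F, i, j, hc, Or.inl h2⟩
  · obtain ⟨p, hp, hp2, hc⟩ := exists_char (F := F) (by rw [h2]; exact h1.pow)
    exact ⟨p, hp, hp2, F, i, j, hc, Or.inr ⟨q, isPrimePow_of_pow (by norm_num) h2, h2, h3⟩⟩

/-- the groups of `Concl` are of Lie type of odd characteristic, or `M₁₁` -/
theorem Concl.lie (h : Concl X) : (∃ p, p.Prime ∧ p ≠ 2 ∧ IsLieTypeChar p X) ∨ Spor.IsoM11 X := by
  rcases h with ⟨F, i, j, h1, h2⟩ | ⟨F, i, j, q, h1, h2, h3⟩ | h | h | h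
  · obtain ⟨p, hp, hp2, hc⟩ := exists_char h1
    exact Or.inl ⟨p, hp, hp2, Or.inl ⟨F, i, j, hc, 3, by norm_num, by norm_num, h2⟩⟩
  · obtain ⟨p, hp, hp2, hc⟩ := exists_char (F := F) (by rw [h1]; exact h2.pow)
    refine Or.inl ⟨p, hp, hp2, Or.inr (Or.inr (Or.inl ⟨F, i, j, hc, 3, q, h1, le_rfl, ?_, h3⟩))⟩
    rintro ⟨-, rfl⟩
    exact absurd h2 (by decide)
  · exact Or.inr h
  · obtain ⟨F, i, j, h1, h2⟩ := h
    obtain ⟨p, hp, hp2, hc⟩ := exists_char h1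
    refine Or.inl ⟨p, hp, hp2, Or.inr (Or.inr (Or.inr (Or.inr (Or.inr (Or.inr (Or.inl
      ⟨F, i, j, hc, Or.inl ⟨?_, h2⟩⟩))))))⟩
    have h4 : 1 < Fintype.card F := Fintype.one_lt_card
    rw [Nat.odd_iff] at h1
    omega
  · obtain ⟨F, i, j, q, h1, h2, h3⟩ := h
    obtain ⟨p, hp, hp2, hc⟩ := exists_char (F := F) (by rw [h2]; exact h1.pow)
    exact Or.inl ⟨p, hp, hp2, Or.inr (Or.inr (Or.inr (Or.inr (Or.inr (Or.inr (Or.inr (Or.inl
      ⟨F, i, j, hc, q, isPrimePow_of_pow (by norm_num) h2, Or.inr ⟨h2, h3⟩⟩)))))))⟩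

end lie

end Cfsg.Agent.Cit.OneIdent
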