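import Cfsg.Agent.Cit.OneMain
import Cfsg.Agent.S1173

/-!
# `|Om(S)| = 1`: the conclusion, with S1173
-/

set_option autoImplicit false

open Cfsg Subgroup

namespace Cfsg.Agent.Cit.OneMainFull

variable {G : Type*} [Group G] [Finite G] {Om : Set (Subgroup G)}

/-- **the end of the case `|Om(S)| = 1`** -/
theorem main (h : One Om) (hne : Om.Nonempty) (ty : ∀ K ∈ Om, TyTwo K) (ho : oddCore G = ⊥)
    (hz : center G = ⊥) (hidx : ∀ H : Subgroup G, H.index ≠ 2)
    (hc : ∀ N : Subgroup G, N.Normal → ¬ Group.IsSolvable N → centralizer (N : Set G) = ⊥)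
    (S : Sylow 2 G) :
    Cfsg.IsQuasiDihedral (S : Subgroup G) ∨ Cfsg.IsWreathed (S : Subgroup G) ∨
      ∃ m v r s, SylowG2.Coord.TG2 (S : Subgroup G) m v r s :=
  OneMain.main_of h hne ty ho hz hidx hc (fun S T hT => S1173.result ho S T hT) S

end Cfsg.Agent.Cit.OneMainFull
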