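import Cfsg.Agent.Cit.OneType

/-!
# Classical involutions, `|Om(S)| = 1`: elements `r` with `r^2 = z` and `x r` classical
-/

set_option autoImplicit false
set_option linter.style.haveILetI false
set_option linter.unusedSectionVars false
set_option linter.unusedVariables false

namespace Cfsg.Agent.Cit

open Subgroup Cfsg OneBasic

variable {G : Type*} [Group G]

/-- the only input on the type of the members: for a 2-group `A` centralising the Sylow 2-subgroup `Q` of
`K`, all elements of order `4` of `Q` are conjugate in `C_K(A)` -/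
def KOne (Om : Set (Subgroup G)) : Prop :=
  ∀ K ∈ Om, ∀ Q : Subgroup G, Syl Q K → ∀ A : Subgroup G, IsPGroup 2 A → A ≤ normalizer (K : Set G) →
    (∀ a ∈ A, ∀ q ∈ Q, a * q = q * a) → ∀ x ∈ Q, ∀ x1 ∈ Q, orderOf x = 4 → orderOf x1 = 4 →
    ∃ k ∈ K, (∀ a ∈ A, k * a = a * k) ∧ k * x * k⁻¹ = x1

/-- `u` is the involution of a member -/
def InZ (Om : Set (Subgroup G)) (u : G) : Prop := ∃ L ∈ Om, zz L = u

/-- `u` is the involution of a member `L` with `b ⊥ L` -/
def Good (Om : Set (Subgroup G)) (b u : G) : Prop := ∃ L ∈ Om, zz L = u ∧ Perp b L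

section Z

variable [Finite G] {Om : Set (Subgroup G)}

theorem InZ.mul_self (h : One Om) {u : G} (hu : InZ Om u) : u * u = 1 := by
  obtain ⟨L, hL, rfl⟩ := hu
  exact h.hyp.zz_mul hL

theorem InZ.inv (h : One Om) {u : G} (hu : InZ Om u) : u⁻¹ = u :=
  inv_eq_of_mul_eq_one_right (hu.mul_self h)

theorem InZ.ne (h : One Om) {u : G} (hu : InZ Om u) : u ≠ 1 := by
  obtain ⟨L, hL, rfl⟩ := hu
  exact h.hyp.zz_ne hL

theorem InZ.conj (h : One Om) {u : G} (hu : InZ Om u) (g : G) : InZ Om (g * u * g⁻¹) := by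
  obtain ⟨L, hL, rfl⟩ := hu
  exact ⟨cj g L, h.hyp.conj L hL g, h.hyp.zz_cj hL g⟩

theorem InZ.of_conj (h : One Om) {u g : G} (hu : InZ Om (g * u * g⁻¹)) : InZ Om u := by
  have := hu.conj h g⁻¹
  have h1 : g⁻¹ * (g * u * g⁻¹) * g⁻¹⁻¹ = u := by group
  rwa [h1] at this

theorem InZ.mul (h : One Om) {u v : G} (hu : InZ Om u) (hv : InZ Om v) (hne : u ≠ v)
    (hc : u * v = v * u) : InZ Om (u * v) := by
  obtain ⟨K, hK, rfl⟩ := hu
  obtain ⟨L, hL, rfl⟩ := hv
  obtain ⟨M, hM, hMz, -⟩ := h.exists_mul hK hL (fun hh => hne (by rw [hh])) hc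
  exact ⟨M, hM, hMz⟩

theorem Good.inZ {b u : G} (hu : Good Om b u) : InZ Om u := by
  obtain ⟨L, hL, h1, -⟩ := hu
  exact ⟨L, hL, h1⟩

theorem Good.conj (h : One Om) {b u : G} (hu : Good Om b u) {g : G} (hg : g * b = b * g) :
    Good Om b (g * u * g⁻¹) := by
  obtain ⟨L, hL, rfl, hb⟩ := hu
  exact ⟨cj g L, h.hyp.conj L hL g, h.hyp.zz_cj hL g, hb.cj_comm hg⟩

theorem Good.of_conj (h : One Om) {b u g : G} (hg : g * b = b * g) (hu : Good Om b (g * u * g⁻¹)) :
    Good Om b u := by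
  have hg' : g⁻¹ * b = b * g⁻¹ := ((show Commute g b from hg).inv_left).eq
  have := hu.conj h hg'
  have h1 : g⁻¹ * (g * u * g⁻¹) * g⁻¹⁻¹ = u := by group
  rwa [h1] at this

theorem Good.perp (h : One Om) {b : G} {L : Subgroup G} (hL : L ∈ Om) (hu : Good Om b (zz L)) :
    Perp b L := by
  obtain ⟨M, hM, h1, hb⟩ := hu
  rwa [h.eq_of_zz_eq hM hL h1] at hb

theorem Good.mul (h : One Om) {b u v : G} (hu : Good Om b u) (hv : Good Om b v) (hne : u ≠ v)
    (hc : u * v = v * u) : Good Om b (u * v) := by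
  obtain ⟨K, hK, rfl, hb⟩ := hu
  obtain ⟨L, hL, rfl, hb'⟩ := hv
  obtain ⟨M, hM, hMz, hM2⟩ := h.exists_mul hK hL (fun hh => hne (by rw [hh])) hc
  exact ⟨M, hM, hMz, hM2 b hb hb'⟩

/-- (GP) for elements -/
theorem Good.three (h : One Om) {b u v w : G} (hb2 : PThree Om b)
    (hu : Good Om b u) (hv : Good Om b v) (hw : InZ Om w) (huv : u ≠ v) (huw : u ≠ w) (hvw : v ≠ w)
    (cuv : u * v = v * u) (cuw : u * w = w * u) (cvw : v * w = w * v) (cbw : b * w = w * b) :
    Good Om b w := by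
  obtain ⟨K, hK, rfl, hbK⟩ := hu
  obtain ⟨L, hL, rfl, hbL⟩ := hv
  obtain ⟨M, hM, rfl⟩ := hw
  have hbM : b ∈ normalizer (M : Set G) := h.mem_normalizer hM cbw
  exact ⟨M, hM, rfl, h.perp_of_three hK hL hM (fun hh => huv (by rw [hh])) (fun hh => huw (by rw [hh]))
    (fun hh => hvw (by rw [hh])) cuv cuw cvw hbK hbL hbM hb2⟩

/-- the dihedral argument -/
theorem InZ.exists_dih (h : One Om) {P : Subgroup G} (hP : IsPGroup 2 P) {a c : G} (ha : InZ Om a)
    (hc : InZ Om c) (haP : a ∈ P) (hcP : c ∈ P) (hne : a ≠ c) :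
    ∃ m : ℕ, orderOf (a * c) = 2 ^ (m + 1) ∧ InZ Om ((a * c) ^ 2 ^ m) := by
  have haa := ha.mul_self h
  have hcc := hc.mul_self h
  set s := a * c with hs
  have hs1 : s ≠ 1 := by
    intro h1
    apply hne
    have h2 : a = c⁻¹ := eq_inv_of_mul_eq_one_left h1
    rw [h2, hc.inv h]
  have hsP : s ∈ P := P.mul_mem haP hcP
  obtain ⟨k, hk⟩ := hP ⟨s, hsP⟩
  have hk' : s ^ 2 ^ k = 1 := congrArg Subtype.val hk
  obtain ⟨j, hj, hj2⟩ := (Nat.dvd_prime_pow Nat.prime_two).mp (orderOf_dvd_of_pow_eq_one hk')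
  have hj0 : j ≠ 0 := by
    rintro rfl
    rw [pow_zero, orderOf_eq_one_iff] at hj2
    exact hs1 hj2
  obtain ⟨m, rfl⟩ := Nat.exists_eq_succ_of_ne_zero hj0
  refine ⟨m, hj2, ?_⟩
  have has : a * s * a⁻¹ = s⁻¹ := by
    rw [hs, mul_inv_rev, ha.inv h, hc.inv h]
    calc a * (a * c) * a = (a * a) * c * a := by group
      _ = c * a := by rw [haa, one_mul]
  have hask : ∀ k : ℕ, a * s ^ k = (s ^ k)⁻¹ * a := by
    intro k
    have h1 : a * s ^ k * a⁻¹ = (s ^ k)⁻¹ := by
      rw [← conj_pow, has, inv_pow]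
    rw [← h1]; group
  have hs2 : s ^ 2 ^ m * s ^ 2 ^ m = 1 := by
    rw [← pow_add, ← two_mul, ← pow_succ', ← Nat.succ_eq_add_one, ← hj2, pow_orderOf_eq_one]
  rcases Nat.eq_zero_or_pos m with rfl | hm
  · rw [pow_zero, pow_one] at hs2 ⊢
    refine ha.mul h hc hne ?_
    -- `ac = (ac)⁻¹ = ca`
    have h1 : s = s⁻¹ := eq_inv_of_mul_eq_one_left hs2
    rw [hs, mul_inv_rev, ha.inv h, hc.inv h] at h1
    exact h1
  · obtain ⟨l, rfl⟩ := Nat.exists_eq_succ_of_ne_zero hm.ne'
    set u := s ^ 2 ^ (l + 1) with hu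
    have hu' : u = s ^ 2 ^ l * s ^ 2 ^ l := by rw [hu, ← pow_add, ← two_mul, ← pow_succ']
    have hu1 : u ≠ 1 := by
      intro h1
      have h2 := Nat.le_of_dvd (by positivity) (orderOf_dvd_of_pow_eq_one h1)
      rw [hj2] at h2
      have h3 : 2 ^ (l + 1) < 2 ^ (l.succ.succ) := Nat.pow_lt_pow_right (by norm_num) (by omega)
      omega
    have h1 : InZ Om (a * u) := by
      have h2 : a * u = (s ^ 2 ^ l)⁻¹ * a * (s ^ 2 ^ l)⁻¹⁻¹ := by
        rw [hu', ← mul_assoc, hask, inv_inv]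
      rw [h2]
      exact ha.conj h _
    have h2 : a * (a * u) = u := by rw [← mul_assoc, haa, one_mul]
    have hau : a * u = u * a := by
      rw [hask]
      congr 1
      exact inv_eq_of_mul_eq_one_right hs2
    have h3 : InZ Om (a * (a * u)) := by
      refine ha.mul h h1 ?_ ?_
      · intro h4
        apply hu1
        have : a * u = a * 1 := by rw [← h4, mul_one]
        exact mul_left_cancel this
      · calc a * (a * u) = a * (u * a) := by rw [hau]
          _ = (a * u) * a := by group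
    rwa [h2] at h3

end Z

/-- the situation of `L1`: a 2-group `T ≤ C(z)` with `Q = T ∩ K` -/
structure Frm (Om : Set (Subgroup G)) (K T Q : Subgroup G) (x y : G) (n : ℕ) : Prop where
  hK : K ∈ Om
  hT : IsPGroup 2 T
  hTK : T ≤ normalizer (K : Set G)
  hQ : Syl Q K
  hQT : Q ≤ T
  hTQ : T ≤ normalizer (Q : Set G)
  gq : GQ Q x y (zz K) n
  inv : ∀ w ∈ T, w * x * w⁻¹ ∈ zpowers x

namespace Frm

variable [Finite G] {Om : Set (Subgroup G)} {K T Q : Subgroup G} {x y : G} {n : ℕ}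

theorem zT (f : Frm Om K T Q x y n) : zz K ∈ T := f.hQT f.gq.z_mem

theorem comm_z (f : Frm Om K T Q x y n) (h : One Om) {a : G} (ha : a ∈ T) : a * zz K = zz K * a :=
  h.hyp.comm_zz f.hK (f.hTK ha)

theorem four_sq (f : Frm Om K T Q x y n) (h : One Om) {q : G} (hq : q ∈ Q) (h4 : orderOf q = 4) :
    q * q = zz K := by
  rw [← pow_two]
  exact AutQuat.IsQ.sq_eq (fun t ht h2 => h.hyp.uniq K f.hK t (f.hQ.1 ht) h2) hq h4

theorem sq_four (f : Frm Om K T Q x y n) (h : One Om) {q : G} (h2 : q * q = zz K) : orderOf q = 4 :=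
  GQ.orderOf_of_sq h2 (h.hyp.zz_mul f.hK) (h.hyp.zz_ne f.hK)

/-- `zz L ∈ T` centralising `Q` is `z` -/
theorem eq_z (f : Frm Om K T Q x y n) (h : One Om) {u : G} (hu : InZ Om u)
    (hc : ∀ q ∈ Q, u * q = q * u) : u = zz K := by
  obtain ⟨L, hL, rfl⟩ := hu
  rw [h.eq_of_cent f.hK hL f.hQ hc]

/-- the set `RR` -/
structure RR (f : Frm Om K T Q x y n) (r : G) : Prop where
  mem : r ∈ T
  sq : r * r = zz K
  cent : ∀ q ∈ Q, r * q = q * r
  inZ : ∀ q ∈ Q, orderOf q = 4 → InZ Om (q * r)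

variable {f : Frm Om K T Q x y n}

theorem RR.of_one (h : One Om) (h1 : KOne Om) {r : G} (hrT : r ∈ T) (hr2 : r * r = zz K)
    (hrQ : ∀ q ∈ Q, r * q = q * r) {q0 : G} (hq0 : q0 ∈ Q) (hq04 : orderOf q0 = 4)
    (hz : InZ Om (q0 * r)) : f.RR r := by
  refine ⟨hrT, hr2, hrQ, ?_⟩
  intro q hq hq4
  obtain ⟨k, -, hkA, hk⟩ := h1 K f.hK Q f.hQ (zpowers r) (f.hT.to_le (zpowers_le.2 hrT))
    (zpowers_le.2 (f.hTK hrT)) (by
      rintro _ ⟨i, rfl⟩ q hq
      exact ((show Commute r q from hrQ q hq).zpow_left i).eq) q0 hq0 q hq hq04 hq4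
  have hkr := hkA r (mem_zpowers r)
  have h2 := hz.conj h k
  have h3 : k * (q0 * r) * k⁻¹ = q * r := by
    calc k * (q0 * r) * k⁻¹ = (k * q0 * k⁻¹) * (k * r) * k⁻¹ := by group
      _ = q * r := by rw [hk, hkr]; group
  rwa [h3] at h2

/-- changing the element of order `4` -/
theorem RR.good (h : One Om) (h1 : KOne Om) {b r : G} (hbT : b ∈ T) (hb : ∀ a ∈ T, b * a = a * b)
    (hr : f.RR r) {q0 q : G} (hq0 : q0 ∈ Q) (hq04 : orderOf q0 = 4) (hq : q ∈ Q) (hq4 : orderOf q = 4)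
    (hz : Good Om b (q0 * r)) : Good Om b (q * r) := by
  set A : Subgroup G := zpowers r ⊔ zpowers b with hA
  have hAT : A ≤ T := sup_le (zpowers_le.2 hr.mem) (zpowers_le.2 hbT)
  obtain ⟨k, -, hkA, hk⟩ := h1 K f.hK Q f.hQ A (f.hT.to_le hAT) (hAT.trans f.hTK) (by
      intro a ha q hq
      have h2 : A ≤ centralizer {q} := by
        refine sup_le ?_ ?_
        · rw [zpowers_le, mem_centralizer_singleton_iff]
          exact hr.cent q hq
        · rw [zpowers_le, mem_centralizer_singleton_iff]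
          exact hb q (f.hQT hq)
      exact mem_centralizer_singleton_iff.1 (h2 ha)) q0 hq0 q hq hq04 hq4
  have hkr := hkA r (mem_sup_left (mem_zpowers r))
  have hkb := hkA b (mem_sup_right (mem_zpowers b))
  have h2 := hz.conj h hkb
  have h3 : k * (q0 * r) * k⁻¹ = q * r := by
    calc k * (q0 * r) * k⁻¹ = (k * q0 * k⁻¹) * (k * r) * k⁻¹ := by group
      _ = q * r := by rw [hk, hkr]; group
  rwa [h3] at h2

theorem RR.inv_eq (h : One Om) {r : G} (hr : f.RR r) : r⁻¹ = zz K * r := by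
  rw [inv_eq_iff_mul_eq_one]
  calc r * (zz K * r) = (r * zz K) * r := by group
    _ = zz K * (r * r) := by rw [f.comm_z h hr.mem]; group
    _ = 1 := by rw [hr.sq, h.hyp.zz_mul f.hK]

/-- `z r ∈ RR` -/
theorem RR.zmul (h : One Om) {r : G} (hr : f.RR r) : f.RR (zz K * r) := by
  have hzr := f.comm_z h hr.mem
  refine ⟨T.mul_mem f.zT hr.mem, ?_, ?_, ?_⟩
  · calc zz K * r * (zz K * r) = zz K * (r * zz K) * r := by group
      _ = (zz K * zz K) * (r * r) := by rw [hzr]; group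
      _ = zz K := by rw [h.hyp.zz_mul f.hK, hr.sq, one_mul]
  · intro q hq
    have h1 := f.comm_z h (f.hQT hq)
    calc zz K * r * q = zz K * (r * q) := by group
      _ = (zz K * q) * r := by rw [hr.cent q hq]; group
      _ = q * (zz K * r) := by rw [← h1]; group
  · intro q hq hq4
    have h1 : q * zz K ∈ Q := Q.mul_mem hq f.gq.z_mem
    have h2 : orderOf (q * zz K) = 4 := by
      apply f.sq_four h
      have h3 := f.comm_z h (f.hQT hq)
      calc q * zz K * (q * zz K) = q * (zz K * q) * zz K := by group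
        _ = (q * q) * (zz K * zz K) := by rw [← h3]; group
        _ = zz K := by rw [f.four_sq h hq hq4, h.hyp.zz_mul f.hK, mul_one]
    have h3 := hr.inZ _ h1 h2
    rwa [mul_assoc] at h3

theorem RR.inv' (h : One Om) {r : G} (hr : f.RR r) : f.RR r⁻¹ := by
  rw [hr.inv_eq h]; exact hr.zmul h

/-- products of anticommuting elements -/
theorem RR.mul (h : One Om) (h1 : KOne Om) {r s : G} (hr : f.RR r) (hs : f.RR s)
    (hrs : s * r = zz K * (r * s)) : f.RR (r * s) := by
  obtain ⟨q1, hq1, q2, hq2, h14, h24, h124, h21⟩ := f.gq.exists_pair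
  have hzz := h.hyp.zz_mul f.hK
  have cz : ∀ a ∈ T, a * zz K = zz K * a := fun a ha => f.comm_z h ha
  refine RR.of_one h h1 (T.mul_mem hr.mem hs.mem) ?_ ?_ (Q.mul_mem hq1 hq2) h124 ?_
  · calc r * s * (r * s) = r * (s * r) * s := by group
      _ = (r * zz K) * (r * s) * s := by rw [hrs]; group
      _ = zz K * (r * r) * (s * s) := by rw [cz r hr.mem]; group
      _ = zz K := by rw [hr.sq, hs.sq, hzz, one_mul]
  · intro q hq
    rw [mul_assoc, hs.cent q hq, ← mul_assoc, hr.cent q hq, mul_assoc]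
  · -- `(q1 q2)(r s) = (q1 r)(q2 s)`
    have e1 : q1 * q2 * (r * s) = (q1 * r) * (q2 * s) := by
      calc q1 * q2 * (r * s) = q1 * (q2 * r) * s := by group
        _ = (q1 * r) * (q2 * s) := by rw [← hr.cent q2 hq2]; group
    have e2 : (q2 * s) * (q1 * r) = (q1 * r) * (q2 * s) := by
      calc (q2 * s) * (q1 * r) = q2 * (s * q1) * r := by group
        _ = (q2 * q1) * (s * r) := by rw [hs.cent q1 hq1]; group
        _ = (q1 * q2 * zz K) * (zz K * (r * s)) := by rw [h21, hrs]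
        _ = q1 * q2 * (zz K * zz K) * (r * s) := by group
        _ = q1 * q2 * (r * s) := by rw [hzz, mul_one]
        _ = (q1 * r) * (q2 * s) := e1
    rw [e1]
    refine (hr.inZ q1 hq1 h14).mul h (hs.inZ q2 hq2 h24) ?_ e2.symm
    intro h3
    -- `q2⁻¹ q1 = s r⁻¹` would centralise `Q`
    have h4 : q2⁻¹ * q1 = s * r⁻¹ := by
      calc q2⁻¹ * q1 = q2⁻¹ * (q1 * r) * r⁻¹ := by group
        _ = q2⁻¹ * (q2 * s) * r⁻¹ := by rw [h3]
        _ = s * r⁻¹ := by group
    have h5 : (q2⁻¹ * q1) * q1 = q1 * (q2⁻¹ * q1) := by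
      rw [h4]
      have c1 : Commute s q1 := hs.cent q1 hq1
      have c2 : Commute r q1 := hr.cent q1 hq1
      exact (c1.mul_left c2.inv_left).eq
    have h6 : q2⁻¹ * q1 = q1 * q2⁻¹ := by
      have : q2⁻¹ * q1 * q1 = (q1 * q2⁻¹) * q1 := by rw [h5]; group
      exact mul_right_cancel this
    have h7 : q2 * q1 = q1 * q2 := by
      calc q2 * q1 = q2 * (q1 * q2⁻¹) * q2 := by group
        _ = q2 * (q2⁻¹ * q1) * q2 := by rw [h6]
        _ = q1 * q2 := by group
    rw [h7] at h21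
    have h8 : zz K = 1 := by
      have : q1 * q2 * 1 = q1 * q2 * zz K := by rw [mul_one]; exact h21
      exact (mul_left_cancel this).symm
    exact h.hyp.zz_ne f.hK h8

/-- conjugation by `T` -/
theorem RR.conj (h : One Om) {r t : G} (hr : f.RR r) (ht : t ∈ T) : f.RR (t * r * t⁻¹) := by
  refine ⟨T.mul_mem (T.mul_mem ht hr.mem) (T.inv_mem ht), ?_, ?_, ?_⟩
  · calc t * r * t⁻¹ * (t * r * t⁻¹) = t * (r * r) * t⁻¹ := by group
      _ = t * zz K * t⁻¹ := by rw [hr.sq]
      _ = zz K := by rw [f.comm_z h ht, mul_inv_cancel_right]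
  · intro q hq
    have h1 := hr.cent _ (conj_mem_of' (f.hTQ ht) hq)
    calc t * r * t⁻¹ * q = t * (r * (t⁻¹ * q * t)) * t⁻¹ := by group
      _ = t * ((t⁻¹ * q * t) * r) * t⁻¹ := by rw [h1]
      _ = _ := by group
  · intro q hq hq4
    have h1 : orderOf (t⁻¹ * q * t) = 4 := by
      have := (MulAut.conj t⁻¹).orderOf_eq q
      simp only [MulAut.conj_apply, inv_inv] at this
      rw [this, hq4]
    have h2 := (hr.inZ _ (conj_mem_of' (f.hTQ ht) hq) h1).conj h t
    have h3 : t * (t⁻¹ * q * t * r) * t⁻¹ = q * (t * r * t⁻¹) := by group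
    rwa [h3] at h2

/-- **(R1)** -/
theorem RR.exists_anti (h : One Om) (h1 : KOne Om) {r s : G} (hr : f.RR r) (hs : f.RR s) (hne : s ≠ r)
    (hne' : s ≠ r⁻¹) : ∃ v, f.RR v ∧ v ∈ zpowers (zz K * (r * s)) ∧ v * r = zz K * (r * v) ∧
      v * s = zz K * (s * v) := by
  obtain ⟨q, hq, -, -, hq4, -, -, -⟩ := f.gq.exists_pair
  have hzz := h.hyp.zz_mul f.hK
  have cz : ∀ a ∈ T, a * zz K = zz K * a := fun a ha => f.comm_z h ha
  obtain ⟨e, he⟩ : ∃ e, e = zz K * (r * s) := ⟨_, rfl⟩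
  have heT : e ∈ T := by rw [he]; exact T.mul_mem f.zT (T.mul_mem hr.mem hs.mem)
  have heq : (q * r) * (q * s) = e := by
    calc (q * r) * (q * s) = q * (r * q) * s := by group
      _ = (q * q) * (r * s) := by rw [hr.cent q hq]; group
      _ = e := by rw [f.four_sq h hq hq4, he]
  have hqne : q * r ≠ q * s := fun h2 => hne (mul_left_cancel h2).symm
  obtain ⟨m, hm, hmz⟩ := (hr.inZ q hq hq4).exists_dih h f.hT (hs.inZ q hq hq4)
    (T.mul_mem (f.hQT hq) hr.mem) (T.mul_mem (f.hQT hq) hs.mem) hqne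
  rw [heq] at hm hmz
  have hecent : ∀ a ∈ Q, e * a = a * e := by
    intro a ha
    have c1 : Commute (zz K) a := (cz a (f.hQT ha)).symm
    have c2 : Commute r a := hr.cent a ha
    have c3 : Commute s a := hs.cent a ha
    rw [he]
    exact (c1.mul_left (c2.mul_left c3)).eq
  have hez : e ^ 2 ^ m = zz K := by
    apply f.eq_z h hmz
    intro a ha
    exact ((show Commute e a from hecent a ha).pow_left _).eq
  -- `m ≥ 1`
  have hm0 : m ≠ 0 := by
    rintro rfl
    rw [pow_zero, pow_one] at hez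
    apply hne'
    rw [he] at hez
    have h2 : r * s = 1 := by
      have : zz K * (r * s) = zz K * 1 := by rw [hez, mul_one]
      exact mul_left_cancel this
    exact eq_inv_of_mul_eq_one_right h2
  obtain ⟨l, rfl⟩ := Nat.exists_eq_succ_of_ne_zero hm0
  have hrr : r⁻¹ = zz K * r := hr.inv_eq h
  have hss : s⁻¹ = zz K * s := hs.inv_eq h
  have hre : r * e * r⁻¹ = e⁻¹ := by
    have e1 : e⁻¹ = s⁻¹ * r⁻¹ * zz K := by
      rw [he, mul_inv_rev, mul_inv_rev, h.hyp.zz_inv f.hK]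
    rw [e1, hss, he]
    calc r * (zz K * (r * s)) * r⁻¹ = (r * zz K) * (r * s) * r⁻¹ := by group
      _ = zz K * (r * r) * s * r⁻¹ := by rw [cz r hr.mem]; group
      _ = (zz K * zz K) * s * r⁻¹ := by rw [hr.sq]
      _ = s * r⁻¹ := by rw [hzz, one_mul]
      _ = zz K * s * (zz K * r⁻¹) := by
          calc s * r⁻¹ = (zz K * zz K) * s * r⁻¹ := by rw [hzz, one_mul]
            _ = zz K * (zz K * s) * r⁻¹ := by group
            _ = zz K * (s * zz K) * r⁻¹ := by rw [cz s hs.mem]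
            _ = _ := by group
      _ = zz K * s * (r⁻¹ * zz K) := by rw [cz _ (T.inv_mem hr.mem)]
      _ = zz K * s * r⁻¹ * zz K := by group
  have hrek : ∀ k : ℕ, r * e ^ k = (e ^ k)⁻¹ * r := by
    intro k
    have h2 : r * e ^ k * r⁻¹ = (e ^ k)⁻¹ := by rw [← conj_pow, hre, inv_pow]
    rw [← h2]; group
  have hsre : s = zz K * r⁻¹ * e := by
    rw [he]
    calc s = r⁻¹ * (r * s) := by group
      _ = (zz K * zz K) * r⁻¹ * (r * s) := by rw [hzz, one_mul]
      _ = zz K * (zz K * r⁻¹) * (r * s) := by group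
      _ = zz K * (r⁻¹ * zz K) * (r * s) := by rw [cz _ (T.inv_mem hr.mem)]
      _ = _ := by group
  obtain ⟨v, hv⟩ : ∃ v, v = e ^ 2 ^ l := ⟨_, rfl⟩
  have hvv : v * v = zz K := by
    rw [hv, ← pow_add, ← two_mul, ← pow_succ', ← hez]
  have hvT : v ∈ T := by rw [hv]; exact T.pow_mem heT _
  have hvcent : ∀ a ∈ Q, v * a = a * v := by
    intro a ha
    rw [hv]
    exact ((show Commute e a from hecent a ha).pow_left _).eq
  have hvinv : v⁻¹ = zz K * v := by
    rw [inv_eq_iff_mul_eq_one]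
    calc v * (zz K * v) = (v * zz K) * v := by group
      _ = zz K * (v * v) := by rw [cz v hvT]; group
      _ = 1 := by rw [hvv, hzz]
  have hrv : r * v = v⁻¹ * r := by rw [hv]; exact hrek _
  have hvr : v * r = zz K * (r * v) := by
    rw [hrv, hvinv]
    calc v * r = (zz K * zz K) * v * r := by rw [hzz, one_mul]
      _ = _ := by group
  have hvs : v * s = zz K * (s * v) := by
    have hve : v * e = e * v := by rw [hv]; exact ((Commute.refl e).pow_left _).eq
    have hvr' : v * r⁻¹ = zz K * (r⁻¹ * v) := by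
      rw [hrr]
      calc v * (zz K * r) = (v * zz K) * r := by group
        _ = zz K * (v * r) := by rw [cz v hvT]; group
        _ = zz K * (zz K * (r * v)) := by rw [hvr]
        _ = _ := by group
    rw [hsre]
    calc v * (zz K * r⁻¹ * e) = (v * zz K) * r⁻¹ * e := by group
      _ = zz K * (v * r⁻¹) * e := by rw [cz v hvT]; group
      _ = zz K * zz K * r⁻¹ * (v * e) := by rw [hvr']; group
      _ = zz K * (zz K * r⁻¹ * e * v) := by rw [hve]; group
  refine ⟨v, ?_, ?_, hvr, hvs⟩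
  · rcases Nat.eq_zero_or_pos l with rfl | hl
    · -- `v = e = z r s`, `r` and `s` anticommute
      rw [pow_zero, pow_one] at hv
      have h3 : s * r = zz K * (r * s) := by
        have h4 : s * r = v := by
          calc s * r = zz K * r⁻¹ * (e * r) := by rw [hsre]; group
            _ = zz K * r⁻¹ * (v * r) := by rw [hv]
            _ = zz K * r⁻¹ * (zz K * (r * v)) := by rw [hvr]
            _ = zz K * (r⁻¹ * zz K) * (r * v) := by group
            _ = zz K * (zz K * r⁻¹) * (r * v) := by rw [cz _ (T.inv_mem hr.mem)]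
            _ = (zz K * zz K) * v := by group
            _ = v := by rw [hzz, one_mul]
        rw [h4, hv, he]
      have h4 := (RR.mul h h1 hr hs h3).zmul h
      rw [hv, he]
      exact h4
    · obtain ⟨i, rfl⟩ := Nat.exists_eq_succ_of_ne_zero hl.ne'
      -- `r v⁻¹ = g r g⁻¹`, `g = e^(2^i)`
      obtain ⟨g, hg⟩ : ∃ g, g = e ^ 2 ^ i := ⟨_, rfl⟩
      have hgv : g * g = v := by
        rw [hg, hv, ← pow_add, ← two_mul, ← pow_succ', Nat.succ_eq_add_one]
      have hgT : g ∈ T := by rw [hg]; exact T.pow_mem heT _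
      have hrg : r * g = g⁻¹ * r := by rw [hg]; exact hrek _
      have h3 : g * r * g⁻¹ = r * v⁻¹ := by
        have h4 : g * r = r * g⁻¹ := by
          calc g * r = g * (r * g) * g⁻¹ := by group
            _ = g * (g⁻¹ * r) * g⁻¹ := by rw [hrg]
            _ = r * g⁻¹ := by group
        rw [h4, ← hgv]; group
      have h4 : f.RR (r * v⁻¹) := by rw [← h3]; exact hr.conj h hgT
      have h5 : (r * v⁻¹) * r = zz K * (r * (r * v⁻¹)) := by
        have h6 : v⁻¹ * r = r * v := hrv.symm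
        calc r * v⁻¹ * r = r * (v⁻¹ * r) := by group
          _ = (r * r) * v := by rw [h6]; group
          _ = zz K * v := by rw [hr.sq]
          _ = v⁻¹ := hvinv.symm
          _ = (zz K * zz K) * v⁻¹ := by rw [hzz, one_mul]
          _ = zz K * ((r * r) * v⁻¹) := by rw [hr.sq]; group
          _ = _ := by group
      have h6 := RR.mul h h1 hr h4 h5
      have h7 : r * (r * v⁻¹) = v := by
        rw [← mul_assoc, hr.sq, hvinv, ← mul_assoc, hzz, one_mul]
      rwa [h7] at h6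
  · rw [hv, he]
    exact pow_mem (mem_zpowers _) _

end Frm

end Cfsg.Agent.Cit
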