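import Cfsg.Agent.Cit.OnePair
import Cfsg.Agent.Cit.OneCompB

/-!
# The case `|Om(S)| = 1`: reduction to a component (blueprint `R18-One-helper45`, 3K)

`One Om`, `O(G) = 1`, `G = ⟨Om⟩`, the members are generated by their elements of odd order, and there are at
least two members. Then `zz K ∉ O₂(G)`, `O₂(G) = F(G) = Z(G)`, `G` has exactly one component `L`, which is
normal and contains the Sylow 2-subgroups of all members, and `C_G(L) = Z(G)`.
-/

set_option autoImplicit false
set_option linter.style.haveILetI false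
set_option linter.unusedSectionVars false

namespace Cfsg.Agent.Cit.OneRed

open Subgroup Cfsg Cfsg.Agent.Cit Cfsg.Agent.Cit.OneBasic Cfsg.Agent.Cit.OneComp
open Cfsg.Agent.Cit.Comp
open Cfsg.Agent.SignalizersComponents.Components

variable {G : Type*} [Group G] [Finite G] {Om : Set (Subgroup G)}

/-- an element of odd order commutes with `x` if its square does -/
theorem comm_of_sq {k x : G} (hk : Odd (orderOf k)) (h : k * k * x = x * (k * k)) : k * x = x * k := by
  obtain ⟨m, hm⟩ := hk
  have h1 : k = (k * k) ^ (m + 1) := by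
    have h2 : k ^ (2 * m + 1) = 1 := by rw [← hm, pow_orderOf_eq_one]
    rw [← pow_two, ← pow_mul, show 2 * (m + 1) = (2 * m + 1) + 1 by ring, pow_succ, h2, one_mul]
  have h2 : Commute (k * k) x := h
  have h3 := h2.pow_left (m + 1)
  rw [← h1] at h3
  exact h3.eq

/-- an element of odd order commuting with `t`, `t * t = 1`, and mapping `x` to `x` or `x * t`
commutes with `x` -/
theorem comm_of_or {k x t : G} (hk : Odd (orderOf k)) (ht : t * t = 1) (hkt : k * t = t * k)
    (h : k * x * k⁻¹ = x ∨ k * x * k⁻¹ = x * t) : k * x = x * k := by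
  rcases h with h | h
  · rwa [mul_inv_eq_iff_eq_mul] at h
  · apply comm_of_sq hk
    rw [mul_inv_eq_iff_eq_mul] at h
    calc k * k * x = k * (k * x) := by group
      _ = k * (x * t * k) := by rw [h]
      _ = (k * x) * t * k := by group
      _ = x * t * (k * t) * k := by rw [h]; group
      _ = x * (t * t) * (k * k) := by rw [hkt]; group
      _ = x * (k * k) := by rw [ht, mul_one]

/-- if every element of odd order of `L` commutes with `x` then `L` centralises `x` -/
theorem comm_of_odd {L : Subgroup G} (hT : TyTwo L) {x : G}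
    (h : ∀ k ∈ L, Odd (orderOf k) → k * x = x * k) : ∀ l ∈ L, l * x = x * l := by
  have h1 : L ≤ centralizer {x} := by
    refine hT.trans ((closure_le _).2 ?_)
    rintro k ⟨hk, hk2⟩
    exact mem_centralizer_singleton_iff.2 (h k hk hk2)
  exact fun l hl => mem_centralizer_singleton_iff.1 (h1 hl)

section
variable (h : One Om) {K L : Subgroup G} (hK : K ∈ Om)
include h hK

/-- every normal 2-subgroup of `G` normalises `K` -/
theorem normal_le_normalizer {P : Subgroup G} (hP : IsPGroup 2 P) (hn : P.Normal) :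
    P ≤ normalizer (K : Set G) := by
  obtain ⟨Q, hQ⟩ := Hyp.exists_syl K
  obtain ⟨S, hS, hQS⟩ := exists_syl_ge hQ.2.1 (le_top : Q ≤ ⊤)
  have h1 : P ≤ S := syl_le_of_normalizes hS hP le_top (by
    rw [normalizer_eq_top]; exact le_top)
  exact h1.trans (h.le_normalizer_self hS.2.1 (mem_OmS_of_le hK hQ hQS))

/-- **3K (c)**: a normal 2-subgroup does not contain the involution of a member, if there are at least two
members -/
theorem zz_not_mem_normal (hL : L ∈ Om) (hne : K ≠ L) (hTL : TyTwo L) {P : Subgroup G}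
    (hP : IsPGroup 2 P) (hn : P.Normal) : zz K ∉ P := by
  haveI : Fact (Nat.Prime 2) := ⟨Nat.prime_two⟩
  intro hz
  obtain ⟨g, hg⟩ := h.exists_conj_zz hK hL
  have ht : zz L ∈ P := by rw [← hg]; exact hn.conj_mem _ hz g
  have hPK := normal_le_normalizer h hK hP hn
  have hPL := normal_le_normalizer h hL hP hn
  have hcomm : zz K * zz L = zz L * zz K := (h.hyp.comm_zz hK (hPK ht)).symm
  obtain ⟨T, Q, Q', hPT, p⟩ := h.exists_pair hK hL hne hcomm hP hPK hPL
  obtain ⟨x, y, x', y', n, c⟩ := p.exists_co h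
  have ht2 : zz L * zz L = 1 := h.hyp.zz_mul hL
  have hLt : ∀ l ∈ L, l * zz L = zz L * l := fun l hl => h.hyp.comm_zz hL (le_normalizer hl)
  have hPz : ∀ u ∈ P, u * zz K = zz K * u := fun u hu => h.hyp.comm_zz hK (hPK hu)
  -- `L ∩ P ≤ Q'`
  have hJQ : L ⊓ P ≤ Q' := syl_le_of_normalizes' p.hQ' (hP.to_le inf_le_right) inf_le_left
    (inf_le_right.trans (hPT.trans p.hTQ'))
  -- `L ∩ P ≤ ⟨t⟩`
  have hJ : ∀ u ∈ L ⊓ P, u = 1 ∨ u = zz L := by
    rcases c.dich h with hW | hS
    · -- type W
      have hmem : ∀ u ∈ L ⊓ P, u ∈ zpowers x' := by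
        intro u hu
        rcases c.gq'.covZ (hJQ hu) with h1 | ⟨i, hi⟩
        · exact h1
        · exfalso
          have h1 := hPz u hu.2
          have h2 : zz K * y' * (zz K)⁻¹ = y' * zz L := c.symm.t_y h hW.1
          have h3 : zz K * u * (zz K)⁻¹ = u := by rw [← h1, mul_inv_cancel_right]
          have h4 : zz K * x' ^ i * (zz K)⁻¹ = x' ^ i := by
            rw [((show Commute (zz K) x' from hW.1).zpow_right i).eq, mul_inv_cancel_right]
          have h5 : y' * zz L * x' ^ i = y' * x' ^ i := by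
            calc y' * zz L * x' ^ i = (zz K * y' * (zz K)⁻¹) * (zz K * x' ^ i * (zz K)⁻¹) := by rw [h2, h4]
              _ = zz K * (y' * x' ^ i) * (zz K)⁻¹ := by group
              _ = y' * x' ^ i := by rw [← hi]; exact h3
          have h6 : y' * zz L = y' := mul_right_cancel h5
          exact h.hyp.zz_ne hL (by simpa using h6)
      intro u hu
      by_contra hcon
      push Not at hcon
      obtain ⟨hu1, hut⟩ := hcon
      -- an element of `L ∩ P` with square `t`
      obtain ⟨v, hv, hvt⟩ : ∃ v ∈ L ⊓ P, v * v = zz L := by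
        have hIQ : AutQuat.IsQ Q' := h.hyp.isGQ hL p.hQ'
        have h2 : ∃ m : ℕ, u ^ 2 ^ m = zz L := by
          obtain ⟨k, hk⟩ := hP ⟨u, hu.2⟩
          have hk' : u ^ 2 ^ k = 1 := congrArg Subtype.val hk
          obtain ⟨j, hj, hj2⟩ := (Nat.dvd_prime_pow Nat.prime_two).mp (orderOf_dvd_of_pow_eq_one hk')
          have hj0 : j ≠ 0 := by
            rintro rfl
            rw [pow_zero, orderOf_eq_one_iff] at hj2
            exact hu1 hj2
          obtain ⟨i, rfl⟩ := Nat.exists_eq_succ_of_ne_zero hj0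
          refine ⟨i, ?_⟩
          apply h.hyp.uniq L hL _ (L.pow_mem hu.1 _)
          rw [orderOf_pow' u (by positivity), hj2, Nat.succ_eq_add_one, pow_succ, Nat.gcd_mul_right_left,
            Nat.mul_div_cancel_left _ (by positivity)]
        obtain ⟨m, hm⟩ := h2
        rcases Nat.eq_zero_or_pos m with rfl | hm0
        · exact absurd (by simpa using hm) hut
        · obtain ⟨j, rfl⟩ := Nat.exists_eq_succ_of_ne_zero hm0.ne'
          refine ⟨u ^ 2 ^ j, pow_mem hu _, ?_⟩
          rw [← pow_add, ← two_mul, ← pow_succ']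
          exact hm
      have hv1 := c.gq'.eq_w_of_sq (hmem v hv) hvt
      -- `L` centralises `v`
      have hLv : ∀ l ∈ L, l * v = v * l := by
        refine comm_of_odd hTL fun k hk hk2 => ?_
        refine comm_of_or hk2 ht2 (hLt k hk) ?_
        have h1 : k * v * k⁻¹ ∈ L ⊓ P :=
          ⟨L.mul_mem (L.mul_mem hk hv.1) (L.inv_mem hk), hn.conj_mem _ hv.2 k⟩
        have h2 : (k * v * k⁻¹) * (k * v * k⁻¹) = zz L := by
          calc (k * v * k⁻¹) * (k * v * k⁻¹) = k * (v * v) * k⁻¹ := by group
            _ = zz L := by rw [hvt, hLt k hk, mul_inv_cancel_right]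
        have h3 := c.gq'.eq_w_of_sq (hmem _ h1) h2
        rcases hv1 with h4 | h4 <;> rcases h3 with h5 | h5
        · left; rw [h5, ← h4]
        · right; rw [h5, ← h4]
        · right; rw [h5, h4, mul_assoc, ht2, mul_one]
        · left; rw [h5, ← h4]
      have h1 := hLv y' (p.hQ'.1 c.gq'.v_mem)
      have h2 : y' * x' ^ 2 ^ n = x' ^ 2 ^ n * y' := by
        rcases hv1 with h4 | h4
        · rw [← h4]; exact h1
        · have h5 : x' ^ 2 ^ n = v * zz L := by rw [h4, mul_assoc, ht2, mul_one]
          have h6 := hLt y' (p.hQ'.1 c.gq'.v_mem)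
          rw [h5]
          calc y' * (v * zz L) = (y' * v) * zz L := by group
            _ = v * (y' * zz L) := by rw [h1]; group
            _ = v * zz L * y' := by rw [h6]; group
      have h3 := c.gq'.conj_pow (2 ^ n)
      rw [h2] at h3
      have h4 : x' ^ 2 ^ n * x' ^ 2 ^ n = 1 := by
        have h5 : x' ^ 2 ^ n = (x' ^ 2 ^ n)⁻¹ := mul_right_cancel h3
        nth_rw 2 [h5]
        group
      rw [c.gq'.w_sq] at h4
      exact h.hyp.zz_ne hL h4
    · intro u hu
      exact hS.2 u (hJQ hu) (hPz u hu.2)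
  -- `L` centralises `z`
  have hLz : ∀ l ∈ L, l * zz K = zz K * l := by
    refine comm_of_odd hTL fun k hk hk2 => ?_
    refine comm_of_or hk2 ht2 (hLt k hk) ?_
    have hzL : zz K ∈ normalizer (L : Set G) := hPL hz
    have h1 : (zz K)⁻¹ * (k * zz K * k⁻¹) ∈ L ⊓ P := by
      refine ⟨?_, P.mul_mem (P.inv_mem hz) (hn.conj_mem _ hz k)⟩
      have h2 := L.mul_mem (conj_mem_of' hzL hk) (L.inv_mem hk)
      simpa [mul_assoc] using h2
    rcases hJ _ h1 with h2 | h2
    · left
      rw [inv_mul_eq_one] at h2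
      exact h2.symm
    · right
      rw [inv_mul_eq_iff_eq_mul] at h2
      exact h2
  exact hne (h.eq_of_cent hL hK p.hQ' fun u hu => (hLz u (p.hQ'.1 hu)).symm).symm

/-- **3K (c)**: a normal 2-subgroup centralises the members, if there are at least two members -/
theorem le_centralizer_normal (hTK : TyTwo K) (hL : L ∈ Om) (hne : K ≠ L) (hTL : TyTwo L)
    {P : Subgroup G} (hP : IsPGroup 2 P) (hn : P.Normal) : K ≤ centralizer (P : Set G) := by
  refine le_centralizer_of_inf_eq_bot h.hyp hK hTK hP ?_ ?_ ?_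
  · exact (normal_le_normalizer h hK hP hn).trans (h.hyp.normalizer_le hK)
  · rw [normalizer_eq_top]; exact le_top
  · exact inf_eq_bot_of_not_mem h.hyp hK hP (zz_not_mem_normal h hK hL hne hTL hP hn)

end

section

variable (h : One Om) (hO : pPrimeCore 2 G = ⊥) (hev : EvQ G) (hgen : sSup Om = ⊤)
  (hT : ∀ K ∈ Om, TyTwo K) (hB : ∀ K ∈ Om, LemB K) {K : Subgroup G} (hK : K ∈ Om) (hKt : K ≠ ⊤)
include h hO hgen hT hK hKt

omit h hO hT in
/-- there is a second member -/
theorem exists_ne : ∃ L ∈ Om, K ≠ L := by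
  by_contra hcon
  push Not at hcon
  apply hKt
  rw [eq_top_iff, ← hgen]
  exact sSup_le fun L hL => (hcon L hL).symm.le

/-- **3K (c)** -/
theorem zz_not_mem_pCore : zz K ∉ pCore 2 G := by
  haveI : Fact (Nat.Prime 2) := ⟨Nat.prime_two⟩
  obtain ⟨L, hL, hne⟩ := exists_ne hgen hK hKt
  exact zz_not_mem_normal h hK hL hne (hT L hL) (Lib.Cores.pCore_isPGroup 2) (Lib.Cores.pCore_normal 2)

/-- **3K (c)** -/
theorem pCore_le_center : pCore 2 G ≤ center G := by
  haveI : Fact (Nat.Prime 2) := ⟨Nat.prime_two⟩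
  have h1 : (⊤ : Subgroup G) ≤ centralizer (pCore 2 G : Set G) := by
    rw [← hgen]
    refine sSup_le fun L hL => ?_
    obtain ⟨J, hJ, hne⟩ := exists_ne hgen hL (by
      rintro rfl
      obtain ⟨M, hM, hne⟩ := exists_ne hgen hK hKt
      obtain ⟨g, hg⟩ := h.exists_cj_eq hL hK
      apply hKt
      rw [← hg, eq_top_iff]
      intro x _
      rw [mem_cj]; trivial)
    exact le_centralizer_normal h hL (hT L hL) hJ hne (hT J hJ) (Lib.Cores.pCore_isPGroup 2)
      (Lib.Cores.pCore_normal 2)
  intro x hx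
  rw [mem_center_iff]
  intro g
  exact (mem_centralizer_iff.1 (h1 (mem_top g)) x hx).symm

/-- `F(G) = Z(G)` -/
theorem fitting_eq_center : fittingSubgroup G = center G := by
  haveI : Fact (Nat.Prime 2) := ⟨Nat.prime_two⟩
  apply le_antisymm
  · rw [SignalizersComponents.PConstrained.fittingSubgroup_eq_pCore_of_pPrimeCore_eq_bot 2 hO]
    exact pCore_le_center h hO hgen hT hK hKt
  · refine Lib.Cores.le_fittingSubgroup inferInstance ?_
    haveI hc : IsMulCommutative (center G) := inferInstance
    open scoped IsMulCommutative in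
    exact CommGroup.isNilpotent

theorem pCore_eq_center : pCore 2 G = center G := by
  haveI : Fact (Nat.Prime 2) := ⟨Nat.prime_two⟩
  rw [← fitting_eq_center h hO hgen hT hK hKt,
    SignalizersComponents.PConstrained.fittingSubgroup_eq_pCore_of_pPrimeCore_eq_bot 2 hO]

omit hKt in
/-- the component of a member -/
theorem exists_component (hz : zz K ∉ pCore 2 G) (hcen : pCore 2 G ≤ center G) :
    ∃ L : Subgroup G, IsComponent L ∧ ¬ L ≤ centralizer {zz K} := by
  haveI : Fact (Nat.Prime 2) := ⟨Nat.prime_two⟩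
  by_contra hcon
  push Not at hcon
  apply hz
  apply centralizer_genFit_le hO
  refine mem_centralizer_genFit hO (fun L hL => ?_) ?_
  · rw [mem_centralizer_iff]
    intro x hx
    exact mem_centralizer_singleton_iff.1 (hcon L hL hx)
  · rw [mem_centralizer_iff]
    intro x hx
    exact (mem_center_iff.1 (hcen hx) _).symm

include hev hB

/-- **3K (d)**: all components are normal, and there is exactly one; it contains the Sylow 2-subgroups of the
members and `C_G(L) = Z(G)` -/
theorem main : ∃ L : Subgroup G, IsComponent L ∧ L.Normal ∧ (∀ L' : Subgroup G, IsComponent L' → L' = L) ∧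
    (∀ J ∈ Om, ∀ Q, Syl Q J → Q ≤ L) ∧ (∀ J ∈ Om, zz J ∈ L) ∧
    (∀ J ∈ Om, ¬ L ≤ centralizer {zz J}) ∧ centralizer (L : Set G) = center G := by
  haveI : Fact (Nat.Prime 2) := ⟨Nat.prime_two⟩
  have htop : ∀ J ∈ Om, J ≠ ⊤ := by
    rintro J hJ rfl
    obtain ⟨g, hg⟩ := h.exists_cj_eq hJ hK
    apply hKt
    rw [← hg, eq_top_iff]
    intro x _
    rw [mem_cj]; trivial
  have hzJ : ∀ J ∈ Om, zz J ∉ pCore 2 G := fun J hJ => zz_not_mem_pCore h hO hgen hT hJ (htop J hJ)
  have hcen := pCore_le_center h hO hgen hT hK hKt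
  obtain ⟨L, hL, hLz⟩ := exists_component h hO hgen hT hK (hzJ K hK) hcen
  -- `L` is normal
  have hN : L.Normal := by
    rw [← normalizer_eq_top_iff, eq_top_iff, ← hgen]
    refine sSup_le fun J hJ => ?_
    by_cases hJL : L ≤ centralizer {zz J}
    · obtain ⟨L', hL', hLz'⟩ := exists_component h hO hgen hT hJ (hzJ J hJ) hcen
      have hne : L ≠ L' := by
        rintro rfl
        exact hLz' hJL
      have h1 := comm_other h.hyp hO hev hJ (hB J hJ) hL' hLz' hL hne
      intro x hx
      apply mem_normalizer_of_cent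
      intro y hy
      exact (mem_centralizer_iff.1 (h1 hx) y hy).symm
    · exact (syl_le_component h.hyp hO hJ (hB J hJ) hL hJL).1
  have hall : ∀ J ∈ Om, ¬ L ≤ centralizer {zz J} := by
    intro J hJ hJL
    obtain ⟨g, hg⟩ := h.exists_conj_zz hJ hK
    apply hLz
    intro x hx
    rw [mem_centralizer_singleton_iff, ← hg]
    have h1 : g⁻¹ * x * g ∈ L := by
      have := hN.conj_mem x hx g⁻¹
      simpa using this
    have h2 := mem_centralizer_singleton_iff.1 (hJL h1)
    calc x * (g * zz J * g⁻¹) = g * ((g⁻¹ * x * g) * zz J) * g⁻¹ := by group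
      _ = g * (zz J * (g⁻¹ * x * g)) * g⁻¹ := by rw [h2]
      _ = g * zz J * g⁻¹ * x := by group
  have huni : ∀ L' : Subgroup G, IsComponent L' → L' = L := by
    intro L' hL'
    by_contra hne
    have h1 : (⊤ : Subgroup G) ≤ centralizer (L' : Set G) := by
      rw [← hgen]
      exact sSup_le fun J hJ => comm_other h.hyp hO hev hJ (hB J hJ) hL (hall J hJ) hL' hne
    apply quasisimple_not_isMulCommutative hL'.2
    refine ⟨⟨fun a b => Subtype.ext ?_⟩⟩
    exact mem_centralizer_iff.1 (h1 (mem_top (b : G))) a a.2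
  have hQL : ∀ J ∈ Om, ∀ Q, Syl Q J → Q ≤ L := fun J hJ =>
    (syl_le_component h.hyp hO hJ (hB J hJ) hL (hall J hJ)).2
  refine ⟨L, hL, hN, huni, hQL, ?_, hall, ?_⟩
  · intro J hJ
    exact zz_mem_component h.hyp hO hJ (hB J hJ) hL (hall J hJ)
  · apply le_antisymm
    · intro x hx
      apply hcen
      apply centralizer_genFit_le hO
      refine mem_centralizer_genFit hO (fun L' hL' => ?_) ?_
      · rw [huni L' hL']; exact hx
      · rw [mem_centralizer_iff]
        intro y hy
        exact (mem_center_iff.1 (hcen hy) _).symm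
    · exact center_le_centralizer _

end

end Cfsg.Agent.Cit.OneRed
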