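import Cfsg.Agent.Cit.OnePair
import Cfsg.Agent.GH.QGEnd

/-!
# The SD world for `One Om`

If all pairs of `One Om` are of SD type (`C_Q(t) = ⟨z⟩`) and there is no field part
(`|S : Q C_S(Q)| ≤ 2`), `G` simple, then `S = Q⟨t⟩`; in particular `G` has 2-rank at most two.
-/

set_option autoImplicit false

namespace Cfsg.Agent.Cit.OneSD

open Subgroup Cfsg.Agent.Cit Cfsg.Agent.Cit.OneBasic Cfsg.Agent.GH.QGFrame

variable {G : Type*} [Group G]

/-- the involutions of the members of `Om` -/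
def ZZ (Om : Set (Subgroup G)) : Set G := {z | ∃ K ∈ Om, zz K = z}

open Classical in
/-- the member of `Om` with involution `z` -/
noncomputable def KK (Om : Set (Subgroup G)) (z : G) : Subgroup G :=
  if hz : ∃ K ∈ Om, zz K = z then hz.choose else ⊥

/-- the 2-elements acting trivially on `KK Om z` -/
def XX (Om : Set (Subgroup G)) (z : G) : Set G :=
  {f | IsPGroup 2 (zpowers f) ∧ f * z = z * f ∧ ∃ Q, Syl Q (KK Om z) ∧ ∀ x ∈ Q, f * x = x * f}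

/-- all pairs are of SD type -/
def AllSD (Om : Set (Subgroup G)) : Prop :=
  ∀ K L T Q Q' : Subgroup G, OPair Om K L T Q Q' → ∀ u ∈ Q, u * zz L = zz L * u → u = 1 ∨ u = zz K

variable [Finite G] {Om : Set (Subgroup G)}

theorem KK_eq (h : One Om) {K : Subgroup G} (hK : K ∈ Om) : KK Om (zz K) = K := by
  have hz : ∃ L ∈ Om, zz L = zz K := ⟨K, hK, rfl⟩
  rw [KK, dif_pos hz]
  exact h.eq_of_zz_eq hz.choose_spec.1 hK hz.choose_spec.2

/-- the Sylow 2-subgroup `S ∩ K` of `K` for a Sylow 2-subgroup `S` of `G` centralising `zz K` -/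
theorem syl_inf' (h : One Om) {K S : Subgroup G} (hK : K ∈ Om) (hS : Syl S ⊤)
    (hc : ∀ s ∈ S, s * zz K = zz K * s) : Syl (S ⊓ K) K := by
  have h1 : S ≤ normalizer (K : Set G) := fun s hs => h.mem_normalizer hK (hc s hs)
  obtain ⟨R, hR, hSR, -, hKR⟩ := exists_two_sup hS.2.1 h1
  have h2 : S = R := syl_eq_of_le hS hR le_top hSR
  rw [inf_comm, h2]
  exact hKR

theorem mem_XX_iff (h : One Om) {K : Subgroup G} (hK : K ∈ Om) {f : G} :
    f ∈ XX Om (zz K) ↔ IsPGroup 2 (zpowers f) ∧ f * zz K = zz K * f ∧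
      ∃ Q, Syl Q K ∧ ∀ x ∈ Q, f * x = x * f := by
  rw [XX, Set.mem_setOf_eq, KK_eq h hK]

/-- `S ∩ XX z = C_S(S ∩ K)` -/
theorem mem_XX_iff' (h : One Om) {K S : Subgroup G} (hK : K ∈ Om) (hS : Syl S ⊤)
    (hc : ∀ s ∈ S, s * zz K = zz K * s) {f : G} (hf : f ∈ S) :
    f ∈ XX Om (zz K) ↔ ∀ x ∈ S ⊓ K, f * x = x * f := by
  rw [mem_XX_iff h hK]
  have hfK := h.mem_normalizer hK (hc f hf)
  constructor
  · rintro ⟨h1, h2, Q, hQ, h3⟩
    refine h.hyp.rigid hK hQ (syl_inf' h hK hS hc) hfK h1 h3 ?_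
    rw [mem_normalizer_iff_cj, cj_inf, mem_normalizer_iff_cj.1 hfK,
      mem_normalizer_iff_cj.1 (le_normalizer hf)]
  · intro h1
    exact ⟨hS.2.1.to_le (zpowers_le.2 hf), hc f hf, _, syl_inf' h hK hS hc, h1⟩

/-- a central element of a generalised quaternion group -/
theorem eq_of_central {Q : Subgroup G} {c v z : G} {n : ℕ} (hq : GQ Q c v z n) {u : G} (hu : u ∈ Q)
    (hc : ∀ x ∈ Q, u * x = x * u) : u = 1 ∨ u = z := by
  rcases GH.QSd.cov_zpow hq hu with ⟨i, rfl⟩ | ⟨i, rfl⟩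
  · have h1 := hc v hq.v_mem
    have h2 : v * c ^ i * v⁻¹ = c ^ i := by rw [← h1]; group
    rw [GH.QSd.conj_zpow hq, zpow_neg, inv_eq_iff_mul_eq_one] at h2
    exact hq.zpow_sq (by rw [two_mul, zpow_add]; exact h2)
  · exfalso
    have h1 := hc c hq.c_mem
    have h2 : v * c * c ^ i = c * v * c ^ i := by
      rw [mul_assoc v, (Commute.refl c).zpow_right i |>.eq, ← mul_assoc, h1, mul_assoc]
    exact hq.not_comm (mul_right_cancel h2)

/-- the frame -/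
theorem frame (h : One Om) : Frame (ZZ Om) (KK Om) (XX Om) where
  conj := by
    rintro _ ⟨K, hK, rfl⟩ g
    exact ⟨cj g K, h.hyp.conj K hK g, h.hyp.zz_cj hK g⟩
  sq := by
    rintro _ ⟨K, hK, rfl⟩
    exact h.hyp.zz_mul hK
  ne := by
    rintro _ ⟨K, hK, rfl⟩
    exact h.hyp.zz_ne hK
  K_comm := by
    rintro _ ⟨K, hK, rfl⟩ k hk
    rw [KK_eq h hK] at hk
    exact h.hyp.comm_zz hK (le_normalizer hk)
  X_comm := fun z _ x hx => hx.2.1
  K_cj := by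
    rintro _ ⟨K, hK, rfl⟩ g k hk
    rw [KK_eq h hK] at hk
    rw [← h.hyp.zz_cj hK, KK_eq h (h.hyp.conj K hK g)]
    exact conj_mem_cj hk
  X_cj := by
    rintro _ ⟨K, hK, rfl⟩ g f hf
    rw [mem_XX_iff h hK] at hf
    obtain ⟨h1, h2, Q, hQ, h3⟩ := hf
    rw [← h.hyp.zz_cj hK, mem_XX_iff h (h.hyp.conj K hK g)]
    refine ⟨isPGroup_zpowers_conj h1 g, ?_, cj g Q, hQ.cj g, ?_⟩
    · rw [h.hyp.zz_cj hK]
      calc g * f * g⁻¹ * (g * zz K * g⁻¹) = g * (f * zz K) * g⁻¹ := by group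
        _ = g * (zz K * f) * g⁻¹ := by rw [h2]
        _ = g * zz K * g⁻¹ * (g * f * g⁻¹) := by group
    · intro x hx
      have h4 := h3 _ (mem_cj.1 hx)
      calc g * f * g⁻¹ * x = g * (f * (g⁻¹ * x * g)) * g⁻¹ := by group
        _ = g * ((g⁻¹ * x * g) * f) * g⁻¹ := by rw [h4]
        _ = x * (g * f * g⁻¹) := by group
  zK := by
    rintro _ ⟨K, hK, rfl⟩
    rw [KK_eq h hK]
    exact h.hyp.zz_mem hK
  zX := by
    rintro _ ⟨K, hK, rfl⟩
    rw [mem_XX_iff h hK]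
    obtain ⟨Q, hQ⟩ := Hyp.exists_syl K
    refine ⟨isPGroup_zpowers_of_sq (h.hyp.zz_mul hK), rfl, Q, hQ, ?_⟩
    intro x hx
    exact (h.hyp.comm_zz hK (le_normalizer (hQ.1 hx))).symm
  comm := by
    rintro _ ⟨K, hK, rfl⟩ P hP a haP haK b hbP hbX
    rw [KK_eq h hK] at haK
    rw [mem_XX_iff h hK] at hbX
    obtain ⟨h1, h2, Q, hQ, h3⟩ := hbX
    have hbK := h.mem_normalizer hK h2
    have haK' : a ∈ normalizer (K : Set G) := le_normalizer haK
    have hA : IsPGroup 2 (P ⊓ normalizer (K : Set G) : Subgroup G) := hP.to_le inf_le_left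
    obtain ⟨R, hR, hAR, -, hKR⟩ := exists_two_sup hA inf_le_right
    have haR : a ∈ R := hAR ⟨haP, haK'⟩
    have hbR : b ∈ R := hAR ⟨hbP, hbK⟩
    refine (h.hyp.rigid hK hQ hKR hbK h1 h3 ?_ a ⟨haK, haR⟩).symm
    rw [mem_normalizer_iff_cj, cj_inf, mem_normalizer_iff_cj.1 hbK,
      mem_normalizer_iff_cj.1 (le_normalizer hbR)]
  inf := by
    rintro _ ⟨K, hK, rfl⟩ a ha haK haX
    rw [KK_eq h hK] at haK
    rw [mem_XX_iff h hK] at haX
    obtain ⟨h1, h2, Q, hQ, h3⟩ := haX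
    have haQ : a ∈ Q := mem_syl_of_comm hQ h1 haK h3
    obtain ⟨c, v, n, hq⟩ := h.hyp.exists_gq hK hQ
    exact eq_of_central hq haQ h3
  X_mul := by
    rintro _ S ⟨⟨K, hK, rfl⟩, hS, hc⟩ a haS ha b hbS hb
    rw [mem_XX_iff' h hK hS hc haS] at ha
    rw [mem_XX_iff' h hK hS hc hbS] at hb
    rw [mem_XX_iff' h hK hS hc (S.mul_mem haS hbS)]
    intro x hx
    rw [mul_assoc, hb x hx, ← mul_assoc, ha x hx, mul_assoc]
  X_inv := by
    rintro _ S ⟨⟨K, hK, rfl⟩, hS, hc⟩ a haS ha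
    rw [mem_XX_iff' h hK hS hc haS] at ha
    rw [mem_XX_iff' h hK hS hc (S.inv_mem haS)]
    intro x hx
    exact ((show Commute a x from ha x hx).inv_left).eq
  big := by
    rintro _ ⟨K, hK, rfl⟩
    obtain ⟨Q, hQ⟩ := Hyp.exists_syl K
    obtain ⟨S, hS, hQS⟩ := exists_syl_ge hQ.2.1 (le_top : Q ≤ ⊤)
    refine ⟨S, hS, fun s hs => ?_⟩
    exact h.hyp.comm_zz hK (h.le_normalizer_self hS.2.1 (mem_OmS_of_le hK hQ hQS) hs)
  quat := by
    rintro _ ⟨K, hK, rfl⟩ S hS hc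
    rw [KK_eq h hK]
    exact h.hyp.isGQ hK (syl_inf' h hK hS hc)
  scen := by
    rintro _ ⟨K, hK, rfl⟩ _ ⟨L, hL, rfl⟩ hX
    rw [mem_XX_iff h hK] at hX
    obtain ⟨h1, h2, Q, hQ, h3⟩ := hX
    rw [h.eq_of_cent hK hL hQ h3]

/-- the SD property in a Sylow 2-subgroup -/
theorem cent (h : One Om) (hSD : AllSD Om) {K L S : Subgroup G} (hK : K ∈ Om) (hL : L ∈ Om)
    (hS : Syl S ⊤) (hc : ∀ s ∈ S, s * zz K = zz K * s) (hLS : zz L ∈ S) (hne : zz L ≠ zz K) {q : G}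
    (hqS : q ∈ S) (hqK : q ∈ K) (hqL : q * zz L = zz L * q) : q = 1 ∨ q = zz K := by
  have hKL : K ≠ L := fun e => hne (by rw [e])
  have hP : IsPGroup 2 (S ⊓ centralizer {zz L} : Subgroup G) := hS.2.1.to_le inf_le_left
  obtain ⟨T, Q, Q', hPT, p⟩ := h.exists_pair hK hL hKL (hc _ hLS).symm hP
    (fun s hs => h.mem_normalizer hK (hc s hs.1))
    (fun s hs => h.mem_normalizer hL (mem_centralizer_singleton_iff.1 hs.2))
  have hqT : q ∈ T := hPT ⟨hqS, mem_centralizer_singleton_iff.2 hqL⟩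
  have hqQ : q ∈ Q := by
    have h1 : zpowers q ≤ Q := by
      refine syl_le_of_normalizes' p.hQ (p.tp.to_le (zpowers_le.2 hqT)) (zpowers_le.2 hqK) ?_
      rw [zpowers_le]
      exact p.hTQ hqT
    exact h1 (mem_zpowers q)
  exact hSD K L T Q Q' p q hqQ hqL

/-- **World gamma for `One Om`**: cover form -/
theorem gamma (h : One Om) (hSD : AllSD Om)
    (hcov : ∀ K ∈ Om, ∀ S, Syl S ⊤ → (∀ s ∈ S, s * zz K = zz K * s) → ∀ L ∈ Om, zz L ∈ S →
      zz L ≠ zz K → ∀ s ∈ S, ∃ q ∈ S ⊓ K, (∀ x ∈ S ⊓ K, (q⁻¹ * s) * x = x * (q⁻¹ * s)) ∨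
        (∀ x ∈ S ⊓ K, (q⁻¹ * s * zz L) * x = x * (q⁻¹ * s * zz L))) :
    Gamma (ZZ Om) (KK Om) (XX Om) where
  toFrame := frame h
  cent := by
    rintro _ S ⟨⟨K, hK, rfl⟩, hS, hc⟩ _ ⟨L, hL, rfl⟩ hLS hne q hqS hqK hqL
    rw [KK_eq h hK] at hqK
    exact cent h hSD hK hL hS hc hLS hne hqS hqK hqL
  cover := by
    rintro _ S ⟨⟨K, hK, rfl⟩, hS, hc⟩ _ ⟨L, hL, rfl⟩ hLS hne s hs
    obtain ⟨q, ⟨hqS, hqK⟩, hq⟩ := hcov K hK S hS hc L hL hLS hne s hs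
    refine ⟨q, hqS, by rwa [KK_eq h hK], ?_⟩
    rcases hq with hq | hq
    · refine ⟨q⁻¹ * s, S.mul_mem (S.inv_mem hqS) hs, ?_, Or.inl (by group)⟩
      exact (mem_XX_iff' h hK hS hc (S.mul_mem (S.inv_mem hqS) hs)).2 hq
    · have h1 := S.mul_mem (S.mul_mem (S.inv_mem hqS) hs) hLS
      refine ⟨q⁻¹ * s * zz L, h1, (mem_XX_iff' h hK hS hc h1).2 hq, Or.inr ?_⟩
      have h2 := h.hyp.zz_mul hL
      calc s = q * (q⁻¹ * s) * (zz L * zz L) := by rw [h2]; group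
        _ = q * (q⁻¹ * s * zz L) * zz L := by group

/-- the cover property from `|S : Q C_S(Q)| ≤ 2` -/
theorem cover_of_index (h : One Om) (hSD : AllSD Om)
    {K S : Subgroup G} (hK : K ∈ Om) (hS : Syl S ⊤) (hc : ∀ s ∈ S, s * zz K = zz K * s)
    {M : Subgroup G} (hM : ∀ m ∈ M, ∃ q ∈ S ⊓ K, ∀ x ∈ S ⊓ K, (q⁻¹ * m) * x = x * (q⁻¹ * m))
    (hMS : M ≤ S) (hidx : M.relIndex S ≤ 2) {L : Subgroup G} (hL : L ∈ Om) (hLS : zz L ∈ S)
    (hne : zz L ≠ zz K) {s : G} (hs : s ∈ S) :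
    ∃ q ∈ S ⊓ K, (∀ x ∈ S ⊓ K, (q⁻¹ * s) * x = x * (q⁻¹ * s)) ∨
        (∀ x ∈ S ⊓ K, (q⁻¹ * s * zz L) * x = x * (q⁻¹ * s * zz L)) := by
  have hLM : zz L ∉ M := by
    intro hLM
    obtain ⟨q, hq, hx⟩ := hM _ hLM
    -- `q` commutes with `zz L`
    have h1 : q * zz L = zz L * q := by
      have := hx q hq
      calc q * zz L = q * (q * (q⁻¹ * zz L)) := by group
        _ = q * ((q⁻¹ * zz L) * q) := by rw [← this]
        _ = zz L * q := by group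
    have hq' := cent h hSD hK hL hS hc hLS hne hq.1 hq.2 h1
    have h2 : ∀ x ∈ S ⊓ K, zz L * x = x * zz L := by
      intro x hx'
      rcases hq' with e | e
      · have := hx x hx'
        rw [e] at this
        simpa using this
      · have h3 := hx x hx'
        rw [e, h.hyp.zz_inv hK] at h3
        have h4 := hc x hx'.1
        have h5 : zz K * (zz L * x) = zz K * (x * zz L) := by
          calc zz K * (zz L * x) = zz K * zz L * x := by group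
            _ = x * (zz K * zz L) := h3
            _ = (x * zz K) * zz L := by group
            _ = zz K * (x * zz L) := by rw [h4]; group
        exact mul_left_cancel h5
    exact hne (by rw [h.eq_of_cent hK hL (syl_inf' h hK hS hc) h2])
  by_cases hsM : s ∈ M
  · obtain ⟨q, hq, hx⟩ := hM s hsM
    exact ⟨q, hq, Or.inl hx⟩
  · have hsL : s * zz L ∈ M := by
      -- index two
      have h2 : (M.subgroupOf S).index ≤ 2 := hidx
      have h3 : (M.subgroupOf S).index ≠ 0 := index_ne_zero_of_finite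
      have h4 : (M.subgroupOf S).index ≠ 1 := by
        intro h4
        rw [index_eq_one, subgroupOf_eq_top] at h4
        exact hLM (h4 hLS)
      have h5 : (M.subgroupOf S).index = 2 := by omega
      have h6 := (Subgroup.mul_mem_iff_of_index_two h5 (a := ⟨s, hs⟩) (b := ⟨zz L, hLS⟩)).2
        ⟨fun h7 => absurd (mem_subgroupOf.1 h7) hsM, fun h7 => absurd (mem_subgroupOf.1 h7) hLM⟩
      exact mem_subgroupOf.1 h6
    obtain ⟨q, hq, hx⟩ := hM _ hsL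
    refine ⟨q, hq, Or.inr ?_⟩
    intro x hx'
    have := hx x hx'
    rwa [← mul_assoc] at this

/-- `|S : Q C_S(Q)| ≤ 2` for the member `K` -/
def Idx (K S : Subgroup G) : Prop :=
  ∃ M ≤ S, (∀ m ∈ M, ∃ q ∈ S ⊓ K, ∀ x ∈ S ⊓ K, (q⁻¹ * m) * x = x * (q⁻¹ * m)) ∧ M.relIndex S ≤ 2

/-- **The SD world for `One Om`**: `S = Q ∪ Q t` -/
theorem main [IsSimpleGroup G] (hna : ¬ ∀ a b : G, a * b = b * a)
    (hC1 : ∀ (P : Sylow 2 G) (A B : Subgroup G), A ⊓ B = ⊥ → Cfsg.IsStronglyClosed A P →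
      Cfsg.IsStronglyClosed B P →
      ⁅normalClosure (A : Set G), normalClosure (B : Set G)⁆ ≤ Cfsg.oddCore G)
    (h : One Om) (hSD : AllSD Om)
    (hidx : ∀ K ∈ Om, ∀ S, Syl S ⊤ → (∀ s ∈ S, s * zz K = zz K * s) → Idx K S)
    {K L S : Subgroup G} (hK : K ∈ Om) (hL : L ∈ Om) (hS : Syl S ⊤)
    (hc : ∀ s ∈ S, s * zz K = zz K * s) (hLS : zz L ∈ S) (hne : zz L ≠ zz K) :
    (∀ s ∈ S, s ∈ K ∨ s * zz L ∈ K) ∧
      ∀ A : Subgroup G, (∀ x ∈ A, x * x = 1) → Nat.card A ≤ 4 := by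
  have hG := gamma h hSD (fun K hK S hS hc L hL hLS hne s hs => by
    obtain ⟨M, hMS, hM, hi⟩ := hidx K hK S hS hc
    exact cover_of_index h hSD hK hS hc hM hMS hi hL hLS hne hs)
  have a : At (ZZ Om) (zz K) S := ⟨⟨K, hK, rfl⟩, hS, hc⟩
  have hLZ : zz L ∈ ZZ Om := ⟨L, hL, rfl⟩
  refine ⟨?_, fun A hA => GH.QGEnd.card_le_four' hna hC1 hG a hLZ hLS hne hA⟩
  intro s hs
  have h1 := GH.QGEnd.E_eq hna hC1 hG a hLZ hLS hne
  rw [← h1, GH.QGEnd.mem_E, KK_eq h hK] at hs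
  exact hs.2

end Cfsg.Agent.Cit.OneSD
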