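import Cfsg.Agent.Cit.OneSD
import Cfsg.Agent.Cit.OneChi
import Cfsg.Agent.GH.QGEndTwo

/-!
# The SD world for `One Om`: `S` is semidihedral

All pairs of `One Om` of SD type, no subgroup of index two: `S` is semidihedral, either from `F = 1`
for all pairs, or from `O(G) = 1`, trivial centralizers of nonsolvable normal subgroups and C1.
-/

set_option autoImplicit false

namespace Cfsg.Agent.Cit.OneSDMain

open Subgroup Cfsg.Agent.Cit Cfsg.Agent.Cit.OneBasic Cfsg.Agent.GH.QGFrame Cfsg.Agent.Cit.OneSD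

variable {G : Type*} [Group G] [Finite G] {Om : Set (Subgroup G)}

omit [Group G] [Finite G] in
/-- no subgroup of index two: no normal subgroup of 2-power index -/
theorem eq_zero_of_index [Group G] [Finite G] (hidx : ∀ H : Subgroup G, H.index ≠ 2) (N : Subgroup G)
    (hN : N.Normal) (k : ℕ) (hk : N.index = 2 ^ k) : k = 0 := by
  haveI : Fact (Nat.Prime 2) := ⟨Nat.prime_two⟩
  by_contra hk0
  obtain ⟨j, rfl⟩ := Nat.exists_eq_succ_of_ne_zero hk0
  have hcard : Nat.card (G ⧸ N) = 2 ^ (j + 1) := by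
    rw [← hk, Subgroup.index_eq_card]
  obtain ⟨H, hH⟩ := Sylow.exists_subgroup_card_pow_prime (G := G ⧸ N) 2 (n := j)
    (by rw [hcard, pow_succ]; exact Dvd.intro _ rfl)
  apply hidx (H.comap (QuotientGroup.mk' N))
  rw [index_comap_of_surjective _ (QuotientGroup.mk'_surjective N)]
  have h1 := H.card_mul_index
  rw [hH, hcard, pow_succ] at h1
  exact Nat.eq_of_mul_eq_mul_left (by positivity) h1

/-- the index condition from the field homomorphism -/
theorem idx (h : One Om) (hidx : ∀ H : Subgroup G, H.index ≠ 2) {K S : Subgroup G} (hK : K ∈ Om)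
    (hS : Syl S ⊤) (hc : ∀ s ∈ S, s * zz K = zz K * s) : Idx K S := by
  have hQ := syl_inf' h hK hS hc
  have hKS : K ∈ OmS Om S := mem_OmS_of_le hK hQ inf_le_left
  have hSK : S ≤ normalizer (K : Set G) := h.le_normalizer_self hS.2.1 hKS
  obtain ⟨x, y, n, hg, hx⟩ := OneChi.exists_coord h hS.2.1 hKS (eq_zero_of_index hidx)
  rw [inf_comm] at hg
  have hSQ : S ≤ normalizer ((S ⊓ K : Subgroup G) : Set G) := by
    intro s hs
    rw [mem_normalizer_iff_cj, cj_inf, mem_normalizer_iff_cj.1 (hSK hs),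
      mem_normalizer_iff_cj.1 (le_normalizer hs)]
  refine ⟨(S ⊓ K) ⊔ (S ⊓ centralizer ((S ⊓ K : Subgroup G) : Set G)), sup_le inf_le_left inf_le_left,
    ?_, ?_⟩
  · intro m hm
    rw [sup_comm] at hm
    have hn : S ⊓ centralizer ((S ⊓ K : Subgroup G) : Set G) ≤
        normalizer ((S ⊓ K : Subgroup G) : Set G) := inf_le_left.trans hSQ
    obtain ⟨d, hd, q, hq, rfl⟩ := exists_mul_of_mem_sup hn hm
    have hcom : ∀ u ∈ S ⊓ K, d * u = u * d := fun u hu => (mem_centralizer_iff.1 hd.2 u hu).symm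
    refine ⟨q, hq, ?_⟩
    intro u hu
    have h1 : q⁻¹ * (d * q) = d := by
      rw [hcom q hq]; group
    rw [h1]
    exact hcom u hu
  · rcases OneChi.relIndex_le hg inf_le_left hSQ hx with h1 | h1 <;> rw [h1]
    omega

/-- the `Gamma` structure -/
theorem gamma' (h : One Om) (hSD : AllSD Om) (hidx : ∀ H : Subgroup G, H.index ≠ 2) :
    Gamma (ZZ Om) (KK Om) (XX Om) :=
  gamma h hSD (fun K hK S hS hc L hL hLS hne s hs => by
    obtain ⟨M, hMS, hM, hi⟩ := idx h hidx hK hS hc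
    exact cover_of_index h hSD hK hS hc hM hMS hi hL hLS hne hs)

/-- **The SD world**, with `F = 1` for all pairs as a hypothesis -/
theorem main_of_F (h : One Om) (hSD : AllSD Om) (hidx : ∀ H : Subgroup G, H.index ≠ 2)
    (hF : ∀ K L T Q Q' : Subgroup G, OPair Om K L T Q Q' → ∀ f ∈ T, (∀ x ∈ Q, f * x = x * f) →
      (∀ x ∈ Q', f * x = x * f) → f = 1)
    {K L S : Subgroup G} (hL : L ∈ Om) (hS : Syl S ⊤) (hKS : K ∈ OmS Om S) (hLS : zz L ∈ S)
    (hne : zz L ≠ zz K) : Cfsg.IsQuasiDihedral S := by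
  have hK := hKS.1
  have hc : ∀ s ∈ S, s * zz K = zz K * s := fun s hs =>
    h.hyp.comm_zz hK (h.le_normalizer_self hS.2.1 hKS hs)
  have hG := gamma' h hSD hidx
  have a : At (ZZ Om) (zz K) S := ⟨⟨K, hK, rfl⟩, hS, hc⟩
  have hLZ : zz L ∈ ZZ Om := ⟨L, hL, rfl⟩
  have hF' : GH.QGClosed.F hG a hLZ hLS hne = ⊥ := by
    rw [eq_bot_iff]
    rintro f ⟨hfS, hf⟩
    rw [mem_bot]
    obtain ⟨h1, h2⟩ := (GH.QGClosed.FF_iff hG a hLZ hLS hne hfS).1 hf
    rw [mem_XX_iff h hK] at h1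
    rw [mem_XX_iff h hL] at h2
    obtain ⟨hf2, hfz, Q₁, hQ₁, hfQ₁⟩ := h1
    obtain ⟨-, hft, Q₂, hQ₂, hfQ₂⟩ := h2
    have hKL : K ≠ L := fun e => hne (by rw [e])
    have hfK := h.mem_normalizer hK hfz
    have hfL := h.mem_normalizer hL hft
    obtain ⟨T, Q, Q', hPT, p⟩ := h.exists_pair hK hL hKL (hc _ hLS).symm hf2
      (zpowers_le.2 hfK) (zpowers_le.2 hfL)
    have hfT : f ∈ T := hPT (mem_zpowers f)
    exact hF K L T Q Q' p f hfT (h.hyp.rigid hK hQ₁ p.hQ hfK hf2 hfQ₁ (p.hTQ hfT))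
      (h.hyp.rigid hL hQ₂ p.hQ' hfL hf2 hfQ₂ (p.hTQ' hfT))
  have h1 := GH.QGEndTwo.E_eq_of_F hidx hG a hLZ hLS hne hF'
  obtain ⟨c, v, n, hsd⟩ := GH.QGamma.exists_sd' hG a hLZ hLS hne
  refine GH.QGEndTwo.isQuasiDihedral hsd inf_le_left hLS ?_ ?_
  · intro h2
    exact hne (hsd.gq.eq_z h2 (h.hyp.zz_mul hL) (h.hyp.zz_ne hL))
  · intro s hs
    have h2 := hs
    rw [← h1, GH.QGEnd.mem_E] at h2
    rcases h2.2 with h3 | h3
    · exact Or.inl ⟨hs, h3⟩
    · exact Or.inr ⟨S.mul_mem hs hLS, h3⟩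

/-- **The SD world**, from C1 -/
theorem main (h : One Om) (hSD : AllSD Om) (ho : Cfsg.oddCore G = ⊥)
    (hidx : ∀ H : Subgroup G, H.index ≠ 2)
    (hcen : ∀ N : Subgroup G, N.Normal → ¬ Group.IsSolvable N → centralizer (N : Set G) = ⊥)
    (hC1 : ∀ (P : Sylow 2 G) (A B : Subgroup G), A ⊓ B = ⊥ → Cfsg.IsStronglyClosed A P →
      Cfsg.IsStronglyClosed B P →
      ⁅normalClosure (A : Set G), normalClosure (B : Set G)⁆ ≤ Cfsg.oddCore G)
    {K L S : Subgroup G} (hL : L ∈ Om) (hS : Syl S ⊤) (hKS : K ∈ OmS Om S) (hLS : zz L ∈ S)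
    (hne : zz L ≠ zz K) : Cfsg.IsQuasiDihedral S := by
  have hK := hKS.1
  have hc : ∀ s ∈ S, s * zz K = zz K * s := fun s hs =>
    h.hyp.comm_zz hK (h.le_normalizer_self hS.2.1 hKS hs)
  have hG := gamma' h hSD hidx
  have a : At (ZZ Om) (zz K) S := ⟨⟨K, hK, rfl⟩, hS, hc⟩
  exact GH.QGEndTwo.main ho hidx hcen hC1 hG a ⟨L, hL, rfl⟩ hLS hne

end Cfsg.Agent.Cit.OneSDMain
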