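import Cfsg.Agent.Cit.OneBasic
import Cfsg.Agent.Cit.OneQuat
import Cfsg.Agent.Cit.OnePair

/-!
# Classical involutions, `|Om(S)| = 1`: the diagonal sign `theta`

For `K ∈ Om` and `a ∈ N(K)`, `th K a` is the sign of the permutation of a Sylow 2-subgroup `Q` of `K` induced
by `k a`, where `k ∈ K` is such that `k a` normalises `Q`.  If `Q = ⟨x, y⟩` is generalised quaternion and
`a` maps `x` into `⟨x⟩` and `y` to `y x^j`, then `th K a = (-1)^j`.

`th K` is a homomorphism on `N(K)`, trivial on `K` and on the elements centralising a Sylow 2-subgroup of `K`.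
For a pair of commuting classical involutions `z`, `t`, `th K t = 1` iff the pair is of type `W`.
-/

set_option autoImplicit false
set_option linter.style.haveILetI false
set_option linter.unusedSectionVars false
set_option linter.unusedVariables false

namespace Cfsg.Agent.Cit

open Subgroup Cfsg OneBasic

variable {G : Type*} [Group G]

namespace OneBasic

/-! ### The sign of the action on a subgroup -/

section ZModSign

/-- the translation by `1` of `ZMod N`, `N` even, is odd -/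
theorem sign_addOne (N : ℕ) [NeZero N] (hN : Even N) :
    Equiv.Perm.sign (Equiv.addRight (1 : ZMod N)) = -1 := by
  obtain ⟨m, rfl⟩ := Nat.exists_eq_succ_of_ne_zero (NeZero.ne N)
  have h3 : Odd m := by
    rcases Nat.even_or_odd m with h | h
    · exact absurd h (Nat.even_add_one.1 hN)
    · exact h
  have h1 : Equiv.Perm.sign (finRotate (m + 1)) = -1 := by
    rw [sign_finRotate]
    simpa using h3.neg_one_pow
  rw [← h1]
  symm
  apply Equiv.Perm.sign_eq_sign_of_equiv _ _ (ZMod.finEquiv (m + 1)).toEquiv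
  intro i
  rw [finRotate_apply]
  simp

/-- the sign of translations as a homomorphism -/
noncomputable def trHom (N : ℕ) [NeZero N] : ZMod N →+ Additive ℤˣ where
  toFun i := Additive.ofMul (Equiv.Perm.sign (Equiv.addRight i))
  map_zero' := by simp
  map_add' i j := by
    rw [← ofMul_mul, ← Equiv.Perm.sign_mul]
    congr 2
    ext k
    simp [add_assoc, add_comm j]

theorem sign_addRight (N : ℕ) [NeZero N] (hN : Even N) (j : ℤ) :
    Equiv.Perm.sign (Equiv.addRight ((j : ℤ) : ZMod N)) = (-1 : ℤˣ) ^ j := by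
  have h1 := map_zsmul (trHom N) j 1
  rw [zsmul_one] at h1
  have h2 : trHom N 1 = Additive.ofMul (-1 : ℤˣ) := by
    change Additive.ofMul (Equiv.Perm.sign (Equiv.addRight (1 : ZMod N))) = _
    rw [sign_addOne N hN]
  rw [h2, ← ofMul_zpow] at h1
  exact Additive.ofMul.injective h1

end ZModSign

section Sgn

variable [Finite G]

/-- the permutation of `Q` induced by an element of `N(Q)` -/
def permQ (Q : Subgroup G) : normalizer (Q : Set G) →* Equiv.Perm Q :=
  (MulAut.toPerm Q).comp Q.normalizerMonoidHom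

theorem permQ_apply (Q : Subgroup G) (g : normalizer (Q : Set G)) (x : Q) :
    (permQ Q g x : G) = g * x * (g : G)⁻¹ := rfl

open Classical in
/-- the sign of the permutation of `Q` induced by conjugation by an element of `N(Q)` -/
noncomputable def sgnH (Q : Subgroup G) : normalizer (Q : Set G) →* ℤˣ :=
  letI : Fintype Q := Fintype.ofFinite Q
  (Equiv.Perm.sign (α := Q)).comp (permQ Q)

open Classical in
theorem sgnH_eq (Q : Subgroup G) [Fintype Q] [DecidableEq Q] (g : normalizer (Q : Set G)) :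
    sgnH Q g = Equiv.Perm.sign (permQ Q g) := by
  unfold sgnH
  simp only [MonoidHom.comp_apply]
  congr!

open Classical in
/-- total version -/
noncomputable def sgn (Q : Subgroup G) (g : G) : ℤˣ :=
  if hg : g ∈ normalizer (Q : Set G) then sgnH Q ⟨g, hg⟩ else 1

theorem sgn_def {Q : Subgroup G} {g : G} (hg : g ∈ normalizer (Q : Set G)) : sgn Q g = sgnH Q ⟨g, hg⟩ := by
  rw [sgn, dif_pos hg]

theorem sgn_mul {Q : Subgroup G} {a b : G} (ha : a ∈ normalizer (Q : Set G))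
    (hb : b ∈ normalizer (Q : Set G)) : sgn Q (a * b) = sgn Q a * sgn Q b := by
  rw [sgn_def ha, sgn_def hb, sgn_def (mul_mem ha hb), ← map_mul]
  rfl

theorem sgn_one (Q : Subgroup G) : sgn Q 1 = 1 := by
  rw [sgn_def (one_mem _)]
  exact map_one _

theorem sgn_inv {Q : Subgroup G} {a : G} (ha : a ∈ normalizer (Q : Set G)) : sgn Q a⁻¹ = sgn Q a := by
  have h1 := sgn_mul ha (inv_mem ha)
  rw [mul_inv_cancel, sgn_one] at h1
  have h2 : sgn Q a * sgn Q a = 1 := Int.units_mul_self _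
  exact (mul_left_cancel (h2.trans h1)).symm

theorem sgn_pow {Q : Subgroup G} {a : G} (ha : a ∈ normalizer (Q : Set G)) (k : ℕ) :
    sgn Q (a ^ k) = sgn Q a ^ k := by
  induction k with
  | zero => simp [sgn_one]
  | succ k ih => rw [pow_succ, pow_succ, sgn_mul (pow_mem ha k) ha, ih]

/-- transport of the sign -/
theorem sgn_cj {Q : Subgroup G} {a : G} (ha : a ∈ normalizer (Q : Set G)) (g : G) :
    sgn (cj g Q) (g * a * g⁻¹) = sgn Q a := by
  classical
  haveI : Fintype Q := Fintype.ofFinite Q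
  haveI : Fintype (cj g Q) := Fintype.ofFinite _
  have hb : g * a * g⁻¹ ∈ normalizer (cj g Q : Set G) := by
    rw [mem_normalizer_iff_cj, ← cj_mul]
    have : g * a * g⁻¹ * g = g * a := by group
    rw [this, cj_mul, mem_normalizer_iff_cj.1 ha]
  rw [sgn_def ha, sgn_def hb, sgnH_eq, sgnH_eq]
  symm
  apply Equiv.Perm.sign_eq_sign_of_equiv _ _ (cjEquiv g Q).toEquiv
  intro x
  apply Subtype.ext
  rw [permQ_apply]
  change g * (a * x * a⁻¹) * g⁻¹ = g * a * g⁻¹ * (g * x * g⁻¹) * (g * a * g⁻¹)⁻¹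
  group

end Sgn

end OneBasic

/-! ### The sign in coordinates -/

namespace GQ

variable [Finite G] {Q : Subgroup G} {c v z : G} {n : ℕ}

/-- the map `ZMod N ⊕ ZMod N → Q` -/
noncomputable def fn (h : GQ Q c v z n) : ZMod (2 ^ (n + 2)) ⊕ ZMod (2 ^ (n + 2)) → Q
  | Sum.inl i => ⟨c ^ (i.cast : ℤ), Q.zpow_mem h.c_mem _⟩
  | Sum.inr i => ⟨v * c ^ (i.cast : ℤ), Q.mul_mem h.v_mem (Q.zpow_mem h.c_mem _)⟩

theorem zpow_cast (h : GQ Q c v z n) (j : ℤ) : c ^ (((j : ZMod (2 ^ (n + 2))).cast : ℤ)) = c ^ j := by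
  rw [← mul_inv_eq_one, ← zpow_neg, ← zpow_add, ← sub_eq_add_neg, h.zpow_eq_one_iff]
  have h1 : ((2 ^ (n + 2) : ℕ) : ℤ) ∣ ((j : ZMod (2 ^ (n + 2))).cast : ℤ) - j := by
    rw [← ZMod.intCast_zmod_eq_zero_iff_dvd]
    push_cast
    exact sub_self _
  simpa using h1

theorem fn_inj (h : GQ Q c v z n) : Function.Injective h.fn := by
  have key : ∀ i j : ZMod (2 ^ (n + 2)), c ^ (i.cast : ℤ) = c ^ (j.cast : ℤ) → i = j := by
    intro i j hij
    rw [← mul_inv_eq_one, ← zpow_neg, ← zpow_add, ← sub_eq_add_neg, h.zpow_eq_one_iff] at hij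
    have h1 : ((2 ^ (n + 2) : ℕ) : ℤ) ∣ (i.cast : ℤ) - (j.cast : ℤ) := by simpa using hij
    rw [← ZMod.intCast_zmod_eq_zero_iff_dvd] at h1
    push_cast at h1
    exact sub_eq_zero.1 h1
  rintro (i | i) (j | j) hij
  · have h1 : c ^ (i.cast : ℤ) = c ^ (j.cast : ℤ) := congrArg Subtype.val hij
    rw [key i j h1]
  · exfalso
    have h1 : c ^ (i.cast : ℤ) = v * c ^ (j.cast : ℤ) := congrArg Subtype.val hij
    apply h.vc_not_mem (j.cast : ℤ)
    rw [← h1]
    exact zpow_mem (mem_zpowers c) _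
  · exfalso
    have h1 : v * c ^ (i.cast : ℤ) = c ^ (j.cast : ℤ) := congrArg Subtype.val hij
    apply h.vc_not_mem (i.cast : ℤ)
    rw [h1]
    exact zpow_mem (mem_zpowers c) _
  · have h1 : v * c ^ (i.cast : ℤ) = v * c ^ (j.cast : ℤ) := congrArg Subtype.val hij
    rw [key i j (mul_left_cancel h1)]

theorem fn_surj (h : GQ Q c v z n) : Function.Surjective h.fn := by
  rintro ⟨q, hq⟩
  rcases h.covZ hq with ⟨i, hi⟩ | ⟨i, hi⟩
  · refine ⟨Sum.inl (i : ZMod _), Subtype.ext ?_⟩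
    change c ^ _ = q
    rw [h.zpow_cast]
    exact hi
  · refine ⟨Sum.inr (i : ZMod _), Subtype.ext ?_⟩
    change v * c ^ _ = q
    rw [h.zpow_cast, hi]

/-- **the sign in coordinates** -/
theorem sgn_eq (h : GQ Q c v z n) {g : G} (hg : g ∈ normalizer (Q : Set G)) {k j : ℤ}
    (hc : g * c * g⁻¹ = c ^ k) (hv : g * v * g⁻¹ = v * c ^ j) : sgn Q g = (-1 : ℤˣ) ^ j := by
  classical
  haveI : Fintype Q := Fintype.ofFinite Q
  haveI : NeZero (2 ^ (n + 2)) := ⟨by positivity⟩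
  have hev : Even (2 ^ (n + 2)) := (Nat.even_pow.2 ⟨even_two, by omega⟩)
  -- multiplication by `k`
  have hcz : ∀ i : ℤ, g * c ^ i * g⁻¹ = c ^ (k * i) := fun i => conj_zpow_pow hc i
  have hkinj : Function.Injective (fun i : ZMod (2 ^ (n + 2)) => (k : ZMod (2 ^ (n + 2))) * i) := by
    intro a b hab
    have h1 : h.fn (Sum.inl a) = h.fn (Sum.inl b) := by
      apply Subtype.ext
      change c ^ (a.cast : ℤ) = c ^ (b.cast : ℤ)
      have h2 : ∀ a : ZMod (2 ^ (n + 2)), g * c ^ (a.cast : ℤ) * g⁻¹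
          = c ^ ((((k : ZMod (2 ^ (n + 2))) * a).cast : ℤ)) := by
        intro a
        rw [hcz]
        have h3 : (k : ZMod (2 ^ (n + 2))) * a = ((k * (a.cast : ℤ) : ℤ) : ZMod (2 ^ (n + 2))) := by
          push_cast
          rfl
        rw [h3, h.zpow_cast]
      have h3 : g * c ^ (a.cast : ℤ) * g⁻¹ = g * c ^ (b.cast : ℤ) * g⁻¹ := by
        rw [h2, h2]
        have hab' : (k : ZMod (2 ^ (n + 2))) * a = (k : ZMod (2 ^ (n + 2))) * b := hab
        rw [hab']
      exact mul_left_cancel (mul_right_cancel h3)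
    exact Sum.inl_injective (h.fn_inj h1)
  set μ : Equiv.Perm (ZMod (2 ^ (n + 2))) :=
    Equiv.ofBijective _ ((Finite.injective_iff_bijective).1 hkinj) with hμ
  set e : ZMod (2 ^ (n + 2)) ⊕ ZMod (2 ^ (n + 2)) ≃ Q := Equiv.ofBijective h.fn ⟨h.fn_inj, h.fn_surj⟩
    with he
  have h1 : Equiv.Perm.sign (Equiv.Perm.sumCongr μ (μ.trans (Equiv.addRight ((j : ℤ) : ZMod (2 ^ (n + 2))))))
      = Equiv.Perm.sign (permQ Q ⟨g, hg⟩) := by
    apply Equiv.Perm.sign_eq_sign_of_equiv _ _ e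
    rintro (i | i)
    · apply Subtype.ext
      rw [permQ_apply]
      change c ^ ((((k : ZMod (2 ^ (n + 2))) * i).cast : ℤ)) = g * c ^ (i.cast : ℤ) * g⁻¹
      have h3 : (k : ZMod (2 ^ (n + 2))) * i = ((k * (i.cast : ℤ) : ℤ) : ZMod (2 ^ (n + 2))) := by
        push_cast
        rfl
      rw [h3, h.zpow_cast, hcz]
    · apply Subtype.ext
      rw [permQ_apply]
      change v * c ^ ((((k : ZMod (2 ^ (n + 2))) * i + (j : ZMod (2 ^ (n + 2)))).cast : ℤ))
        = g * (v * c ^ (i.cast : ℤ)) * g⁻¹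
      have h3 : (k : ZMod (2 ^ (n + 2))) * i + (j : ZMod (2 ^ (n + 2)))
          = ((k * (i.cast : ℤ) + j : ℤ) : ZMod (2 ^ (n + 2))) := by
        push_cast
        rfl
      rw [h3, h.zpow_cast]
      have h4 : g * (v * c ^ (i.cast : ℤ)) * g⁻¹ = (g * v * g⁻¹) * (g * c ^ (i.cast : ℤ) * g⁻¹) := by group
      rw [h4, hv, hcz, mul_assoc, ← zpow_add, add_comm j]
  rw [sgn_def hg, sgnH_eq, ← h1, Equiv.Perm.sign_sumCongr, ← Equiv.Perm.mul_def, Equiv.Perm.sign_mul,
    sign_addRight _ hev, mul_left_comm, Int.units_mul_self, mul_one]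

theorem conj_c_self (h : GQ Q c v z n) : c * v * c⁻¹ = v * c ^ (-2 : ℤ) := by
  have h1 := h.conj_zpow_v 1
  rw [zpow_one] at h1
  rw [h1]
  norm_num

/-- the sign is trivial on `Q` -/
theorem sgn_of_mem (h : GQ Q c v z n) {q : G} (hq : q ∈ Q) : sgn Q q = 1 := by
  have hc : sgn Q c = 1 := by
    rw [h.sgn_eq (le_normalizer h.c_mem) (k := 1) (j := -2) (by simp) h.conj_c_self]
    rfl
  have hv : sgn Q v = 1 := by
    rw [h.sgn_eq (le_normalizer h.v_mem) (k := -1) (j := 0) (by rw [h.conj]; simp) (by simp)]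
    rfl
  have hp : ∀ i : ℕ, sgn Q (c ^ i) = 1 := by
    intro i
    rw [sgn_pow (le_normalizer h.c_mem), hc, one_pow]
  rcases h.cov q hq with ⟨i, rfl⟩ | ⟨i, rfl⟩
  · exact hp i
  · rw [sgn_mul (le_normalizer h.v_mem) (le_normalizer (Q.pow_mem h.c_mem i)), hv, hp, one_mul]

end GQ

/-! ### The sign of elements of `N(K)` -/

namespace Hyp

variable [Finite G] {Om : Set (Subgroup G)} {K Q : Subgroup G}

/-- the sign is trivial on `N_K(Q)` -/
theorem sgn_of_mem (h : Hyp Om) (hK : K ∈ Om) (hQ : Syl Q K) {k : G} (hk : k ∈ K)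
    (hkQ : k ∈ normalizer (Q : Set G)) : sgn Q k = 1 := by
  obtain ⟨c, v, n, hc⟩ := h.exists_gq hK hQ
  set H : Subgroup G := K ⊓ normalizer (Q : Set G) with hH
  have hQH : Q ≤ H := le_inf hQ.1 le_normalizer
  have hQn : (Q.subgroupOf H).Normal := (normal_subgroupOf_iff_le_normalizer hQH).2 inf_le_right
  have h1 := Subgroup.pow_index_mem (Q.subgroupOf H) (⟨k, hk, hkQ⟩ : H)
  have h2 : ¬ 2 ∣ (Q.subgroupOf H).index := (syl_of_le hQ hQH inf_le_left).2.2
  obtain ⟨m, hm⟩ : ∃ m, (Q.subgroupOf H).index = 2 * m + 1 := by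
    have h3 : Odd (Q.subgroupOf H).index := by
      rw [← Nat.not_even_iff_odd, even_iff_two_dvd]; exact h2
    exact h3
  rw [hm] at h1
  have h3 : k ^ (2 * m + 1) ∈ Q := h1
  have h4 := hc.sgn_of_mem h3
  rw [sgn_pow hkQ, pow_succ, pow_mul, pow_two, Int.units_mul_self, one_pow, one_mul] at h4
  exact h4

/-- Frattini: every element of `N(K)` is congruent mod `K` to an element of `N(Q)` -/
theorem exists_norm (hQ : Syl Q K) {a : G} (ha : a ∈ normalizer (K : Set G)) :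
    ∃ k ∈ K, k * a ∈ normalizer (Q : Set G) := by
  have h1 : Syl (cj a Q) K := by
    have := hQ.cj a
    rwa [mem_normalizer_iff_cj.1 ha] at this
  obtain ⟨k, hk, hkQ⟩ := h1.exists_conj hQ
  exact ⟨k, hk, by rw [mem_normalizer_iff_cj, cj_mul, hkQ]⟩

/-- the sign does not depend on the choices -/
theorem sgn_unique (h : Hyp Om) (hK : K ∈ Om) (hQ : Syl Q K) {Q1 : Subgroup G} (hQ1 : Syl Q1 K) {a k k1 : G}
    (ha : a ∈ normalizer (K : Set G)) (hk : k ∈ K) (hk1 : k1 ∈ K) (hka : k * a ∈ normalizer (Q : Set G))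
    (hka1 : k1 * a ∈ normalizer (Q1 : Set G)) : sgn Q (k * a) = sgn Q1 (k1 * a) := by
  obtain ⟨l, hl, hlQ⟩ := hQ.exists_conj hQ1
  -- move `Q1` to `Q`
  obtain ⟨b, hb⟩ : ∃ b, b = l⁻¹ * (k1 * a) * l := ⟨_, rfl⟩
  have hbk : k1 * a = l * b * l⁻¹ := by rw [hb]; group
  have hbQ : b ∈ normalizer (Q : Set G) := by
    rw [mem_normalizer_iff_cj, hb]
    have : l⁻¹ * (k1 * a) * l = l⁻¹ * ((k1 * a) * l) := by group
    rw [this, cj_mul, cj_mul, hlQ, mem_normalizer_iff_cj.1 hka1, ← hlQ, cj_inv_cj]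
  have h1 : sgn Q1 (k1 * a) = sgn Q b := by
    rw [← hlQ, hbk, sgn_cj hbQ]
  rw [h1]
  -- compare `b` with `k a`
  obtain ⟨m, hm⟩ : ∃ m, m = b * (k * a)⁻¹ := ⟨_, rfl⟩
  have hmb : b = m * (k * a) := by rw [hm]; group
  have hmQ : m ∈ normalizer (Q : Set G) := by rw [hm]; exact mul_mem hbQ (inv_mem hka)
  have hmK : m ∈ K := by
    have h2 : m = l⁻¹ * k1 * (a * l * a⁻¹) * k⁻¹ := by rw [hm, hb]; group
    rw [h2]
    refine K.mul_mem (K.mul_mem (K.mul_mem (K.inv_mem hl) hk1) ?_) (K.inv_mem hk)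
    exact (mem_normalizer_iff.1 ha l).1 hl
  rw [hmb, sgn_mul hmQ hka, h.sgn_of_mem hK hQ hmK hmQ, one_mul]

end Hyp

open Classical in
/-- **the diagonal sign** -/
noncomputable def th [Finite G] (K : Subgroup G) (a : G) : ℤˣ :=
  if h : ∃ Q : Subgroup G, Syl Q K ∧ ∃ k ∈ K, k * a ∈ normalizer (Q : Set G) then
    sgn h.choose (h.choose_spec.2.choose * a) else 1

namespace Hyp

variable [Finite G] {Om : Set (Subgroup G)} {K Q : Subgroup G}

theorem th_eq_sgn (h : Hyp Om) (hK : K ∈ Om) (hQ : Syl Q K) {a k : G} (ha : a ∈ normalizer (K : Set G))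
    (hk : k ∈ K) (hka : k * a ∈ normalizer (Q : Set G)) : th K a = sgn Q (k * a) := by
  have h1 : ∃ Q : Subgroup G, Syl Q K ∧ ∃ k ∈ K, k * a ∈ normalizer (Q : Set G) := ⟨Q, hQ, k, hk, hka⟩
  rw [th, dif_pos h1]
  exact h.sgn_unique hK h1.choose_spec.1 hQ ha h1.choose_spec.2.choose_spec.1 hk
    h1.choose_spec.2.choose_spec.2 hka

theorem th_eq_sgn' (h : Hyp Om) (hK : K ∈ Om) (hQ : Syl Q K) {a : G} (ha : a ∈ normalizer (K : Set G))
    (haQ : a ∈ normalizer (Q : Set G)) : th K a = sgn Q a := by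
  have h1 := h.th_eq_sgn hK hQ ha K.one_mem (by rwa [one_mul])
  rwa [one_mul] at h1

/-- `th K` is multiplicative on `N(K)` -/
theorem th_mul (h : Hyp Om) (hK : K ∈ Om) {a b : G} (ha : a ∈ normalizer (K : Set G))
    (hb : b ∈ normalizer (K : Set G)) : th K (a * b) = th K a * th K b := by
  obtain ⟨Q, hQ⟩ := exists_syl K
  obtain ⟨k, hk, hka⟩ := exists_norm hQ ha
  obtain ⟨l, hl, hlb⟩ := exists_norm hQ hb
  have h1 : (k * (a * l * a⁻¹)) * (a * b) = (k * a) * (l * b) := by group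
  have h2 : k * (a * l * a⁻¹) ∈ K := K.mul_mem hk ((mem_normalizer_iff.1 ha l).1 hl)
  rw [h.th_eq_sgn hK hQ ha hk hka, h.th_eq_sgn hK hQ hb hl hlb,
    h.th_eq_sgn hK hQ (mul_mem ha hb) h2 (by rw [h1]; exact mul_mem hka hlb), h1, sgn_mul hka hlb]

theorem th_of_mem (h : Hyp Om) (hK : K ∈ Om) {k : G} (hk : k ∈ K) : th K k = 1 := by
  obtain ⟨Q, hQ⟩ := exists_syl K
  have h1 := h.th_eq_sgn hK hQ (a := k) (k := k⁻¹) (le_normalizer hk) (K.inv_mem hk)
    (by rw [inv_mul_cancel]; exact one_mem _)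
  rw [h1, inv_mul_cancel, sgn_one]

theorem th_one (h : Hyp Om) (hK : K ∈ Om) : th K 1 = 1 := h.th_of_mem hK K.one_mem

theorem th_inv (h : Hyp Om) (hK : K ∈ Om) {a : G} (ha : a ∈ normalizer (K : Set G)) :
    th K a⁻¹ = th K a := by
  have h1 := h.th_mul hK ha (inv_mem ha)
  rw [mul_inv_cancel, h.th_one hK] at h1
  have h2 : th K a * th K a = 1 := Int.units_mul_self _
  exact (mul_left_cancel (h2.trans h1)).symm

theorem th_pow (h : Hyp Om) (hK : K ∈ Om) {a : G} (ha : a ∈ normalizer (K : Set G)) (k : ℕ) :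
    th K (a ^ k) = th K a ^ k := by
  induction k with
  | zero => simp [h.th_one hK]
  | succ k ih => rw [pow_succ, pow_succ, h.th_mul hK (pow_mem ha k) ha, ih]

theorem th_zpow (h : Hyp Om) (hK : K ∈ Om) {a : G} (ha : a ∈ normalizer (K : Set G)) (k : ℤ) :
    th K (a ^ k) = th K a ^ k := by
  rcases k with k | k
  · simpa using h.th_pow hK ha k
  · rw [zpow_negSucc, zpow_negSucc, h.th_inv hK (pow_mem ha _), h.th_pow hK ha, ← inv_pow, Int.units_inv_eq_self]

/-- `th K` is constant on cosets of `K` -/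
theorem th_mul_mem (h : Hyp Om) (hK : K ∈ Om) {a k : G} (ha : a ∈ normalizer (K : Set G)) (hk : k ∈ K) :
    th K (a * k) = th K a := by
  rw [h.th_mul hK ha (le_normalizer hk), h.th_of_mem hK hk, mul_one]

theorem th_mem_mul (h : Hyp Om) (hK : K ∈ Om) {a k : G} (ha : a ∈ normalizer (K : Set G)) (hk : k ∈ K) :
    th K (k * a) = th K a := by
  rw [h.th_mul hK (le_normalizer hk) ha, h.th_of_mem hK hk, one_mul]

/-- `th K` is invariant under conjugation in `N(K)` -/
theorem th_conj (h : Hyp Om) (hK : K ∈ Om) {a g : G} (ha : a ∈ normalizer (K : Set G))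
    (hg : g ∈ normalizer (K : Set G)) : th K (g * a * g⁻¹) = th K a := by
  rw [h.th_mul hK (mul_mem hg ha) (inv_mem hg), h.th_mul hK hg ha, h.th_inv hK hg, mul_comm, ← mul_assoc,
    Int.units_mul_self, one_mul]

/-- transport -/
theorem th_cj (h : Hyp Om) (hK : K ∈ Om) {a : G} (ha : a ∈ normalizer (K : Set G)) (g : G) :
    th (cj g K) (g * a * g⁻¹) = th K a := by
  obtain ⟨Q, hQ⟩ := exists_syl K
  obtain ⟨k, hk, hka⟩ := exists_norm hQ ha
  have h1 : (g * k * g⁻¹) * (g * a * g⁻¹) = g * (k * a) * g⁻¹ := by group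
  have ha' : g * a * g⁻¹ ∈ normalizer (cj g K : Set G) := by
    rw [mem_normalizer_iff_cj, ← cj_mul]
    have : g * a * g⁻¹ * g = g * a := by group
    rw [this, cj_mul, mem_normalizer_iff_cj.1 ha]
  have hka' : g * (k * a) * g⁻¹ ∈ normalizer (cj g Q : Set G) := by
    rw [mem_normalizer_iff_cj, ← cj_mul]
    have : g * (k * a) * g⁻¹ * g = g * (k * a) := by group
    rw [this, cj_mul, mem_normalizer_iff_cj.1 hka]
  rw [h.th_eq_sgn hK hQ ha hk hka,
    h.th_eq_sgn (h.conj K hK g) (hQ.cj g) ha' (conj_mem_cj hk) (by rw [h1]; exact hka'), h1, sgn_cj hka]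

/-- the sign in coordinates -/
theorem th_eq (h : Hyp Om) (hK : K ∈ Om) (hQ : Syl Q K) {x y : G} {n : ℕ} (hc : GQ Q x y (zz K) n) {a : G}
    (ha : a ∈ normalizer (K : Set G)) (haQ : a ∈ normalizer (Q : Set G)) (hx : a * x * a⁻¹ ∈ zpowers x)
    {j : ℤ} (hy : a * y * a⁻¹ = y * x ^ j) : th K a = (-1 : ℤˣ) ^ j := by
  obtain ⟨k, hk⟩ := hx
  rw [h.th_eq_sgn' hK hQ ha haQ]
  exact hc.sgn_eq haQ (show a * x * a⁻¹ = x ^ k from hk.symm) hy

/-- the sign of an element centralising a Sylow 2-subgroup of `K` -/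
theorem th_of_cent (h : Hyp Om) (hK : K ∈ Om) (hQ : Syl Q K) {a : G} (ha : a ∈ normalizer (K : Set G))
    (hc : ∀ x ∈ Q, a * x = x * a) : th K a = 1 := by
  obtain ⟨x, y, n, hxy⟩ := h.exists_gq hK hQ
  have h1 : a * x * a⁻¹ = x := by rw [hc x hxy.c_mem, mul_inv_cancel_right]
  have h2 : a * y * a⁻¹ = y * x ^ (0 : ℤ) := by rw [hc y hxy.v_mem, mul_inv_cancel_right, zpow_zero, mul_one]
  rw [h.th_eq hK hQ hxy ha (mem_normalizer_of_cent hc) (by rw [h1]; exact mem_zpowers x) h2, zpow_zero]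

end Hyp

end Cfsg.Agent.Cit
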