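import Cfsg.Agent.Cit.PairUQ
import Cfsg.Agent.Cit.GoodOf

/-!
# (EX) for a four-group (project CIT)

`K ≤ C(t)`, `t` an involution centralising `O(C(K))`, `u` centralises `K`, `O(C(K))` and conjugates `t` to `zz K * t`;
`K` lies in a piece of `C(t)/O(C(t))` with a chart.

* `ex_pair` : (EX-1) for a four-group;
* `Res.bb_le`, `Res.bb_comm` : `BB K X z ≤ O(C(t))` is centralised by the lift of the piece;
* `Res.good` : `BB K X z = 1` implies `Good p X z`.
-/

set_option autoImplicit false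
set_option linter.dupNamespace false
set_option linter.style.haveILetI false
set_option linter.unusedSectionVars false

namespace Cfsg.Agent.Cit.PairEx

open Subgroup Cfsg Cfsg.Agent.Cit.UseT Cfsg.Agent.Cit.PieceLift Cfsg.Agent.Cit.PieceG Cfsg.Agent.Cit.PieceLoc
open Cfsg.Agent.Nodes.Chart Cfsg.Agent.Cit.FrameOf Cfsg.Agent.Cit.ParabSL2 Cfsg.Agent.Cit.Parab
open Cfsg.Agent.Cit.LemmaUQ Cfsg.Agent.Cit.Exact Cfsg.Agent.Cit.Weights
open scoped commutatorElement

variable {G : Type*} [Group G] [Finite G]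

section One

variable {R X : Subgroup G} {z w : G}

/-- `⁅Q_w, z⁆ = Q_w` -/
theorem Qw_commutator (h : PairUQ.In R X z w) : ⁅Qw R z w, zpowers z⁆ = Qw R z w := by
  have h1 : zpowers z ≤ normalizer ((R ⊓ centralizer {w} : Subgroup G) : Set G) := by
    rw [zpowers_le]
    refine mem_normalizer_of_forall ?_ ?_
    · rintro x ⟨hx1, hx2⟩
      refine ⟨conj_mem_of_normalizer h.zR hx1, ?_⟩
      have h3 := mem_centralizer_singleton_iff.1 hx2
      change z * x * z⁻¹ ∈ centralizer {w}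
      rw [mem_centralizer_singleton_iff]
      calc z * x * z⁻¹ * w = z * x * z⁻¹ * (w * z) * z⁻¹ := by group
        _ = z * (x * w) * z⁻¹ := by rw [← h.zw]; group
        _ = (z * w) * x * z⁻¹ := by rw [h3]; group
        _ = w * (z * x * z⁻¹) := by rw [h.zw]; group
    · rintro x ⟨hx1, hx2⟩
      refine ⟨inv_conj_mem_of_normalizer h.zR hx1, ?_⟩
      have h3 := mem_centralizer_singleton_iff.1 hx2
      change z⁻¹ * x * z ∈ centralizer {w}
      rw [mem_centralizer_singleton_iff]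
      calc z⁻¹ * x * z * w = z⁻¹ * x * (z * w) := by group
        _ = z⁻¹ * (x * w) * z := by rw [h.zw]; group
        _ = z⁻¹ * (w * z) * z⁻¹ * x * z := by rw [h3]; group
        _ = w * (z⁻¹ * x * z) := by rw [← h.zw]; group
  have h2 : (Nat.card (zpowers z)).Coprime (Nat.card (R ⊓ centralizer {w} : Subgroup G)) :=
    Nat.Coprime.coprime_dvd_right (Subgroup.card_dvd_of_le inf_le_left) h.coprime
  exact Lib.CoprimeCommutator.commutator_commutator_eq _ _ h1 h2

/-- `D` is generated by `Q_w`, `Q_{zw}` -/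
theorem le_sup (h : PairUQ.In R X z w) (hX : ∀ x ∈ X, x * z = z * x) {p : ℕ} [Fact p.Prime]
    (hD : IsPGroup p (LemmaUQ.DD R z)) : LemmaUQ.DD R z ≤ Qw R z w ⊔ Qw R z (z * w) := by
  have h' := h.other hX
  have hS : Qw R z w ⊔ Qw R z (z * w) ≤ LemmaUQ.DD R z := sup_le LemmaUQ.In.Qw_le_D LemmaUQ.In.Qw_le_D
  refine le_of_le_sup_commutator_self hD hS ?_
  refine Lib.KleinGen.le_of_klein _ _ h.D_odd z w h.zz h.ww h.zw
    (fun x hx => conj_mem_of_normalizer h.z_D hx) (fun x hx => conj_mem_of_normalizer h.w_D hx) ?_ ?_ ?_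
  · rintro c ⟨hc, hcz⟩
    exact (le_sup_right : ⁅LemmaUQ.DD R z, LemmaUQ.DD R z⁆ ≤ _) (h.fix_mem hc (mem_centralizer_singleton_iff.1 hcz))
  · rintro c ⟨hc, hcw⟩
    exact (sup_le le_sup_right (le_sup_left.trans le_sup_left) : h.D' ⊔ Qw R z w ≤ _)
      (h.fix_w hc (mem_centralizer_singleton_iff.1 hcw))
  · rintro c ⟨hc, hcw⟩
    exact (sup_le le_sup_right (le_sup_right.trans le_sup_left) : h'.D' ⊔ Qw R z (z * w) ≤ _)
      (h'.fix_w hc (mem_centralizer_singleton_iff.1 hcw))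

/-- **(EX-1) for a four-group** -/
theorem ex_pair (h : PairUQ.In R X z w) (hX : ∀ x ∈ X, x * z = z * x) {p : ℕ} [Fact p.Prime]
    (hD : IsPGroup p (LemmaUQ.DD R z)) {V : Subgroup G} (hV : V = ⁅Qw R z w, Qw R z w⁆)
    (hV' : V = ⁅Qw R z (z * w), Qw R z (z * w)⁆) (hVz : ∀ v ∈ V, v * z = z * v)
    (hVQ : ∀ v ∈ V, ∀ q ∈ Qw R z w, v * q = q * v) (hVQ' : ∀ v ∈ V, ∀ q ∈ Qw R z (z * w), v * q = q * v) :
    ExV X ⊥ (LemmaUQ.DD R z) V z := by
  have hVQw : V ≤ Qw R z w := by rw [hV]; exact commutator_le_self _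
  have hVD : V ≤ LemmaUQ.DD R z := hVQw.trans LemmaUQ.In.Qw_le_D
  have hVw : ∀ v ∈ V, v * w = w * v := fun v hv => h.Qw_comm (hVQw hv)
  have hDR : LemmaUQ.DD R z ≤ R := h.D_le
  have hBD : ∀ v ∈ V, ∀ d ∈ LemmaUQ.DD R z, v * d = d * v := by
    intro v hv
    have h1 : LemmaUQ.DD R z ≤ centralizer {v} := by
      refine (le_sup h hX hD).trans (sup_le ?_ ?_)
      · intro q hq
        exact mem_centralizer_singleton_iff.2 (hVQ v hv q hq).symm
      · intro q hq
        exact mem_centralizer_singleton_iff.2 (hVQ' v hv q hq).symm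
    exact fun d hd => (mem_centralizer_singleton_iff.1 (h1 hd)).symm
  have hDDD : LemmaUQ.DD (LemmaUQ.DD R z) z = LemmaUQ.DD R z := h.D_comm
  have hc : ∀ x ∈ X, ∀ v ∈ V, x * v = v * x := fun x hx v hv => h.XR x hx v (hDR (hVD hv))
  have hI : PairUQ.In (LemmaUQ.DD R z) (X ⊔ V) z w := {
    odd := h.D_odd
    zz := h.zz
    ww := h.ww
    zw := h.zw
    zR := h.z_D
    wR := h.w_D
    XR := fun x hx r hr => by
      obtain ⟨x, hx', v, hv, rfl⟩ := (mem_sup_of_comm hc).1 hx
      rw [mul_assoc, hBD v hv r hr, ← mul_assoc, h.XR x hx' r (hDR hr), mul_assoc]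
    Xw := fun x hx => by
      obtain ⟨x, hx', v, hv, rfl⟩ := (mem_sup_of_comm hc).1 hx
      rw [mul_assoc, hVw v hv, ← mul_assoc, h.Xw x hx', mul_assoc]
    fix := fun c hc => h.fix c (by rw [hDDD] at hc; exact hc) }
  have hXVz : ∀ x ∈ X ⊔ V, x * z = z * x := fun x hx => by
    obtain ⟨x, hx', v, hv, rfl⟩ := (mem_sup_of_comm hc).1 hx
    rw [mul_assoc, hVz v hv, ← mul_assoc, hX x hx', mul_assoc]
  have key : ∀ {w' : G}, PairUQ.In R X z w' → Qw (LemmaUQ.DD R z) z w' = Qw R z w' := by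
    intro w' h'
    apply le_antisymm
    · exact Subgroup.commutator_mono (inf_le_inf_right _ hDR) le_rfl
    · rw [← Qw_commutator h']
      refine Subgroup.commutator_mono (le_inf LemmaUQ.In.Qw_le_D ?_) le_rfl
      intro q hq
      rw [mem_centralizer_singleton_iff]
      exact h'.Qw_comm hq
  have hp' : IsPGroup p (LemmaUQ.DD (LemmaUQ.DD R z) z) := by rw [hDDD]; exact hD
  have hle : ⁅Qw (LemmaUQ.DD R z) z w, Qw (LemmaUQ.DD R z) z w⁆ ≤ X ⊔ V := by rw [key h, ← hV]; exact le_sup_right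
  have hle' : ⁅Qw (LemmaUQ.DD R z) z (z * w), Qw (LemmaUQ.DD R z) z (z * w)⁆ ≤ X ⊔ V := by
    rw [key (h.other hX), ← hV']; exact le_sup_right
  refine ⟨fun v _ l hl => ?_, hBD, ?_, fun c hc hcz => ?_⟩
  · rw [mem_bot.1 hl, mul_one, one_mul]
  · have := hI.commutator_le hXVz hp' hle hle'
    rwa [hDDD] at this
  · exact hI.mem_of_commute hXVz hp' hle hle' (by rw [hDDD]; exact hc) hcz

end One

section Long

variable {K X V : Subgroup G} {z : G}

/-- from `V` to `BB` -/
theorem ex_long (h : Long K X z) (hV : V ≤ QX X z) (hVz : ∀ v ∈ V, v * z = z * v)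
    (h1 : ExV X ⊥ (QX X z) V z) : ExV X ⊥ (QX X z) (BB K X z) z ∧ X ⊔ BB K X z = X ⊔ V := by
  have h2 : X ⊔ BB K X z = X ⊔ V := by
    rw [← sup_BB h]
    apply le_antisymm
    · refine sup_le le_sup_left ?_
      rintro c ⟨hc, hcz⟩
      exact h1.fix c hc (mem_centralizer_singleton_iff.1 hcz)
    · refine sup_le le_sup_left ?_
      intro v hv
      exact (le_sup_right : QX X z ⊓ centralizer {z} ≤ _)
        ⟨hV hv, mem_centralizer_singleton_iff.2 (hVz v hv)⟩
  have hXV : ∀ x ∈ X, ∀ v ∈ V, x * v = v * x := fun x hx v hv =>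
    (core_commute (h.QX_le_core (hV hv)) hx).symm
  refine ⟨⟨fun v _ l hl => by rw [mem_bot.1 hl, mul_one, one_mul], ?_, by rw [h2]; exact h1.der,
    by rw [h2]; exact h1.fix⟩, h2⟩
  intro b hb d hd
  have h3 : b ∈ X ⊔ V := by rw [← h2]; exact (le_sup_right : BB K X z ≤ _) hb
  obtain ⟨x, hx, v, hv, rfl⟩ := (mem_sup_of_comm hXV).1 h3
  rw [mul_assoc, h1.comm_D v hv d hd, ← mul_assoc, ← core_commute (h.QX_le_core hd) hx, mul_assoc]

end Long

/-! ### The pieces -/

variable {Om : Set (Subgroup G)} {K X : Subgroup G} {t u : G} {D₂ : Subgroup (HQ (centralizer {t}))}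
  {p : ℕ} {F : Type*} [Field F] [Fintype F]

/-- `K` lies in the piece `D₂` of `C(t)`, `u` conjugates `t` to `t z` -/
structure Pk (Om : Set (Subgroup G)) (p : ℕ) (K : Subgroup G) (t u : G)
    (D₂ : Subgroup (HQ (centralizer {t}))) : Prop where
  mem : K ∈ Om
  cor : CorG Om (centralizer {t})
  qp : QP Om (centralizer {t}) D₂
  leH : K ≤ centralizer {t}
  le : bar (centralizer {t}) K ≤ D₂
  nmem : D₂ ∉ fb Om (centralizer {t})
  chart : Nonempty (Chart (fb Om (centralizer {t})) p D₂)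
  tt : t * t = 1
  tc : ∀ d ∈ core K, t * d = d * t
  uK : ∀ k ∈ K, u * k = k * u
  uc : ∀ d ∈ core K, u * d = d * u
  ut : u * t * u⁻¹ = zz K * t

/-- the result -/
structure Res (Om : Set (Subgroup G)) (p : ℕ) (K : Subgroup G) (t : G) (D₂ : Subgroup (HQ (centralizer {t})))
    (X : Subgroup G) : Prop where
  QX_p : IsPGroup p (QX X (zz K))
  ex : ExV X ⊥ (QX X (zz K)) (BB K X (zz K)) (zz K)
  bb_le : BB K X (zz K) ≤ OO (centralizer {t})
  bb_comm : ∀ d ∈ DL Om (centralizer {t}) D₂, ∀ b ∈ BB K X (zz K), d * b = b * d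

theorem Pk.res (r : Pk Om p K t u D₂) [CharP F p] (hF : Odd (Fintype.card F))
    (solv : ∀ X : Subgroup G, ¬ 2 ∣ Nat.card X → Group.IsSolvable X)
    (e : Matrix.SpecialLinearGroup (Fin 2) F ≃* K) (hXK : X ≤ K)
    (hX : Nat.card X = Fintype.card F) : Res Om p K t D₂ X := by
  obtain ⟨c⟩ := r.chart
  haveI hp : Fact p.Prime := ⟨c.prime⟩
  have h := r.cor.hyp
  have hO : OO K = ⊥ := OO_eq_bot hF e
  have hlong : Long K X (zz K) := long_of_hyp h r.mem hF e hXK hX
  obtain ⟨Y, hYK, hY, hne⟩ := GoodOf.exists_opp e hXK hX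
  have htK : ∀ k ∈ K, t * k = k * t := fun k hk => (mem_centralizer_singleton_iff.1 (r.leH hk)).symm
  have hI : PairUQ.In (core X) X (zz K) t := PairUQ.mem_of_long hlong r.tt htK r.tc
  set z := zz K with hz
  have hKt : K ≤ centralizer {t} := r.leH
  have hXz : ∀ x ∈ X, x * z = z * x := fun x hx => hlong.central (hXK hx)
  set R : Subgroup G := core X ⊓ centralizer {t} with hR
  have hcore2 : ∀ {T : Subgroup G}, T ≤ core X → ¬ 2 ∣ Nat.card T := by
    intro T hT h1
    have h2 := odd_core X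
    rw [← Nat.not_even_iff_odd] at h2
    exact h2 (even_iff_two_dvd.2 (h1.trans (card_dvd_of_le hT)))
  have hzw : z * t = t * z := hI.zw
  have hzR : z ∈ normalizer (R : Set G) := by
    refine mem_normalizer_of_forall ?_ ?_
    · rintro x ⟨hx1, hx2⟩
      refine ⟨conj_mem_of_normalizer hI.zR hx1, ?_⟩
      change z * x * z⁻¹ ∈ centralizer {t}
      rw [mem_centralizer_singleton_iff]
      have h3 := mem_centralizer_singleton_iff.1 hx2
      calc z * x * z⁻¹ * t = z * x * z⁻¹ * (t * z) * z⁻¹ := by group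
        _ = z * (x * t) * z⁻¹ := by rw [← hzw]; group
        _ = (z * t) * x * z⁻¹ := by rw [h3]; group
        _ = t * (z * x * z⁻¹) := by rw [hzw]; group
    · rintro x ⟨hx1, hx2⟩
      refine ⟨inv_conj_mem_of_normalizer hI.zR hx1, ?_⟩
      change z⁻¹ * x * z ∈ centralizer {t}
      rw [mem_centralizer_singleton_iff]
      have h3 := mem_centralizer_singleton_iff.1 hx2
      calc z⁻¹ * x * z * t = z⁻¹ * x * (z * t) := by group
        _ = z⁻¹ * (x * t) * z := by rw [hzw]; group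
        _ = z⁻¹ * (t * z) * z⁻¹ * x * z := by rw [h3]; group
        _ = t * (z⁻¹ * x * z) := by rw [← hzw]; group
  have hloc := loc r.cor r.qp c r.nmem hF r.mem hKt r.le e hXK hX hYK hY hne (R := R) (hcore2 inf_le_left)
    inf_le_right (fun a ha x hx => core_commute ha.1 hx) hzR
  have hQle : Qw (core X) z t ≤ DL Om (centralizer {t}) D₂ := hloc.1
  have hQp : IsPGroup p (Qw (core X) z t) := hloc.2.1
  set V := ⁅Qw (core X) z t, Qw (core X) z t⁆ with hV
  have hVle : V ≤ X ⊔ OO (centralizer {t}) := hloc.2.2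
  -- `z` and `Qw` centralise `X O(C(t))`
  have hzO : ∀ a ∈ OO (centralizer {t}), z * a = a * z := by
    have h1 : IsPGroup 2 (zpowers z) := by
      refine IsPGroup.of_card (n := 1) ?_
      rw [Nat.card_zpowers, h.orderOf_zz r.mem, pow_one]
    have h2 := r.cor.cor K r.mem hKt (zpowers z) (by rw [zpowers_le]; exact h.zz_mem r.mem) h1
    intro a ha
    exact (mem_centralizer_iff.1 (h2 (mem_zpowers z)) a ha).symm
  have hsup : ∀ {s : G}, (∀ x ∈ X, s * x = x * s) → (∀ a ∈ OO (centralizer {t}), s * a = a * s) →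
      ∀ v ∈ V, v * s = s * v := by
    intro s h1 h2 v hv
    have h3 : X ⊔ OO (centralizer {t}) ≤ centralizer {s} := by
      refine sup_le ?_ ?_
      · intro x hx
        exact mem_centralizer_singleton_iff.2 (h1 x hx).symm
      · intro x hx
        exact mem_centralizer_singleton_iff.2 (h2 x hx).symm
    exact mem_centralizer_singleton_iff.1 (h3 (hVle hv))
  have hVz : ∀ v ∈ V, v * z = z * v := hsup (fun x hx => (hXz x hx).symm) hzO
  have hQwR : Qw (core X) z t ≤ core X := LemmaUQ.In.Qw_le_D.trans hI.D_le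
  have hVQ : ∀ v ∈ V, ∀ q ∈ Qw (core X) z t, v * q = q * v := by
    intro v hv q hq
    refine hsup (fun x hx => core_commute (hQwR hq) hx) (fun a ha => ?_) v hv
    exact DL_comm_core r.cor (hQle hq) ha
  have hVD : V ≤ QX X z := (commutator_le_self _).trans LemmaUQ.In.Qw_le_D
  -- `u`
  have huX : ∀ x ∈ X, u * x * u⁻¹ = x := fun x hx => by rw [r.uK x (hXK hx), mul_inv_cancel_right]
  have hcX : cj u X = X := Parab.cj_eq_of_conj_mem fun x hx => by rw [huX x hx]; exact hx
  have huz : u * z * u⁻¹ = z := by rw [r.uK z hlong.zK, mul_inv_cancel_right]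
  have hconj : Qw (core X) z (z * t) = cj u (Qw (core X) z t) := by
    rw [Qw, Qw, cj_commutator, cj_zpowers, cj_inf, cj_core hcX, huz, ← cj_centralizer_singleton, r.ut]
  -- `V` is centralised by `u`
  have huV : ∀ v ∈ V, u * v * u⁻¹ = v := by
    intro v hv
    obtain ⟨x, hx, d, hd, hdK, rfl⟩ := hlong.mem_core_of_commute (hI.D_le (hVD hv)) (hVz v hv)
    have h1 : d ∈ core K := hlong.core_inf_le ⟨hd, by
      change d ∈ centralizer (K : Set G)
      rw [mem_centralizer_iff]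
      exact fun k hk => (hdK k hk).symm⟩
    calc u * (x * d) * u⁻¹ = (u * x * u⁻¹) * ((u * d) * u⁻¹) := by group
      _ = x * d := by rw [huX x hx, r.uc d h1, mul_inv_cancel_right]
  have hcV : cj u V = V := Parab.cj_eq_of_conj_mem fun v hv => by rw [huV v hv]; exact hv
  have hV' : V = ⁅Qw (core X) z (z * t), Qw (core X) z (z * t)⁆ := by
    rw [hconj, ← cj_commutator, ← hV, hcV]
  have hVQ' : ∀ v ∈ V, ∀ q ∈ Qw (core X) z (z * t), v * q = q * v := by
    intro v hv q hq
    rw [hconj, mem_cj] at hq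
    have h1 := hVQ v hv _ hq
    have h2 := huV v hv
    calc v * q = (u * v * u⁻¹) * (u * (u⁻¹ * q * u) * u⁻¹) := by rw [h2]; group
      _ = u * (v * (u⁻¹ * q * u)) * u⁻¹ := by group
      _ = u * ((u⁻¹ * q * u) * v) * u⁻¹ := by rw [h1]
      _ = q * (u * v * u⁻¹) := by group
      _ = q * v := by rw [h2]
  have hQp' : IsPGroup p (Qw (core X) z (z * t)) := by rw [hconj]; exact isPGroup_cj hQp
  have hQXp : IsPGroup p (QX X z) :=
    PairUQ.isPGroup_commutator Fact.out hI.odd (solv _ (hcore2 le_rfl)) hI.zz hI.ww hI.zw hI.zR hI.wR hQp hQp'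
  obtain ⟨hex, hsupV⟩ := ex_long hlong hVD hVz (ex_pair hI hXz hQXp hV hV' hVz hVQ hVQ')
  -- `BB ≤ O(C(t))`
  have hbb : BB K X z ≤ OO (centralizer {t}) := by
    intro b hb
    have h1 : b ∈ X ⊔ OO (centralizer {t}) := by
      have h2 : b ∈ X ⊔ V := by rw [← hsupV]; exact (le_sup_right : BB K X z ≤ _) hb
      exact (sup_le le_sup_left hVle : X ⊔ V ≤ _) h2
    have hN : centralizer {t} ≤ normalizer (OO (centralizer {t}) : Set G) := le_normalizer_OO _
    have hbw : b ∈ centralizer {t} := (sup_le (hXK.trans hKt) (OO_le _) : X ⊔ OO (centralizer {t}) ≤ _) h1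
    have h1' : b ∈ ((X ⊔ OO (centralizer {t}) : Subgroup G) : Set G) := h1
    rw [Subgroup.coe_mul_of_left_le_normalizer_right _ _ ((hXK.trans hKt).trans hN)] at h1'
    obtain ⟨x, hx, a, ha, rfl⟩ := h1'
    have hx1 : x = 1 := by
      refine GoodOf.eq_one_of_central e hXK hX hYK hY hne hx fun k hk => ?_
      have hbk : x * a * k = k * (x * a) := BB_comm hb hk
      have h2 : ⁅x, k⁆ = (x * a) * (a⁻¹ * (k * a * k⁻¹)) * (x * a)⁻¹ := by
        have h3 : (x * a)⁻¹ * k⁻¹ = k⁻¹ * (x * a)⁻¹ := by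
          rw [← mul_inv_rev, ← mul_inv_rev, hbk]
        calc ⁅x, k⁆ = x * k * a * ((x * a)⁻¹ * k⁻¹) := by
              rw [commutatorElement_def]; group
          _ = x * k * a * (k⁻¹ * (x * a)⁻¹) := by rw [h3]
          _ = (x * a) * (a⁻¹ * (k * a * k⁻¹)) * (x * a)⁻¹ := by group
      have h3 : ⁅x, k⁆ ∈ K ⊓ OO (centralizer {t}) := by
        refine ⟨?_, ?_⟩
        · rw [commutatorElement_def]
          exact K.mul_mem (K.mul_mem (K.mul_mem (hXK hx) hk) (K.inv_mem (hXK hx))) (K.inv_mem hk)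
        · rw [h2]
          refine conj_mem_of_normalizer (hN hbw) (mul_mem (inv_mem ha) ?_)
          exact conj_mem_of_normalizer (hN (hKt hk)) ha
      rw [inf_core_eq_bot hKt hO, mem_bot] at h3
      exact commutatorElement_eq_one_iff_mul_comm.1 h3
    change x * a ∈ _
    rw [hx1, one_mul]
    exact ha
  exact ⟨hQXp, hex, hbb, fun d hd b hb => DL_comm_core r.cor hd (hbb hb)⟩

/-- `BB K X z = 1` implies `Good p X z` -/
theorem Res.good (R : Res Om p K t D₂ X) (hp : p.Prime) (hlong : Long K X (zz K))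
    (hX : IsPGroup p X) (hB : BB K X (zz K) = ⊥) : Good p X (zz K) := by
  haveI := Fact.mk hp
  obtain ⟨h1, h2⟩ := R.ex.exact hB
  refine ⟨QQ_isPGroup hlong hX R.QX_p, by rw [QQ_commutator_eq_QX hlong]; exact h1, ?_⟩
  intro a ha haz
  obtain ⟨x, hx, d, hd, rfl⟩ := (mem_QQ hlong).1 ha
  have hxz := hlong.central (hlong.XK hx)
  have hdz : d * zz K = zz K * d := by
    calc d * zz K = x⁻¹ * (x * d * zz K) := by group
      _ = x⁻¹ * (zz K * x) * d := by rw [haz]; group
      _ = zz K * d := by rw [← hxz]; group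
  exact X.mul_mem hx (h2 d hd hdz)

end Cfsg.Agent.Cit.PairEx
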