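import Cfsg.Agent.Cit.TSimple
import Cfsg.Agent.Cit.OneLeafBase
import Cfsg.Agent.Cit.Branches
import Cfsg.Agent.Cit.UseT

/-!
# Several classes in one simple group (THEOREM T, leaf Q1)

`G` simple, all members of `Om` of one type, every class `cls K` has pieces.  Then `Om` has pieces
(helper443, R18 #10630, RULING 13).

* `ChartStmt` : the input on charts: there is a family of pairwise commuting members `K i` such that no group
  isomorphic to a member centralises all the `K i`;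
* `ExcStmt` : the case `G ≃ G₂(q), ³D₄(q)`;
* `hasPieces` : the conclusion.
-/

set_option autoImplicit false
set_option linter.style.haveILetI false
set_option linter.unusedSectionVars false

namespace Cfsg.Agent.Cit.QOne

open Subgroup Cfsg Cfsg.Agent.Nodes.Chart Cfsg.Agent.Cit.OneLeafBase

universe u

/-- all members of `Om` have the same quotient by the odd core -/
def UniOm {G : Type*} [Group G] (Om : Set (Subgroup G)) : Prop :=
  ∀ K ∈ Om, ∀ J ∈ Om, Nonempty ((↥K ⧸ oddCore ↥K) ≃* (↥J ⧸ oddCore ↥J))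

/-- the input on charts: a family of pairwise commuting members which is not centralised by another group isomorphic
to a member -/
def ChartStmt : Prop := ∀ (G : Type u) [Group G] [Finite G] (Om : Set (Subgroup G)) (p : ℕ)
  (c : Chart Om p (⊤ : Subgroup G)) (τ : Nodes.Chart.Ty), Hyp Om → c.IsTy τ → KindOk τ →
  ((∀ r ∈ c.R, c.Z r = c.X r) ∨ ∃ n, τ = .C n) → center G = ⊥ →
  ∃ (m : ℕ) (K : Fin m → Subgroup G), (∀ i, K i ∈ Om) ∧ (∀ i j, i ≠ j → K i ≤ centralizer (K j : Set G)) ∧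
    ∀ J : Subgroup G, (∀ i, J ≤ centralizer (K i : Set G)) → ∀ L ∈ Om, ∀ _ : J ≃* L, False

/-- the exceptional groups -/
def ExcStmt : Prop := ∀ (G : Type u) [Group G] [Finite G] [IsSimpleGroup G] (Om : Set (Subgroup G)) (p : ℕ),
  Hyp Om → (∀ K ∈ Om, Ty K) → UniOm Om → Om.Nonempty → p.Prime → p ≠ 2 → IsG2D4 p G → HasPieces Om

variable {G : Type u} [Group G]

theorem self_mem_cls (K : Subgroup G) : K ∈ cls K := ⟨1, (cj_one K).symm⟩

/-- a family of pairwise commuting members lies in some `Om(S)` -/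
theorem exists_common [Finite G] {Om : Set (Subgroup G)} : ∀ (m : ℕ) (K : Fin m → Subgroup G),
    (∀ i, K i ∈ Om) → (∀ i j, i ≠ j → K i ≤ centralizer (K j : Set G)) →
    ∃ S : Subgroup G, IsPGroup 2 S ∧ S ≤ (⨆ i, K i) ∧ ∀ i, K i ∈ OmS Om S := by
  intro m
  induction m with
  | zero =>
    intro K _ _
    exact ⟨⊥, IsPGroup.of_bot, bot_le, fun i => i.elim0⟩
  | succ m ih =>
    intro K hK hc
    obtain ⟨S, hS, hSle, hSm⟩ := ih (fun i => K i.castSucc) (fun i => hK _)
      (fun i j hij => hc _ _ fun h0 => hij (Fin.castSucc_injective m h0))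
    obtain ⟨Q, hQ⟩ := Hyp.exists_syl (K (Fin.last m))
    have h1 : S ≤ centralizer (Q : Set G) := by
      refine hSle.trans (iSup_le fun i => ?_)
      exact (hc _ _ (ne_of_lt (Fin.castSucc_lt_last i))).trans (centralizer_le (s := (Q : Set G))
        (t := (K (Fin.last m) : Set G)) hQ.1)
    have h2 : IsPGroup 2 (S ⊔ Q : Subgroup G) :=
      hS.to_sup_of_normal_right' hQ.2.1 (h1.trans (centralizer_le_normalizer _))
    refine ⟨S ⊔ Q, h2, sup_le (hSle.trans (iSup_le fun i => le_iSup K _))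
      (hQ.1.trans (le_iSup K _)), fun i => ?_⟩
    refine Fin.lastCases ?_ (fun j => ?_) i
    · exact mem_OmS_of_le (hK _) hQ le_sup_right
    · exact OmS_mono le_sup_left (hSm j)

/-- every member has a conjugate in `Om(S)`, `S` a Sylow 2-subgroup -/
theorem exists_cj_mem_OmS [Finite G] {Om : Set (Subgroup G)} (h : Hyp Om) (S : Sylow 2 G) {J : Subgroup G}
    (hJ : J ∈ Om) : ∃ x, cj x J ∈ OmS Om (S : Subgroup G) := by
  obtain ⟨Q, hQ⟩ := Hyp.exists_syl J
  obtain ⟨S', hS'⟩ := Branches.exists_ge hQ.2.1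
  obtain ⟨x, hx⟩ := exists_cj_sylow S' S
  refine ⟨x, ?_⟩
  rw [← hx]
  exact cj_mem_OmS h.conj x (mem_OmS_of_le hJ hQ hS')

/-- members with trivial cores and the same quotient are isomorphic -/
theorem nonempty_equiv {K J : Subgroup G} (hK : OO K = ⊥) (hJ : OO J = ⊥)
    (e : Nonempty ((↥K ⧸ oddCore ↥K) ≃* (↥J ⧸ oddCore ↥J))) : Nonempty (K ≃* J) := by
  have h1 : ∀ {L : Subgroup G}, OO L = ⊥ → oddCore L = ⊥ := by
    intro L hL
    rw [OO, Subgroup.map_eq_bot_iff, ker_subtype, le_bot_iff] at hL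
    exact hL
  obtain ⟨e⟩ := e
  exact ⟨((((QuotientGroup.quotientMulEquivOfEq (h1 hK)).trans QuotientGroup.quotientBot).symm).trans e).trans
    ((QuotientGroup.quotientMulEquivOfEq (h1 hJ)).trans QuotientGroup.quotientBot)⟩

section Simple

variable [Finite G] [IsSimpleGroup G] {Om : Set (Subgroup G)}

/-- `G` is the only piece of a class -/
theorem piece_top (h : Hyp Om) (hne : Om.Nonempty) (hp : HasPieces Om) : Piece Om ⊤ ∧ (⊤ : Subgroup G) ∉ Om := by
  obtain ⟨K, hK⟩ := id hne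
  have hna := not_isMulCommutative h hK
  have hn : (⊤ : Subgroup G).Normal := inferInstance
  have hs : IsSimpleGroup (⊤ : Subgroup G) := (MulEquiv.isSimpleGroup_congr Subgroup.topEquiv).2 inferInstance
  have hc : centralizer ((⊤ : Subgroup G) : Set G) = ⊥ := by
    rw [coe_top, centralizer_univ]
    exact OneLeafBase.center_eq_bot hna
  have hgen : sSup Om = ⊤ := top_le_iff.1 (le_sSup_of_simple hn hs hc h hne)
  obtain ⟨h1, h2⟩ := pc_eq_of_simple hn hs hc h hp hgen hK
  refine ⟨?_, h2⟩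
  have h3 := hp.piece h hK
  rwa [h1] at h3

/-- if one class is a chart, it is `Om` -/
theorem eq_cls (hch : ChartStmt.{u}) (h : Hyp Om) (huni : UniOm Om) (hc : ∀ K ∈ Om, OO K = ⊥) {K : Subgroup G}
    (hK : K ∈ Om) {p : ℕ} (c : Chart (cls K) p (⊤ : Subgroup G)) {τ : Nodes.Chart.Ty} (hτ : c.IsTy τ)
    (ok : KindOk τ) (zx : (∀ r ∈ c.R, c.Z r = c.X r) ∨ ∃ n, τ = .C n) : Om ⊆ cls K := by
  intro J hJ
  by_contra hJK
  have hna := not_isMulCommutative h hK
  obtain ⟨m, M, hM, ho, hno⟩ := hch G (cls K) p c τ (h.of_cls hK) hτ ok zx (OneLeafBase.center_eq_bot hna)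
  have hsub := h.cls_subset hK
  obtain ⟨S, hS, -, hSm⟩ := exists_common (Om := Om) m M (fun i => hsub (hM i)) ho
  obtain ⟨S', hS'⟩ := Branches.exists_ge hS
  obtain ⟨x, hx⟩ := exists_cj_mem_OmS h S' hJ
  have hne : ∀ i, cj x J ≠ M i := by
    intro i he
    apply hJK
    have h1 : cj x J ∈ cls K := by rw [he]; exact hM i
    have h2 := cj_mem_cls h1 x⁻¹
    rwa [cj_inv_cj] at h2
  obtain ⟨e⟩ := nonempty_equiv (hc _ hx.1) (hc _ hK) (huni _ hx.1 _ hK)
  refine hno (cj x J) (fun i => ?_) K (self_mem_cls K) e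
  exact UseT.comm_of_core h hc S'.isPGroup' hx (OmS_mono hS' (hSm i)) (hne i)

/-- **Several classes in a simple group** -/
theorem hasPieces (hch : ChartStmt.{u}) (hex : ExcStmt.{u}) (h : Hyp Om) (ty : ∀ K ∈ Om, Ty K) (huni : UniOm Om)
    (hne : Om.Nonempty) (hp : ∀ K ∈ Om, HasPieces (cls K)) : HasPieces Om := by
  have hc : ∀ K ∈ Om, OO K = ⊥ := fun K hK => (hp K hK).core K (self_mem_cls K)
  obtain ⟨K, hK⟩ := id hne
  have hna := not_isMulCommutative h hK
  obtain ⟨h1, h2⟩ := piece_top (h.of_cls hK) ⟨K, self_mem_cls K⟩ (hp K hK)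
  cases h1 with
  | single mem => exact absurd mem h2
  | chart _ _ _ p c τ kind ok _ _ zx =>
    have h3 : Om = cls K := (eq_cls hch h huni hc hK c kind ok zx).antisymm (h.cls_subset hK)
    rw [h3]
    exact hp K hK
  | exc _ _ p prime odd iso _ _ _ => exact hex G Om p h ty huni hne prime odd (iso.congr (topQuot hna))
  | mathieu _ _ iso _ _ =>
    obtain ⟨e⟩ := iso
    exact hasPieces_of_isoM11 h hne ty ⟨(topQuot hna).symm.trans e⟩

end Simple

end Cfsg.Agent.Cit.QOne
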