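import Cfsg.Agent.Cit.SLSysOf
import Cfsg.Agent.Cit.NodeGlue

/-!
# `SL(2,F)` is a rank one group (project CIT)

`rankOne_root : RankOne p (root e) (rootOp e)` for `e : SL(2,F) ≃* K`, and `RankOne.conj`.
-/

set_option autoImplicit false
set_option linter.unusedSectionVars false

namespace Cfsg.Agent.Cit.RankOneSL

open Subgroup Cfsg Matrix Cfsg.Agent.Lib.SL2Mat Cfsg.Agent.Cit.LemmaATwo Cfsg.Agent.Cit.ParabSL2
  Cfsg.Agent.Cit.SLSysOf Cfsg.Agent.Cit.NodeGlue Cfsg.Agent.RootAmalgam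

variable {G : Type*} [Group G]

theorem mu_of_SLSys {F : Type*} [Field F] [Finite F] (S : SLSys F G) {a : G} (ha : a ∈ S.A') (h1 : a ≠ 1) :
    ∃ x ∈ S.A, ∃ y ∈ S.A, Onto (x * a * y) S.A S.A' ∧ Onto (x * a * y) S.A' S.A := by
  obtain ⟨t, ht⟩ := ha
  have ht : S.xm t = a := ht
  have ht0 : t ≠ 0 := by
    rintro rfl
    exact h1 (by rw [← ht, S.xm_zero])
  have fA := finite_of_card S.card_A
  have fA' := finite_of_card S.card_A'
  refine ⟨S.xp (-t⁻¹), S.xp_mem _, S.xp (-t⁻¹), S.xp_mem _, ?_⟩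
  have e : S.xp (-t⁻¹) * a * S.xp (-t⁻¹) = S.opp.h t * S.opp.w := by
    rw [← ht]; exact S.weyl' t ht0
  rw [e]
  exact ⟨onto_of_card (S.card_A.trans S.card_A'.symm) fun b hb => S.opp.n_A' ht0 hb,
    onto_of_card (S.card_A'.trans S.card_A.symm) fun b hb => S.opp.n_A ht0 hb⟩

variable {F : Type*} [Field F]

theorem dg_pow (a : F) (ha : a ≠ 0) (n : ℕ) : dg a ha ^ n = dg (a ^ n) (pow_ne_zero n ha) := by
  induction n with
  | zero =>
    rw [pow_zero]
    have : dg (a ^ 0) (pow_ne_zero 0 ha) = dg (1 : F) one_ne_zero := by congr 1; exact pow_zero a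
    rw [this, dg_one]
  | succ n ih =>
    rw [pow_succ, ih, ← dg_mul]
    congr 1
    exact (pow_succ a n).symm

variable [Fintype F] {K : Subgroup G}

theorem pow_eq_one (e : Matrix.SpecialLinearGroup (Fin 2) F ≃* K) {g : G} (hg : g ∈ K)
    (h1 : g * (e (up 1) : G) * g⁻¹ ∈ root e) (h2 : g * (e (lo 1) : G) * g⁻¹ ∈ rootOp e) :
    g ^ (Fintype.card F - 1) = 1 := by
  obtain ⟨m, hm⟩ : ∃ m, (e m : G) = g := ⟨e.symm ⟨g, hg⟩, by rw [MulEquiv.apply_symm_apply]⟩
  rw [mem_root] at h1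
  rw [mem_rootOp] at h2
  obtain ⟨b, hb⟩ := h1
  obtain ⟨c, hc⟩ := h2
  have e1 : up b * m = m * up 1 := by
    apply e.injective
    apply Subtype.ext
    rw [map_mul, map_mul, Subgroup.coe_mul, Subgroup.coe_mul, hb, hm]; group
  have e2 : lo c * m = m * lo 1 := by
    apply e.injective
    apply Subtype.ext
    rw [map_mul, map_mul, Subgroup.coe_mul, Subgroup.coe_mul, hc, hm]; group
  have h10 : ent m 1 0 = 0 := by
    have := congrArg (fun x => ent x 1 1) e1
    simp only [ent_mul, up_10, up_11, up_01] at this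
    linear_combination -this
  have h01 : ent m 0 1 = 0 := by
    have := congrArg (fun x => ent x 0 0) e2
    simp only [ent_mul, lo_10, lo_00, lo_01] at this
    linear_combination -this
  have hd := det_eq m
  rw [h10, h01, mul_zero, sub_zero] at hd
  have h00 : ent m 0 0 ≠ 0 := left_ne_zero_of_mul_eq_one hd
  have hmd : m = dg (ent m 0 0) h00 := by
    refine ext_ent ?_ ?_ ?_ ?_
    · rw [dg_00]
    · rw [dg_01, h01]
    · rw [dg_10, h10]
    · rw [dg_11]; exact eq_inv_of_mul_eq_one_right hd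
  have hq : m ^ (Fintype.card F - 1) = 1 := by
    rw [hmd, dg_pow]
    have : dg (ent m 0 0 ^ (Fintype.card F - 1)) (pow_ne_zero _ h00) = dg (1 : F) one_ne_zero := by
      congr 1; exact FiniteField.pow_card_sub_one_eq_one _ h00
    rw [this, dg_one]
  rw [← hm]
  have := congrArg (fun x => (e x : G)) hq
  simp only [map_pow, map_one, Subgroup.coe_pow, Subgroup.coe_one] at this
  exact this

theorem coprime_of_pow [Finite G] {p : ℕ} [hp : Fact p.Prime] [CharP F p] {N : Subgroup G}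
    (h : ∀ g ∈ N, g ^ (Fintype.card F - 1) = 1) : (Nat.card N).Coprime p := by
  rw [Nat.coprime_comm, Nat.Prime.coprime_iff_not_dvd hp.out]
  intro hd
  obtain ⟨x, hx⟩ := exists_prime_orderOf_dvd_card' p hd
  have h1 : (x : G) ^ (Fintype.card F - 1) = 1 := h x x.2
  have h2 : x ^ (Fintype.card F - 1) = 1 := Subtype.ext h1
  have h3 : p ∣ Fintype.card F - 1 := by rw [← hx]; exact orderOf_dvd_of_pow_eq_one h2
  have h4 : p ∣ Fintype.card F := by
    obtain ⟨n, _, hn⟩ := FiniteField.card F p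
    rw [hn]
    exact dvd_pow_self p n.ne_zero
  have h5 : 1 ≤ Fintype.card F := Fintype.card_pos
  have h6 := Nat.dvd_sub h4 h3
  have h7 : Fintype.card F - (Fintype.card F - 1) = 1 := by omega
  rw [h7] at h6
  exact hp.out.one_lt.ne' (Nat.dvd_one.1 h6)

/-- `SL(2,F)` is a rank one group. -/
theorem rankOne_root [Finite G] {p : ℕ} [hp : Fact p.Prime] [CharP F p]
    (e : Matrix.SpecialLinearGroup (Fin 2) F ≃* K) : RankOne p (root e) (rootOp e) where
  mu := by
    intro a ha h1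
    have := mu_of_SLSys (ofEquiv e) (a := a) (by rw [A'_eq]; exact ha) h1
    rw [A_eq, A'_eq] at this
    exact this
  ne := by
    intro h
    have h1 : (e (up 1) : G) ∈ rootOp e := by
      rw [← h, mem_root]; exact ⟨1, rfl⟩
    rw [mem_rootOp] at h1
    obtain ⟨b, hb⟩ := h1
    have h2 := congrArg (fun x => ent x 0 1) (e.injective (Subtype.ext hb))
    simp only [lo_01, up_01] at h2
    exact zero_ne_one h2
  ne_bot := by
    intro h
    have h1 : (e (lo 1) : G) ∈ rootOp e := by rw [mem_rootOp]; exact ⟨1, rfl⟩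
    rw [h, Subgroup.mem_bot] at h1
    have h2 : e (lo 1) = 1 := Subtype.ext h1
    have h3 : lo (1 : F) = 1 := e.injective (by rw [h2, map_one])
    have h4 := congrArg (fun x => ent x 1 0) h3
    simp only [lo_10, ent_one_10] at h4
    exact one_ne_zero h4
  pgrp := by
    obtain ⟨n, _, hn⟩ := FiniteField.card F p
    exact IsPGroup.of_card (n := n) (by rw [card_root, hn])
  cop := by
    refine coprime_of_pow (F := F) ?_
    rintro g ⟨⟨hg, h1⟩, h2⟩
    rw [root_sup_rootOp] at hg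
    refine pow_eq_one e hg ?_ ?_
    · exact (Subgroup.mem_normalizer_iff.1 h1 _).1 (mem_root.2 ⟨1, rfl⟩)
    · exact (Subgroup.mem_normalizer_iff.1 h2 _).1 (mem_rootOp.2 ⟨1, rfl⟩)

end Cfsg.Agent.Cit.RankOneSL

namespace Cfsg.Agent.Cit.RankOneSL

open Cfsg.Agent.Cit.NodeGlue Cfsg.Agent.RootAmalgam

universe u

variable {Y : Type u} [Group Y]

theorem eq_map_of_onto {g : Y} {P Q : Subgroup Y} (h : Onto g P Q) :
    Q = P.map (MulAut.conj g).toMonoidHom := by
  ext x
  rw [Subgroup.mem_map]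
  constructor
  · intro hx
    refine ⟨g⁻¹ * x * g, h.mem_inv hx, ?_⟩
    show g * (g⁻¹ * x * g) * g⁻¹ = x
    group
  · rintro ⟨y, hy, rfl⟩
    exact h.mem hy

/-- Conjugates of rank one groups. -/
theorem conj {p : ℕ} [Finite Y] {X Xn X' Xn' : Subgroup Y} (H : RankOne p X Xn) {g : Y} (h : Onto g X X')
    (h' : Onto g Xn Xn') : RankOne p X' Xn' where
  mu := by
    intro a ha h1
    have ha' := h'.mem_inv ha
    obtain ⟨x, hx, y, hy, o1, o2⟩ := H.mu _ ha' (by
      intro h2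
      apply h1
      calc a = g * (g⁻¹ * a * g) * g⁻¹ := by group
        _ = 1 := by rw [h2]; group)
    refine ⟨g * x * g⁻¹, h.mem hx, g * y * g⁻¹, h.mem hy, ?_⟩
    have e : g * x * g⁻¹ * a * (g * y * g⁻¹) = g * (x * (g⁻¹ * a * g) * y) * g⁻¹ := by group
    rw [e]
    exact ⟨(h'.mul o1).mul h.inv, (h.mul o2).mul h'.inv⟩
  ne := by
    rintro rfl
    exact H.ne (h.eq_left h')
  ne_bot := by
    intro h2
    apply H.ne_bot
    rw [eq_bot_iff]
    intro x hx
    have := h'.mem hx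
    rw [h2, Subgroup.mem_bot] at this
    rw [Subgroup.mem_bot]
    calc x = g⁻¹ * (g * x * g⁻¹) * g := by group
      _ = 1 := by rw [this]; group
  pgrp := by
    rw [eq_map_of_onto h]
    exact H.pgrp.map _
  cop := by
    refine Nat.Coprime.coprime_dvd_left ?_ H.cop
    have key : (X' ⊔ Xn') ⊓ Subgroup.normalizer (X' : Set Y) ⊓ Subgroup.normalizer (Xn' : Set Y) ≤
        ((X ⊔ Xn) ⊓ Subgroup.normalizer (X : Set Y) ⊓ Subgroup.normalizer (Xn : Set Y)).map
          (MulAut.conj g).toMonoidHom := by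
      have aux : ∀ {P P' : Subgroup Y}, Onto g P P' → ∀ {a : Y}, a ∈ Subgroup.normalizer (P' : Set Y) →
          g⁻¹ * a * g ∈ Subgroup.normalizer (P : Set Y) := by
        intro P P' ho a ha
        rw [Subgroup.mem_normalizer_iff] at ha ⊢
        intro x
        rw [← ho x, ha, ← ho]
        have e : g * (g⁻¹ * a * g * x * (g⁻¹ * a * g)⁻¹) * g⁻¹ = a * (g * x * g⁻¹) * a⁻¹ := by group
        rw [e]
      rintro a ⟨⟨h1, h2⟩, h3⟩
      refine ⟨g⁻¹ * a * g, ⟨⟨?_, aux h h2⟩, aux h' h3⟩, ?_⟩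
      · rw [eq_map_of_onto h, eq_map_of_onto h', ← Subgroup.map_sup] at h1
        obtain ⟨b, hb, rfl⟩ := h1
        have e : g⁻¹ * (MulAut.conj g).toMonoidHom b * g = b := by
          show g⁻¹ * (g * b * g⁻¹) * g = b
          group
        rw [e]; exact hb
      · show g * (g⁻¹ * a * g) * g⁻¹ = a
        group
    refine (Subgroup.card_dvd_of_le key).trans ?_
    exact Subgroup.card_map_dvd _ _

end Cfsg.Agent.Cit.RankOneSL
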