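import Cfsg.Agent.Cit.SL4Fb
import Cfsg.Agent.LieClassical.SLGen

/-!
# `RDiag` and `Gen` for `SL₄(F)`
-/

set_option autoImplicit false
set_option linter.unusedSimpArgs false

namespace Cfsg.Agent.Cit.SL4F

open Subgroup Cfsg Matrix Cfsg.Agent.Cit.LongAbs Cfsg.Agent.Cit.LongBlock Cfsg.Agent.Cit.LongQuot
  Cfsg.Agent.Cit.LongMain Cfsg.Agent.Cit.LongModel Cfsg.Agent.LieClassical.SLGen

variable {Γ : Type*} [Group Γ] {F : Type*} [Field F] {R : Rep Γ F (Fin 2)}

theorem cond_empty {ι : Type*} [Fintype ι] [DecidableEq ι] {M : Matrix ι ι F} :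
    Cond (∅ : Set (F →+* F)) M ↔ M.det = 1 :=
  ⟨fun h => h.1, fun h => ⟨h, fun _ ht => absurd ht (Set.notMem_empty _)⟩⟩

theorem rdiag_empty (h2 : (2 : F) ≠ 0) : RDiag (∅ : Set (F →+* F)) := by
  intro A hA
  obtain ⟨hd, htr⟩ := trace_of_sq h2 hA.sq hA.ne hA.ne'
  have hs : A 1 1 = -A 0 0 := by rw [trace_fin_two] at htr; linear_combination htr
  have hdet : A 0 0 * A 0 0 + A 0 1 * A 1 0 = 1 := by
    rw [det_fin_two, hs] at hd; linear_combination -hd
  by_cases hr : A 0 0 = -1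
  · have h3 : A 0 1 * A 1 0 = 0 := by rw [hr] at hdet; linear_combination hdet
    have h4 : (4 : F) ≠ 0 := by
      have : (4 : F) = 2 * 2 := by norm_num
      rw [this]; exact mul_ne_zero h2 h2
    obtain ⟨k, hk⟩ : ∃ k : F, k * 4 = 1 := ⟨4⁻¹, inv_mul_cancel₀ h4⟩
    refine ⟨!![A 0 1 * k, -2; 2 * k, A 1 0], cond_empty.2 ?_, ?_⟩
    · rw [det_fin_two_of]
      linear_combination k * h3 + hk
    · ext i j
      fin_cases i <;> fin_cases j <;> simp only [Matrix.mul_apply, Fin.sum_univ_two] <;> simp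
      · linear_combination (A 0 1 * k) * hr
      · linear_combination h3 - 2 * hr
      · linear_combination k * h3 + 2 * k * hs - 2 * k * hr
      · linear_combination A 1 0 * hs - A 1 0 * hr
  · have hc : (2 + 2 * A 0 0 : F) ≠ 0 := by
      intro h3
      apply hr
      have h4 : (2 : F) * (1 + A 0 0) = 0 := by linear_combination h3
      have h5 := (mul_eq_zero.1 h4).resolve_left h2
      linear_combination h5
    obtain ⟨k, hk⟩ : ∃ k : F, k * (2 + 2 * A 0 0) = 1 := ⟨(2 + 2 * A 0 0)⁻¹, inv_mul_cancel₀ hc⟩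
    refine ⟨!![-(1 + A 0 0) * k, A 0 1; -(A 1 0 * k), -(1 + A 0 0)], cond_empty.2 ?_, ?_⟩
    · rw [det_fin_two_of]
      linear_combination k * hdet + hk
    · ext i j
      fin_cases i <;> fin_cases j <;> simp [Matrix.mul_apply, Fin.sum_univ_two, hs]
      · linear_combination -k * hdet
      · ring
      · ring
      · linear_combination hdet

/-- the image of `X` in `SL` -/
def Im (R : Rep Γ F (Fin 2)) (X : Subgroup Γ) : Subgroup (SpecialLinearGroup (Fin 2 ⊕ Fin 2) F) where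
  carrier := {A | ∃ g ∈ X, R.ρ g = A.1}
  one_mem' := ⟨1, one_mem _, map_one _⟩
  mul_mem' := by
    rintro A B ⟨g, hg, h1⟩ ⟨k, hk, h2⟩
    exact ⟨g * k, mul_mem hg hk, by rw [map_mul, h1, h2]; rfl⟩
  inv_mem' := by
    rintro A ⟨g, hg, h1⟩
    refine ⟨g⁻¹, inv_mem hg, ?_⟩
    have h3 : A.1 * (A⁻¹).1 = 1 := congrArg Subtype.val (mul_inv_cancel A)
    calc R.ρ g⁻¹ = R.ρ g⁻¹ * (A.1 * (A⁻¹).1) := by rw [h3, Matrix.mul_one]
      _ = (R.ρ g⁻¹ * R.ρ g) * (A⁻¹).1 := by rw [h1, Matrix.mul_assoc]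
      _ = (A⁻¹).1 := by rw [R.ρ_inv_mul, Matrix.one_mul]

variable (hR : Model R ∅)

include hR in
theorem mem_Im_of {X : Subgroup Γ} {A : SpecialLinearGroup (Fin 2 ⊕ Fin 2) F} (h : ∀ g, R.ρ g = A.1 → g ∈ X) :
    A ∈ Im R X := by
  obtain ⟨g, hg⟩ := (hR A.1).2 (cond_empty.2 A.2)
  exact ⟨g, h g hg, hg⟩

theorem mem_E1_single {g : Γ} {i j : Fin 2} {c : F} (h : R.ρ g = 1 + single (Sum.inl i) (Sum.inl j) c) : g ∈ R.E1 := by
  refine ⟨1 + single i j c, ?_⟩
  rw [h]
  ext k l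
  rcases k with k | k <;> rcases l with l | l <;> simp [Matrix.one_apply, Matrix.single_apply]

theorem mem_E2_single {g : Γ} {i j : Fin 2} {c : F} (h : R.ρ g = 1 + single (Sum.inr i) (Sum.inr j) c) : g ∈ R.E2 := by
  refine ⟨1 + single i j c, ?_⟩
  rw [h]
  ext k l
  rcases k with k | k <;> rcases l with l | l <;> simp [Matrix.one_apply, Matrix.single_apply]

theorem S0_diag : S0 F = diagonal (Sum.elim ![1, -1] ![-1, 1]) := by
  ext i j
  rcases i with i | i <;> rcases j with j | j <;> fin_cases i <;> fin_cases j <;> simp [S0, diagonal]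

theorem mem_Es_single {g s : Γ} (hs : R.ρ s = S0 F) {i j : Fin 2 ⊕ Fin 2} {c : F}
    (h : R.ρ g = 1 + single i j c)
    (hi : (Sum.elim ![1, -1] ![-1, 1] : Fin 2 ⊕ Fin 2 → F) i = -1)
    (hj : (Sum.elim ![1, -1] ![-1, 1] : Fin 2 ⊕ Fin 2 → F) j = -1) : g ∈ Es R s := by
  have key : ∀ d : Fin 2 ⊕ Fin 2 → F, single i j c * diagonal d = single i j (c * d j) ∧
      diagonal d * single i j c = single i j (d i * c) := by
    intro d
    constructor
    · ext k l
      rw [mul_diagonal, Matrix.single_apply, Matrix.single_apply]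
      split_ifs with h1
      · rw [h1.2]
      · rw [zero_mul]
    · ext k l
      rw [diagonal_mul, Matrix.single_apply, Matrix.single_apply]
      split_ifs with h1
      · rw [h1.1]
      · rw [mul_zero]
  refine ⟨?_, ?_⟩
  · apply R.inj
    rw [map_mul, map_mul, h, hs, S0_diag, Matrix.add_mul, Matrix.mul_add, (key _).1, (key _).2, hi, hj,
      Matrix.one_mul, Matrix.mul_one, mul_comm c]
  · rw [h, hs, S0_diag, add_sub_cancel_left, Matrix.mul_add, (key _).1, hj, Matrix.mul_one, ← single_add]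
    ring_nf
    exact single_zero _ _

include hR in
theorem gen_empty : Gen R := by
  intro s hs
  rw [eq_top_iff]
  intro g _
  set X := R.E1 ⊔ R.E2 ⊔ Es R s with hX
  have hX0 : R.E1 ≤ X := le_sup_left.trans le_sup_left
  have hX1 : R.E2 ≤ X := le_sup_right.trans le_sup_left
  have hX2 : Es R s ≤ X := le_sup_right
  -- transvections
  have hE1 : ∀ (i j : Fin 2) (h : (Sum.inl i : Fin 2 ⊕ Fin 2) ≠ Sum.inl j) (c : F),
      SpecialLinearGroup.transvection h c ∈ Im R X :=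
    fun i j h c => mem_Im_of hR fun g hg => hX0 (mem_E1_single hg)
  have hE2 : ∀ (i j : Fin 2) (h : (Sum.inr i : Fin 2 ⊕ Fin 2) ≠ Sum.inr j) (c : F),
      SpecialLinearGroup.transvection h c ∈ Im R X :=
    fun i j h c => mem_Im_of hR fun g hg => hX1 (mem_E2_single hg)
  have e12 : ∀ (h : (Sum.inl 1 : Fin 2 ⊕ Fin 2) ≠ Sum.inr 0) (c : F),
      SpecialLinearGroup.transvection h c ∈ Im R X :=
    fun h c => mem_Im_of hR fun g hg => hX2 (mem_Es_single hs hg (by simp) (by simp))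
  have e21 : ∀ (h : (Sum.inr 0 : Fin 2 ⊕ Fin 2) ≠ Sum.inl 1) (c : F),
      SpecialLinearGroup.transvection h c ∈ Im R X :=
    fun h c => mem_Im_of hR fun g hg => hX2 (mem_Es_single hs hg (by simp) (by simp))
  have hcomm : ∀ {i j k : Fin 2 ⊕ Fin 2} (hij : i ≠ j) (hik : i ≠ k) (hkj : k ≠ j) (c : F),
      (∀ c, SpecialLinearGroup.transvection hik c ∈ Im R X) → (∀ c, SpecialLinearGroup.transvection hkj c ∈ Im R X) →
      SpecialLinearGroup.transvection hij c ∈ Im R X := by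
    intro i j k hij hik hkj c h1 h2
    have h3 := commutator_transvection hij hik hkj c (1 : F)
    rw [mul_one] at h3
    rw [← h3, commutatorElement_def]
    exact mul_mem (mul_mem (mul_mem (h1 _) (h2 _)) (inv_mem (h1 _))) (inv_mem (h2 _))
  have n01 : (Sum.inl 0 : Fin 2 ⊕ Fin 2) ≠ Sum.inl 1 := by simp
  have n12 : (Sum.inl 1 : Fin 2 ⊕ Fin 2) ≠ Sum.inr 0 := by simp
  have n23 : (Sum.inr 0 : Fin 2 ⊕ Fin 2) ≠ Sum.inr 1 := by simp
  have n02 : (Sum.inl 0 : Fin 2 ⊕ Fin 2) ≠ Sum.inr 0 := by simp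
  have n13 : (Sum.inl 1 : Fin 2 ⊕ Fin 2) ≠ Sum.inr 1 := by simp
  have n03 : (Sum.inl 0 : Fin 2 ⊕ Fin 2) ≠ Sum.inr 1 := by simp
  have e02 : ∀ c, SpecialLinearGroup.transvection n02 c ∈ Im R X :=
    fun c => hcomm n02 n01 n12 c (hE1 _ _ _) (e12 _)
  have e13 : ∀ c, SpecialLinearGroup.transvection n13 c ∈ Im R X :=
    fun c => hcomm n13 n12 n23 c (e12 _) (hE2 _ _ _)
  have e03 : ∀ c, SpecialLinearGroup.transvection n03 c ∈ Im R X :=
    fun c => hcomm n03 n02 n23 c e02 (hE2 _ _ _)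
  have e20 : ∀ c, SpecialLinearGroup.transvection n02.symm c ∈ Im R X :=
    fun c => hcomm n02.symm n12.symm n01.symm c (e21 _) (hE1 _ _ _)
  have e31 : ∀ c, SpecialLinearGroup.transvection n13.symm c ∈ Im R X :=
    fun c => hcomm n13.symm n23.symm n12.symm c (hE2 _ _ _) (e21 _)
  have e30 : ∀ c, SpecialLinearGroup.transvection n03.symm c ∈ Im R X :=
    fun c => hcomm n03.symm n13.symm n01.symm c e31 (hE1 _ _ _)
  have htop : Im R X = ⊤ := by
    rw [eq_top_iff, ← closure_transvections, closure_le]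
    rintro _ ⟨i, j, h, c, rfl⟩
    change SpecialLinearGroup.transvection h c ∈ Im R X
    rcases i with i | i <;> rcases j with j | j
    · exact hE1 _ _ _ _
    · fin_cases i <;> fin_cases j
      · exact e02 c
      · exact e03 c
      · exact e12 _ c
      · exact e13 c
    · fin_cases i <;> fin_cases j
      · exact e20 c
      · exact e21 _ c
      · exact e30 c
      · exact e31 c
    · exact hE2 _ _ _ _
  let B : SpecialLinearGroup (Fin 2 ⊕ Fin 2) F := ⟨R.ρ g, det_ρ hR g⟩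
  have hg : B ∈ Im R X := by rw [htop]; exact mem_top _
  obtain ⟨g', hg', h1⟩ := hg
  rw [← R.inj h1]
  exact hg'

end Cfsg.Agent.Cit.SL4F
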