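import Cfsg.Agent.Cit.SL4Fb

/-!
# (F7): involutory automorphisms of `PSL₄(F)`, `PSU₄(q)` trivial on `D₁` (uniform part)

`Form R α B B' τ` : `α` is induced by `x ↦ B (τ x) B⁻¹`. `typeI` : `τ x = x`; `typeII` : `τ x = x⁻ᵀ`.
-/

set_option autoImplicit false
set_option linter.unusedSimpArgs false

namespace Cfsg.Agent.Cit.SL4F

open Subgroup Cfsg Matrix Cfsg.Agent.Cit.LongAbs Cfsg.Agent.Cit.LongBlock Cfsg.Agent.Cit.LongQuot
  Cfsg.Agent.Cit.LongMain Cfsg.Agent.Cit.LongModel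

variable {Γ : Type*} [Group Γ] {F : Type*} [Field F] {T : Set (F →+* F)} {R : Rep Γ F (Fin 2)} {a b : F}

/-- the automorphism `α` is induced by `x ↦ B (τ x) B⁻¹` -/
structure Form (R : Rep Γ F (Fin 2)) (α : MulAut (Γ ⧸ center Γ)) (B B' : Matrix (Fin 2 ⊕ Fin 2) (Fin 2 ⊕ Fin 2) F)
    (τ : Γ → Matrix (Fin 2 ⊕ Fin 2) (Fin 2 ⊕ Fin 2) F) : Prop where
  inv : B * B' = 1
  eq : ∀ x y, α (pr Γ x) = pr Γ y → ∃ c : F, R.ρ y = c • (B * τ x * B')

variable {α : MulAut (Γ ⧸ center Γ)} {B B' : Matrix (Fin 2 ⊕ Fin 2) (Fin 2 ⊕ Fin 2) F}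
  {τ : Γ → Matrix (Fin 2 ⊕ Fin 2) (Fin 2 ⊕ Fin 2) F}

theorem Form.inv' (h : Form R α B B' τ) : B' * B = 1 := mul_eq_one_comm.1 h.inv

theorem Form.fix (h : Form R α B B' τ) {x : Γ} (hx : α (pr Γ x) = pr Γ x) : ∃ c : F, R.ρ x * B = c • (B * τ x) := by
  obtain ⟨c, hc⟩ := h.eq x x hx
  refine ⟨c, ?_⟩
  calc R.ρ x * B = (c • (B * τ x * B')) * B := by rw [← hc]
    _ = c • (B * τ x * (B' * B)) := by rw [smul_mul_assoc, Matrix.mul_assoc]
    _ = c • (B * τ x) := by rw [h.inv', Matrix.mul_one]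

/-- the block form of `B` -/
theorem Form.blk (h : Form R α B B' τ) (h2 : (2 : F) ≠ 0) (hR : Model R T)
    {τ0 : Matrix (Fin 2) (Fin 2) F → Matrix (Fin 2) (Fin 2) F} (ht : τ0 (-1) = -1)
    (hτ : ∀ x U, Cond T U → R.ρ x = fromBlocks U 0 0 1 → τ x = fromBlocks (τ0 U) 0 0 1)
    (hfix : ∀ x ∈ D1 R, α x = x) : ∃ P S, B = fromBlocks P 0 0 S ∧ ∀ U, Cond T U → U * P = P * τ0 U := by
  have hB := (fromBlocks_toBlocks B).symm
  set P := B.toBlocks₁₁
  set Q := B.toBlocks₁₂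
  set N := B.toBlocks₂₁
  set S := B.toBlocks₂₂
  have key : ∀ U, Cond T U → ∃ c : F, U * P = c • (P * τ0 U) ∧ U * Q = c • Q ∧ N = c • (N * τ0 U) ∧ S = c • S := by
    intro U hU
    obtain ⟨x, hx⟩ := exists_blocks hR hU (Cond.one T)
    obtain ⟨c, hc⟩ := h.fix (x := x) (hfix _ ⟨x, ⟨U, hx⟩, rfl⟩)
    rw [hτ x U hU hx, hx, hB, fromBlocks_multiply, fromBlocks_multiply, fromBlocks_smul, fromBlocks_inj] at hc
    simp only [Matrix.zero_mul, Matrix.mul_zero, add_zero, zero_add, Matrix.one_mul, Matrix.mul_one] at hc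
    exact ⟨c, hc.1, hc.2.1, hc.2.2.1, hc.2.2.2⟩
  have hm1 : Cond T (-1 : Matrix (Fin 2) (Fin 2) F) := by
    have := (cond_U1 T).mul (cond_U1 T)
    rwa [U1_sq] at this
  obtain ⟨c, e1, e2, e3, e4⟩ := key (-1) hm1
  rw [ht] at e1 e3
  simp only [Matrix.neg_mul, Matrix.one_mul, Matrix.mul_neg, Matrix.mul_one] at e1 e2 e3
  have hdet : B.det ≠ 0 := by
    intro h0
    have := congrArg det h.inv
    rw [det_mul, h0, zero_mul, det_one] at this
    exact zero_ne_one this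
  by_cases hc1 : c = 1
  · -- block diagonal
    rw [hc1, one_smul] at e2 e3
    have hQ : Q = 0 := by
      have h3 : (2 : F) • Q = 0 := by rw [two_smul]; nth_rewrite 1 [← e2]; exact neg_add_cancel Q
      exact (smul_eq_zero.1 h3).resolve_left h2
    have hN : N = 0 := by
      have h3 : (2 : F) • N = 0 := by rw [two_smul]; nth_rewrite 1 [e3]; exact neg_add_cancel N
      exact (smul_eq_zero.1 h3).resolve_left h2
    rw [hQ, hN] at hB
    refine ⟨P, S, hB, fun U hU => ?_⟩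
    obtain ⟨d, h3, -, -, h4⟩ := key U hU
    have hS : S ≠ 0 := by
      intro h0
      apply hdet
      rw [hB, det_fromBlocks_zero₂₁, h0, det_zero, mul_zero]
    have hd : d = 1 := by
      have h5 : (d - 1) • S = 0 := by rw [sub_smul, one_smul, ← h4, sub_self]
      exact sub_eq_zero.1 ((smul_eq_zero.1 h5).resolve_right hS)
    rw [h3, hd, one_smul]
  · exfalso
    have hP : P = 0 := by
      have h5 : (c - 1) • P = 0 := by
        rw [sub_smul, one_smul]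
        have : c • P = P := by
          have h6 : c • (-P) = -(c • P) := smul_neg c P
          rw [h6] at e1
          exact (neg_injective e1).symm
        rw [this, sub_self]
      exact (smul_eq_zero.1 h5).resolve_left (sub_ne_zero.2 hc1)
    have hS : S = 0 := by
      have h5 : (c - 1) • S = 0 := by rw [sub_smul, one_smul, ← e4, sub_self]
      exact (smul_eq_zero.1 h5).resolve_left (sub_ne_zero.2 hc1)
    rw [hP, hS] at hB
    obtain ⟨d, -, h4, -, -⟩ := key _ (cond_U1 T)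
    -- `Q` is invertible
    have h5 := h.inv
    have hB' := (fromBlocks_toBlocks B').symm
    rw [hB, hB', fromBlocks_multiply, ← fromBlocks_one, fromBlocks_inj] at h5
    have h6 : Q * B'.toBlocks₂₁ = 1 := by simpa using h5.1
    have h7 : U1 F = d • 1 := by
      calc U1 F = U1 F * (Q * B'.toBlocks₂₁) := by rw [h6, Matrix.mul_one]
        _ = d • 1 := by rw [← Matrix.mul_assoc, h4, smul_mul_assoc, h6]
    have h8 := congrFun (congrFun h7 0) 1
    simp [U1] at h8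

/-- matrices commuting with `Γ` up to scalars -/
theorem scal (hR : Model R T) {N : Matrix (Fin 2 ⊕ Fin 2) (Fin 2 ⊕ Fin 2) F} {ν : F} {M : Matrix (Fin 2) (Fin 2) F}
    (h2 : (2 : F) ≠ 0) (hq : Quat T a b)
    (hN : N = fromBlocks (ν • 1) 0 0 M) (hν : ν ≠ 0) (h : ∀ x : Γ, ∃ c : F, R.ρ x * N = c • (N * R.ρ x)) :
    M = ν • 1 := by
  have hcomm : ∀ U, Cond T U → M * U = U * M := by
    intro U hU
    obtain ⟨x, hx⟩ := exists_blocks hR (Cond.one T) hU
    obtain ⟨c, hc⟩ := h x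
    rw [hx, hN, fromBlocks_multiply, fromBlocks_multiply, fromBlocks_smul, fromBlocks_inj] at hc
    simp only [Matrix.zero_mul, Matrix.mul_zero, add_zero, zero_add, Matrix.one_mul, Matrix.mul_one] at hc
    have h3 := congrFun (congrFun hc.1 0) 0
    simp at h3
    have h4 : c = 1 := by
      have h5 : (c - 1) * ν = 0 := by linear_combination -h3
      exact sub_eq_zero.1 ((mul_eq_zero.1 h5).resolve_right hν)
    rw [hc.2.2.2, h4, one_smul]
  obtain ⟨μ, hμ⟩ := scalar_of_comm h2 hq (hcomm _ (cond_U1 T)) (hcomm _ (cond_U2 hq))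
  obtain ⟨w, hw⟩ := (hR _).2 (cond_W0 T)
  obtain ⟨c, hc⟩ := h w
  rw [hw, hN, hμ, W0, fromBlocks_multiply, fromBlocks_multiply, fromBlocks_smul, fromBlocks_inj] at hc
  have h3 := congrFun (congrFun hc.1 1) 1
  have h4 := congrFun (congrFun hc.2.2.1 0) 0
  simp at h3 h4
  have h5 : c = 1 := by
    have h6 : (c - 1) * ν = 0 := by linear_combination -h3
    exact sub_eq_zero.1 ((mul_eq_zero.1 h6).resolve_right hν)
  rw [hμ, h4, h5, one_mul]

/-- elements of `Es s`, `s = diag(1,-1,-1,1)`, commute with `diag(1,1,1,-1)` -/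
theorem comm_d (h2 : (2 : F) ≠ 0) {s y : Γ} (hs : R.ρ s = S0 F) (hy : y ∈ Es R s) :
    R.ρ y * fromBlocks 1 0 0 !![1, 0; 0, -1] = fromBlocks 1 0 0 !![1, 0; 0, -1] * R.ρ y := by
  obtain ⟨h1, h3⟩ := hy
  have h4 := congrArg R.ρ h1
  rw [map_mul, map_mul, hs] at h4
  rw [hs] at h3
  generalize R.ρ y = N at h3 h4 ⊢
  have hN := (fromBlocks_toBlocks N).symm
  rw [hN, S0, fromBlocks_multiply, fromBlocks_multiply, fromBlocks_inj] at h4
  rw [hN, S0, ← fromBlocks_one, fromBlocks_add, sub_eq_add_neg, fromBlocks_neg, fromBlocks_add,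
    fromBlocks_multiply, ← fromBlocks_zero, fromBlocks_inj] at h3
  rw [hN, fromBlocks_multiply, fromBlocks_multiply]
  set A := N.toBlocks₁₁
  set B := N.toBlocks₁₂
  set C := N.toBlocks₂₁
  set D := N.toBlocks₂₂
  obtain ⟨-, g2, g3, g4⟩ := h3
  obtain ⟨-, -, k3, k4⟩ := h4
  have z1 : B 0 1 = 0 := by
    have := congrFun (congrFun g2 0) 1
    simp [Matrix.mul_apply, vecMul, dotProduct, Fin.sum_univ_two, Matrix.add_apply] at this
    rcases this with h | h
    · exact h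
    · exact absurd (by linear_combination h) h2
  have z2 : B 1 1 = 0 := by
    have := congrFun (congrFun g2 1) 1
    simp [Matrix.mul_apply, vecMul, dotProduct, Fin.sum_univ_two, Matrix.add_apply] at this
    rcases this with h | h
    · exact h
    · exact absurd (by linear_combination h) h2
  have z3 : D 0 1 = 0 := by
    have := congrFun (congrFun g4 0) 1
    simp [Matrix.mul_apply, vecMul, dotProduct, Fin.sum_univ_two, Matrix.add_apply] at this
    rcases this with h | h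
    · exact h
    · exact absurd (by linear_combination h) h2
  have z4 : D 1 0 = 0 := by
    have := congrFun (congrFun k4 1) 0
    simp [Matrix.mul_apply, vecMul, dotProduct, Fin.sum_univ_two, Matrix.add_apply] at this
    have h5 : 2 * D 1 0 = 0 := by linear_combination -this
    exact (mul_eq_zero.1 h5).resolve_left h2
  have z5 : C 1 1 = 0 := by
    have := congrFun (congrFun k3 1) 1
    simp [Matrix.mul_apply, vecMul, dotProduct, Fin.sum_univ_two, Matrix.add_apply] at this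
    have h5 : 2 * C 1 1 = 0 := by linear_combination -this
    exact (mul_eq_zero.1 h5).resolve_left h2
  have z6 : C 1 0 = 0 := by
    have := congrFun (congrFun g3 1) 0
    simp [Matrix.mul_apply, vecMul, dotProduct, Fin.sum_univ_two, Matrix.add_apply] at this
    rcases this with h | h
    · exact h
    · exact absurd (by linear_combination h) h2
  congr 1 <;> (ext i j; fin_cases i <;> fin_cases j <;>
    simp [Matrix.mul_apply, vecMul, dotProduct, Fin.sum_univ_two, z1, z2, z3, z4, z5, z6])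

/-- composition -/
theorem Form.trivial_on (h : Form R α B B' τ) {x : Γ} (hx : B * τ x * B' = R.ρ x) : α (pr Γ x) = pr Γ x := by
  obtain ⟨y, hy⟩ := pr_surjective (α (pr Γ x))
  obtain ⟨c, hc⟩ := h.eq x y hy.symm
  rw [hx] at hc
  rw [← hy]
  exact LongFiveB.pr_eq_of_smul R hc

/-- **(F7), inner-diagonal automorphisms** -/
theorem typeI (h2 : (2 : F) ≠ 0) (hR : Model R T) (hq : Quat T a b) (hrd : RDiag T)
    (h : Form R α B B' R.ρ) (hun : ∀ t ∈ T, Bᵀ * B.map t = 1) (hα : α * α = 1) (hfix : ∀ x ∈ D1 R, α x = x)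
    (hne : ∃ x ∈ D2 R, α x ≠ x) : ∃ J, ThP (Mem R) (D1 R) (D2 R) J ∧ ∀ x ∈ J, α x = x := by
  obtain ⟨P, S, hB, hP⟩ := h.blk h2 hR (τ0 := id) rfl (fun x U _ hx => hx) hfix
  obtain ⟨l, rfl⟩ := scalar_of_comm h2 hq (hP _ (cond_U1 T)).symm (hP _ (cond_U2 hq)).symm
  have hl : l ≠ 0 := by
    rintro rfl
    have h3 := congrArg det h.inv
    rw [det_mul, hB, det_fromBlocks_zero₂₁, zero_smul, det_zero, zero_mul, zero_mul, det_one] at h3
    exact zero_ne_one h3
  -- `B²` is scalar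
  have hBB : ∀ x : Γ, ∃ c : F, R.ρ x * (B * B) = c • (B * B * R.ρ x) := by
    intro x
    obtain ⟨y, hy⟩ := pr_surjective (α (pr Γ x))
    have h3 : α (pr Γ y) = pr Γ x := by
      rw [hy, ← MulAut.mul_apply, hα]; rfl
    obtain ⟨c, hc⟩ := h.eq x y hy.symm
    obtain ⟨d, hd⟩ := h.eq y x h3
    refine ⟨d * c, ?_⟩
    have hxx : R.ρ x = (d * c) • (B * (B * R.ρ x * B') * B') := by
      calc R.ρ x = d • (B * R.ρ y * B') := hd
        _ = d • (B * (c • (B * R.ρ x * B')) * B') := by rw [hc]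
        _ = (d * c) • (B * (B * R.ρ x * B') * B') := by simp only [Matrix.mul_smul, Matrix.smul_mul, smul_smul]
    have e : B * (B * R.ρ x * B') * B' * (B * B) = B * B * R.ρ x := by
      calc B * (B * R.ρ x * B') * B' * (B * B) = B * (B * R.ρ x * B') * (B' * B) * B := by
            simp only [Matrix.mul_assoc]
        _ = B * (B * R.ρ x * B') * B := by rw [h.inv', Matrix.mul_one]
        _ = B * (B * R.ρ x) * (B' * B) := by simp only [Matrix.mul_assoc]
        _ = B * B * R.ρ x := by rw [h.inv', Matrix.mul_one, Matrix.mul_assoc]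
    calc R.ρ x * (B * B) = ((d * c) • (B * (B * R.ρ x * B') * B')) * (B * B) := by rw [← hxx]
      _ = (d * c) • (B * B * R.ρ x) := by rw [Matrix.smul_mul, e]
  have hSS : S * S = (l * l) • 1 := by
    refine scal hR (N := B * B) (ν := l * l) h2 hq ?_ (mul_ne_zero hl hl) hBB
    rw [hB, fromBlocks_multiply]
    congr 1
    · simp [smul_smul]
    · simp
    · simp
    · simp
  -- the reflection `r`
  set r := l⁻¹ • S with hr
  have hrS : S = l • r := by rw [hr, smul_smul, mul_inv_cancel₀ hl, one_smul]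
  have hrr : r * r = 1 := by
    rw [hr, Matrix.smul_mul, Matrix.mul_smul, hSS, smul_smul, smul_smul]
    have : l⁻¹ * l⁻¹ * (l * l) = 1 := by field_simp
    rw [this, one_smul]
  have hBr : B = l • fromBlocks 1 0 0 r := by rw [hB, fromBlocks_smul, hrS]; simp
  have hfixx : ∀ x : Γ, fromBlocks 1 0 0 r * R.ρ x = R.ρ x * fromBlocks 1 0 0 r → α (pr Γ x) = pr Γ x := by
    intro x hx
    apply h.trivial_on
    have h3 : B * R.ρ x = R.ρ x * B := by rw [hBr, Matrix.smul_mul, Matrix.mul_smul, hx]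
    rw [h3, Matrix.mul_assoc, h.inv, Matrix.mul_one]
  have hr1 : TB T r := by
    refine ⟨hrr, ?_, ?_, ?_⟩
    · intro h3
      obtain ⟨x, ⟨x, ⟨U, hU⟩, rfl⟩, hx⟩ := hne
      apply hx
      apply hfixx
      rw [h3, hU, fromBlocks_one, Matrix.one_mul, Matrix.mul_one]
    · intro h3
      obtain ⟨x, ⟨x, ⟨U, hU⟩, rfl⟩, hx⟩ := hne
      apply hx
      apply hfixx
      rw [h3, hU, fromBlocks_multiply, fromBlocks_multiply]
      simp
    · intro t ht
      have h3 := hun t ht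
      rw [hBr, transpose_smul, fromBlocks_transpose] at h3
      have h4 : (l • fromBlocks (1 : Matrix (Fin 2) (Fin 2) F) 0 0 r).map t = t l • fromBlocks 1 0 0 (r.map t) := by
        ext i j
        rcases i with i | i <;> rcases j with j | j <;> simp [Matrix.one_apply, apply_ite t]
      rw [h4, Matrix.smul_mul, Matrix.mul_smul, fromBlocks_multiply, smul_smul, fromBlocks_smul, ← fromBlocks_one,
        fromBlocks_inj] at h3
      have h5 := congrFun (congrFun h3.1 0) 0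
      simp at h5
      have h6 := h3.2.2.2
      simp only [Matrix.transpose_zero, Matrix.zero_mul, zero_add] at h6
      rwa [h5, one_smul] at h6
  obtain ⟨Q, hQ, hrQ⟩ := hrd r hr1
  obtain ⟨k, hk⟩ := exists_blocks hR (Cond.one T) hQ
  obtain ⟨w, hw⟩ := (hR _).2 (cond_W0 T)
  obtain ⟨s, hs⟩ := (hR _).2 (cond_S0 T)
  have hk1 : cj (pr Γ k) (D1 R) = D1 R := by
    have h3 : ∀ y ∈ D1 R, pr Γ k * y * (pr Γ k)⁻¹ = y := fun y hy => by
      rw [← comm_D1_D2 R hy ⟨k, ⟨_, hk⟩, rfl⟩, mul_inv_cancel_right]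
    apply le_antisymm
    · rintro _ ⟨y, hy, rfl⟩
      change pr Γ k * y * (pr Γ k)⁻¹ ∈ D1 R
      rw [h3 y hy]; exact hy
    · intro y hy
      rw [← h3 y hy]
      exact conj_mem_cj hy
  have hk2 : cj (pr Γ k) (D2 R) = D2 R := by
    rw [← mem_normalizer_iff_cj]
    exact le_normalizer ⟨k, ⟨_, hk⟩, rfl⟩
  have hconj : ∀ K ∈ Mem R, ∀ g, cj g K ∈ Mem R := by
    rintro _ ⟨k, rfl⟩ g
    exact ⟨g * k, by rw [cj_mul]⟩
  have hT := (third_w h2 hR hq hw hs).cj hconj (pr Γ k)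
  rw [hk1, hk2] at hT
  refine ⟨_, hT, ?_⟩
  intro x hx
  rw [← map_Es h2, w_conj hw hs, ← cj_map] at hx
  obtain ⟨_, ⟨y, hy, rfl⟩, rfl⟩ := hx
  change α (pr Γ (k * y * k⁻¹)) = pr Γ (k * y * k⁻¹)
  apply hfixx
  obtain ⟨P', Q', hk', e1, e2, e3, e4⟩ := R.blocks_inv hk
  have c1 := comm_d h2 hs hy
  have c2 : fromBlocks 1 0 0 r * R.ρ k = R.ρ k * fromBlocks 1 0 0 !![1, 0; 0, -1] := by
    rw [hk, fromBlocks_multiply, fromBlocks_multiply]
    simp [hrQ]
  have c3 : fromBlocks 1 0 0 !![1, 0; 0, -1] * R.ρ k⁻¹ = R.ρ k⁻¹ * fromBlocks 1 0 0 r := by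
    calc fromBlocks 1 0 0 !![1, 0; 0, -1] * R.ρ k⁻¹
        = (R.ρ k⁻¹ * R.ρ k) * fromBlocks 1 0 0 !![1, 0; 0, -1] * R.ρ k⁻¹ := by rw [R.ρ_inv_mul, Matrix.one_mul]
      _ = R.ρ k⁻¹ * (R.ρ k * fromBlocks 1 0 0 !![1, 0; 0, -1]) * R.ρ k⁻¹ := by simp only [Matrix.mul_assoc]
      _ = R.ρ k⁻¹ * fromBlocks 1 0 0 r * (R.ρ k * R.ρ k⁻¹) := by rw [← c2]; simp only [Matrix.mul_assoc]
      _ = R.ρ k⁻¹ * fromBlocks 1 0 0 r := by rw [R.ρ_mul_inv, Matrix.mul_one]
  rw [map_mul, map_mul]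
  calc fromBlocks 1 0 0 r * (R.ρ k * R.ρ y * R.ρ k⁻¹) = (fromBlocks 1 0 0 r * R.ρ k) * R.ρ y * R.ρ k⁻¹ := by
        simp only [Matrix.mul_assoc]
    _ = R.ρ k * (fromBlocks 1 0 0 !![1, 0; 0, -1] * R.ρ y) * R.ρ k⁻¹ := by rw [c2]; simp only [Matrix.mul_assoc]
    _ = R.ρ k * R.ρ y * (fromBlocks 1 0 0 !![1, 0; 0, -1] * R.ρ k⁻¹) := by rw [← c1]; simp only [Matrix.mul_assoc]
    _ = R.ρ k * R.ρ y * R.ρ k⁻¹ * fromBlocks 1 0 0 r := by rw [c3]; simp only [Matrix.mul_assoc]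

theorem adj_J (U : Matrix (Fin 2) (Fin 2) F) (hU : U.det = 1) : (U⁻¹)ᵀ * U1 F = U1 F * U := by
  rw [inv_def, hU, Ring.inverse_one, one_smul, adjugate_fin_two]
  ext i j
  fin_cases i <;> fin_cases j <;> simp [U1, Matrix.mul_apply, vecMul, dotProduct, Fin.sum_univ_two]

theorem inv_blocks {x : Γ} {U S : Matrix (Fin 2) (Fin 2) F} (h : R.ρ x = fromBlocks U 0 0 S) :
    R.ρ x⁻¹ = fromBlocks U⁻¹ 0 0 S⁻¹ := by
  obtain ⟨P', S', h', h3, h4, h5, h6⟩ := R.blocks_inv h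
  rw [h', inv_eq_right_inv h3, inv_eq_right_inv h5]

/-- **(F7), graph automorphisms** -/
theorem typeII (h2 : (2 : F) ≠ 0) (hR : Model R T) (hq : Quat T a b)
    (h : Form R α B B' fun x => (R.ρ x⁻¹)ᵀ) (hα : α * α = 1) (hfix : ∀ x ∈ D1 R, α x = x) :
    ∀ x ∈ D2 R, α x = x := by
  obtain ⟨P, S, hB, hP⟩ := h.blk h2 hR (τ0 := fun U => (U⁻¹)ᵀ) (by
    rw [inv_eq_right_inv (show (-1 : Matrix (Fin 2) (Fin 2) F) * -1 = 1 by simp)]; simp)
    (fun x U _ hx => by
      rw [inv_blocks hx, fromBlocks_transpose]; simp) hfix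
  -- `P J` is scalar
  have hPJ : ∀ U, Cond T U → (P * U1 F) * U = U * (P * U1 F) := by
    intro U hU
    rw [← Matrix.mul_assoc U, hP U hU, Matrix.mul_assoc, Matrix.mul_assoc, adj_J U hU.1]
  obtain ⟨l, hl⟩ := scalar_of_comm h2 hq (hPJ _ (cond_U1 T)) (hPJ _ (cond_U2 hq))
  have hPl : P = -l • U1 F := by
    calc P = -(P * (U1 F * U1 F)) := by rw [U1_sq]; simp
      _ = -(P * U1 F * U1 F) := by rw [Matrix.mul_assoc]
      _ = -l • U1 F := by rw [hl, Matrix.smul_mul, Matrix.one_mul, neg_smul]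
  have hl0 : l ≠ 0 := by
    rintro rfl
    have h3 := congrArg det h.inv
    rw [det_mul, hB, hPl, det_fromBlocks_zero₂₁, neg_zero, zero_smul, det_zero, zero_mul, zero_mul, det_one] at h3
    exact zero_ne_one h3
  -- `B'`
  obtain ⟨P', S', hB', hPP, hSS⟩ : ∃ P' S', B' = fromBlocks P' 0 0 S' ∧ P * P' = 1 ∧ S * S' = 1 := by
    have h5 := h.inv
    have hb := (fromBlocks_toBlocks B').symm
    rw [hb, hB, fromBlocks_multiply, ← fromBlocks_one, fromBlocks_inj] at h5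
    simp only [Matrix.zero_mul, Matrix.mul_zero, add_zero, zero_add] at h5
    obtain ⟨k1, k2, k3, k4⟩ := h5
    have k1' := mul_eq_one_comm.1 k1
    have k4' := mul_eq_one_comm.1 k4
    have z1 : B'.toBlocks₁₂ = 0 := by
      rw [← Matrix.one_mul B'.toBlocks₁₂, ← k1', Matrix.mul_assoc, k2, Matrix.mul_zero]
    have z2 : B'.toBlocks₂₁ = 0 := by
      rw [← Matrix.one_mul B'.toBlocks₂₁, ← k4', Matrix.mul_assoc, k3, Matrix.mul_zero]
    rw [z1, z2] at hb
    exact ⟨_, _, hb, k1, k4⟩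
  -- `B B'ᵀ` is scalar
  have hN : ∀ x : Γ, ∃ c : F, R.ρ x * (B * B'ᵀ) = c • (B * B'ᵀ * R.ρ x) := by
    intro x
    obtain ⟨y, hy⟩ := pr_surjective (α (pr Γ x))
    have h3 : α (pr Γ y) = pr Γ x := by
      rw [hy, ← MulAut.mul_apply, hα]; rfl
    obtain ⟨c, hc⟩ := h.eq x y hy.symm
    obtain ⟨d, hd⟩ := h.eq y x h3
    have hc0 : c ≠ 0 := by
      rintro rfl
      rw [zero_smul] at hc
      have := R.ρ_mul_inv y
      rw [hc, Matrix.zero_mul] at this
      exact zero_ne_one this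
    have hyi : R.ρ y⁻¹ = c⁻¹ • (B * (R.ρ x)ᵀ * B') := by
      have e1 : R.ρ y * (c⁻¹ • (B * (R.ρ x)ᵀ * B')) = 1 := by
        rw [hc, Matrix.smul_mul, Matrix.mul_smul, smul_smul, mul_inv_cancel₀ hc0, one_smul]
        calc B * (R.ρ x⁻¹)ᵀ * B' * (B * (R.ρ x)ᵀ * B') = B * (R.ρ x⁻¹)ᵀ * (B' * B) * (R.ρ x)ᵀ * B' := by
              simp only [Matrix.mul_assoc]
          _ = B * ((R.ρ x⁻¹)ᵀ * (R.ρ x)ᵀ) * B' := by rw [h.inv', Matrix.mul_one]; simp only [Matrix.mul_assoc]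
          _ = 1 := by rw [← transpose_mul, R.ρ_mul_inv, transpose_one, Matrix.mul_one, h.inv]
      calc R.ρ y⁻¹ = R.ρ y⁻¹ * (R.ρ y * (c⁻¹ • (B * (R.ρ x)ᵀ * B'))) := by rw [e1, Matrix.mul_one]
        _ = (R.ρ y⁻¹ * R.ρ y) * (c⁻¹ • (B * (R.ρ x)ᵀ * B')) := (Matrix.mul_assoc _ _ _).symm
        _ = c⁻¹ • (B * (R.ρ x)ᵀ * B') := by rw [R.ρ_inv_mul, Matrix.one_mul]
    have hxx : R.ρ x = (d * c⁻¹) • (B * (B'ᵀ * R.ρ x * Bᵀ) * B') := by
      calc R.ρ x = d • (B * (R.ρ y⁻¹)ᵀ * B') := hd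
        _ = d • (B * (c⁻¹ • (B * (R.ρ x)ᵀ * B'))ᵀ * B') := by rw [hyi]
        _ = (d * c⁻¹) • (B * (B'ᵀ * R.ρ x * Bᵀ) * B') := by
          rw [transpose_smul, transpose_mul, transpose_mul, transpose_transpose]
          simp only [Matrix.mul_smul, Matrix.smul_mul, smul_smul, Matrix.mul_assoc]
    have e2 : Bᵀ * B'ᵀ = 1 := by rw [← transpose_mul, h.inv', transpose_one]
    have e : B * (B'ᵀ * R.ρ x * Bᵀ) * B' * (B * B'ᵀ) = B * B'ᵀ * R.ρ x := by
      calc B * (B'ᵀ * R.ρ x * Bᵀ) * B' * (B * B'ᵀ) = B * (B'ᵀ * R.ρ x * Bᵀ) * (B' * B) * B'ᵀ := by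
            simp only [Matrix.mul_assoc]
        _ = B * (B'ᵀ * R.ρ x * Bᵀ) * B'ᵀ := by rw [h.inv', Matrix.mul_one]
        _ = B * (B'ᵀ * R.ρ x) * (Bᵀ * B'ᵀ) := by simp only [Matrix.mul_assoc]
        _ = B * B'ᵀ * R.ρ x := by rw [e2, Matrix.mul_one, Matrix.mul_assoc]
    refine ⟨d * c⁻¹, ?_⟩
    calc R.ρ x * (B * B'ᵀ) = ((d * c⁻¹) • (B * (B'ᵀ * R.ρ x * Bᵀ) * B')) * (B * B'ᵀ) := by rw [← hxx]
      _ = (d * c⁻¹) • (B * B'ᵀ * R.ρ x) := by rw [Matrix.smul_mul, e]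
  have hPT : Pᵀ = -P := by
    rw [hPl, transpose_smul]
    ext i j
    fin_cases i <;> fin_cases j <;> simp [U1]
  have hPP' : P * P'ᵀ = -1 := by
    have e1 : P'ᵀ * Pᵀ = 1 := by rw [← transpose_mul, hPP, transpose_one]
    rw [hPT, Matrix.mul_neg, ← Matrix.neg_mul] at e1
    have e2 := mul_eq_one_comm.1 e1
    rw [Matrix.mul_neg] at e2
    rw [← e2, neg_neg]
  have hSS' : S * S'ᵀ = (-1 : F) • 1 := by
    refine scal hR (N := B * B'ᵀ) (ν := -1) h2 hq ?_ (neg_ne_zero.2 one_ne_zero) hN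
    rw [hB, hB', fromBlocks_transpose, fromBlocks_multiply]
    simp [hPP']
  have hST : S = -Sᵀ := by
    have e1 : S'ᵀ * Sᵀ = 1 := by rw [← transpose_mul, hSS, transpose_one]
    calc S = S * (S'ᵀ * Sᵀ) := by rw [e1, Matrix.mul_one]
      _ = (S * S'ᵀ) * Sᵀ := (Matrix.mul_assoc _ _ _).symm
      _ = -Sᵀ := by rw [hSS', Matrix.smul_mul, Matrix.one_mul, neg_smul, one_smul]
  have hSm : S = S 0 1 • U1 F := by
    have z0 : S 0 0 = 0 := by
      have e1 := congrFun (congrFun hST 0) 0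
      rw [Matrix.neg_apply, transpose_apply] at e1
      have e2 : 2 * S 0 0 = 0 := by linear_combination e1
      exact (mul_eq_zero.1 e2).resolve_left h2
    have z1 : S 1 1 = 0 := by
      have e1 := congrFun (congrFun hST 1) 1
      rw [Matrix.neg_apply, transpose_apply] at e1
      have e2 : 2 * S 1 1 = 0 := by linear_combination e1
      exact (mul_eq_zero.1 e2).resolve_left h2
    have z2 : S 1 0 = -S 0 1 := by
      have e1 := congrFun (congrFun hST 1) 0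
      rwa [Matrix.neg_apply, transpose_apply] at e1
    ext i j
    fin_cases i <;> fin_cases j <;> simp [U1, z0, z1, z2]
  rintro _ ⟨x, ⟨U, hU⟩, rfl⟩
  apply h.trivial_on
  have hUc : U.det = 1 := by
    have h3 := ((hR _).1 ⟨x, rfl⟩).1
    rwa [hU, det_fromBlocks_zero₂₁, det_one, one_mul] at h3
  have e1 : S * (U⁻¹)ᵀ = U * S := by
    have e2 := adj_J U hUc
    have e3 : U1 F * (U⁻¹)ᵀ = U * U1 F := by
      calc U1 F * (U⁻¹)ᵀ = -(U1 F * ((U⁻¹)ᵀ * (U1 F * U1 F))) := by rw [U1_sq]; simp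
        _ = -((U1 F * ((U⁻¹)ᵀ * U1 F)) * U1 F) := by simp only [Matrix.mul_assoc]
        _ = -(((U1 F * U1 F) * U) * U1 F) := by rw [e2]; simp only [Matrix.mul_assoc]
        _ = U * U1 F := by rw [U1_sq]; simp
    rw [hSm, Matrix.smul_mul, Matrix.mul_smul, e3]
  rw [inv_blocks hU, hU, hB, hB', fromBlocks_transpose, fromBlocks_multiply, fromBlocks_multiply]
  have e4 : S * (U⁻¹)ᵀ * S' = U := by rw [e1, Matrix.mul_assoc, hSS, Matrix.mul_one]
  simp [hPP, e4]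

end Cfsg.Agent.Cit.SL4F
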