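import Cfsg.Agent.Cit.SL4Fd
import Cfsg.Agent.Cit.SL4Fe
import Cfsg.Agent.Cit.SL4Ff
import Cfsg.Agent.ClassicalGeometry.AutPSL.Main
import Cfsg.Agent.Cit.FourFixU

/-!
# (F7) for `PSL₄(F)` and `PSU₄(q)`

`prefl_sl`, `prefl_su` : `PRefl (Mem R)` for `slRep F 2`, `suRep hF 2 _`.
-/

set_option autoImplicit false

namespace Cfsg.Agent.Cit.SL4F

open Subgroup Cfsg Matrix Cfsg.Agent.Cit.LongAbs Cfsg.Agent.Cit.LongBlock Cfsg.Agent.Cit.LongQuot
  Cfsg.Agent.Cit.LongMain Cfsg.Agent.Cit.LongModel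

section Gen

variable {Γ : Type*} [Group Γ] {F : Type*} [Field F] {T : Set (F →+* F)} {R : Rep Γ F (Fin 2)} {a b : F}

theorem smul_of_pr {x y : Γ} (h : pr Γ x = pr Γ y) : ∃ c : F, R.ρ y = c • R.ρ x := by
  have h1 : x⁻¹ * y ∈ center Γ := by
    rw [← pr_eq_one, map_mul, map_inv, h, inv_mul_cancel]
  obtain ⟨c, hc⟩ := R.cen _ h1
  refine ⟨c, ?_⟩
  have h3 : y = x * (x⁻¹ * y) := by group
  rw [h3, map_mul, hc, Matrix.mul_smul, Matrix.mul_one]

/-- reduction to `D₁`, `D₂` -/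
theorem prefl_of (h2 : (2 : F) ≠ 0) (hR : Model R T) (hq : Quat T a b)
    (H : ∀ α : MulAut (Γ ⧸ center Γ), α * α = 1 → (∀ x ∈ D1 R, α x = x) → (∃ x ∈ D2 R, α x ≠ x) →
      ∃ J, ThP (Mem R) (D1 R) (D2 R) J ∧ ∀ x ∈ J, α x = x) : PRefl (Mem R) := by
  have hconj : ∀ K ∈ Mem R, ∀ g, cj g K ∈ Mem R := by
    rintro _ ⟨k, rfl⟩ g
    exact ⟨g * k, by rw [cj_mul]⟩
  intro L hL L' hL' hc α hα hfix _ hne
  obtain ⟨g, rfl, rfl⟩ := reduce h2 hR hq hL hL' hc
  set β : MulAut (Γ ⧸ center Γ) := (MulAut.conj g)⁻¹ * α * MulAut.conj g with hβ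
  have hβx : ∀ x, β x = g⁻¹ * α (g * x * g⁻¹) * g := by
    intro x
    rw [hβ, MulAut.mul_apply, MulAut.mul_apply, MulAut.conj_apply, MulAut.conj_inv_apply]
  have key : ∀ x, β x = x ↔ α (g * x * g⁻¹) = g * x * g⁻¹ := by
    intro x
    rw [hβx]
    constructor
    · intro h
      calc α (g * x * g⁻¹) = g * (g⁻¹ * α (g * x * g⁻¹) * g) * g⁻¹ := by group
        _ = g * x * g⁻¹ := by rw [h]
    · intro h
      rw [h]; group
  have hββ : β * β = 1 := by
    rw [hβ]
    calc (MulAut.conj g)⁻¹ * α * MulAut.conj g * ((MulAut.conj g)⁻¹ * α * MulAut.conj g)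
        = (MulAut.conj g)⁻¹ * (α * α) * MulAut.conj g := by group
      _ = 1 := by rw [hα]; group
  obtain ⟨J, hJ, hJf⟩ := H β hββ (fun x hx => (key x).2 (hfix _ (conj_mem_cj hx))) (by
    obtain ⟨x, hx, hne⟩ := hne
    refine ⟨g⁻¹ * x * g, mem_cj.1 hx, fun h => hne ?_⟩
    have := (key _).1 h
    have e : g * (g⁻¹ * x * g) * g⁻¹ = x := by group
    rwa [e] at this)
  refine ⟨cj g J, hJ.cj hconj g, fun x hx => ?_⟩
  have := (key _).1 (hJf _ (mem_cj.1 hx))
  have e : g * (g⁻¹ * x * g) * g⁻¹ = x := by group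
  rwa [e] at this

end Gen

section SL

variable (F : Type*) [Field F]

open Cfsg.Agent.Cit.LongInst Cfsg.Agent.ClassicalGeometry.AutPSL

/-- field automorphisms are seen on `D₁` -/
theorem fix_of_blk {P S : Matrix (Fin 2) (Fin 2) F} (hdet : (fromBlocks P 0 0 S).det ≠ 0) {σ : F →+* F}
    {τ0 : Matrix (Fin 2) (Fin 2) F → Matrix (Fin 2) (Fin 2) F}
    (htr : ∀ U : Matrix (Fin 2) (Fin 2) F, U.det = 1 → trace (τ0 U) = σ (trace U))
    (h : ∀ U, Cond (∅ : Set (F →+* F)) U → U * P = P * τ0 U) (a : F) : σ a = a := by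
  have hP : P.det ≠ 0 := by
    intro h0
    apply hdet
    rw [det_fromBlocks_zero₂₁, h0, zero_mul]
  have hPi : P * P⁻¹ = 1 := Matrix.mul_nonsing_inv P (isUnit_iff_ne_zero.2 hP)
  have hU : Cond (∅ : Set (F →+* F)) (!![a, -1; 1, 0] : Matrix (Fin 2) (Fin 2) F) :=
    ⟨by simp, fun t ht => absurd ht (Set.notMem_empty t)⟩
  have h1 := h _ hU
  have h3 := htr _ hU.1
  have h4 : trace (τ0 !![a, -1; 1, 0]) = trace (!![a, -1; 1, 0] : Matrix (Fin 2) (Fin 2) F) := by
    calc trace (τ0 !![a, -1; 1, 0]) = trace (P⁻¹ * P * τ0 !![a, -1; 1, 0]) := by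
          rw [mul_eq_one_comm.1 hPi, Matrix.one_mul]
      _ = trace (P⁻¹ * (!![a, -1; 1, 0] * P)) := by rw [h1, Matrix.mul_assoc]
      _ = trace (!![a, -1; 1, 0] * P * P⁻¹) := trace_mul_comm _ _
      _ = trace (!![a, -1; 1, 0] : Matrix (Fin 2) (Fin 2) F) := by
          rw [Matrix.mul_assoc, hPi, Matrix.mul_one]
  rw [h4] at h3
  simpa [trace_fin_two] using h3.symm

theorem form_sl {e : MulAut (SpecialLinearGroup (Fin (2 + 2)) F)} (A : GL (Fin (2 + 2)) F)
    (τ' : SpecialLinearGroup (Fin (2 + 2)) F → Matrix (Fin (2 + 2)) (Fin (2 + 2)) F)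
    (he : ∀ x, (e x).1 = A.1 * τ' x * (A⁻¹).1) :
    Form (slRep F 2) (Auto.lift e) (A.1.submatrix (ee 2).symm (ee 2).symm)
      ((A⁻¹).1.submatrix (ee 2).symm (ee 2).symm) (fun x => (τ' x).submatrix (ee 2).symm (ee 2).symm) where
  inv := by
    rw [submatrix_mul_equiv, ← Units.val_mul, mul_inv_cancel, Units.val_one, submatrix_one_equiv]
  eq := by
    intro x y h
    obtain ⟨c, hc⟩ := smul_of_pr (R := slRep F 2) (x := e x) (y := y) h
    refine ⟨c, ?_⟩
    rw [hc]
    congr 1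
    change (e x).1.submatrix (ee 2).symm (ee 2).symm = _
    rw [he, submatrix_mul_equiv, submatrix_mul_equiv]

theorem prefl_sl [Fintype F] (ho : Odd (Fintype.card F)) : PRefl (Mem (slRep F 2)) := by
  obtain ⟨a, b, hq⟩ := exists_quat F
  have h2 : (2 : F) ≠ 0 := SignalizersComponents.SLQuasisimple.two_ne_zero_of_odd ho
  refine prefl_of h2 (slRep_model F 2) hq fun α hα hfix hne => ?_
  obtain ⟨p, hp⟩ := CharP.exists F
  haveI : Fact p.Prime := ⟨CharP.char_is_prime F p⟩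
  have hdet : ∀ A : GL (Fin (2 + 2)) F, (A.1.submatrix (ee 2).symm (ee 2).symm).det ≠ 0 := by
    intro A h
    rw [det_submatrix_equiv_self] at h
    have h3 : (A.1 * (A⁻¹).1).det = 1 := by rw [← Units.val_mul, mul_inv_cancel, Units.val_one, det_one]
    rw [det_mul, h, zero_mul] at h3
    exact zero_ne_one h3
  rcases Main.surj_three (n := 2 + 2) p (by norm_num) α with ⟨A, σ, rfl⟩ | ⟨A, σ, rfl⟩
  · have hf := form_sl F (e := Auto.cj A * Auto.fld σ) A (fun x => x.1.map σ) (fun x => rfl)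
    obtain ⟨P, S, hB, hP⟩ := hf.blk h2 (slRep_model F 2) (τ0 := fun U => U.map σ) (by
        ext i j; simp [Matrix.one_apply, apply_ite σ]) (by
        intro x U _ hx
        have : (x.1.map σ).submatrix (ee 2).symm (ee 2).symm = ((slRep F 2).ρ x).map σ := rfl
        rw [this, hx, fromBlocks_map]
        congr 1 <;> (ext i j; simp [Matrix.one_apply, apply_ite σ])) hfix
    have hσ : ∀ a, σ a = a := by
      have hd := hdet A
      rw [hB] at hd
      exact fix_of_blk F hd (σ := (σ : F →+* F)) (τ0 := fun U => U.map σ) (fun U _ => by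
        simp [trace_fin_two]) hP
    have hf' : Form (slRep F 2) (Auto.lift (Auto.cj A * Auto.fld σ)) (A.1.submatrix (ee 2).symm (ee 2).symm)
        ((A⁻¹).1.submatrix (ee 2).symm (ee 2).symm) (slRep F 2).ρ := by
      have e : (fun x : SpecialLinearGroup (Fin (2 + 2)) F => (x.1.map σ).submatrix (ee 2).symm (ee 2).symm) =
          (slRep F 2).ρ := by
        funext x
        change _ = x.1.submatrix (ee 2).symm (ee 2).symm
        congr 1
        ext i j
        exact hσ _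
      rwa [e] at hf
    exact typeI h2 (slRep_model F 2) hq (rdiag_empty h2) hf' (fun t ht => absurd ht (Set.notMem_empty t)) hα hfix hne
  · exfalso
    have hf := form_sl F (e := Auto.cj A * Auto.fld σ * Auto.itr) A (fun x => ((x⁻¹).1ᵀ).map σ) (fun x => rfl)
    have htr : ∀ U : Matrix (Fin 2) (Fin 2) F, U.det = 1 → trace (((U⁻¹)ᵀ).map σ) = σ (trace U) := by
      intro U hU
      rw [inv_def, hU, Ring.inverse_one, one_smul, adjugate_fin_two]
      simp [trace_fin_two, add_comm]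
    obtain ⟨P, S, hB, hP⟩ := hf.blk h2 (slRep_model F 2) (τ0 := fun U => ((U⁻¹)ᵀ).map σ) (by
        rw [inv_eq_right_inv (show (-1 : Matrix (Fin 2) (Fin 2) F) * -1 = 1 by simp)]
        ext i j; simp [Matrix.one_apply, apply_ite σ]) (by
        intro x U _ hx
        have : (((x⁻¹).1ᵀ).map σ).submatrix (ee 2).symm (ee 2).symm = (((slRep F 2).ρ x⁻¹)ᵀ).map σ := rfl
        rw [this, inv_blocks hx, fromBlocks_transpose, fromBlocks_map]
        congr 1 <;> (ext i j; simp [Matrix.one_apply, apply_ite σ])) hfix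
    have hσ : ∀ a, σ a = a := by
      have hd := hdet A
      rw [hB] at hd
      exact fix_of_blk F hd (σ := (σ : F →+* F)) (τ0 := fun U => ((U⁻¹)ᵀ).map σ) htr hP
    have hf' : Form (slRep F 2) (Auto.lift (Auto.cj A * Auto.fld σ * Auto.itr)) (A.1.submatrix (ee 2).symm (ee 2).symm)
        ((A⁻¹).1.submatrix (ee 2).symm (ee 2).symm) (fun x => ((slRep F 2).ρ x⁻¹)ᵀ) := by
      have e : (fun x : SpecialLinearGroup (Fin (2 + 2)) F => (((x⁻¹).1ᵀ).map σ).submatrix (ee 2).symm (ee 2).symm) =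
          fun x => ((slRep F 2).ρ x⁻¹)ᵀ := by
        funext x
        ext i j
        exact hσ _
      rwa [e] at hf
    obtain ⟨x, hx, hne⟩ := hne
    exact hne (typeII h2 (slRep_model F 2) hq hf' hα hfix x hx)

end SL

section SU

variable {F : Type*} [Field F] [Fintype F] {q : ℕ}

open Cfsg.Agent.Cit.LongInst Cfsg.Agent.LieClassical.HermBasic
open Cfsg.Agent.ClassicalGeometry.PSUAutCount (gm semiConj toAut gm_mul gm_one gm_mul_inv gm_inv_mul eq_of_toAut_eq
  herm_gm)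
open Cfsg.Agent.Schreier.PSU (f₁ f₂ toAut_eq mapGU conj_field)

theorem uni_cj_odd (hF : Fintype.card F = q ^ 2) (ho : Odd (Fintype.card F)) : Uni (LongInst.cj hF) where
  two := SignalizersComponents.SLQuasisimple.two_ne_zero_of_odd ho
  inv := fun x => pow_q_pow_q hF x
  norm := fun _ hc => exists_norm_eq hF hc

theorem form_su (hF : Fintype.card F = q ^ 2) (A : GU (2 + 2) F q) (ρ : F ≃+* F) :
    Form (suRep hF 2 (by norm_num)) (toAut A ρ) ((gm A).submatrix (ee 2).symm (ee 2).symm)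
      ((gm A⁻¹).submatrix (ee 2).symm (ee 2).symm) (fun x => ((suRep hF 2 (by norm_num)).ρ x).map ρ) where
  inv := by
    rw [submatrix_mul_equiv, gm_mul_inv, submatrix_one_equiv]
  eq := by
    intro x y h
    obtain ⟨c, hc⟩ := smul_of_pr (R := suRep hF 2 (by norm_num)) (x := semiConj A ρ x) (y := y) h
    refine ⟨c, ?_⟩
    rw [hc]
    congr 1

theorem prefl_su (hF : Fintype.card F = q ^ 2) (ho : Odd (Fintype.card F)) :
    PRefl (Mem (suRep hF 2 (by norm_num))) := by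
  obtain ⟨a, b, hq⟩ := exists_quat_su hF ho
  have h2 : (2 : F) ≠ 0 := SignalizersComponents.SLQuasisimple.two_ne_zero_of_odd ho
  have hM := suRep_model hF 2 (by norm_num)
  refine prefl_of h2 hM hq fun α hα hfix hne => ?_
  obtain ⟨A, ρ, rfl⟩ := ClassicalGeometry.PSUAutMain.exists_toAut hF (n := 2 + 2) (by norm_num) (by simp) α
  have e1 : toAut (A * mapGU ρ A) (ρ * ρ) = toAut (1 : GU (2 + 2) F q) 1 := by
    have h3 : toAut (1 : GU (2 + 2) F q) 1 = 1 := map_one f₁
    rw [h3, ← hα, toAut_eq, toAut_eq, map_mul, map_mul, ← conj_field]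
    group
  obtain ⟨hρ, -⟩ := eq_of_toAut_eq hF (by norm_num) e1.symm
  have hf := form_su hF A ρ
  by_cases hρ1 : ρ = 1
  · subst hρ1
    refine typeI h2 hM hq (rdiag_uni (uni_cj_odd hF ho)) hf ?_ hα hfix hne
    intro t ht
    rw [Set.mem_singleton_iff.1 ht]
    have h3 : (gm A)ᵀ * (gm A).map (conj hF) = 1 :=
      ClassicalGeometry.GUBasic.transpose_mul_map (by have := q_pos hF; omega) (herm_gm A)
    have h4 : ((gm A).submatrix (ee 2).symm (ee 2).symm).map (LongInst.cj hF) =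
        ((gm A).map (conj hF)).submatrix (ee 2).symm (ee 2).symm := rfl
    rw [h4, transpose_submatrix, submatrix_mul_equiv, h3, submatrix_one_equiv]
  · exfalso
    have hρ' : ρ = conj hF := FourU.eq_conj hF hρ hρ1
    subst hρ'
    have hf' : Form (suRep hF 2 (by norm_num)) (toAut A (conj hF)) ((gm A).submatrix (ee 2).symm (ee 2).symm)
        ((gm A⁻¹).submatrix (ee 2).symm (ee 2).symm) (fun x => ((suRep hF 2 (by norm_num)).ρ x⁻¹)ᵀ) := by
      have e : (fun x : SU (2 + 2) F q => ((suRep hF 2 (by norm_num)).ρ x).map (conj hF)) =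
          fun x => ((suRep hF 2 (by norm_num)).ρ x⁻¹)ᵀ := by
        funext x
        have h3 := ((hM _).1 ⟨x, rfl⟩).2 (LongInst.cj hF) (Set.mem_singleton _)
        have h4 := congrArg transpose ((suRep hF 2 (by norm_num)).ρ_mul_inv x)
        rw [transpose_mul, transpose_one] at h4
        calc ((suRep hF 2 (by norm_num)).ρ x).map (LongInst.cj hF)
            = ((((suRep hF 2 (by norm_num)).ρ x⁻¹)ᵀ * ((suRep hF 2 (by norm_num)).ρ x)ᵀ)) *
                ((suRep hF 2 (by norm_num)).ρ x).map (LongInst.cj hF) := by rw [h4, Matrix.one_mul]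
          _ = ((suRep hF 2 (by norm_num)).ρ x⁻¹)ᵀ := by rw [Matrix.mul_assoc, h3, Matrix.mul_one]
      rwa [e] at hf
    obtain ⟨x, hx, hne⟩ := hne
    exact hne (typeII h2 hM hq hf' hα hfix x hx)

end SU

end Cfsg.Agent.Cit.SL4F
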