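import Cfsg.Agent.Cit.SL4Fd
import Cfsg.Agent.Cit.SL4Fe

/-!
# `PF` for `PSL₄(F)` and `PSU₄(q)`, `q` odd

`D₁ ≅ SL₂` is generated by `p`-elements; with `SL4Fb.pf_of` this gives `pf_sl`, `pf_su`.
-/

set_option autoImplicit false
set_option linter.unnecessarySeqFocus false

namespace Cfsg.Agent.Cit.SL4F

open Subgroup Cfsg Matrix Cfsg.Agent.Cit.LongAbs Cfsg.Agent.Cit.LongBlock Cfsg.Agent.Cit.LongQuot
  Cfsg.Agent.Cit.LongMain Cfsg.Agent.Cit.LongModel Cfsg.Agent.Cit.LongInst Cfsg.Agent.Cit.ThreeCore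
  Cfsg.Agent.LieClassical.HermBasic

/-! ### `SL₂(F)` is generated by `p`-elements -/

section PGen

variable {F : Type*} [Field F]

/-- upper unitriangular -/
def up1 (t : F) : SpecialLinearGroup (Fin 2) F := ⟨!![1, t; 0, 1], by simp⟩

/-- lower unitriangular -/
def lo1 (t : F) : SpecialLinearGroup (Fin 2) F := ⟨!![1, 0; t, 1], by simp⟩

theorem sl2_mem_closure (g : SpecialLinearGroup (Fin 2) F) :
    g ∈ Subgroup.closure (Set.range (up1 (F := F)) ∪ Set.range (lo1 (F := F))) := by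
  have hu : ∀ t : F, up1 t ∈ Subgroup.closure (Set.range (up1 (F := F)) ∪ Set.range (lo1 (F := F))) :=
    fun t => Subgroup.subset_closure (Or.inl ⟨t, rfl⟩)
  have hl : ∀ t : F, lo1 t ∈ Subgroup.closure (Set.range (up1 (F := F)) ∪ Set.range (lo1 (F := F))) :=
    fun t => Subgroup.subset_closure (Or.inr ⟨t, rfl⟩)
  have key : ∀ g : SpecialLinearGroup (Fin 2) F, g.1 1 0 ≠ 0 →
      g ∈ Subgroup.closure (Set.range (up1 (F := F)) ∪ Set.range (lo1 (F := F))) := by
    intro g hc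
    have hdet : g.1 0 0 * g.1 1 1 - g.1 0 1 * g.1 1 0 = 1 := by
      rw [← Matrix.det_fin_two]; exact g.2
    have : g = up1 ((g.1 0 0 - 1) / g.1 1 0) * lo1 (g.1 1 0) * up1 ((g.1 1 1 - 1) / g.1 1 0) := by
      apply Subtype.ext
      show g.1 = (up1 ((g.1 0 0 - 1) / g.1 1 0)).1 * (lo1 (g.1 1 0)).1 *
        (up1 ((g.1 1 1 - 1) / g.1 1 0)).1
      ext i j
      fin_cases i <;> fin_cases j
      · simp [up1, lo1, Matrix.mul_apply, Fin.sum_univ_two, hc]
      · simp [up1, lo1, Matrix.mul_apply, Fin.sum_univ_two]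
        field_simp
        linear_combination -hdet
      · simp [up1, lo1, Matrix.mul_apply, Fin.sum_univ_two]
      · simp [up1, lo1, Matrix.mul_apply, Fin.sum_univ_two]
        field_simp
        ring
    rw [this]
    exact mul_mem (mul_mem (hu _) (hl _)) (hu _)
  by_cases hc : g.1 1 0 = 0
  · have hdet : g.1 0 0 * g.1 1 1 - g.1 0 1 * g.1 1 0 = 1 := by
      rw [← Matrix.det_fin_two]; exact g.2
    have h1 : g * lo1 1 ∈ Subgroup.closure (Set.range (up1 (F := F)) ∪ Set.range (lo1 (F := F))) := by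
      apply key
      have : (g * lo1 1).1 1 0 = g.1 1 0 + g.1 1 1 := by
        change ((g.1 * (lo1 1).1 : Matrix (Fin 2) (Fin 2) F)) 1 0 = _
        simp [lo1, Matrix.mul_apply, Fin.sum_univ_two]
      rw [this, hc, zero_add]
      intro h
      rw [hc, h] at hdet
      simp at hdet
    have h2 := mul_mem h1 (inv_mem (hl 1))
    rwa [mul_inv_cancel_right] at h2
  · exact key g hc

theorem up1_pow (t : F) (n : ℕ) : (up1 t) ^ n = up1 (n * t) := by
  induction n with
  | zero => rw [pow_zero, Nat.cast_zero, zero_mul]; apply Subtype.ext; ext i j; fin_cases i <;> fin_cases j <;> simp [up1]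
  | succ n ih =>
    rw [pow_succ, ih]
    apply Subtype.ext
    show (up1 ((n : F) * t)).1 * (up1 t).1 = (up1 (((n + 1 : ℕ) : F) * t)).1
    ext i j
    fin_cases i <;> fin_cases j <;> simp [up1, Matrix.mul_apply, Fin.sum_univ_two] <;> ring

theorem lo1_pow (t : F) (n : ℕ) : (lo1 t) ^ n = lo1 (n * t) := by
  induction n with
  | zero => rw [pow_zero, Nat.cast_zero, zero_mul]; apply Subtype.ext; ext i j; fin_cases i <;> fin_cases j <;> simp [lo1]
  | succ n ih =>
    rw [pow_succ, ih]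
    apply Subtype.ext
    show (lo1 ((n : F) * t)).1 * (lo1 t).1 = (lo1 (((n + 1 : ℕ) : F) * t)).1
    ext i j
    fin_cases i <;> fin_cases j <;> simp [lo1, Matrix.mul_apply, Fin.sum_univ_two] <;> ring

theorem isPGroup_of_pow_eq {X : Type*} [Group X] {p : ℕ} {x : X} (h : x ^ p = 1) : IsPGroup p (zpowers x) := by
  rintro ⟨_, i, rfl⟩
  refine ⟨1, Subtype.ext ?_⟩
  change (x ^ i) ^ p ^ 1 = 1
  rw [pow_one, ← zpow_natCast, ← _root_.zpow_mul, mul_comm, _root_.zpow_mul, zpow_natCast, h, _root_.one_zpow]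

/-- a group isomorphic with `SL₂(F)` is generated by `p`-elements -/
theorem pgen_of_equiv {H : Type*} [Group H] {p : ℕ} [CharP F p] {K : Subgroup H}
    (e : SpecialLinearGroup (Fin 2) F ≃* K) : PGen p K := by
  intro X hX k hk
  have h1 : ∀ g : SpecialLinearGroup (Fin 2) F, ((e g : K) : H) ∈ X := by
    intro g
    have h2 : Subgroup.closure (Set.range (up1 (F := F)) ∪ Set.range (lo1 (F := F))) ≤
        X.comap (K.subtype.comp e.toMonoidHom) := by
      rw [closure_le]
      rintro _ (⟨t, rfl⟩ | ⟨t, rfl⟩)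
      · refine hX _ (e (up1 t)).2 (isPGroup_of_pow_eq ?_)
        have h3 : (up1 t) ^ p = 1 := by
          rw [up1_pow, CharP.cast_eq_zero, zero_mul]
          apply Subtype.ext; ext i j; fin_cases i <;> fin_cases j <;> simp [up1]
        have h4 := congrArg (fun y => ((e y : K) : H)) h3
        simpa using h4
      · refine hX _ (e (lo1 t)).2 (isPGroup_of_pow_eq ?_)
        have h3 : (lo1 t) ^ p = 1 := by
          rw [lo1_pow, CharP.cast_eq_zero, zero_mul]
          apply Subtype.ext; ext i j; fin_cases i <;> fin_cases j <;> simp [lo1]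
        have h4 := congrArg (fun y => ((e y : K) : H)) h3
        simpa using h4
    exact h2 (sl2_mem_closure g)
  have h5 := h1 (e.symm ⟨k, hk⟩)
  rwa [e.apply_symm_apply] at h5

end PGen

/-! ### `D₁` -/

variable {Γ : Type*} [Group Γ] {F : Type*} [Field F] {T : Set (F →+* F)} {R : Rep Γ F (Fin 2)}

theorem pgen_D1 (hR : Model R T) {F1 : Type*} [Field F1] {p : ℕ} [CharP F1 p]
    (e : Nonempty (Un T (Fin 2) ≃* SpecialLinearGroup (Fin 2) F1)) : PGen p (D1 R) := by
  obtain ⟨e⟩ := e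
  obtain ⟨f⟩ := hR.toW.equiv1
  exact pgen_of_equiv ((f.trans e).symm.trans (D1Equiv R))

/-! ### `PSL₄(F)` -/

theorem pgen_D1_sl (F : Type*) [Field F] (p : ℕ) [CharP F p] : PGen p (D1 (slRep F 2)) :=
  pgen_D1 (slRep_model F 2) (un_empty_equiv F (Fin 2))

/-- the facts for `PSL₄(F)`, `p` arbitrary with `PGen p (D1 R)` -/
theorem pf_sl_of (F : Type*) [Field F] [Fintype F] {p : ℕ} (h2 : (2 : F) ≠ 0) (hp : PGen p (D1 (slRep F 2))) :
    PF p (SpecialLinearGroup (Fin (2 + 2)) F ⧸ center (SpecialLinearGroup (Fin (2 + 2)) F)) (Mem (slRep F 2)) := by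
  obtain ⟨a, b, hq⟩ := exists_quat F
  exact pf_of h2 (slRep_model F 2) hq (rdiag_empty h2) (gen_empty (slRep_model F 2)) hp

/-- **the facts for `PSL₄(F)`** -/
theorem pf_sl (F : Type*) [Field F] [Fintype F] (p : ℕ) [CharP F p] (h2 : (2 : F) ≠ 0) :
    PF p (SpecialLinearGroup (Fin (2 + 2)) F ⧸ center (SpecialLinearGroup (Fin (2 + 2)) F)) (Mem (slRep F 2)) := by
  exact pf_sl_of F h2 (pgen_D1_sl F p)

/-! ### `PSU₄(q)` -/

section SU

variable {F : Type*} [Field F] [Fintype F] {q : ℕ} (hF : Fintype.card F = q ^ 2)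

theorem uni_cj (h2 : (2 : F) ≠ 0) : Uni (LongInst.cj hF) where
  two := h2
  inv := fun x => pow_q_pow_q hF x
  norm := fun _ hc => exists_norm_eq hF hc

theorem charP_KK (p : ℕ) [CharP F p] : CharP (KK hF) p :=
  (RingHom.charP_iff (KK hF).subtype Subtype.val_injective p).2 inferInstance

theorem pgen_D1_su (p : ℕ) [CharP F p] : PGen p (D1 (suRep hF 2 (by norm_num))) := by
  have := charP_KK hF p
  exact pgen_D1 (suRep_model hF 2 _) (un2_equiv hF)

/-- the facts for `PSU₄(q)`, `p` arbitrary with `PGen p (D1 R)` -/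
theorem pf_su_of {p : ℕ} (ho : Odd (Fintype.card F)) (hp : PGen p (D1 (suRep hF 2 (by norm_num)))) :
    PF p (SU (2 + 2) F q ⧸ center (SU (2 + 2) F q)) (Mem (suRep hF 2 (by norm_num))) := by
  obtain ⟨a, b, hq⟩ := exists_quat_su hF ho
  have h2 : (2 : F) ≠ 0 := SignalizersComponents.SLQuasisimple.two_ne_zero_of_odd ho
  exact pf_of h2 (suRep_model hF 2 _) hq (rdiag_uni (uni_cj hF h2)) (gen_uni (suRep_model hF 2 _) (uni_cj hF h2)) hp

/-- **the facts for `PSU₄(q)`** -/
theorem pf_su (p : ℕ) [CharP F p] (ho : Odd (Fintype.card F)) :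
    PF p (SU (2 + 2) F q ⧸ center (SU (2 + 2) F q)) (Mem (suRep hF 2 (by norm_num))) :=
  pf_su_of hF ho (pgen_D1_su hF p)

end SU

end Cfsg.Agent.Cit.SL4F
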