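import Cfsg.Agent.Cit.SL4Loc
import Cfsg.Agent.Cit.SL4Fp
import Cfsg.Agent.Cit.SL4Fg

/-!
# `|Om(S)| = 3`, `z₁ z₂ z₃ = 1`, type `SL₄^ε(q)`: the cores

`Onto M D R` : an epimorphism `D → Γ / Z(Γ)` with kernel `Z(D)` such that the members of `M` in `D` are mapped to
conjugates of the first block; `Lin4 M D` : this for `PSL₄(F)` or `PSU₄(q)`. `coreE` : the cores.
-/

set_option autoImplicit false
set_option linter.style.haveILetI false
set_option linter.unusedSectionVars false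

namespace Cfsg.Agent.Cit.SL4Loc

open Subgroup Cfsg Cfsg.Agent.Cit Cfsg.Agent.Cit.UseT Cfsg.Agent.Cit.SubCent Cfsg.Agent.Cit.CoreThree
open Cfsg.Agent.Cit.Branches Cfsg.Agent.Cit.CoresG Cfsg.Agent.Cit.TriLoc
open Cfsg.Agent.Cit.SL4F Cfsg.Agent.Cit.SL4L Cfsg.Agent.Cit.LongQuot Cfsg.Agent.Cit.LongBlock Cfsg.Agent.Cit.LongAbs
open Cfsg.Agent.Cit.LongInst

/-- an epimorphism `D → Γ / Z(Γ)` with kernel `Z(D)`; the members in `D` are mapped to conjugates of the first block -/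
def Onto {H : Type*} [Group H] (M : Set (Subgroup H)) (D : Subgroup H) {Γ : Type*} [Group Γ] {F : Type*} [Field F]
    (R : Rep Γ F (Fin 2)) : Prop :=
  ∃ φ : ↥D →* Γ ⧸ center Γ, Function.Surjective φ ∧ φ.ker = center ↥D ∧
    ∀ J ∈ M, J ≤ D → ∃ g, cj g ((J.subgroupOf D).map φ) = D1 R

/-- `D / Z(D)` is `PSL₄(F)` or `PSU₄(q)`, the members are standard -/
def Lin4 {H : Type*} [Group H] (M : Set (Subgroup H)) (D : Subgroup H) : Prop :=
  (∃ (F : Type) (_ : Field F) (_ : Fintype F), Odd (Fintype.card F) ∧ Onto M D (slRep F 2)) ∨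
  ∃ (F : Type) (_ : Field F) (_ : Fintype F) (q : ℕ) (hF : Fintype.card F = q ^ 2), Odd (Fintype.card F) ∧
    Onto M D (suRep hF 2 (by norm_num))

universe u

variable {G : Type u} [Group G] [Finite G] {Om : Set (Subgroup G)} {K L : Subgroup G} {p : ℕ}

theorem locSL_of_lin4 (l : Loc3 Om K L) (hodd : OddStmt.{u}) (hfix : FixStmt.{u}) (hct : CTStmt.{u})
    (c : Nodes.Chart.Chart (fam Om (centralizer {zz K})) p (PP Om K L))
    (h : Lin4 (fam Om (centralizer {zz K})) (PP Om K L)) :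
    ThreeCore.LocSL Om K p (PP Om K L) (MM Om K L) := by
  rcases h with ⟨F, _, _, ho, φ, hs, hk, hM⟩ | ⟨F, _, _, q, hF, ho, φ, hs, hk, hM⟩
  · have h2 : (2 : F) ≠ 0 := SignalizersComponents.SLQuasisimple.two_ne_zero_of_odd ho
    exact exists_locSL l hodd hfix hct c (fun p hp => pf_sl_of F h2 hp) (prefl_sl F ho) hs hk hM
  · exact exists_locSL l hodd hfix hct c (fun p hp => pf_su_of hF ho hp) (prefl_su hF ho) hs hk hM

/-- all the data -/
theorem allSL (hm : MinS Om) (t : TriFact.Pre Om) (hcon : Con Om) (hodd : OddStmt.{u}) (hfix : FixStmt.{u})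
    (hct : CTStmt.{u}) {τ : Nodes.Chart.Ty} (hty : Typed Om τ)
    (hl : ∀ S : Sylow 2 G, ∀ K ∈ OmS Om (S : Subgroup G), ∀ L ∈ OmS Om (S : Subgroup G), K ≠ L →
      Lin4 (fam Om (centralizer {zz K})) (PP Om K L)) : ThreeCore.AllSL Om where
  tri := t.tri hm.isType
  ty := hm.isType
  solv := fun X hX => hodd X hX
  loc := by
    intro K hK
    obtain ⟨S, hS, -⟩ := t.hyp.exists_sylow hK
    obtain ⟨A, hA, B, hB, hne⟩ := Card.exists_mem (Om := Om) t.three S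
    obtain ⟨L, hL, hLK⟩ : ∃ L ∈ OmS Om (S : Subgroup G), L ≠ K := by
      by_cases hAK : A = K
      · exact ⟨B, hB, fun e => hne (hAK.trans e.symm)⟩
      · exact ⟨A, hA, hAK⟩
    have l : Loc3 Om K L := ⟨t, hm.isType, hm.fam_cent (t.hyp.zz_ne hK), hcon, ⟨S, hS, hL⟩, hLK⟩
    obtain ⟨p, c, -⟩ := (hty S K hS L hL (Ne.symm hLK)).ex
    exact ⟨p, _, _, locSL_of_lin4 l hodd hfix hct c (hl S K hS L hL (Ne.symm hLK))⟩

/-- **the cores, type `SL₄^ε(q)`** -/
theorem coreE (hm : MinS Om) (t : TriFact.Pre Om) (hco : Conn Om) (hcon : Con Om) (hodd : OddStmt.{u})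
    (hfix : FixStmt.{u}) (hct : CTStmt.{u}) {τ : Nodes.Chart.Ty} (hty : Typed Om τ)
    (hl : ∀ S : Sylow 2 G, ∀ K ∈ OmS Om (S : Subgroup G), ∀ L ∈ OmS Om (S : Subgroup G), K ≠ L →
      Lin4 (fam Om (centralizer {zz K})) (PP Om K L)) : CoreE Om := by
  haveI := hm.simple
  intro S K hK s hs hs1
  exact ThreeCore.coreE (allSL hm t hcon hodd hfix hct hty hl) hco (odd_normal hm.hyp hm.ne) S hK hs hs1

end Cfsg.Agent.Cit.SL4Loc
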