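import Cfsg.Agent.Cit.SL4Fb

/-!
# Type `SL₄^ε(q)`: from `D / Z(D)` to `D`

`D` quasisimple subgroup of `H`, `Z(D)` a 2-group, `f : D → P` surjective with kernel `Z(D)`, `M` a set of subgroups of
`D` generated by `p`-elements, with images in `𝓟`, `PF p P 𝓟`, `PRefl 𝓟`.  Then (F3), (F4), (F5), (F7) and the
existence of a third member.
-/

set_option autoImplicit false
set_option linter.style.haveILetI false
set_option linter.unusedVariables false

namespace Cfsg.Agent.Cit.SL4L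

open Subgroup Cfsg Cfsg.Agent.Cit Cfsg.Agent.Cit.ThreeCore Cfsg.Agent.Cit.SL4F
open Cfsg.Agent.SignalizersComponents.Components
open scoped commutatorElement

variable {H : Type*} [Group H] {P : Type*} [Group P]

/-! ### `p`-elements -/

/-- `x` is a `p`-element -/
def Pel (p : ℕ) (x : H) : Prop := IsPGroup p (zpowers x)

theorem Pel.exists_pow {p : ℕ} {x : H} (h : Pel p x) : ∃ k, x ^ p ^ k = 1 := by
  obtain ⟨k, hk⟩ := h ⟨x, mem_zpowers x⟩
  exact ⟨k, congrArg Subtype.val hk⟩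

theorem pel_of_pow {p : ℕ} {x : H} {k : ℕ} (h : x ^ p ^ k = 1) : Pel p x := by
  rintro ⟨y, n, rfl⟩
  refine ⟨k, Subtype.ext ?_⟩
  change (x ^ n) ^ p ^ k = 1
  rw [← zpow_natCast, ← zpow_mul, mul_comm, zpow_mul, zpow_natCast, h, one_zpow]

theorem Pel.conj {p : ℕ} {x : H} (h : Pel p x) (c : H) : Pel p (c * x * c⁻¹) := by
  obtain ⟨k, hk⟩ := h.exists_pow
  exact pel_of_pow (k := k) (by rw [conj_pow, hk]; group)

theorem coprime_two_pow {p : ℕ} (hp : p.Prime) (h2 : p ≠ 2) (m k : ℕ) : (2 ^ m).Coprime (p ^ k) :=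
  Nat.Coprime.pow _ _ ((Nat.coprime_primes Nat.prime_two hp).2 (Ne.symm h2))

/-- a `p`-element is a power of its `2 ^ m`-th power -/
theorem Pel.mem_of_pow {p : ℕ} (hp : p.Prime) (h2 : p ≠ 2) {x : H} (h : Pel p x) {X : Subgroup H} {m : ℕ}
    (hx : x ^ 2 ^ m ∈ X) : x ∈ X := by
  obtain ⟨k, hk⟩ := h.exists_pow
  have h3 : (2 ^ m).Coprime (orderOf x) :=
    Nat.Coprime.coprime_dvd_right (orderOf_dvd_of_pow_eq_one hk) (coprime_two_pow hp h2 m k)
  obtain ⟨n, hn⟩ := exists_pow_eq_self_of_coprime h3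
  rw [← hn]
  exact pow_mem hx n

/-- if `x` and `y = x ζ` are `p`-elements, `ζ` a 2-element commuting with `x`, then `ζ = 1` -/
theorem eq_one_of_pel {p : ℕ} (hp : p.Prime) (h2 : p ≠ 2) {x ζ : H} (hx : Pel p x) (hy : Pel p (x * ζ))
    (hc : x * ζ = ζ * x) {m : ℕ} (hm : ζ ^ 2 ^ m = 1) : ζ = 1 := by
  obtain ⟨a, ha⟩ := hx.exists_pow
  obtain ⟨b, hb⟩ := hy.exists_pow
  have hc' : Commute x ζ := hc
  have h3 : ζ ^ p ^ (a + b) = 1 := by
    have h4 : (x * ζ) ^ p ^ (a + b) = 1 := by rw [add_comm, pow_add, pow_mul, hb, one_pow]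
    rwa [hc'.mul_pow, pow_add, pow_mul x, ha, one_pow, one_mul, ← pow_add] at h4
  have h4 : orderOf ζ = 1 := Nat.eq_one_of_dvd_coprimes (coprime_two_pow hp h2 m (a + b))
    (orderOf_dvd_of_pow_eq_one hm) (orderOf_dvd_of_pow_eq_one h3)
  exact orderOf_eq_one_iff.1 h4

/-! ### the hypotheses -/

/-- the fields of `SLPiece` which do not depend on the structure of `D` -/
structure Pre (p : ℕ) (b : H) (D : Subgroup H) (M : Set (Subgroup H)) : Prop where
  prime : p.Prime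
  ptwo : p ≠ 2
  qs : IsQuasisimple ↥D
  two : ∀ x ∈ D, x ∈ centralizer (D : Set H) → ∃ k, x ^ 2 ^ k = 1
  le : ∀ L ∈ M, L ≤ D
  pgen : ∀ L ∈ M, PGen p L
  zmem : ∀ L ∈ M, zz L ∈ L
  zcomm : ∀ L ∈ M, L ≤ centralizer {zz L}
  zsq : ∀ L ∈ M, zz L * zz L = 1
  znc : ∀ L ∈ M, zz L ∉ centralizer (D : Set H)
  det : ∀ L ∈ M, ∀ J ∈ M, zz L = zz J → L = J
  conj : ∀ L ∈ M, ∀ g : H, cj g L ∈ M
  zcj : ∀ L ∈ M, ∀ g : H, zz (cj g L) = g * zz L * g⁻¹
  exists_pr : ∀ L ∈ M, ∃ L', Pr b M L L'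

/-- the image of a subgroup of `D` -/
def im {D : Subgroup H} (f : ↥D →* P) (L : Subgroup H) : Subgroup P := (L.subgroupOf D).map f

theorem mem_im {D : Subgroup H} {f : ↥D →* P} {L : Subgroup H} {y : P} :
    y ∈ im f L ↔ ∃ x : ↥D, (x : H) ∈ L ∧ f x = y := Iff.rfl

theorem mem_im_of_mem {D : Subgroup H} {f : ↥D →* P} {L : Subgroup H} {x : H} (hx : x ∈ L) (hD : x ∈ D) :
    f ⟨x, hD⟩ ∈ im f L := ⟨⟨x, hD⟩, hx, rfl⟩

/-- the images of the members are in `𝓟` -/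
structure Std {D : Subgroup H} (M : Set (Subgroup H)) (𝓟 : Set (Subgroup P)) (f : ↥D →* P) : Prop where
  surj : Function.Surjective f
  ker : f.ker = center ↥D
  std : ∀ L ∈ M, im f L ∈ 𝓟

theorem im_cj {D : Subgroup H} {f : ↥D →* P} {L : Subgroup H} (d : ↥D) : im f (cj (d : H) L) = cj (f d) (im f L) := by
  ext y
  rw [mem_cj, mem_im, mem_im]
  constructor
  · rintro ⟨x, hx, rfl⟩
    rw [mem_cj] at hx
    exact ⟨d⁻¹ * x * d, hx, by rw [map_mul, map_mul, map_inv]⟩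
  · rintro ⟨x, hx, hxy⟩
    refine ⟨d * x * d⁻¹, ?_, ?_⟩
    · rw [mem_cj]
      have : ((d : H))⁻¹ * ((d * x * d⁻¹ : ↥D) : H) * d = x := by
        push_cast; group
      rwa [this]
    · rw [map_mul, map_mul, map_inv, hxy]; group

variable {p : ℕ} {b : H} {D : Subgroup H} {M : Set (Subgroup H)} {𝓟 : Set (Subgroup P)} {f : ↥D →* P}

theorem Std.mem_ker (s : Std M 𝓟 f) {x : ↥D} : f x = 1 ↔ (x : H) ∈ centralizer (D : Set H) := by
  rw [← MonoidHom.mem_ker, s.ker, mem_center_iff, mem_centralizer_iff]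
  constructor
  · intro h y hy
    exact congrArg Subtype.val (h ⟨y, hy⟩)
  · intro h y
    exact Subtype.ext (h y y.2)

theorem Std.eq_iff (s : Std M 𝓟 f) {x y : ↥D} : f x = f y ↔ (x : H)⁻¹ * y ∈ centralizer (D : Set H) := by
  have h1 : (x : H)⁻¹ * y = ((x⁻¹ * y : ↥D) : H) := by push_cast; rfl
  rw [h1, ← s.mem_ker, map_mul, map_inv, inv_mul_eq_one]

theorem Pre.commD (h : Pre p b D M) {x ζ : H} (hx : x ∈ D) (hζ : ζ ∈ centralizer (D : Set H)) : x * ζ = ζ * x :=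
  mem_centralizer_iff.1 hζ x hx

/-- a member is determined by its image -/
theorem Pre.le_of_im (h : Pre p b D M) (s : Std M 𝓟 f) {L J : Subgroup H} (hL : L ∈ M) (hJ : J ∈ M)
    (hle : im f L ≤ im f J) : L ≤ J := by
  refine h.pgen L hL J fun v hv hvp => ?_
  have hvD := h.le L hL hv
  obtain ⟨j, hj, hjv⟩ := hle (mem_im_of_mem hv hvD)
  have hjJ : (j : H) ∈ J := hj
  have h1 := (s.eq_iff).1 hjv
  set ζ := (j : H)⁻¹ * v with hζ
  have h1' : ζ ∈ centralizer (D : Set H) := h1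
  obtain ⟨k, hk⟩ := h.two ζ (D.mul_mem (D.inv_mem j.2) hvD) h1'
  have h2 : v = j * ζ := by rw [hζ]; group
  have h3 : Commute (j : H) ζ := h.commD j.2 h1'
  refine Pel.mem_of_pow (X := J) (m := k) h.prime h.ptwo hvp ?_
  rw [h2, h3.mul_pow, hk, mul_one]
  exact pow_mem hjJ _

theorem Pre.eq_of_im (h : Pre p b D M) (s : Std M 𝓟 f) {L J : Subgroup H} (hL : L ∈ M) (hJ : J ∈ M)
    (he : im f L = im f J) : L = J :=
  le_antisymm (h.le_of_im s hL hJ he.le) (h.le_of_im s hJ hL he.ge)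

theorem Pre.zD (h : Pre p b D M) {L : Subgroup H} (hL : L ∈ M) : zz L ∈ D := h.le L hL (h.zmem L hL)

/-- the image of `z_L` -/
theorem Pre.f_zz_ne (h : Pre p b D M) (s : Std M 𝓟 f) {L : Subgroup H} (hL : L ∈ M) : f ⟨zz L, h.zD hL⟩ ≠ 1 :=
  fun e => h.znc L hL (s.mem_ker.1 e)

theorem Pre.f_zz_sq (h : Pre p b D M) {L : Subgroup H} (hL : L ∈ M) :
    f ⟨zz L, h.zD hL⟩ * f ⟨zz L, h.zD hL⟩ = 1 := by
  rw [← map_mul, ← map_one f]
  congr 1
  exact Subtype.ext (h.zsq L hL)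

/-- the involution of the image of a member -/
theorem Pre.eq_f_zz (h : Pre p b D M) (F : PF p P 𝓟) (s : Std M 𝓟 f) {L : Subgroup H} (hL : L ∈ M) {y : P}
    (hy : y ∈ im f L) (hyy : y * y = 1) (hy1 : y ≠ 1) : y = f ⟨zz L, h.zD hL⟩ :=
  F.inv _ (s.std L hL) y hy _ (mem_im_of_mem (h.zmem L hL) _) hyy hy1 (h.f_zz_sq hL) (h.f_zz_ne s hL)

theorem Pre.mem_normalizer (h : Pre p b D M) {L : Subgroup H} (hL : L ∈ M) {x : H} (hx : x * zz L = zz L * x) :
    x ∈ normalizer (L : Set H) := by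
  rw [mem_normalizer_iff_cj]
  refine h.det _ (h.conj L hL x) _ hL ?_
  rw [h.zcj L hL, hx, mul_inv_cancel_right]

/-- elements of `D` normalising `L` -/
theorem im_normalizer {L : Subgroup H} {x : ↥D} (hx : (x : H) ∈ normalizer (L : Set H)) :
    f x ∈ normalizer (im f L : Set P) := by
  rw [mem_normalizer_iff_cj, ← im_cj, mem_normalizer_iff_cj.1 hx]

theorem Pre.normalizer_of_im (h : Pre p b D M) (s : Std M 𝓟 f) {L : Subgroup H} (hL : L ∈ M) {x : ↥D}
    (hx : f x ∈ normalizer (im f L : Set P)) : (x : H) ∈ normalizer (L : Set H) := by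
  rw [mem_normalizer_iff_cj] at hx ⊢
  exact h.eq_of_im s (h.conj L hL x) hL (by rw [im_cj, hx])

/-- commuting members -/
theorem im_comm {L L' : Subgroup H} (hc : L' ≤ centralizer (L : Set H)) : im f L' ≤ centralizer (im f L : Set P) := by
  rintro _ ⟨y, hy, rfl⟩
  rw [mem_centralizer_iff]
  rintro _ ⟨x, hx, rfl⟩
  have h1 := mem_centralizer_iff.1 (hc hy) _ hx
  rw [← map_mul, ← map_mul]
  congr 1
  exact Subtype.ext h1

theorem im_centralizer {L : Subgroup H} {y : ↥D} (hc : (y : H) ∈ centralizer (L : Set H)) :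
    f y ∈ centralizer (im f L : Set P) := by
  rw [mem_centralizer_iff]
  rintro _ ⟨x, hx, rfl⟩
  have h1 := mem_centralizer_iff.1 hc _ hx
  rw [← map_mul, ← map_mul]
  congr 1
  exact Subtype.ext h1

/-- a third member gives a third member -/
theorem Pre.thP (h : Pre p b D M) (F : PF p P 𝓟) (s : Std M 𝓟 f) {L L' J : Subgroup H} (hp : Pr b M L L')
    (hT : Th M L L' J) : ThP 𝓟 (im f L) (im f L') (im f J) where
  mem := s.std J hT.mem
  ne := fun e => hT.ne (h.eq_of_im s hT.mem hp.left e)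
  ne' := fun e => hT.ne' (h.eq_of_im s hT.mem hp.right e)
  nor := by
    intro y hy hyy
    by_cases h1 : y = 1
    · rw [h1]; exact one_mem _
    rw [h.eq_f_zz F s hT.mem hy hyy h1]
    exact im_normalizer (h.mem_normalizer hp.left hT.comm)

/-- every member of `𝓟` is an image -/
theorem Pre.exists_im (h : Pre p b D M) (F : PF p P 𝓟) (s : Std M 𝓟 f) {L : Subgroup H} (hL : L ∈ M)
    {J : Subgroup P} (hJ : J ∈ 𝓟) : ∃ K ∈ M, im f K = J := by
  obtain ⟨g, hg⟩ := F.cls _ (s.std L hL) J hJ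
  obtain ⟨d, rfl⟩ := s.surj g
  exact ⟨cj (d : H) L, h.conj L hL d, by rw [im_cj, hg]⟩

theorem Pre.th (h : Pre p b D M) (F : PF p P 𝓟) (s : Std M 𝓟 f) {L L' J : Subgroup H} (hp : Pr b M L L')
    (hJ : J ∈ M) (hT : ThP 𝓟 (im f L) (im f L') (im f J)) : Th M L L' J where
  mem := hJ
  ne := fun e => hT.ne (by rw [e])
  ne' := fun e => hT.ne' (by rw [e])
  comm := by
    have h1 := hT.nor _ (mem_im_of_mem (h.zmem J hJ) (h.zD hJ)) (h.f_zz_sq hJ)
    have h2 : zz J ∈ normalizer (L : Set H) := h.normalizer_of_im s hp.left h1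
    have h3 := h.zcj L hp.left (zz J)
    rw [mem_normalizer_iff_cj.1 h2] at h3
    calc zz J * zz L = zz J * zz L * (zz J)⁻¹ * zz J := by group
      _ = zz L * zz J := by rw [← h3]

/-- **third member** -/
theorem Pre.third (h : Pre p b D M) (F : PF p P 𝓟) (s : Std M 𝓟 f) {L L' : Subgroup H} (hp : Pr b M L L') :
    ∃ J, Th M L L' J := by
  obtain ⟨J, hJ⟩ := F.third _ (s.std L hp.left) _ (s.std L' hp.right) (im_comm hp.comm)
  obtain ⟨K, hK, rfl⟩ := h.exists_im F s hp.left hJ.mem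
  exact ⟨K, h.th F s hp hK hJ⟩

/-- **(F3)** -/
theorem Pre.gen (h : Pre p b D M) (F : PF p P 𝓟) (s : Std M 𝓟 f) {L L' J : Subgroup H} (hp : Pr b M L L')
    (hT : Th M L L' J) : D ≤ L ⊔ L' ⊔ J := by
  have h1 := F.gen _ (s.std L hp.left) _ (s.std L' hp.right) _ (im_comm hp.comm) (h.thP F s hp hT)
  set X := (L ⊔ L' ⊔ J).subgroupOf D with hX
  have h2 : X.map f = ⊤ := by
    rw [eq_top_iff, ← h1]
    have key : ∀ N : Subgroup H, N ≤ L ⊔ L' ⊔ J → im f N ≤ X.map f := by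
      rintro N hN _ ⟨x, hx, rfl⟩
      exact ⟨x, hN hx, rfl⟩
    exact sup_le (sup_le (key L (le_sup_left.trans le_sup_left)) (key L' (le_sup_right.trans le_sup_left)))
      (key J le_sup_right)
  -- every element of `D` is in `X Z(D)`
  have h3 : ∀ d : ↥D, ∃ x ∈ X, ∃ ζ ∈ center ↥D, d = x * ζ := by
    intro d
    obtain ⟨x, hx, hxd⟩ : f d ∈ X.map f := by rw [h2]; exact mem_top _
    refine ⟨x, hx, x⁻¹ * d, ?_, by group⟩
    rw [← s.ker, MonoidHom.mem_ker, map_mul, map_inv, hxd, inv_mul_cancel]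
  have h4 : commutator ↥D ≤ X := by
    rw [commutator_def, commutator_le]
    intro a _ c _
    obtain ⟨x, hx, ζ, hζ, rfl⟩ := h3 a
    obtain ⟨y, hy, ξ, hξ, rfl⟩ := h3 c
    have e1 : ⁅x * ζ, y * ξ⁆ = ⁅x, y⁆ := by
      rw [commutatorElement_def, commutatorElement_def]
      have hζ' := mem_center_iff.1 hζ
      have hξ' := mem_center_iff.1 hξ
      calc x * ζ * (y * ξ) * (x * ζ)⁻¹ * (y * ξ)⁻¹ = x * (ζ * y) * (ξ * ζ⁻¹) * x⁻¹ * ξ⁻¹ * y⁻¹ := by group
        _ = x * y * (ζ * ξ * ζ⁻¹ * x⁻¹) * ξ⁻¹ * y⁻¹ := by rw [← hζ' y]; group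
        _ = x * y * (ξ * x⁻¹) * ξ⁻¹ * y⁻¹ := by rw [hξ' ζ]; group
        _ = x * y * x⁻¹ * y⁻¹ := by rw [← hξ' x⁻¹]; group
    rw [e1, commutatorElement_def]
    exact X.mul_mem (X.mul_mem (X.mul_mem hx hy) (X.inv_mem hx)) (X.inv_mem hy)
  intro d hd
  have h5 := h.qs.1.commutator_eq_top
  have h6 : (⟨d, hd⟩ : ↥D) ∈ commutator ↥D := by rw [h5]; exact mem_top _
  exact h4 h6

/-- **(F4)** -/
theorem Pre.cent (h : Pre p b D M) (F : PF p P 𝓟) (s : Std M 𝓟 f) {L L' J : Subgroup H} (hp : Pr b M L L')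
    (hT : Th M L L' J) {x : H} (hx : x ∈ D) (h1 : x ∈ centralizer (L : Set H)) (h2 : x ∈ centralizer (L' : Set H)) :
    x * zz J = zz J * x := by
  have h3 := F.cent _ (s.std L hp.left) _ (s.std L' hp.right) _ (im_comm hp.comm) (h.thP F s hp hT) (f ⟨x, hx⟩)
    (im_centralizer h1) (im_centralizer h2)
  have h4 : x ∈ normalizer (J : Set H) := h.normalizer_of_im s hT.mem h3
  have h5 := h.zcj J hT.mem x
  rw [mem_normalizer_iff_cj.1 h4] at h5
  calc x * zz J = x * zz J * x⁻¹ * x := by group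
    _ = zz J * x := by rw [← h5]

/-- **(F5)** -/
theorem Pre.inv (h : Pre p b D M) (F : PF p P 𝓟) (s : Std M 𝓟 f) {L L' : Subgroup H} (hp : Pr b M L L') {x : H}
    (hx : x ∈ D) (h1 : x ∈ centralizer (L : Set H)) (h2 : x ∈ centralizer (L' : Set H)) (hxx : x * x = 1) :
    x ∈ centralizer (D : Set H) ∨ x * zz L ∈ centralizer (D : Set H) := by
  have e3 : f ⟨x, hx⟩ * f ⟨x, hx⟩ = 1 := by
    rw [← map_mul, ← map_one f]
    congr 1
    exact Subtype.ext hxx
  rcases F.sq _ (s.std L hp.left) _ (s.std L' hp.right) (im_comm hp.comm) (f ⟨x, hx⟩) (im_centralizer h1)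
    (im_centralizer h2) e3 with h3 | h3
  · exact Or.inl (s.mem_ker.1 h3)
  · right
    have h4 := h3 _ (mem_im_of_mem (h.zmem L hp.left) (h.zD hp.left)) (h.f_zz_sq hp.left) (h.f_zz_ne s hp.left)
    have h5 : f (⟨x, hx⟩ * ⟨zz L, h.zD hp.left⟩) = 1 := by
      rw [map_mul, ← h4, e3]
    exact s.mem_ker.1 h5

/-! ### automorphisms -/

/-- conjugation by an element of `H` normalising `D` -/
def cnj (D : Subgroup H) {c : H} (hc : c ∈ normalizer (D : Set H)) : ↥D →* ↥D where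
  toFun d := ⟨c * d * c⁻¹, (mem_normalizer_iff.1 hc d).1 d.2⟩
  map_one' := Subtype.ext (by simp)
  map_mul' x y := Subtype.ext (by simp [mul_assoc])

theorem coe_cnj {c : H} (hc : c ∈ normalizer (D : Set H)) (d : ↥D) : (cnj D hc d : H) = c * d * c⁻¹ := rfl

theorem cnj_centralizer {c : H} (hc : c ∈ normalizer (D : Set H)) {x : H} (hx : x ∈ centralizer (D : Set H)) :
    c * x * c⁻¹ ∈ centralizer (D : Set H) := by
  rw [mem_centralizer_iff] at hx ⊢
  intro y hy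
  have h1 := hx (c⁻¹ * y * c) (by
    have := (mem_normalizer_iff.1 (inv_mem hc) y).1 hy
    rwa [inv_inv] at this)
  calc y * (c * x * c⁻¹) = c * ((c⁻¹ * y * c) * x) * c⁻¹ := by group
    _ = c * (x * (c⁻¹ * y * c)) * c⁻¹ := by rw [h1]
    _ = c * x * c⁻¹ * y := by group

/-- the endomorphism of `P` induced by `c` -/
noncomputable def ind (s : Std M 𝓟 f) {c : H} (hc : c ∈ normalizer (D : Set H)) : P →* P :=
  f.liftOfSurjective s.surj ⟨f.comp (cnj D hc), fun x hx => by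
    rw [MonoidHom.mem_ker] at hx ⊢
    exact s.mem_ker.2 (cnj_centralizer hc (s.mem_ker.1 hx))⟩

theorem ind_apply (s : Std M 𝓟 f) {c : H} (hc : c ∈ normalizer (D : Set H)) (x : ↥D) :
    ind s hc (f x) = f (cnj D hc x) := by
  rw [ind]
  exact f.liftOfRightInverse_comp_apply _ _ _ x

/-- the automorphism of `P` induced by an involution -/
noncomputable def aut (s : Std M 𝓟 f) {c : H} (hc : c ∈ normalizer (D : Set H)) (hcc : c * c = 1) : MulAut P where
  toFun := ind s hc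
  invFun := ind s hc
  left_inv y := by
    obtain ⟨x, rfl⟩ := s.surj y
    rw [ind_apply, ind_apply]
    congr 1
    apply Subtype.ext
    rw [coe_cnj, coe_cnj]
    calc c * (c * x * c⁻¹) * c⁻¹ = (c * c) * x * (c * c)⁻¹ := by group
      _ = x := by rw [hcc]; group
  right_inv y := by
    obtain ⟨x, rfl⟩ := s.surj y
    rw [ind_apply, ind_apply]
    congr 1
    apply Subtype.ext
    rw [coe_cnj, coe_cnj]
    calc c * (c * x * c⁻¹) * c⁻¹ = (c * c) * x * (c * c)⁻¹ := by group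
      _ = x := by rw [hcc]; group
  map_mul' := map_mul _

theorem aut_apply (s : Std M 𝓟 f) {c : H} (hc : c ∈ normalizer (D : Set H)) (hcc : c * c = 1) (x : ↥D) :
    aut s hc hcc (f x) = f (cnj D hc x) := ind_apply s hc x

/-- `c` centralises a `p`-element of `D` if it does so modulo `Z(D)` -/
theorem Pre.comm_of_im (h : Pre p b D M) (s : Std M 𝓟 f) {c : H} (hc : c ∈ normalizer (D : Set H)) {v : ↥D}
    (hv : Pel p (v : H)) (he : f (cnj D hc v) = f v) : c * (v : H) = v * c := by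
  have h1 := s.eq_iff.1 he.symm
  rw [coe_cnj] at h1
  set ζ := (v : H)⁻¹ * (c * v * c⁻¹) with hζ
  obtain ⟨k, hk⟩ := h.two ζ (D.mul_mem (D.inv_mem v.2) ((mem_normalizer_iff.1 hc _).1 v.2)) h1
  have h2 : ζ = 1 := by
    refine eq_one_of_pel h.prime h.ptwo hv ?_ (h.commD v.2 h1) hk
    have h3 : (v : H) * ζ = c * v * c⁻¹ := by rw [hζ]; group
    rw [h3]
    exact hv.conj c
  rw [hζ] at h2
  calc c * (v : H) = v * ((v : H)⁻¹ * (c * v * c⁻¹)) * c := by group
    _ = v * c := by rw [h2, mul_one]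

/-- **(F7)** -/
theorem Pre.refl (h : Pre p b D M) (F : PF p P 𝓟) (hR : PRefl 𝓟) (s : Std M 𝓟 f) {L L' : Subgroup H}
    (hp : Pr b M L L') {c : H} (hcc : c * c = 1) (hc : c ∈ normalizer (D : Set H))
    (h1 : c ∈ centralizer (L : Set H)) (h2 : c ∈ normalizer (L' : Set H)) (h3 : c ∉ centralizer (L' : Set H)) :
    ∃ J, Th M L L' J ∧ c ∈ centralizer (J : Set H) := by
  have key : ∀ K ∈ M, (∀ y ∈ im f K, aut s hc hcc y = y) → c ∈ centralizer (K : Set H) := by
    intro K hK hα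
    have h4 : K ≤ centralizer {c} := by
      refine h.pgen K hK _ fun v hv hvp => ?_
      have hvD := h.le K hK hv
      rw [mem_centralizer_singleton_iff]
      refine (h.comm_of_im s hc (v := ⟨v, hvD⟩) hvp ?_).symm
      rw [← aut_apply s hc hcc]
      exact hα _ (mem_im_of_mem hv hvD)
    rw [mem_centralizer_iff]
    exact fun x hx => mem_centralizer_singleton_iff.1 (h4 hx)
  obtain ⟨J, hJ, hα⟩ := hR _ (s.std L hp.left) _ (s.std L' hp.right) (im_comm hp.comm) (aut s hc hcc) (by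
      apply MulEquiv.ext
      intro y
      exact (aut s hc hcc).left_inv y) (by
      rintro _ ⟨x, hx, rfl⟩
      rw [aut_apply]
      congr 1
      apply Subtype.ext
      have hxL : (x : H) ∈ L := hx
      have h4 : (x : H) * c = c * x := mem_centralizer_iff.1 h1 _ hxL
      rw [coe_cnj, ← h4]; group) (by
      rintro _ ⟨x, hx, rfl⟩
      rw [aut_apply]
      exact ⟨_, (mem_normalizer_iff.1 h2 _).1 hx, rfl⟩) (by
      by_contra hcon
      push Not at hcon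
      exact h3 (key L' hp.right hcon))
  obtain ⟨K, hK, rfl⟩ := h.exists_im F s hp.left hJ.mem
  exact ⟨K, h.th F s hp hK hJ, key K hK hα⟩

end Cfsg.Agent.Cit.SL4L
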