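import Cfsg.Agent.Cit.CT
import Cfsg.Agent.Cit.CoreTools

/-!
# Cores for `|Om(S)| = 3`, `z₁ z₂ z₃ = 1`, type `SL₄^ε(q)`: the local part

Everything takes place in `H = C(b) / O(C(b))`, `b = z_K`. `SLPiece p b D M` : the facts about the component `D` of `H`
(`= SL₄^ε(q)` up to a central subgroup) and the set `M` of its classical subgroups. `A ≤ H` is the image of
`⟨z₁, z₂, z_J⟩`; two positions:

* `Inner` (`b = z₁`): all elements of `A` different from `1`, `b` are involutions of members of `M`;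
* `Refl` (`b ≠ z₁`): `A = ⟨b, z_L, c⟩` where `c` centralises `L` but not its partner `L'`.
-/

set_option autoImplicit false
set_option linter.style.haveILetI false

namespace Cfsg.Agent.Cit.ThreeCore

open Subgroup Cfsg Cfsg.Agent.Cit Cfsg.Agent.Cit.Comp Cfsg.Agent.Cit.OneComp Cfsg.Agent.Cit.CT
open Cfsg.Agent.SignalizersComponents.Components

variable {H : Type*} [Group H]

/-- `L` is generated by `p`-elements -/
def PGen (p : ℕ) (L : Subgroup H) : Prop :=
  ∀ X : Subgroup H, (∀ v ∈ L, IsPGroup p (zpowers v) → v ∈ X) → L ≤ X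

/-- commuting members with `z_L z_L' = b` -/
structure Pr (b : H) (M : Set (Subgroup H)) (L L' : Subgroup H) : Prop where
  left : L ∈ M
  right : L' ∈ M
  comm : L' ≤ centralizer (L : Set H)
  mul : zz L * zz L' = b

/-- a third member `J` with `z_J` commuting with `z_L` -/
structure Th (M : Set (Subgroup H)) (L L' J : Subgroup H) : Prop where
  mem : J ∈ M
  ne : J ≠ L
  ne' : J ≠ L'
  comm : zz J * zz L = zz L * zz J

/-- the facts about the component `D` -/
structure SLPiece (p : ℕ) (b : H) (D : Subgroup H) (M : Set (Subgroup H)) : Prop where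
  comp : IsComponent D
  fix : FixP p D
  bD : b ∈ D
  bb : b * b = 1
  bc : ∀ x : H, b * x = x * b
  le : ∀ L ∈ M, L ≤ D
  pgen : ∀ L ∈ M, PGen p L
  zmem : ∀ L ∈ M, zz L ∈ L
  zcomm : ∀ L ∈ M, L ≤ centralizer {zz L}
  zsq : ∀ L ∈ M, zz L * zz L = 1
  zne : ∀ L ∈ M, zz L ≠ 1
  znc : ∀ L ∈ M, zz L ∉ centralizer (D : Set H)
  det : ∀ L ∈ M, ∀ J ∈ M, zz L = zz J → L = J
  conj : ∀ L ∈ M, ∀ g : H, cj g L ∈ M
  zcj : ∀ L ∈ M, ∀ g : H, zz (cj g L) = g * zz L * g⁻¹
  exists_pr : ∀ L ∈ M, ∃ L', Pr b M L L'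
  /-- (F3) -/
  gen : ∀ L L' J, Pr b M L L' → Th M L L' J → D ≤ L ⊔ L' ⊔ J
  /-- (F4) -/
  cent : ∀ L L' J, Pr b M L L' → Th M L L' J → ∀ x ∈ D, x ∈ centralizer (L : Set H) → x ∈ centralizer (L' : Set H) →
    x * zz J = zz J * x
  /-- (F5) -/
  inv : ∀ L L', Pr b M L L' → ∀ x ∈ D, x ∈ centralizer (L : Set H) → x ∈ centralizer (L' : Set H) → x * x = 1 →
    x ∈ centralizer (D : Set H) ∨ x * zz L ∈ centralizer (D : Set H)
  /-- `Z(D)` is a 2-group -/
  two : ∀ x ∈ D, x ∈ centralizer (D : Set H) → ∃ k, x ^ 2 ^ k = 1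
  /-- (F7) -/
  refl : ∀ L L', Pr b M L L' → ∀ c : H, c * c = 1 → c ∈ normalizer (D : Set H) → c ∈ centralizer (L : Set H) →
    c ∈ normalizer (L' : Set H) → c ∉ centralizer (L' : Set H) → ∃ J, Th M L L' J ∧ c ∈ centralizer (J : Set H)

theorem Pr.symm {b : H} {M : Set (Subgroup H)} {L L' : Subgroup H} (h : Pr b M L L')
    (hz : ∀ L ∈ M, zz L ∈ L) : Pr b M L' L where
  left := h.right
  right := h.left
  comm := by rw [le_centralizer_iff]; exact h.comm
  mul := by
    rw [← h.mul]
    exact (mem_centralizer_iff.1 (h.comm (hz _ h.right)) _ (hz _ h.left)).symm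

theorem isPGroup_zpowers_of_sq {c : H} (hc : c * c = 1) : IsPGroup 2 (zpowers c) := by
  rintro ⟨x, k, rfl⟩
  refine ⟨1, Subtype.ext ?_⟩
  change (c ^ k) ^ (2 ^ 1) = 1
  rw [pow_one, ← zpow_natCast, ← zpow_mul, mul_comm, zpow_mul, zpow_natCast, pow_two, hc, one_zpow]

theorem mem_cent_iff {L : Subgroup H} {x : H} : x ∈ centralizer (L : Set H) ↔ ∀ l ∈ L, l * x = x * l :=
  mem_centralizer_iff

namespace SLPiece

variable {p : ℕ} {b : H} {D : Subgroup H} {M : Set (Subgroup H)}

theorem zb (h : SLPiece p b D M) {L L' : Subgroup H} (hp : Pr b M L L') : zz L' = zz L * b := by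
  rw [← hp.mul, ← mul_assoc, h.zsq _ hp.left, one_mul]

/-- an element commuting with `z_L` normalises `L` -/
theorem mem_normalizer (h : SLPiece p b D M) {L : Subgroup H} (hL : L ∈ M) {x : H} (hx : x * zz L = zz L * x) :
    x ∈ normalizer (L : Set H) := by
  rw [mem_normalizer_iff_cj]
  refine h.det _ (h.conj L hL x) _ hL ?_
  rw [h.zcj L hL, hx, mul_inv_cancel_right]

/-- `O(C(a))` centralises the members centralised by `a` -/
theorem comm_member [Finite H] [Fact p.Prime] (h : SLPiece p b D M) (hO : pPrimeCore 2 H = ⊥) (hev : EvQ H) {a : H}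
    (ha : a * a = 1) (haD : a ∈ normalizer (D : Set H)) {L : Subgroup H} (hL : L ∈ M)
    (haL : a ∈ centralizer (L : Set H)) {y : H} (hy : y ∈ XX a) : y ∈ centralizer (L : Set H) := by
  have h1 : L ≤ centralizer {y} := by
    refine h.pgen L hL _ fun v hv hvp => ?_
    rw [mem_centralizer_singleton_iff]
    exact h.fix.comm ha haD hy (CoreTools.XX_le_normalizer hO hev ha h.comp hy) (h.le L hL hv)
      (mem_centralizer_iff.1 haL v hv) hvp
  rw [mem_centralizer_iff]
  exact fun l hl => mem_centralizer_singleton_iff.1 (h1 hl)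

/-- `O(C(z_L))` centralises `L` and its partner -/
theorem comm_pair [Finite H] [Fact p.Prime] (h : SLPiece p b D M) (hO : pPrimeCore 2 H = ⊥) (hev : EvQ H)
    {L L' : Subgroup H} (hp : Pr b M L L') {y : H} (hy : y ∈ XX (zz L)) :
    y ∈ centralizer (L : Set H) ∧ y ∈ centralizer (L' : Set H) := by
  have h1 : zz L ∈ D := h.le L hp.left (h.zmem L hp.left)
  have h2 : zz L ∈ normalizer (D : Set H) := le_normalizer h1
  refine ⟨h.comm_member hO hev (h.zsq L hp.left) h2 hp.left ?_ hy,
    h.comm_member hO hev (h.zsq L hp.left) h2 hp.right ?_ hy⟩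
  · rw [mem_centralizer_iff]
    exact fun l hl => mem_centralizer_singleton_iff.1 (h.zcomm L hp.left hl)
  · rw [mem_centralizer_iff]
    exact fun l hl => (mem_centralizer_iff.1 (hp.comm hl) _ (h.zmem L hp.left)).symm

/-- **(TOR), inner position** -/
theorem tor_inner [Finite H] [Fact p.Prime] (h : SLPiece p b D M) (hO : pPrimeCore 2 H = ⊥) (hev : EvQ H)
    {L L' : Subgroup H} (hp : Pr b M L L') {J : Subgroup H} (hJ : J ∈ M) (hc : zz J * zz L = zz L * zz J) {y : H}
    (hy : y ∈ XX (zz L)) : zz J * y = y * zz J := by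
  obtain ⟨hyL, hyL'⟩ := h.comm_pair hO hev hp hy
  by_cases h1 : J = L
  · subst h1; exact mem_centralizer_iff.1 hyL _ (h.zmem _ hp.left)
  by_cases h2 : J = L'
  · subst h2; exact mem_centralizer_iff.1 hyL' _ (h.zmem _ hp.right)
  have hT : Th M L L' J := ⟨hJ, h1, h2, hc⟩
  have hcL : zz J ∈ normalizer (L : Set H) := h.mem_normalizer hp.left hc
  have hcL' : zz J ∈ normalizer (L' : Set H) := h.mem_normalizer hp.right (by
    rw [h.zb hp, ← mul_assoc, hc, mul_assoc, ← h.bc, mul_assoc])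
  have hyD : y ∈ normalizer (D : Set H) :=
    CoreTools.XX_le_normalizer hO hev (h.zsq L hp.left) h.comp hy
  have hJD : zz J ∈ D := h.le J hJ (h.zmem J hJ)
  -- the commutator
  set w := zz J * y * (zz J)⁻¹ * y⁻¹ with hw
  have hwD : w ∈ D := by
    have e1 : w = zz J * (y * (zz J)⁻¹ * y⁻¹) := by rw [hw]; group
    rw [e1]
    exact D.mul_mem hJD ((mem_normalizer_iff.1 hyD _).1 (D.inv_mem hJD))
  have hwc : ∀ N : Subgroup H, zz J ∈ normalizer (N : Set H) → y ∈ centralizer (N : Set H) →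
      w ∈ centralizer (N : Set H) := by
    intro N h3 h4
    rw [hw]
    exact mul_mem (CoreTools.conj_mem_centralizer h3 h4) (inv_mem h4)
  have hwX : w ∈ XX (zz L) := (XX _).mul_mem (CT.conj_mem_XX hc hy) ((XX _).inv_mem hy)
  refine comm_of_comm_comm (odd_XX (zz L)) (isPGroup_zpowers_of_sq (h.zsq J hJ)) hwX ?_
  exact (h.cent L L' J hp hT w hwD (hwc L hcL hyL) (hwc L' hcL' hyL')).symm

/-- the data of the reflection position -/
structure Rf (b : H) (D : Subgroup H) (M : Set (Subgroup H)) (L L' : Subgroup H) (c : H) : Prop where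
  pr : Pr b M L L'
  cc : c * c = 1
  nor : c ∈ normalizer (D : Set H)
  cL : c ∈ centralizer (L : Set H)
  cL' : c ∉ centralizer (L' : Set H)

theorem Rf.comm_z (h : SLPiece p b D M) {L L' : Subgroup H} {c : H} (r : Rf b D M L L' c) :
    c * zz L = zz L * c := (mem_centralizer_iff.1 r.cL _ (h.zmem L r.pr.left)).symm

theorem Rf.comm_z' (h : SLPiece p b D M) {L L' : Subgroup H} {c : H} (r : Rf b D M L L' c) :
    c * zz L' = zz L' * c := by
  rw [h.zb r.pr, ← mul_assoc, r.comm_z h, mul_assoc, ← h.bc, mul_assoc]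

theorem Rf.exists_third (h : SLPiece p b D M) {L L' : Subgroup H} {c : H} (r : Rf b D M L L' c) :
    ∃ J, Th M L L' J ∧ c ∈ centralizer (J : Set H) :=
  h.refl L L' r.pr c r.cc r.nor r.cL (h.mem_normalizer r.pr.right (r.comm_z' h)) r.cL'

/-- an element centralising `L`, `L'` and `J` centralises `D` -/
theorem mem_centralizer_of_three (h : SLPiece p b D M) {L L' J : Subgroup H} (hp : Pr b M L L') (hT : Th M L L' J)
    {x : H} (h1 : x ∈ centralizer (L : Set H)) (h2 : x ∈ centralizer (L' : Set H))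
    (h3 : x ∈ centralizer (J : Set H)) : x ∈ centralizer (D : Set H) := by
  have key : ∀ N : Subgroup H, x ∈ centralizer (N : Set H) → N ≤ centralizer {x} := by
    intro N hN n hn
    rw [mem_centralizer_singleton_iff]
    exact mem_centralizer_iff.1 hN n hn
  have h4 : D ≤ centralizer {x} :=
    (h.gen L L' J hp hT).trans (sup_le (sup_le (key L h1) (key L' h2)) (key J h3))
  rw [mem_centralizer_iff]
  exact fun d hd => mem_centralizer_singleton_iff.1 (h4 hd)

/-- odd powers: `g * y ^ k = y ^ k * (g * m ^ k)` -/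
theorem conj_pow_eq {y g m : H} (hy : y⁻¹ * g * y = g * m) (hm : m * y = y * m) (k : ℕ) :
    (y ^ k)⁻¹ * g * y ^ k = g * m ^ k := by
  induction k with
  | zero => simp
  | succ k ih =>
    have h1 : m ^ k * y = y * m ^ k := (Commute.pow_left (show Commute m y from hm) k).eq
    calc (y ^ (k + 1))⁻¹ * g * y ^ (k + 1) = y⁻¹ * ((y ^ k)⁻¹ * g * y ^ k) * y := by rw [pow_succ]; group
      _ = y⁻¹ * g * (m ^ k * y) := by rw [ih]; group
      _ = (y⁻¹ * g * y) * m ^ k := by rw [h1]; group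
      _ = g * m ^ (k + 1) := by rw [hy, pow_succ']; group

/-- `O(C(z_L))` centralises `Z(D)` -/
theorem comm_center [Finite H] (h : SLPiece p b D M) {L : Subgroup H} (hL : L ∈ M) {y : H} (hy : y ∈ XX (zz L))
    (hyD : y ∈ normalizer (D : Set H)) {ζ : H} (hζD : ζ ∈ D) (hζ : ζ ∈ centralizer (D : Set H)) :
    ζ * y = y * ζ := by
  have hc : ζ * zz L = zz L * ζ := (mem_centralizer_iff.1 hζ _ (h.le L hL (h.zmem L hL))).symm
  set w := y * ζ * y⁻¹ * ζ⁻¹ with hw
  have h1 : w ∈ XX (zz L) := by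
    have e1 : w = y * (ζ * y⁻¹ * ζ⁻¹) := by rw [hw]; group
    rw [e1]
    exact mul_mem hy (CT.conj_mem_XX hc (inv_mem hy))
  have h2 : w ∈ D := D.mul_mem ((mem_normalizer_iff.1 hyD ζ).1 hζD) (D.inv_mem hζD)
  have h3 : w ∈ centralizer (D : Set H) := mul_mem (CoreTools.conj_mem_centralizer hyD hζ) (inv_mem hζ)
  obtain ⟨k, hk⟩ := h.two w h2 h3
  have h4 := CoreTools.eq_one_of_mem_XX h1 hk
  rw [hw, mul_inv_eq_one, mul_inv_eq_iff_eq_mul] at h4
  exact h4.symm

/-- **(TOR), reflection position, `a = z_L`** -/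
theorem Rf.tor_z [Finite H] [Fact p.Prime] (h : SLPiece p b D M) (hO : pPrimeCore 2 H = ⊥) (hev : EvQ H)
    {L L' : Subgroup H} {c : H} (r : Rf b D M L L' c) {y : H} (hy : y ∈ XX (zz L)) :
    y * c * y⁻¹ * c⁻¹ ∈ centralizer (D : Set H) := by
  have hp := r.pr
  obtain ⟨hyL, hyL'⟩ := h.comm_pair hO hev hp hy
  obtain ⟨J, hT, hcJ⟩ := r.exists_third h
  set g := zz J with hg
  have hgg : g * g = 1 := h.zsq J hT.mem
  have hgi : g⁻¹ = g := inv_eq_of_mul_eq_one_right hgg
  have hgD : g ∈ D := h.le J hT.mem (h.zmem J hT.mem)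
  have hgL : g ∈ normalizer (L : Set H) := h.mem_normalizer hp.left hT.comm
  have hgL' : g ∈ normalizer (L' : Set H) := h.mem_normalizer hp.right (by
    rw [h.zb hp, ← mul_assoc, hT.comm, mul_assoc, ← h.bc, mul_assoc])
  have hyD : y ∈ normalizer (D : Set H) :=
    CoreTools.XX_le_normalizer hO hev (h.zsq L hp.left) h.comp hy
  -- `m = [g, y]`
  set m := g⁻¹ * (y⁻¹ * g * y) with hm
  have hmD : m ∈ D := by
    refine D.mul_mem (D.inv_mem hgD) ?_
    have h1 := (mem_normalizer_iff.1 (inv_mem hyD) g).1 hgD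
    rwa [inv_inv] at h1
  have hmN : ∀ N : Subgroup H, g ∈ normalizer (N : Set H) → y ∈ centralizer (N : Set H) →
      m ∈ centralizer (N : Set H) := by
    intro N h3 h4
    have h5 : m = (g⁻¹ * y⁻¹ * (g⁻¹)⁻¹) * y := by rw [hm]; group
    rw [h5]
    exact mul_mem (CoreTools.conj_mem_centralizer (inv_mem h3) (inv_mem h4)) h4
  have hmL := hmN L hgL hyL
  have hmL' := hmN L' hgL' hyL'
  have hmg : m * g = g * m := h.cent L L' J hp hT m hmD hmL hmL'
  have hyg : y⁻¹ * g * y = g * m := by rw [hm]; group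
  -- `m` is an involution or trivial
  have hmm : m * m = 1 := by
    have h1 : (g * m) * (g * m) = 1 := by
      rw [← hyg]
      calc y⁻¹ * g * y * (y⁻¹ * g * y) = y⁻¹ * (g * g) * y := by group
        _ = 1 := by rw [hgg]; group
    calc m * m = (g * g) * (m * m) := by rw [hgg, one_mul]
      _ = g * (g * m) * m := by group
      _ = g * (m * g) * m := by rw [hmg]
      _ = (g * m) * (g * m) := by group
      _ = 1 := h1
  have hmy : m * y = y * m := by
    have hzy : zz L * y = y * zz L := mem_centralizer_iff.1 hyL _ (h.zmem _ hp.left)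
    rcases h.inv L L' hp m hmD hmL hmL' hmm with e | e
    · exact h.comm_center hp.left hy hyD hmD e
    · have h1 := h.comm_center hp.left hy hyD (D.mul_mem hmD (h.le L hp.left (h.zmem L hp.left))) e
      calc m * y = m * (zz L * zz L) * y := by rw [h.zsq L hp.left, mul_one]
        _ = m * zz L * (zz L * y) := by group
        _ = (m * zz L * y) * zz L := by rw [hzy]; group
        _ = y * m * (zz L * zz L) := by rw [h1]; group
        _ = y * m := by rw [h.zsq L hp.left, mul_one]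
  have hm1 : m = 1 := by
    have h1 := conj_pow_eq hyg hmy (orderOf y)
    rw [pow_orderOf_eq_one, inv_one, one_mul, mul_one] at h1
    have h2 : m ^ orderOf y = 1 := (mul_eq_left.1 h1.symm)
    have h3 : ¬ 2 ∣ orderOf y := by
      intro h4
      have h5 := orderOf_dvd_natCard (⟨y, hy⟩ : XX (zz L))
      rw [Subgroup.orderOf_mk] at h5
      exact odd_XX (zz L) (h4.trans h5)
    obtain ⟨k, hk⟩ : ∃ k, orderOf y = 2 * k + 1 := ⟨orderOf y / 2, by omega⟩
    rw [hk, pow_succ, pow_mul, pow_two, hmm, one_pow, one_mul] at h2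
    exact h2
  rw [hm1, mul_one] at hyg
  have hyJ : y ∈ normalizer (J : Set H) := h.mem_normalizer hT.mem (by
    calc y * g = y * (y⁻¹ * g * y) := by rw [hyg]
      _ = g * y := by group)
  have hcL' : c ∈ normalizer (L' : Set H) := h.mem_normalizer hp.right (r.comm_z' h)
  refine h.mem_centralizer_of_three hp hT ?_ ?_ ?_
  · exact mul_mem (mul_mem (mul_mem hyL r.cL) (inv_mem hyL)) (inv_mem r.cL)
  · have e1 : y * c * y⁻¹ * c⁻¹ = y * (c * y⁻¹ * c⁻¹) := by group
    rw [e1]
    exact mul_mem hyL' (CoreTools.conj_mem_centralizer hcL' (inv_mem hyL'))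
  · exact mul_mem (CoreTools.conj_mem_centralizer hyJ hcJ) (inv_mem hcJ)

/-- **(TOR), reflection position, `a` centralises `L`** -/
theorem Rf.tor_c [Finite H] [Fact p.Prime] (h : SLPiece p b D M) (hO : pPrimeCore 2 H = ⊥) (hev : EvQ H)
    {L : Subgroup H} (hL : L ∈ M) {a : H} (ha : a * a = 1) (haD : a ∈ normalizer (D : Set H))
    (haL : a ∈ centralizer (L : Set H)) {y : H} (hy : y ∈ XX a) : zz L * y = y * zz L :=
  mem_centralizer_iff.1 (h.comm_member hO hev ha haD hL haL hy) _ (h.zmem L hL)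

/-- **(2B), inner position** -/
theorem two_inner [Finite H] [Fact p.Prime] (h : SLPiece p b D M) (hO : pPrimeCore 2 H = ⊥) (hev : EvQ H)
    {L L' J : Subgroup H} (hp : Pr b M L L') (hT : Th M L L' J) {u : H} (h1 : u ∈ XX (zz L)) (h2 : u ∈ XX (zz J)) :
    u ∈ centralizer (D : Set H) := by
  obtain ⟨hL, hL'⟩ := h.comm_pair hO hev hp h1
  obtain ⟨J', hJ'⟩ := h.exists_pr J hT.mem
  exact h.mem_centralizer_of_three hp hT hL hL' (h.comm_pair hO hev hJ' h2).1

/-- **(2B), reflection position** -/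
theorem Rf.two [Finite H] [Fact p.Prime] (h : SLPiece p b D M) (hO : pPrimeCore 2 H = ⊥) (hev : EvQ H)
    {L L' : Subgroup H} {c : H} (r : Rf b D M L L' c) {u : H} (h1 : u ∈ XX (zz L)) (h2 : u ∈ XX c ∨ u ∈ XX (c * b)) :
    u ∈ centralizer (D : Set H) := by
  obtain ⟨hL, hL'⟩ := h.comm_pair hO hev r.pr h1
  obtain ⟨J, hT, hcJ⟩ := r.exists_third h
  refine h.mem_centralizer_of_three r.pr hT hL hL' ?_
  rcases h2 with h2 | h2
  · exact h.comm_member hO hev r.cc r.nor hT.mem hcJ h2
  · refine h.comm_member hO hev (a := c * b) ?_ ?_ hT.mem ?_ h2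
    · calc c * b * (c * b) = c * (b * c) * b := by group
        _ = (c * c) * (b * b) := by rw [h.bc]; group
        _ = 1 := by rw [r.cc, h.bb, one_mul]
    · exact mul_mem r.nor (le_normalizer h.bD)
    · refine mul_mem hcJ ?_
      rw [mem_centralizer_iff]
      exact fun l _ => (h.bc l).symm

/-- generation in the inner position -/
theorem le_inner (h : SLPiece p b D M) {L L' J : Subgroup H} (hp : Pr b M L L') (hT : Th M L L' J) :
    D ≤ centralizer {zz L} ⊔ centralizer {zz J} := by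
  refine (h.gen L L' J hp hT).trans (sup_le (sup_le ?_ ?_) ?_)
  · exact (h.zcomm L hp.left).trans le_sup_left
  · refine le_trans ?_ le_sup_left
    intro l hl
    rw [mem_centralizer_singleton_iff]
    exact (mem_centralizer_iff.1 (hp.comm hl) _ (h.zmem L hp.left)).symm
  · exact (h.zcomm J hT.mem).trans le_sup_right

/-- generation in the reflection position -/
theorem Rf.le (h : SLPiece p b D M) {L L' : Subgroup H} {c : H} (r : Rf b D M L L' c) :
    D ≤ centralizer {zz L} ⊔ centralizer {c} := by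
  obtain ⟨J, hT, hcJ⟩ := r.exists_third h
  refine (h.gen L L' J r.pr hT).trans (sup_le (sup_le ?_ ?_) ?_)
  · exact (h.zcomm L r.pr.left).trans le_sup_left
  · refine le_trans ?_ le_sup_left
    intro l hl
    rw [mem_centralizer_singleton_iff]
    exact (mem_centralizer_iff.1 (r.pr.comm hl) _ (h.zmem L r.pr.left)).symm
  · refine le_trans ?_ le_sup_right
    intro l hl
    rw [mem_centralizer_singleton_iff]
    exact mem_centralizer_iff.1 hcJ l hl

end SLPiece

end Cfsg.Agent.Cit.ThreeCore
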