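import Cfsg.Agent.Cit.LongConj
import Cfsg.Agent.Cit.ThreeCoreSL

/-!
# The members of `PSL₄(F)`, `PSU₄(q)`: two commuting members and a third one (uniform part)

`R : Rep Γ F (Fin 2)`, `Model R T` : `Γ` is the group `{M | det M = 1, Mᵀ M^t = 1 (t ∈ T)}` of `4 × 4` matrices. Members
of `Γ / Z(Γ)`: the conjugates of `D₁`.

* `Es R s` : the elements commuting with `s`, trivial on the eigenspace `1` of `s`; `Es t = E₁`, `Es (-t) = E₂`;
* `comm_t` : an element normalising `D₁` commutes with `t`;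
* `partner` : a member commuting with `D₁` is `D₂`;
* `scalars` : `C(D₁) ∩ C(D₂)`;
* `third_blocks` : the other members whose involution normalises `D₁`.
-/

set_option autoImplicit false

namespace Cfsg.Agent.Cit.SL4F

open Subgroup Cfsg Matrix Cfsg.Agent.Cit.LongAbs Cfsg.Agent.Cit.LongBlock Cfsg.Agent.Cit.LongQuot
  Cfsg.Agent.Cit.LongMain Cfsg.Agent.Cit.LongModel

variable {Γ : Type*} [Group Γ] {F : Type*} [Field F] {T : Set (F →+* F)} (R : Rep Γ F (Fin 2))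

/-! ### The groups `Es s` -/

/-- the elements commuting with `s` and trivial on the eigenspace `1` of `s` -/
def Es (s : Γ) : Subgroup Γ where
  carrier := {x | x * s = s * x ∧ (R.ρ x - 1) * (R.ρ s + 1) = 0}
  one_mem' := ⟨by rw [one_mul, mul_one], by rw [map_one, sub_self, Matrix.zero_mul]⟩
  mul_mem' := by
    rintro x y ⟨h1, h2⟩ ⟨h3, h4⟩
    refine ⟨by rw [mul_assoc, h3, ← mul_assoc, h1, mul_assoc], ?_⟩
    have e : R.ρ (x * y) - 1 = R.ρ x * (R.ρ y - 1) + (R.ρ x - 1) := by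
      rw [map_mul, Matrix.mul_sub, Matrix.mul_one]; abel
    rw [e, Matrix.add_mul, Matrix.mul_assoc, h4, Matrix.mul_zero, h2, add_zero]
  inv_mem' := by
    rintro x ⟨h1, h2⟩
    refine ⟨?_, ?_⟩
    · calc x⁻¹ * s = x⁻¹ * (s * x) * x⁻¹ := by group
        _ = x⁻¹ * (x * s) * x⁻¹ := by rw [h1]
        _ = s * x⁻¹ := by group
    · have e : R.ρ x⁻¹ - 1 = -(R.ρ x⁻¹ * (R.ρ x - 1)) := by
        rw [Matrix.mul_sub, R.ρ_inv_mul, Matrix.mul_one]; abel
      rw [e, Matrix.neg_mul, Matrix.mul_assoc, h2, Matrix.mul_zero, neg_zero]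

variable {R}

theorem mem_Es {s x : Γ} : x ∈ Es R s ↔ x * s = s * x ∧ (R.ρ x - 1) * (R.ρ s + 1) = 0 := Iff.rfl

theorem conj_mem_Es {s x : Γ} (g : Γ) (h : x ∈ Es R s) : g * x * g⁻¹ ∈ Es R (g * s * g⁻¹) := by
  obtain ⟨h1, h2⟩ := h
  refine ⟨?_, ?_⟩
  · calc g * x * g⁻¹ * (g * s * g⁻¹) = g * (x * s) * g⁻¹ := by group
      _ = g * (s * x) * g⁻¹ := by rw [h1]
      _ = g * s * g⁻¹ * (g * x * g⁻¹) := by group
  · have e1 : R.ρ (g * x * g⁻¹) - 1 = R.ρ g * (R.ρ x - 1) * R.ρ g⁻¹ := by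
      rw [map_mul, map_mul, Matrix.mul_sub, Matrix.mul_one, Matrix.sub_mul, R.ρ_mul_inv]
    have e2 : R.ρ (g * s * g⁻¹) + 1 = R.ρ g * (R.ρ s + 1) * R.ρ g⁻¹ := by
      rw [map_mul, map_mul, Matrix.mul_add, Matrix.mul_one, Matrix.add_mul, R.ρ_mul_inv]
    rw [e1, e2]
    calc R.ρ g * (R.ρ x - 1) * R.ρ g⁻¹ * (R.ρ g * (R.ρ s + 1) * R.ρ g⁻¹)
        = R.ρ g * (R.ρ x - 1) * (R.ρ g⁻¹ * R.ρ g) * (R.ρ s + 1) * R.ρ g⁻¹ := by simp only [Matrix.mul_assoc]
      _ = R.ρ g * ((R.ρ x - 1) * (R.ρ s + 1)) * R.ρ g⁻¹ := by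
          rw [R.ρ_inv_mul, Matrix.mul_one]; simp only [Matrix.mul_assoc]
      _ = 0 := by rw [h2, Matrix.mul_zero, Matrix.zero_mul]

theorem Es_conj (g s : Γ) : cj g (Es R s) = Es R (g * s * g⁻¹) := by
  ext x
  rw [mem_cj]
  constructor
  · intro h
    have h1 := conj_mem_Es g h
    have e : g * (g⁻¹ * x * g) * g⁻¹ = x := by group
    rwa [e] at h1
  · intro h
    have h1 := conj_mem_Es g⁻¹ h
    have e : g⁻¹ * (g * s * g⁻¹) * g⁻¹⁻¹ = s := by group
    rw [e, inv_inv] at h1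
    exact h1

variable (h2 : (2 : F) ≠ 0)

include h2 in
theorem Es_t : Es R R.t = R.E1 := by
  ext x
  constructor
  · rintro ⟨h1, h3⟩
    obtain ⟨P, S, h⟩ := R.blocks_of_comm h2 h1
    refine ⟨P, ?_⟩
    rw [h, R.t_eq, ← fromBlocks_one, fromBlocks_add, sub_eq_add_neg, fromBlocks_neg, fromBlocks_add,
      fromBlocks_multiply, ← fromBlocks_zero, fromBlocks_inj] at h3
    obtain ⟨-, -, -, h4⟩ := h3
    simp only [neg_zero, add_zero, Matrix.zero_mul, Matrix.mul_zero, zero_add] at h4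
    have h5 : (2 : F) • (S - 1) = 0 := by
      have h6 : (S + -1) * (1 + 1) = (2 : F) • (S - 1) := by
        rw [two_smul, Matrix.mul_add, Matrix.mul_one, sub_eq_add_neg]
      rw [← h6, h4]
    have h6 := (smul_eq_zero.1 h5).resolve_left h2
    rw [h, sub_eq_zero.1 h6]
  · rintro ⟨P, h⟩
    refine ⟨R.comm_t_of_blocks h, ?_⟩
    rw [h, R.t_eq, ← fromBlocks_one, fromBlocks_add, sub_eq_add_neg, fromBlocks_neg, fromBlocks_add,
      fromBlocks_multiply, ← fromBlocks_zero]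
    simp

include h2 in
theorem Es_neg {s : Γ} (hs : R.ρ s = fromBlocks 1 0 0 (-1)) : Es R s = R.E2 := by
  have hst : ∀ x : Γ, x * s = s * x → x * R.t = R.t * x := by
    intro x h
    apply R.inj
    have h1 := congrArg R.ρ h
    have h3 : R.ρ R.t = -R.ρ s := by rw [hs, R.t_eq, fromBlocks_neg]; simp
    rw [map_mul, map_mul] at h1 ⊢
    rw [h3, Matrix.mul_neg, Matrix.neg_mul, h1]
  ext x
  constructor
  · rintro ⟨h1, h3⟩
    obtain ⟨P, S, h⟩ := R.blocks_of_comm h2 (hst x h1)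
    refine ⟨S, ?_⟩
    rw [h, hs, ← fromBlocks_one, fromBlocks_add, sub_eq_add_neg, fromBlocks_neg, fromBlocks_add,
      fromBlocks_multiply, ← fromBlocks_zero, fromBlocks_inj] at h3
    obtain ⟨h4, -, -, -⟩ := h3
    simp only [neg_zero, add_zero, Matrix.zero_mul, Matrix.mul_zero] at h4
    have h5 : (2 : F) • (P - 1) = 0 := by
      have h6 : (P + -1) * (1 + 1) = (2 : F) • (P - 1) := by
        rw [two_smul, Matrix.mul_add, Matrix.mul_one, sub_eq_add_neg]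
      rw [← h6, h4]
    have h6 := (smul_eq_zero.1 h5).resolve_left h2
    rw [h, sub_eq_zero.1 h6]
  · rintro ⟨S, h⟩
    refine ⟨?_, ?_⟩
    · apply R.inj
      rw [map_mul, map_mul, h, hs, fromBlocks_multiply, fromBlocks_multiply]
      simp
    · rw [h, hs, ← fromBlocks_one, fromBlocks_add, sub_eq_add_neg, fromBlocks_neg, fromBlocks_add,
        fromBlocks_multiply, ← fromBlocks_zero]
      simp

theorem self_mem_Es {s : Γ} (hs : s * s = 1) : s ∈ Es R s := by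
  refine ⟨rfl, ?_⟩
  have h1 : R.ρ s * R.ρ s = 1 := by rw [← map_mul, hs, map_one]
  rw [Matrix.sub_mul, Matrix.mul_add, h1, Matrix.mul_one, Matrix.one_mul]
  abel

/-! ### `2 × 2` matrices -/

section Two

variable {F : Type*} [Field F]

theorem ch {A : Matrix (Fin 2) (Fin 2) F} : A * A = A.trace • A - A.det • 1 := by
  ext i j
  fin_cases i <;> fin_cases j <;>
    simp [Matrix.mul_apply, Fin.sum_univ_two, trace_fin_two, det_fin_two] <;> ring

/-- `A² = 1`, `det A = 1` -/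
theorem eq_one_or_of_det (h2 : (2 : F) ≠ 0) {A : Matrix (Fin 2) (Fin 2) F} (hA : A * A = 1) (hd : A.det = 1) :
    A = 1 ∨ A = -1 := by
  let B : SpecialLinearGroup (Fin 2) F := ⟨A, hd⟩
  by_cases h : B = 1
  · exact Or.inl (congrArg Subtype.val h)
  · right
    have h1 : B = -1 := LongConj.eq_neg_one h2 (x := B) (Subtype.ext hA) h
    exact congrArg Subtype.val h1

/-- `A² = 1` -/
theorem trace_of_sq {A : Matrix (Fin 2) (Fin 2) F} (h2 : (2 : F) ≠ 0) (hA : A * A = 1) (h1 : A ≠ 1) (h1' : A ≠ -1) :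
    A.det = -1 ∧ A.trace = 0 := by
  have hd : A.det = 1 ∨ A.det = -1 := by
    have h3 := congrArg det hA
    rw [det_mul, det_one] at h3
    have h4 : (A.det - 1) * (A.det + 1) = 0 := by linear_combination h3
    rcases mul_eq_zero.1 h4 with h | h
    · exact Or.inl (sub_eq_zero.1 h)
    · exact Or.inr (eq_neg_of_add_eq_zero_left h)
  rcases hd with hd | hd
  · rcases eq_one_or_of_det h2 hA hd with h | h
    · exact absurd h h1
    · exact absurd h h1'
  · refine ⟨hd, ?_⟩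
    have h3 := ch (A := A)
    rw [hA, hd, neg_smul, one_smul, sub_neg_eq_add] at h3
    have h4 : A.trace • A = 0 := by
      have : A.trace • A + 1 = 1 := h3.symm
      simpa using this
    rcases smul_eq_zero.1 h4 with h | h
    · exact h
    · exfalso
      rw [h, det_zero] at hd
      exact one_ne_zero (α := F) (by linear_combination hd)

end Two

/-! ### Elements normalising `D₁` -/

variable {a b : F} (hR : Model R T) (hq : Quat T a b)

include hR in
theorem exists_blocks {P S : Matrix (Fin 2) (Fin 2) F} (hP : Cond T P) (hS : Cond T S) :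
    ∃ g, R.ρ g = fromBlocks P 0 0 S := (hR _).2 (hP.fromBlocks hS)

include h2 in
/-- the involution of `E₁` -/
theorem eq_t {x : Γ} (hR : Model R T) (hx : x ∈ R.E1) (hxx : x * x = 1) (h1 : x ≠ 1) : x = R.t := by
  obtain ⟨P, hP⟩ := hx
  have h3 : Cond T (fromBlocks P 0 0 (1 : Matrix (Fin 2) (Fin 2) F)) := hP ▸ (hR _).1 ⟨x, rfl⟩
  have h4 := (cond_fromBlocks_left.1 h3).1
  have h5 : P * P = 1 := by
    have h6 := congrArg R.ρ hxx
    rw [map_mul, hP, fromBlocks_multiply, map_one, ← fromBlocks_one, fromBlocks_inj] at h6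
    simpa using h6.1
  rcases eq_one_or_of_det h2 h5 h4 with h | h
  · exfalso
    apply h1
    apply R.inj
    rw [hP, h, map_one, fromBlocks_one]
  · apply R.inj
    rw [hP, h, R.t_eq]

include h2 in
/-- the involution of `D₁` -/
theorem eq_z0 (hR : Model R T) {x : Γ ⧸ center Γ} (hx : x ∈ D1 R) (hxx : x * x = 1) (h1 : x ≠ 1) : x = z0 R := by
  obtain ⟨y, hy, rfl⟩ := hx
  have h3 : y * y ∈ center Γ := by rw [← pr_eq_one, map_mul, hxx]
  have h4 : y * y = 1 := E1_center R (mul_mem hy hy) h3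
  rw [eq_t h2 hR hy h4 (by rintro rfl; exact h1 (map_one _))]
  rfl

include h2 hR hq in
/-- an element normalising `D₁` commutes with `t` -/
theorem comm_t {x : Γ} (hx : ∀ y ∈ D1 R, pr Γ x * y * (pr Γ x)⁻¹ ∈ D1 R) : x * R.t = R.t * x := by
  obtain ⟨u1, hu1⟩ := exists_blocks hR (cond_U1 T) (Cond.one T)
  obtain ⟨u2, hu2⟩ := exists_blocks hR (cond_U2 hq) (Cond.one T)
  have hm1 : u1 ∈ R.E1 := ⟨_, hu1⟩
  have hm2 : u2 ∈ R.E1 := ⟨_, hu2⟩
  have h12 : u1 * u2 = R.t * (u2 * u1) := by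
    apply R.inj
    rw [map_mul, map_mul, map_mul, hu1, hu2, R.t_eq, fromBlocks_multiply, fromBlocks_multiply, fromBlocks_multiply]
    congr 1
    · ext i j
      fin_cases i <;> fin_cases j <;> simp [U1, U2, Matrix.mul_apply, Fin.sum_univ_two]
    · simp
    · simp
    · simp
  have ht : R.t = u1 * u2 * u1⁻¹ * u2⁻¹ := by rw [h12]; group
  -- the conjugates modulo the centre
  have key : ∀ u ∈ R.E1, ∃ e ∈ R.E1, ∃ c ∈ center Γ, x * u * x⁻¹ = e * c := by
    intro u hu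
    obtain ⟨e, he, hee⟩ := hx _ ⟨u, hu, rfl⟩
    refine ⟨e, he, e⁻¹ * (x * u * x⁻¹), ?_, by group⟩
    rw [← pr_eq_one, map_mul, map_inv, hee, map_mul, map_mul, map_inv, inv_mul_cancel]
  obtain ⟨e1, he1, c1, hc1, h3⟩ := key u1 hm1
  obtain ⟨e2, he2, c2, hc2, h4⟩ := key u2 hm2
  have h5 : x * R.t * x⁻¹ = e1 * e2 * e1⁻¹ * e2⁻¹ := by
    have hk1 := mem_center_iff.1 hc1
    have hk2 := mem_center_iff.1 hc2
    calc x * R.t * x⁻¹ = (x * u1 * x⁻¹) * (x * u2 * x⁻¹) * (x * u1 * x⁻¹)⁻¹ * (x * u2 * x⁻¹)⁻¹ := by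
          rw [ht]; group
      _ = (e1 * c1) * (e2 * c2) * (e1 * c1)⁻¹ * (e2 * c2)⁻¹ := by rw [h3, h4]
      _ = e1 * (c1 * e2) * c2 * c1⁻¹ * e1⁻¹ * c2⁻¹ * e2⁻¹ := by group
      _ = e1 * e2 * (c1 * c2) * c1⁻¹ * e1⁻¹ * c2⁻¹ * e2⁻¹ := by rw [← hk1 e2]; group
      _ = e1 * e2 * (c2 * c1) * c1⁻¹ * e1⁻¹ * c2⁻¹ * e2⁻¹ := by rw [hk2 c1]
      _ = e1 * e2 * (c2 * e1⁻¹) * c2⁻¹ * e2⁻¹ := by group
      _ = e1 * e2 * (e1⁻¹ * c2) * c2⁻¹ * e2⁻¹ := by rw [hk2 e1⁻¹]
      _ = e1 * e2 * e1⁻¹ * e2⁻¹ := by group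
  have h6 : x * R.t * x⁻¹ ∈ R.E1 := by
    rw [h5]; exact mul_mem (mul_mem (mul_mem he1 he2) (inv_mem he1)) (inv_mem he2)
  have ht1 : R.t ≠ 1 := by
    intro h
    have h7 := congrArg R.ρ h
    rw [R.t_eq, map_one, ← fromBlocks_one, fromBlocks_inj] at h7
    have h8 := congrFun (congrFun h7.1 0) 0
    simp at h8
    exact h2 (by linear_combination -h8)
  have h7 := eq_t h2 hR h6 (by
    calc x * R.t * x⁻¹ * (x * R.t * x⁻¹) = x * (R.t * R.t) * x⁻¹ := by group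
      _ = 1 := by rw [R.t_sq]; group) (by
    intro h
    apply ht1
    calc R.t = x⁻¹ * (x * R.t * x⁻¹) * x := by group
      _ = 1 := by rw [h]; group)
  exact mul_inv_eq_iff_eq_mul.1 h7

include h2 hR hq in
/-- block form of elements centralising `D₁` modulo the centre -/
theorem cent_blocks {x : Γ} (hx : ∀ y ∈ D1 R, pr Γ x * y = y * pr Γ x) :
    ∃ (c : F) (S : Matrix (Fin 2) (Fin 2) F), R.ρ x = fromBlocks (c • 1) 0 0 S := by
  have hxt : x * R.t = R.t * x := comm_t h2 hR hq fun y hy => by rw [hx y hy, mul_inv_cancel_right]; exact hy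
  obtain ⟨P, S, h⟩ := R.blocks_of_comm h2 hxt
  obtain ⟨P', S', h', h3, h4, h5, h6⟩ := R.blocks_inv h
  have key : ∀ U : Matrix (Fin 2) (Fin 2) F, Cond T U → P * U = U * P := by
    intro U hU
    obtain ⟨u, hu⟩ := exists_blocks hR hU (Cond.one T)
    have h7 := hx _ ⟨u, ⟨_, hu⟩, rfl⟩
    have h8 : x * u * x⁻¹ * u⁻¹ ∈ center Γ := pr_comm.1 h7
    obtain ⟨c, hc⟩ := R.cen _ h8
    have h9 : R.ρ (x * u * x⁻¹) = c • R.ρ u := by
      have e : x * u * x⁻¹ = (x * u * x⁻¹ * u⁻¹) * u := by group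
      rw [e, map_mul, hc, smul_mul_assoc, Matrix.one_mul]
    rw [map_mul, map_mul, h, h', hu, fromBlocks_multiply, fromBlocks_multiply, fromBlocks_smul,
      fromBlocks_inj] at h9
    simp only [Matrix.zero_mul, Matrix.mul_zero, add_zero, zero_add, Matrix.mul_one, h5] at h9
    have hc1 : c = 1 := by
      have := congrFun (congrFun h9.2.2.2 0) 0
      simpa using this.symm
    rw [hc1, one_smul] at h9
    calc P * U = P * U * (P' * P) := by rw [h4, Matrix.mul_one]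
      _ = (P * U * P') * P := by simp only [Matrix.mul_assoc]
      _ = U * P := by rw [h9.1]
  obtain ⟨c, hc⟩ := scalar_of_comm h2 hq (key _ (cond_U1 T)) (key _ (cond_U2 hq))
  exact ⟨c, S, by rw [h, hc]⟩

end Cfsg.Agent.Cit.SL4F
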