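import Cfsg.Agent.Cit.SL4Fa

/-!
# The members of `PSL₄(F)`, `PSU₄(q)`: facts in `Γ / Z(Γ)`

`PF p P 𝓟` : the facts (F3), (F4), (F5) and the existence of third members for the group `P = Γ / Z(Γ)` and the
conjugates `𝓟` of `D₁`; `pf_of` : from diagonalisability of reflections (`RDiag`) and `E₁ ⊔ E₂ ⊔ E₀ = ⊤` (`Gen`).
-/

set_option autoImplicit false

namespace Cfsg.Agent.Cit.SL4F

open Subgroup Cfsg Matrix Cfsg.Agent.Cit.LongAbs Cfsg.Agent.Cit.LongBlock Cfsg.Agent.Cit.LongQuot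
  Cfsg.Agent.Cit.LongMain Cfsg.Agent.Cit.LongModel Cfsg.Agent.Cit.ThreeCore

/-! ### The facts -/

/-- a third member for the commuting members `L`, `L'` -/
structure ThP {P : Type*} [Group P] (𝓟 : Set (Subgroup P)) (L L' J : Subgroup P) : Prop where
  mem : J ∈ 𝓟
  ne : J ≠ L
  ne' : J ≠ L'
  nor : ∀ z ∈ J, z * z = 1 → z ∈ normalizer (L : Set P)

/-- the facts about the members of `PSL₄(F)`, `PSU₄(q)` -/
structure PF (p : ℕ) (P : Type*) [Group P] (𝓟 : Set (Subgroup P)) : Prop where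
  conj : ∀ K ∈ 𝓟, ∀ g : P, cj g K ∈ 𝓟
  cls : ∀ K ∈ 𝓟, ∀ L ∈ 𝓟, ∃ g : P, cj g K = L
  pgen : ∀ K ∈ 𝓟, PGen p K
  inv : ∀ K ∈ 𝓟, ∀ x ∈ K, ∀ y ∈ K, x * x = 1 → x ≠ 1 → y * y = 1 → y ≠ 1 → x = y
  third : ∀ L ∈ 𝓟, ∀ L' ∈ 𝓟, L' ≤ centralizer (L : Set P) → ∃ J, ThP 𝓟 L L' J
  gen : ∀ L ∈ 𝓟, ∀ L' ∈ 𝓟, ∀ J, L' ≤ centralizer (L : Set P) → ThP 𝓟 L L' J → L ⊔ L' ⊔ J = ⊤
  cent : ∀ L ∈ 𝓟, ∀ L' ∈ 𝓟, ∀ J, L' ≤ centralizer (L : Set P) → ThP 𝓟 L L' J → ∀ x : P,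
    x ∈ centralizer (L : Set P) → x ∈ centralizer (L' : Set P) → x ∈ normalizer (J : Set P)
  sq : ∀ L ∈ 𝓟, ∀ L' ∈ 𝓟, L' ≤ centralizer (L : Set P) → ∀ x : P, x ∈ centralizer (L : Set P) →
    x ∈ centralizer (L' : Set P) → x * x = 1 → x = 1 ∨ ∀ z ∈ L, z * z = 1 → z ≠ 1 → x = z

/-- (F7) -/
def PRefl {P : Type*} [Group P] (𝓟 : Set (Subgroup P)) : Prop :=
  ∀ L ∈ 𝓟, ∀ L' ∈ 𝓟, L' ≤ centralizer (L : Set P) → ∀ α : MulAut P, α * α = 1 → (∀ x ∈ L, α x = x) →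
    (∀ x ∈ L', α x ∈ L') → (∃ x ∈ L', α x ≠ x) → ∃ J, ThP 𝓟 L L' J ∧ ∀ x ∈ J, α x = x

section Conj

variable {P : Type*} [Group P] {𝓟 : Set (Subgroup P)}

theorem ThP.cj (hc : ∀ K ∈ 𝓟, ∀ g : P, Cit.cj g K ∈ 𝓟) {L L' J : Subgroup P} (h : ThP 𝓟 L L' J) (g : P) :
    ThP 𝓟 (Cit.cj g L) (Cit.cj g L') (Cit.cj g J) where
  mem := hc J h.mem g
  ne := fun e => h.ne (cj_inj.1 e)
  ne' := fun e => h.ne' (cj_inj.1 e)
  nor := by
    intro z hz hzz
    rw [mem_cj] at hz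
    have h1 := h.nor _ hz (by
      calc g⁻¹ * z * g * (g⁻¹ * z * g) = g⁻¹ * (z * z) * g := by group
        _ = 1 := by rw [hzz]; group)
    rw [mem_normalizer_iff_cj] at h1 ⊢
    rw [← cj_mul]
    have e : z * g = g * (g⁻¹ * z * g) := by group
    rw [e, cj_mul, h1]

end Conj

variable {Γ : Type*} [Group Γ] {F : Type*} [Field F] {T : Set (F →+* F)} {R : Rep Γ F (Fin 2)}
  (h2 : (2 : F) ≠ 0) {a b : F} (hR : Model R T) (hq : Quat T a b)

/-- the members -/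
def Mem (R : Rep Γ F (Fin 2)) : Set (Subgroup (Γ ⧸ center Γ)) := {K | ∃ g, K = cj g (D1 R)}

include h2 in
theorem map_Es (g : Γ) : (Es R (g * R.t * g⁻¹)).map (pr Γ) = cj (pr Γ g) (D1 R) := by
  rw [← Es_conj, Es_t h2, cj_map]
  rfl

theorem det_ρ (hR : Model R T) (g : Γ) : (R.ρ g).det = 1 := ((hR _).1 ⟨g, rfl⟩).1

theorem trace_conj (g : Γ) : trace (R.ρ (g * R.t * g⁻¹)) = 0 := by
  rw [map_mul, trace_mul_comm, map_mul, ← Matrix.mul_assoc, R.ρ_inv_mul, Matrix.one_mul, R.t_eq, trace_blocks]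
  simp [trace_neg]

theorem conj_sq (g : Γ) : (g * R.t * g⁻¹) * (g * R.t * g⁻¹) = 1 := by
  calc (g * R.t * g⁻¹) * (g * R.t * g⁻¹) = g * (R.t * R.t) * g⁻¹ := by group
    _ = 1 := by rw [R.t_sq]; group

include h2 in
theorem t_ne_one : R.t ≠ 1 := by
  intro h
  have h7 := congrArg R.ρ h
  rw [R.t_eq, map_one, ← fromBlocks_one, fromBlocks_inj] at h7
  have h8 := congrFun (congrFun h7.1 0) 0
  simp at h8
  exact h2 (by linear_combination -h8)

include h2 in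
theorem conj_ne_one (g : Γ) : g * R.t * g⁻¹ ≠ 1 := by
  intro h
  apply t_ne_one h2 (R := R)
  calc R.t = g⁻¹ * (g * R.t * g⁻¹) * g := by group
    _ = 1 := by rw [h]; group

include h2 in
theorem one_ne_neg_one : (1 : Matrix (Fin 2) (Fin 2) F) ≠ -1 := by
  intro h
  have := congrFun (congrFun h 0) 0
  simp at this
  exact h2 (by linear_combination this)

include h2 hR hq in
/-- the member commuting with `D₁` -/
theorem partner_t {g : Γ} (h : cj (pr Γ g) (D1 R) ≤ centralizer (D1 R : Set (Γ ⧸ center Γ))) :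
    R.ρ (g * R.t * g⁻¹) = fromBlocks 1 0 0 (-1) := by
  have hE : ∀ y ∈ R.E1, ∃ (c : F) (S : Matrix (Fin 2) (Fin 2) F), R.ρ (g * y * g⁻¹) = fromBlocks (c • 1) 0 0 S := by
    intro y hy
    refine cent_blocks h2 hR hq fun w hw => ?_
    have h1 : pr Γ (g * y * g⁻¹) ∈ cj (pr Γ g) (D1 R) := by
      rw [map_mul, map_mul, map_inv]
      exact conj_mem_cj ⟨y, hy, rfl⟩
    exact (mem_centralizer_iff.1 (h h1) w hw).symm
  obtain ⟨u1, hu1⟩ := exists_blocks hR (cond_U1 T) (Cond.one T)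
  obtain ⟨u2, hu2⟩ := exists_blocks hR (cond_U2 hq) (Cond.one T)
  have h12 : u1 * u2 = R.t * (u2 * u1) := by
    apply R.inj
    rw [map_mul, map_mul, map_mul, hu1, hu2, R.t_eq, fromBlocks_multiply, fromBlocks_multiply, fromBlocks_multiply]
    congr 1
    · ext i j
      fin_cases i <;> fin_cases j <;> simp [U1, U2, Matrix.mul_apply, Fin.sum_univ_two]
    · simp
    · simp
    · simp
  obtain ⟨c, S, hS⟩ := hE R.t R.t_mem
  obtain ⟨c1, S1, hS1⟩ := hE u1 ⟨_, hu1⟩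
  obtain ⟨c2, S2, hS2⟩ := hE u2 ⟨_, hu2⟩
  have hne : ∀ y (c : F) (S : Matrix (Fin 2) (Fin 2) F), R.ρ y = fromBlocks (c • 1) 0 0 S → c ≠ 0 := by
    rintro y c S hy rfl
    obtain ⟨P', S', -, h3, -⟩ := R.blocks_inv hy
    rw [zero_smul, Matrix.zero_mul] at h3
    exact one_ne_zero (α := Matrix (Fin 2) (Fin 2) F) h3.symm
  have h3 : c = 1 := by
    have h4 : (g * u1 * g⁻¹) * (g * u2 * g⁻¹) = (g * R.t * g⁻¹) * ((g * u2 * g⁻¹) * (g * u1 * g⁻¹)) := by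
      calc (g * u1 * g⁻¹) * (g * u2 * g⁻¹) = g * (u1 * u2) * g⁻¹ := by group
        _ = g * (R.t * (u2 * u1)) * g⁻¹ := by rw [h12]
        _ = _ := by group
    have h5 := congrArg R.ρ h4
    rw [map_mul, map_mul _ (g * R.t * g⁻¹), map_mul _ (g * u2 * g⁻¹), hS, hS1, hS2, fromBlocks_multiply,
      fromBlocks_multiply, fromBlocks_multiply, fromBlocks_inj] at h5
    have h6 := congrFun (congrFun h5.1 0) 0
    simp at h6
    have h7 : c1 * c2 ≠ 0 := mul_ne_zero (hne _ _ _ hS1) (hne _ _ _ hS2)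
    have h8 : (c - 1) * (c1 * c2) = 0 := by linear_combination -h6
    exact sub_eq_zero.1 ((mul_eq_zero.1 h8).resolve_right h7)
  rw [h3, one_smul] at hS
  have hd := det_ρ hR (g * R.t * g⁻¹)
  rw [hS, det_fromBlocks_zero₂₁, det_one, one_mul] at hd
  have hss : S * S = 1 := by
    have h4 := congrArg R.ρ (conj_sq (R := R) g)
    rw [map_mul, hS, fromBlocks_multiply, map_one, ← fromBlocks_one, fromBlocks_inj] at h4
    simpa using h4.2.2.2
  rcases eq_one_or_of_det h2 hss hd with h4 | h4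
  · exfalso
    apply conj_ne_one h2 (R := R) g
    apply R.inj
    rw [hS, h4, fromBlocks_one, map_one]
  · rw [hS, h4]

include h2 hR hq in
theorem partner_eq {g : Γ} (h : cj (pr Γ g) (D1 R) ≤ centralizer (D1 R : Set (Γ ⧸ center Γ))) :
    cj (pr Γ g) (D1 R) = D2 R := by
  rw [← map_Es h2, Es_neg h2 (partner_t h2 hR hq h)]
  rfl

/-- block form of the elements centralising `D₁` and `D₂` -/
theorem scalars (h2 : (2 : F) ≠ 0) (hR : Model R T) (hq : Quat T a b) {x : Γ}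
    (hx : ∀ y ∈ D1 R, pr Γ x * y = y * pr Γ x) (hx' : ∀ y ∈ D2 R, pr Γ x * y = y * pr Γ x) :
    ∃ c d : F, R.ρ x = fromBlocks (c • 1) 0 0 (d • 1) := by
  obtain ⟨c, S, h⟩ := cent_blocks h2 hR hq hx
  obtain ⟨P', S', h', h3, h4, h5, h6⟩ := R.blocks_inv h
  have key : ∀ U : Matrix (Fin 2) (Fin 2) F, Cond T U → S * U = U * S := by
    intro U hU
    obtain ⟨u, hu⟩ := exists_blocks hR (Cond.one T) hU
    have h7 := hx' _ ⟨u, ⟨_, hu⟩, rfl⟩
    have h8 : x * u * x⁻¹ * u⁻¹ ∈ center Γ := pr_comm.1 h7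
    obtain ⟨e, he⟩ := R.cen _ h8
    have h9 : R.ρ (x * u * x⁻¹) = e • R.ρ u := by
      have e' : x * u * x⁻¹ = (x * u * x⁻¹ * u⁻¹) * u := by group
      rw [e', map_mul, he, smul_mul_assoc, Matrix.one_mul]
    rw [map_mul, map_mul, h, h', hu, fromBlocks_multiply, fromBlocks_multiply, fromBlocks_smul,
      fromBlocks_inj] at h9
    simp only [Matrix.zero_mul, Matrix.mul_zero, add_zero, zero_add, Matrix.mul_one, h3] at h9
    have hc1 : e = 1 := by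
      have h10 := congrFun (congrFun h9.1 0) 0
      rw [Matrix.smul_apply, Matrix.one_apply_eq, smul_eq_mul, mul_one] at h10
      exact h10.symm
    calc S * U = S * U * (S' * S) := by rw [h6, Matrix.mul_one]
      _ = (S * U * S') * S := by simp only [Matrix.mul_assoc]
      _ = U * S := by rw [h9.2.2.2, hc1, one_smul]
  obtain ⟨d, hd⟩ := scalar_of_comm h2 hq (key _ (cond_U1 T)) (key _ (cond_U2 hq))
  exact ⟨c, d, by rw [h, hd]⟩

/-- block form of the involution of a third member -/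
structure TB (T : Set (F →+* F)) (A : Matrix (Fin 2) (Fin 2) F) : Prop where
  sq : A * A = 1
  ne : A ≠ 1
  ne' : A ≠ -1
  un : ∀ t ∈ T, Aᵀ * A.map t = 1

include h2 hR hq in
theorem third_blocks {g : Γ} (hn : ∀ y ∈ D1 R, pr Γ (g * R.t * g⁻¹) * y * (pr Γ (g * R.t * g⁻¹))⁻¹ ∈ D1 R)
    (hne : cj (pr Γ g) (D1 R) ≠ D1 R) (hne' : cj (pr Γ g) (D1 R) ≠ D2 R) :
    ∃ A B, R.ρ (g * R.t * g⁻¹) = fromBlocks A 0 0 B ∧ TB T A ∧ TB T B := by
  have hct := comm_t h2 hR hq hn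
  obtain ⟨A, B, h⟩ := R.blocks_of_comm h2 hct
  have hcond : Cond T (fromBlocks A 0 0 B) := h ▸ (hR _).1 ⟨_, rfl⟩
  have hsq : A * A = 1 ∧ B * B = 1 := by
    have h4 := congrArg R.ρ (conj_sq (R := R) g)
    rw [map_mul, h, fromBlocks_multiply, map_one, ← fromBlocks_one, fromBlocks_inj] at h4
    simpa using And.intro h4.1 h4.2.2.2
  have hd : A.det * B.det = 1 := by
    have := hcond.1
    rwa [det_fromBlocks_zero₂₁] at this
  have htr : trace A + trace B = 0 := by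
    have := trace_conj (R := R) g
    rwa [h, trace_blocks] at this
  have hun : ∀ t ∈ T, Aᵀ * A.map t = 1 ∧ Bᵀ * B.map t = 1 := by
    intro t ht
    have h4 := hcond.2 t ht
    rw [fromBlocks_transpose, fromBlocks_map, fromBlocks_multiply, ← fromBlocks_one, fromBlocks_inj] at h4
    simpa using And.intro h4.1 h4.2.2.2
  -- the excluded combinations
  have e1 : ¬ (A = 1 ∧ B = 1) := by
    rintro ⟨rfl, rfl⟩
    apply conj_ne_one h2 (R := R) g
    apply R.inj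
    rw [h, fromBlocks_one, map_one]
  have e4 : (4 : F) ≠ 0 := by
    have : (4 : F) = 2 * 2 := by norm_num
    rw [this]; exact mul_ne_zero h2 h2
  have e2 : ¬ (A = -1 ∧ B = -1) := by
    rintro ⟨rfl, rfl⟩
    simp [trace_neg] at htr
    exact e4 (by linear_combination -htr)
  have e3 : ¬ (A = 1 ∧ B = -1) := by
    rintro ⟨rfl, rfl⟩
    apply hne'
    rw [← map_Es h2, Es_neg h2 h]
    rfl
  have e5 : ¬ (A = -1 ∧ B = 1) := by
    rintro ⟨rfl, rfl⟩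
    apply hne
    have h5 : g * R.t * g⁻¹ = R.t := R.inj (by rw [h, R.t_eq])
    rw [← map_Es h2, h5, Es_t h2]
    rfl
  have dA : A = 1 ∨ A = -1 → A.det = 1 := by
    rintro (rfl | rfl)
    · exact det_one
    · rw [det_neg]; simp
  have dB : B = 1 ∨ B = -1 → B.det = 1 := by
    rintro (rfl | rfl)
    · exact det_one
    · rw [det_neg]; simp
  have kA : ¬ (A = 1 ∨ A = -1) := by
    intro hA
    have h5 : B.det = 1 := by rw [dA hA, one_mul] at hd; exact hd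
    have h6 := eq_one_or_of_det h2 hsq.2 h5
    tauto
  have kB : ¬ (B = 1 ∨ B = -1) := by
    intro hB
    have h5 : A.det = 1 := by rw [dB hB, mul_one] at hd; exact hd
    have h6 := eq_one_or_of_det h2 hsq.1 h5
    tauto
  push Not at kA kB
  exact ⟨A, B, h, ⟨hsq.1, kA.1, kA.2, fun t ht => (hun t ht).1⟩, ⟨hsq.2, kB.1, kB.2, fun t ht => (hun t ht).2⟩⟩

/-- reflections are diagonalisable -/
def RDiag (T : Set (F →+* F)) : Prop := ∀ A : Matrix (Fin 2) (Fin 2) F, TB T A →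
  ∃ Q, Cond T Q ∧ A * Q = Q * !![1, 0; 0, -1]

/-- `diag(1,-1,-1,1)` -/
def S0 (F : Type*) [Field F] : Matrix (Fin 2 ⊕ Fin 2) (Fin 2 ⊕ Fin 2) F :=
  fromBlocks !![1, 0; 0, -1] 0 0 !![-1, 0; 0, 1]

/-- a monomial matrix conjugating `t` to `S0` -/
def W0 (F : Type*) [Field F] : Matrix (Fin 2 ⊕ Fin 2) (Fin 2 ⊕ Fin 2) F :=
  fromBlocks !![0, 0; 0, 1] !![-1, 0; 0, 0] !![1, 0; 0, 0] !![0, 0; 0, 1]

/-- generation -/
def Gen (R : Rep Γ F (Fin 2)) : Prop := ∀ s : Γ, R.ρ s = S0 F → R.E1 ⊔ R.E2 ⊔ Es R s = ⊤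

theorem cond_S0 (T : Set (F →+* F)) : Cond T (S0 F) := by
  refine ⟨?_, fun t _ => ?_⟩
  · rw [S0, det_fromBlocks_zero₂₁, det_fin_two_of, det_fin_two_of]; ring
  · rw [S0, fromBlocks_transpose, fromBlocks_map, fromBlocks_multiply, ← fromBlocks_one]
    congr 1 <;> (ext i j; fin_cases i <;> fin_cases j <;> simp [Matrix.mul_apply, Fin.sum_univ_two])

theorem cond_W0 (T : Set (F →+* F)) : Cond T (W0 F) := by
  refine ⟨?_, fun t _ => ?_⟩
  · rw [← det_submatrix_equiv_self (finSumFinEquiv (m := 2) (n := 2)).symm]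
    have e : (W0 F).submatrix (finSumFinEquiv (m := 2) (n := 2)).symm (finSumFinEquiv (m := 2) (n := 2)).symm =
        !![0, 0, -1, 0; 0, 1, 0, 0; 1, 0, 0, 0; 0, 0, 0, 1] := by
      ext i j
      fin_cases i <;> fin_cases j <;> rfl
    rw [e]
    simp [det_succ_row_zero, Fin.sum_univ_succ]
    rfl
  · rw [W0, fromBlocks_transpose, fromBlocks_map, fromBlocks_multiply, ← fromBlocks_one]
    congr 1 <;> (ext i j; fin_cases i <;> fin_cases j <;> simp [Matrix.mul_apply, Fin.sum_univ_two])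

/-! ### The facts for `D₁`, `D₂` -/

include h2 hR hq in
theorem reduce {L L' : Subgroup (Γ ⧸ center Γ)} (hL : L ∈ Mem R) (hL' : L' ∈ Mem R)
    (hc : L' ≤ centralizer (L : Set (Γ ⧸ center Γ))) : ∃ g, L = cj g (D1 R) ∧ L' = cj g (D2 R) := by
  obtain ⟨g, rfl⟩ := hL
  obtain ⟨g', rfl⟩ := hL'
  refine ⟨g, rfl, ?_⟩
  obtain ⟨k, hk⟩ := pr_surjective (g⁻¹ * g')
  have h1 : cj (pr Γ k) (D1 R) ≤ centralizer (D1 R : Set (Γ ⧸ center Γ)) := by
    rw [hk, cj_mul]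
    have h3 := cj_mono g⁻¹ hc
    rwa [CoreTools.cj_centralizer_set, cj_inv_cj] at h3
  have h3 := partner_eq h2 hR hq h1
  rw [hk, cj_mul] at h3
  rw [← h3, cj_cj_inv]

/-- `s = r s₀ r⁻¹` for a third member -/
theorem exists_r (h2 : (2 : F) ≠ 0) (hR : Model R T) (hq : Quat T a b) (hrd : RDiag T) {k : Γ}
    (h : ThP (Mem R) (D1 R) (D2 R) (cj (pr Γ k) (D1 R))) :
    ∃ r ∈ R.E1 ⊔ R.E2, ∃ s, R.ρ s = S0 F ∧ k * R.t * k⁻¹ = r * s * r⁻¹ := by
  have hz : pr Γ (k * R.t * k⁻¹) ∈ normalizer (D1 R : Set (Γ ⧸ center Γ)) := by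
    refine h.nor _ ?_ ?_
    · rw [map_mul, map_mul, map_inv]; exact conj_mem_cj ⟨_, R.t_mem, rfl⟩
    · rw [← map_mul, conj_sq, map_one]
  obtain ⟨A, B, hs, hA, hB⟩ := third_blocks h2 hR hq (g := k)
    (fun y hy => (mem_normalizer_iff.1 hz y).1 hy) h.ne h.ne'
  obtain ⟨Q1, hQ1, e1⟩ := hrd A hA
  obtain ⟨Q2, hQ2, e2⟩ := hrd B hB
  have hQ3 : Cond T (Q2 * U1 F) := hQ2.mul (cond_U1 T)
  have e3 : B * (Q2 * U1 F) = (Q2 * U1 F) * !![-1, 0; 0, 1] := by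
    rw [← Matrix.mul_assoc, e2, Matrix.mul_assoc, Matrix.mul_assoc]
    congr 1
    ext i j
    fin_cases i <;> fin_cases j <;> simp [U1, Matrix.mul_apply, Fin.sum_univ_two]
  obtain ⟨r1, hr1⟩ := exists_blocks hR hQ1 (Cond.one T)
  obtain ⟨r2, hr2⟩ := exists_blocks hR (Cond.one T) hQ3
  obtain ⟨s, hs0⟩ := (hR _).2 (cond_S0 T)
  have hr : R.ρ (r1 * r2) = fromBlocks Q1 0 0 (Q2 * U1 F) := by
    rw [map_mul, hr1, hr2, fromBlocks_multiply]; simp
  refine ⟨r1 * r2, mul_mem (mem_sup_left ⟨_, hr1⟩) (mem_sup_right ⟨_, hr2⟩), s, hs0, ?_⟩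
  rw [eq_mul_inv_iff_mul_eq]
  apply R.inj
  rw [map_mul, map_mul _ (r1 * r2), hs, hr, hs0, S0, fromBlocks_multiply, fromBlocks_multiply]
  simp [e1, e3]

theorem top_le_map (h2 : (2 : F) ≠ 0) (hR : Model R T) (hq : Quat T a b) (hrd : RDiag T) (hgen : Gen R) {k : Γ}
    (h : ThP (Mem R) (D1 R) (D2 R) (cj (pr Γ k) (D1 R))) : D1 R ⊔ D2 R ⊔ cj (pr Γ k) (D1 R) = ⊤ := by
  obtain ⟨r, hr, s, hs, hk⟩ := exists_r h2 hR hq hrd h
  have h1 : cj (pr Γ k) (D1 R) = cj (pr Γ r) ((Es R s).map (pr Γ)) := by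
    rw [← map_Es h2, hk, ← Es_conj, cj_map]
  have hrX : pr Γ r ∈ D1 R ⊔ D2 R ⊔ cj (pr Γ k) (D1 R) := by
    refine mem_sup_left ?_
    rw [D1, D2, ← Subgroup.map_sup]
    exact ⟨r, hr, rfl⟩
  have h3 : (Es R s).map (pr Γ) ≤ D1 R ⊔ D2 R ⊔ cj (pr Γ k) (D1 R) := by
    intro y hy
    have h4 : pr Γ r * y * (pr Γ r)⁻¹ ∈ cj (pr Γ k) (D1 R) := by rw [h1]; exact conj_mem_cj hy
    have h5 := mem_sup_right (S := D1 R ⊔ D2 R) h4
    have e : y = (pr Γ r)⁻¹ * (pr Γ r * y * (pr Γ r)⁻¹) * pr Γ r := by group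
    rw [e]
    exact mul_mem (mul_mem (inv_mem hrX) h5) hrX
  rw [eq_top_iff, ← Subgroup.map_top_of_surjective (pr Γ) pr_surjective, ← hgen s hs, Subgroup.map_sup,
    Subgroup.map_sup]
  exact sup_le (le_sup_left (b := cj (pr Γ k) (D1 R))) h3

theorem cent_std (h2 : (2 : F) ≠ 0) (hR : Model R T) (hq : Quat T a b) {k : Γ}
    (h : ThP (Mem R) (D1 R) (D2 R) (cj (pr Γ k) (D1 R))) {x : Γ ⧸ center Γ}
    (hx : x ∈ centralizer (D1 R : Set (Γ ⧸ center Γ))) (hx' : x ∈ centralizer (D2 R : Set (Γ ⧸ center Γ))) :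
    x ∈ normalizer (cj (pr Γ k) (D1 R) : Set (Γ ⧸ center Γ)) := by
  have hz : pr Γ (k * R.t * k⁻¹) ∈ normalizer (D1 R : Set (Γ ⧸ center Γ)) := by
    refine h.nor _ ?_ ?_
    · rw [map_mul, map_mul, map_inv]; exact conj_mem_cj ⟨_, R.t_mem, rfl⟩
    · rw [← map_mul, conj_sq, map_one]
  obtain ⟨A, B, hs, -, -⟩ := third_blocks h2 hR hq (g := k)
    (fun y hy => (mem_normalizer_iff.1 hz y).1 hy) h.ne h.ne'
  obtain ⟨x, rfl⟩ := pr_surjective x
  obtain ⟨c, d, hcd⟩ := scalars h2 hR hq (fun y hy => (mem_centralizer_iff.1 hx y hy).symm)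
    (fun y hy => (mem_centralizer_iff.1 hx' y hy).symm)
  have h1 : x * (k * R.t * k⁻¹) * x⁻¹ = k * R.t * k⁻¹ := by
    rw [mul_inv_eq_iff_eq_mul]
    apply R.inj
    rw [map_mul, map_mul _ (k * R.t * k⁻¹), hs, hcd, fromBlocks_multiply, fromBlocks_multiply]
    simp
  rw [mem_normalizer_iff_cj, ← map_Es h2, ← cj_map, Es_conj, h1]

theorem sq_std (h2 : (2 : F) ≠ 0) (hR : Model R T) (hq : Quat T a b) {x : Γ ⧸ center Γ}
    (hx : x ∈ centralizer (D1 R : Set (Γ ⧸ center Γ))) (hx' : x ∈ centralizer (D2 R : Set (Γ ⧸ center Γ)))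
    (hxx : x * x = 1) : x = 1 ∨ x = z0 R := by
  obtain ⟨x, rfl⟩ := pr_surjective x
  obtain ⟨c, d, hcd⟩ := scalars h2 hR hq (fun y hy => (mem_centralizer_iff.1 hx y hy).symm)
    (fun y hy => (mem_centralizer_iff.1 hx' y hy).symm)
  have h1 : x * x ∈ center Γ := by rw [← pr_eq_one, map_mul, hxx]
  obtain ⟨e, he⟩ := R.cen _ h1
  rw [map_mul, hcd, fromBlocks_multiply, ← fromBlocks_one, fromBlocks_smul, fromBlocks_inj] at he
  have e1 := congrFun (congrFun he.1 0) 0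
  have e2 := congrFun (congrFun he.2.2.2 0) 0
  simp at e1 e2
  have h3 : (d - c) * (d + c) = 0 := by linear_combination e2 - e1
  rcases mul_eq_zero.1 h3 with h | h
  · left
    have h4 : d = c := sub_eq_zero.1 h
    rw [pr_eq_one]
    apply R.mem_center_of_scalar (c := c)
    rw [hcd, h4, ← fromBlocks_one, fromBlocks_smul]
    simp
  · right
    have h4 : d = -c := eq_neg_of_add_eq_zero_left h
    have h5 : x * R.t ∈ center Γ := by
      apply R.mem_center_of_scalar (c := -c)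
      rw [map_mul, hcd, R.t_eq, fromBlocks_multiply, h4, ← fromBlocks_one, fromBlocks_smul]
      simp
    rw [← pr_eq_one, map_mul] at h5
    have h6 : pr Γ x * z0 R = 1 := h5
    calc pr Γ x = pr Γ x * (z0 R * z0 R) := by rw [z0_mul, mul_one]
      _ = (pr Γ x * z0 R) * z0 R := by group
      _ = z0 R := by rw [h6, one_mul]

theorem w_conj {w s : Γ} (hw : R.ρ w = W0 F) (hs : R.ρ s = S0 F) : w * R.t * w⁻¹ = s := by
  rw [mul_inv_eq_iff_eq_mul]
  apply R.inj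
  rw [map_mul, map_mul, hw, hs, R.t_eq, W0, S0, fromBlocks_multiply, fromBlocks_multiply]
  congr 1 <;> (ext i j; fin_cases i <;> fin_cases j <;> simp [Matrix.mul_apply, Fin.sum_univ_two])

/-- an explicit third member -/
theorem third_w (h2 : (2 : F) ≠ 0) (hR : Model R T) (hq : Quat T a b) {w s : Γ} (hw : R.ρ w = W0 F)
    (hs : R.ρ s = S0 F) : ThP (Mem R) (D1 R) (D2 R) (cj (pr Γ w) (D1 R)) := by
  have hws := w_conj hw hs
  have hst : s * R.t = R.t * s := R.comm_t_of_blocks hs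
  have hsz : ∀ z ∈ cj (pr Γ w) (D1 R), z * z = 1 → z ≠ 1 → z = pr Γ s := by
    intro z hz hzz hz1
    rw [mem_cj] at hz
    have h1 := eq_z0 h2 hR hz (by
      calc (pr Γ w)⁻¹ * z * pr Γ w * ((pr Γ w)⁻¹ * z * pr Γ w) = (pr Γ w)⁻¹ * (z * z) * pr Γ w := by group
        _ = 1 := by rw [hzz]; group) (by
      intro h
      apply hz1
      calc z = pr Γ w * ((pr Γ w)⁻¹ * z * pr Γ w) * (pr Γ w)⁻¹ := by group
        _ = 1 := by rw [h]; group)
    calc z = pr Γ w * ((pr Γ w)⁻¹ * z * pr Γ w) * (pr Γ w)⁻¹ := by group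
      _ = pr Γ s := by rw [h1, z0, ← map_inv, ← map_mul, ← map_mul, hws]
  refine ⟨⟨_, rfl⟩, ?_, ?_, ?_⟩
  · intro h
    have h1 : w * R.t = R.t * w := comm_t h2 hR hq fun y hy => by
      rw [← h]; exact conj_mem_cj hy
    rw [h1, mul_inv_cancel_right] at hws
    have h3 := congrArg R.ρ hws
    rw [hs, R.t_eq, S0, fromBlocks_inj] at h3
    have h4 := congrFun (congrFun h3.1 0) 0
    simp at h4
    exact h2 (by linear_combination -h4)
  · intro h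
    have h1 := partner_t h2 hR hq (g := w) (by
      rw [h]
      intro y hy
      rw [mem_centralizer_iff]
      exact fun x hx => comm_D1_D2 R hx hy)
    rw [hws, hs, S0, fromBlocks_inj] at h1
    have h4 := congrFun (congrFun h1.1 1) 1
    simp at h4
    exact h2 (by linear_combination -h4)
  · intro z hz hzz
    by_cases hz1 : z = 1
    · rw [hz1]; exact one_mem _
    rw [hsz z hz hzz hz1, mem_normalizer_iff_cj]
    have h1 : cj (pr Γ s) (D1 R) = (Es R (s * R.t * s⁻¹)).map (pr Γ) := (map_Es h2 s).symm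
    rw [h1, hst, mul_inv_cancel_right, Es_t h2]
    rfl

/-- existence of a third member -/
theorem third_std (h2 : (2 : F) ≠ 0) (hR : Model R T) (hq : Quat T a b) :
    ∃ J, ThP (Mem R) (D1 R) (D2 R) J := by
  obtain ⟨w, hw⟩ := (hR _).2 (cond_W0 T)
  obtain ⟨s, hs⟩ := (hR _).2 (cond_S0 T)
  exact ⟨_, third_w h2 hR hq hw hs⟩

/-- **the facts** -/
theorem pf_of (h2 : (2 : F) ≠ 0) (hR : Model R T) (hq : Quat T a b) (hrd : RDiag T) (hgen : Gen R) {p : ℕ}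
    (hp : PGen p (D1 R)) : PF p (Γ ⧸ center Γ) (Mem R) := by
  have hconj : ∀ K ∈ Mem R, ∀ g, cj g K ∈ Mem R := by
    rintro _ ⟨k, rfl⟩ g
    exact ⟨g * k, by rw [cj_mul]⟩
  -- reduction to `D₁`, `D₂`
  have hred : ∀ (g : Γ ⧸ center Γ) (J : Subgroup (Γ ⧸ center Γ)), ThP (Mem R) (cj g (D1 R)) (cj g (D2 R)) J →
      ∃ k, J = cj g (cj (pr Γ k) (D1 R)) ∧ ThP (Mem R) (D1 R) (D2 R) (cj (pr Γ k) (D1 R)) := by
    intro g J h
    have h1 := h.cj hconj g⁻¹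
    rw [cj_inv_cj, cj_inv_cj] at h1
    obtain ⟨k', hk⟩ := h1.mem
    obtain ⟨k, rfl⟩ := pr_surjective k'
    refine ⟨k, ?_, ?_⟩
    · rw [← hk, cj_cj_inv]
    · rwa [hk] at h1
  have hcen : ∀ (g x : Γ ⧸ center Γ) (K : Subgroup (Γ ⧸ center Γ)), x ∈ centralizer (cj g K : Set (Γ ⧸ center Γ)) →
      g⁻¹ * x * g ∈ centralizer (K : Set (Γ ⧸ center Γ)) := by
    intro g x K hx
    rwa [← CoreTools.cj_centralizer_set, mem_cj] at hx
  refine ⟨hconj, ?_, ?_, ?_, ?_, ?_, ?_, ?_⟩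
  · rintro _ ⟨g, rfl⟩ _ ⟨g', rfl⟩
    exact ⟨g' * g⁻¹, by rw [cj_mul, cj_inv_cj]⟩
  · rintro _ ⟨g, rfl⟩ X hX
    have h1 : D1 R ≤ cj g⁻¹ X := by
      refine hp _ fun v hv hvp => ?_
      rw [mem_cj, inv_inv]
      refine hX _ (conj_mem_cj hv) ?_
      have h3 : zpowers (g * v * g⁻¹) = cj g (zpowers v) := by
        rw [cj_def, MonoidHom.map_zpowers]; rfl
      rw [h3]
      exact hvp.map _
    have h3 := cj_mono g h1
    rwa [cj_cj_inv] at h3
  · rintro _ ⟨g, rfl⟩ x hx y hy hxx hx1 hyy hy1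
    rw [mem_cj] at hx hy
    have key : ∀ x : Γ ⧸ center Γ, g⁻¹ * x * g ∈ D1 R → x * x = 1 → x ≠ 1 → g⁻¹ * x * g = z0 R := by
      intro x hx hxx hx1
      refine eq_z0 h2 hR hx ?_ ?_
      · calc g⁻¹ * x * g * (g⁻¹ * x * g) = g⁻¹ * (x * x) * g := by group
          _ = 1 := by rw [hxx]; group
      · intro h
        apply hx1
        calc x = g * (g⁻¹ * x * g) * g⁻¹ := by group
          _ = 1 := by rw [h]; group
    have e1 := key x hx hxx hx1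
    have e2 := key y hy hyy hy1
    calc x = g * (g⁻¹ * x * g) * g⁻¹ := by group
      _ = g * (g⁻¹ * y * g) * g⁻¹ := by rw [e1, e2]
      _ = y := by group
  · intro L hL L' hL' hc
    obtain ⟨g, rfl, rfl⟩ := reduce h2 hR hq hL hL' hc
    obtain ⟨J, hJ⟩ := third_std h2 hR hq
    exact ⟨_, hJ.cj hconj g⟩
  · intro L hL L' hL' J hc hT
    obtain ⟨g, rfl, rfl⟩ := reduce h2 hR hq hL hL' hc
    obtain ⟨k, rfl, hk⟩ := hred g J hT
    rw [← cj_sup, ← cj_sup, top_le_map h2 hR hq hrd hgen hk]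
    rw [cj_def, Subgroup.map_top_of_surjective _ (MulAut.conj g).surjective]
  · intro L hL L' hL' J hc hT x hx hx'
    obtain ⟨g, rfl, rfl⟩ := reduce h2 hR hq hL hL' hc
    obtain ⟨k, rfl, hk⟩ := hred g J hT
    have h1 := cent_std h2 hR hq hk (hcen g x _ hx) (hcen g x _ hx')
    rw [mem_normalizer_iff_cj] at h1 ⊢
    have e : x * g = g * (g⁻¹ * x * g) := by group
    rw [← cj_mul x, e, cj_mul, h1]
  · intro L hL L' hL' hc x hx hx' hxx
    obtain ⟨g, rfl, rfl⟩ := reduce h2 hR hq hL hL' hc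
    have h1 := sq_std h2 hR hq (hcen g x _ hx) (hcen g x _ hx') (by
      calc g⁻¹ * x * g * (g⁻¹ * x * g) = g⁻¹ * (x * x) * g := by group
        _ = 1 := by rw [hxx]; group)
    rcases h1 with h1 | h1
    · left
      calc x = g * (g⁻¹ * x * g) * g⁻¹ := by group
        _ = 1 := by rw [h1]; group
    · right
      intro z hz hzz hz1
      rw [mem_cj] at hz
      have h3 := eq_z0 h2 hR hz (by
        calc g⁻¹ * z * g * (g⁻¹ * z * g) = g⁻¹ * (z * z) * g := by group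
          _ = 1 := by rw [hzz]; group) (by
        intro h
        apply hz1
        calc z = g * (g⁻¹ * z * g) * g⁻¹ := by group
          _ = 1 := by rw [h]; group)
      calc x = g * (g⁻¹ * x * g) * g⁻¹ := by group
        _ = g * (g⁻¹ * z * g) * g⁻¹ := by rw [h1, h3]
        _ = z := by group

end Cfsg.Agent.Cit.SL4F
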