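import Cfsg.Agent.Cit.SL4Fb

/-!
# `RDiag` and `Gen` for `SU₄(q)`

`σ : F →+* F` with `σ² = 1` and surjective norm. `Gen`: transitivity of `X = ⟨E₁, E₂, E₀⟩` on vectors of norm `1`.
-/

set_option autoImplicit false

namespace Cfsg.Agent.Cit.SL4F

open Subgroup Cfsg Matrix Cfsg.Agent.Cit.LongAbs Cfsg.Agent.Cit.LongBlock Cfsg.Agent.Cit.LongQuot
  Cfsg.Agent.Cit.LongMain Cfsg.Agent.Cit.LongModel

variable {F : Type*} [Field F] (σ : F →+* F)

/-- data for the unitary groups -/
structure Uni (σ : F →+* F) : Prop where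
  two : (2 : F) ≠ 0
  inv : ∀ x, σ (σ x) = x
  norm : ∀ c, σ c = c → ∃ x, x * σ x = c

variable {σ}

/-- `[[a, -σ b], [b, σ a]]` -/
def Qm (σ : F →+* F) (a b : F) : Matrix (Fin 2) (Fin 2) F := !![a, -σ b; b, σ a]

theorem cond_Qm (h : Uni σ) {a b : F} (hab : a * σ a + b * σ b = 1) : Cond {σ} (Qm σ a b) := by
  refine ⟨by rw [Qm, det_fin_two_of]; linear_combination hab, fun t ht => ?_⟩
  rw [Set.mem_singleton_iff.1 ht]
  have e1 := h.inv a
  have e2 := h.inv b
  ext i j
  fin_cases i <;> fin_cases j <;> simp [Qm, Matrix.mul_apply, Fin.sum_univ_two, e1, e2]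
  · linear_combination hab
  · ring
  · ring
  · linear_combination hab

/-- reflections are diagonalisable -/
theorem rdiag_uni (h : Uni σ) : RDiag ({σ} : Set (F →+* F)) := by
  intro A hA
  obtain ⟨hd, htr⟩ := trace_of_sq h.two hA.sq hA.ne hA.ne'
  have hT : A.map σ = Aᵀ := by
    have h1 := hA.un σ rfl
    have h3 : Aᵀ * Aᵀ = 1 := by rw [← transpose_mul, hA.sq, transpose_one]
    calc A.map σ = (Aᵀ * Aᵀ) * A.map σ := by rw [h3, Matrix.one_mul]
      _ = Aᵀ * (Aᵀ * A.map σ) := Matrix.mul_assoc _ _ _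
      _ = Aᵀ := by rw [h1, Matrix.mul_one]
  have hr : σ (A 0 0) = A 0 0 := congrFun (congrFun hT 0) 0
  have hu : σ (A 0 1) = A 1 0 := congrFun (congrFun hT 0) 1
  have hs : A 1 1 = -A 0 0 := by rw [trace_fin_two] at htr; linear_combination htr
  have hdet : A 0 0 * A 0 0 + A 0 1 * A 1 0 = 1 := by
    rw [det_fin_two, hs] at hd; linear_combination -hd
  -- a unit vector
  suffices hex : ∃ x y : F, x * σ x + y * σ y = 1 ∧ A 0 0 * x + A 0 1 * y = x ∧ A 1 0 * x - A 0 0 * y = y by
    obtain ⟨x, y, hxy, h1, h3⟩ := hex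
    refine ⟨Qm σ x y, cond_Qm h hxy, ?_⟩
    have h1' := congrArg σ h1
    have h3' := congrArg σ h3
    rw [map_add, map_mul, map_mul, hr, hu] at h1'
    rw [map_sub, map_mul, map_mul, hr, ← hu, h.inv] at h3'
    ext i j
    fin_cases i <;> fin_cases j <;> simp [Qm, Matrix.mul_apply, Fin.sum_univ_two, hs]
    · linear_combination h1
    · linear_combination h3'
    · linear_combination h3
    · linear_combination -h1'
  by_cases hr1 : A 0 0 = -1
  · have h3 : A 0 1 * σ (A 0 1) = 0 := by rw [hu]; rw [hr1] at hdet; linear_combination hdet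
    have h4 : A 0 1 = 0 := by
      rcases mul_eq_zero.1 h3 with h4 | h4
      · exact h4
      · rw [← h.inv (A 0 1), h4, map_zero]
    have h5 : A 1 0 = 0 := by rw [← hu, h4, map_zero]
    refine ⟨0, 1, by simp, ?_, ?_⟩
    · rw [h4]; ring
    · rw [hr1, h5]; ring
  · have hc : (2 + 2 * A 0 0 : F) ≠ 0 := by
      intro h3
      apply hr1
      have h4 : (2 : F) * (1 + A 0 0) = 0 := by linear_combination h3
      have h5 := (mul_eq_zero.1 h4).resolve_left h.two
      linear_combination h5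
    obtain ⟨κ, hκ⟩ := h.norm (2 + 2 * A 0 0) (by rw [map_add, map_mul, hr, map_ofNat])
    have hκ0 : κ ≠ 0 := by rintro rfl; rw [zero_mul] at hκ; exact hc hκ.symm
    have hκσ : σ κ ≠ 0 := by intro h4; rw [h4, mul_zero] at hκ; exact hc hκ.symm
    refine ⟨(1 + A 0 0) / κ, A 1 0 / κ, ?_, ?_, ?_⟩
    · have hu' : σ (A 1 0) = A 0 1 := by rw [← hu, h.inv]
      rw [map_div₀, map_div₀, map_add, map_one, hr, hu']
      field_simp
      linear_combination hdet - hκ
    · field_simp
      linear_combination hdet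
    · field_simp
      ring

/-! ### Transitivity of `SU₂` -/

theorem norm_id (h : Uni σ) (a b x y : F) : (a * x - σ b * y) * σ (a * x - σ b * y) +
    (b * x + σ a * y) * σ (b * x + σ a * y) = (a * σ a + b * σ b) * (x * σ x + y * σ y) := by
  simp only [map_sub, map_add, map_mul, h.inv]
  ring

theorem t2a (h : Uni σ) {x y k m : F} (hc : x * σ x + y * σ y ≠ 0) (hkm : k * σ k + m * σ m = x * σ x + y * σ y) :
    ∃ a b, a * σ a + b * σ b = 1 ∧ a * x - σ b * y = k ∧ b * x + σ a * y = m := by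
  set c := x * σ x + y * σ y with hcd
  have hσc : σ c = c := by rw [hcd, map_add, map_mul, map_mul, h.inv, h.inv]; ring
  refine ⟨(σ x * k + y * σ m) / c, (σ x * m - y * σ k) / c, ?_, ?_, ?_⟩
  · rw [map_div₀, map_div₀, hσc, map_add, map_sub, map_mul, map_mul, map_mul, map_mul, h.inv, h.inv, h.inv]
    field_simp
    have e : (σ x * k + y * σ m) * (x * σ k + σ y * m) + (σ x * m - y * σ k) * (x * σ m - σ y * k) = c * c := by
      calc _ = (x * σ x + y * σ y) * (k * σ k + m * σ m) := by ring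
        _ = c * c := by rw [hkm, ← hcd]
    linear_combination e
  · rw [map_div₀, hσc, map_sub, map_mul, map_mul, h.inv, h.inv]
    field_simp
    rw [hcd]; ring
  · rw [map_div₀, hσc, map_add, map_mul, map_mul, h.inv, h.inv]
    field_simp
    rw [hcd]; ring

theorem t2b (h : Uni σ) {x y k : F} (hc : x * σ x + y * σ y = 0) (hx : x ≠ 0) (hy : y ≠ 0) (hk : k ≠ 0) :
    ∃ a b, a * σ a + b * σ b = 1 ∧ a * x - σ b * y = k := by
  have h2 := h.two
  have hkσ : σ k ≠ 0 := fun h3 => hk (by rw [← h.inv k, h3, map_zero])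
  have hxσ : σ x ≠ 0 := fun h3 => hx (by rw [← h.inv x, h3, map_zero])
  have hyσ : σ y ≠ 0 := fun h3 => hy (by rw [← h.inv y, h3, map_zero])
  have hσ2 : σ 2 = 2 := map_ofNat σ 2
  obtain ⟨u, hu⟩ : ∃ u, u = (x * σ x + k * σ k) / (2 * σ k) := ⟨_, rfl⟩
  have huσ : σ u = (x * σ x + k * σ k) / (2 * k) := by
    rw [hu, map_div₀, map_mul, map_add, map_mul, map_mul, hσ2, h.inv, h.inv]
    congr 1; ring
  refine ⟨u / x, -(σ (k - u)) / σ y, ?_, ?_⟩
  · rw [map_div₀, map_div₀, map_neg, h.inv, h.inv, map_sub]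
    have e1 : (2 * σ k) * u = x * σ x + k * σ k := by rw [hu]; field_simp
    have e2 : (2 * k) * σ u = x * σ x + k * σ k := by rw [huσ]; field_simp
    have e3 : u * σ u * (y * σ y) + (k - u) * (σ k - σ u) * (x * σ x) = (x * σ x) * (y * σ y) := by
      have e4 : y * σ y = -(x * σ x) := by linear_combination hc
      rw [e4]
      have e5 : (2 : F) * ((k * σ k - k * σ u - u * σ k) + (x * σ x)) = 0 := by
        linear_combination -e1 - e2
      have e6 := (mul_eq_zero.1 e5).resolve_left h2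
      linear_combination (x * σ x) * e6
    have e7 : u / x * (σ u / σ x) + -(σ k - σ u) / σ y * (-(k - u) / y) =
        (u * σ u * (y * σ y) + (k - u) * (σ k - σ u) * (x * σ x)) / ((x * σ x) * (y * σ y)) := by
      field_simp
    rw [e7, e3, div_self]
    exact mul_ne_zero (mul_ne_zero hx hxσ) (mul_ne_zero hy hyσ)
  · rw [map_div₀, map_neg, h.inv, h.inv]
    field_simp
    ring

theorem t2 (h : Uni σ) {x y k : F} (hxy : x ≠ 0 ∨ y ≠ 0) (hk : k ≠ 0) :
    ∃ a b m, a * σ a + b * σ b = 1 ∧ a * x - σ b * y = k ∧ b * x + σ a * y = m ∧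
      k * σ k + m * σ m = x * σ x + y * σ y := by
  by_cases hc : x * σ x + y * σ y = 0
  · have hx : x ≠ 0 := by
      rintro rfl
      rw [zero_mul, zero_add] at hc
      rcases mul_eq_zero.1 hc with h3 | h3
      · exact hxy.elim (fun h4 => h4 rfl) (fun h4 => h4 h3)
      · have h4 : y = 0 := by rw [← h.inv y, h3, map_zero]
        exact hxy.elim (fun h4 => h4 rfl) (fun h5 => h5 h4)
    have hy : y ≠ 0 := by
      rintro rfl
      rw [zero_mul, add_zero] at hc
      rcases mul_eq_zero.1 hc with h3 | h3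
      · exact hx h3
      · exact hx (by rw [← h.inv x, h3, map_zero])
    obtain ⟨a, b, h1, h3⟩ := t2b h hc hx hy hk
    refine ⟨a, b, b * x + σ a * y, h1, h3, rfl, ?_⟩
    have h4 := norm_id h a b x y
    rw [h3, h1, one_mul] at h4
    exact h4
  · obtain ⟨m, hm⟩ := h.norm (x * σ x + y * σ y - k * σ k) (by
      simp only [map_sub, map_add, map_mul, h.inv]; ring)
    have hkm : k * σ k + m * σ m = x * σ x + y * σ y := by rw [hm]; ring
    obtain ⟨a, b, h1, h3, h4⟩ := t2a h hc hkm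
    exact ⟨a, b, m, h1, h3, h4, hkm⟩

end Cfsg.Agent.Cit.SL4F
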