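import Cfsg.Agent.Cit.SL4Fc

/-!
# `Gen` for `SU₄(q)`
-/

set_option autoImplicit false
set_option linter.unusedSimpArgs false

namespace Cfsg.Agent.Cit.SL4F

open Subgroup Cfsg Matrix Cfsg.Agent.Cit.LongAbs Cfsg.Agent.Cit.LongBlock Cfsg.Agent.Cit.LongQuot
  Cfsg.Agent.Cit.LongMain Cfsg.Agent.Cit.LongModel

variable {Γ : Type*} [Group Γ] {F : Type*} [Field F] {σ : F →+* F} {R : Rep Γ F (Fin 2)}

/-- a vector -/
def vec (x0 x1 x2 x3 : F) : Fin 2 ⊕ Fin 2 → F := Sum.elim ![x0, x1] ![x2, x3]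

theorem vec_eta (v : Fin 2 ⊕ Fin 2 → F) : v = vec (v (Sum.inl 0)) (v (Sum.inl 1)) (v (Sum.inr 0)) (v (Sum.inr 1)) := by
  funext i
  rcases i with i | i <;> fin_cases i <;> rfl

/-- the block on the coordinates `2`, `1` -/
def M21 (σ : F →+* F) (a b : F) : Matrix (Fin 2 ⊕ Fin 2) (Fin 2 ⊕ Fin 2) F :=
  fromBlocks !![1, 0; 0, σ a] !![0, 0; b, 0] !![0, -σ b; 0, 0] !![a, 0; 0, 1]

theorem mul01 (a b x0 x1 x2 x3 : F) : fromBlocks (Qm σ a b) 0 0 1 *ᵥ vec x0 x1 x2 x3 =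
    vec (a * x0 - σ b * x1) (b * x0 + σ a * x1) x2 x3 := by
  funext i
  rw [vec, fromBlocks_mulVec]
  rcases i with i | i <;> fin_cases i <;> simp [vec, Qm, mulVec, dotProduct, Fin.sum_univ_two,
    Matrix.one_apply] <;> ring

theorem mul23 (a b x0 x1 x2 x3 : F) : fromBlocks 1 0 0 (Qm σ a b) *ᵥ vec x0 x1 x2 x3 =
    vec x0 x1 (a * x2 - σ b * x3) (b * x2 + σ a * x3) := by
  funext i
  rw [vec, fromBlocks_mulVec]
  rcases i with i | i <;> fin_cases i <;> simp [vec, Qm, mulVec, dotProduct, Fin.sum_univ_two,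
    Matrix.one_apply] <;> ring

theorem mul21 (a b x0 x1 x2 x3 : F) : M21 σ a b *ᵥ vec x0 x1 x2 x3 =
    vec x0 (b * x2 + σ a * x1) (a * x2 - σ b * x1) x3 := by
  funext i
  rw [vec, M21, fromBlocks_mulVec]
  rcases i with i | i <;> fin_cases i <;> simp [vec, mulVec, dotProduct, Fin.sum_univ_two] <;> ring

theorem M21_eq (a b : F) : M21 σ a b = W0 F * fromBlocks (Qm σ a b) 0 0 1 * (W0 F)ᵀ := by
  rw [W0, M21, fromBlocks_transpose, fromBlocks_multiply, fromBlocks_multiply]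
  congr 1 <;> (ext i j; fin_cases i <;> fin_cases j <;>
    simp [Qm, Matrix.mul_apply, vecMul, dotProduct, Fin.sum_univ_two])

theorem W0_mul : W0 F * (W0 F)ᵀ = 1 := by
  rw [W0, fromBlocks_transpose, fromBlocks_multiply, ← fromBlocks_one]
  congr 1 <;> (ext i j; fin_cases i <;> fin_cases j <;>
    simp [Matrix.mul_apply, vecMul, dotProduct, Fin.sum_univ_two])

theorem cond_M21 (h : Uni σ) {a b : F} (hab : a * σ a + b * σ b = 1) : Cond {σ} (M21 σ a b) := by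
  rw [M21_eq]
  exact ((cond_W0 _).mul ((cond_Qm h hab).fromBlocks (Cond.one _))).mul ((cond_W0 _).of_mul_eq_one W0_mul)

variable (hR : Model R {σ}) (h : Uni σ) {s : Γ} (hs : R.ρ s = S0 F)

include hR h in
theorem ex01 {a b : F} (hab : a * σ a + b * σ b = 1) :
    ∃ g ∈ R.E1, R.ρ g = fromBlocks (Qm σ a b) 0 0 1 := by
  obtain ⟨g, hg⟩ := (hR _).2 ((cond_Qm h hab).fromBlocks (Cond.one (ι := Fin 2) _))
  exact ⟨g, ⟨_, hg⟩, hg⟩

include hR h in
theorem ex23 {a b : F} (hab : a * σ a + b * σ b = 1) :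
    ∃ g ∈ R.E2, R.ρ g = fromBlocks 1 0 0 (Qm σ a b) := by
  obtain ⟨g, hg⟩ := (hR _).2 ((Cond.one (ι := Fin 2) _).fromBlocks (cond_Qm h hab))
  exact ⟨g, ⟨_, hg⟩, hg⟩

include hR h hs in
theorem ex21 {a b : F} (hab : a * σ a + b * σ b = 1) : ∃ g ∈ Es R s, R.ρ g = M21 σ a b := by
  obtain ⟨g, hg⟩ := (hR _).2 (cond_M21 h hab)
  refine ⟨g, ⟨?_, ?_⟩, hg⟩
  · apply R.inj
    rw [map_mul, map_mul, hg, hs, M21, S0, fromBlocks_multiply, fromBlocks_multiply]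
    congr 1 <;> (ext i j; fin_cases i <;> fin_cases j <;>
    simp [Matrix.mul_apply, vecMul, dotProduct, Fin.sum_univ_two])
  · rw [hg, hs, M21, S0, ← fromBlocks_one, fromBlocks_add, sub_eq_add_neg, fromBlocks_neg, fromBlocks_add,
      fromBlocks_multiply, ← fromBlocks_zero]
    congr 1 <;> (ext i j; fin_cases i <;> fin_cases j <;>
    simp [Matrix.mul_apply, vecMul, dotProduct, Fin.sum_univ_two])

/-- `w` is in the orbit of `v` -/
def Rc (R : Rep Γ F (Fin 2)) (X : Subgroup Γ) (v w : Fin 2 ⊕ Fin 2 → F) : Prop := ∃ g ∈ X, R.ρ g *ᵥ v = w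

theorem Rc.trans {X : Subgroup Γ} {u v w : Fin 2 ⊕ Fin 2 → F} (h1 : Rc R X u v) (h2 : Rc R X v w) : Rc R X u w := by
  obtain ⟨g, hg, rfl⟩ := h1
  obtain ⟨k, hk, rfl⟩ := h2
  exact ⟨k * g, mul_mem hk hg, by rw [map_mul, mulVec_mulVec]⟩

/-- `(x₂, x₃) → (k, 0)` -/
theorem step23 {X : Subgroup Γ} (hR : Model R {σ}) (h : Uni σ) (hX : R.E2 ≤ X) {x0 x1 x2 x3 k m : F}
    (hc : x2 * σ x2 + x3 * σ x3 ≠ 0) (hkm : k * σ k + m * σ m = x2 * σ x2 + x3 * σ x3) :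
    Rc R X (vec x0 x1 x2 x3) (vec x0 x1 k m) := by
  obtain ⟨a, b, hab, e1, e2⟩ := t2a h hc hkm
  obtain ⟨g, hg, hgr⟩ := ex23 hR h hab
  exact ⟨g, hX hg, by rw [hgr, mul23, e1, e2]⟩

theorem step01 {X : Subgroup Γ} (hR : Model R {σ}) (h : Uni σ) (hX : R.E1 ≤ X) {x0 x1 x2 x3 k m : F}
    (hc : x0 * σ x0 + x1 * σ x1 ≠ 0) (hkm : k * σ k + m * σ m = x0 * σ x0 + x1 * σ x1) :
    Rc R X (vec x0 x1 x2 x3) (vec k m x2 x3) := by
  obtain ⟨a, b, hab, e1, e2⟩ := t2a h hc hkm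
  obtain ⟨g, hg, hgr⟩ := ex01 hR h hab
  exact ⟨g, hX hg, by rw [hgr, mul01, e1, e2]⟩

theorem step21 {X : Subgroup Γ} (hR : Model R {σ}) (h : Uni σ) (hs : R.ρ s = S0 F) (hX : Es R s ≤ X)
    {x0 x1 x2 x3 k m : F}
    (hc : x2 * σ x2 + x1 * σ x1 ≠ 0) (hkm : k * σ k + m * σ m = x2 * σ x2 + x1 * σ x1) :
    Rc R X (vec x0 x1 x2 x3) (vec x0 m k x3) := by
  obtain ⟨a, b, hab, e1, e2⟩ := t2a h hc hkm
  obtain ⟨g, hg, hgr⟩ := ex21 hR h hs hab
  exact ⟨g, hX hg, by rw [hgr, mul21, e1, e2]⟩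

/-- change `x₂` to `k ≠ 0` -/
theorem step21' {X : Subgroup Γ} (hR : Model R {σ}) (h : Uni σ) (hs : R.ρ s = S0 F) (hX : Es R s ≤ X)
    {x0 x1 x2 x3 k : F} (hx : x2 ≠ 0) (hk : k ≠ 0) :
    ∃ m, Rc R X (vec x0 x1 x2 x3) (vec x0 m k x3) ∧ k * σ k + m * σ m = x2 * σ x2 + x1 * σ x1 := by
  obtain ⟨a, b, m, hab, e1, e2, e3⟩ := t2 h (x := x2) (y := x1) (Or.inl hx) hk
  obtain ⟨g, hg, hgr⟩ := ex21 hR h hs hab
  exact ⟨m, ⟨g, hX hg, by rw [hgr, mul21, e1, e2]⟩, e3⟩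

theorem step01' {X : Subgroup Γ} (hR : Model R {σ}) (h : Uni σ) (hX : R.E1 ≤ X)
    {x0 x1 x2 x3 k : F} (hx : x0 ≠ 0 ∨ x1 ≠ 0) (hk : k ≠ 0) :
    ∃ m, Rc R X (vec x0 x1 x2 x3) (vec k m x2 x3) ∧ k * σ k + m * σ m = x0 * σ x0 + x1 * σ x1 := by
  obtain ⟨a, b, m, hab, e1, e2, e3⟩ := t2 h hx hk
  obtain ⟨g, hg, hgr⟩ := ex01 hR h hab
  exact ⟨m, ⟨g, hX hg, by rw [hgr, mul01, e1, e2]⟩, e3⟩

theorem norm_zero (h : Uni σ) {x : F} (hx : x * σ x = 0) : x = 0 := by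
  rcases mul_eq_zero.1 hx with h1 | h1
  · exact h1
  · rw [← h.inv x, h1, map_zero]

/-- an element of norm `-1 · c` -/
theorem exists_neg (h : Uni σ) {x : F} (hx : x ≠ 0) : ∃ k, k ≠ 0 ∧ k * σ k = -(x * σ x) := by
  obtain ⟨k, hk⟩ := h.norm (-(x * σ x)) (by rw [map_neg, map_mul, h.inv]; ring)
  refine ⟨k, ?_, hk⟩
  rintro rfl
  rw [zero_mul] at hk
  exact hx (norm_zero h (by linear_combination hk))

/-- three coordinates -/
theorem reach3 {X : Subgroup Γ} (hR : Model R {σ}) (h : Uni σ) (hs : R.ρ s = S0 F) (hX : R.E2 ≤ X)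
    (hX' : Es R s ≤ X) {x1 x2 x3 : F} (hn : x1 * σ x1 + x2 * σ x2 + x3 * σ x3 = 1) :
    Rc R X (vec 0 x1 x2 x3) (vec 0 1 0 0) := by
  -- the case `N(x₂) + N(x₃) ≠ 0`
  have key : ∀ x1 x2 x3 : F, x1 * σ x1 + x2 * σ x2 + x3 * σ x3 = 1 → x2 * σ x2 + x3 * σ x3 ≠ 0 →
      Rc R X (vec 0 x1 x2 x3) (vec 0 1 0 0) := by
    intro x1 x2 x3 hn hc
    obtain ⟨k, hk⟩ := h.norm (x2 * σ x2 + x3 * σ x3) (by rw [map_add, map_mul, map_mul, h.inv, h.inv]; ring)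
    refine (step23 hR h hX (k := k) (m := 0) hc (by rw [hk]; ring)).trans ?_
    refine step21 hR h hs hX' ?_ ?_
    · rw [hk]
      intro e
      have : (1 : F) = 0 := by rw [← hn, ← e]; ring
      exact one_ne_zero this
    · rw [hk, map_zero, map_one]
      linear_combination -hn
  by_cases hc : x2 * σ x2 + x3 * σ x3 = 0
  · by_cases hx : x2 = 0
    · subst hx
      have hx3 : x3 = 0 := norm_zero h (by linear_combination hc)
      subst hx3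
      refine step21 hR h hs hX' (k := 0) (m := 1) ?_ ?_
      · rw [zero_mul, zero_add]
        intro e
        simp [e] at hn
      · rw [map_one, map_zero]; linear_combination -hn
    · obtain ⟨k, hk, hkk⟩ := exists_neg h hx
      obtain ⟨m, hm, hm'⟩ := step21' hR h hs hX' (x0 := (0 : F)) (x1 := x1) (x2 := x2) (x3 := x3) hx hk
      refine hm.trans (key _ _ _ ?_ ?_)
      · linear_combination hn + hm'
      · intro e
        have e1 : (2 : F) * (x2 * σ x2) = 0 := by linear_combination hc - e + hkk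
        exact hx (norm_zero h ((mul_eq_zero.1 e1).resolve_left h.two))
  · exact key _ _ _ hn hc

/-- four coordinates -/
theorem reach4 {X : Subgroup Γ} (hR : Model R {σ}) (h : Uni σ) (hs : R.ρ s = S0 F) (hX0 : R.E1 ≤ X)
    (hX : R.E2 ≤ X) (hX' : Es R s ≤ X) {x0 x1 x2 x3 : F}
    (hn : x0 * σ x0 + x1 * σ x1 + x2 * σ x2 + x3 * σ x3 = 1) : Rc R X (vec x0 x1 x2 x3) (vec 1 0 0 0) := by
  -- two coordinates
  have key0 : ∀ x0 x1 : F, x0 * σ x0 + x1 * σ x1 = 1 → Rc R X (vec x0 x1 0 0) (vec 1 0 0 0) := by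
    intro x0 x1 hn
    refine step01 hR h hX0 ?_ ?_
    · rw [hn]; exact one_ne_zero
    · rw [hn]; simp
  -- `N(x₂) + N(x₃) ≠ 0`, `N(x₁) + N(x₂) + N(x₃) ≠ 0`
  have keyA : ∀ x0 x1 x2 x3 : F, x0 * σ x0 + x1 * σ x1 + x2 * σ x2 + x3 * σ x3 = 1 → x2 * σ x2 + x3 * σ x3 ≠ 0 →
      x1 * σ x1 + x2 * σ x2 + x3 * σ x3 ≠ 0 → Rc R X (vec x0 x1 x2 x3) (vec 1 0 0 0) := by
    intro x0 x1 x2 x3 hn hc hc'
    obtain ⟨k, hk⟩ := h.norm (x2 * σ x2 + x3 * σ x3) (by rw [map_add, map_mul, map_mul, h.inv, h.inv]; ring)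
    obtain ⟨m, hm⟩ := h.norm (x1 * σ x1 + x2 * σ x2 + x3 * σ x3) (by
      simp only [map_add, map_mul, h.inv]; ring)
    refine (step23 hR h hX (k := k) (m := 0) hc (by rw [hk]; ring)).trans ?_
    refine (step21 hR h hs hX' (k := 0) (m := m) ?_ ?_).trans (key0 _ _ ?_)
    · rw [hk]; intro e; apply hc'; rw [← e]; ring
    · rw [hk, hm]; ring
    · rw [hm, ← hn]; ring
  -- `N(x₂) + N(x₃) ≠ 0`
  have keyB : ∀ x0 x1 x2 x3 : F, x0 * σ x0 + x1 * σ x1 + x2 * σ x2 + x3 * σ x3 = 1 → x2 * σ x2 + x3 * σ x3 ≠ 0 →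
      Rc R X (vec x0 x1 x2 x3) (vec 1 0 0 0) := by
    intro x0 x1 x2 x3 hn hc
    by_cases hx : x0 ≠ 0 ∨ x1 ≠ 0
    · obtain ⟨k, hk⟩ := h.norm (-1) (by rw [map_neg, map_one])
      have hk0 : k ≠ 0 := by
        rintro rfl
        rw [zero_mul] at hk
        exact one_ne_zero (α := F) (by linear_combination hk)
      obtain ⟨m, hm, hm'⟩ := step01' hR h hX0 (x2 := x2) (x3 := x3) hx hk0
      refine hm.trans (keyA _ _ _ _ ?_ hc ?_)
      · linear_combination hn + hm'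
      · intro e
        apply h.two
        linear_combination -hm' - hn + e + hk
    · push Not at hx
      obtain ⟨rfl, rfl⟩ := hx
      refine keyA _ _ _ _ hn hc ?_
      intro e
      apply hc
      rw [← e]; simp
  by_cases hc : x2 * σ x2 + x3 * σ x3 = 0
  · by_cases hx : x2 = 0
    · subst hx
      have hx3 : x3 = 0 := norm_zero h (by linear_combination hc)
      subst hx3
      exact key0 _ _ (by linear_combination hn - hc)
    · obtain ⟨k, hk, hkk⟩ := exists_neg h hx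
      obtain ⟨m, hm, hm'⟩ := step21' hR h hs hX' (x0 := x0) (x1 := x1) (x2 := x2) (x3 := x3) hx hk
      refine hm.trans (keyB _ _ _ _ ?_ ?_)
      · linear_combination hn + hm'
      · intro e
        have e1 : (2 : F) * (x2 * σ x2) = 0 := by linear_combination hc - e + hkk
        exact hx (norm_zero h ((mul_eq_zero.1 e1).resolve_left h.two))
  · exact keyB _ _ _ _ hn hc

/-! ### Generation -/

theorem col_ip (hR : Model R {σ}) (g : Γ) (i j : Fin 2 ⊕ Fin 2) :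
    R.ρ g (Sum.inl 0) i * σ (R.ρ g (Sum.inl 0) j) + R.ρ g (Sum.inl 1) i * σ (R.ρ g (Sum.inl 1) j) +
      (R.ρ g (Sum.inr 0) i * σ (R.ρ g (Sum.inr 0) j) + R.ρ g (Sum.inr 1) i * σ (R.ρ g (Sum.inr 1) j)) =
      (1 : Matrix (Fin 2 ⊕ Fin 2) (Fin 2 ⊕ Fin 2) F) i j := by
  have h1 := congrFun (congrFun (((hR _).1 ⟨g, rfl⟩).2 σ rfl) i) j
  rw [Matrix.mul_apply, Fintype.sum_sum_type, Fin.sum_univ_two, Fin.sum_univ_two] at h1
  exact h1

theorem vec_single0 : vec (1 : F) 0 0 0 = Pi.single (Sum.inl 0) 1 := by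
  funext i
  rcases i with i | i <;> fin_cases i <;> simp [vec, Pi.single_apply]

theorem vec_single1 : vec (0 : F) 1 0 0 = Pi.single (Sum.inl 1) 1 := by
  funext i
  rcases i with i | i <;> fin_cases i <;> simp [vec, Pi.single_apply]

theorem mulVec_vec0 (M : Matrix (Fin 2 ⊕ Fin 2) (Fin 2 ⊕ Fin 2) F) (k : Fin 2 ⊕ Fin 2) :
    (M *ᵥ vec 1 0 0 0) k = M k (Sum.inl 0) := by
  rw [vec_single0, mulVec_single_one]; rfl

theorem mulVec_vec1 (M : Matrix (Fin 2 ⊕ Fin 2) (Fin 2 ⊕ Fin 2) F) (k : Fin 2 ⊕ Fin 2) :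
    (M *ᵥ vec 0 1 0 0) k = M k (Sum.inl 1) := by
  rw [vec_single1, mulVec_single_one]; rfl

/-- the stabiliser of a vector -/
def St (R : Rep Γ F (Fin 2)) (v : Fin 2 ⊕ Fin 2 → F) : Subgroup Γ where
  carrier := {g | R.ρ g *ᵥ v = v}
  one_mem' := by simp
  mul_mem' := by
    intro x y hx hy
    change R.ρ (x * y) *ᵥ v = v
    have hx' : R.ρ x *ᵥ v = v := hx
    have hy' : R.ρ y *ᵥ v = v := hy
    rw [map_mul, ← mulVec_mulVec, hy', hx']
  inv_mem' := by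
    intro x hx
    change R.ρ x⁻¹ *ᵥ v = v
    have hx' : R.ρ x *ᵥ v = v := hx
    nth_rewrite 1 [← hx']
    rw [mulVec_mulVec, R.ρ_inv_mul, one_mulVec]

theorem E2_le_St : R.E2 ≤ St R (vec 1 0 0 0) := by
  rintro x ⟨S, hS⟩
  change R.ρ x *ᵥ _ = _
  funext k
  rw [mulVec_vec0, hS]
  rcases k with k | k <;> fin_cases k <;> simp [vec]

theorem Es_le_St {s : Γ} (h2 : (2 : F) ≠ 0) (hs : R.ρ s = S0 F) : Es R s ≤ St R (vec 1 0 0 0) := by
  rintro x ⟨-, hx⟩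
  change R.ρ x *ᵥ _ = _
  have h1 : (R.ρ s + 1) *ᵥ vec 1 0 0 0 = (2 : F) • vec 1 0 0 0 := by
    funext k
    rw [mulVec_vec0, hs, S0]
    rcases k with k | k <;> fin_cases k <;> simp [vec, Matrix.add_apply]
    norm_num
  have h3 := congrArg (fun M => M *ᵥ vec 1 0 0 0) hx
  simp only [← mulVec_mulVec, h1, zero_mulVec, mulVec_smul, sub_mulVec, one_mulVec] at h3
  exact sub_eq_zero.1 ((smul_eq_zero.1 h3).resolve_left h2)

theorem gen_uni (hR : Model R {σ}) (h : Uni σ) : Gen R := by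
  intro s hs
  rw [eq_top_iff]
  intro g _
  have hX0 : R.E1 ≤ R.E1 ⊔ R.E2 ⊔ Es R s := le_sup_left.trans le_sup_left
  have hX1 : R.E2 ≤ R.E1 ⊔ R.E2 ⊔ Es R s := le_sup_right.trans le_sup_left
  have hX2 : Es R s ≤ R.E1 ⊔ R.E2 ⊔ Es R s := le_sup_right
  -- first vector
  obtain ⟨x, hx, hxe⟩ : Rc R (R.E1 ⊔ R.E2 ⊔ Es R s) (R.ρ g *ᵥ vec 1 0 0 0) (vec 1 0 0 0) := by
    rw [vec_eta (R.ρ g *ᵥ vec 1 0 0 0)]
    refine reach4 hR h hs hX0 hX1 hX2 ?_
    simp only [mulVec_vec0]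
    have := col_ip hR g (Sum.inl 0) (Sum.inl 0)
    rw [Matrix.one_apply_eq] at this
    linear_combination this
  have hg1 : R.ρ (x * g) *ᵥ vec 1 0 0 0 = vec 1 0 0 0 := by rw [map_mul, ← mulVec_mulVec, hxe]
  have hσ0 : ∀ y, σ y = 0 → y = 0 := fun y hy => by rw [← h.inv y, hy, map_zero]
  -- rows
  have hrow : ∀ g' : Γ, R.ρ g' *ᵥ vec 1 0 0 0 = vec 1 0 0 0 → ∀ j, j ≠ Sum.inl 0 → R.ρ g' (Sum.inl 0) j = 0 := by
    intro g' hg' j hj
    have hc : ∀ k, R.ρ g' k (Sum.inl 0) = vec 1 0 0 0 k := fun k =>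
      (mulVec_vec0 _ k).symm.trans (congrFun hg' k)
    have h1 := col_ip hR g' (Sum.inl 0) j
    rw [hc, hc, hc, hc, Matrix.one_apply_ne (Ne.symm hj)] at h1
    simp [vec] at h1
    exact h1
  have hrow1 : ∀ g' : Γ, R.ρ g' *ᵥ vec 0 1 0 0 = vec 0 1 0 0 → ∀ j, j ≠ Sum.inl 1 → R.ρ g' (Sum.inl 1) j = 0 := by
    intro g' hg' j hj
    have hc : ∀ k, R.ρ g' k (Sum.inl 1) = vec 0 1 0 0 k := fun k =>
      (mulVec_vec1 _ k).symm.trans (congrFun hg' k)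
    have h1 := col_ip hR g' (Sum.inl 1) j
    rw [hc, hc, hc, hc, Matrix.one_apply_ne (Ne.symm hj)] at h1
    simp [vec] at h1
    exact h1
  -- second vector
  have h0 : (R.ρ (x * g) *ᵥ vec 0 1 0 0) (Sum.inl 0) = 0 := by
    rw [mulVec_vec1]
    exact hrow _ hg1 _ (by simp)
  obtain ⟨y, hy, hye⟩ : Rc R (R.E2 ⊔ Es R s) (R.ρ (x * g) *ᵥ vec 0 1 0 0) (vec 0 1 0 0) := by
    rw [vec_eta (R.ρ (x * g) *ᵥ vec 0 1 0 0), h0]
    refine reach3 hR h hs le_sup_left le_sup_right ?_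
    have h1 := col_ip hR (x * g) (Sum.inl 1) (Sum.inl 1)
    rw [mulVec_vec1] at h0
    simp only [mulVec_vec1]
    rw [Matrix.one_apply_eq, h0] at h1
    simp only [zero_mul, zero_add] at h1
    linear_combination h1
  have hy0 : R.ρ y *ᵥ vec 1 0 0 0 = vec 1 0 0 0 := by
    have : R.E2 ⊔ Es R s ≤ St R (vec 1 0 0 0) := sup_le E2_le_St (Es_le_St h.two hs)
    exact this hy
  have hg2 : R.ρ (y * (x * g)) *ᵥ vec 1 0 0 0 = vec 1 0 0 0 := by rw [map_mul, ← mulVec_mulVec, hg1, hy0]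
  have hg3 : R.ρ (y * (x * g)) *ᵥ vec 0 1 0 0 = vec 0 1 0 0 := by rw [map_mul, ← mulVec_mulVec, hye]
  have hE : y * (x * g) ∈ R.E2 := by
    have c0 : ∀ k, R.ρ (y * (x * g)) k (Sum.inl 0) = vec 1 0 0 0 k := fun k =>
      (mulVec_vec0 _ k).symm.trans (congrFun hg2 k)
    have c1 : ∀ k, R.ρ (y * (x * g)) k (Sum.inl 1) = vec 0 1 0 0 k := fun k =>
      (mulVec_vec1 _ k).symm.trans (congrFun hg3 k)
    have r0 := hrow _ hg2
    have r1 := hrow1 _ hg3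
    refine ⟨(R.ρ (y * (x * g))).toBlocks₂₂, ?_⟩
    generalize R.ρ (y * (x * g)) = N at c0 c1 r0 r1 ⊢
    ext i j
    rcases i with i | i
    · fin_cases i
      · by_cases hj : j = Sum.inl 0
        · subst hj; simpa [vec] using c0 (Sum.inl 0)
        · have h1 := r0 j hj
          refine Eq.trans h1 ?_
          rcases j with j | j
          · fin_cases j
            · exact absurd rfl hj
            · simp
          · simp
      · by_cases hj : j = Sum.inl 1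
        · subst hj; simpa [vec] using c1 (Sum.inl 1)
        · have h1 := r1 j hj
          refine Eq.trans h1 ?_
          rcases j with j | j
          · fin_cases j
            · simp
            · exact absurd rfl hj
          · simp
    · rcases j with j | j
      · fin_cases j
        · have h1 := c0 (Sum.inr i)
          refine Eq.trans h1 ?_
          fin_cases i <;> simp [vec]
        · have h1 := c1 (Sum.inr i)
          refine Eq.trans h1 ?_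
          fin_cases i <;> simp [vec]
      · rfl
  have hyX : y ∈ R.E1 ⊔ R.E2 ⊔ Es R s := by
    have : R.E2 ⊔ Es R s ≤ R.E1 ⊔ R.E2 ⊔ Es R s := sup_le hX1 hX2
    exact this hy
  have e : g = x⁻¹ * (y⁻¹ * (y * (x * g))) := by group
  rw [e]
  exact mul_mem (inv_mem hx) (mul_mem (inv_mem hyX) (hX1 hE))

end Cfsg.Agent.Cit.SL4F
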