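import Cfsg.Agent.Cit.ThreeCoreSLH

/-!
# Cores for `|Om(S)| = 3`, `z₁ z₂ z₃ = 1`, type `SL₄^ε(q)`: the cores

`comm_XX` : `O(C(z_L))` commutes with the Sylow 2-subgroups of `L` and of the members adjacent to `L`; `coreE` : the
same for `Om(S)`.
-/

set_option autoImplicit false
set_option linter.style.haveILetI false

namespace Cfsg.Agent.Cit.ThreeCore

open Subgroup Cfsg Cfsg.Agent.Cit Cfsg.Agent.Cit.Comp Cfsg.Agent.Cit.OneComp Cfsg.Agent.Cit.AutAct
  Cfsg.Agent.Cit.TorFunctor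
open Cfsg.Agent.SignalizersComponents.Components

variable {G : Type*} [Group G] [Finite G] {Om : Set (Subgroup G)} {K1 K2 J : Subgroup G}

/-- a 2-element acting on a subgroup of odd order as one of its elements centralises it -/
theorem comm_of_inner {X : Subgroup G} (hX : ¬ 2 ∣ Nat.card X) {x u : G} {k : ℕ} (hx : x ^ 2 ^ k = 1) (hu : u ∈ X)
    (h : ∀ w ∈ X, x * w * x⁻¹ = u * w * u⁻¹) {w : G} (hw : w ∈ X) : x * w = w * x := by
  have key : ∀ n : ℕ, ∀ w ∈ X, x ^ n * w * (x ^ n)⁻¹ = u ^ n * w * (u ^ n)⁻¹ := by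
    intro n
    induction n with
    | zero => intro w _; simp
    | succ n ih =>
      intro w hw
      have h1 : u * w * u⁻¹ ∈ X := X.mul_mem (X.mul_mem hu hw) (X.inv_mem hu)
      calc x ^ (n + 1) * w * (x ^ (n + 1))⁻¹ = x ^ n * (x * w * x⁻¹) * (x ^ n)⁻¹ := by rw [pow_succ]; group
        _ = x ^ n * (u * w * u⁻¹) * (x ^ n)⁻¹ := by rw [h w hw]
        _ = u ^ n * (u * w * u⁻¹) * (u ^ n)⁻¹ := ih _ h1
        _ = u ^ (n + 1) * w * (u ^ (n + 1))⁻¹ := by rw [pow_succ]; group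
  have hodd : (2 ^ k).Coprime (orderOf u) := by
    apply Nat.Coprime.pow_left
    rw [Nat.coprime_two_left]
    have h1 := orderOf_dvd_natCard (⟨u, hu⟩ : X)
    rw [Subgroup.orderOf_mk] at h1
    rw [Nat.odd_iff]
    by_contra h4
    exact hX (Dvd.dvd.trans (Nat.dvd_of_mod_eq_zero (by omega)) h1)
  obtain ⟨m, hm⟩ := exists_pow_eq_self_of_coprime hodd
  have h2 : Commute (u ^ 2 ^ k) w := by
    have h3 := key (2 ^ k) w hw
    rw [hx, one_mul, inv_one, mul_one] at h3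
    exact (mul_inv_eq_iff_eq_mul.1 h3.symm)
  have h3 : Commute u w := by
    have := h2.pow_left m
    rwa [hm] at this
  have h4 := h w hw
  rw [h3.eq, mul_inv_cancel_right] at h4
  exact mul_inv_eq_iff_eq_mul.1 h4

theorem Conf.comm_XX_A (g : AllSL Om) (k : Conf Om K1 K2 J) (hD : DF (k.A g.tri) = ⊥) {a : G} (ha : a ∈ k.A g.tri)
    (h1 : a ≠ 1) {x c : G} (hx : x ∈ XX a) (hc : c ∈ k.A g.tri) : x * c = c * x := by
  have h2 := (k.isTor g).commutator_XX_le ha h1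
  rw [hD, le_bot_iff, commutator_eq_bot_iff_le_centralizer] at h2
  exact (mem_centralizer_iff.1 (h2 hx) c hc).symm

theorem Conf.comm_adj (g : AllSL Om) (k : Conf Om K1 K2 J) (hD : DF (k.A g.tri) = ⊥) {Q : Subgroup G}
    (hQ : Syl Q K2) (hQc : Q ≤ centralizer {zz K1}) {x w : G} (hx : x ∈ Q) (hw : w ∈ XX (zz K1)) :
    x * w = w * x := by
  have t := g.tri
  obtain ⟨p, D, M, loc⟩ := g.loc K1 k.a2.left
  obtain ⟨L, hL, hLz, hLQ, -⟩ := loc.mem K2 k.a2 (by rintro rfl; exact k.n2 rfl)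
  have hz2 : zz K2 ∈ centralizer ({zz K1} : Set G) := mem_centralizer_singleton_iff.2 (adj_comm_zz t.hyp k.a2)
  have hz2N : zz K2 ∈ centralizer (XX (zz K1) : Set G) := mem_centralizer_iff.2 fun y hy =>
    k.comm_XX_A g hD (k.z1_mem g.tri) (t.hyp.zz_ne k.a2.left) hy (k.z2_mem g.tri)
  have hn : ((centralizer (XX (zz K1) : Set G)).subgroupOf (centralizer {zz K1})).Normal := by
    apply normal_subgroupOf_of_le_normalizer
    intro c hc
    rw [mem_normalizer_iff_cj, CoreTools.cj_centralizer_set,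
      mem_normalizer_iff_cj.1 (centralizer_le_normalizer_XX _ hc)]
  have hm := hn.map (pr K1) (pr_surjective K1)
  have hle : D ≤ ((centralizer (XX (zz K1) : Set G)).subgroupOf (centralizer {zz K1})).map (pr K1) := by
    rcases component_le_or_commutator_eq_bot loc.piece.comp hm.isSubnormal with h | h
    · exact h
    · exfalso
      apply loc.piece.znc L hL
      rw [hLz, qt_eq hz2]
      rw [commutator_comm, commutator_eq_bot_iff_le_centralizer] at h
      exact h ⟨_, hz2N, rfl⟩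
  have hxc := hQc hx
  obtain ⟨⟨y, hy1⟩, hy2, hyx⟩ := hle (loc.piece.le L hL (hLQ Q hQ hQc x hx))
  have hy2' : y ∈ centralizer (XX (zz K1) : Set G) := hy2
  have hu : y⁻¹ * x ∈ XX (zz K1) := by
    rw [← qt_eq_one (mul_mem (inv_mem hy1) hxc), qt_mul (inv_mem hy1) hxc, qt_eq (inv_mem hy1), ← hyx]
    have h3 : pr K1 ⟨y⁻¹, inv_mem hy1⟩ = (pr K1 ⟨y, hy1⟩)⁻¹ := by rw [← map_inv]; rfl
    rw [h3, inv_mul_cancel]
  obtain ⟨n, hn'⟩ := hQ.2.1 ⟨x, hx⟩
  refine comm_of_inner (odd_XX _) (k := n) (congrArg Subtype.val hn') hu ?_ hw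
  intro w hw
  have h4 : (y⁻¹ * x) * w * (y⁻¹ * x)⁻¹ ∈ XX (zz K1) := mul_mem (mul_mem hu hw) (inv_mem hu)
  have h5 := mem_centralizer_iff.1 hy2' _ h4
  calc x * w * x⁻¹ = (y * ((y⁻¹ * x) * w * (y⁻¹ * x)⁻¹)) * y⁻¹ := by group
    _ = (y⁻¹ * x) * w * (y⁻¹ * x)⁻¹ := by rw [← h5, mul_inv_cancel_right]

theorem qt_mem_XX {K : Subgroup G} {a y : G} (ha : a ∈ centralizer ({zz K} : Set G)) (haa : a * a = 1)
    (hy : y ∈ XX a) (hyK : y ∈ centralizer ({zz K} : Set G)) : qt K y ∈ XX (qt K a) := by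
  rw [qt_eq ha, qt_eq hyK]
  exact CoreTools.map_mem_XX (pr_surjective K) (CoreTools.odd_ker (ker_pr K)) (a := ⟨a, ha⟩) (x := ⟨y, hyK⟩)
    (Subtype.ext haa) hy

theorem commutator_le_XX_of_qt {K Q R : Subgroup G} (hQ : Q ≤ centralizer {zz K}) (hR : R ≤ centralizer {zz K})
    (h : ∀ y ∈ R, ∀ x ∈ Q, qt K x * qt K y = qt K y * qt K x) : ⁅R, Q⁆ ≤ XX (zz K) := by
  rw [commutator_le]
  intro y hy x hx
  have hy1 := hR hy
  have hx1 := hQ hx
  have hinv : ∀ z : G, z ∈ centralizer ({zz K} : Set G) → qt K z⁻¹ = (qt K z)⁻¹ := by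
    intro z hz
    rw [qt_eq hz, qt_eq (inv_mem hz), ← map_inv]; rfl
  rw [commutatorElement_def, ← qt_eq_one (mul_mem (mul_mem (mul_mem hy1 hx1) (inv_mem hy1)) (inv_mem hx1)),
    qt_mul (mul_mem (mul_mem hy1 hx1) (inv_mem hy1)) (inv_mem hx1), qt_mul (mul_mem hy1 hx1) (inv_mem hy1),
    qt_mul hy1 hx1, hinv _ hy1, hinv _ hx1, ← h y hy x hx]
  group

theorem Conf.comm_self (g : AllSL Om) (k : Conf Om K1 K2 J) (hD : DF (k.A g.tri) = ⊥) {Q : Subgroup G}
    (hQ : Syl Q K1) {x w : G} (hx : x ∈ Q) (hw : w ∈ XX (zz K1)) : x * w = w * x := by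
  have t := g.tri
  have h1ne := t.hyp.zz_ne k.a2.left
  have hK1 := k.a2.left
  have hz1 := k.z1_mem g.tri
  have hA1 : k.A g.tri ≤ centralizer {zz K1} := k.le_centralizer g.tri hz1
  -- an `A`-invariant Sylow 2-subgroup of `K₁`
  obtain ⟨Q0, hQ0, hAQ⟩ := OneBasic.exists_syl_normalized (k.isTor g).isPGroup (L := K1) (fun a ha =>
    t.mem_normalizer hK1 (mem_centralizer_singleton_iff.1 (hA1 ha)))
  have htriv : ∀ a ∈ k.A g.tri, Triv a K1 := by
    intro a ha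
    by_cases h1 : a = 1
    · rw [h1]; intro y hy; simp only [one_mul, inv_one, mul_one, mul_inv_cancel]; exact one_mem _
    · obtain ⟨N, hN, rfl⟩ := k.exists_zz t g.ty ha h1
      exact triv_of_adj t g.ty hN
  have hcomm : ∀ q ∈ Q0, ∀ a ∈ k.A g.tri, q * a = a * q := fun q hq a ha =>
    (triv_comm (htriv a ha) hQ0.1 hQ0.2.1 (hAQ ha) hq).symm
  have hQc : ∀ b ∈ k.A g.tri, Q0 ≤ centralizer {b} := fun b hb q hq =>
    mem_centralizer_singleton_iff.2 (hcomm q hq b hb)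
  have hmain : ⁅XX (zz K1), Q0⁆ ≤ DF (k.A g.tri) := by
    refine (k.isTor g).commutator_Q_le hQ0.2.1 hcomm ?_ hz1 h1ne
    intro a ha ha1 b hb hb1
    obtain ⟨N, hN, rfl⟩ := k.exists_zz t g.ty hb hb1
    obtain ⟨p, D, M, loc⟩ := g.loc N hN.right
    haveI : Fact p.Prime := ⟨loc.prime⟩
    have hAN := k.le_centralizer g.tri hb
    refine commutator_le_XX_of_qt (hQc _ hb) inf_le_right ?_
    rintro y ⟨hya, hyN⟩ q hq
    have hy' := qt_mem_XX (hAN ha) (k.sq_A g.tri g.ty ha) hya hyN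
    have haa : qt N a * qt N a = 1 := by
      rw [← qt_mul (hAN ha) (hAN ha), k.sq_A g.tri g.ty ha, qt_one]
    by_cases hne : zz N = zz K1
    · have := t.inj hN.right hN.left hne
      subst this
      exact loc.tame Q0 hQ0 _ (k.inner_mem_D g.tri g.ty loc ha) haa _ hy' q hq
    · have hKN : K1 ≠ N := by rintro rfl; exact hne rfl
      obtain ⟨L1, hL1, hL1z, hL1Q, -⟩ := loc.mem K1 hN.symm hKN
      obtain ⟨L, L', hp, hLz, hLz', hrf⟩ := k.rf g.tri g.ty hN hb hne loc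
      have hLL : L1 = L := loc.piece.det L1 hL1 L hp.left (hL1z.trans hLz.symm)
      have hqL : qt N q ∈ L := hLL ▸ hL1Q Q0 hQ0 (hQc _ hb) q hq
      have hyL : qt N y ∈ centralizer (L : Set (HQ N)) := by
        by_cases e1 : a = zz N
        · -- `a = z_N`
          have h5 : y ∈ XX (zz N) := e1 ▸ hya
          rw [(qt_eq_one hyN).2 h5]; exact one_mem _
        by_cases e2 : a = zz K1
        · rw [e2, ← hLz] at hy'
          exact (loc.piece.comm_pair loc.core loc.ev hp hy').1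
        by_cases e3 : a = zz K1 * zz N
        · rw [e3, qt_mul (hAN hz1) (hAN hb), XX_mul_central loc.piece.bc, ← hLz] at hy'
          exact (loc.piece.comm_pair loc.core loc.ev hp hy').1
        · have r := hrf a ha ha1 e1 e2 e3
          exact loc.piece.comm_member loc.core loc.ev haa r.nor hp.left r.cL hy'
      exact mem_centralizer_iff.1 hyL _ hqL
  rw [hD, le_bot_iff, commutator_eq_bot_iff_le_centralizer] at hmain
  -- an arbitrary Sylow 2-subgroup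
  obtain ⟨c, hc, rfl⟩ := hQ0.exists_conj hQ
  have hcz := t.hyp.le_centralizer hK1 hc
  have hcN := centralizer_le_normalizer_XX _ hcz
  rw [mem_cj] at hx
  have hw' : c⁻¹ * w * c ∈ XX (zz K1) := by
    have := (mem_normalizer_iff.1 (inv_mem hcN) w).1 hw
    rwa [inv_inv] at this
  have h6 : (c⁻¹ * x * c) * (c⁻¹ * w * c) = (c⁻¹ * w * c) * (c⁻¹ * x * c) :=
    mem_centralizer_iff.1 (hmain hw') _ hx
  calc x * w = c * ((c⁻¹ * x * c) * (c⁻¹ * w * c)) * c⁻¹ := by group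
    _ = c * ((c⁻¹ * w * c) * (c⁻¹ * x * c)) * c⁻¹ := by rw [h6]
    _ = w * x := by group

/-- **`O(C(z_K))` commutes with the Sylow 2-subgroups of `K` and of the members adjacent to `K`** -/
theorem comm_XX (g : AllSL Om) (hcon : ∀ K ∈ Om, ∀ L ∈ Om, Relation.ReflTransGen (Adj Om) K L)
    (hO : ∀ N : Subgroup G, N.Normal → ¬ 2 ∣ Nat.card N → N = ⊥) {K L Q : Subgroup G} (ha : Adj Om K L)
    (hQ : Syl Q L) (hQK : Q ≤ centralizer {zz K}) {x w : G} (hx : x ∈ Q) (hw : w ∈ XX (zz K)) : x * w = w * x := by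
  by_cases hne : L = K
  · subst hne
    -- another member
    obtain ⟨S, h1, -⟩ := ha
    obtain ⟨L2, L3, hE, e1, e2, e3⟩ := g.tri.exists_three S h1
    have hL2 : L2 ∈ OmS Om (S : Subgroup G) := by rw [hE]; simp
    obtain ⟨J, k⟩ := exists_conf g (K1 := L) (K2 := L2) ⟨S, h1, hL2⟩ (Ne.symm e1)
    exact k.comm_self g (k.DF_eq_bot g hcon hO) hQ hx hw
  · obtain ⟨J, k⟩ := exists_conf g ha hne
    exact k.comm_adj g (k.DF_eq_bot g hcon hO) hQ hQK hx hw

/-- **the cores** -/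
theorem coreE (g : AllSL Om) (hcon : ∀ K ∈ Om, ∀ L ∈ Om, Relation.ReflTransGen (Adj Om) K L)
    (hO : ∀ N : Subgroup G, N.Normal → ¬ 2 ∣ Nat.card N → N = ⊥) (S : Sylow 2 G) {K : Subgroup G}
    (hK : K ∈ OmS Om (S : Subgroup G)) {s : G} (hs : s ∈ ES Om (S : Subgroup G)) (hs1 : s ≠ 1) :
    ⁅XX s, K ⊓ (S : Subgroup G)⁆ = ⊥ := by
  -- `s = z_L`
  obtain ⟨L, hL, rfl⟩ : ∃ L ∈ OmS Om (S : Subgroup G), zz L = s := by
    obtain ⟨L2, L3, hE, e1, e2, e3⟩ := g.tri.exists_three S hK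
    have hL2 : L2 ∈ OmS Om (S : Subgroup G) := by rw [hE]; simp
    have hL3 : L3 ∈ OmS Om (S : Subgroup G) := by rw [hE]; simp
    obtain ⟨J, k⟩ := exists_conf g (K1 := K) (K2 := L2) ⟨S, hK, hL2⟩ (Ne.symm e1)
    rw [k.ES_le_E g.tri hK hL2] at hs
    rcases hs with h | h | h | h
    · exact absurd h hs1
    · exact ⟨K, hK, h.symm⟩
    · exact ⟨L2, hL2, h.symm⟩
    · exact ⟨L3, hL3, by rw [← g.tri.mul_eq S hE e1]; exact h.symm⟩
  rw [commutator_eq_bot_iff_le_centralizer]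
  intro w hw
  rw [mem_centralizer_iff]
  intro x hx
  have hsyl := syl_inf S.isPGroup' hK
  refine comm_XX g hcon hO (K := L) (L := K) ⟨S, hL, hK⟩ hsyl ?_ hx hw
  intro y hy
  rw [mem_centralizer_singleton_iff]
  by_cases hKL : K = L
  · subst hKL
    exact mem_centralizer_singleton_iff.1 (g.tri.hyp.le_centralizer hK.1 hy.1)
  · exact g.tri.hyp.comm S.isPGroup' hK hL hKL hy (g.tri.hyp.zz_mem_inf S.isPGroup' hL)

end Cfsg.Agent.Cit.ThreeCore
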