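import Cfsg.Agent.Cit.TriLoc
import Cfsg.Agent.Cit.SL4FLift
import Cfsg.Agent.Cit.ThreeCoreSLI

/-!
# `|Om(S)| = 3`, `z₁ z₂ z₃ = 1`, type `SL₄^ε(q)`: the local data and the cores

`pre` : the fields `SL4L.Pre` for `D = PP Om K L` and its members; `locSL` : `ThreeCore.LocSL`; `allSL`, `coreE` : the
cores, from a chart of `D` and an epimorphism from `D` onto `PSL₄(F)` or `PSU₄(q)` with kernel `Z(D)` such that the
images of the members are the standard subgroups.
-/

set_option autoImplicit false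
set_option linter.style.haveILetI false
set_option linter.unusedSectionVars false

namespace Cfsg.Agent.Cit.SL4Loc

open Subgroup Cfsg Cfsg.Agent.Cit Cfsg.Agent.Cit.UseT Cfsg.Agent.Cit.SubCent Cfsg.Agent.Cit.CoreThree
open Cfsg.Agent.Cit.Branches Cfsg.Agent.Cit.CoresG Cfsg.Agent.Cit.TriLoc
open Cfsg.Agent.Cit.SL4F Cfsg.Agent.Cit.SL4L Cfsg.Agent.Cit.LongQuot Cfsg.Agent.Cit.LongBlock Cfsg.Agent.Cit.LongAbs

/-! ### Generation by `p`-elements -/

section PGen

variable {H P : Type*} [Group H] [Group P] {p : ℕ}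

theorem pgen_im {D : Subgroup H} {f : ↥D →* P} {L : Subgroup H} (hL : L ≤ D) (h : ThreeCore.PGen p L) :
    ThreeCore.PGen p (im f L) := by
  intro X hX
  have h1 : L ≤ (X.comap f).map D.subtype := by
    refine h _ fun v hv hvp => ?_
    refine ⟨⟨v, hL hv⟩, ?_, rfl⟩
    refine hX _ ⟨⟨v, hL hv⟩, hv, rfl⟩ ?_
    obtain ⟨k, hk⟩ := Pel.exists_pow (p := p) hvp
    refine pel_of_pow (k := k) ?_
    rw [← map_pow, ← map_one f]
    congr 1
    exact Subtype.ext hk
  rintro _ ⟨x, hx, rfl⟩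
  obtain ⟨y, hy, hyx⟩ := h1 hx
  have : y = x := Subtype.ext hyx
  rw [← this]
  exact hy

end PGen

section

universe u

variable {G : Type u} [Group G] [Finite G] {Om : Set (Subgroup G)} {K L : Subgroup G} {p : ℕ}

/-- the general fields -/
theorem pre (l : Loc3 Om K L) (c : Nodes.Chart.Chart (fam Om (centralizer {zz K})) p (PP Om K L)) :
    SL4L.Pre p (ThreeCore.qt K (zz K)) (PP Om K L) (MM Om K L) where
  prime := c.prime
  ptwo := c.odd
  qs := l.qs
  two := fun _ hx hc => l.two_elt hx hc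
  le := fun _ hA => hA.2
  pgen := fun _ hA => l.pgen c hA
  zmem := fun _ hA => l.hf.zz_mem hA.1
  zcomm := fun _ hA => l.hf.le_centralizer hA.1
  zsq := fun _ hA => l.hf.zz_mul hA.1
  znc := fun _ hA => l.znc hA
  det := fun _ hA _ hB h => l.det hA.1 hB.1 h
  conj := fun _ hA g => l.conj_MM hA g
  zcj := fun _ hA g => l.hf.zz_cj hA.1 g
  exists_pr := fun _ hA => l.exists_pr hA

variable {P : Type*} [Group P] {𝓟 : Set (Subgroup P)}

/-- the facts about `D` -/
theorem piece (l : Loc3 Om K L) (hfix : FixStmt.{u})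
    (c : Nodes.Chart.Chart (fam Om (centralizer {zz K})) p (PP Om K L)) {f : ↥(PP Om K L) →* P} (F : PF p P 𝓟)
    (hR : PRefl 𝓟) (s : Std (MM Om K L) 𝓟 f) :
    ThreeCore.SLPiece p (ThreeCore.qt K (zz K)) (PP Om K L) (MM Om K L) where
  comp := l.isComponent
  fix := l.fix hfix c
  bD := by
    have h1 : tr (centralizer {zz K}) L ∈ MM Om K L := l.mem_MM.2 ⟨L, l.adj, l.ne, rfl⟩
    obtain ⟨B, hB⟩ := l.exists_pr h1
    rw [← hB.mul]
    exact (PP Om K L).mul_mem (h1.2 (l.hf.zz_mem h1.1)) (hB.right.2 (l.hf.zz_mem hB.right.1))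
  bb := by
    have h1 := zz_mem_of_cov l.hyp l.cov_self
    rw [← ThreeCore.qt_mul h1 h1, l.hyp.zz_mul l.hK, ThreeCore.qt_one]
  bc := l.self_central
  le := (pre l c).le
  pgen := (pre l c).pgen
  zmem := (pre l c).zmem
  zcomm := (pre l c).zcomm
  zsq := (pre l c).zsq
  zne := fun _ hA => l.hf.zz_ne hA.1
  znc := (pre l c).znc
  det := (pre l c).det
  conj := (pre l c).conj
  zcj := (pre l c).zcj
  exists_pr := (pre l c).exists_pr
  gen := fun _ _ _ hp hT => (pre l c).gen F s hp hT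
  cent := fun _ _ _ hp hT _ hx h1 h2 => (pre l c).cent F s hp hT hx h1 h2
  inv := fun _ _ hp _ hx h1 h2 hxx => (pre l c).inv F s hp hx h1 h2 hxx
  two := (pre l c).two
  refl := fun _ _ hp _ hcc hc h1 h2 h3 => (pre l c).refl F hR s hp hcc hc h1 h2 h3

/-- **the local data** -/
theorem locSL (l : Loc3 Om K L) (hodd : OddStmt.{u}) (hfix : FixStmt.{u}) (hct : CTStmt.{u})
    (c : Nodes.Chart.Chart (fam Om (centralizer {zz K})) p (PP Om K L)) {f : ↥(PP Om K L) →* P} (F : PF p P 𝓟)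
    (hR : PRefl 𝓟) (s : Std (MM Om K L) 𝓟 f) : ThreeCore.LocSL Om K p (PP Om K L) (MM Om K L) where
  prime := c.prime
  core := core_HQ _
  ev := hodd.evQ _
  piece := piece l hfix c F hR s
  nor := l.mem_normalizer
  third := fun _ _ hp => (pre l c).third F s hp
  mem := fun _ hJ hne => l.mem_loc hJ hne
  surj := fun _ hA => l.surj hA
  own := fun _ hQ _ hx => l.own hQ hx
  tame := fun _ hQ _ ha haa _ hy _ hx => l.tame hct hQ ha haa hy hx

/-- **the local data from a model** -/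
theorem exists_locSL (l : Loc3 Om K L) (hodd : OddStmt.{u}) (hfix : FixStmt.{u}) (hct : CTStmt.{u})
    (c : Nodes.Chart.Chart (fam Om (centralizer {zz K})) p (PP Om K L)) {Γ : Type*} [Group Γ] {F : Type*} [Field F]
    {R : Rep Γ F (Fin 2)} (hPF : ∀ p, ThreeCore.PGen p (D1 R) → PF p (Γ ⧸ center Γ) (Mem R)) (hR : PRefl (Mem R))
    {φ : ↥(PP Om K L) →* Γ ⧸ center Γ} (hs : Function.Surjective φ) (hk : φ.ker = center ↥(PP Om K L))
    (hM : ∀ J ∈ fam Om (centralizer {zz K}), J ≤ PP Om K L → ∃ g, cj g ((J.subgroupOf (PP Om K L)).map φ) = D1 R) :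
    ThreeCore.LocSL Om K p (PP Om K L) (MM Om K L) := by
  have s : Std (MM Om K L) (Mem R) φ := by
    refine ⟨hs, hk, ?_⟩
    intro A hA
    obtain ⟨g, hg⟩ := hM A hA.1 hA.2
    refine ⟨g⁻¹, ?_⟩
    rw [← hg, cj_inv_cj]
    rfl
  have h1 : tr (centralizer {zz K}) L ∈ MM Om K L := l.mem_MM.2 ⟨L, l.adj, l.ne, rfl⟩
  obtain ⟨g, hg⟩ := hM _ h1.1 h1.2
  have h2 : ThreeCore.PGen p (D1 R) := by
    obtain ⟨d, rfl⟩ := hs g
    have h3 := l.conj_MM h1 (d : HQ (centralizer {zz K}))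
    have h4 := pgen_im (f := φ) h3.2 (l.pgen c h3)
    rw [im_cj] at h4
    have h5 : cj (φ d) (im φ (tr (centralizer {zz K}) L)) = D1 R := hg
    rwa [h5] at h4
  exact locSL l hodd hfix hct c (hPF p h2) hR s

end

end Cfsg.Agent.Cit.SL4Loc
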