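import Cfsg.Agent.Cit.SL4Fb

/-!
# (F7) for `PSL₄(F)`, `PSU₄(q)`: general part

`AutForm R T` : an automorphism of `Γ / Z(Γ)` trivial on `D₁` is `g ↦ A g A⁻¹` or `g ↦ A g⁻ᵀ A⁻¹`.
`prefl_of` : `AutForm R T` and `RDiag T` imply `PRefl (Mem R)`.
-/

set_option autoImplicit false
set_option linter.unusedSimpArgs false
set_option linter.unusedVariables false

namespace Cfsg.Agent.Cit.SL4R

open Subgroup Cfsg Matrix Cfsg.Agent.Cit Cfsg.Agent.Cit.LongAbs Cfsg.Agent.Cit.LongBlock Cfsg.Agent.Cit.LongQuot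
  Cfsg.Agent.Cit.LongMain Cfsg.Agent.Cit.LongModel Cfsg.Agent.Cit.SL4F

/-! ### matrices -/

section Mats

variable {F : Type*} [Field F]

theorem W0_transpose : (W0 F)ᵀ = fromBlocks !![0, 0; 0, 1] !![1, 0; 0, 0] !![-1, 0; 0, 0] !![0, 0; 0, 1] := by
  rw [W0, fromBlocks_transpose]
  congr 1 <;> ext i j <;> fin_cases i <;> fin_cases j <;> rfl

theorem W0_mul_transpose : W0 F * (W0 F)ᵀ = 1 := by
  rw [W0_transpose, W0, fromBlocks_multiply, ← fromBlocks_one]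
  congr 1 <;> ext i j <;> fin_cases i <;> fin_cases j <;> simp [Matrix.mul_apply, Fin.sum_univ_two]

theorem transpose_mul_W0 : (W0 F)ᵀ * W0 F = 1 := mul_eq_one_comm.1 W0_mul_transpose

/-- `W₀ (P, 1) W₀⁻¹` commutes with `diag(1,1,1,-1)` -/
theorem W0_refl (P : Matrix (Fin 2) (Fin 2) F) :
    fromBlocks 1 0 0 !![1, 0; 0, -1] * (W0 F * fromBlocks P 0 0 1 * (W0 F)ᵀ) =
      (W0 F * fromBlocks P 0 0 1 * (W0 F)ᵀ) * fromBlocks 1 0 0 !![1, 0; 0, -1] := by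
  rw [W0_transpose, W0, eta_fin_two P, fromBlocks_multiply, fromBlocks_multiply, fromBlocks_multiply,
    fromBlocks_multiply]
  congr 1 <;> ext i j <;> fin_cases i <;> fin_cases j <;> simp [Matrix.mul_apply, Fin.sum_univ_two]

/-- commuting with `W₀` -/
theorem comm_W0 {Q : Matrix (Fin 2) (Fin 2) F} (h : fromBlocks 1 0 0 Q * W0 F = W0 F * fromBlocks 1 0 0 Q) :
    Q 0 0 = 1 ∧ Q 0 1 = 0 ∧ Q 1 0 = 0 := by
  rw [W0, fromBlocks_multiply, fromBlocks_multiply, fromBlocks_inj] at h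
  simp only [Matrix.one_mul, Matrix.mul_one, Matrix.zero_mul, Matrix.mul_zero, add_zero, zero_add] at h
  obtain ⟨-, h1, h2, -⟩ := h
  have e1 := congrFun (congrFun h1 0) 0
  have e2 := congrFun (congrFun h1 0) 1
  have e3 := congrFun (congrFun h2 1) 0
  simp [Matrix.mul_apply, Fin.sum_univ_two] at e1 e2 e3
  exact ⟨e1.symm, e2, e3⟩

theorem U1_neg_U1 : U1 F * (-U1 F) = 1 := by rw [Matrix.mul_neg, U1_sq, neg_neg]
theorem neg_U1_U1 : (-U1 F) * U1 F = 1 := by rw [Matrix.neg_mul, U1_sq, neg_neg]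

/-- commuting with `W₀` and its conjugate -/
theorem eq_one_of_comm {Q : Matrix (Fin 2) (Fin 2) F} (h : fromBlocks 1 0 0 Q * W0 F = W0 F * fromBlocks 1 0 0 Q)
    (h' : fromBlocks 1 0 0 Q * (fromBlocks 1 0 0 (U1 F) * W0 F * fromBlocks 1 0 0 (-U1 F)) =
      (fromBlocks 1 0 0 (U1 F) * W0 F * fromBlocks 1 0 0 (-U1 F)) * fromBlocks 1 0 0 Q) : Q = 1 := by
  have h1 := comm_W0 h
  have e1 : fromBlocks 1 0 0 (U1 F) * fromBlocks 1 0 0 (-U1 F) = (1 : Matrix (Fin 2 ⊕ Fin 2) (Fin 2 ⊕ Fin 2) F) := by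
    rw [fromBlocks_multiply, U1_neg_U1, ← fromBlocks_one]
    simp
  have e2 : fromBlocks 1 0 0 (-U1 F) * fromBlocks 1 0 0 (U1 F) = (1 : Matrix (Fin 2 ⊕ Fin 2) (Fin 2 ⊕ Fin 2) F) :=
    mul_eq_one_comm.1 e1
  have h2 : fromBlocks 1 0 0 (-U1 F * Q * U1 F) * W0 F = W0 F * fromBlocks 1 0 0 (-U1 F * Q * U1 F) := by
    have e3 : fromBlocks 1 0 0 (-U1 F * Q * U1 F) =
        fromBlocks 1 0 0 (-U1 F) * fromBlocks 1 0 0 Q * (fromBlocks 1 0 0 (U1 F) : Matrix (Fin 2 ⊕ Fin 2) (Fin 2 ⊕ Fin 2) F) := by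
      rw [fromBlocks_multiply, fromBlocks_multiply]; simp
    rw [e3]
    calc fromBlocks 1 0 0 (-U1 F) * fromBlocks 1 0 0 Q * fromBlocks 1 0 0 (U1 F) * W0 F
        = fromBlocks 1 0 0 (-U1 F) * (fromBlocks 1 0 0 Q * (fromBlocks 1 0 0 (U1 F) * W0 F * (fromBlocks 1 0 0 (-U1 F) *
            fromBlocks 1 0 0 (U1 F)))) := by rw [e2, Matrix.mul_one]; simp only [Matrix.mul_assoc]
      _ = fromBlocks 1 0 0 (-U1 F) * (fromBlocks 1 0 0 Q * (fromBlocks 1 0 0 (U1 F) * W0 F * fromBlocks 1 0 0 (-U1 F)) *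
            fromBlocks 1 0 0 (U1 F)) := by simp only [Matrix.mul_assoc]
      _ = (fromBlocks 1 0 0 (-U1 F) * fromBlocks 1 0 0 (U1 F)) * W0 F * fromBlocks 1 0 0 (-U1 F) * fromBlocks 1 0 0 Q *
            fromBlocks 1 0 0 (U1 F) := by rw [h']; simp only [Matrix.mul_assoc]
      _ = _ := by rw [e2, Matrix.one_mul]; simp only [Matrix.mul_assoc]
  have h3 := (comm_W0 h2).1
  have h4 : Q 1 1 = 1 := by
    rw [← h3]
    rw [Matrix.mul_apply, Fin.sum_univ_two, Matrix.mul_apply, Matrix.mul_apply, Fin.sum_univ_two, Fin.sum_univ_two]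
    simp [U1]
  ext i j
  fin_cases i <;> fin_cases j <;> simp [h1, h4]

/-- `U₁ S⁻ᵀ U₁⁻¹ = S` -/
theorem U1_conj {S S' : Matrix (Fin 2) (Fin 2) F} (h : S.det = 1) (hS : S * S' = 1) : U1 F * S'ᵀ = S * U1 F := by
  have h1 : S' = !![S 1 1, -S 0 1; -S 1 0, S 0 0] := by
    have h2 : adjugate S * S = 1 := by rw [adjugate_mul, h, one_smul]
    calc S' = (adjugate S * S) * S' := by rw [h2, Matrix.one_mul]
      _ = adjugate S := by rw [Matrix.mul_assoc, hS, Matrix.mul_one]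
      _ = _ := adjugate_fin_two S
  rw [h1, U1]
  ext i j
  fin_cases i <;> fin_cases j <;> simp [Matrix.mul_apply, Fin.sum_univ_two]

/-- commuting with `U₁` -/
theorem comm_U1 {A : Matrix (Fin 2) (Fin 2) F} (h : A * U1 F = U1 F * A) : ∃ a b : F, A = a • 1 + b • U1 F := by
  have e1 := congrFun (congrFun h 0) 0
  have e2 := congrFun (congrFun h 0) 1
  simp [U1, Matrix.mul_apply, Fin.sum_univ_two] at e1 e2
  refine ⟨A 0 0, A 0 1, ?_⟩
  ext i j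
  fin_cases i <;> fin_cases j <;> simp [U1, e2, ← e1]

/-- antisymmetric `2 × 2`-matrices -/
theorem antisymm {A : Matrix (Fin 2) (Fin 2) F} (h2 : (2 : F) ≠ 0) (h : A = -Aᵀ) : ∃ b : F, A = b • U1 F := by
  have e1 := congrFun (congrFun h 0) 0
  have e2 := congrFun (congrFun h 1) 0
  have e3 := congrFun (congrFun h 1) 1
  simp only [Matrix.neg_apply, transpose_apply] at e1 e2 e3
  have z : ∀ x : F, x = -x → x = 0 := fun x hx => by
    have : 2 * x = 0 := by linear_combination hx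
    exact (mul_eq_zero.1 this).resolve_left h2
  refine ⟨A 0 1, ?_⟩
  ext i j
  fin_cases i <;> fin_cases j <;> simp [U1, e2, z _ e1, z _ e3]

theorem U1_transpose : (U1 F)ᵀ = -U1 F := by
  ext i j
  fin_cases i <;> fin_cases j <;> simp [U1]

theorem U2_transpose (a b : F) : (U2 a b)ᵀ = U2 a b := by
  ext i j
  fin_cases i <;> fin_cases j <;> simp [U2]

theorem U1_U2 (a b : F) : U1 F * U2 a b = -(U2 a b * U1 F) := by
  ext i j
  fin_cases i <;> fin_cases j <;> simp [U1, U2, Matrix.mul_apply, Fin.sum_univ_two]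

/-- commuting with `diag(-1,-1,1,1)` -/
theorem blocks_of_comm {A : Matrix (Fin 2 ⊕ Fin 2) (Fin 2 ⊕ Fin 2) F} (h2 : (2 : F) ≠ 0)
    (h : A * fromBlocks (-1) 0 0 1 = fromBlocks (-1) 0 0 1 * A) : ∃ P S, A = fromBlocks P 0 0 S := by
  have hN : A = fromBlocks A.toBlocks₁₁ A.toBlocks₁₂ A.toBlocks₂₁ A.toBlocks₂₂ := (fromBlocks_toBlocks A).symm
  rw [hN, fromBlocks_multiply, fromBlocks_multiply, fromBlocks_inj] at h
  simp only [Matrix.mul_neg, Matrix.mul_one, Matrix.mul_zero, zero_add, add_zero, Matrix.neg_mul,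
    Matrix.one_mul, Matrix.zero_mul] at h
  obtain ⟨-, h3, h4, -⟩ := h
  have h5 : A.toBlocks₁₂ = 0 := by
    have : (2 : F) • A.toBlocks₁₂ = 0 := by
      rw [two_smul]
      nth_rewrite 1 [h3]
      exact neg_add_cancel _
    exact (smul_eq_zero.1 this).resolve_left h2
  have h6 : A.toBlocks₂₁ = 0 := by
    have : (2 : F) • A.toBlocks₂₁ = 0 := by
      rw [two_smul]
      nth_rewrite 1 [← h4]
      exact neg_add_cancel _
    exact (smul_eq_zero.1 this).resolve_left h2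
  exact ⟨_, _, by rw [h5, h6] at hN; exact hN⟩


theorem inv_blocks {P S : Matrix (Fin 2) (Fin 2) F} {A : Matrix (Fin 2 ⊕ Fin 2) (Fin 2 ⊕ Fin 2) F}
    (h : fromBlocks P 0 0 S * A = 1) : ∃ P' S', A = fromBlocks P' 0 0 S' ∧ P * P' = 1 ∧ S * S' = 1 := by
  have hN : A = fromBlocks A.toBlocks₁₁ A.toBlocks₁₂ A.toBlocks₂₁ A.toBlocks₂₂ := (fromBlocks_toBlocks A).symm
  rw [hN, fromBlocks_multiply, ← fromBlocks_one, fromBlocks_inj] at h
  simp only [Matrix.zero_mul, zero_add, add_zero] at h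
  obtain ⟨h1, h3, h4, h5⟩ := h
  have h6 : A.toBlocks₁₂ = 0 := by
    rw [← Matrix.one_mul A.toBlocks₁₂, ← mul_eq_one_comm.1 h1, Matrix.mul_assoc, h3, Matrix.mul_zero]
  have h7 : A.toBlocks₂₁ = 0 := by
    rw [← Matrix.one_mul A.toBlocks₂₁, ← mul_eq_one_comm.1 h5, Matrix.mul_assoc, h4, Matrix.mul_zero]
  exact ⟨_, _, by rw [h6, h7] at hN; exact hN, h1, h5⟩

theorem eq_of_smul {ι : Type*} [Fintype ι] [DecidableEq ι] {M M' X Y : Matrix ι ι F} (hM : M * M' = 1)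
    (hne : trace X ≠ 0) (hY : trace Y = trace X) {c : F} (h : M * Y * M' = c • X) : M * Y = X * M := by
  have h1 : trace (M * Y * M') = trace Y := by
    rw [trace_mul_comm, ← Matrix.mul_assoc, mul_eq_one_comm.1 hM, Matrix.one_mul]
  have h3 : c = 1 := by
    rw [h, trace_smul, smul_eq_mul, hY] at h1
    exact mul_right_cancel₀ hne (by rw [h1, one_mul])
  rw [h3, one_smul] at h
  calc M * Y = M * Y * (M' * M) := by rw [mul_eq_one_comm.1 hM, Matrix.mul_one]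
    _ = M * Y * M' * M := by simp only [Matrix.mul_assoc]
    _ = X * M := by rw [h]

theorem trace_W0 : trace (W0 F) = 2 := by
  simp [W0, trace, Fintype.sum_sum_type, Fin.sum_univ_two]
  norm_num

end Mats

/-! ### automorphisms -/

variable {Γ : Type*} [Group Γ] {F : Type*} [Field F] {T : Set (F →+* F)} {R : Rep Γ F (Fin 2)} {a b : F}

/-- an automorphism trivial on `D₁` is `g ↦ A g A⁻¹` or `g ↦ A g⁻ᵀ A⁻¹` -/
def AutForm (R : Rep Γ F (Fin 2)) (T : Set (F →+* F)) : Prop :=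
  ∀ α : MulAut (Γ ⧸ center Γ), (∀ x ∈ D1 R, α x = x) → ∃ A A' : Matrix (Fin 2 ⊕ Fin 2) (Fin 2 ⊕ Fin 2) F,
    A * A' = 1 ∧ (∀ t ∈ T, Aᵀ * A.map t = 1) ∧
    ((∀ g, ∃ g', α (pr Γ g) = pr Γ g' ∧ R.ρ g' = A * R.ρ g * A') ∨
     (∀ g, ∃ g', α (pr Γ g) = pr Γ g' ∧ R.ρ g' = A * (R.ρ g⁻¹)ᵀ * A'))

theorem exists_smul {g g' : Γ} (h : pr Γ g = pr Γ g') : ∃ c : F, R.ρ g' = c • R.ρ g := by
  have h1 : g' * g⁻¹ ∈ center Γ := by rw [← pr_eq_one, map_mul, map_inv, h, mul_inv_cancel]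
  obtain ⟨c, hc⟩ := R.cen _ h1
  refine ⟨c, ?_⟩
  have e : g' = g' * g⁻¹ * g := by group
  rw [e, map_mul, hc, smul_mul_assoc, Matrix.one_mul]

/-- the third member for `W₀` -/
theorem third_W0 (h2 : (2 : F) ≠ 0) (hR : Model R T) (hq : Quat T a b) {w : Γ} (hw : R.ρ w = W0 F) :
    ThP (Mem R) (D1 R) (D2 R) (cj (pr Γ w) (D1 R)) := by
  obtain ⟨s, hs⟩ := (hR _).2 (cond_S0 T)
  have hws : w * R.t * w⁻¹ = s := by
    rw [mul_inv_eq_iff_eq_mul]
    apply R.inj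
    rw [map_mul, map_mul, hw, hs, R.t_eq, W0, S0, fromBlocks_multiply, fromBlocks_multiply]
    congr 1 <;> (ext i j; fin_cases i <;> fin_cases j <;> simp [Matrix.mul_apply, Fin.sum_univ_two])
  have hst : s * R.t = R.t * s := R.comm_t_of_blocks hs
  have hsz : ∀ z ∈ cj (pr Γ w) (D1 R), z * z = 1 → z ≠ 1 → z = pr Γ s := by
    intro z hz hzz hz1
    rw [mem_cj] at hz
    have h1 := eq_z0 h2 hR hz (by
      calc (pr Γ w)⁻¹ * z * pr Γ w * ((pr Γ w)⁻¹ * z * pr Γ w) = (pr Γ w)⁻¹ * (z * z) * pr Γ w := by group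
        _ = 1 := by rw [hzz]; group) (by
      intro h
      apply hz1
      calc z = pr Γ w * ((pr Γ w)⁻¹ * z * pr Γ w) * (pr Γ w)⁻¹ := by group
        _ = 1 := by rw [h]; group)
    calc z = pr Γ w * ((pr Γ w)⁻¹ * z * pr Γ w) * (pr Γ w)⁻¹ := by group
      _ = pr Γ s := by rw [h1, z0, ← map_inv, ← map_mul, ← map_mul, hws]
  refine ⟨⟨_, rfl⟩, ?_, ?_, ?_⟩
  · intro h
    have h1 : w * R.t = R.t * w := comm_t h2 hR hq fun y hy => by
      rw [← h]; exact conj_mem_cj hy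
    rw [h1, mul_inv_cancel_right] at hws
    have h3 := congrArg R.ρ hws
    rw [hs, R.t_eq, S0, fromBlocks_inj] at h3
    have h4 := congrFun (congrFun h3.1 0) 0
    simp at h4
    exact h2 (by linear_combination -h4)
  · intro h
    have h1 := partner_t h2 hR hq (g := w) (by
      rw [h]
      intro y hy
      rw [mem_centralizer_iff]
      exact fun x hx => comm_D1_D2 R hx hy)
    rw [hws, hs, S0, fromBlocks_inj] at h1
    have h4 := congrFun (congrFun h1.1 1) 1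
    simp at h4
    exact h2 (by linear_combination -h4)
  · intro z hz hzz
    by_cases hz1 : z = 1
    · rw [hz1]; exact one_mem _
    rw [hsz z hz hzz hz1, mem_normalizer_iff_cj]
    have h1 : cj (pr Γ s) (D1 R) = (Es R (s * R.t * s⁻¹)).map (pr Γ) := (map_Es h2 s).symm
    rw [h1, hst, mul_inv_cancel_right, Es_t h2]
    rfl

theorem rho_inv_blocks {g : Γ} {P S P' S' : Matrix (Fin 2) (Fin 2) F} (h : R.ρ g = fromBlocks P 0 0 S)
    (hP : P * P' = 1) (hS : S * S' = 1) : R.ρ g⁻¹ = fromBlocks P' 0 0 S' := by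
  have h1 : fromBlocks P 0 0 S * fromBlocks P' 0 0 S' = (1 : Matrix (Fin 2 ⊕ Fin 2) (Fin 2 ⊕ Fin 2) F) := by
    rw [fromBlocks_multiply, hP, hS, ← fromBlocks_one]; simp
  calc R.ρ g⁻¹ = R.ρ g⁻¹ * (R.ρ g * fromBlocks P' 0 0 S') := by rw [h, h1, Matrix.mul_one]
    _ = fromBlocks P' 0 0 S' := by rw [← Matrix.mul_assoc, R.ρ_inv_mul, Matrix.one_mul]

/-- the elements used -/
theorem exists_elts (hR : Model R T) (hq : Quat T a b) : ∃ x1 x2 w u : Γ, R.ρ x1 = fromBlocks (U1 F) 0 0 1 ∧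
    R.ρ x2 = fromBlocks (U2 a b) 0 0 1 ∧ R.ρ w = W0 F ∧ R.ρ u = fromBlocks 1 0 0 (U1 F) := by
  obtain ⟨x1, h1⟩ := exists_blocks hR (cond_U1 T) (Cond.one T)
  obtain ⟨x2, h2⟩ := exists_blocks hR (cond_U2 hq) (Cond.one T)
  obtain ⟨w, hw⟩ := (hR _).2 (cond_W0 T)
  obtain ⟨u, hu⟩ := exists_blocks hR (Cond.one T) (cond_U1 T)
  exact ⟨x1, x2, w, u, h1, h2, hw, hu⟩

theorem rho_conj {w u : Γ} (hw : R.ρ w = W0 F) (hu : R.ρ u = fromBlocks 1 0 0 (U1 F)) :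
    R.ρ (u * w * u⁻¹) = fromBlocks 1 0 0 (U1 F) * W0 F * fromBlocks 1 0 0 (-U1 F) := by
  rw [map_mul, map_mul, hw, hu, rho_inv_blocks hu (P' := 1) (S' := -U1 F) (Matrix.mul_one _) U1_neg_U1]

theorem trace_conj' {w u : Γ} (hw : R.ρ w = W0 F) : trace (R.ρ (u * w * u⁻¹)) = 2 := by
  rw [map_mul, map_mul, trace_mul_comm, ← Matrix.mul_assoc, R.ρ_inv_mul, Matrix.one_mul, hw, trace_W0]

/-- an automorphism `g ↦ A g⁻ᵀ A⁻¹` of square `1`, trivial on `D₁`, is trivial on `D₂` -/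
theorem case_two (h2 : (2 : F) ≠ 0) (hR : Model R T) (hq : Quat T a b) {α : MulAut (Γ ⧸ center Γ)}
    (hα : ∀ x ∈ D1 R, α x = x) (hαα : α * α = 1) {A A' : Matrix (Fin 2 ⊕ Fin 2) (Fin 2 ⊕ Fin 2) F}
    (hA : A * A' = 1) (hf : ∀ g, ∃ g', α (pr Γ g) = pr Γ g' ∧ R.ρ g' = A * (R.ρ g⁻¹)ᵀ * A') :
    ∀ x ∈ D2 R, α x = x := by
  obtain ⟨x1, x2, w, u, hx1, hx2, hw, hu⟩ := exists_elts hR hq
  have tr1 : ∀ U : Matrix (Fin 2) (Fin 2) F, trace U = 0 →
      trace (fromBlocks U 0 0 (1 : Matrix (Fin 2) (Fin 2) F)) = 2 := by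
    intro U hU
    rw [trace_blocks, hU]
    simp
  have hU2 : U2 a b * (-U2 a b) = 1 := by rw [Matrix.mul_neg, U2_sq hq, neg_neg]
  -- the two elements of `E₁`
  have hc1 : A * fromBlocks (U1 F) 0 0 1 = fromBlocks (U1 F) 0 0 1 * A := by
    obtain ⟨g', hg', hm⟩ := hf x1
    rw [hα _ ⟨x1, ⟨_, hx1⟩, rfl⟩] at hg'
    obtain ⟨c, hc⟩ := exists_smul (R := R) hg'
    rw [hm, rho_inv_blocks hx1 U1_neg_U1 (Matrix.mul_one 1), fromBlocks_transpose, transpose_neg, U1_transpose,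
      neg_neg, transpose_zero, transpose_one, hx1] at hc
    exact eq_of_smul hA (by rw [tr1 _ trace_U1]; exact h2) rfl hc
  have hc2 : A * fromBlocks (-U2 a b) 0 0 1 = fromBlocks (U2 a b) 0 0 1 * A := by
    obtain ⟨g', hg', hm⟩ := hf x2
    rw [hα _ ⟨x2, ⟨_, hx2⟩, rfl⟩] at hg'
    obtain ⟨c, hc⟩ := exists_smul (R := R) hg'
    rw [hm, rho_inv_blocks hx2 hU2 (Matrix.mul_one 1), fromBlocks_transpose, transpose_neg, U2_transpose,
      transpose_zero, transpose_one, hx2] at hc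
    refine eq_of_smul hA (by rw [tr1 _ (trace_U2 a b)]; exact h2) ?_ hc
    rw [tr1 _ (trace_U2 a b), tr1 _ (by rw [trace_neg, trace_U2, neg_zero])]
  have hc3 : A * fromBlocks (-1) 0 0 1 = fromBlocks (-1) 0 0 1 * A := by
    have e : fromBlocks (-1 : Matrix (Fin 2) (Fin 2) F) 0 0 (1 : Matrix (Fin 2) (Fin 2) F) =
        fromBlocks (U1 F) 0 0 1 * fromBlocks (U1 F) 0 0 1 := by
      rw [fromBlocks_multiply, Matrix.mul_zero, U1_sq]; simp
    rw [e, ← Matrix.mul_assoc, hc1, Matrix.mul_assoc, hc1, Matrix.mul_assoc]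
  obtain ⟨P, B, rfl⟩ := blocks_of_comm h2 hc3
  rw [fromBlocks_multiply, fromBlocks_multiply, fromBlocks_inj] at hc1 hc2
  simp only [Matrix.zero_mul, Matrix.mul_zero, add_zero, zero_add, Matrix.mul_one, Matrix.one_mul] at hc1 hc2
  obtain ⟨c, d, rfl⟩ := comm_U1 hc1.1
  have hc0 : c = 0 := by
    have h3 := hc2.1
    rw [Matrix.mul_neg, Matrix.add_mul, Matrix.mul_add, smul_mul_assoc, smul_mul_assoc, Matrix.one_mul,
      U1_U2, mul_smul_comm, mul_smul_comm, Matrix.mul_one, smul_neg, neg_add, neg_neg] at h3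
    have h4 := add_right_cancel h3
    have h5 : (2 * c) • U2 a b = 0 := by
      rw [mul_smul, two_smul]
      nth_rewrite 1 [← h4]
      exact neg_add_cancel _
    rcases smul_eq_zero.1 h5 with h | h
    · exact (mul_eq_zero.1 h).resolve_left h2
    · exfalso
      have h6 := U2_sq hq
      rw [h, Matrix.zero_mul] at h6
      have h7 := congrFun (congrFun h6 0) 0
      simp at h7
  subst hc0
  rw [zero_smul, zero_add] at *
  obtain ⟨P', B', rfl, hP, hB⟩ := inv_blocks hA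
  -- the square of `α`
  have key : ∀ g : Γ, trace (R.ρ g) ≠ 0 → fromBlocks 1 0 0 (-(B * B'ᵀ)) * R.ρ g =
      R.ρ g * fromBlocks 1 0 0 (-(B * B'ᵀ)) := by
    intro g hg
    obtain ⟨g', hg', hm⟩ := hf g
    obtain ⟨g'', hg'', hm'⟩ := hf g'
    have h3 : pr Γ g = pr Γ g'' := by
      rw [← hg'', ← hg']
      exact (DFunLike.congr_fun hαα (pr Γ g)).symm
    obtain ⟨e, he⟩ := exists_smul (R := R) h3
    set N : Matrix (Fin 2 ⊕ Fin 2) (Fin 2 ⊕ Fin 2) F := fromBlocks (d • U1 F) 0 0 B with hN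
    set N' : Matrix (Fin 2 ⊕ Fin 2) (Fin 2 ⊕ Fin 2) F := fromBlocks P' 0 0 B' with hN'
    have h4 : R.ρ g'⁻¹ = N * (R.ρ g)ᵀ * N' := by
      have h5 : N * (R.ρ g⁻¹)ᵀ * N' * (N * (R.ρ g)ᵀ * N') = 1 := by
        calc N * (R.ρ g⁻¹)ᵀ * N' * (N * (R.ρ g)ᵀ * N') = N * ((R.ρ g⁻¹)ᵀ * (N' * N) * (R.ρ g)ᵀ) * N' := by
              simp only [Matrix.mul_assoc]
          _ = 1 := by
              rw [mul_eq_one_comm.1 hA, Matrix.mul_one, ← transpose_mul, R.ρ_mul_inv, transpose_one, Matrix.mul_one,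
                hA]
      calc R.ρ g'⁻¹ = R.ρ g'⁻¹ * (R.ρ g' * (N * (R.ρ g)ᵀ * N')) := by rw [hm, h5, Matrix.mul_one]
        _ = _ := by rw [← Matrix.mul_assoc, R.ρ_inv_mul, Matrix.one_mul]
    rw [hm', h4, transpose_mul, transpose_mul, transpose_transpose] at he
    have hM : (N * N'ᵀ) * (Nᵀ * N') = 1 := by
      calc (N * N'ᵀ) * (Nᵀ * N') = N * (N'ᵀ * Nᵀ) * N' := by simp only [Matrix.mul_assoc]
        _ = 1 := by rw [← transpose_mul, hA, transpose_one, Matrix.mul_one, hA]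
    have h5 := eq_of_smul hM hg rfl (c := e) (by rw [← he]; simp only [Matrix.mul_assoc])
    have h6 : N * N'ᵀ = -fromBlocks 1 0 0 (-(B * B'ᵀ)) := by
      rw [hN, hN', fromBlocks_transpose, fromBlocks_multiply, fromBlocks_neg]
      have h7 : d • U1 F * P'ᵀ = -1 := by
        have h8 : P'ᵀ * (d • U1 F) = -1 := by
          have h9 := congrArg transpose hP
          rw [transpose_mul, transpose_smul, U1_transpose, transpose_one, smul_neg, Matrix.mul_neg] at h9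
          rw [← h9, neg_neg]
        have h9 : -P'ᵀ * (d • U1 F) = 1 := by rw [Matrix.neg_mul, h8, neg_neg]
        have h10 := mul_eq_one_comm.1 h9
        rw [Matrix.mul_neg] at h10
        rw [← h10, neg_neg]
      rw [h7]
      simp
    rw [h6, Matrix.neg_mul, Matrix.mul_neg, neg_inj] at h5
    exact h5
  have k1 := key w (by rw [hw, trace_W0]; exact h2)
  have k2 := key (u * w * u⁻¹) (by rw [trace_conj' hw]; exact h2)
  rw [hw] at k1
  rw [rho_conj hw hu] at k2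
  have k3 := eq_one_of_comm k1 k2
  have k4 : B = -Bᵀ := by
    have h3 : B'ᵀ * Bᵀ = 1 := by rw [← transpose_mul, hB, transpose_one]
    calc B = B * (B'ᵀ * Bᵀ) := by rw [h3, Matrix.mul_one]
      _ = -(-(B * B'ᵀ) * Bᵀ) := by rw [Matrix.neg_mul, neg_neg, Matrix.mul_assoc]
      _ = -Bᵀ := by rw [k3, Matrix.one_mul]
  obtain ⟨e, rfl⟩ := antisymm h2 k4
  -- triviality on `D₂`
  rintro _ ⟨x, ⟨S, hS⟩, rfl⟩
  obtain ⟨g', hg', hm⟩ := hf x
  rw [hg']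
  congr 1
  apply R.inj
  have hd : S.det = 1 := by
    have h3 : Cond T (fromBlocks (1 : Matrix (Fin 2) (Fin 2) F) 0 0 S) := hS ▸ (hR _).1 ⟨x, rfl⟩
    exact (cond_fromBlocks_right.1 h3).1
  obtain ⟨P1, S1, hx', h6, -, h5, -⟩ := R.blocks_inv hS
  rw [Matrix.one_mul] at h6
  have h7 : fromBlocks (d • U1 F) 0 0 (e • U1 F) * (R.ρ x⁻¹)ᵀ = R.ρ x * fromBlocks (d • U1 F) 0 0 (e • U1 F) := by
    rw [hx', hS, h6, fromBlocks_transpose, fromBlocks_multiply, fromBlocks_multiply]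
    simp only [Matrix.zero_mul, Matrix.mul_zero, add_zero, zero_add, Matrix.mul_one, Matrix.one_mul, transpose_one,
      transpose_zero, smul_mul_assoc, mul_smul_comm, U1_conj hd h5, smul_zero]
  rw [hm, h7, Matrix.mul_assoc, hA, Matrix.mul_one]

/-- an automorphism `g ↦ A g A⁻¹` trivial on `D₁`: the matrix may be taken of the form `(1, S)` -/
theorem case_one_form (h2 : (2 : F) ≠ 0) (hR : Model R T) (hq : Quat T a b) {α : MulAut (Γ ⧸ center Γ)}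
    (hα : ∀ x ∈ D1 R, α x = x) {A A' : Matrix (Fin 2 ⊕ Fin 2) (Fin 2 ⊕ Fin 2) F}
    (hA : A * A' = 1) (hAT : ∀ t ∈ T, Aᵀ * A.map t = 1)
    (hf : ∀ g, ∃ g', α (pr Γ g) = pr Γ g' ∧ R.ρ g' = A * R.ρ g * A') :
    ∃ S S' : Matrix (Fin 2) (Fin 2) F, S * S' = 1 ∧ (∀ t ∈ T, Sᵀ * S.map t = 1) ∧
      ∀ g, ∃ g', α (pr Γ g) = pr Γ g' ∧ R.ρ g' = fromBlocks 1 0 0 S * R.ρ g * fromBlocks 1 0 0 S' := by
  obtain ⟨x1, x2, w, u, hx1, hx2, hw, hu⟩ := exists_elts hR hq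
  have tr1 : ∀ U : Matrix (Fin 2) (Fin 2) F, trace U = 0 →
      trace (fromBlocks U 0 0 (1 : Matrix (Fin 2) (Fin 2) F)) = 2 := by
    intro U hU
    rw [trace_blocks, hU]
    simp
  have hc : ∀ (x : Γ) (U : Matrix (Fin 2) (Fin 2) F), trace U = 0 → R.ρ x = fromBlocks U 0 0 1 →
      A * fromBlocks U 0 0 1 = fromBlocks U 0 0 1 * A := by
    intro x U hU hx
    obtain ⟨g', hg', hm⟩ := hf x
    rw [hα _ ⟨x, ⟨_, hx⟩, rfl⟩] at hg'
    obtain ⟨c, hc⟩ := exists_smul (R := R) hg'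
    rw [hm, hx] at hc
    exact eq_of_smul hA (by rw [tr1 _ hU]; exact h2) rfl hc
  have hc1 := hc x1 _ trace_U1 hx1
  have hc2 := hc x2 _ (trace_U2 a b) hx2
  have hc3 : A * fromBlocks (-1) 0 0 1 = fromBlocks (-1) 0 0 1 * A := by
    have e : fromBlocks (-1 : Matrix (Fin 2) (Fin 2) F) 0 0 (1 : Matrix (Fin 2) (Fin 2) F) =
        fromBlocks (U1 F) 0 0 1 * fromBlocks (U1 F) 0 0 1 := by
      rw [fromBlocks_multiply, Matrix.mul_zero, U1_sq]; simp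
    rw [e, ← Matrix.mul_assoc, hc1, Matrix.mul_assoc, hc1, Matrix.mul_assoc]
  obtain ⟨P, B, rfl⟩ := blocks_of_comm h2 hc3
  rw [fromBlocks_multiply, fromBlocks_multiply, fromBlocks_inj] at hc1 hc2
  simp only [Matrix.zero_mul, Matrix.mul_zero, add_zero, zero_add, Matrix.mul_one, Matrix.one_mul] at hc1 hc2
  obtain ⟨c, rfl⟩ := scalar_of_comm h2 hq hc1.1 hc2.1
  obtain ⟨P', B', rfl, hP, hB⟩ := inv_blocks hA
  have hc0 : c ≠ 0 := by
    rintro rfl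
    rw [zero_smul, Matrix.zero_mul] at hP
    have := congrFun (congrFun hP 0) 0
    simp at this
  have hP' : P' = c⁻¹ • 1 := by
    rw [smul_mul_assoc, Matrix.one_mul] at hP
    rw [← hP, smul_smul, inv_mul_cancel₀ hc0, one_smul]
  refine ⟨c⁻¹ • B, c • B', ?_, ?_, ?_⟩
  · rw [smul_mul_assoc, mul_smul_comm, smul_smul, inv_mul_cancel₀ hc0, one_smul, hB]
  · intro t ht
    have h3 := hAT t ht
    rw [fromBlocks_transpose, fromBlocks_map, fromBlocks_multiply, ← fromBlocks_one, fromBlocks_inj] at h3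
    obtain ⟨h4, -, -, h5⟩ := h3
    have h6 := congrFun (congrFun h4 0) 0
    simp [Matrix.mul_apply, Fin.sum_univ_two] at h6
    simp only [transpose_zero, Matrix.zero_mul, zero_add] at h5
    have e : (c⁻¹ • B).map t = (t c)⁻¹ • B.map t := by
      ext i j
      simp
    rw [transpose_smul, e, smul_mul_assoc, mul_smul_comm, smul_smul, h5, ← mul_inv, h6, inv_one, one_smul]
  · intro g
    obtain ⟨g', hg', hm⟩ := hf g
    refine ⟨g', hg', ?_⟩
    have e1 : fromBlocks (c • (1 : Matrix (Fin 2) (Fin 2) F)) 0 0 B = c • fromBlocks 1 0 0 (c⁻¹ • B) := by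
      rw [fromBlocks_smul, smul_smul, mul_inv_cancel₀ hc0, one_smul, smul_zero]
    have e2 : fromBlocks P' 0 0 B' = c⁻¹ • fromBlocks 1 0 0 (c • B') := by
      rw [fromBlocks_smul, smul_smul, inv_mul_cancel₀ hc0, one_smul, smul_zero, hP']
    rw [hm, e1, e2, smul_mul_assoc, smul_mul_assoc, mul_smul_comm, smul_smul, mul_inv_cancel₀ hc0, one_smul]

/-- an involutory automorphism `g ↦ A g A⁻¹` trivial on `D₁`, not on `D₂` -/
theorem case_one (h2 : (2 : F) ≠ 0) (hR : Model R T) (hq : Quat T a b) (hrd : RDiag T) {α : MulAut (Γ ⧸ center Γ)}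
    (hα : ∀ x ∈ D1 R, α x = x) (hαα : α * α = 1) (hne : ∃ x ∈ D2 R, α x ≠ x)
    {A A' : Matrix (Fin 2 ⊕ Fin 2) (Fin 2 ⊕ Fin 2) F}
    (hA : A * A' = 1) (hAT : ∀ t ∈ T, Aᵀ * A.map t = 1)
    (hf : ∀ g, ∃ g', α (pr Γ g) = pr Γ g' ∧ R.ρ g' = A * R.ρ g * A') :
    ∃ J, ThP (Mem R) (D1 R) (D2 R) J ∧ ∀ x ∈ J, α x = x := by
  obtain ⟨S, S', hS, hST, hf⟩ := case_one_form h2 hR hq hα hA hAT hf
  obtain ⟨x1, x2, w, u, hx1, hx2, hw, hu⟩ := exists_elts hR hq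
  have hN : fromBlocks 1 0 0 S * fromBlocks 1 0 0 S' = (1 : Matrix (Fin 2 ⊕ Fin 2) (Fin 2 ⊕ Fin 2) F) := by
    rw [fromBlocks_multiply, hS, ← fromBlocks_one]; simp
  -- fixed elements
  have fix : ∀ g : Γ, fromBlocks 1 0 0 S * R.ρ g = R.ρ g * fromBlocks 1 0 0 S → α (pr Γ g) = pr Γ g := by
    intro g hg
    obtain ⟨g', hg', hm⟩ := hf g
    rw [hg']
    congr 1
    apply R.inj
    rw [hm, hg, Matrix.mul_assoc, hN, Matrix.mul_one]
  have key : ∀ g : Γ, trace (R.ρ g) ≠ 0 → fromBlocks 1 0 0 (S * S) * R.ρ g = R.ρ g * fromBlocks 1 0 0 (S * S) := by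
    intro g hg
    obtain ⟨g', hg', hm⟩ := hf g
    obtain ⟨g'', hg'', hm'⟩ := hf g'
    have h3 : pr Γ g = pr Γ g'' := by
      rw [← hg'', ← hg']
      exact (DFunLike.congr_fun hαα (pr Γ g)).symm
    obtain ⟨e, he⟩ := exists_smul (R := R) h3
    rw [hm', hm] at he
    have hNN : fromBlocks 1 0 0 (S * S) =
        (fromBlocks 1 0 0 S * fromBlocks 1 0 0 S : Matrix (Fin 2 ⊕ Fin 2) (Fin 2 ⊕ Fin 2) F) := by
      rw [fromBlocks_multiply]; simp
    rw [hNN]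
    refine eq_of_smul (M' := fromBlocks 1 0 0 S' * fromBlocks 1 0 0 S') ?_ hg rfl (c := e) ?_
    · rw [Matrix.mul_assoc, ← Matrix.mul_assoc _ (fromBlocks 1 0 0 S'), hN, Matrix.one_mul, hN]
    · rw [← he]; simp only [Matrix.mul_assoc]
  have k1 := key w (by rw [hw, trace_W0]; exact h2)
  have k2 := key (u * w * u⁻¹) (by rw [trace_conj' hw]; exact h2)
  rw [hw] at k1
  rw [rho_conj hw hu] at k2
  have hSS := eq_one_of_comm k1 k2
  obtain ⟨y, ⟨v, ⟨V, hV⟩, rfl⟩, hy⟩ := hne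
  have hTB : TB T S := by
    refine ⟨hSS, ?_, ?_, hST⟩
    · rintro rfl
      refine hy (fix v ?_)
      rw [fromBlocks_one, Matrix.one_mul, Matrix.mul_one]
    · rintro rfl
      refine hy (fix v ?_)
      rw [hV, fromBlocks_multiply, fromBlocks_multiply]
      simp
  obtain ⟨Q, hQ, hSQ⟩ := hrd S hTB
  obtain ⟨r, hr⟩ := exists_blocks hR (Cond.one T) hQ
  have hthr := third_W0 h2 hR hq hw
  have hr2 : r ∈ R.E2 := ⟨_, hr⟩
  have hcj1 : cj (pr Γ r) (D1 R) = D1 R := by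
    rw [← mem_normalizer_iff_cj]
    refine (centralizer_le_normalizer _ ?_)
    rw [mem_centralizer_iff]
    exact fun x hx => comm_D1_D2 R hx ⟨r, hr2, rfl⟩
  have hcj2 : cj (pr Γ r) (D2 R) = D2 R := by
    rw [← mem_normalizer_iff_cj]
    exact le_normalizer ⟨r, hr2, rfl⟩
  have hconj : ∀ K ∈ Mem R, ∀ g, cj g K ∈ Mem R := by
    rintro _ ⟨k, rfl⟩ g
    exact ⟨g * k, by rw [cj_mul]⟩
  have h3 := hthr.cj hconj (pr Γ r)
  rw [hcj1, hcj2] at h3
  refine ⟨_, h3, ?_⟩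
  intro x hx
  rw [← cj_mul, ← map_mul, mem_cj] at hx
  obtain ⟨e, ⟨P, hP⟩, he⟩ := hx
  have hx' : x = pr Γ (r * w * e * (r * w)⁻¹) := by
    rw [map_mul, map_mul _ (r * w) e, he, map_inv]
    group
  rw [hx']
  apply fix
  set D : Matrix (Fin 2 ⊕ Fin 2) (Fin 2 ⊕ Fin 2) F := fromBlocks 1 0 0 !![1, 0; 0, -1] with hD
  have h4 : fromBlocks 1 0 0 S * R.ρ r = R.ρ r * D := by
    rw [hr, hD, fromBlocks_multiply, fromBlocks_multiply]
    simp [hSQ]
  have h5 : R.ρ r⁻¹ * fromBlocks 1 0 0 S = D * R.ρ r⁻¹ := by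
    calc R.ρ r⁻¹ * fromBlocks 1 0 0 S = R.ρ r⁻¹ * (fromBlocks 1 0 0 S * R.ρ r) * R.ρ r⁻¹ := by
          rw [← Matrix.mul_assoc, Matrix.mul_assoc _ (R.ρ r), R.ρ_mul_inv, Matrix.mul_one]
      _ = D * R.ρ r⁻¹ := by rw [h4, ← Matrix.mul_assoc, R.ρ_inv_mul, Matrix.one_mul]
  have h6 : R.ρ w⁻¹ = (W0 F)ᵀ := by
    calc R.ρ w⁻¹ = R.ρ w⁻¹ * (R.ρ w * (W0 F)ᵀ) := by rw [hw, W0_mul_transpose, Matrix.mul_one]
      _ = (W0 F)ᵀ := by rw [← Matrix.mul_assoc, R.ρ_inv_mul, Matrix.one_mul]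
  have h7 : R.ρ (r * w * e * (r * w)⁻¹) = R.ρ r * (W0 F * fromBlocks P 0 0 1 * (W0 F)ᵀ) * R.ρ r⁻¹ := by
    rw [_root_.mul_inv_rev, map_mul, map_mul, map_mul, map_mul, h6, hw, hP]
    simp only [Matrix.mul_assoc]
  rw [h7]
  calc fromBlocks 1 0 0 S * (R.ρ r * (W0 F * fromBlocks P 0 0 1 * (W0 F)ᵀ) * R.ρ r⁻¹)
      = (fromBlocks 1 0 0 S * R.ρ r) * (W0 F * fromBlocks P 0 0 1 * (W0 F)ᵀ) * R.ρ r⁻¹ := by
        simp only [Matrix.mul_assoc]
    _ = R.ρ r * (D * (W0 F * fromBlocks P 0 0 1 * (W0 F)ᵀ)) * R.ρ r⁻¹ := by rw [h4]; simp only [Matrix.mul_assoc]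
    _ = R.ρ r * (W0 F * fromBlocks P 0 0 1 * (W0 F)ᵀ) * (D * R.ρ r⁻¹) := by
        rw [hD, W0_refl]; simp only [Matrix.mul_assoc]
    _ = _ := by rw [← h5]; simp only [Matrix.mul_assoc]

/-- **(F7)** -/
theorem prefl_of (h2 : (2 : F) ≠ 0) (hR : Model R T) (hq : Quat T a b) (hrd : RDiag T) (haf : AutForm R T) :
    PRefl (Mem R) := by
  intro L hL L' hL' hc α hαα hα hst hne
  obtain ⟨g, rfl, rfl⟩ := reduce h2 hR hq hL hL' hc
  have hconj : ∀ K ∈ Mem R, ∀ g, cj g K ∈ Mem R := by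
    rintro _ ⟨k, rfl⟩ g
    exact ⟨g * k, by rw [cj_mul]⟩
  set β : MulAut (Γ ⧸ center Γ) := MulAut.conj g⁻¹ * α * MulAut.conj g with hβ
  have hβx : ∀ x, β x = g⁻¹ * α (g * x * g⁻¹) * g := by
    intro x
    rw [hβ, MulAut.mul_apply, MulAut.mul_apply, MulAut.conj_apply, MulAut.conj_apply, inv_inv]
  have hββ : β * β = 1 := by
    have e : MulAut.conj g * MulAut.conj g⁻¹ = (1 : MulAut (Γ ⧸ center Γ)) := by rw [← map_mul, mul_inv_cancel, map_one]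
    have e' : MulAut.conj g⁻¹ * MulAut.conj g = (1 : MulAut (Γ ⧸ center Γ)) := by rw [← map_mul, inv_mul_cancel, map_one]
    calc β * β = MulAut.conj g⁻¹ * α * (MulAut.conj g * MulAut.conj g⁻¹) * α * MulAut.conj g := by rw [hβ]; group
      _ = MulAut.conj g⁻¹ * (α * α) * MulAut.conj g := by rw [e]; group
      _ = 1 := by rw [hαα, mul_one, e']
  have hβ1 : ∀ x ∈ D1 R, β x = x := by
    intro x hx
    rw [hβx, hα _ (conj_mem_cj hx)]
    group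
  have hβ2 : ∃ x ∈ D2 R, β x ≠ x := by
    obtain ⟨x, hx, h3⟩ := hne
    rw [mem_cj] at hx
    refine ⟨_, hx, ?_⟩
    rw [hβx]
    have e : g * (g⁻¹ * x * g) * g⁻¹ = x := by group
    rw [e]
    intro h4
    apply h3
    calc α x = g * (g⁻¹ * α x * g) * g⁻¹ := by group
      _ = x := by rw [h4, e]
  obtain ⟨A, A', hA, hAT, hf | hf⟩ := haf β hβ1
  · obtain ⟨J, hJ, hJx⟩ := case_one h2 hR hq hrd hβ1 hββ hβ2 hA hAT hf
    refine ⟨_, hJ.cj hconj g, ?_⟩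
    intro x hx
    rw [mem_cj] at hx
    have h3 := hJx _ hx
    rw [hβx] at h3
    have e : g * (g⁻¹ * x * g) * g⁻¹ = x := by group
    rw [e] at h3
    calc α x = g * (g⁻¹ * α x * g) * g⁻¹ := by group
      _ = x := by rw [h3, e]
  · exfalso
    obtain ⟨x, hx, h3⟩ := hβ2
    exact h3 (case_two h2 hR hq hβ1 hββ hA hf x hx)

end Cfsg.Agent.Cit.SL4R
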