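import Cfsg.Agent.Cit.SL4Refl
import Cfsg.Agent.Cit.SL4Fe
import Cfsg.Agent.Cit.LongInst
import Cfsg.Agent.ClassicalGeometry.AutPSL.Main

/-!
# (F7) for `PSL₄(F)`
-/

set_option autoImplicit false

namespace Cfsg.Agent.Cit.SL4R

open Subgroup Cfsg Matrix Cfsg.Agent.Cit Cfsg.Agent.Cit.LongAbs Cfsg.Agent.Cit.LongBlock Cfsg.Agent.Cit.LongQuot
  Cfsg.Agent.Cit.LongMain Cfsg.Agent.Cit.LongModel Cfsg.Agent.Cit.SL4F
open Cfsg.Agent.Cit.LongInst (slRep ee slRep_model)
open Cfsg.Agent.ClassicalGeometry.AutPSL.Auto (fld itr lift lift_pr coe_cj coe_fld_apply coe_itr)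

section

variable {F : Type*} [Field F]

theorem sigma_eq_one {ι : Type*} [Fintype ι] [DecidableEq ι] {A A' N N' : Matrix ι ι F} (hA : A * A' = 1)
    (hN : N ≠ 0) (σ : F ≃+* F) (h : ∀ s : F, A * (1 + σ s • N') = (1 + s • N) * A) : ∀ s, σ s = s := by
  have h1 : ∀ s : F, σ s • (A * N') = s • (N * A) := by
    intro s
    have h2 := h s
    rw [Matrix.mul_add, Matrix.add_mul, Matrix.mul_one, Matrix.one_mul, mul_smul_comm, smul_mul_assoc] at h2
    exact add_left_cancel h2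
  intro s
  have h2 := h1 1
  rw [map_one, one_smul, one_smul] at h2
  have h3 := h1 s
  rw [h2] at h3
  have h4 : (σ s - s) • (N * A) = 0 := by rw [sub_smul, h3, sub_self]
  rcases smul_eq_zero.1 h4 with h5 | h5
  · exact sub_eq_zero.1 h5
  · exfalso
    apply hN
    calc N = N * (A * A') := by rw [hA, Matrix.mul_one]
      _ = 0 := by rw [← Matrix.mul_assoc, h5, Matrix.zero_mul]

/-- `E₁₂` -/
def NN (F : Type*) [Field F] : Matrix (Fin 2 ⊕ Fin 2) (Fin 2 ⊕ Fin 2) F := fromBlocks !![0, 1; 0, 0] 0 0 0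

theorem NN_ne : NN F ≠ 0 := by
  intro h
  have := congrFun (congrFun h (Sum.inl 0)) (Sum.inl 1)
  simp [NN] at this

theorem one_add_NN (s : F) : 1 + s • NN F = fromBlocks !![1, s; 0, 1] 0 0 1 := by
  rw [NN, fromBlocks_smul, ← fromBlocks_one, fromBlocks_add]
  congr 1
  · ext i j
    fin_cases i <;> fin_cases j <;> simp
  · simp
  · simp
  · simp

theorem trace_x (s : F) : trace (fromBlocks !![1, s; 0, 1] 0 0 (1 : Matrix (Fin 2) (Fin 2) F)) = 4 := by
  rw [trace_blocks, trace_fin_two]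
  simp
  norm_num

end

variable {F : Type*} [Field F] [Fintype F]

/-- the form of the automorphisms of `PSL₄(F)` -/
theorem autForm_sl (p : ℕ) [Fact p.Prime] [CharP F p] (h2 : (2 : F) ≠ 0) : AutForm (slRep F 2) ∅ := by
  intro α hα
  have h4 : (4 : F) ≠ 0 := by
    have : (4 : F) = 2 * 2 := by norm_num
    rw [this]; exact mul_ne_zero h2 h2
  -- the test elements
  have hx : ∀ s : F, ∃ x : SpecialLinearGroup (Fin (2 + 2)) F, (slRep F 2).ρ x = fromBlocks !![1, s; 0, 1] 0 0 1 ∧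
      (slRep F 2).ρ x⁻¹ = fromBlocks !![1, -s; 0, 1] 0 0 1 := by
    intro s
    have hc : Cond (∅ : Set (F →+* F)) !![1, s; 0, 1] := by
      refine ⟨by rw [det_fin_two_of]; ring, fun t ht => absurd ht (Set.notMem_empty t)⟩
    obtain ⟨x, hx⟩ := exists_blocks (slRep_model F 2) hc (Cond.one _)
    refine ⟨x, hx, ?_⟩
    refine rho_inv_blocks hx ?_ (Matrix.mul_one 1)
    ext i j
    fin_cases i <;> fin_cases j <;> simp [Matrix.mul_apply, Fin.sum_univ_two]
  have main : ∀ (M : GL (Fin (2 + 2)) F) (σ : F ≃+* F) (τ : MulAut (SpecialLinearGroup (Fin (2 + 2)) F)),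
      ∀ g, (slRep F 2).ρ ((ClassicalGeometry.AutPSL.Auto.cj M * fld σ * τ :
        MulAut (SpecialLinearGroup (Fin (2 + 2)) F)) g) =
        M.1.submatrix (ee 2).symm (ee 2).symm * ((slRep F 2).ρ (τ g)).map σ *
          (M⁻¹).1.submatrix (ee 2).symm (ee 2).symm := by
    intro M σ τ g
    change (M.1 * (fld σ (τ g)).1 * (M⁻¹).1).submatrix (ee 2).symm (ee 2).symm = _
    rw [← submatrix_mul_equiv _ _ _ (ee 2).symm, ← submatrix_mul_equiv _ _ _ (ee 2).symm]
    rfl
  have hMM : ∀ M : GL (Fin (2 + 2)) F, M.1.submatrix (ee 2).symm (ee 2).symm *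
      (M⁻¹).1.submatrix (ee 2).symm (ee 2).symm = 1 := by
    intro M
    rw [submatrix_mul_equiv, ← Units.val_mul, mul_inv_cancel, Units.val_one, submatrix_one_equiv]
  rcases ClassicalGeometry.AutPSL.Main.surj_three p (by norm_num) α with ⟨M, σ, rfl⟩ | ⟨M, σ, rfl⟩
  · set A := M.1.submatrix (ee 2).symm (ee 2).symm with hA
    set A' := (M⁻¹).1.submatrix (ee 2).symm (ee 2).symm with hA'
    have hf : ∀ g, ∃ g', lift (ClassicalGeometry.AutPSL.Auto.cj M * fld σ) (pr _ g) = pr _ g' ∧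
        (slRep F 2).ρ g' = A * ((slRep F 2).ρ g).map σ * A' := by
      intro g
      refine ⟨(ClassicalGeometry.AutPSL.Auto.cj M * fld σ : MulAut (SpecialLinearGroup (Fin (2 + 2)) F)) g, rfl, ?_⟩
      have := main M σ 1 g
      rw [mul_one] at this
      exact this
    have hσ : ∀ s, σ s = s := by
      refine sigma_eq_one (hMM M) NN_ne (N' := NN F) σ fun s => ?_
      obtain ⟨x, hx1, -⟩ := hx s
      obtain ⟨g', hg', hm⟩ := hf x
      rw [hα _ ⟨x, ⟨_, hx1⟩, rfl⟩] at hg'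
      obtain ⟨c, hc⟩ := exists_smul (R := slRep F 2) hg'
      have e : (fromBlocks !![1, s; 0, 1] 0 0 (1 : Matrix (Fin 2) (Fin 2) F)).map σ = fromBlocks !![1, σ s; 0, 1] 0 0 1 := by
        rw [fromBlocks_map]
        congr 1 <;> (ext i j; fin_cases i <;> fin_cases j <;> simp)
      rw [hm, hx1, e] at hc
      rw [one_add_NN, one_add_NN]
      exact eq_of_smul (hMM M) (by rw [trace_x]; exact h4) (by rw [trace_x, trace_x]) hc
    refine ⟨A, A', hMM M, fun t ht => absurd ht (Set.notMem_empty t), Or.inl fun g => ?_⟩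
    obtain ⟨g', hg', hm⟩ := hf g
    refine ⟨g', hg', ?_⟩
    have e : ((slRep F 2).ρ g).map σ = (slRep F 2).ρ g := by ext i j; exact hσ _
    rw [hm, e]
  · set A := M.1.submatrix (ee 2).symm (ee 2).symm with hA
    set A' := (M⁻¹).1.submatrix (ee 2).symm (ee 2).symm with hA'
    have hf : ∀ g, ∃ g', lift (ClassicalGeometry.AutPSL.Auto.cj M * fld σ * itr) (pr _ g) = pr _ g' ∧
        (slRep F 2).ρ g' = A * ((slRep F 2).ρ g⁻¹)ᵀ.map σ * A' := by
      intro g
      exact ⟨(ClassicalGeometry.AutPSL.Auto.cj M * fld σ * itr : MulAut (SpecialLinearGroup (Fin (2 + 2)) F)) g, rfl,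
        main M σ itr g⟩
    have hσ : ∀ s, σ s = s := by
      refine sigma_eq_one (hMM M) NN_ne (N' := -(NN F)ᵀ) σ fun s => ?_
      obtain ⟨x, hx1, hx2⟩ := hx s
      obtain ⟨g', hg', hm⟩ := hf x
      rw [hα _ ⟨x, ⟨_, hx1⟩, rfl⟩] at hg'
      obtain ⟨c, hc⟩ := exists_smul (R := slRep F 2) hg'
      have e : (fromBlocks !![1, -s; 0, 1] 0 0 (1 : Matrix (Fin 2) (Fin 2) F))ᵀ.map σ =
          1 + σ s • (-(NN F)ᵀ) := by
        rw [NN, fromBlocks_transpose, fromBlocks_transpose, fromBlocks_neg, fromBlocks_smul, ← fromBlocks_one,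
          fromBlocks_add, fromBlocks_map]
        congr 1 <;> (ext i j; fin_cases i <;> fin_cases j <;> simp)
      have e' : trace (1 + σ s • (-(NN F)ᵀ)) = 4 := by
        rw [trace_add, trace_smul, trace_neg, trace_transpose, NN, trace_one]
        simp [trace, Fintype.sum_sum_type, Fin.sum_univ_two]
      rw [hm, hx1, hx2, e] at hc
      rw [one_add_NN]
      exact eq_of_smul (hMM M) (by rw [trace_x]; exact h4) (by rw [trace_x, e']) hc
    refine ⟨A, A', hMM M, fun t ht => absurd ht (Set.notMem_empty t), Or.inr fun g => ?_⟩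
    obtain ⟨g', hg', hm⟩ := hf g
    refine ⟨g', hg', ?_⟩
    have e : ((slRep F 2).ρ g⁻¹)ᵀ.map σ = ((slRep F 2).ρ g⁻¹)ᵀ := by ext i j; exact hσ _
    rw [hm, e]

/-- **(F7) for `PSL₄(F)`** -/
theorem prefl_sl (h2 : (2 : F) ≠ 0) : PRefl (Mem (slRep F 2)) := by
  obtain ⟨p, hp⟩ := CharP.exists F
  have : Fact p.Prime := ⟨(CharP.char_is_prime_or_zero F p).resolve_right (by
    rintro rfl
    exact CharP.char_ne_zero_of_finite F 0 rfl)⟩
  obtain ⟨a, b, hq⟩ := LongInst.exists_quat F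
  exact prefl_of h2 (slRep_model F 2) hq (rdiag_empty h2) (autForm_sl p h2)

end Cfsg.Agent.Cit.SL4R
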