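import Cfsg.Agent.Cit.SL4Refl
import Cfsg.Agent.Cit.SL4Fd
import Cfsg.Agent.Cit.LongInst
import Cfsg.Agent.ClassicalGeometry.PSUAutMain
import Cfsg.Agent.ClassicalGeometry.GUBasic

/-!
# (F7) for `PSU₄(q)`
-/

set_option autoImplicit false

namespace Cfsg.Agent.Cit.SL4R

open Subgroup Cfsg Matrix Cfsg.Agent.Cit Cfsg.Agent.Cit.LongAbs Cfsg.Agent.Cit.LongBlock Cfsg.Agent.Cit.LongQuot
  Cfsg.Agent.Cit.LongMain Cfsg.Agent.Cit.LongModel Cfsg.Agent.Cit.SL4F
open Cfsg.Agent.Cit.LongInst (suRep ee suRep_model exists_quat_su)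
open Cfsg.Agent.LieClassical.HermBasic Cfsg.Agent.LieClassical.HermSiegel
open Cfsg.Agent.ClassicalGeometry.PSUAutCount (gm semiConj toAut gm_mul gm_one gm_mul_inv gm_inv_mul herm_gm)

variable {F : Type*} [Field F] [Fintype F] {q : ℕ} (hF : Fintype.card F = q ^ 2)

include hF in
/-- an automorphism of `F` fixing the elements of norm `1` is trivial -/
theorem fix_all (h2 : (2 : F) ≠ 0) (σ : F ≃+* F) (h : ∀ ζ : F, ζ * ζ ^ q = 1 → σ ζ = ζ) (x : F) : σ x = x := by
  have skew : ∀ θ : F, θ ^ q = -θ → σ θ = θ := by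
    intro θ hθ
    have hp : 1 + θ ≠ 0 := by
      intro h
      have h3 : θ = -1 := by linear_combination h
      rw [h3, neg_pow_q hF, one_pow] at hθ
      apply h2
      linear_combination -hθ
    have hm : 1 - θ ≠ 0 := by
      intro h
      have h3 : θ = 1 := by linear_combination -h
      rw [h3, one_pow] at hθ
      apply h2
      linear_combination hθ
    have hn : (1 + θ) / (1 - θ) * ((1 + θ) / (1 - θ)) ^ q = 1 := by
      rw [div_pow, add_pow_q hF, sub_pow_q hF, one_pow, hθ, div_mul_div_comm, div_eq_one_iff_eq]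
      · ring
      · rw [sub_neg_eq_add]
        exact mul_ne_zero hm hp
    have h3 := h _ hn
    rw [map_div₀, map_add, map_sub, map_one] at h3
    have hm' : 1 - σ θ ≠ 0 := by
      intro h4
      apply hm
      apply σ.injective
      rw [map_sub, map_one, h4, map_zero]
    rw [div_eq_div_iff hm' hm] at h3
    have h4 : 2 * (σ θ - θ) = 0 := by linear_combination h3
    exact sub_eq_zero.1 ((mul_eq_zero.1 h4).resolve_left h2)
  obtain ⟨θ, h0, h1⟩ := exists_trace_zero_ne hF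
  have hθ : θ ^ q = -θ := by linear_combination h1
  have fixed : ∀ k : F, k ^ q = k → σ k = k := by
    intro k hk
    have h3 := skew (k * θ) (by rw [mul_pow, hk, hθ]; ring)
    rw [map_mul, skew θ hθ] at h3
    exact mul_right_cancel₀ h0 h3
  have h3 := fixed (x + x ^ q) (by rw [add_pow_q hF, pow_q_pow_q hF]; ring)
  have h4 := skew (x - x ^ q) (by rw [sub_pow_q hF, pow_q_pow_q hF]; ring)
  rw [map_add] at h3
  rw [map_sub] at h4
  have h5 : 2 * (σ x - x) = 0 := by linear_combination h3 + h4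
  exact sub_eq_zero.1 ((mul_eq_zero.1 h5).resolve_left h2)

include hF in
theorem fix_conj (h2 : (2 : F) ≠ 0) (σ : F ≃+* F) (h : ∀ ζ : F, ζ * ζ ^ q = 1 → σ ζ = ζ ^ q) (x : F) :
    σ x = x ^ q := by
  have h1 : (σ.trans (conj hF)) x = x := by
    refine fix_all hF h2 _ (fun ζ hζ => ?_) x
    rw [RingEquiv.trans_apply, h ζ hζ, conj_apply, pow_q_pow_q hF]
  rw [RingEquiv.trans_apply, conj_apply] at h1
  calc σ x = ((σ x) ^ q) ^ q := (pow_q_pow_q hF _).symm
    _ = x ^ q := by rw [h1]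

theorem diag_norm (hF : Fintype.card F = q ^ 2) {ζ : F} (h : ζ * ζ ^ q = 1) :
    Cond ({LongInst.cj hF} : Set (F →+* F)) !![ζ, 0; 0, ζ⁻¹] := by
  have hz : ζ ≠ 0 := left_ne_zero_of_mul_eq_one h
  refine ⟨by rw [det_fin_two_of]; field_simp; ring, fun t ht => ?_⟩
  rw [Set.mem_singleton_iff.1 ht]
  have h1 : LongInst.cj hF ζ = ζ⁻¹ := by
    rw [LongInst.cj_apply]
    exact eq_inv_of_mul_eq_one_right h
  ext i j
  fin_cases i <;> fin_cases j <;> simp [Matrix.mul_apply, Fin.sum_univ_two, h1, hz]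

/-- the form of the automorphisms of `PSU₄(q)` -/
theorem autForm_su (h2 : (2 : F) ≠ 0) : AutForm (suRep hF 2 (by norm_num)) {LongInst.cj hF} := by
  intro α hα
  obtain ⟨M, σ, rfl⟩ := ClassicalGeometry.PSUAutMain.exists_toAut hF (n := 2 + 2) (by norm_num)
    (by rintro ⟨h, -⟩; omega) α
  set R := suRep (q := q) hF 2 (by norm_num) with hRdef
  set A := (gm M).submatrix (ee 2).symm (ee 2).symm with hA
  set A' := (gm M⁻¹).submatrix (ee 2).symm (ee 2).symm with hA'
  have hMM : A * A' = 1 := by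
    rw [hA, hA', submatrix_mul_equiv, gm_mul_inv, submatrix_one_equiv]
  have hf : ∀ g, ∃ g', toAut M σ (pr _ g) = pr _ g' ∧ R.ρ g' = A * (R.ρ g).map σ * A' := by
    intro g
    refine ⟨semiConj M σ g, rfl, ?_⟩
    change (gm M * (mat g).map σ * gm M⁻¹).submatrix (ee 2).symm (ee 2).symm = _
    rw [← submatrix_mul_equiv _ _ _ (ee 2).symm, ← submatrix_mul_equiv _ _ _ (ee 2).symm]
    rfl
  have hun : ∀ t ∈ ({LongInst.cj hF} : Set (F →+* F)), Aᵀ * A.map t = 1 := by
    intro t ht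
    rw [Set.mem_singleton_iff.1 ht]
    have h3 : (gm M)ᵀ * (gm M).map (conj hF) = 1 :=
      ClassicalGeometry.GUBasic.transpose_mul_map (by have := q_pos hF; omega) (herm_gm M)
    calc Aᵀ * A.map (LongInst.cj hF) = ((gm M)ᵀ * (gm M).map (conj hF)).submatrix (ee 2).symm (ee 2).symm := by
          rw [← submatrix_mul_equiv _ _ _ (ee 2).symm]
          rfl
      _ = 1 := by rw [h3, submatrix_one_equiv]
  -- the block form
  have hfix : ∀ (x : SU (2 + 2) F q) (U : Matrix (Fin 2) (Fin 2) F), R.ρ x = fromBlocks U 0 0 1 → ∃ c : F,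
      A * fromBlocks (U.map σ) 0 0 1 * A' = c • fromBlocks U 0 0 1 := by
    intro x U hx
    obtain ⟨g', hg', hm⟩ := hf x
    rw [hα _ ⟨x, ⟨_, hx⟩, rfl⟩] at hg'
    obtain ⟨c, hc⟩ := exists_smul (R := R) hg'
    refine ⟨c, ?_⟩
    rw [← hx, ← hc, hm, hx, fromBlocks_map]
    congr 2
    congr 1
    · ext i j; simp
    · ext i j; simp
    · ext i j; fin_cases i <;> fin_cases j <;> simp
  have hmod : Model R {LongInst.cj hF} := suRep_model (q := q) hF 2 (by norm_num)
  have hU1σ : (U1 F).map σ = U1 F := by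
    ext i j
    fin_cases i <;> fin_cases j <;> simp [U1]
  obtain ⟨x1, hx1⟩ := exists_blocks hmod (cond_U1 _) (Cond.one _)
  have hc1 : A * fromBlocks (U1 F) 0 0 1 = fromBlocks (U1 F) 0 0 1 * A := by
    obtain ⟨c, hc⟩ := hfix x1 _ hx1
    rw [hU1σ] at hc
    refine eq_of_smul hMM ?_ rfl hc
    rw [trace_blocks, trace_U1]
    simpa using h2
  have hc3 : A * fromBlocks (-1) 0 0 1 = fromBlocks (-1) 0 0 1 * A := by
    have e : fromBlocks (-1 : Matrix (Fin 2) (Fin 2) F) 0 0 (1 : Matrix (Fin 2) (Fin 2) F) =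
        fromBlocks (U1 F) 0 0 1 * fromBlocks (U1 F) 0 0 1 := by
      rw [fromBlocks_multiply, Matrix.mul_zero, U1_sq]; simp
    rw [e, ← Matrix.mul_assoc, hc1, Matrix.mul_assoc, hc1, Matrix.mul_assoc]
  obtain ⟨P, B, hAB⟩ := blocks_of_comm h2 hc3
  obtain ⟨P', B', -, hP, hB⟩ := inv_blocks (A := A') (by rw [← hAB]; exact hMM)
  have hPU : P * U1 F = U1 F * P := by
    rw [hAB, fromBlocks_multiply, fromBlocks_multiply, fromBlocks_inj] at hc1
    simpa using hc1.1
  have hfixU : ∀ U : Matrix (Fin 2) (Fin 2) F, Cond {LongInst.cj hF} U → P * U.map σ = U * P := by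
    intro U hU
    obtain ⟨x, hx⟩ := exists_blocks hmod hU (Cond.one _)
    obtain ⟨c, hc⟩ := hfix x _ hx
    have h3 : A * fromBlocks (U.map σ) 0 0 1 = c • (fromBlocks U 0 0 1 * A) := by
      calc A * fromBlocks (U.map σ) 0 0 1 = A * fromBlocks (U.map σ) 0 0 1 * (A' * A) := by
            rw [mul_eq_one_comm.1 hMM, Matrix.mul_one]
        _ = A * fromBlocks (U.map σ) 0 0 1 * A' * A := by simp only [Matrix.mul_assoc]
        _ = _ := by rw [hc, smul_mul_assoc]
    rw [hAB, fromBlocks_multiply, fromBlocks_multiply, fromBlocks_smul, fromBlocks_inj] at h3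
    simp only [Matrix.zero_mul, Matrix.mul_zero, add_zero, zero_add, Matrix.mul_one, Matrix.one_mul] at h3
    have hB0 : B ≠ 0 := by
      rintro rfl
      rw [Matrix.zero_mul] at hB
      exact zero_ne_one hB
    have hc1 : c = 1 := by
      have h4 : (c - 1) • B = 0 := by rw [sub_smul, one_smul, ← h3.2.2.2, sub_self]
      exact sub_eq_zero.1 ((smul_eq_zero.1 h4).resolve_right hB0)
    rw [h3.1, hc1, one_smul]
  obtain ⟨c, d, hPcd⟩ := comm_U1 hPU
  have hζ : ∀ ζ : F, ζ * ζ ^ q = 1 → c * σ ζ = ζ * c ∧ d * σ ζ⁻¹ = ζ * d := by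
    intro ζ hζ
    have h3 := hfixU _ (diag_norm hF hζ)
    rw [hPcd] at h3
    have e1 := congrFun (congrFun h3 0) 0
    have e2 := congrFun (congrFun h3 0) 1
    simp [U1, Matrix.mul_apply, Fin.sum_univ_two] at e1 e2
    constructor
    · exact e1
    · rw [map_inv₀]; exact e2
  refine ⟨A, A', hMM, hun, ?_⟩
  by_cases hc0 : c = 0
  · have hd0 : d ≠ 0 := by
      rintro rfl
      rw [hPcd, hc0, zero_smul, zero_smul, add_zero, Matrix.zero_mul] at hP
      exact zero_ne_one hP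
    have hσ : ∀ x, σ x = x ^ q := by
      apply fix_conj hF h2
      intro ζ hn
      have hz : ζ ≠ 0 := left_ne_zero_of_mul_eq_one hn
      have h3 := (hζ ζ hn).2
      rw [mul_comm ζ d] at h3
      have h4 := mul_left_cancel₀ hd0 h3
      have h5 : ζ ^ q = ζ⁻¹ := eq_inv_of_mul_eq_one_right hn
      rw [map_inv₀] at h4
      rw [h5]
      exact inv_eq_iff_eq_inv.1 h4
    right
    intro g
    obtain ⟨g', hg', hm⟩ := hf g
    refine ⟨g', hg', ?_⟩
    have h3 : (R.ρ g)ᵀ * (R.ρ g).map σ = 1 := by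
      have h4 := ((hmod _).1 ⟨g, rfl⟩).2 _ (Set.mem_singleton _)
      have h5 : (R.ρ g).map σ = (R.ρ g).map (LongInst.cj hF) := by ext i j; exact hσ _
      rw [h5, h4]
    have h4 : (R.ρ g⁻¹)ᵀ * (R.ρ g)ᵀ = 1 := by rw [← transpose_mul, R.ρ_mul_inv, transpose_one]
    have h5 : (R.ρ g).map σ = (R.ρ g⁻¹)ᵀ := by
      calc (R.ρ g).map σ = ((R.ρ g⁻¹)ᵀ * (R.ρ g)ᵀ) * (R.ρ g).map σ := by rw [h4, Matrix.one_mul]
        _ = _ := by rw [Matrix.mul_assoc, h3, Matrix.mul_one]
    rw [hm, h5]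
  · have hσ : ∀ x, σ x = x := by
      apply fix_all hF h2
      intro ζ hn
      have h3 := (hζ ζ hn).1
      rw [mul_comm ζ c] at h3
      exact mul_left_cancel₀ hc0 h3
    left
    intro g
    obtain ⟨g', hg', hm⟩ := hf g
    refine ⟨g', hg', ?_⟩
    have e : (R.ρ g).map σ = R.ρ g := by ext i j; exact hσ _
    rw [hm, e]

/-- **(F7) for `PSU₄(q)`** -/
theorem prefl_su (ho : Odd (Fintype.card F)) : PRefl (Mem (suRep hF 2 (by norm_num))) := by
  have h2 : (2 : F) ≠ 0 := SignalizersComponents.SLQuasisimple.two_ne_zero_of_odd ho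
  obtain ⟨a, b, hq⟩ := exists_quat_su hF ho
  have hu : Uni (LongInst.cj hF) := ⟨h2, fun x => pow_q_pow_q hF x, fun _ hc => exists_norm_eq hF hc⟩
  exact prefl_of h2 (suRep_model hF 2 _) hq (rdiag_uni hu) (autForm_su hF h2)

end Cfsg.Agent.Cit.SL4R
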