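import Cfsg.Agent.Cit.Defs
import Cfsg.Agent.SignalizersComponents.CompBasic
import Cfsg.Agent.Lib.SubnormalJoin

/-!
# Subgroups isomorphic to `SL(2,3)`: elementary part

`Qt z i j` : the elements `i, j` generate a quaternion group of order 8 with centre `⟨z⟩`.
`Sl M z i j d` : `M = ⟨i, d⟩`, `d` of order 3 permuting `i → j → i j`.

Main results: `Sl.eq_or_comm` (two subnormal subgroups of this type with the same central involution in a
group without normal subgroups of odd order are equal or commute) and `step_one`.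
-/

set_option autoImplicit false
set_option linter.unusedSimpArgs false
set_option linter.unusedTactic false
set_option linter.unreachableTactic false

namespace Cfsg.Agent.Cit.SLThree

open Subgroup Cfsg

variable {X : Type*} [Group X]

/-- `i`, `j` generate a quaternion group with central involution `z` -/
structure Qt (z i j : X) : Prop where
  z2 : z * z = 1
  z1 : z ≠ 1
  i2 : i * i = z
  j2 : j * j = z
  ji : j * i = z * (i * j)

namespace Qt

variable {z i j : X}

theorem zz (h : Qt z i j) (x : X) : z * (z * x) = x := by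
  rw [← mul_assoc, h.z2, one_mul]

theorem iz (h : Qt z i j) : i * z = z * i := by
  rw [← h.i2, mul_assoc]

theorem jz (h : Qt z i j) : j * z = z * j := by
  rw [← h.j2, mul_assoc]

theorem izx (h : Qt z i j) (x : X) : i * (z * x) = z * (i * x) := by
  rw [← mul_assoc, h.iz, mul_assoc]

theorem jzx (h : Qt z i j) (x : X) : j * (z * x) = z * (j * x) := by
  rw [← mul_assoc, h.jz, mul_assoc]

theorem iix (h : Qt z i j) (x : X) : i * (i * x) = z * x := by
  rw [← mul_assoc, h.i2]

theorem jjx (h : Qt z i j) (x : X) : j * (j * x) = z * x := by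
  rw [← mul_assoc, h.j2]

theorem jix (h : Qt z i j) (x : X) : j * (i * x) = z * (i * (j * x)) := by
  rw [← mul_assoc, h.ji, mul_assoc, mul_assoc]

theorem z_inv (h : Qt z i j) : z⁻¹ = z := inv_eq_of_mul_eq_one_right h.z2

theorem i_inv (h : Qt z i j) : i⁻¹ = z * i :=
  inv_eq_of_mul_eq_one_right (by rw [h.izx, h.i2, h.z2])

theorem j_inv (h : Qt z i j) : j⁻¹ = z * j :=
  inv_eq_of_mul_eq_one_right (by rw [h.jzx, h.j2, h.z2])

/-- the eight elements -/
theorem mem_cases (h : Qt z i j) {x : X} (hx : x ∈ closure {i, j}) :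
    x = 1 ∨ x = z ∨ x = i ∨ x = z * i ∨ x = j ∨ x = z * j ∨ x = i * j ∨ x = z * (i * j) := by
  induction hx using Subgroup.closure_induction_right with
  | one => exact Or.inl rfl
  | mul_right x hx y hy ih =>
    simp only [Set.mem_insert_iff, Set.mem_singleton_iff] at hy
    rcases hy with rfl | rfl <;>
    rcases ih with rfl | rfl | rfl | rfl | rfl | rfl | rfl | rfl <;>
    simp only [mul_assoc, one_mul, mul_one, h.z2, h.zz, h.iz, h.jz, h.izx, h.jzx, h.i2, h.j2, h.iix, h.jjx, h.ji, h.jix,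
      true_or, or_true]
  | mul_inv_cancel x hx y hy ih =>
    simp only [Set.mem_insert_iff, Set.mem_singleton_iff] at hy
    rcases hy with rfl | rfl <;>
    rcases ih with rfl | rfl | rfl | rfl | rfl | rfl | rfl | rfl <;>
    simp only [h.i_inv, h.j_inv, mul_assoc, one_mul, mul_one, h.z2, h.zz, h.iz, h.jz, h.izx, h.jzx, h.i2, h.j2, h.iix,
      h.jjx, h.ji, h.jix, true_or, or_true]

theorem mem_i (_z i j : X) : i ∈ closure ({i, j} : Set X) := subset_closure (by simp)

theorem mem_j (_z i j : X) : j ∈ closure ({i, j} : Set X) := subset_closure (by simp)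

theorem mem_z (h : Qt z i j) : z ∈ closure ({i, j} : Set X) := by
  rw [← h.i2]; exact mul_mem (mem_i z i j) (mem_i z i j)

theorem not_comm (h : Qt z i j) : i * j ≠ j * i := by
  intro h1
  rw [h.ji] at h1
  exact h.z1 (mul_right_cancel (b := i * j) (by rw [one_mul]; exact h1.symm))

theorem i_ne (h : Qt z i j) : i ≠ 1 := by
  rintro rfl
  exact h.z1 (by rw [← h.i2, one_mul])

theorem sq_cases (h : Qt z i j) {x : X} (hx : x ∈ closure {i, j}) (h1 : x * x = 1) : x = 1 ∨ x = z := by
  have hz := h.z1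
  rcases h.mem_cases hx with rfl | rfl | rfl | rfl | rfl | rfl | rfl | rfl
  · exact Or.inl rfl
  · exact Or.inr rfl
  all_goals
    exfalso
    simp only [mul_assoc, one_mul, mul_one, h.z2, h.zz, h.iz, h.jz, h.izx, h.jzx, h.i2, h.j2, h.iix, h.jjx, h.ji,
      h.jix] at h1
    exact hz h1

theorem sq (h : Qt z i j) {x : X} (hx : x ∈ closure {i, j}) : x * x = 1 ∨ x * x = z := by
  rcases h.mem_cases hx with rfl | rfl | rfl | rfl | rfl | rfl | rfl | rfl <;>
    simp only [mul_assoc, one_mul, mul_one, h.z2, h.zz, h.iz, h.jz, h.izx, h.jzx, h.i2, h.j2, h.iix, h.jjx, h.ji,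
      h.jix, true_or, or_true]

theorem comm_z (h : Qt z i j) {x : X} (hx : x ∈ closure {i, j}) : x * z = z * x := by
  rcases h.mem_cases hx with rfl | rfl | rfl | rfl | rfl | rfl | rfl | rfl <;>
    simp only [mul_assoc, one_mul, mul_one, h.z2, h.zz, h.iz, h.jz, h.izx, h.jzx, h.i2, h.j2, h.iix, h.jjx, h.ji,
      h.jix]

/-- two commuting elements of order 4 -/
theorem eq_or (h : Qt z i j) {x y : X} (hx : x ∈ closure {i, j}) (hy : y ∈ closure {i, j})
    (hx2 : x * x = z) (hy2 : y * y = z) (hc : x * y = y * x) : y = x ∨ y = z * x := by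
  have hz := h.z1
  have e1 : ∀ w : X, w = z * w → False := fun w hw => hz (mul_right_cancel (b := w) (by rw [one_mul]; exact hw.symm))
  have e2 : ∀ w : X, z * w = w → False := fun w hw => hz (mul_right_cancel (b := w) (by rw [one_mul]; exact hw))
  rcases h.mem_cases hx with rfl | rfl | rfl | rfl | rfl | rfl | rfl | rfl <;>
  rcases h.mem_cases hy with rfl | rfl | rfl | rfl | rfl | rfl | rfl | rfl <;>
  simp only [mul_assoc, one_mul, mul_one, h.z2, h.zz, h.iz, h.jz, h.izx, h.jzx, h.i2, h.j2, h.iix, h.jjx, h.ji,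
      h.jix, true_or, or_true] at hx2 hy2 hc ⊢ <;>
  first
  | exact absurd hx2.symm hz
  | exact absurd hy2.symm hz
  | exact (e1 _ hc).elim
  | exact (e2 _ hc).elim

theorem central (h : Qt z i j) {x : X} (hx : x ∈ closure {i, j}) (hi : x * i = i * x) (hj : x * j = j * x) :
    x = 1 ∨ x = z := by
  rcases h.sq hx with h1 | h1
  · exact h.sq_cases hx h1
  · exfalso
    have e1 := h.eq_or hx (mem_i z i j) h1 h.i2 hi
    have e2 := h.eq_or hx (mem_j z i j) h1 h.j2 hj
    apply h.not_comm
    rcases e1 with e1 | e1 <;> rcases e2 with e2 | e2 <;>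
    rw [e1, e2] <;>
    simp only [mul_assoc, h.zz, h.comm_z hx]
    all_goals
      rw [← mul_assoc x z, h.comm_z hx, mul_assoc]

/-- every element of order 4 is inverted by another one -/
theorem exists_inv (h : Qt z i j) {x : X} (hx : x ∈ closure {i, j}) (hx2 : x * x = z) :
    ∃ y ∈ closure {i, j}, y * y = z ∧ y * x = z * (x * y) := by
  by_cases hc : x * i = i * x
  · have e1 := h.eq_or hx (mem_i z i j) hx2 h.i2 hc
    refine ⟨j, mem_j z i j, h.j2, ?_⟩
    have e3 : x = i ∨ x = z * i := by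
      rcases e1 with e1 | e1
      · exact Or.inl e1.symm
      · right; rw [e1, h.zz]
    rcases e3 with rfl | rfl
    · exact h.ji
    · simp only [mul_assoc, h.jzx, h.ji]
  · refine ⟨i, mem_i z i j, h.i2, ?_⟩
    rcases h.mem_cases hx with rfl | rfl | rfl | rfl | rfl | rfl | rfl | rfl <;>
    simp only [mul_assoc, one_mul, mul_one, h.z2, h.zz, h.iz, h.jz, h.izx, h.jzx, h.i2, h.j2, h.iix, h.jjx, h.ji,
      h.jix, not_true_eq_false] at hx2 hc ⊢
    all_goals exact absurd hx2.symm h.z1

theorem isPGroup (h : Qt z i j) : IsPGroup 2 (closure ({i, j} : Set X)) := by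
  rintro ⟨x, hx⟩
  refine ⟨2, Subtype.ext ?_⟩
  show x ^ 2 ^ 2 = 1
  have e : x ^ 2 ^ 2 = (x * x) * (x * x) := by
    rw [show (2 : ℕ) ^ 2 = 4 by norm_num, pow_succ, pow_succ, pow_succ, pow_one]
    simp only [mul_assoc]
  rw [e]
  rcases h.sq hx with h1 | h1
  · rw [h1, one_mul]
  · rw [h1, h.z2]

theorem orderOf_i (h : Qt z i j) : orderOf i = 4 := GQ.orderOf_of_sq h.i2 h.z2 h.z1

theorem card [Finite X] (h : Qt z i j) : Nat.card (closure ({i, j} : Set X)) = 8 := by
  classical
  have h1 : Nat.card (closure ({i, j} : Set X)) ≤ 8 := by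
    let s : Finset X := {1, z, i, z * i, j, z * j, i * j, z * (i * j)}
    have hs : ∀ x ∈ closure ({i, j} : Set X), x ∈ s := by
      intro x hx
      have := h.mem_cases hx
      simpa [s] using this
    have h2 : Nat.card (closure ({i, j} : Set X)) ≤ Nat.card s :=
      Nat.card_le_card_of_injective (fun x => ⟨x.1, hs x.1 x.2⟩) (fun x y hxy => Subtype.ext (by simpa using hxy))
    refine h2.trans ?_
    rw [Nat.card_eq_fintype_card, Fintype.card_coe]
    refine (Finset.card_insert_le _ _).trans (Nat.succ_le_succ ?_)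
    refine (Finset.card_insert_le _ _).trans (Nat.succ_le_succ ?_)
    exact Finset.card_le_six
  have h3 : 4 ∣ Nat.card (closure ({i, j} : Set X)) := by
    rw [← h.orderOf_i, ← Nat.card_zpowers]
    exact card_dvd_of_le (by rw [zpowers_le]; exact mem_i z i j)
  have h4 : Nat.card (closure ({i, j} : Set X)) ≠ 4 := by
    intro h5
    have h6 : zpowers i = closure ({i, j} : Set X) := by
      apply eq_of_le_of_card_ge
      · rw [zpowers_le]; exact mem_i z i j
      · rw [h5, Nat.card_zpowers, h.orderOf_i]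
    have h7 : j ∈ zpowers i := by rw [h6]; exact mem_j z i j
    obtain ⟨n, hn⟩ := mem_zpowers_iff.1 h7
    apply h.not_comm
    rw [← hn]
    exact (Commute.self_zpow i n)
  have h5 : 0 < Nat.card (closure ({i, j} : Set X)) := Nat.card_pos
  omega

end Qt

/-- `M ≅ SL(2,3)`, in coordinates -/
structure Sl (M : Subgroup X) (z i j d : X) : Prop where
  q : Qt z i j
  di : d * i * d⁻¹ = j
  dj : d * j * d⁻¹ = i * j
  d3 : d * d * d = 1
  gen : M = closure {i, d}

namespace Sl

variable {M : Subgroup X} {z i j d : X}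

theorem hi (h : Sl M z i j d) : i ∈ M := by rw [h.gen]; exact subset_closure (by simp)

theorem hd (h : Sl M z i j d) : d ∈ M := by rw [h.gen]; exact subset_closure (by simp)

theorem hj (h : Sl M z i j d) : j ∈ M := by
  rw [← h.di]; exact mul_mem (mul_mem h.hd h.hi) (inv_mem h.hd)

theorem Qle (h : Sl M z i j d) : closure {i, j} ≤ M := by
  rw [closure_le]
  rintro x (rfl | rfl)
  · exact h.hi
  · exact h.hj

theorem hz (h : Sl M z i j d) : z ∈ M := h.Qle h.q.mem_z

theorem d_inv (h : Sl M z i j d) : d⁻¹ = d * d :=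
  inv_eq_of_mul_eq_one_right (by rw [← mul_assoc]; exact h.d3)

theorem di' (h : Sl M z i j d) : d * i = j * d := by rw [← h.di]; group

theorem dj' (h : Sl M z i j d) : d * j = i * j * d := by rw [← h.dj]; group

theorem dz (h : Sl M z i j d) : d * z = z * d := by
  conv_lhs => rw [← h.q.i2]
  conv_rhs => rw [← h.q.j2]
  rw [← mul_assoc, h.di', mul_assoc, h.di', ← mul_assoc]

theorem dij (h : Sl M z i j d) : d * (i * j) * d⁻¹ = i := by
  calc d * (i * j) * d⁻¹ = (d * i * d⁻¹) * (d * j * d⁻¹) := by group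
    _ = i := by
      rw [h.di, h.dj]
      simp only [mul_assoc, one_mul, mul_one, h.q.z2, h.q.zz, h.q.iz, h.q.jz, h.q.izx, h.q.jzx, h.q.i2, h.q.j2, h.q.iix,
        h.q.jjx, h.q.ji, h.q.jix]

theorem conj_mem (h : Sl M z i j d) {x : X} (hx : x ∈ closure {i, j}) : d * x * d⁻¹ ∈ closure {i, j} := by
  have h1 : closure {i, j} ≤ (closure {i, j}).comap (MulAut.conj d).toMonoidHom := by
    rw [closure_le]
    rintro y (rfl | rfl)
    · show d * y * d⁻¹ ∈ closure ({y, j} : Set X)
      rw [h.di]; exact Qt.mem_j z _ _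
    · show d * y * d⁻¹ ∈ closure ({i, y} : Set X)
      rw [h.dj]; exact mul_mem (Qt.mem_i z _ _) (Qt.mem_j z _ _)
  exact h1 hx

theorem comm_z (h : Sl M z i j d) {x : X} (hx : x ∈ M) : x * z = z * x := by
  have h1 : M ≤ centralizer {z} := by
    rw [h.gen, closure_le]
    rintro y (rfl | rfl)
    · exact mem_centralizer_singleton_iff.2 h.q.iz
    · exact mem_centralizer_singleton_iff.2 h.dz
  exact mem_centralizer_singleton_iff.1 (h1 hx)

/-- the 24 elements -/
theorem mem_cases (h : Sl M z i j d) {x : X} (hx : x ∈ M) :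
    ∃ q ∈ closure {i, j}, x = q ∨ x = q * d ∨ x = q * (d * d) := by
  have key : ∀ y ∈ closure {i, j}, (d * y * d⁻¹) ∈ closure {i, j} := fun y hy => h.conj_mem hy
  have e1 : ∀ q y : X, q * d * y = q * (d * y * d⁻¹) * d := fun q y => by group
  have e2 : ∀ q y : X, q * (d * d) * y = q * (d * (d * y * d⁻¹) * d⁻¹) * (d * d) := fun q y => by group
  rw [h.gen] at hx
  induction hx using Subgroup.closure_induction_right with
  | one => exact ⟨1, one_mem _, Or.inl rfl⟩
  | mul_right x hx y hy ih =>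
    simp only [Set.mem_insert_iff, Set.mem_singleton_iff] at hy
    obtain ⟨q, hq, ih⟩ := ih
    rcases hy with rfl | rfl
    · have hi := Qt.mem_i z y j
      rcases ih with rfl | rfl | rfl
      · exact ⟨_, mul_mem hq hi, Or.inl rfl⟩
      · exact ⟨_, mul_mem hq (key _ hi), Or.inr (Or.inl (e1 _ _))⟩
      · exact ⟨_, mul_mem hq (key _ (key _ hi)), Or.inr (Or.inr (e2 _ _))⟩
    · rcases ih with rfl | rfl | rfl
      · exact ⟨_, hq, Or.inr (Or.inl rfl)⟩
      · exact ⟨_, hq, Or.inr (Or.inr (by rw [mul_assoc]))⟩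
      · exact ⟨_, hq, Or.inl (by rw [mul_assoc, h.d3, mul_one])⟩
  | mul_inv_cancel x hx y hy ih =>
    simp only [Set.mem_insert_iff, Set.mem_singleton_iff] at hy
    obtain ⟨q, hq, ih⟩ := ih
    rcases hy with rfl | rfl
    · have hi := inv_mem (Qt.mem_i z y j)
      rcases ih with rfl | rfl | rfl
      · exact ⟨_, mul_mem hq hi, Or.inl rfl⟩
      · exact ⟨_, mul_mem hq (key _ hi), Or.inr (Or.inl (e1 _ _))⟩
      · exact ⟨_, mul_mem hq (key _ (key _ hi)), Or.inr (Or.inr (e2 _ _))⟩
    · rcases ih with rfl | rfl | rfl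
      · exact ⟨_, hq, Or.inr (Or.inr (by rw [h.d_inv]))⟩
      · exact ⟨_, hq, Or.inl (by group)⟩
      · exact ⟨_, hq, Or.inr (Or.inl (by group))⟩

theorem d_ne (h : Sl M z i j d) : d ≠ 1 := by
  rintro rfl
  have h1 := h.di
  simp only [one_mul, inv_one, mul_one] at h1
  exact h.q.not_comm (by rw [h1])

theorem orderOf_d (h : Sl M z i j d) : orderOf d = 3 :=
  orderOf_eq_prime (by rw [pow_succ, pow_succ, pow_one]; exact h.d3) h.d_ne

/-- elements of order 3 and 2-power order -/
theorem eq_one_of_cube {x : X} (h3 : x * x * x = 1) {n : ℕ} (hn : x ^ 2 ^ n = 1) : x = 1 := by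
  have h1 : orderOf x ∣ 3 := orderOf_dvd_of_pow_eq_one (by rw [pow_succ, pow_succ, pow_one]; exact h3)
  have h2 : orderOf x ∣ 2 ^ n := orderOf_dvd_of_pow_eq_one hn
  have h4 : Nat.Coprime 3 (2 ^ n) := Nat.Coprime.pow_right n (by norm_num)
  have h5 := Nat.dvd_gcd h1 h2
  rw [h4] at h5
  exact orderOf_eq_one_iff.1 (Nat.dvd_one.1 h5)

/-- a 2-element of `M` lies in the quaternion group -/
theorem mem_Q (h : Sl M z i j d) {x : X} (hx : x ∈ M) {P : Subgroup X} (hP : IsPGroup 2 P) (hQP : closure {i, j} ≤ P)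
    (hxP : x ∈ P) : x ∈ closure {i, j} := by
  have key : d ∉ P := by
    intro hd
    obtain ⟨n, hn⟩ := hP ⟨d, hd⟩
    exact h.d_ne (eq_one_of_cube h.d3 (n := n) (by simpa using congrArg Subtype.val hn))
  obtain ⟨q, hq, h1⟩ := h.mem_cases hx
  rcases h1 with rfl | rfl | rfl
  · exact hq
  · exact absurd ((P.mul_mem_cancel_left (hQP hq)).1 hxP) key
  · exfalso
    have h2 := (P.mul_mem_cancel_left (hQP hq)).1 hxP
    apply key
    have h3 : d = (d * d) * (d * d) := by
      rw [← mul_assoc, h.d3, one_mul]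
    rw [h3]
    exact mul_mem h2 h2

theorem card [Finite X] (h : Sl M z i j d) : Nat.card M = 24 := by
  have h1 : Nat.card M ≤ 24 := by
    let f : (closure ({i, j} : Set X)) × Fin 3 → M := fun x => ⟨x.1 * d ^ (x.2 : ℕ), mul_mem (h.Qle x.1.2) (pow_mem h.hd _)⟩
    have hf : Function.Surjective f := by
      rintro ⟨x, hx⟩
      obtain ⟨q, hq, h2⟩ := h.mem_cases hx
      rcases h2 with rfl | rfl | rfl
      · exact ⟨(⟨x, hq⟩, 0), Subtype.ext (by simp [f])⟩
      · exact ⟨(⟨q, hq⟩, 1), Subtype.ext (by simp [f])⟩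
      · exact ⟨(⟨q, hq⟩, 2), Subtype.ext (by simp [f, pow_two])⟩
    have h2 := Nat.card_le_card_of_surjective f hf
    rw [Nat.card_prod, h.q.card, Nat.card_fin] at h2
    exact h2
  have h2 : 8 ∣ Nat.card M := by rw [← h.q.card]; exact card_dvd_of_le h.Qle
  have h3 : 3 ∣ Nat.card M := by
    rw [← h.orderOf_d, ← Nat.card_zpowers]
    exact card_dvd_of_le (by rw [zpowers_le]; exact h.hd)
  have h4 : 0 < Nat.card M := Nat.card_pos
  omega

theorem eq_of_le [Finite X] {M' : Subgroup X} {z' i' j' d' : X} (h : Sl M z i j d) (h' : Sl M' z' i' j' d') (hle : M ≤ M') :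
    M = M' := eq_of_le_of_card_ge hle (by rw [h.card, h'.card])

theorem map {Y : Type*} [Group Y] (h : Sl M z i j d) (f : X →* Y) (hf : f z ≠ 1) :
    Sl (M.map f) (f z) (f i) (f j) (f d) where
  q := ⟨by rw [← map_mul, h.q.z2, map_one], hf, by rw [← map_mul, h.q.i2], by rw [← map_mul, h.q.j2],
    by rw [← map_mul, ← map_mul, ← map_mul, h.q.ji]⟩
  di := by rw [← map_inv, ← map_mul, ← map_mul, h.di]
  dj := by rw [← map_inv, ← map_mul, ← map_mul, ← map_mul, h.dj]
  d3 := by rw [← map_mul, ← map_mul, h.d3, map_one]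
  gen := by rw [h.gen, MonoidHom.map_closure, Set.image_pair]

theorem of_cj (h : Sl M z i j d) (g : X) :
    Sl (Cit.cj g M) (g * z * g⁻¹) (g * i * g⁻¹) (g * j * g⁻¹) (g * d * g⁻¹) := by
  have h1 := h.map (MulAut.conj g).toMonoidHom (by
    intro h2
    exact h.q.z1 ((MulAut.conj g).injective (by simpa using h2)))
  exact h1

end Sl

end Cfsg.Agent.Cit.SLThree
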