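import Cfsg.Agent.Cit.SLThreeSyl
import Cfsg.Agent.Cit.CorTwo

/-!
# Members of type `SL(2,3)`, coordinate free
-/

set_option autoImplicit false
set_option linter.unusedSimpArgs false
set_option linter.style.haveILetI false

namespace Cfsg.Agent.Cit.SLThree

open Subgroup Cfsg

variable {G : Type*} [Group G]

theorem Qt.anti {z i j : G} (h : Qt z i j) {x y : G} (hx : x ∈ closure {i, j}) (hy : y ∈ closure {i, j}) :
    y * x = x * y ∨ y * x = z * (x * y) := by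
  rcases h.mem_cases hx with rfl | rfl | rfl | rfl | rfl | rfl | rfl | rfl <;>
  rcases h.mem_cases hy with rfl | rfl | rfl | rfl | rfl | rfl | rfl | rfl <;>
  simp only [mul_assoc, one_mul, mul_one, h.z2, h.zz, h.iz, h.jz, h.izx, h.jzx, h.i2, h.j2, h.iix, h.jjx, h.ji,
      h.jix, true_or, or_true]

/-- the element of order three, or its inverse, permutes `x → k → x k` up to signs -/
theorem Qt.perm {z i j d : G} (h : Qt z i j) (hdi : d * i * d⁻¹ = j) (hdj : d * j * d⁻¹ = i * j) {x k : G}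
    (hx : x ∈ closure {i, j}) (hk : k ∈ closure {i, j}) (hx2 : x * x = z) (hk2 : k * k = z)
    (hkx : k * x = z * (x * k)) :
    ∃ e, (e = d ∨ e = d⁻¹) ∧ (e * x * e⁻¹ = k ∨ e * x * e⁻¹ = z * k) ∧
      (e * k * e⁻¹ = x * k ∨ e * k * e⁻¹ = z * (x * k)) := by
  have hz := h.z1
  have e1 : ∀ w : G, w = z * w → False := fun w hw => hz (mul_right_cancel (b := w) (by rw [one_mul]; exact hw.symm))
  have e2 : ∀ w : G, z * w = w → False := fun w hw => hz (mul_right_cancel (b := w) (by rw [one_mul]; exact hw))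
  have di' : d * i = j * d := by rw [← hdi]; group
  have dj' : d * j = i * j * d := by rw [← hdj]; group
  have dz : d * z = z * d := by
    conv_lhs => rw [← h.i2]
    conv_rhs => rw [← h.j2]
    rw [← mul_assoc, di', mul_assoc, di', ← mul_assoc]
  have c1 : d * z * d⁻¹ = z := by rw [dz, mul_assoc, mul_inv_cancel, mul_one]
  have c2 : d * (i * j) * d⁻¹ = i := by
    calc d * (i * j) * d⁻¹ = (d * i * d⁻¹) * (d * j * d⁻¹) := by group
      _ = i := by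
        rw [hdi, hdj]
        simp only [mul_assoc, one_mul, mul_one, h.z2, h.zz, h.iz, h.jz, h.izx, h.jzx, h.i2, h.j2, h.iix,
          h.jjx, h.ji, h.jix]
  have cz : ∀ w, d * (z * w) * d⁻¹ = z * (d * w * d⁻¹) := by
    intro w
    calc d * (z * w) * d⁻¹ = (d * z * d⁻¹) * (d * w * d⁻¹) := by group
      _ = _ := by rw [c1]
  have b1 : d⁻¹ * z * d = z := by rw [mul_assoc, ← dz, inv_mul_cancel_left]
  have bj : d⁻¹ * j * d = i := by rw [← hdi]; group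
  have bij : d⁻¹ * (i * j) * d = j := by rw [← hdj]; group
  have bi : d⁻¹ * i * d = i * j := by
    have : i = d * (i * j) * d⁻¹ := c2.symm
    calc d⁻¹ * i * d = d⁻¹ * (d * (i * j) * d⁻¹) * d := by rw [← this]
      _ = i * j := by group
  have bz : ∀ w, d⁻¹ * (z * w) * d = z * (d⁻¹ * w * d) := by
    intro w
    calc d⁻¹ * (z * w) * d = (d⁻¹ * z * d) * (d⁻¹ * w * d) := by group
      _ = _ := by rw [b1]
  have key : ((d * x * d⁻¹ = k ∨ d * x * d⁻¹ = z * k) ∧ (d * k * d⁻¹ = x * k ∨ d * k * d⁻¹ = z * (x * k))) ∨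
      ((d⁻¹ * x * d = k ∨ d⁻¹ * x * d = z * k) ∧ (d⁻¹ * k * d = x * k ∨ d⁻¹ * k * d = z * (x * k))) := by
    rcases h.mem_cases hx with rfl | rfl | rfl | rfl | rfl | rfl | rfl | rfl <;>
    rcases h.mem_cases hk with rfl | rfl | rfl | rfl | rfl | rfl | rfl | rfl <;>
    simp only [mul_assoc, one_mul, mul_one, h.z2, h.zz, h.iz, h.jz, h.izx, h.jzx, h.i2, h.j2, h.iix, h.jjx, h.ji,
        h.jix, true_or, or_true] at hx2 hk2 hkx <;>
    first
    | exact absurd hx2.symm hz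
    | exact absurd hk2.symm hz
    | exact (e1 _ hkx).elim
    | exact (e2 _ hkx).elim
    | exact absurd hkx hz
    | exact absurd hkx.symm hz
    | (simp only [cz, bz, hdi, hdj, c2, bi, bj, bij, mul_assoc, one_mul, mul_one, h.z2, h.zz, h.iz, h.jz, h.izx, h.jzx,
        h.i2, h.j2, h.iix, h.jjx, h.ji, h.jix, true_or, or_true, true_and, and_true])
  rcases key with key | key
  · exact ⟨d, Or.inl rfl, key⟩
  · exact ⟨d⁻¹, Or.inr rfl, by rwa [inv_inv]⟩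

/-- `M` is a member at the involution `s` -/
def Mem (M : Subgroup G) (s : G) : Prop := ∃ i j d, SlG M s i j d

namespace Mem

variable {M M₁ M₂ : Subgroup G} {s : G}

theorem cj (h : Mem M s) (g : G) : Mem (Cit.cj g M) (g * s * g⁻¹) := by
  obtain ⟨i, j, d, h⟩ := h
  exact ⟨_, _, _, h.of_cj g⟩

theorem cj_of_comm (h : Mem M s) {g : G} (hg : g * s = s * g) : Mem (Cit.cj g M) s := by
  have := h.cj g
  rwa [hg, mul_assoc, mul_inv_cancel, mul_one] at this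

theorem s_mem (h : Mem M s) : s ∈ M := by
  obtain ⟨i, j, d, h⟩ := h; exact h.hs

theorem s2 (h : Mem M s) : s * s = 1 := by
  obtain ⟨i, j, d, h⟩ := h; exact h.q.z2

theorem s_ne (h : Mem M s) : s ≠ 1 := by
  obtain ⟨i, j, d, h⟩ := h; exact h.q.z1

theorem le (h : Mem M s) : M ≤ centralizer {s} := by
  obtain ⟨i, j, d, h⟩ := h; exact h.le

theorem hO (h : Mem M s) : O s ≤ M := by
  obtain ⟨i, j, d, h⟩ := h; exact h.hO

theorem sC (h : Mem M s) : s ∈ centralizer ({s} : Set G) := h.le h.s_mem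

theorem comm_s (h : Mem M s) {x : G} (hx : x ∈ M) : x * s = s * x :=
  mem_centralizer_singleton_iff.1 (h.le hx)

variable [Finite G]

theorem s_not_mem_O (h : Mem M s) : s ∉ O s := by
  intro h1
  obtain ⟨i, j, d, h⟩ := h
  exact h.q.z1 (eq_one_of_mem_O h1 h.q.isPGroup h.q.mem_z)

theorem eq_or_comm (h₁ : Mem M₁ s) (h₂ : Mem M₂ s) : M₁ = M₂ ∨ ∀ x ∈ M₁, ∀ y ∈ M₂, x * y * x⁻¹ * y⁻¹ ∈ O s := by
  obtain ⟨i, j, d, h₁⟩ := h₁
  obtain ⟨i', j', d', h₂⟩ := h₂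
  exact h₁.eq_or_comm h₂

theorem comm_of_ne (h₁ : Mem M₁ s) (h₂ : Mem M₂ s) (hne : M₁ ≠ M₂) {T : Subgroup G} (hT : IsPGroup 2 T) {x y : G}
    (hx : x ∈ M₁) (hxT : x ∈ T) (hy : y ∈ M₂) (hyT : y ∈ T) : x * y = y * x := by
  obtain ⟨i, j, d, h₁⟩ := h₁
  obtain ⟨i', j', d', h₂⟩ := h₂
  exact h₁.comm_of_ne h₂ hne hT hx hxT hy hyT

/-- members normalise each other -/
theorem cj_eq (h₁ : Mem M₁ s) (h₂ : Mem M₂ s) {x : G} (hx : x ∈ M₁) : Cit.cj x M₂ = M₂ := by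
  rw [← mem_normalizer_iff_cj]
  rcases h₁.eq_or_comm h₂ with h | h
  · rw [← h]; exact le_normalizer hx
  · have key : ∀ x ∈ M₁, ∀ y ∈ M₂, x * y * x⁻¹ ∈ M₂ := by
      intro x hx y hy
      have e : x * y * x⁻¹ = (x * y * x⁻¹ * y⁻¹) * y := by group
      rw [e]
      exact mul_mem (h₂.hO (h x hx y hy)) hy
    rw [mem_normalizer_iff]
    intro y
    constructor
    · exact key x hx y
    · intro hy
      have := key x⁻¹ (inv_mem hx) _ hy
      have e : x⁻¹ * (x * y * x⁻¹) * x⁻¹⁻¹ = y := by group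
      rwa [e] at this

theorem coords (h : Mem M s) {T : Subgroup G} (hT : Syl T (centralizer {s})) :
    ∃ i j d, SlG M s i j d ∧ M ⊓ T = closure {i, j} := by
  obtain ⟨i, j, d, h⟩ := h
  exact h.exists_syl hT

section Syl

variable {T : Subgroup G} {x y : G}

theorem s_mem_syl (h : Mem M s) (hT : Syl T (centralizer {s})) : s ∈ T := by
  obtain ⟨i, j, d, h, hq⟩ := h.coords hT
  have := h.q.mem_z
  rw [← hq] at this
  exact this.2

theorem sq_eq_one (h : Mem M s) (hT : Syl T (centralizer {s})) (hx : x ∈ M) (hxT : x ∈ T) (h1 : x * x = 1) :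
    x = 1 ∨ x = s := by
  obtain ⟨i, j, d, h, hq⟩ := h.coords hT
  exact h.q.sq_cases (by rw [← hq]; exact ⟨hx, hxT⟩) h1

theorem anti (h : Mem M s) (hT : Syl T (centralizer {s})) (hx : x ∈ M) (hxT : x ∈ T) (hy : y ∈ M) (hyT : y ∈ T) :
    y * x = x * y ∨ y * x = s * (x * y) := by
  obtain ⟨i, j, d, h, hq⟩ := h.coords hT
  exact h.q.anti (by rw [← hq]; exact ⟨hx, hxT⟩) (by rw [← hq]; exact ⟨hy, hyT⟩)

theorem eq_or (h : Mem M s) (hT : Syl T (centralizer {s})) (hx : x ∈ M) (hxT : x ∈ T) (hy : y ∈ M) (hyT : y ∈ T)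
    (hx2 : x * x = s) (hy2 : y * y = s) (hc : x * y = y * x) : y = x ∨ y = s * x := by
  obtain ⟨i, j, d, h, hq⟩ := h.coords hT
  exact h.q.eq_or (by rw [← hq]; exact ⟨hx, hxT⟩) (by rw [← hq]; exact ⟨hy, hyT⟩) hx2 hy2 hc

theorem exists_inv (h : Mem M s) (hT : Syl T (centralizer {s})) (hx : x ∈ M) (hxT : x ∈ T) (hx2 : x * x = s) :
    ∃ y ∈ M, y ∈ T ∧ y * y = s ∧ y * x = s * (x * y) := by
  obtain ⟨i, j, d, h, hq⟩ := h.coords hT
  obtain ⟨y, hy, h1, h2⟩ := h.q.exists_inv (by rw [← hq]; exact ⟨hx, hxT⟩) hx2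
  rw [← hq] at hy
  exact ⟨y, hy.1, hy.2, h1, h2⟩

theorem sq (h : Mem M s) (hT : Syl T (centralizer {s})) (hx : x ∈ M) (hxT : x ∈ T) : x * x = 1 ∨ x * x = s := by
  obtain ⟨i, j, d, h, hq⟩ := h.coords hT
  exact h.q.sq (by rw [← hq]; exact ⟨hx, hxT⟩)

theorem mem_NN (h : Mem M s) (hT : Syl T (centralizer {s})) (hx : x ∈ M) (hxT : x ∈ T) : x ∈ NN s := by
  obtain ⟨i, j, d, h, hq⟩ := h.coords hT
  exact h.Q_le_NN (by rw [← hq]; exact ⟨hx, hxT⟩)

/-- an involution normalising `M` and not centralising `M ⊓ T` inverts an element of order 4 of `M ⊓ T` -/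
theorem exists_inverted (h : Mem M s) (hT : Syl T (centralizer {s})) {t q : G} (ht : t * t = 1) (htM : Cit.cj t M = M)
    (htT : t ∈ T) (hq : q ∈ M) (hqT : q ∈ T) (hne : t * q ≠ q * t) : ∃ k ∈ M, k ∈ T ∧ k * k = s ∧ t * k = s * (k * t) := by
  have htC : t * s = s * t := mem_centralizer_singleton_iff.1 (hT.1 htT)
  have ti : t⁻¹ = t := inv_eq_of_mul_eq_one_right ht
  have hq2 : q * q = s := by
    rcases h.sq hT hq hqT with h1 | h1
    · exfalso
      rcases h.sq_eq_one hT hq hqT h1 with rfl | rfl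
      · exact hne (by rw [mul_one, one_mul])
      · exact hne htC
    · exact h1
  have hq'M : t * q * t⁻¹ ∈ M := by rw [← htM]; exact conj_mem_cj hq
  have hq'T : t * q * t⁻¹ ∈ T := mul_mem (mul_mem htT hqT) (inv_mem htT)
  have hq'2 : (t * q * t⁻¹) * (t * q * t⁻¹) = s := by
    calc (t * q * t⁻¹) * (t * q * t⁻¹) = t * (q * q) * t⁻¹ := by group
      _ = s := by rw [hq2, htC, mul_assoc, mul_inv_cancel, mul_one]
  rcases h.anti hT hq hqT hq'M hq'T with h1 | h1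
  · rcases h.eq_or hT hq hqT hq'M hq'T hq2 hq'2 h1.symm with h2 | h2
    · exact absurd (by rw [mul_inv_eq_iff_eq_mul] at h2; exact h2) hne
    · refine ⟨q, hq, hqT, hq2, ?_⟩
      rw [mul_inv_eq_iff_eq_mul] at h2
      rw [h2, mul_assoc]
  · refine ⟨q * (t * q * t⁻¹), mul_mem hq hq'M, mul_mem hqT hq'T, ?_, ?_⟩
    · have hsq : q * s = s * q := h.comm_s hq
      calc q * (t * q * t⁻¹) * (q * (t * q * t⁻¹)) = q * ((t * q * t⁻¹) * q) * (t * q * t⁻¹) := by group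
        _ = q * (s * (q * (t * q * t⁻¹))) * (t * q * t⁻¹) := by rw [h1]
        _ = (q * s) * q * ((t * q * t⁻¹) * (t * q * t⁻¹)) := by group
        _ = s * (q * q) * s := by rw [hq'2, hsq]; group
        _ = s := by rw [hq2, h.s2, one_mul]
    · calc t * (q * (t * q * t⁻¹)) = (t * q * t⁻¹) * (t * t) * q * t⁻¹ := by group
        _ = ((t * q * t⁻¹) * q) * t := by rw [ht, mul_one, ti]
        _ = s * (q * (t * q * t⁻¹)) * t := by rw [h1]
        _ = _ := by group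

end Syl

/-- **exactly two members are moved by `t`** -/
theorem eq_of_moved (h₁ : Mem M₁ s) (h₂ : Mem M₂ s) (h : Mem M s) {y t m : G} (hy : y ∈ M₁) (hyt : y * t ∈ M₂)
    (hm : m ∈ M) (hmt : t * m * t⁻¹ * m⁻¹ ∉ O s) : M = M₁ ∨ M = M₂ := by
  by_contra hcon
  rw [not_or] at hcon
  apply hmt
  have e1 := (h.eq_or_comm h₁).resolve_left hcon.1 m hm y hy
  have e2 := (h.eq_or_comm h₂).resolve_left hcon.2 m hm _ hyt
  have hmC := h.le hm
  have hyC := h₁.le hy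
  have htC : t ∈ centralizer ({s} : Set G) := by
    have := mul_mem (inv_mem hyC) (h₂.le hyt)
    rwa [inv_mul_cancel_left] at this
  have f1 : pr s ⟨m, hmC⟩ * pr s ⟨y, hyC⟩ = pr s ⟨y, hyC⟩ * pr s ⟨m, hmC⟩ := by
    have : pr s (⟨m, hmC⟩ * ⟨y, hyC⟩ * ⟨m, hmC⟩⁻¹ * ⟨y, hyC⟩⁻¹) = 1 := pr_eq_one.2 e1
    rw [map_mul, map_mul, map_mul, map_inv, map_inv, mul_inv_eq_one, mul_inv_eq_iff_eq_mul] at this
    exact this
  have f2 : pr s ⟨m, hmC⟩ * (pr s ⟨y, hyC⟩ * pr s ⟨t, htC⟩) = (pr s ⟨y, hyC⟩ * pr s ⟨t, htC⟩) * pr s ⟨m, hmC⟩ := by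
    have : pr s (⟨m, hmC⟩ * (⟨y, hyC⟩ * ⟨t, htC⟩) * ⟨m, hmC⟩⁻¹ * (⟨y, hyC⟩ * ⟨t, htC⟩)⁻¹) = 1 := pr_eq_one.2 e2
    rw [map_mul, map_mul, map_mul, map_inv, map_inv, mul_inv_eq_one, mul_inv_eq_iff_eq_mul, map_mul] at this
    exact this
  have f3 : pr s ⟨m, hmC⟩ * pr s ⟨t, htC⟩ = pr s ⟨t, htC⟩ * pr s ⟨m, hmC⟩ := by
    rw [← mul_assoc, f1, mul_assoc, mul_assoc] at f2
    exact mul_left_cancel f2
  have f4 : pr s (⟨t, htC⟩ * ⟨m, hmC⟩ * ⟨t, htC⟩⁻¹ * ⟨m, hmC⟩⁻¹) = 1 := by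
    rw [map_mul, map_mul, map_mul, map_inv, map_inv, mul_inv_eq_one, mul_inv_eq_iff_eq_mul]
    exact f3.symm
  exact pr_eq_one.1 f4

end Mem

/-- lifting an automorphism of a 2-subgroup modulo the odd core -/
theorem exists_lift [Finite G] {s g : G} {U : Subgroup G} (hU : IsPGroup 2 U) (hUC : U ≤ centralizer {s})
    (hg : g ∈ centralizer ({s} : Set G)) (h : ∀ u ∈ U, ∃ v ∈ U, g * u * g⁻¹ * v⁻¹ ∈ O s) :
    ∃ d ∈ centralizer ({s} : Set G), ∀ u ∈ U, ∀ v ∈ U, g * u * g⁻¹ * v⁻¹ ∈ O s → d * u * d⁻¹ = v := by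
  haveI : Fact (Nat.Prime 2) := ⟨Nat.prime_two⟩
  obtain ⟨n, hn, hnU⟩ := Lib.LocalCore.exists_mul_mem_normalizer 2 (oddCore (centralizer ({s} : Set G)))
    (U.subgroupOf (centralizer {s})) (Lib.Cores.pPrimeCore_coprime 2) hU.comap_subtype
    (g := (⟨g, hg⟩ : centralizer ({s} : Set G))) (by
      rintro ⟨u, huC⟩ hu
      obtain ⟨v, hv, h1⟩ := h u hu
      have h2 : (⟨g, hg⟩ * ⟨u, huC⟩ * ⟨g, hg⟩⁻¹ : centralizer ({s} : Set G)) =
          (⟨g, hg⟩ * ⟨u, huC⟩ * ⟨g, hg⟩⁻¹ * ⟨v, hUC hv⟩⁻¹) * ⟨v, hUC hv⟩ := by group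
      rw [h2]
      refine mul_mem ((le_sup_right : oddCore (centralizer ({s} : Set G)) ≤ _) ?_)
        ((le_sup_left : U.subgroupOf (centralizer ({s} : Set G)) ≤ _) hv)
      exact mem_O.1 h1)
  have hnO : (n : G) ∈ O s := mem_O.2 hn
  refine ⟨n * g, mul_mem n.2 hg, ?_⟩
  intro u hu v hv h1
  have h2 : (n * g) * u * (n * g)⁻¹ ∈ U := by
    have := (mem_normalizer_iff.1 hnU (⟨u, hUC hu⟩ : centralizer ({s} : Set G))).1 hu
    exact this
  have h3 : (n * g) * u * (n * g)⁻¹ * v⁻¹ ∈ O s := by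
    have e : ((n : G) * g) * u * (n * g)⁻¹ * v⁻¹ = n * (g * u * g⁻¹ * v⁻¹) * (v * (n : G)⁻¹ * v⁻¹) := by group
    rw [e]
    exact mul_mem (mul_mem hnO h1) ((mem_normalizer_iff.1 (cent_le s (hUC hv)) _).1 (inv_mem hnO))
  have h4 := eq_one_of_mem_O h3 hU (mul_mem h2 (inv_mem hv))
  exact mul_inv_eq_one.1 h4

end Cfsg.Agent.Cit.SLThree
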