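import Cfsg.Agent.Cit.SLThree

/-!
# Subnormal subgroups `SL(2,3)` with the same involution are equal or commute
-/

set_option autoImplicit false
set_option linter.unusedSimpArgs false

namespace Cfsg.Agent.Cit.SLThree

open Subgroup Cfsg

variable {X : Type*} [Group X]

/-- elementwise commuting subgroups -/
def Cm (A B : Subgroup X) : Prop := ∀ x ∈ A, ∀ y ∈ B, x * y = y * x

theorem Cm.symm {A B : Subgroup X} (h : Cm A B) : Cm B A := fun x hx y hy => (h y hy x hx).symm

theorem cube_mul {a b : X} (h : a * b = b * a) (ha : a * a * a = 1) (hb : b * b * b = 1) :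
    (a * b) * (a * b) * (a * b) = 1 := by
  have hc : Commute a b := h
  have h1 := hc.mul_pow 3
  rw [pow_succ, pow_succ, pow_one, pow_succ, pow_succ, pow_one, pow_succ, pow_succ, pow_one, ha, hb, one_mul] at h1
  exact h1

theorem cube_inv {a : X} (ha : a * a * a = 1) : a⁻¹ * a⁻¹ * a⁻¹ = 1 := by
  rw [← mul_inv_rev, ← mul_inv_rev, ← mul_assoc, ha, inv_one]

theorem cube_conj {a : X} (ha : a * a * a = 1) (g : X) : (g * a * g⁻¹) * (g * a * g⁻¹) * (g * a * g⁻¹) = 1 := by
  calc (g * a * g⁻¹) * (g * a * g⁻¹) * (g * a * g⁻¹) = g * (a * a * a) * g⁻¹ := by group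
    _ = 1 := by rw [ha, mul_one, mul_inv_cancel]

namespace Sl

variable {M : Subgroup X} {z i j d : X}

/-- a subgroup normalised by `M` and containing an element of `M` outside `⟨z⟩` contains `⟨i, j⟩` -/
theorem normal_gen (h : Sl M z i j d) {N : Subgroup X} (hN : M ≤ normalizer (N : Set X)) {t : X} (ht : t ∈ N)
    (htM : t ∈ M) (h1 : t ≠ 1) (hz : t ≠ z) : closure {i, j} ≤ N := by
  have cjN : ∀ m ∈ M, ∀ x ∈ N, m * x * m⁻¹ ∈ N := fun m hm x hx => (mem_normalizer_iff.1 (hN hm) x).1 hx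
  -- elements of the quaternion group
  have key : ∀ t ∈ N, t ∈ closure ({i, j} : Set X) → t ≠ 1 → t ≠ z → closure {i, j} ≤ N := by
    intro t ht htQ h1 hz
    have hzN : z ∈ N := by
      have h2 : t * t = z := by
        rcases h.q.sq htQ with h2 | h2
        · rcases h.q.sq_cases htQ h2 with h3 | h3
          · exact absurd h3 h1
          · exact absurd h3 hz
        · exact h2
      rw [← h2]; exact mul_mem ht ht
    have hzx : ∀ x, z * x ∈ N → x ∈ N := fun x hx => (N.mul_mem_cancel_left hzN).1 hx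
    have fin : i ∈ N → closure {i, j} ≤ N := by
      intro hi
      rw [closure_le]
      rintro x (rfl | rfl)
      · exact hi
      · show x ∈ N
        rw [← h.di]; exact cjN _ h.hd _ hi
    have fj : j ∈ N → i ∈ N := by
      intro hj
      have h3 := cjN _ h.hd _ (cjN _ h.hd _ hj)
      rwa [h.dj, h.dij] at h3
    have fk : i * j ∈ N → i ∈ N := by
      intro hj
      have h3 := cjN _ h.hd _ hj
      rwa [h.dij] at h3
    rcases h.q.mem_cases htQ with rfl | rfl | rfl | rfl | rfl | rfl | rfl | rfl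
    · exact absurd rfl h1
    · exact absurd rfl hz
    · exact fin ht
    · exact fin (hzx _ ht)
    · exact fin (fj ht)
    · exact fin (fj (hzx _ ht))
    · exact fin (fk ht)
    · exact fin (fk (hzx _ ht))
  obtain ⟨q, hq, hx⟩ := h.mem_cases htM
  -- the commutator of `t` with `i`
  have hu : (t * i * t⁻¹) * i⁻¹ ∈ N := by
    have h2 : (t * i * t⁻¹) * i⁻¹ = t * (i * t⁻¹ * i⁻¹) := by group
    rw [h2]
    exact mul_mem ht (cjN _ h.hi _ (inv_mem ht))
  have hq' : ∀ w ∈ closure ({i, j} : Set X), q * w * q⁻¹ ∈ closure ({i, j} : Set X) :=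
    fun w hw => mul_mem (mul_mem hq hw) (inv_mem hq)
  -- `q w q⁻¹ ∈ {w, z w}`
  have hcw : ∀ w ∈ closure ({i, j} : Set X), q * w * q⁻¹ = w ∨ q * w * q⁻¹ = z * w := by
    intro w hw
    rcases h.q.mem_cases hq with rfl | rfl | rfl | rfl | rfl | rfl | rfl | rfl <;>
    rcases h.q.mem_cases hw with rfl | rfl | rfl | rfl | rfl | rfl | rfl | rfl <;>
    simp only [mul_inv_rev, h.q.z_inv, h.q.i_inv, h.q.j_inv, inv_one,
      mul_assoc, one_mul, mul_one, h.q.z2, h.q.zz, h.q.iz, h.q.jz, h.q.izx, h.q.jzx, h.q.i2, h.q.j2,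
      h.q.iix, h.q.jjx, h.q.ji, h.q.jix, true_or, or_true]
  have hne : ∀ w, (w = j ∨ w = i * j) → ∀ v, (v = w ∨ v = z * w) → v * i⁻¹ ∈ N → closure {i, j} ≤ N := by
    intro w hw v hv hvN
    have hz1 := h.q.z1
    refine key _ hvN ?_ ?_ ?_
    · refine mul_mem ?_ (inv_mem (Qt.mem_i z i j))
      have hwQ : w ∈ closure ({i, j} : Set X) := by
        rcases hw with rfl | rfl
        · exact Qt.mem_j z _ _
        · exact mul_mem (Qt.mem_i z _ _) (Qt.mem_j z _ _)
      rcases hv with rfl | rfl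
      · exact hwQ
      · exact mul_mem h.q.mem_z hwQ
    · intro h3
      have h4 : v = i := mul_inv_eq_one.1 h3
      apply h.q.not_comm
      have h5 : j = i ∨ j = z * i ∨ j = 1 ∨ j = z := by
        rcases hw with rfl | rfl <;> rcases hv with rfl | rfl
        · exact Or.inl h4
        · exact Or.inr (Or.inl (by rw [← h4, h.q.zz]))
        · exact Or.inr (Or.inr (Or.inl (mul_left_cancel (h4.trans (mul_one i).symm))))
        · refine Or.inr (Or.inr (Or.inr ?_))
          rw [← h.q.izx] at h4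
          have h6 : z * j = 1 := mul_left_cancel (h4.trans (mul_one i).symm)
          rw [← h.q.zz j, h6, mul_one]
      rcases h5 with h5 | h5 | h5 | h5 <;> rw [h5]
      · rw [h.q.izx, mul_assoc]
      · rw [one_mul, mul_one]
      · exact h.q.iz
    · intro h3
      have h4 : v = z * i := mul_inv_eq_iff_eq_mul.1 h3
      apply h.q.not_comm
      have h5 : j = i ∨ j = z * i ∨ j = 1 ∨ j = z := by
        rcases hw with rfl | rfl <;> rcases hv with rfl | rfl
        · exact Or.inr (Or.inl h4)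
        · exact Or.inl (mul_left_cancel h4)
        · refine Or.inr (Or.inr (Or.inr ?_))
          rw [← h.q.iz] at h4
          exact mul_left_cancel h4
        · exact Or.inr (Or.inr (Or.inl (mul_left_cancel ((mul_left_cancel h4).trans (mul_one i).symm))))
      rcases h5 with h5 | h5 | h5 | h5 <;> rw [h5]
      · rw [h.q.izx, mul_assoc]
      · rw [one_mul, mul_one]
      · exact h.q.iz
  rcases hx with rfl | rfl | rfl
  · exact key _ ht hq h1 hz
  · have h2 : q * d * i * (q * d)⁻¹ = q * j * q⁻¹ := by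
      rw [← h.di]; group
    rw [h2] at hu
    exact hne j (Or.inl rfl) _ (hcw _ (Qt.mem_j z _ _)) hu
  · have h2 : q * (d * d) * i * (q * (d * d))⁻¹ = q * (i * j) * q⁻¹ := by
      rw [← h.dj, ← h.di]; group
    rw [h2] at hu
    exact hne (i * j) (Or.inr rfl) _ (hcw _ (mul_mem (Qt.mem_i z _ _) (Qt.mem_j z _ _))) hu

/-- the quaternion group of a subnormal subgroup `SL(2,3)` lies in `O_2` -/
theorem Q_le_pCore (h : Sl M z i j d) (hs : M.IsSubnormal) : closure {i, j} ≤ pCore 2 X := by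
  refine SignalizersComponents.CompBasic.subnormal_pGroup_le_pCore ?_ h.q.isPGroup
  refine IsSubnormal.step _ M h.Qle hs ?_
  rw [normal_subgroupOf_iff_le_normalizer h.Qle, h.gen, closure_le]
  rintro x (rfl | rfl)
  · exact le_normalizer (Qt.mem_i z x j)
  · show x ∈ normalizer _
    rw [mem_normalizer_iff_cj]
    have h1 : cj x (closure {i, j}) ≤ closure {i, j} := by
      rintro _ ⟨y, hy, rfl⟩
      exact h.conj_mem hy
    refine le_antisymm h1 ?_
    -- conjugation has order three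
    have h2 : cj x (cj x (closure {i, j})) ≤ closure {i, j} := (cj_mono x h1).trans h1
    have h3 : cj x (cj x (cj x (closure {i, j}))) = closure {i, j} := by
      rw [← cj_mul, ← cj_mul, h.d3, cj_one]
    calc closure {i, j} = cj x (cj x (cj x (closure {i, j}))) := h3.symm
      _ ≤ cj x (closure {i, j}) := cj_mono x h2

/-- `O_2` normalises a subnormal `SL(2,3)`, when its conjugates commute -/
theorem pCore_le_normalizer [Finite X] (h : Sl M z i j d) (c : ∀ g : X, cj g M = M ∨ Cm M (cj g M)) :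
    pCore 2 X ≤ normalizer (M : Set X) := by
  intro q hq
  rw [mem_normalizer_iff_cj]
  rcases c q with h1 | h1
  · exact h1
  · exfalso
    have he : q * d * q⁻¹ ∈ cj q M := conj_mem_cj h.hd
    have hN : (pCore 2 X).Normal := Lib.Cores.pCore_normal 2
    have hcP : d⁻¹ * (q * d * q⁻¹) ∈ pCore 2 X := by
      have h2 : d⁻¹ * (q * d * q⁻¹) = (d⁻¹ * q * d⁻¹⁻¹) * q⁻¹ := by group
      rw [h2]
      exact mul_mem (hN.conj_mem q hq d⁻¹) (inv_mem hq)
    obtain ⟨n, hn⟩ := Lib.Cores.pCore_isPGroup (G := X) 2 ⟨_, hcP⟩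
    have h3 : d⁻¹ * (q * d * q⁻¹) = 1 := by
      refine eq_one_of_cube (n := n) (cube_mul ?_ (cube_inv h.d3) (cube_conj h.d3 q)) (by simpa using congrArg Subtype.val hn)
      have h4 := h1 d h.hd _ he
      calc d⁻¹ * (q * d * q⁻¹) = d⁻¹ * ((q * d * q⁻¹) * d) * d⁻¹ := by group
        _ = d⁻¹ * (d * (q * d * q⁻¹)) * d⁻¹ := by rw [h4]
        _ = (q * d * q⁻¹) * d⁻¹ := by group
    have h5 : q * d * q⁻¹ = d := by
      have h6 := congrArg (fun x => d * x) h3
      simpa using h6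
    rw [h5] at he
    have h7 := h1 i h.hi d he
    apply h.q.not_comm
    have h8 : j = i := by rw [← h.di, ← h7]; group
    rw [h8]

/-- `[M₂, x] ≤ Q₂` for `x ∈ O_2` -/
theorem comm_mem_Q [Finite X] (h : Sl M z i j d) (hs : M.IsSubnormal) (hP : pCore 2 X ≤ normalizer (M : Set X))
    {q m : X} (hq : q ∈ pCore 2 X) (hm : m ∈ M) : q * (m * q⁻¹ * m⁻¹) ∈ closure ({i, j} : Set X) := by
  have hN : (pCore 2 X).Normal := Lib.Cores.pCore_normal 2
  refine h.mem_Q ?_ (Lib.Cores.pCore_isPGroup (G := X) 2) (h.Q_le_pCore hs) ?_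
  · have h2 : q * (m * q⁻¹ * m⁻¹) = (q * m * q⁻¹) * m⁻¹ := by group
    rw [h2]
    exact mul_mem ((mem_normalizer_iff.1 (hP hq) m).1 hm) (inv_mem hm)
  · exact mul_mem hq (hN.conj_mem _ (inv_mem hq) m)

/-- another such subgroup normalises `M` -/
theorem le_normalizer_of [Finite X] {M₂ : Subgroup X} {i₂ j₂ d₂ : X} (h : Sl M z i j d) (h₂ : Sl M₂ z i₂ j₂ d₂)
    (hz : ∀ x : X, x * z = z * x) (s : M.IsSubnormal) (s₂ : M₂.IsSubnormal)
    (c : ∀ g : X, cj g M = M ∨ Cm M (cj g M)) (c₂ : ∀ g : X, cj g M₂ = M₂ ∨ Cm M₂ (cj g M₂)) :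
    M₂ ≤ normalizer (M : Set X) := by
  have hP := h.pCore_le_normalizer c
  have hP₂ := h₂.pCore_le_normalizer c₂
  rw [h₂.gen, closure_le]
  rintro x (rfl | rfl)
  · exact hP (h₂.Q_le_pCore s₂ (Qt.mem_i z _ _))
  · show x ∈ normalizer _
    rw [mem_normalizer_iff_cj]
    rcases c x with h1 | h1
    · exact h1
    · exfalso
      have hiP : i ∈ pCore 2 X := h.Q_le_pCore s (Qt.mem_i z _ _)
      have hc := h₂.comm_mem_Q s₂ hP₂ (inv_mem hiP) h₂.hd
      rw [inv_inv] at hc
      have hw : x * i * x⁻¹ ∈ cj x M := conj_mem_cj h.hi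
      have hcw := h1 i h.hi _ hw
      have hsq : (i⁻¹ * (x * i * x⁻¹)) * (i⁻¹ * (x * i * x⁻¹)) = 1 := by
        have e1 : (i⁻¹ * (x * i * x⁻¹)) * (i⁻¹ * (x * i * x⁻¹)) = i⁻¹ * (((x * i * x⁻¹) * i⁻¹) * (x * i * x⁻¹)) := by
          group
        have e2 : (x * i * x⁻¹) * i⁻¹ = i⁻¹ * (x * i * x⁻¹) := by
          calc (x * i * x⁻¹) * i⁻¹ = i⁻¹ * (i * (x * i * x⁻¹)) * i⁻¹ := by group
            _ = i⁻¹ * ((x * i * x⁻¹) * i) * i⁻¹ := by rw [hcw]
            _ = i⁻¹ * (x * i * x⁻¹) := by group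
        have e3 : (x * i * x⁻¹) * (x * i * x⁻¹) = z := by
          calc (x * i * x⁻¹) * (x * i * x⁻¹) = x * (i * i) * x⁻¹ := by group
            _ = x * z * x⁻¹ := by rw [h.q.i2]
            _ = z := by rw [hz, mul_assoc, mul_inv_cancel, mul_one]
        rw [e1, e2, mul_assoc, e3, ← mul_assoc, ← mul_inv_rev, h.q.i2, h.q.z_inv, h.q.z2]
      have hj := h1 j h.hj _ hw
      apply h.q.not_comm
      rcases h₂.q.sq_cases hc hsq with h3 | h3
      · have h4 : x * i * x⁻¹ = i := by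
          have := congrArg (fun y => i * y) h3
          simpa using this
        rw [h4] at hj
        exact hj.symm
      · have h4 : x * i * x⁻¹ = i * z := by
          have := congrArg (fun y => i * y) h3
          simpa using this
        rw [h4, ← mul_assoc, h.q.iz] at hj
        rw [mul_assoc z i j, ← hz (i * j)] at hj
        exact (mul_right_cancel hj).symm

/-- trivial intersection: the subgroups commute -/
theorem cm_of_inf (h : Sl M z i j d) {M₂ : Subgroup X} (hz : ∀ x : X, x * z = z * x)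
    (n₁ : M₂ ≤ normalizer (M : Set X)) (n₂ : M ≤ normalizer (M₂ : Set X))
    (hI : ∀ t ∈ M, t ∈ M₂ → t = 1 ∨ t = z) : Cm M M₂ := by
  -- elements of order 3
  have key : ∀ e ∈ M, e * e * e = 1 → ∀ x ∈ M₂, e * x = x * e := by
    intro e he he3 x hx
    have h1 : x * e * x⁻¹ * e⁻¹ ∈ M := mul_mem ((mem_normalizer_iff.1 (n₁ hx) e).1 he) (inv_mem he)
    have h2 : x * e * x⁻¹ * e⁻¹ ∈ M₂ := by
      have h3 : x * e * x⁻¹ * e⁻¹ = x * (e * x⁻¹ * e⁻¹) := by group
      rw [h3]
      exact mul_mem hx ((mem_normalizer_iff.1 (n₂ he) _).1 (inv_mem hx))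
    rcases hI _ h1 h2 with h3 | h3
    · have h4 : x * e * x⁻¹ = e := mul_inv_eq_one.1 h3
      exact (mul_inv_eq_iff_eq_mul.1 h4).symm
    · exfalso
      have h4 : x * e * x⁻¹ = z * e := mul_inv_eq_iff_eq_mul.1 h3
      have h5 := cube_conj he3 x
      rw [h4] at h5
      have h6 : (z * e) * (z * e) * (z * e) = z := by
        calc (z * e) * (z * e) * (z * e) = z * (e * z) * e * (z * e) := by group
          _ = z * (z * e) * e * (z * e) := by rw [hz e]
          _ = (z * z) * e * (e * z) * e := by group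
          _ = (z * z) * e * (z * e) * e := by rw [hz e]
          _ = (z * z) * (e * z) * e * e := by group
          _ = (z * z) * (z * e) * e * e := by rw [hz e]
          _ = (z * z) * z * (e * e * e) := by group
          _ = z := by rw [h.q.z2, he3, one_mul, mul_one]
      rw [h6] at h5
      exact h.q.z1 h5
  intro x hx y hy
  have h1 : M ≤ centralizer {y} := by
    rw [h.gen, closure_le]
    have hd := key d h.hd h.d3 y hy
    have hk := key _ (mul_mem (mul_mem h.hi h.hd) (inv_mem h.hi)) (cube_conj h.d3 i) y hy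
    rintro w (rfl | rfl)
    · -- `i = d⁻¹ (i d i⁻¹ d⁻¹)⁻¹ ... `
      show w ∈ centralizer {y}
      have h2 : (w * d * w⁻¹) ∈ centralizer ({y} : Set X) := mem_centralizer_singleton_iff.2 hk
      have h3 : d ∈ centralizer ({y} : Set X) := mem_centralizer_singleton_iff.2 hd
      -- `d (w d w⁻¹ d⁻¹) d⁻¹ = j (w j)⁻¹ = w⁻¹`
      have h4 : d * (w * d * w⁻¹ * d⁻¹) * d⁻¹ = w⁻¹ := by
        calc d * (w * d * w⁻¹ * d⁻¹) * d⁻¹ = (d * w * d⁻¹) * (d * (d * w * d⁻¹) * d⁻¹)⁻¹ := by group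
          _ = w⁻¹ := by rw [h.di, h.dj]; group
      have h5 : w⁻¹ ∈ centralizer ({y} : Set X) := by
        rw [← h4]
        exact mul_mem (mul_mem h3 (mul_mem h2 (inv_mem h3))) (inv_mem h3)
      exact (inv_mem_iff).1 h5
    · exact mem_centralizer_singleton_iff.2 hd
  exact mem_centralizer_singleton_iff.1 (h1 hx)

/-- the exclusion of a common quaternion group -/
theorem false_of_Q_eq [Finite X] (hO : oddCore X = ⊥) {M₂ : Subgroup X} {i₂ j₂ d₂ : X} (h : Sl M z i j d)
    (h₂ : Sl M₂ z i₂ j₂ d₂) (s : M.IsSubnormal) (s₂ : M₂.IsSubnormal)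
    (hQ : closure ({i, j} : Set X) = closure {i₂, j₂}) (n₁ : M₂ ≤ normalizer (M : Set X))
    (n₂ : M ≤ normalizer (M₂ : Set X)) (hd : d ∉ M₂) (hd₂ : d₂ ∉ M) : False := by
  set Q : Subgroup X := closure ({i, j} : Set X) with hQdef
  have hi : i ∈ Q := Qt.mem_i z i j
  have hj : j ∈ Q := Qt.mem_j z i j
  have hzQ : z ∈ Q := h.q.mem_z
  -- both normalise `Q`
  have nQ : ∀ x ∈ Q, d * x * d⁻¹ ∈ Q := fun x hx => h.conj_mem hx
  have nQ₂ : ∀ x ∈ Q, d₂ * x * d₂⁻¹ ∈ Q := by
    intro x hx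
    rw [hQ] at hx ⊢
    exact h₂.conj_mem hx
  have mkN : ∀ e : X, e * e * e = 1 → (∀ x ∈ Q, e * x * e⁻¹ ∈ Q) → e ∈ normalizer (Q : Set X) := by
    intro e he hc
    rw [mem_normalizer_iff_cj]
    have h1 : Cit.cj e Q ≤ Q := by
      rintro _ ⟨y, hy, rfl⟩
      exact hc y hy
    refine le_antisymm h1 ?_
    calc Q = Cit.cj e (Cit.cj e (Cit.cj e Q)) := by rw [← cj_mul, ← cj_mul, he, cj_one]
      _ ≤ Cit.cj e Q := cj_mono e ((cj_mono e h1).trans h1)
  have hdN := mkN d h.d3 nQ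
  have hdN₂ := mkN d₂ h₂.d3 nQ₂
  -- the quotient of the normaliser by `Q`
  let N := normalizer (Q : Set X)
  let π : N →* N ⧸ Q.subgroupOf N := QuotientGroup.mk' _
  have hπ : ∀ x : N, π x = 1 ↔ (x : X) ∈ Q := by
    intro x
    rw [QuotientGroup.mk'_apply, QuotientGroup.eq_one_iff, mem_subgroupOf]
  let D : N := ⟨d, hdN⟩
  let D₂ : N := ⟨d₂, hdN₂⟩
  -- `[d, d₂] ∈ Q`
  have hcomm : π D * π D₂ = π D₂ * π D := by
    have h1 : d * d₂ * d⁻¹ * d₂⁻¹ ∈ M₂ := mul_mem ((mem_normalizer_iff.1 (n₂ h.hd) d₂).1 h₂.hd) (inv_mem h₂.hd)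
    have h2 : d * d₂ * d⁻¹ * d₂⁻¹ ∈ M := by
      have h3 : d * d₂ * d⁻¹ * d₂⁻¹ = d * (d₂ * d⁻¹ * d₂⁻¹) := by group
      rw [h3]
      exact mul_mem h.hd ((mem_normalizer_iff.1 (n₁ h₂.hd) _).1 (inv_mem h.hd))
    have h3 : d * d₂ * d⁻¹ * d₂⁻¹ ∈ Q := by
      obtain ⟨q, hq, h4⟩ := h.mem_cases h2
      have hqM : q ∈ M₂ := by
        apply h₂.Qle
        rw [← hQ]; exact hq
      rcases h4 with h4 | h4 | h4
      · rw [h4]; exact hq
      · rw [h4] at h1
        exact absurd ((M₂.mul_mem_cancel_left hqM).1 h1) hd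
      · rw [h4] at h1
        exfalso
        apply hd
        have h5 := (M₂.mul_mem_cancel_left hqM).1 h1
        have h6 : d = (d * d) * (d * d) := by rw [← mul_assoc, h.d3, one_mul]
        rw [h6]
        exact mul_mem h5 h5
    have h4 : π (D * D₂ * D⁻¹ * D₂⁻¹) = 1 := (hπ _).2 h3
    rw [map_mul, map_mul, map_mul, map_inv, map_inv] at h4
    have h5 := mul_inv_eq_one.1 h4
    exact mul_inv_eq_iff_eq_mul.1 h5
  have hπd : π D * π D * π D = 1 := by
    rw [← map_mul, ← map_mul, hπ]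
    show d * d * d ∈ Q
    rw [h.d3]; exact one_mem _
  have hπd₂ : π D₂ * π D₂ * π D₂ = 1 := by
    rw [← map_mul, ← map_mul, hπ]
    show d₂ * d₂ * d₂ ∈ Q
    rw [h₂.d3]; exact one_mem _
  -- an element `g = d ^ e * d₂` fixing `⟨i⟩`
  have h4Q : ∀ w ∈ Q, w * w = z → w = i ∨ w = z * i ∨ w = j ∨ w = z * j ∨ w = i * j ∨ w = z * (i * j) := by
    intro w hw hw2
    rcases h.q.mem_cases hw with h1 | h1 | h1 | h1 | h1 | h1 | h1 | h1
    · exfalso; rw [h1, one_mul] at hw2; exact h.q.z1 hw2.symm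
    · exfalso; rw [h1, h.q.z2] at hw2; exact h.q.z1 hw2.symm
    all_goals simp only [h1, true_or, or_true]
  have hconjz : ∀ x ∈ N, x * z * x⁻¹ = z := by
    intro x hx
    have h1 : x * z * x⁻¹ ∈ Q := (mem_normalizer_iff.1 hx z).1 hzQ
    have h2 : (x * z * x⁻¹) * (x * z * x⁻¹) = 1 := by
      calc (x * z * x⁻¹) * (x * z * x⁻¹) = x * (z * z) * x⁻¹ := by group
        _ = 1 := by rw [h.q.z2, mul_one, mul_inv_cancel]
    rcases h.q.sq_cases h1 h2 with h3 | h3
    · exfalso
      apply h.q.z1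
      have h4 : x * z = x := by simpa using mul_inv_eq_one.1 h3
      simpa using h4
    · exact h3
  have hconjQ : ∀ x ∈ N, ∀ w ∈ Q, w * w = z → x * w * x⁻¹ ∈ Q ∧ (x * w * x⁻¹) * (x * w * x⁻¹) = z := by
    intro x hx w hw hw2
    refine ⟨(mem_normalizer_iff.1 hx w).1 hw, ?_⟩
    calc (x * w * x⁻¹) * (x * w * x⁻¹) = x * (w * w) * x⁻¹ := by group
      _ = z := by rw [hw2, hconjz x hx]
  have dz := h.dz
  have dzx : ∀ w, d * (z * w) * d⁻¹ = z * (d * w * d⁻¹) := fun w => by
    rw [← mul_assoc, h.dz]; group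
  obtain ⟨e, he⟩ : ∃ e : ℕ, d ^ e * (d₂ * i * d₂⁻¹) * (d ^ e)⁻¹ = i ∨
      d ^ e * (d₂ * i * d₂⁻¹) * (d ^ e)⁻¹ = z * i := by
    obtain ⟨h1, h2⟩ := hconjQ d₂ hdN₂ i hi h.q.i2
    have e2 : ∀ w, d ^ 2 * w * (d ^ 2)⁻¹ = d * (d * w * d⁻¹) * d⁻¹ := fun w => by rw [pow_two]; group
    rcases h4Q _ h1 h2 with h3 | h3 | h3 | h3 | h3 | h3 <;> rw [h3]
    · exact ⟨0, Or.inl (by group)⟩
    · exact ⟨0, Or.inr (by group)⟩
    · exact ⟨2, Or.inl (by rw [e2, h.dj, h.dij])⟩
    · exact ⟨2, Or.inr (by rw [e2, dzx, h.dj, dzx, h.dij])⟩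
    · exact ⟨1, Or.inl (by rw [pow_one, h.dij])⟩
    · exact ⟨1, Or.inr (by rw [pow_one, dzx, h.dij])⟩
  set g : N := D ^ e * D₂ with hg
  have hgX : (g : X) = d ^ e * d₂ := rfl
  have hgi : (g : X) * i * (g : X)⁻¹ = i ∨ (g : X) * i * (g : X)⁻¹ = z * i := by
    have h1 : (g : X) * i * (g : X)⁻¹ = d ^ e * (d₂ * i * d₂⁻¹) * (d ^ e)⁻¹ := by rw [hgX]; group
    rw [h1]; exact he
  have hgN : (g : X) ∈ N := g.2
  have hπg3 : π g * π g * π g = 1 := by
    rw [hg, map_mul, map_pow]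
    refine cube_mul ?_ ?_ hπd₂
    · exact (show Commute (π D) (π D₂) from hcomm).pow_left e
    · have h1 : π D ^ e * π D ^ e * π D ^ e = (π D * π D * π D) ^ e := by
        rw [← pow_add, ← pow_add]
        have h2 : π D * π D * π D = (π D) ^ 3 := by rw [pow_succ, pow_succ, pow_one]
        rw [h2, ← pow_mul]
        congr 1
        ring
      rw [h1, hπd, one_pow]
  have hg3 : (g : X) * g * g ∈ Q := by
    have := (hπ (g * g * g)).1 (by rw [map_mul, map_mul]; exact hπg3)
    exact this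
  -- conjugation of `z w`
  have gz : ∀ w, (g : X) * (z * w) * (g : X)⁻¹ = z * ((g : X) * w * (g : X)⁻¹) := by
    intro w
    calc (g : X) * (z * w) * (g : X)⁻¹ = ((g : X) * z * (g : X)⁻¹) * ((g : X) * w * (g : X)⁻¹) := by group
      _ = z * ((g : X) * w * (g : X)⁻¹) := by rw [hconjz _ hgN]
  -- `g` fixes `⟨j⟩`
  have hgj : (g : X) * j * (g : X)⁻¹ = j ∨ (g : X) * j * (g : X)⁻¹ = z * j := by
    obtain ⟨h1, h2⟩ := hconjQ g hgN j hj h.q.j2
    have hinj : ∀ a b : X, (g : X) * a * (g : X)⁻¹ = (g : X) * b * (g : X)⁻¹ → a = b := by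
      intro a b hab
      exact mul_left_cancel (mul_right_cancel hab)
    have hji : j ≠ i := fun h3 => h.q.not_comm (by rw [h3])
    have hjzi : j ≠ z * i := fun h3 => h.q.not_comm (by rw [h3, h.q.izx, mul_assoc])
    -- `g j g⁻¹ = ± i j` is impossible
    have no : ¬ ((g : X) * j * (g : X)⁻¹ = i * j ∨ (g : X) * j * (g : X)⁻¹ = z * (i * j)) := by
      intro h3
      -- conjugate three times
      have e3 : ((g : X) * g * g) * j * ((g : X) * g * g)⁻¹ =
          (g : X) * ((g : X) * ((g : X) * j * (g : X)⁻¹) * (g : X)⁻¹) * (g : X)⁻¹ := by group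
      have gij : ∀ w, (g : X) * (i * w) * (g : X)⁻¹ = ((g : X) * i * (g : X)⁻¹) * ((g : X) * w * (g : X)⁻¹) :=
        fun w => by group
      have h4 : ((g : X) * g * g) * j * ((g : X) * g * g)⁻¹ = i * j ∨
          ((g : X) * g * g) * j * ((g : X) * g * g)⁻¹ = z * (i * j) := by
        rw [e3]
        rcases hgi with h5 | h5 <;> rcases h3 with h6 | h6 <;>
        simp only [h6, gz, gij, h5, mul_assoc, one_mul, mul_one, h.q.z2, h.q.zz, h.q.iz, h.q.jz, h.q.izx, h.q.jzx,
          h.q.i2, h.q.j2, h.q.iix, h.q.jjx, h.q.ji, h.q.jix, true_or, or_true]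
      -- but an element of `Q` maps `j` to `± j`
      have h7 : ∀ q ∈ Q, q * j * q⁻¹ = j ∨ q * j * q⁻¹ = z * j := by
        intro q hq
        rcases h.q.mem_cases hq with h8 | h8 | h8 | h8 | h8 | h8 | h8 | h8 <;> rw [h8] <;>
        simp only [mul_inv_rev, h.q.z_inv, h.q.i_inv, h.q.j_inv, inv_one,
          mul_assoc, one_mul, mul_one, h.q.z2, h.q.zz, h.q.iz, h.q.jz, h.q.izx, h.q.jzx, h.q.i2, h.q.j2,
          h.q.iix, h.q.jjx, h.q.ji, h.q.jix, true_or, or_true]
      have hi1 : i ≠ 1 := h.q.i_ne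
      have hiz : i ≠ z := fun h8 => h.q.z1 (by
        have h9 := h.q.i2
        rw [h8, h.q.z2] at h9
        exact h9.symm)
      have c1 : i * j ≠ j := fun h8 => hi1 (mul_right_cancel (b := j) (by rw [one_mul]; exact h8))
      have c2 : i * j ≠ z * j := fun h8 => hiz (mul_right_cancel h8)
      rcases h7 _ hg3 with h8 | h8 <;> rcases h4 with h9 | h9 <;> rw [h8] at h9
      · exact c1 h9.symm
      · apply c2
        rw [← h.q.zz (i * j), ← h9]
      · exact c2 h9.symm
      · exact c1 (mul_left_cancel h9).symm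
    rcases h4Q _ h1 h2 with h3 | h3 | h3 | h3 | h3 | h3
    · exfalso
      rcases hgi with h5 | h5
      · exact hji (hinj _ _ (by rw [h3, h5]))
      · exact hjzi (hinj _ _ (by rw [h3, gz, h5, h.q.zz]))
    · exfalso
      rcases hgi with h5 | h5
      · exact hjzi (hinj _ _ (by rw [h3, gz, h5]))
      · exact hji (hinj _ _ (by rw [h3, h5]))
    · exact Or.inl h3
    · exact Or.inr h3
    · exact absurd (Or.inl h3) no
    · exact absurd (Or.inr h3) no
  -- `f = q g` centralises `Q`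
  obtain ⟨q, hq, hfi, hfj⟩ : ∃ q ∈ Q, (q * g) * i * (q * g)⁻¹ = i ∧ (q * g) * j * (q * g)⁻¹ = j := by
    have ex : ∀ q w : X, (q * (g : X)) * w * (q * (g : X))⁻¹ = q * ((g : X) * w * (g : X)⁻¹) * q⁻¹ := fun q w => by
      group
    rcases hgi with h5 | h5 <;> rcases hgj with h6 | h6
    · refine ⟨1, one_mem _, ?_, ?_⟩
      · rw [ex, h5]; group
      · rw [ex, h6]; group
    · refine ⟨i, hi, ?_, ?_⟩
      · rw [ex, h5]; group
      · rw [ex, h6]
        simp only [mul_inv_rev, h.q.z_inv, h.q.i_inv, h.q.j_inv, inv_one,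
          mul_assoc, one_mul, mul_one, h.q.z2, h.q.zz, h.q.iz, h.q.jz, h.q.izx, h.q.jzx, h.q.i2, h.q.j2,
          h.q.iix, h.q.jjx, h.q.ji, h.q.jix]
    · refine ⟨j, hj, ?_, ?_⟩
      · rw [ex, h5]
        simp only [mul_inv_rev, h.q.z_inv, h.q.i_inv, h.q.j_inv, inv_one,
          mul_assoc, one_mul, mul_one, h.q.z2, h.q.zz, h.q.iz, h.q.jz, h.q.izx, h.q.jzx, h.q.i2, h.q.j2,
          h.q.iix, h.q.jjx, h.q.ji, h.q.jix]
      · rw [ex, h6]; group
    · refine ⟨i * j, mul_mem hi hj, ?_, ?_⟩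
      · rw [ex, h5]
        simp only [mul_inv_rev, h.q.z_inv, h.q.i_inv, h.q.j_inv, inv_one,
          mul_assoc, one_mul, mul_one, h.q.z2, h.q.zz, h.q.iz, h.q.jz, h.q.izx, h.q.jzx, h.q.i2, h.q.j2,
          h.q.iix, h.q.jjx, h.q.ji, h.q.jix]
      · rw [ex, h6]
        simp only [mul_inv_rev, h.q.z_inv, h.q.i_inv, h.q.j_inv, inv_one,
          mul_assoc, one_mul, mul_one, h.q.z2, h.q.zz, h.q.iz, h.q.jz, h.q.izx, h.q.jzx, h.q.i2, h.q.j2,
          h.q.iix, h.q.jjx, h.q.ji, h.q.jix]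
  have hqN : q ∈ N := (le_normalizer : Q ≤ N) hq
  set f : N := ⟨q, hqN⟩ * g with hf
  have hfX : (f : X) = q * g := rfl
  have hπf : π f = π g := by
    rw [hf, map_mul, (hπ ⟨q, hqN⟩).2 hq, one_mul]
  have fi : (f : X) * i = i * f := mul_inv_eq_iff_eq_mul.1 (by rw [hfX]; exact hfi)
  have fj : (f : X) * j = j * f := mul_inv_eq_iff_eq_mul.1 (by rw [hfX]; exact hfj)
  -- centralising subgroup
  have hfc : (f : X) ∈ centralizer (Q : Set X) := by
    have h1 : Q ≤ centralizer {(f : X)} := by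
      rw [hQdef, closure_le]
      rintro w (rfl | rfl)
      · exact mem_centralizer_singleton_iff.2 fi.symm
      · exact mem_centralizer_singleton_iff.2 fj.symm
    rw [mem_centralizer_iff]
    intro w hw
    exact (mem_centralizer_singleton_iff.1 (h1 hw))
  -- the centre of `Q`
  have hcen : ∀ x ∈ Q, x ∈ centralizer (Q : Set X) → x = 1 ∨ x = z := by
    intro x hx hxc
    exact h.q.central hx (mem_centralizer_iff.1 hxc i hi).symm (mem_centralizer_iff.1 hxc j hj).symm
  have hf3Q : (f : X) * f * f ∈ Q := by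
    have := (hπ (f * f * f)).1 (by rw [map_mul, map_mul, hπf]; exact hπg3)
    exact this
  have hf3 : (f : X) * f * f = 1 ∨ (f : X) * f * f = z := hcen _ hf3Q (mul_mem (mul_mem hfc hfc) hfc)
  -- `r = f²` has order three
  set r : N := f * f with hr
  have hrX : (r : X) = f * f := rfl
  have hr3 : (r : X) * r * r = 1 := by
    have h1 : (r : X) * r * r = ((f : X) * f * f) * ((f : X) * f * f) := by rw [hrX]; group
    rw [h1]
    rcases hf3 with h2 | h2
    · rw [h2, one_mul]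
    · rw [h2, h.q.z2]
  have hdr : ∀ E : N, π E * π D = π D * π E → π E * π D₂ = π D₂ * π E → (E : X) * r * (E : X)⁻¹ = r := by
    intro E hE1 hE2
    have h1 : π E * π g = π g * π E := by
      rw [hg, map_mul, map_pow]
      have c1 : Commute (π E) (π D ^ e) := (show Commute (π E) (π D) from hE1).pow_right e
      have c2 : Commute (π E) (π D₂) := hE2
      exact (c1.mul_right c2)
    have h2 : π E * π r = π r * π E := by
      rw [hr, map_mul, hπf]
      exact (show Commute (π E) (π g) from h1).mul_right (show Commute (π E) (π g) from h1)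
    have h3 : (E : X) * r * (E : X)⁻¹ * (r : X)⁻¹ ∈ Q := by
      have h4 : π (E * r * E⁻¹ * r⁻¹) = 1 := by
        rw [map_mul, map_mul, map_mul, map_inv, map_inv, h2]; group
      exact (hπ _).1 h4
    have hrc : (r : X) ∈ centralizer (Q : Set X) := mul_mem hfc hfc
    have h4 : (E : X) * r * (E : X)⁻¹ ∈ centralizer (Q : Set X) := by
      rw [mem_centralizer_iff]
      intro w hw
      have h5 : (E : X)⁻¹ * w * (E : X) ∈ Q := by
        have := (mem_normalizer_iff.1 (inv_mem E.2) w).1 hw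
        simpa using this
      have h6 := mem_centralizer_iff.1 hrc _ h5
      calc w * ((E : X) * r * (E : X)⁻¹) = (E : X) * (((E : X)⁻¹ * w * (E : X)) * r) * (E : X)⁻¹ := by group
        _ = (E : X) * (r * ((E : X)⁻¹ * w * (E : X))) * (E : X)⁻¹ := by rw [h6]
        _ = (E : X) * r * (E : X)⁻¹ * w := by group
    rcases hcen _ h3 (mul_mem h4 (inv_mem hrc)) with h5 | h5
    · exact mul_inv_eq_one.1 h5
    · exfalso
      have h6 : (E : X) * r * (E : X)⁻¹ = z * r := mul_inv_eq_iff_eq_mul.1 h5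
      have h7 := cube_conj hr3 (E : X)
      rw [h6] at h7
      have hrz : (r : X) * z = z * r := (mem_centralizer_iff.1 hrc z hzQ).symm
      have h8 : (z * (r : X)) * (z * r) * (z * r) = z := by
        calc (z * (r : X)) * (z * r) * (z * r) = z * (r * z) * r * (z * r) := by group
          _ = z * (z * r) * r * (z * r) := by rw [hrz]
          _ = (z * z) * r * (r * z) * r := by group
          _ = (z * z) * r * (z * r) * r := by rw [hrz]
          _ = (z * z) * (r * z) * r * r := by group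
          _ = (z * z) * (z * r) * r * r := by rw [hrz]
          _ = (z * z) * z * (r * r * r) := by group
          _ = z := by rw [h.q.z2, hr3, one_mul, mul_one]
      rw [h8] at h7
      exact h.q.z1 h7
  have r_d : (r : X) ∈ centralizer {d} := by
    have := hdr D rfl hcomm
    rw [mem_centralizer_singleton_iff]
    exact (mul_inv_eq_iff_eq_mul.1 this).symm
  have r_d₂ : (r : X) ∈ centralizer {d₂} := by
    have := hdr D₂ hcomm.symm rfl
    rw [mem_centralizer_singleton_iff]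
    exact (mul_inv_eq_iff_eq_mul.1 this).symm
  have hrc : (r : X) ∈ centralizer (Q : Set X) := mul_mem hfc hfc
  -- `⟨r⟩` is central in `H`
  have hH : M ⊔ M₂ ≤ centralizer {(r : X)} := by
    have hi₂ : i₂ ∈ Q := by rw [hQ]; exact Qt.mem_i z _ _
    refine sup_le ?_ ?_
    · rw [h.gen, closure_le]
      rintro w (rfl | rfl)
      · exact mem_centralizer_singleton_iff.2 (mem_centralizer_iff.1 hrc _ hi)
      · exact mem_centralizer_singleton_iff.2 (mem_centralizer_singleton_iff.1 r_d).symm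
    · rw [h₂.gen, closure_le]
      rintro w (rfl | rfl)
      · exact mem_centralizer_singleton_iff.2 (mem_centralizer_iff.1 hrc _ hi₂)
      · exact mem_centralizer_singleton_iff.2 (mem_centralizer_singleton_iff.1 r_d₂).symm
  have hrH : (r : X) ∈ M ⊔ M₂ := by
    have h1 : (f : X) ∈ M ⊔ M₂ := by
      rw [hfX]
      refine mul_mem ?_ (mul_mem ?_ ?_)
      · exact (le_sup_left : M ≤ M ⊔ M₂) (h.Qle hq)
      · exact pow_mem ((le_sup_left : M ≤ M ⊔ M₂) h.hd) e
      · exact (le_sup_right : M₂ ≤ M ⊔ M₂) h₂.hd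
    exact mul_mem h1 h1
  have hsub : (zpowers (r : X)).IsSubnormal := by
    refine IsSubnormal.step _ (M ⊔ M₂) ?_ (Lib.SubnormalJoin.isSubnormal_sup s s₂) ?_
    · rw [zpowers_le]; exact hrH
    · rw [normal_subgroupOf_iff_le_normalizer (by rw [zpowers_le]; exact hrH)]
      intro x hx
      have h1 := mem_centralizer_singleton_iff.1 (hH hx)
      have h2 : x ∈ centralizer (zpowers (r : X) : Set X) := by
        rw [mem_centralizer_iff]
        rintro _ ⟨n, rfl⟩
        exact (show Commute x r from h1).zpow_right n |>.symm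
      exact (centralizer_le_normalizer _) h2
  have hr1 : (r : X) = 1 := by
    have h1 := SignalizersComponents.CompBasic.subnormal_coprime_le_pPrimeCore (p := 2) hsub (by
      rw [Nat.card_zpowers]
      have h2 : orderOf (r : X) ∣ 3 := orderOf_dvd_of_pow_eq_one (by rw [pow_succ, pow_succ, pow_one]; exact hr3)
      exact Nat.Coprime.coprime_dvd_left h2 (by norm_num))
    have h2 : (r : X) ∈ oddCore X := h1 (mem_zpowers _)
    rw [hO] at h2
    exact h2
  -- so `f ∈ Q`, `g ∈ Q`, `d₂ ∈ M`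
  apply hd₂
  have h1 : (f : X) ∈ Q := by
    have h2 : (f : X) * f * f = f := by rw [← hrX, hr1, one_mul]
    rw [h2] at hf3Q
    exact hf3Q
  have h2 : (g : X) ∈ Q := by
    rw [hfX] at h1
    exact (Q.mul_mem_cancel_left hq).1 h1
  have h3 : d ^ e * d₂ ∈ M := h.Qle h2
  exact (M.mul_mem_cancel_left (pow_mem h.hd e)).1 h3

/-- the inductive step -/
theorem core_step [Finite X] (hO : oddCore X = ⊥) {M₂ : Subgroup X} {i₂ j₂ d₂ : X} (hz : ∀ x : X, x * z = z * x)
    (h : Sl M z i j d) (h₂ : Sl M₂ z i₂ j₂ d₂) (s : M.IsSubnormal) (s₂ : M₂.IsSubnormal)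
    (c : ∀ g : X, Cit.cj g M = M ∨ Cm M (Cit.cj g M)) (c₂ : ∀ g : X, Cit.cj g M₂ = M₂ ∨ Cm M₂ (Cit.cj g M₂)) :
    M = M₂ ∨ Cm M M₂ := by
  by_cases hMM : M = M₂
  · exact Or.inl hMM
  right
  have n₁ := h.le_normalizer_of h₂ hz s s₂ c c₂
  have n₂ := h₂.le_normalizer_of h hz s₂ s c₂ c
  by_cases hI : ∀ t ∈ M, t ∈ M₂ → t = 1 ∨ t = z
  · exact h.cm_of_inf hz n₁ n₂ hI
  exfalso
  push Not at hI
  obtain ⟨t, ht, ht₂, ht1, htz⟩ := hI
  have hQM₂ : closure ({i, j} : Set X) ≤ M₂ := h.normal_gen n₂ ht₂ ht ht1 htz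
  have hQM : closure ({i₂, j₂} : Set X) ≤ M := h₂.normal_gen n₁ ht ht₂ ht1 htz
  have hP := Lib.Cores.pCore_isPGroup (G := X) 2
  have hQ : closure ({i, j} : Set X) = closure {i₂, j₂} := by
    apply le_antisymm
    · intro x hx
      exact h₂.mem_Q (hQM₂ hx) hP (h₂.Q_le_pCore s₂) (h.Q_le_pCore s hx)
    · intro x hx
      exact h.mem_Q (hQM hx) hP (h.Q_le_pCore s) (h₂.Q_le_pCore s₂ hx)
  refine h.false_of_Q_eq hO h₂ s s₂ hQ n₁ n₂ ?_ ?_
  · intro hd
    apply hMM
    refine h.eq_of_le h₂ ?_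
    rw [h.gen, closure_le]
    rintro x (rfl | rfl)
    · exact hQM₂ (Qt.mem_i z _ _)
    · exact hd
  · intro hd
    apply hMM
    symm
    refine h₂.eq_of_le h ?_
    rw [h₂.gen, closure_le]
    rintro x (rfl | rfl)
    · exact hQM (Qt.mem_i z _ _)
    · exact hd

end Sl

/-- being of type `SL(2,3)` with central involution `z` -/
def IsSl (M : Subgroup X) (z : X) : Prop := ∃ i j d, Sl M z i j d

theorem IsSl.cj {M : Subgroup X} {z : X} (h : IsSl M z) (g : X) : IsSl (cj g M) (g * z * g⁻¹) := by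
  obtain ⟨i, j, d, h⟩ := h
  exact ⟨_, _, _, h.of_cj g⟩

theorem IsSl.subgroupOf {M K : Subgroup X} {z : X} (h : IsSl M z) (hMK : M ≤ K) :
    ∃ zK : K, (zK : X) = z ∧ IsSl (M.subgroupOf K) zK := by
  obtain ⟨i, j, d, h⟩ := h
  refine ⟨⟨z, hMK h.hz⟩, rfl, ⟨i, hMK h.hi⟩, ⟨j, hMK h.hj⟩, ⟨d, hMK h.hd⟩, ⟨?_, ?_, ?_, ?_, ?_⟩, ?_, ?_, ?_, ?_⟩
  · exact Subtype.ext h.q.z2
  · intro h1; exact h.q.z1 (congrArg Subtype.val h1)
  · exact Subtype.ext h.q.i2
  · exact Subtype.ext h.q.j2
  · exact Subtype.ext h.q.ji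
  · exact Subtype.ext h.di
  · exact Subtype.ext h.dj
  · exact Subtype.ext h.d3
  · apply Subgroup.map_injective K.subtype_injective
    rw [map_subgroupOf_eq_of_le hMK, MonoidHom.map_closure, Set.image_pair]
    exact h.gen

theorem cj_subgroupOf {M K : Subgroup X} (g : K) : (cj (g : X) M).subgroupOf K = cj g (M.subgroupOf K) := by
  ext x
  simp only [mem_subgroupOf, mem_cj]
  rfl

theorem eq_or_cm_aux (n : ℕ) : ∀ (X : Type*) [Group X] [Finite X], Nat.card X = n → oddCore X = ⊥ →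
    ∀ (z : X), (∀ x : X, x * z = z * x) → ∀ M M₂ : Subgroup X, IsSl M z → IsSl M₂ z → M.IsSubnormal →
    M₂.IsSubnormal → M = M₂ ∨ Cm M M₂ := by
  induction n using Nat.strong_induction_on with
  | _ n ih =>
    intro X _ _ hn hO z hz M M₂ h h₂ s s₂
    -- conjugates of one subgroup
    have key : ∀ M : Subgroup X, IsSl M z → M.IsSubnormal → ∀ g : X, cj g M = M ∨ Cm M (cj g M) := by
      intro M h s g
      rcases s.lt_normal with h1 | ⟨K, hK, hMK, hlt⟩
      · left
        rw [h1]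
        ext x
        simp [mem_cj]
      · have hgK : cj g M ≤ K := by
          rintro _ ⟨m, hm, rfl⟩
          exact hK.conj_mem m (hMK hm) g
        have hcard : Nat.card K < n := by
          rw [← hn]
          exact lt_of_le_of_ne (card_le_card_group K) (fun h2 => hlt.ne (eq_top_of_card_eq K h2))
        have hOK : oddCore K = ⊥ := by
          have h2 := Lib.Cores.map_subtype_pPrimeCore (G := X) 2 hK
          have h3 : pPrimeCore 2 X = ⊥ := hO
          rw [h3, inf_bot_eq] at h2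
          exact (Subgroup.map_eq_bot_iff_of_injective _ K.subtype_injective).1 h2
        obtain ⟨zK, hzK, hs⟩ := h.subgroupOf hMK
        obtain ⟨zK', hzK', hs'⟩ := (h.cj g).subgroupOf hgK
        have hzz : zK' = zK := by
          apply Subtype.ext
          rw [hzK', hzK, mul_assoc, ← hz, ← mul_assoc, mul_inv_cancel, one_mul]
        rw [hzz] at hs'
        have h4 := ih _ hcard K rfl hOK zK (fun x => Subtype.ext (by
            show (x : X) * zK = zK * x
            rw [hzK]; exact hz x)) _ _ hs hs' s.subgroupOf ?_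
        · rcases h4 with h5 | h5
          · left
            have h6 := congrArg (Subgroup.map K.subtype) h5
            rw [map_subgroupOf_eq_of_le hMK, map_subgroupOf_eq_of_le hgK] at h6
            exact h6.symm
          · right
            intro x hx y hy
            have := h5 ⟨x, hMK hx⟩ hx ⟨y, hgK hy⟩ hy
            exact congrArg Subtype.val this
        · have h5 : (cj g M).IsSubnormal := s.map (f := (MulAut.conj g).toMonoidHom) (MulAut.conj g).surjective
          exact h5.subgroupOf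
    obtain ⟨i, j, d, h'⟩ := h
    obtain ⟨i₂, j₂, d₂, h₂'⟩ := h₂
    exact h'.core_step hO hz h₂' s s₂ (key M ⟨_, _, _, h'⟩ s) (key M₂ ⟨_, _, _, h₂'⟩ s₂)

/-- **two subnormal `SL(2,3)` with the same central involution are equal or commute** -/
theorem eq_or_cm [Finite X] (hO : oddCore X = ⊥) {z : X} (hz : ∀ x : X, x * z = z * x) {M M₂ : Subgroup X}
    (h : IsSl M z) (h₂ : IsSl M₂ z) (s : M.IsSubnormal) (s₂ : M₂.IsSubnormal) : M = M₂ ∨ Cm M M₂ :=
  eq_or_cm_aux (Nat.card X) X rfl hO z hz M M₂ h h₂ s s₂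

end Cfsg.Agent.Cit.SLThree
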