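import Cfsg.Agent.Cit.SLThreeApi

/-!
# The configuration obtained from a violation of hypothesis (3)
-/

set_option autoImplicit false
set_option linter.unusedSimpArgs false
set_option linter.style.haveILetI false

namespace Cfsg.Agent.Cit.SLThree

open Subgroup Cfsg

variable {G : Type*} [Group G]

theorem rea {a b c : G} (h : a * b = c) (w : G) : a * (b * w) = c * w := by rw [← mul_assoc, h]

/-- the configuration -/
structure Conf (z z' : G) (J J₂ K K₂ T T' : Subgroup G) (x y : G) : Prop where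
  ne : z ≠ z'
  hJ : Mem J z
  hJ₂ : Mem J₂ z
  hK : Mem K z'
  hK₂ : Mem K₂ z'
  J_ne : J ≠ J₂
  K_ne : K ≠ K₂
  hT : Syl T (centralizer {z})
  hT' : Syl T' (centralizer {z'})
  TT' : ∀ u ∈ T, u * z' = z' * u → u ∈ T'
  T'T : ∀ u ∈ T', u * z = z * u → u ∈ T
  xT : x ∈ T
  yT' : y ∈ T'
  yz : y * z = z * y
  xz' : x * z' = z' * x
  xJ : x ∈ J
  xJ₂ : x * z' ∈ J₂
  yK : y ∈ K
  yK₂ : y * z ∈ K₂
  x2 : x * x = z
  y2 : y * y = z'
  xy : y⁻¹ * x * y = x * (z * z')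
  yx : x⁻¹ * y * x = y * (z * z')
  cJ : cj y⁻¹ J = J₂
  cK : cj x⁻¹ K = K₂

theorem cj_S_of {z z' w : G} {S : Subgroup G} [Finite G]
    (hS : Syl S (centralizer {z} ⊓ centralizer {z'})) (h1 : w * z * w⁻¹ = z') (h2 : w * z' * w⁻¹ = z) :
    ∃ c ∈ centralizer {z} ⊓ centralizer ({z'} : Set G), cj (c * w) S = S := by
  have h3 := hS.cj w
  have h4 : cj w (centralizer {z} ⊓ centralizer ({z'} : Set G)) = centralizer {z} ⊓ centralizer ({z'} : Set G) := by
    rw [cj_inf, cj_centralizer, cj_centralizer, h1, h2, inf_comm]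
  rw [h4] at h3
  obtain ⟨c, hc, hcS⟩ := h3.exists_conj hS
  exact ⟨c, hc, by rw [cj_mul, hcS]⟩

variable [Finite G]

theorem exists_conf {J K : Subgroup G} {z z' y : G} (hJ : Mem J z) (hK : Mem K z') (hyK : y ∈ K)
    (hy2 : y * y = z') (hyz : y * z = z * y) (hne : z ≠ z') (hmv : cj y J ≠ J) :
    ∃ J₂ K₂ T T' x, Conf z z' J J₂ K K₂ T T' x y := by
  have hz2 := hJ.s2
  have hz'2 := hK.s2
  have zi : z⁻¹ = z := inv_eq_of_mul_eq_one_right hz2
  have z'i : z'⁻¹ = z' := inv_eq_of_mul_eq_one_right hz'2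
  have hzz : z' * z = z * z' := by rw [← hy2, mul_assoc, hyz, ← mul_assoc, hyz, mul_assoc]
  have hyz' : y * z' = z' * y := hK.comm_s hyK
  have hyD : y ∈ centralizer {z} ⊓ centralizer ({z'} : Set G) :=
    ⟨mem_centralizer_singleton_iff.2 hyz, mem_centralizer_singleton_iff.2 hyz'⟩
  have hyp : IsPGroup 2 (zpowers y) := by
    have h6 : y ^ 2 ^ 2 = 1 := by
      rw [show (2 : ℕ) ^ 2 = 2 * 2 by norm_num, pow_mul, pow_two y, hy2, pow_two, hz'2]
    rintro ⟨_, n, rfl⟩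
    refine ⟨2, Subtype.ext ?_⟩
    show (y ^ n) ^ 2 ^ 2 = 1
    rw [← zpow_natCast, ← zpow_mul, mul_comm, zpow_mul, zpow_natCast, h6, one_zpow]
  obtain ⟨S, hS, hyS'⟩ := exists_syl_ge hyp (zpowers_le.2 hyD)
  have hyS : y ∈ S := hyS' (mem_zpowers y)
  obtain ⟨T, hT, hST⟩ := exists_syl_ge hS.2.1 (hS.1.trans inf_le_left)
  obtain ⟨T', hT', hST'⟩ := exists_syl_ge hS.2.1 (hS.1.trans inf_le_right)
  have TS : ∀ u ∈ T, u * z' = z' * u → u ∈ S := by
    intro u hu hc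
    rw [hS.eq_of_le (le_inf hST hS.1) inf_le_right (hT.2.1.to_le inf_le_left)]
    exact ⟨hu, hT.1 hu, mem_centralizer_singleton_iff.2 hc⟩
  have T'S : ∀ u ∈ T', u * z = z * u → u ∈ S := by
    intro u hu hc
    rw [hS.eq_of_le (le_inf hST' hS.1) inf_le_right (hT'.2.1.to_le inf_le_left)]
    exact ⟨hu, mem_centralizer_singleton_iff.2 hc, hT'.1 hu⟩
  have Sz : ∀ u ∈ S, u * z = z * u := fun u hu => mem_centralizer_singleton_iff.1 (hS.1 hu).1
  have Sz' : ∀ u ∈ S, u * z' = z' * u := fun u hu => mem_centralizer_singleton_iff.1 (hS.1 hu).2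
  have zT := hJ.s_mem_syl hT
  have z'T' := hK.s_mem_syl hT'
  have zS : z ∈ S := TS z zT hzz.symm
  have z'S : z' ∈ S := T'S z' z'T' hzz
  have yT : y ∈ T := hST hyS
  have yT' : y ∈ T' := hST' hyS
  -- `z'` normalises `J`
  have hyN : y ∈ NN z' := hK.mem_NN hT' hyK yT'
  have hyC : y ∈ centralizer ({z} : Set G) := hyD.1
  obtain ⟨i, j, d, hJ0, hq⟩ := hJ.coords hT
  have h0 : cj z' J = J := hJ0.cj_sq hy2 hz'2 hyN hyC
  have hiT : i ∈ T := by
    have : i ∈ J ⊓ T := by rw [hq]; exact Qt.mem_i z _ _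
    exact this.2
  have hjT : j ∈ T := by
    have : j ∈ J ⊓ T := by rw [hq]; exact Qt.mem_j z _ _
    exact this.2
  obtain ⟨k, hkJ, hkT, hk2, hkz'⟩ : ∃ k ∈ J, k ∈ T ∧ k * k = z ∧ z' * k = z * (k * z') := by
    by_cases hi : z' * i = i * z'
    · by_cases hj : z' * j = j * z'
      · exact absurd (hJ0.cj_of_comm hy2 hz'2 hyN hyC hi hj) hmv
      · exact hJ.exists_inverted hT hz'2 h0 (hST z'S) hJ0.hj hjT hj
    · exact hJ.exists_inverted hT hz'2 h0 (hST z'S) hJ0.hi hiT hi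
  have hkz : k * z = z * k := hJ.comm_s hkJ
  have hkz'' : k * z' = z * (z' * k) := by rw [hkz', ← mul_assoc, hz2, one_mul]
  -- `J₂`
  have hJ₂ : Mem (cj y⁻¹ J) z := hJ.cj_of_comm (by
    rw [inv_mul_eq_iff_eq_mul, ← mul_assoc, hyz, mul_inv_cancel_right])
  have J_ne : J ≠ cj y⁻¹ J := by
    intro h
    apply hmv
    conv_lhs => rw [h, cj_cj_inv]
  generalize hJ₂def : cj y⁻¹ J = J₂ at *
  obtain ⟨k₂, hk₂def⟩ : ∃ k₂, k₂ = y⁻¹ * k * y := ⟨_, rfl⟩
  have hk₂J : k₂ ∈ J₂ := by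
    rw [← hJ₂def, mem_cj, hk₂def]
    have : y⁻¹⁻¹ * (y⁻¹ * k * y) * y⁻¹ = k := by group
    rwa [this]
  have hk₂T : k₂ ∈ T := by rw [hk₂def]; exact mul_mem (mul_mem (inv_mem yT) hkT) yT
  have hkk₂ : k * k₂ = k₂ * k := hJ.comm_of_ne hJ₂ J_ne hT.2.1 hkJ hkT hk₂J hk₂T
  have hk₂z' : k₂ * z' = z * (z' * k₂) := by
    rw [hk₂def]
    calc y⁻¹ * k * y * z' = y⁻¹ * (k * z') * y := by rw [mul_assoc _ y z', hyz']; group
      _ = y⁻¹ * (z * (z' * k)) * y := by rw [hkz'']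
      _ = (y⁻¹ * z) * z' * k * y := by group
      _ = (z * y⁻¹) * z' * k * y := by
        rw [inv_mul_eq_iff_eq_mul.2 (show z = y * (z * y⁻¹) by rw [← mul_assoc, hyz, mul_inv_cancel_right])]
      _ = z * (y⁻¹ * z') * k * y := by group
      _ = z * (z' * y⁻¹) * k * y := by
        rw [inv_mul_eq_iff_eq_mul.2 (show z' = y * (z' * y⁻¹) by rw [← mul_assoc, hyz', mul_inv_cancel_right])]
      _ = z * (z' * (y⁻¹ * k * y)) := by group
  have hk₂2 : k₂ * k₂ = z := by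
    rw [hk₂def]
    calc y⁻¹ * k * y * (y⁻¹ * k * y) = y⁻¹ * (k * k) * y := by group
      _ = y⁻¹ * (z * y) := by rw [hk2, mul_assoc]
      _ = z := by rw [← hyz, inv_mul_cancel_left]
  have hk₂z : k₂ * z = z * k₂ := hJ₂.comm_s hk₂J
  -- `a`
  obtain ⟨a, hadef⟩ : ∃ a, a = k * k₂ := ⟨_, rfl⟩
  have ha2 : a * a = 1 := by
    rw [hadef]
    calc k * k₂ * (k * k₂) = k * (k₂ * k) * k₂ := by group
      _ = k * (k * k₂) * k₂ := by rw [hkk₂]
      _ = (k * k) * (k₂ * k₂) := by group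
      _ = 1 := by rw [hk2, hk₂2, hz2]
  have haT : a ∈ T := by rw [hadef]; exact mul_mem hkT hk₂T
  have haz : a * z = z * a := by rw [hadef, mul_assoc, hk₂z, ← mul_assoc, hkz, mul_assoc]
  have haz' : a * z' = z' * a := by
    rw [hadef, mul_assoc, hk₂z', rea hkz, mul_assoc, rea hkz'', mul_assoc, mul_assoc, rea hz2, one_mul]
  have haS : a ∈ S := TS a haT haz'
  have hai : a⁻¹ = a := inv_eq_of_mul_eq_one_right ha2
  have hyk : y⁻¹ * k₂ * y = z * k := by
    rw [hk₂def]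
    calc y⁻¹ * (y⁻¹ * k * y) * y = (y * y)⁻¹ * k * (y * y) := by group
      _ = z' * (k * z') := by rw [hy2, z'i, mul_assoc]
      _ = z * k := by rw [hkz'', rea hzz, mul_assoc, rea hz'2, one_mul]
  have hya : y⁻¹ * a * y = z * a := by
    calc y⁻¹ * a * y = (y⁻¹ * k * y) * (y⁻¹ * k₂ * y) := by rw [hadef]; group
      _ = k₂ * (z * k) := by rw [← hk₂def, hyk]
      _ = z * a := by rw [rea hk₂z, mul_assoc, ← hkk₂, hadef]
  have hay : a * y * a⁻¹ = y * z := by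
    calc a * y * a⁻¹ = y * (y⁻¹ * a * y) * a⁻¹ := by group
      _ = y * z := by rw [hya]; group
  -- `K₂`
  have hK₂ : Mem (cj a K) z' := hK.cj_of_comm haz'
  have hyzK₂ : y * z ∈ cj a K := by rw [← hay]; exact conj_mem_cj hyK
  have hz_ne : z ≠ 1 := hJ.s_ne
  have hz'_ne : z' ≠ 1 := hK.s_ne
  have K_ne : K ≠ cj a K := by
    intro h
    rw [← h] at hyzK₂
    have h1 : z ∈ K := by
      have := mul_mem (inv_mem hyK) hyzK₂
      rwa [inv_mul_cancel_left] at this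
    rcases hK.sq_eq_one hT' h1 (hST' zS) hz2 with h2 | h2
    · exact hz_ne h2
    · exact hne h2
  have haK₂ : cj a (cj a K) = K := by rw [← cj_mul, ha2, cj_one]
  generalize hK₂def : cj a K = K₂ at *
  obtain ⟨l, hlK, hlT', hl2, hly⟩ := hK.exists_inv hT' hyK yT' hy2
  have hlz' : l * z' = z' * l := hK.comm_s hlK
  have hyzT' : y * z ∈ T' := mul_mem yT' (hST' zS)
  have hlyz : l * (y * z) = (y * z) * l := hK.comm_of_ne hK₂ K_ne hT'.2.1 hlK hlT' hyzK₂ hyzT'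
  have hlz : l * z = z * (z' * l) := by
    have h1 : (l * y) * z = y * (z * l) := by rw [mul_assoc, hlyz, mul_assoc]
    have h2 : z' * (y * (l * z)) = y * (z * l) := by
      rw [← h1, hly]; simp only [mul_assoc]
    have h3 : y * (z' * (l * z)) = y * (z * l) := by
      rw [rea hyz', mul_assoc]; exact h2
    have h4 := mul_left_cancel h3
    calc l * z = z' * (z' * (l * z)) := by rw [rea hz'2, one_mul]
      _ = z' * (z * l) := by rw [h4]
      _ = z * (z' * l) := by rw [rea hzz, mul_assoc]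
  -- the element swapping `z` and `z'`
  have hw1 : (k * l * k) * z * (k * l * k)⁻¹ = z' := by
    rw [mul_inv_eq_iff_eq_mul]
    simp only [mul_assoc, hkz, rea hlz, rea hkz, rea hkz'', rea hz2, one_mul, mul_one]
  have hw2 : (k * l * k) * z' * (k * l * k)⁻¹ = z := by
    rw [mul_inv_eq_iff_eq_mul]
    simp only [mul_assoc, hkz'', rea hlz', rea hlz, rea hkz, rea hkz'', rea hz2, one_mul, mul_one, rea hz'2]
  obtain ⟨c, hc, hcS⟩ := cj_S_of hS hw1 hw2
  obtain ⟨n₀, hn₀def⟩ : ∃ n₀, n₀ = c * (k * l * k) := ⟨_, rfl⟩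
  have hn₀z : n₀ * z * n₀⁻¹ = z' := by
    rw [hn₀def]
    calc c * (k * l * k) * z * (c * (k * l * k))⁻¹ = c * ((k * l * k) * z * (k * l * k)⁻¹) * c⁻¹ := by group
      _ = z' := by rw [hw1, mem_centralizer_singleton_iff.1 hc.2, mul_inv_cancel_right]
  have hn₀z' : n₀ * z' * n₀⁻¹ = z := by
    rw [hn₀def]
    calc c * (k * l * k) * z' * (c * (k * l * k))⁻¹ = c * ((k * l * k) * z' * (k * l * k)⁻¹) * c⁻¹ := by group
      _ = z := by rw [hw2, mem_centralizer_singleton_iff.1 hc.1, mul_inv_cancel_right]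
  rw [← hn₀def] at hcS
  -- `{n₀ K, n₀ K₂} = {J, J₂}`
  have hkm : z' * k * z'⁻¹ * k⁻¹ = z := by
    rw [hkz', z'i]
    calc z * (k * z') * z' * k⁻¹ = z * (k * (z' * z')) * k⁻¹ := by group
      _ = z := by rw [hz'2]; group
  have hk₂z'2 : z' * k₂ = z * (k₂ * z') := by rw [hk₂z', rea hz2, one_mul]
  have hk₂m : z' * k₂ * z'⁻¹ * k₂⁻¹ = z := by
    rw [hk₂z'2, z'i]
    calc z * (k₂ * z') * z' * k₂⁻¹ = z * (k₂ * (z' * z')) * k₂⁻¹ := by group
      _ = z := by rw [hz'2]; group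
  have A1 : Mem (cj n₀ K) z := by have := hK.cj n₀; rwa [hn₀z'] at this
  have A2 : Mem (cj n₀ K₂) z := by have := hK₂.cj n₀; rwa [hn₀z'] at this
  have A3 : n₀ * y * n₀⁻¹ ∈ cj n₀ K := conj_mem_cj hyK
  have A4 : (n₀ * y * n₀⁻¹) * z' ∈ cj n₀ K₂ := by
    have : (n₀ * y * n₀⁻¹) * z' = n₀ * (y * z) * n₀⁻¹ := by rw [← hn₀z]; group
    rw [this]; exact conj_mem_cj hyzK₂
  have B1 : J = cj n₀ K ∨ J = cj n₀ K₂ :=
    A1.eq_of_moved A2 hJ A3 A4 hkJ (by rw [hkm]; exact hJ.s_not_mem_O)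
  have B2 : J₂ = cj n₀ K ∨ J₂ = cj n₀ K₂ :=
    A1.eq_of_moved A2 hJ₂ A3 A4 hk₂J (by rw [hk₂m]; exact hJ.s_not_mem_O)
  obtain ⟨n, hnz, hnz', hnS, hnK, hnK₂⟩ : ∃ n, n * z * n⁻¹ = z' ∧ n * z' * n⁻¹ = z ∧ cj n S = S ∧ cj n K = J ∧
      cj n K₂ = J₂ := by
    rcases B1 with B1 | B1
    · rcases B2 with B2 | B2
      · exact absurd (B1.trans B2.symm) J_ne
      · exact ⟨n₀, hn₀z, hn₀z', hcS, B1.symm, B2.symm⟩
    · rcases B2 with B2 | B2
      · refine ⟨n₀ * a, ?_, ?_, ?_, ?_, ?_⟩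
        · calc n₀ * a * z * (n₀ * a)⁻¹ = n₀ * (a * z * a⁻¹) * n₀⁻¹ := by group
            _ = z' := by rw [haz, mul_inv_cancel_right, hn₀z]
        · calc n₀ * a * z' * (n₀ * a)⁻¹ = n₀ * (a * z' * a⁻¹) * n₀⁻¹ := by group
            _ = z := by rw [haz', mul_inv_cancel_right, hn₀z']
        · rw [cj_mul, mem_normalizer_iff_cj.1 (le_normalizer haS), hcS]
        · rw [cj_mul, hK₂def, B1]
        · rw [cj_mul, haK₂, B2]
      · exact absurd (B1.trans B2.symm) J_ne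
  -- `x`
  obtain ⟨x, hxdef⟩ : ∃ x, x = n * y * n⁻¹ := ⟨_, rfl⟩
  have hxJ : x ∈ J := by rw [hxdef, ← hnK]; exact conj_mem_cj hyK
  have hxS : x ∈ S := by rw [hxdef, ← hnS]; exact conj_mem_cj hyS
  have hxT : x ∈ T := hST hxS
  have hxT' : x ∈ T' := hST' hxS
  have hx2 : x * x = z := by
    rw [hxdef]
    calc n * y * n⁻¹ * (n * y * n⁻¹) = n * (y * y) * n⁻¹ := by group
      _ = z := by rw [hy2, hnz']
  have hxJ₂ : x * z' ∈ J₂ := by
    have : x * z' = n * (y * z) * n⁻¹ := by rw [hxdef]; conv_lhs => rw [← hnz]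
                                            group
    rw [this, ← hnK₂]; exact conj_mem_cj hyzK₂
  have hxz : x * z = z * x := Sz x hxS
  have hxz' : x * z' = z' * x := Sz' x hxS
  -- `x` moves `K`
  have hzm : z * l * z⁻¹ * l⁻¹ = z' := by
    have h1 : z * l = z' * (l * z) := by rw [hlz, rea hzz, mul_assoc, rea hz'2, one_mul]
    rw [h1, zi]
    calc z' * (l * z) * z * l⁻¹ = z' * (l * (z * z)) * l⁻¹ := by group
      _ = z' := by rw [hz2]; group
  have C1 : Mem (cj n J) z' := by have := hJ.cj n; rwa [hnz] at this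
  have C2 : cj n J = K ∨ cj n J = K₂ := by
    refine hK.eq_of_moved hK₂ C1 hyK hyzK₂ (m := n * k * n⁻¹) (conj_mem_cj hkJ) ?_
    have e : z * (n * k * n⁻¹) * z⁻¹ * (n * k * n⁻¹)⁻¹ = z' := by
      calc z * (n * k * n⁻¹) * z⁻¹ * (n * k * n⁻¹)⁻¹
          = (n * z' * n⁻¹) * (n * k * n⁻¹) * (n * z' * n⁻¹)⁻¹ * (n * k * n⁻¹)⁻¹ := by rw [hnz']
        _ = n * (z' * k * z'⁻¹ * k⁻¹) * n⁻¹ := by group
        _ = z' := by rw [hkm, hnz]
    rw [e]; exact hK.s_not_mem_O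
  have zSJ : cj z J = J := hJ.cj_eq hJ hJ.s_mem
  have hyzyz : (y * z) * (y * z) = z' := by
    calc (y * z) * (y * z) = y * (z * y) * z := by group
      _ = y * (y * z) * z := by rw [hyz]
      _ = (y * y) * (z * z) := by group
      _ = z' := by rw [hy2, hz2, mul_one]
  have hcy : cj x K ≠ K := by
    intro hxK
    obtain ⟨e, hedef⟩ : ∃ e, e = n * x * n⁻¹ := ⟨_, rfl⟩
    have heJ : cj e J = J := by
      conv_lhs => rw [← hnK]
      rw [← cj_mul, hedef, inv_mul_cancel_right, cj_mul, hxK, hnK]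
    have heS : e ∈ S := by rw [hedef, ← hnS]; exact conj_mem_cj hxS
    have he2 : e * e = z' := by
      rw [hedef]
      calc n * x * n⁻¹ * (n * x * n⁻¹) = n * (x * x) * n⁻¹ := by group
        _ = z' := by rw [hx2, hnz]
    have heM : e ∈ cj n J := by rw [hedef]; exact conj_mem_cj hxJ
    have hez : e * z = z * e := Sz e heS
    rcases C2 with C2 | C2
    · rw [C2] at heM
      have h1 : e * (y * z) = (y * z) * e := hK.comm_of_ne hK₂ K_ne hT'.2.1 heM (hST' heS) hyzK₂ hyzT'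
      have h2 : y * e = e * y := by
        rw [mul_assoc, ← hez, ← mul_assoc, ← mul_assoc] at h1
        exact (mul_right_cancel h1).symm
      rcases hK.eq_or hT' hyK yT' heM (hST' heS) hy2 he2 h2 with h3 | h3
      · rw [h3] at heJ; exact hmv heJ
      · rw [h3, cj_mul] at heJ
        conv_rhs at heJ => rw [← h0]
        exact hmv (cj_inj.1 heJ)
    · rw [C2] at heM
      have h1 : y * e = e * y := hK.comm_of_ne hK₂ K_ne hT'.2.1 hyK yT' heM (hST' heS)
      have h2 : (y * z) * e = e * (y * z) := by rw [mul_assoc, ← hez, ← mul_assoc, h1, mul_assoc]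
      have h4 : (y * z) * (y * z) = z' := hyzyz
      rcases hK₂.eq_or hT' hyzK₂ hyzT' heM (hST' heS) h4 he2 h2 with h3 | h3
      · rw [h3, cj_mul, zSJ] at heJ; exact hmv heJ
      · rw [h3, cj_mul, cj_mul, zSJ] at heJ
        conv_rhs at heJ => rw [← h0]
        exact hmv (cj_inj.1 heJ)
  have cK : cj x⁻¹ K = K₂ := by
    have h1 : Mem (cj x⁻¹ K) z' := hK.cj_of_comm (by
      rw [inv_mul_eq_iff_eq_mul, ← mul_assoc, hxz', mul_inv_cancel_right])
    have h2 : x⁻¹ * l * x ∈ cj x⁻¹ K := by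
      rw [mem_cj]
      have : x⁻¹⁻¹ * (x⁻¹ * l * x) * x⁻¹ = l := by group
      rwa [this]
    rcases hK.eq_of_moved hK₂ h1 hyK hyzK₂ h2 (t := z) (by
      have e : z * (x⁻¹ * l * x) * z⁻¹ * (x⁻¹ * l * x)⁻¹ = z' := by
        calc z * (x⁻¹ * l * x) * z⁻¹ * (x⁻¹ * l * x)⁻¹
            = (z * x⁻¹) * l * (x * z⁻¹) * x⁻¹ * l⁻¹ * x := by group
          _ = (x⁻¹ * z) * l * (z⁻¹ * x) * x⁻¹ * l⁻¹ * x := by
            have e1 : z * x⁻¹ = x⁻¹ * z := by
              rw [eq_inv_mul_iff_mul_eq, ← mul_assoc, hxz, mul_inv_cancel_right]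
            have e2 : x * z⁻¹ = z⁻¹ * x := by rw [zi, hxz]
            rw [e1, e2]
          _ = x⁻¹ * (z * l * z⁻¹ * l⁻¹) * x := by group
          _ = z' := by rw [hzm, mul_assoc, ← hxz', inv_mul_cancel_left]
      rw [e]; exact hK.s_not_mem_O) with h3 | h3
    · exfalso
      apply hcy
      conv_lhs => rw [← h3, cj_cj_inv]
    · exact h3
  -- the commutators
  have D1 : x⁻¹ * y * x ∈ K₂ := by
    rw [← cK, mem_cj]
    have : x⁻¹⁻¹ * (x⁻¹ * y * x) * x⁻¹ = y := by group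
    rwa [this]
  have D1S : x⁻¹ * y * x ∈ S := mul_mem (mul_mem (inv_mem hxS) hyS) hxS
  have D2 : y⁻¹ * x * y ∈ J₂ := by
    rw [← hJ₂def, mem_cj]
    have : y⁻¹⁻¹ * (y⁻¹ * x * y) * y⁻¹ = x := by group
    rwa [this]
  have D2S : y⁻¹ * x * y ∈ S := mul_mem (mul_mem (inv_mem hyS) hxS) hyS
  have E1 : x⁻¹ * y * x = y * z ∨ x⁻¹ * y * x = z' * (y * z) := by
    have h1 : y * (x⁻¹ * y * x) = (x⁻¹ * y * x) * y := hK.comm_of_ne hK₂ K_ne hT'.2.1 hyK yT' D1 (hST' D1S)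
    have h2 : (y * z) * (x⁻¹ * y * x) = (x⁻¹ * y * x) * (y * z) := by
      rw [mul_assoc, ← Sz _ D1S, ← mul_assoc, h1, mul_assoc]
    have h4 : (y * z) * (y * z) = z' := hyzyz
    have h5 : (x⁻¹ * y * x) * (x⁻¹ * y * x) = z' := by
      calc (x⁻¹ * y * x) * (x⁻¹ * y * x) = x⁻¹ * (y * y) * x := by group
        _ = z' := by rw [hy2, mul_assoc, ← hxz', inv_mul_cancel_left]
    exact hK₂.eq_or hT' hyzK₂ hyzT' D1 (hST' D1S) h4 h5 h2
  have E2 : y⁻¹ * x * y = x * z' ∨ y⁻¹ * x * y = z * (x * z') := by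
    have h1 : x * (y⁻¹ * x * y) = (y⁻¹ * x * y) * x := hJ.comm_of_ne hJ₂ J_ne hT.2.1 hxJ hxT D2 (hST D2S)
    have h2 : (x * z') * (y⁻¹ * x * y) = (y⁻¹ * x * y) * (x * z') := by
      rw [mul_assoc, ← Sz' _ D2S, ← mul_assoc, h1, mul_assoc]
    have h4 : (x * z') * (x * z') = z := by
      calc (x * z') * (x * z') = x * (z' * x) * z' := by group
        _ = x * (x * z') * z' := by rw [hxz']
        _ = (x * x) * (z' * z') := by group
        _ = z := by rw [hx2, hz'2, mul_one]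
    have h5 : (y⁻¹ * x * y) * (y⁻¹ * x * y) = z := by
      calc (y⁻¹ * x * y) * (y⁻¹ * x * y) = y⁻¹ * (x * x) * y := by group
        _ = z := by rw [hx2, mul_assoc, ← hyz, inv_mul_cancel_left]
    exact hJ₂.eq_or hT hxJ₂ (mul_mem hxT (hST z'S)) D2 (hST D2S) h4 h5 h2
  have key : x⁻¹ * y * x = y * (z * z') ∧ y⁻¹ * x * y = x * (z * z') := by
    have tr : ∀ u v : G, x⁻¹ * y * x = y * u → y⁻¹ * x * y = x * v → v * u = 1 := by
      intro u v h1 h2
      have h3 : y * x = x * (y * u) := by rw [← h1]; group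
      have h4 : x * y = y * (x * v) := by rw [← h2]; group
      have h5 : y * x = y * x * (v * u) := by
        calc y * x = (x * y) * u := by rw [h3, mul_assoc]
          _ = y * x * (v * u) := by rw [h4]; group
      exact (left_eq_mul.1 h5)
    have e1 : z' * (y * z) = y * (z * z') := by rw [rea hyz'.symm, mul_assoc, hzz]
    have e2 : z * (x * z') = x * (z * z') := by rw [rea hxz.symm, mul_assoc]
    rw [e1] at E1
    rw [e2] at E2
    rcases E1 with E1 | E1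
    · rcases E2 with E2 | E2
      · exfalso
        apply hne
        have := tr _ _ E1 E2
        rw [← z'i]
        exact (inv_eq_of_mul_eq_one_right this).symm
      · exfalso
        have := tr _ _ E1 E2
        rw [mul_assoc, hzz, rea hz2, one_mul] at this
        exact hz'_ne this
    · rcases E2 with E2 | E2
      · exfalso
        have := tr _ _ E1 E2
        rw [rea hzz, mul_assoc, hz'2, mul_one] at this
        exact hz_ne this
      · exact ⟨E1, E2⟩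
  exact ⟨J₂, K₂, T, T', x, hne, hJ, hJ₂, hK, hK₂, J_ne, K_ne, hT, hT', fun u hu hc => hST' (TS u hu hc),
    fun u hu hc => hST (T'S u hu hc), hxT, yT', hyz, hxz', hxJ, hxJ₂, hyK, hyzK₂, hx2, hy2, key.2, key.1, hJ₂def, cK⟩

end Cfsg.Agent.Cit.SLThree
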