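import Cfsg.Agent.Cit.SLThreeSyl

/-!
# The final contradiction: `A₇` acting on `2⁴`
-/

set_option autoImplicit false
set_option linter.unusedSimpArgs false
set_option linter.style.haveILetI false

namespace Cfsg.Agent.Cit.SLThree

open Subgroup Cfsg

variable {G : Type*} [Group G]

namespace Fin4

/-- the model of `2⁴` -/
abbrev V := ZMod 2 × ZMod 2 × ZMod 2 × ZMod 2

/-- four commuting involutions -/
structure Four (z z' a t : G) : Prop where
  z2 : z * z = 1
  z'2 : z' * z' = 1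
  a2 : a * a = 1
  t2 : t * t = 1
  c1 : z * z' = z' * z
  c2 : z * a = a * z
  c3 : z * t = t * z
  c4 : z' * a = a * z'
  c5 : z' * t = t * z'
  c6 : a * t = t * a

def f (z z' a t : G) (v : V) : G := z ^ v.1.val * z' ^ v.2.1.val * a ^ v.2.2.1.val * t ^ v.2.2.2.val

theorem pow_val {u : G} (hu : u * u = 1) (p q : ZMod 2) : u ^ (p + q).val = u ^ p.val * u ^ q.val := by
  have two : ∀ p : ZMod 2, p = 0 ∨ p = 1 := by decide
  rcases two p with rfl | rfl <;> rcases two q with rfl | rfl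
  · simp
  · simp
  · simp
  · have e1 : ((1 : ZMod 2) + 1).val = 0 := by decide
    have e2 : (1 : ZMod 2).val = 1 := by decide
    rw [e1, e2, pow_zero, pow_one, hu]

variable {z z' a t : G}

theorem f_add (h : Four z z' a t) (v w : V) : f z z' a t (v + w) = f z z' a t v * f z z' a t w := by
  obtain ⟨p, q, r, s⟩ := v
  obtain ⟨p', q', r', s'⟩ := w
  simp only [f, Prod.mk_add_mk, pow_val h.z2, pow_val h.z'2, pow_val h.a2, pow_val h.t2]
  have c1 : Commute z z' := h.c1
  have c2 : Commute z a := h.c2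
  have c3 : Commute z t := h.c3
  have c4 : Commute z' a := h.c4
  have c5 : Commute z' t := h.c5
  have c6 : Commute a t := h.c6
  rw [Commute.mul_mul_mul_comm (b := t ^ s.val), Commute.mul_mul_mul_comm (b := a ^ r.val),
    Commute.mul_mul_mul_comm (b := z' ^ q.val)]
  · exact (c1.symm.pow_pow _ _)
  · exact ((c2.symm.pow_pow _ _).mul_right (c4.symm.pow_pow _ _))
  · exact (((c3.symm.pow_pow _ _).mul_right (c5.symm.pow_pow _ _)).mul_right (c6.symm.pow_pow _ _))

theorem f_zero : f z z' a t 0 = 1 := by simp [f]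

/-- `w` acts on the four-dimensional space as `A` -/
def Act (z z' a t : G) (w : G) (A : V → V) : Prop := ∀ v, w⁻¹ * f z z' a t v * w = f z z' a t (A v)

theorem act_of (h : Four z z' a t) {w : G} {A : V → V} (hA : ∀ v v', A (v + v') = A v + A v')
    (h1 : w⁻¹ * z * w = f z z' a t (A (1, 0, 0, 0))) (h2 : w⁻¹ * z' * w = f z z' a t (A (0, 1, 0, 0)))
    (h3 : w⁻¹ * a * w = f z z' a t (A (0, 0, 1, 0))) (h4 : w⁻¹ * t * w = f z z' a t (A (0, 0, 0, 1))) :
    Act z z' a t w A := by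
  have hadd : ∀ v v', (w⁻¹ * f z z' a t v * w = f z z' a t (A v)) → (w⁻¹ * f z z' a t v' * w = f z z' a t (A v')) →
      w⁻¹ * f z z' a t (v + v') * w = f z z' a t (A (v + v')) := by
    intro v v' e1 e2
    rw [hA, f_add h, f_add h, ← e1, ← e2]; group
  have h0 : w⁻¹ * f z z' a t 0 * w = f z z' a t (A 0) := by
    have e : A 0 = 0 := by
      have := hA 0 0
      rw [add_zero] at this
      exact left_eq_add.1 this
    rw [e, f_zero]; group
  have e2 : (1 : ZMod 2).val = 1 := by decide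
  have f1 : f z z' a t (1, 0, 0, 0) = z := by simp [f, e2]
  have f2 : f z z' a t (0, 1, 0, 0) = z' := by simp [f, e2]
  have f3 : f z z' a t (0, 0, 1, 0) = a := by simp [f, e2]
  have f4 : f z z' a t (0, 0, 0, 1) = t := by simp [f, e2]
  have two : ∀ p : ZMod 2, p = 0 ∨ p = 1 := by decide
  rintro ⟨p, q, r, s⟩
  have e : ((p, q, r, s) : V) = (p, 0, 0, 0) + ((0, q, 0, 0) + ((0, 0, r, 0) + (0, 0, 0, s))) := by
    simp
  rw [e]
  refine hadd _ _ ?_ (hadd _ _ ?_ (hadd _ _ ?_ ?_))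
  · rcases two p with rfl | rfl
    · exact h0
    · rw [f1]; exact h1
  · rcases two q with rfl | rfl
    · exact h0
    · rw [f2]; exact h2
  · rcases two r with rfl | rfl
    · exact h0
    · rw [f3]; exact h3
  · rcases two s with rfl | rfl
    · exact h0
    · rw [f4]; exact h4

theorem Act.mul {w w' : G} {A B : V → V} (h : Act z z' a t w A) (h' : Act z z' a t w' B) :
    Act z z' a t (w * w') (fun v => B (A v)) := by
  intro v
  have e : (w * w')⁻¹ * f z z' a t v * (w * w') = w'⁻¹ * (w⁻¹ * f z z' a t v * w) * w' := by group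
  rw [e, h v, h' (A v)]

theorem Act.inv {w : G} {A B : V → V} (h : Act z z' a t w A) (hAB : ∀ v, A (B v) = v) :
    Act z z' a t w⁻¹ B := by
  intro v
  have := h (B v)
  rw [hAB] at this
  rw [← this]; group

/-- the four maps of the model -/
def mka (v : V) : V := (v.1 + v.2.1 + v.2.2.2, v.2.1, v.2.2.1 + v.2.2.2, v.2.2.2)
def ml (v : V) : V := (v.1, v.1 + v.2.1, v.2.2.2, v.2.2.1)
def md (v : V) : V := (v.1, v.2.2.1, v.2.1 + v.2.2.1, v.2.2.2)
def me (v : V) : V := (v.1, v.2.1 + v.2.2.1, v.2.1, v.2.2.2)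

def mg (v : V) : V := ml (md (ml (me (ml (me (ml v))))))
def mgi (v : V) : V := ml (md (ml (md (ml (me (ml v))))))
def mh (v : V) : V := mg (mka (mgi (mka v)))

theorem mka_add (v w : V) : mka (v + w) = mka v + mka w := by
  refine Prod.ext ?_ (Prod.ext ?_ (Prod.ext ?_ ?_)) <;> simp only [mka, Prod.fst_add, Prod.snd_add] <;> ring

theorem ml_add (v w : V) : ml (v + w) = ml v + ml w := by
  refine Prod.ext ?_ (Prod.ext ?_ (Prod.ext ?_ ?_)) <;> simp only [ml, Prod.fst_add, Prod.snd_add] <;> ring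

theorem md_add (v w : V) : md (v + w) = md v + md w := by
  refine Prod.ext ?_ (Prod.ext ?_ (Prod.ext ?_ ?_)) <;> simp only [md, Prod.fst_add, Prod.snd_add] <;> ring

theorem add_self_eq : ∀ v : V, v + v = 0 := by decide +kernel

theorem mg_one : mg (1, 0, 0, 0) = (1, 0, 0, 0) := by decide +kernel
theorem mg_mgi : ∀ v, mg (mgi v) = v := by decide +kernel
theorem md_me : ∀ v, md (me v) = v := by decide +kernel
theorem mh_cube : ∀ v, mh (mh (mh v)) = v := by decide +kernel
theorem mh_4 : mh (0, 0, 0, 1) = (0, 0, 1, 0) := by decide +kernel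
theorem mh_3 : mh (0, 0, 1, 0) = (1, 0, 1, 1) := by decide +kernel

end Fin4

open Fin4

theorem mem_of_three {H : Subgroup G} {h : G} (h3 : h * h * h ∈ H) {m : ℕ} (hm : h ^ 2 ^ m ∈ H) : h ∈ H := by
  have h4 : h ^ 3 ∈ H := by rw [pow_succ, pow_two]; exact h3
  have h5 : Nat.Coprime 3 (2 ^ m) := Nat.Coprime.pow_right m (by norm_num)
  have h6 : (1 : ℤ) = (3 : ℕ) * Nat.gcdA 3 (2 ^ m) + (2 ^ m : ℕ) * Nat.gcdB 3 (2 ^ m) := by
    rw [← Nat.gcd_eq_gcd_ab, h5]; rfl
  have h7 : h = (h ^ 3) ^ (Nat.gcdA 3 (2 ^ m)) * (h ^ 2 ^ m) ^ (Nat.gcdB 3 (2 ^ m)) := by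
    rw [← zpow_natCast, ← zpow_natCast, ← zpow_mul, ← zpow_mul, ← zpow_add, ← h6, zpow_one]
  rw [h7]
  exact mul_mem (zpow_mem h4 _) (zpow_mem hm _)

/-- **the final contradiction** -/
theorem final [Finite G] {z z' a t k l d : G} (h : Four z z' a t) (hz1 : z ≠ 1)
    (k1 : k⁻¹ * z * k = z) (k2 : k⁻¹ * z' * k = z * z') (k3 : k⁻¹ * a * k = a) (k4 : k⁻¹ * t * k = z * a * t)
    (l1 : l⁻¹ * z * l = z * z') (l2 : l⁻¹ * z' * l = z') (l3 : l⁻¹ * a * l = t) (l4 : l⁻¹ * t * l = a)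
    (d1 : d⁻¹ * z * d = z) (d2 : d⁻¹ * z' * d = a) (d3 : d⁻¹ * a * d = z' * a) (d4 : d⁻¹ * t * d = t)
    (hk : k ∈ NN z) : False := by
  have e2 : (1 : ZMod 2).val = 1 := by decide
  have f1 : f z z' a t (1, 0, 0, 0) = z := by simp [f, e2]
  have f2 : f z z' a t (0, 1, 0, 0) = z' := by simp [f, e2]
  have f3 : f z z' a t (0, 0, 1, 0) = a := by simp [f, e2]
  have f4 : f z z' a t (0, 0, 0, 1) = t := by simp [f, e2]
  have Ak : Act z z' a t k mka := by
    refine act_of h mka_add ?_ ?_ ?_ ?_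
    · rw [k1]; exact f1.symm
    · rw [k2]; simp [f, mka, e2]
    · rw [k3]; simp [f, mka, e2]
    · rw [k4]; simp [f, mka, e2]
  have Al : Act z z' a t l ml := by
    refine act_of h ml_add ?_ ?_ ?_ ?_
    · rw [l1]; simp [f, ml, e2]
    · rw [l2]; simp [f, ml, e2]
    · rw [l3]; simp [f, ml, e2]
    · rw [l4]; simp [f, ml, e2]
  have Ad : Act z z' a t d md := by
    refine act_of h md_add ?_ ?_ ?_ ?_
    · rw [d1]; simp [f, md, e2]
    · rw [d2]; simp [f, md, e2]
    · rw [d3]; simp [f, md, e2]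
    · rw [d4]; simp [f, md, e2]
  have Ae : Act z z' a t d⁻¹ me := Ad.inv md_me
  -- the element `g`
  have Ag0 := (((((Al.mul Ae).mul Al).mul Ae).mul Al).mul Ad).mul Al
  have Ag : Act z z' a t (l * d⁻¹ * l * d⁻¹ * l * d * l) mg := Ag0
  clear Ag0
  generalize l * d⁻¹ * l * d⁻¹ * l * d * l = g at Ag
  have Agi : Act z z' a t g⁻¹ mgi := Ag.inv mg_mgi
  have hg : g⁻¹ * z * g = z := by
    have := Ag (1, 0, 0, 0)
    rwa [mg_one, f1] at this
  have hgC : g ∈ centralizer ({z} : Set G) := by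
    rw [mem_centralizer_singleton_iff]
    calc g * z = g * (g⁻¹ * z * g) := by rw [hg]
      _ = z * g := by group
  have Ah0 := Ak.mul ((Agi.mul Ak).mul Ag)
  have Ah : Act z z' a t (k * (g⁻¹ * k * g)) mh := Ah0
  clear Ah0
  have hhN : k * (g⁻¹ * k * g) ∈ NN z := by
    have := conj_mem_NN (inv_mem hgC) hk
    rw [inv_inv] at this
    exact mul_mem hk this
  generalize k * (g⁻¹ * k * g) = x at Ah hhN
  have hxC := NN_le z hhN
  obtain ⟨m, hm⟩ := NN_pow hhN
  -- the group `U`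
  let U : Subgroup G := closure (Set.range (f z z' a t))
  have hU : ∀ u ∈ U, ∃ v, u = f z z' a t v := by
    intro u hu
    induction hu using Subgroup.closure_induction with
    | mem x hx => obtain ⟨v, rfl⟩ := hx; exact ⟨v, rfl⟩
    | one => exact ⟨0, f_zero.symm⟩
    | mul x y _ _ hx hy =>
      obtain ⟨v, rfl⟩ := hx
      obtain ⟨w, rfl⟩ := hy
      exact ⟨v + w, (f_add h v w).symm⟩
    | inv x _ hx =>
      obtain ⟨v, rfl⟩ := hx
      have e : f z z' a t v * f z z' a t v = 1 := by rw [← f_add h, add_self_eq, f_zero]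
      exact ⟨v, inv_eq_of_mul_eq_one_right e⟩
  have hsq : ∀ v, f z z' a t v * f z z' a t v = 1 := by
    intro v
    rw [← f_add h]
    rw [add_self_eq, f_zero]
  have hU2 : IsPGroup 2 U := by
    rintro ⟨u, hu⟩
    obtain ⟨v, hv⟩ := hU u hu
    have e : u ^ 2 ^ 1 = 1 := by rw [hv, pow_one, pow_two, hsq]
    exact ⟨1, Subtype.ext e⟩
  have hfU : ∀ v, f z z' a t v ∈ U := fun v => subset_closure ⟨v, rfl⟩
  have hfC : ∀ v, f z z' a t v ∈ centralizer ({z} : Set G) := by
    intro v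
    rw [mem_centralizer_singleton_iff]
    have e1 := f_add h v (1, 0, 0, 0)
    have e3 := f_add h (1, 0, 0, 0) v
    rw [f1] at e1 e3
    rw [← e1, ← e3, add_comm]
  -- a power of two of `x` centralises `U`
  have hpow : ∀ v, (x ^ 2 ^ m) * f z z' a t v = f z z' a t v * (x ^ 2 ^ m) := by
    intro v
    have hxn : ∀ n : ℕ, ∀ v, ∃ w, (x ^ n)⁻¹ * f z z' a t v * (x ^ n) = f z z' a t w := by
      intro n
      induction n with
      | zero => intro v; exact ⟨v, by simp⟩
      | succ n ih =>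
        intro v
        obtain ⟨w, hw⟩ := ih v
        have e : (x ^ (n + 1))⁻¹ * f z z' a t v * (x ^ (n + 1)) = f z z' a t (mh w) := by
          rw [← Ah w, ← hw, pow_succ]; group
        exact ⟨mh w, e⟩
    obtain ⟨w, hw⟩ := hxn (2 ^ m) v
    have h1 : f z z' a t v * (f z z' a t w)⁻¹ ∈ O z := by
      have e : f z z' a t v * (f z z' a t w)⁻¹ = f z z' a t v * (x ^ 2 ^ m)⁻¹ * (f z z' a t v)⁻¹ * (x ^ 2 ^ m) := by
        rw [← hw]; group
      rw [e]
      exact mul_mem ((mem_normalizer_iff.1 (cent_le z (hfC v)) _).1 (inv_mem hm)) hm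
    have h2 := eq_one_of_mem_O h1 hU2 (mul_mem (hfU v) (inv_mem (hfU w)))
    have h3 : f z z' a t v = f z z' a t w := mul_inv_eq_one.1 h2
    rw [← h3] at hw
    rw [mul_assoc, inv_mul_eq_iff_eq_mul] at hw
    exact hw.symm
  have hcube : ∀ v, (x * x * x) * f z z' a t v = f z z' a t v * (x * x * x) := by
    intro v
    have e := (Ah.mul (Ah.mul Ah)) v
    simp only [mh_cube] at e
    have e3 : (x * (x * x))⁻¹ * f z z' a t v * (x * (x * x)) = f z z' a t v := e
    rw [mul_assoc, inv_mul_eq_iff_eq_mul] at e3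
    rw [mul_assoc x x x]
    exact e3.symm
  have hx : ∀ v, x * f z z' a t v = f z z' a t v * x := by
    intro v
    have := mem_of_three (H := centralizer {f z z' a t v}) (h := x) (mem_centralizer_singleton_iff.2 (hcube v))
      (mem_centralizer_singleton_iff.2 (hpow v))
    exact mem_centralizer_singleton_iff.1 this
  have hx2 : ∀ v, f z z' a t (mh v) = f z z' a t v := by
    intro v
    rw [← Ah v, mul_assoc, ← hx, inv_mul_cancel_left]
  have e3 := hx2 (0, 0, 0, 1)
  rw [mh_4, f3, f4] at e3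
  have e4 := hx2 (0, 0, 1, 0)
  rw [mh_3, f3] at e4
  have e5 : f z z' a t (1, 0, 1, 1) = z * a * t := by simp [f, e2]
  rw [e5, ← e3, mul_assoc, h.a2, mul_one] at e4
  -- now `z = a = t`
  rw [← e4, d1] at d3
  have e6 : z' = 1 := (mul_eq_right.1 d3.symm)
  rw [e6, mul_one, inv_mul_cancel] at d2
  exact hz1 (e4.trans d2.symm)

end Cfsg.Agent.Cit.SLThree
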