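import Cfsg.Agent.Cit.SLThreeConf
import Cfsg.Agent.Cit.SLThreeFinal

/-!
# The configuration `Conf` is impossible
-/

set_option autoImplicit false
set_option linter.unusedSimpArgs false
set_option linter.style.haveILetI false

namespace Cfsg.Agent.Cit.SLThree

open Subgroup Cfsg

/-- the action of `e e^t` on `x x^t`, `k k^t`, `t` -/
theorem diag_act {H : Type*} [Group H] {e t x k z : H} (ht : t * t = 1) (hz : z * z = 1) (zx : x * z = z * x)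
    (zk : k * z = z * k) (zt : t * z = z * t)
    (h1 : e * (t⁻¹ * x * t) = (t⁻¹ * x * t) * e) (h2 : e * (t⁻¹ * k * t) = (t⁻¹ * k * t) * e)
    (h3 : e * (t⁻¹ * e * t) = (t⁻¹ * e * t) * e) (h4 : k * (t⁻¹ * x * t) = (t⁻¹ * x * t) * k)
    (hx : e * x * e⁻¹ = k ∨ e * x * e⁻¹ = z * k) (hk : e * k * e⁻¹ = x * k ∨ e * k * e⁻¹ = z * (x * k)) :
    (e * (t⁻¹ * e * t)) * (x * (t⁻¹ * x * t)) * (e * (t⁻¹ * e * t))⁻¹ = k * (t⁻¹ * k * t) ∧
    (e * (t⁻¹ * e * t)) * (k * (t⁻¹ * k * t)) * (e * (t⁻¹ * e * t))⁻¹ =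
      (x * (t⁻¹ * x * t)) * (k * (t⁻¹ * k * t)) ∧
    (e * (t⁻¹ * e * t)) * t * (e * (t⁻¹ * e * t))⁻¹ = t := by
  have ti : t⁻¹ = t := inv_eq_of_mul_eq_one_right ht
  have key : ∀ q : H, e * (t⁻¹ * q * t) = (t⁻¹ * q * t) * e →
      (e * (t⁻¹ * e * t)) * (q * (t⁻¹ * q * t)) * (e * (t⁻¹ * e * t))⁻¹ =
        (e * q * e⁻¹) * (t⁻¹ * (e * q * e⁻¹) * t) := by
    intro q hq
    have h5 : (t⁻¹ * e * t) * q = q * (t⁻¹ * e * t) := by
      have h6 : t⁻¹ * (e * (t⁻¹ * q * t)) * t = t⁻¹ * ((t⁻¹ * q * t) * e) * t := by rw [hq]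
      have e1 : t⁻¹ * (e * (t⁻¹ * q * t)) * t = (t⁻¹ * e * t) * ((t⁻¹ * t⁻¹) * q * (t * t)) := by group
      have e2 : t⁻¹ * ((t⁻¹ * q * t) * e) * t = ((t⁻¹ * t⁻¹) * q * (t * t)) * (t⁻¹ * e * t) := by group
      rw [e1, e2] at h6
      have e3 : t⁻¹ * t⁻¹ = 1 := by rw [ti, ht]
      rwa [e3, ht, one_mul, mul_one] at h6
    generalize hE : t⁻¹ * e * t = E at *
    generalize hQ : t⁻¹ * q * t = Q at *
    have h7 : t⁻¹ * (e * q * e⁻¹) * t = E * Q * E⁻¹ := by rw [← hE, ← hQ]; group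
    rw [h7]
    have h8 : e⁻¹ * E = E * e⁻¹ := by
      rw [inv_mul_eq_iff_eq_mul, ← mul_assoc, h3, mul_inv_cancel_right]
    have h9 : e⁻¹ * Q = Q * e⁻¹ := by
      rw [inv_mul_eq_iff_eq_mul, ← mul_assoc, hq, mul_inv_cancel_right]
    have h10 : E⁻¹ * e⁻¹ = e⁻¹ * E⁻¹ := by
      rw [← mul_inv_rev, ← mul_inv_rev, h3]
    calc (e * E) * (q * Q) * (e * E)⁻¹ = e * (E * q) * Q * (E⁻¹ * e⁻¹) := by group
      _ = e * q * E * Q * (e⁻¹ * E⁻¹) := by rw [h5, h10]; group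
      _ = e * q * E * (Q * e⁻¹) * E⁻¹ := by group
      _ = e * q * (E * e⁻¹) * Q * E⁻¹ := by rw [← h9]; group
      _ = (e * q * e⁻¹) * (E * Q * E⁻¹) := by rw [← h8]; group
  have zc : ∀ w : H, (z * w) * (t⁻¹ * (z * w) * t) = z * w * z * (t⁻¹ * w * t) := by
    intro w
    have e1 : t⁻¹ * z = z * t⁻¹ := by rw [inv_mul_eq_iff_eq_mul, ← mul_assoc, zt, mul_inv_cancel_right]
    calc (z * w) * (t⁻¹ * (z * w) * t) = z * w * (t⁻¹ * z) * w * t := by group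
      _ = _ := by rw [e1]; group
  refine ⟨?_, ?_, ?_⟩
  · rw [key x h1]
    rcases hx with hx | hx
    · rw [hx]
    · have e2 : z * k * z = k := by rw [mul_assoc, zk, ← mul_assoc, hz, one_mul]
      rw [hx, zc, e2]
  · rw [key k h2]
    have e1 : (x * k) * (t⁻¹ * (x * k) * t) = (x * (t⁻¹ * x * t)) * (k * (t⁻¹ * k * t)) := by
      calc (x * k) * (t⁻¹ * (x * k) * t) = x * (k * (t⁻¹ * x * t)) * (t⁻¹ * k * t) := by group
        _ = _ := by rw [h4]; group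
    rcases hk with hk | hk
    · rw [hk, e1]
    · rw [hk, zc]
      have e2 : z * (x * k) * z = x * k := by
        rw [mul_assoc, mul_assoc, zk, ← mul_assoc x, zx, mul_assoc, ← mul_assoc z, hz, one_mul]
      rw [e2, e1]
  · have e1 : t⁻¹ * (e * (t⁻¹ * e * t)) * t = e * (t⁻¹ * e * t) := by
      calc t⁻¹ * (e * (t⁻¹ * e * t)) * t = (t⁻¹ * e * t) * ((t⁻¹ * t⁻¹) * e * (t * t)) := by group
        _ = (t⁻¹ * e * t) * e := by rw [ti, ht, one_mul, mul_one]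
        _ = _ := h3.symm
    rw [mul_inv_eq_iff_eq_mul]
    conv_rhs => rw [← e1]
    group

variable {G : Type*} [Group G]

namespace Conf

variable {z z' : G} {J J₂ K K₂ T T' : Subgroup G} {x y : G}

theorem z2 (C : Conf z z' J J₂ K K₂ T T' x y) : z * z = 1 := C.hJ.s2

theorem z'2 (C : Conf z z' J J₂ K K₂ T T' x y) : z' * z' = 1 := C.hK.s2

theorem xz (C : Conf z z' J J₂ K K₂ T T' x y) : x * z = z * x := C.hJ.comm_s C.xJ

theorem yz' (C : Conf z z' J J₂ K K₂ T T' x y) : y * z' = z' * y := C.hK.comm_s C.yK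

theorem zz (C : Conf z z' J J₂ K K₂ T T' x y) : z' * z = z * z' := by
  rw [← C.y2, mul_assoc, C.yz, ← mul_assoc, C.yz, mul_assoc]

theorem symm (C : Conf z z' J J₂ K K₂ T T' x y) : Conf z' z K K₂ J J₂ T' T y x where
  ne := C.ne.symm
  hJ := C.hK
  hJ₂ := C.hK₂
  hK := C.hJ
  hK₂ := C.hJ₂
  J_ne := C.K_ne
  K_ne := C.J_ne
  hT := C.hT'
  hT' := C.hT
  TT' := C.T'T
  T'T := C.TT'
  xT := C.yT'
  yT' := C.xT
  yz := C.xz'
  xz' := C.yz
  xJ := C.yK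
  xJ₂ := C.yK₂
  yK := C.xJ
  yK₂ := C.xJ₂
  x2 := C.y2
  y2 := C.x2
  xy := by rw [C.yx, C.zz]
  yx := by rw [C.xy, C.zz]
  cJ := C.cK
  cK := C.cJ

theorem xy' (C : Conf z z' J J₂ K K₂ T T' x y) : x * y = z * (z' * (y * x)) := by
  have h := C.xy
  rw [mul_assoc, inv_mul_eq_iff_eq_mul] at h
  rw [h, rea C.xz, mul_assoc, C.xz', rea C.yz, mul_assoc, rea C.yz', mul_assoc]

theorem xi (C : Conf z z' J J₂ K K₂ T T' x y) : x⁻¹ = z * x :=
  inv_eq_of_mul_eq_one_right (by rw [rea C.xz, mul_assoc, C.x2, C.z2])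

variable [Finite G]

theorem zT (C : Conf z z' J J₂ K K₂ T T' x y) : z ∈ T := C.hJ.s_mem_syl C.hT

theorem z'T (C : Conf z z' J J₂ K K₂ T T' x y) : z' ∈ T := C.T'T z' C.symm.zT C.zz

theorem xT' (C : Conf z z' J J₂ K K₂ T T' x y) : x ∈ T' := C.TT' x C.xT C.xz'

theorem yT (C : Conf z z' J J₂ K K₂ T T' x y) : y ∈ T := C.symm.xT'

end Conf

/-- an element of order 4 of `J ⊓ T` inverting `x` -/
structure KD (z : G) (J T : Subgroup G) (x k : G) : Prop where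
  kJ : k ∈ J
  kT : k ∈ T
  k2 : k * k = z
  kx : k * x = z * (x * k)

/-- derived properties -/
structure KP (z z' : G) (J J₂ T T' : Subgroup G) (x y k k₂ a : G) : Prop where
  D : KD z J T x k
  k₂def : k₂ = y⁻¹ * k * y
  adef : a = k * k₂
  k₂J : k₂ ∈ J₂
  k₂T : k₂ ∈ T
  k₂2 : k₂ * k₂ = z
  kk₂ : k * k₂ = k₂ * k
  kz : k * z = z * k
  kz' : k * z' = z * (z' * k)
  k₂z : k₂ * z = z * k₂
  k₂z' : k₂ * z' = z * (z' * k₂)
  xk₂ : x * k₂ = k₂ * x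
  a2 : a * a = 1
  az : a * z = z * a
  az' : a * z' = z' * a
  aT : a ∈ T
  aT' : a ∈ T'
  ay : a * y = z * (y * a)
  ax : a * x = z * (x * a)
  ky : k⁻¹ * y * k = z * (y * a)

namespace Conf

variable [Finite G] {z z' : G} {J J₂ K K₂ T T' : Subgroup G} {x y : G}

theorem exists_kd (C : Conf z z' J J₂ K K₂ T T' x y) : ∃ k, KD z J T x k := by
  obtain ⟨k, h1, h2, h3, h4⟩ := C.hJ.exists_inv C.hT C.xJ C.xT C.x2
  exact ⟨k, h1, h2, h3, h4⟩

theorem kp (C : Conf z z' J J₂ K K₂ T T' x y) {k : G} (D : KD z J T x k) :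
    KP z z' J J₂ T T' x y k (y⁻¹ * k * y) (k * (y⁻¹ * k * y)) := by
  have hz2 := C.z2
  have hz'2 := C.z'2
  have hzz := C.zz
  have z'i : z'⁻¹ = z' := inv_eq_of_mul_eq_one_right hz'2
  have kz : k * z = z * k := C.hJ.comm_s D.kJ
  have hxz' := C.xz'
  have hxz := C.xz
  have hyz := C.yz
  have hyz' := C.yz'
  have kz' : k * z' = z * (z' * k) := by
    have h1 : k * (x * z') = (x * z') * k :=
      C.hJ.comm_of_ne C.hJ₂ C.J_ne C.hT.2.1 D.kJ D.kT C.xJ₂ (mul_mem C.xT C.z'T)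
    rw [rea D.kx, mul_assoc, mul_assoc, rea hxz.symm, mul_assoc, mul_assoc] at h1
    have h2 := mul_left_cancel h1
    rw [← h2, rea hz2, one_mul]
  obtain ⟨k₂, hk₂⟩ : ∃ k₂, k₂ = y⁻¹ * k * y := ⟨_, rfl⟩
  have k₂J : k₂ ∈ J₂ := by
    rw [← C.cJ, mem_cj, hk₂]
    have : y⁻¹⁻¹ * (y⁻¹ * k * y) * y⁻¹ = k := by group
    rw [this]; exact D.kJ
  have k₂T : k₂ ∈ T := by rw [hk₂]; exact mul_mem (mul_mem (inv_mem C.yT) D.kT) C.yT
  have kk₂ : k * k₂ = k₂ * k := C.hJ.comm_of_ne C.hJ₂ C.J_ne C.hT.2.1 D.kJ D.kT k₂J k₂T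
  have xk₂ : x * k₂ = k₂ * x := C.hJ.comm_of_ne C.hJ₂ C.J_ne C.hT.2.1 C.xJ C.xT k₂J k₂T
  have k₂z : k₂ * z = z * k₂ := C.hJ₂.comm_s k₂J
  have k₂z' : k₂ * z' = z * (z' * k₂) := by
    rw [hk₂]
    calc y⁻¹ * k * y * z' = y⁻¹ * (k * z') * y := by rw [mul_assoc _ y z', hyz']; group
      _ = y⁻¹ * (z * (z' * k)) * y := by rw [kz']
      _ = (y⁻¹ * z) * z' * k * y := by group
      _ = (z * y⁻¹) * z' * k * y := by
        rw [inv_mul_eq_iff_eq_mul.2 (show z = y * (z * y⁻¹) by rw [← mul_assoc, hyz, mul_inv_cancel_right])]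
      _ = z * (y⁻¹ * z') * k * y := by group
      _ = z * (z' * y⁻¹) * k * y := by
        rw [inv_mul_eq_iff_eq_mul.2 (show z' = y * (z' * y⁻¹) by rw [← mul_assoc, hyz', mul_inv_cancel_right])]
      _ = z * (z' * (y⁻¹ * k * y)) := by group
  have k₂2 : k₂ * k₂ = z := by
    rw [hk₂]
    calc y⁻¹ * k * y * (y⁻¹ * k * y) = y⁻¹ * (k * k) * y := by group
      _ = y⁻¹ * (z * y) := by rw [D.k2, mul_assoc]
      _ = z := by rw [← hyz, inv_mul_cancel_left]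
  obtain ⟨a, ha⟩ : ∃ a, a = k * k₂ := ⟨_, rfl⟩
  have a2 : a * a = 1 := by
    rw [ha]
    calc k * k₂ * (k * k₂) = k * (k₂ * k) * k₂ := by group
      _ = k * (k * k₂) * k₂ := by rw [kk₂]
      _ = (k * k) * (k₂ * k₂) := by group
      _ = 1 := by rw [D.k2, k₂2, hz2]
  have aT : a ∈ T := by rw [ha]; exact mul_mem D.kT k₂T
  have az : a * z = z * a := by rw [ha, mul_assoc, k₂z, ← mul_assoc, kz, mul_assoc]
  have az' : a * z' = z' * a := by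
    rw [ha, mul_assoc, k₂z', rea kz, mul_assoc, rea kz', mul_assoc, mul_assoc, rea hz2, one_mul]
  have aT' : a ∈ T' := C.TT' a aT az'
  have hyk : y⁻¹ * k₂ * y = z * k := by
    rw [hk₂]
    calc y⁻¹ * (y⁻¹ * k * y) * y = (y * y)⁻¹ * k * (y * y) := by group
      _ = z' * (k * z') := by rw [C.y2, z'i, mul_assoc]
      _ = z * k := by rw [kz', rea hzz, mul_assoc, rea hz'2, one_mul]
  have hya : y⁻¹ * a * y = z * a := by
    calc y⁻¹ * a * y = (y⁻¹ * k * y) * (y⁻¹ * k₂ * y) := by rw [ha]; group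
      _ = k₂ * (z * k) := by rw [← hk₂, hyk]
      _ = z * a := by rw [rea k₂z, mul_assoc, ← kk₂, ha]
  have ay : a * y = z * (y * a) := by
    rw [mul_assoc, inv_mul_eq_iff_eq_mul] at hya
    rw [hya, rea hyz, mul_assoc]
  have ax : a * x = z * (x * a) := by
    rw [ha, mul_assoc, ← xk₂, rea D.kx, mul_assoc, mul_assoc]
  have ky : k⁻¹ * y * k = z * (y * a) := by
    have k₂i : k₂⁻¹ = z * k₂ := inv_eq_of_mul_eq_one_right (by rw [rea k₂z, mul_assoc, k₂2, hz2])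
    calc k⁻¹ * y * k = y * (y⁻¹ * k * y)⁻¹ * k := by group
      _ = y * (z * k₂) * k := by rw [← hk₂, k₂i]
      _ = z * (y * a) := by rw [mul_assoc, mul_assoc, rea hyz, ← kk₂, ← ha, mul_assoc]
  rw [← hk₂, ← ha]
  exact ⟨D, hk₂, ha, k₂J, k₂T, k₂2, kk₂, kz, kz', k₂z, k₂z', xk₂, a2, az, az', aT, aT', ay, ax, ky⟩

/-- replacing `k` by `x k` -/
theorem kd_mul (C : Conf z z' J J₂ K K₂ T T' x y) {k : G} (D : KD z J T x k) : KD z J T x (x * k) where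
  kJ := mul_mem C.xJ D.kJ
  kT := mul_mem C.xT D.kT
  k2 := by
    rw [mul_assoc, rea D.kx, mul_assoc, mul_assoc, D.k2, rea C.xz, mul_assoc, rea C.x2, C.z2, mul_one]
  kx := by rw [mul_assoc, D.kx, rea C.xz, mul_assoc]

theorem a_mul (C : Conf z z' J J₂ K K₂ T T' x y) {k k₂ a : G} (h : KP z z' J J₂ T T' x y k k₂ a) :
    (x * k) * (y⁻¹ * (x * k) * y) = z' * a := by
  have e1 : y⁻¹ * (x * k) * y = (x * (z * z')) * k₂ := by rw [h.k₂def, ← C.xy]; group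
  have hxz := C.xz
  have hxz' := C.xz'
  rw [e1, h.adef]
  simp only [mul_assoc, rea h.D.kx, rea C.xz, rea C.xz', rea h.kz, rea h.kz', rea C.z2, rea C.z'2, rea C.zz, one_mul,
    rea C.x2]

end Conf

end Cfsg.Agent.Cit.SLThree
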