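import Cfsg.Agent.Cit.SLThreeEnd

/-!
# Hypothesis (3) for members of type `SL(2,3)`
-/

set_option autoImplicit false
set_option linter.unusedSimpArgs false
set_option linter.style.haveILetI false

namespace Cfsg.Agent.Cit.SLThree

open Subgroup Cfsg

variable {G : Type*} [Group G]

namespace Conf

variable [Finite G] {z z' : G} {J J₂ K K₂ T T' : Subgroup G} {x y : G}

/-- `b ∈ a τ V` -/
theorem b_mem (C : Conf z z' J J₂ K K₂ T T' x y) {k k₂ a l l₂ b : G} (h : KP z z' J J₂ T T' x y k k₂ a)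
    (h' : KP z' z K K₂ T' T y x l l₂ b) :
    ∃ v, (v = 1 ∨ v = z ∨ v = z' ∨ v = z * z') ∧ b = v * (a * (y * x)) := by
  have hz2 := C.z2
  have hz'2 := C.z'2
  have hzz := C.zz
  have zi : z⁻¹ = z := inv_eq_of_mul_eq_one_right hz2
  have z'i : z'⁻¹ = z' := inv_eq_of_mul_eq_one_right hz'2
  have hxz' := C.xz'
  have hxz := C.xz
  have hyz := C.yz
  have hyz' := C.yz'
  have e1 : k⁻¹ * z' * k = z * z' := by
    rw [mul_assoc, inv_mul_eq_iff_eq_mul]
    have := h.kz'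
    rw [rea h.kz, mul_assoc, this, rea hz2, one_mul]
  have e2 : l⁻¹ * z * l = z * z' := by
    rw [mul_assoc, inv_mul_eq_iff_eq_mul]
    have := h'.kz'
    rw [← hzz, rea h'.kz, mul_assoc, this, rea hz'2, one_mul]
  have M1 : Mem (cj k⁻¹ K) (z * z') := by
    have := C.hK.cj k⁻¹
    rwa [inv_inv, e1] at this
  have L1 : Mem (cj l⁻¹ J) (z * z') := by
    have := C.hJ.cj l⁻¹
    rwa [inv_inv, e2] at this
  have L2 : Mem (cj l⁻¹ J₂) (z * z') := by
    have := C.hJ₂.cj l⁻¹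
    rwa [inv_inv, e2] at this
  have Lne : cj l⁻¹ J ≠ cj l⁻¹ J₂ := fun hh => C.J_ne (cj_inj.1 hh)
  obtain ⟨P, hP⟩ : ∃ P, P = k⁻¹ * y * k := ⟨_, rfl⟩
  obtain ⟨R, hR⟩ : ∃ R, R = l⁻¹ * x * l := ⟨_, rfl⟩
  have hP' : P = z * (y * a) := by rw [hP, h.ky]
  have hR' : R = z' * (x * b) := by rw [hR, h'.ky]
  have PM : P ∈ cj k⁻¹ K := by
    rw [mem_cj, hP]
    have : k⁻¹⁻¹ * (k⁻¹ * y * k) * k⁻¹ = y := by group
    rw [this]; exact C.yK
  have RL : R ∈ cj l⁻¹ J := by
    rw [mem_cj, hR]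
    have : l⁻¹⁻¹ * (l⁻¹ * x * l) * l⁻¹ = x := by group
    rw [this]; exact C.xJ
  have RL2 : R * z' ∈ cj l⁻¹ J₂ := by
    rw [mem_cj, hR]
    have : l⁻¹⁻¹ * (l⁻¹ * x * l * z') * l⁻¹ = x * (l * z' * l⁻¹) := by group
    rw [this, h'.kz, mul_inv_cancel_right]; exact C.xJ₂
  have PP : P * P = z * z' := by
    rw [hP]
    calc k⁻¹ * y * k * (k⁻¹ * y * k) = k⁻¹ * (y * y) * k := by group
      _ = z * z' := by rw [C.y2, e1]
  have RR : R * R = z * z' := by
    rw [hR]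
    calc l⁻¹ * x * l * (l⁻¹ * x * l) = l⁻¹ * (x * x) * l := by group
      _ = z * z' := by rw [C.x2, e2]
  -- a common Sylow subgroup
  have PT : P ∈ T ⊓ T' := by
    rw [hP']
    exact ⟨mul_mem C.zT (mul_mem C.yT h.aT), mul_mem C.symm.z'T (mul_mem C.yT' h.aT')⟩
  have RT : R ∈ T ⊓ T' := by
    rw [hR']
    exact ⟨mul_mem C.z'T (mul_mem C.xT h'.aT'), mul_mem C.symm.zT (mul_mem C.xT' h'.aT)⟩
  have z'TT : z' ∈ T ⊓ T' := ⟨C.z'T, C.symm.zT⟩
  have hTC : T ⊓ T' ≤ centralizer {z * z'} := by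
    intro u hu
    have h1 := mem_centralizer_singleton_iff.1 (C.hT.1 hu.1)
    have h2 := mem_centralizer_singleton_iff.1 (C.hT'.1 hu.2)
    rw [mem_centralizer_singleton_iff, ← mul_assoc, h1, mul_assoc, h2, mul_assoc]
  obtain ⟨W, hW, hTW⟩ := exists_syl_ge (C.hT.2.1.to_le inf_le_left) hTC
  have Pz' : P * z' = z' * P := mem_centralizer_singleton_iff.1 (C.hT'.1 PT.2)
  have Rz' : R * z' = z' * R := mem_centralizer_singleton_iff.1 (C.hT'.1 RT.2)
  have hm : z' * (k⁻¹ * l * k) * z'⁻¹ * (k⁻¹ * l * k)⁻¹ = z * z' := by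
    have e3 : k * z' * k⁻¹ = z * z' := by rw [h.kz', ← mul_assoc, mul_inv_cancel_right]
    have e4 : l * (z * z')⁻¹ * l⁻¹ = z := by
      have e5 : (z * z')⁻¹ = z * z' := by rw [mul_inv_rev, zi, z'i, hzz]
      have e6 : l * (z * z') = z * l := by
        rw [rea h'.kz', mul_assoc, mul_assoc, h'.kz, rea hzz, mul_assoc, rea hz'2, one_mul]
      rw [e5, e6, mul_inv_cancel_right]
    have e5 : l * (z * z')⁻¹ * l⁻¹ = z := e4
    calc z' * (k⁻¹ * l * k) * z'⁻¹ * (k⁻¹ * l * k)⁻¹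
        = k⁻¹ * ((k * z' * k⁻¹) * l * (k * z' * k⁻¹)⁻¹ * l⁻¹) * k := by group
      _ = k⁻¹ * ((z * z') * (l * (z * z')⁻¹ * l⁻¹)) * k := by rw [e3]; group
      _ = k⁻¹ * z' * k := by rw [e5, mul_assoc z, hzz, rea hz2, one_mul]
      _ = z * z' := e1
  have hmM : k⁻¹ * l * k ∈ cj k⁻¹ K := by
    rw [mem_cj]
    have : k⁻¹⁻¹ * (k⁻¹ * l * k) * k⁻¹ = l := by group
    rw [this]; exact h'.D.kJ
  have key : R = P ∨ R = z * z' * P ∨ R = z' * P ∨ R = z * P := by
    rcases L1.eq_of_moved L2 M1 RL RL2 hmM (by rw [hm]; exact M1.s_not_mem_O) with hM | hM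
    · rw [hM] at PM
      have h1 : P * (R * z') = (R * z') * P :=
        L1.comm_of_ne L2 Lne hW.2.1 PM (hTW PT) RL2 (hTW (mul_mem RT z'TT))
      have h2 : P * R = R * P := by
        rw [mul_assoc, ← Pz', ← mul_assoc, ← mul_assoc] at h1
        exact mul_right_cancel h1
      rcases L1.eq_or hW PM (hTW PT) RL (hTW RT) PP RR h2 with h3 | h3
      · exact Or.inl h3
      · exact Or.inr (Or.inl h3)
    · rw [hM] at PM
      have h1 : R * P = P * R := L1.comm_of_ne L2 Lne hW.2.1 RL (hTW RT) PM (hTW PT)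
      have h2 : P * (R * z') = (R * z') * P := by
        rw [← mul_assoc, ← h1, mul_assoc, Pz', mul_assoc]
      have h4 : (R * z') * (R * z') = z * z' := by
        rw [mul_assoc, rea Rz'.symm, mul_assoc, hz'2, mul_one, RR]
      rcases L2.eq_or hW PM (hTW PT) RL2 (hTW (mul_mem RT z'TT)) PP h4 h2 with h3 | h3
      · right; right; left
        rw [← h3, Rz', rea hz'2, one_mul]
      · right; right; right
        have h5 : R = R * z' * z' := by rw [mul_assoc, hz'2, mul_one]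
        rw [h5, h3, mul_assoc, Pz', mul_assoc, rea hz'2, one_mul]
  -- conclusion
  obtain ⟨v, hv, hRv⟩ : ∃ v, (v = 1 ∨ v = z * z' ∨ v = z' ∨ v = z) ∧ R = v * P := by
    rcases key with h1 | h1 | h1 | h1
    · exact ⟨1, Or.inl rfl, by rw [one_mul]; exact h1⟩
    · exact ⟨_, Or.inr (Or.inl rfl), h1⟩
    · exact ⟨_, Or.inr (Or.inr (Or.inl rfl)), h1⟩
    · exact ⟨_, Or.inr (Or.inr (Or.inr rfl)), h1⟩
  have vz : v * z = z * v := by
    rcases hv with rfl | rfl | rfl | rfl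
    · rw [one_mul, mul_one]
    · rw [mul_assoc, hzz]
    · exact hzz
    · rfl
  have xv : x * v = v * x := by
    rcases hv with rfl | rfl | rfl | rfl
    · rw [one_mul, mul_one]
    · rw [← mul_assoc, hxz, mul_assoc, hxz', mul_assoc]
    · exact hxz'
    · exact hxz
  have yxa : y * (x * a) = a * (y * x) := by
    rw [← mul_assoc a, h.ay, mul_assoc, mul_assoc, h.ax, rea hyz, mul_assoc, rea hz2, one_mul]
  have hb : b = v * (z * (a * (y * x))) := by
    have h1 : z' * (x * b) = v * (z * (y * a)) := by rw [← hR', ← hP', hRv]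
    have h2 : x * (z' * (x * b)) = z * (z' * b) := by rw [rea hxz', mul_assoc, rea C.x2, rea hzz, mul_assoc]
    have h3 : x * (v * (z * (y * a))) = z' * (v * (y * (x * a))) := by
      rw [rea xv, mul_assoc, rea hxz, mul_assoc, rea C.xy']
      simp only [mul_assoc]
      rw [rea hz2, one_mul]
      have vz' : v * z' = z' * v := by
        rcases hv with rfl | rfl | rfl | rfl
        · rw [one_mul, mul_one]
        · rw [mul_assoc, ← mul_assoc z', hzz, mul_assoc]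
        · rfl
        · exact hzz.symm
      rw [rea vz', mul_assoc]
    rw [h1, h3, yxa] at h2
    have h4 : b = z' * (z * (z' * (v * (a * (y * x))))) := by
      rw [h2, rea hz2, one_mul, rea hz'2, one_mul]
    rw [h4, rea hzz, mul_assoc, rea hz'2, one_mul, rea vz, mul_assoc]
  refine ⟨v * z, ?_, by rw [hb, mul_assoc]⟩
  rcases hv with rfl | rfl | rfl | rfl
  · right; left; rw [one_mul]
  · right; right; left; rw [mul_assoc, hzz, rea hz2, one_mul]
  · right; right; right; exact hzz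
  · left; exact hz2

/-- the element of order three -/
theorem exists_d (C : Conf z z' J J₂ K K₂ T T' x y) {k k₂ a : G} (h : KP z z' J J₂ T T' x y k k₂ a) :
    ∃ d, d * z * d⁻¹ = z ∧ d * z' * d⁻¹ = a ∧ d * a * d⁻¹ = z' * a ∧ d * (y * x) * d⁻¹ = y * x := by
  have hz2 := C.z2
  have hz'2 := C.z'2
  have hzz := C.zz
  have hxz' := C.xz'
  have hxz := C.xz
  have hyz := C.yz
  have hyz' := C.yz'
  obtain ⟨i, j, d₁, hs, hq⟩ := C.hJ.coords C.hT
  obtain ⟨e, he, he1, he2⟩ := hs.q.perm hs.di hs.dj (x := x) (k := k) (by rw [← hq]; exact ⟨C.xJ, C.xT⟩)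
    (by rw [← hq]; exact ⟨h.D.kJ, h.D.kT⟩) C.x2 h.D.k2 h.D.kx
  have heJ : e ∈ J := by
    rcases he with rfl | rfl
    · exact hs.hd
    · exact inv_mem hs.hd
  obtain ⟨t, ht⟩ : ∃ t, t = y * x := ⟨_, rfl⟩
  have ht2 : t * t = 1 := by
    rw [ht, mul_assoc, rea C.xy']
    simp only [mul_assoc]
    rw [C.x2, hyz, rea hzz, mul_assoc, rea hz2, one_mul, ← hyz', rea C.y2, hz'2]
  have htT : t ∈ T := by rw [ht]; exact mul_mem C.yT C.xT
  have htz : t * z = z * t := mem_centralizer_singleton_iff.1 (C.hT.1 htT)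
  have htJ : cj t⁻¹ J = J₂ := by
    rw [ht, mul_inv_rev, cj_mul, C.cJ]
    exact C.hJ.cj_eq C.hJ₂ (inv_mem C.xJ)
  have memJ₂ : ∀ q ∈ J, t⁻¹ * q * t ∈ J₂ := by
    intro q hq
    rw [← htJ, mem_cj]
    have : t⁻¹⁻¹ * (t⁻¹ * q * t) * t⁻¹ = q := by group
    rwa [this]
  -- in the quotient
  have hc : ∀ p ∈ J, ∀ q ∈ J₂, p * q * p⁻¹ * q⁻¹ ∈ O z := (C.hJ.eq_or_comm C.hJ₂).resolve_left C.J_ne
  have hcq : ∀ p q : centralizer ({z} : Set G), (p : G) ∈ J → (q : G) ∈ J₂ → pr z p * pr z q = pr z q * pr z p := by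
    intro p q hp hq
    have h4 : pr z (p * q * p⁻¹ * q⁻¹) = 1 := pr_eq_one.2 (hc _ hp _ hq)
    rw [map_mul, map_mul, map_mul, map_inv, map_inv, mul_inv_eq_one, mul_inv_eq_iff_eq_mul] at h4
    exact h4
  have eC := C.hJ.le heJ
  have xC := C.hT.1 C.xT
  have kC := C.hT.1 h.D.kT
  have tC := C.hT.1 htT
  have zC := C.hT.1 C.zT
  have z'C := C.hT.1 C.z'T
  have aC := C.hT.1 h.aT
  obtain ⟨E, hE⟩ : ∃ E : centralizer ({z} : Set G), (E : G) = e := ⟨⟨e, eC⟩, rfl⟩
  obtain ⟨X, hX⟩ : ∃ E : centralizer ({z} : Set G), (E : G) = x := ⟨⟨x, xC⟩, rfl⟩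
  obtain ⟨Kq, hKq⟩ : ∃ E : centralizer ({z} : Set G), (E : G) = k := ⟨⟨k, kC⟩, rfl⟩
  obtain ⟨Tq, hTq⟩ : ∃ E : centralizer ({z} : Set G), (E : G) = t := ⟨⟨t, tC⟩, rfl⟩
  obtain ⟨Z, hZ⟩ : ∃ E : centralizer ({z} : Set G), (E : G) = z := ⟨⟨z, zC⟩, rfl⟩
  obtain ⟨Z', hZ'⟩ : ∃ E : centralizer ({z} : Set G), (E : G) = z' := ⟨⟨z', z'C⟩, rfl⟩
  obtain ⟨A, hA⟩ : ∃ E : centralizer ({z} : Set G), (E : G) = a := ⟨⟨a, aC⟩, rfl⟩
  have r0 : Tq * Tq = 1 := Subtype.ext (by simpa [hTq] using ht2)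
  have r1 : Z * Z = 1 := Subtype.ext (by simpa [hZ] using hz2)
  have r2 : X * Z = Z * X := Subtype.ext (by simpa [hZ, hX] using hxz)
  have r3 : Kq * Z = Z * Kq := Subtype.ext (by simpa [hZ, hKq] using h.kz)
  have r4 : Tq * Z = Z * Tq := Subtype.ext (by simpa [hZ, hTq] using htz)
  have xx : x * (t⁻¹ * x * t) = z' := by
    have hyxy : y⁻¹ * x * y = x * (z * z') := C.xy
    rw [ht]
    calc x * ((y * x)⁻¹ * x * (y * x)) = (y⁻¹ * x * y) * x := by group
      _ = z' := by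
        rw [hyxy, mul_assoc, mul_assoc, ← hxz', rea hxz.symm, mul_assoc, rea C.x2, rea hz2, one_mul]
  have kk : k * (t⁻¹ * k * t) = a := by
    rw [ht]
    calc k * ((y * x)⁻¹ * k * (y * x)) = k * (x⁻¹ * (y⁻¹ * k * y) * x) := by group
      _ = a := by rw [← h.k₂def, mul_assoc x⁻¹, ← h.xk₂, inv_mul_cancel_left, h.adef]
  have c1 : X * (Tq⁻¹ * X * Tq) = Z' := Subtype.ext (by simpa [hX, hTq, hZ'] using xx)
  have c2 : Kq * (Tq⁻¹ * Kq * Tq) = A := Subtype.ext (by simpa [hKq, hTq, hA] using kk)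
  have q1 : E * X * E⁻¹ = Kq ∨ E * X * E⁻¹ = Z * Kq := by
    rcases he1 with he1 | he1
    · left; exact Subtype.ext (by simpa [hX, hE, hKq] using he1)
    · right; exact Subtype.ext (by simpa [hX, hE, hKq, hZ] using he1)
  have q2 : E * Kq * E⁻¹ = X * Kq ∨ E * Kq * E⁻¹ = Z * (X * Kq) := by
    rcases he2 with he2 | he2
    · left; exact Subtype.ext (by simpa [hX, hE, hKq] using he2)
    · right; exact Subtype.ext (by simpa [hX, hE, hKq, hZ] using he2)
  have m1 : ((Tq⁻¹ * X * Tq : centralizer ({z} : Set G)) : G) ∈ J₂ := by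
    have := memJ₂ x C.xJ
    simpa [hX, hTq] using this
  have m2 : ((Tq⁻¹ * Kq * Tq : centralizer ({z} : Set G)) : G) ∈ J₂ := by
    have := memJ₂ k h.D.kJ
    simpa [hKq, hTq] using this
  have m3 : ((Tq⁻¹ * E * Tq : centralizer ({z} : Set G)) : G) ∈ J₂ := by
    have := memJ₂ e heJ
    simpa [hE, hTq] using this
  have n1 : (E : G) ∈ J := by rw [hE]; exact heJ
  have n2 : (Kq : G) ∈ J := by rw [hKq]; exact h.D.kJ
  obtain ⟨s1, s2, s3⟩ := diag_act (e := pr z E) (t := pr z Tq) (x := pr z X) (k := pr z Kq) (z := pr z Z)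
    (by rw [← map_mul, r0, map_one]) (by rw [← map_mul, r1, map_one]) (by rw [← map_mul, r2, map_mul])
    (by rw [← map_mul, r3, map_mul]) (by rw [← map_mul, r4, map_mul])
    (by have := hcq _ _ n1 m1; simpa only [map_mul, map_inv] using this)
    (by have := hcq _ _ n1 m2; simpa only [map_mul, map_inv] using this)
    (by have := hcq _ _ n1 m3; simpa only [map_mul, map_inv] using this)
    (by have := hcq _ _ n2 m1; simpa only [map_mul, map_inv] using this)
    (by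
      rcases q1 with q1 | q1
      · left; have := congrArg (pr z) q1; simpa only [map_mul, map_inv] using this
      · right; have := congrArg (pr z) q1; simpa only [map_mul, map_inv] using this)
    (by
      rcases q2 with q2 | q2
      · left; have := congrArg (pr z) q2; simpa only [map_mul, map_inv] using this
      · right; have := congrArg (pr z) q2; simpa only [map_mul, map_inv] using this)
  obtain ⟨g, hg⟩ : ∃ g : centralizer ({z} : Set G), g = E * (Tq⁻¹ * E * Tq) := ⟨_, rfl⟩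
  have t1 : pr z (g * Z' * g⁻¹ * A⁻¹) = 1 := by
    rw [hg, ← c1, ← c2]
    simp only [map_mul, map_inv] at s1 ⊢
    rw [s1, mul_inv_cancel]
  have t2 : pr z (g * A * g⁻¹ * (Z' * A)⁻¹) = 1 := by
    rw [hg, ← c1, ← c2]
    simp only [map_mul, map_inv] at s2 ⊢
    rw [s2, mul_inv_cancel]
  have t3 : pr z (g * Tq * g⁻¹ * Tq⁻¹) = 1 := by
    rw [hg]
    simp only [map_mul, map_inv] at s3 ⊢
    rw [s3, mul_inv_cancel]
  rw [pr_eq_one] at t1 t2 t3
  have t1' : (g : G) * z' * (g : G)⁻¹ * a⁻¹ ∈ O z := by simpa [hZ', hA] using t1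
  have t2' : (g : G) * a * (g : G)⁻¹ * (z' * a)⁻¹ ∈ O z := by simpa [hZ', hA] using t2
  have t3' : (g : G) * t * (g : G)⁻¹ * t⁻¹ ∈ O z := by simpa [hTq] using t3
  have t4' : (g : G) * z * (g : G)⁻¹ * z⁻¹ ∈ O z := by
    have := mem_centralizer_singleton_iff.1 g.2
    rw [this, mul_inv_cancel_right, mul_inv_cancel]
    exact one_mem _
  -- the group `U`
  let U : Subgroup G := closure {z, z', a, t}
  have hUT : U ≤ T := by
    rw [closure_le]
    rintro w (rfl | rfl | rfl | rfl)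
    · exact C.zT
    · exact C.z'T
    · exact h.aT
    · exact htT
  have hUC : U ≤ centralizer {z} := hUT.trans C.hT.1
  have uz : z ∈ U := subset_closure (by simp)
  have uz' : z' ∈ U := subset_closure (by simp)
  have ua : a ∈ U := subset_closure (by simp)
  have ut : t ∈ U := subset_closure (by simp)
  have hnO : ∀ u ∈ U, ∀ w ∈ O z, u * w * u⁻¹ ∈ O z := fun u hu w hw =>
    (mem_normalizer_iff.1 (cent_le z (hUC hu)) _).1 hw
  obtain ⟨d, hdC, hd⟩ := exists_lift (C.hT.2.1.to_le hUT) hUC g.2 (by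
    intro u hu
    induction hu using Subgroup.closure_induction with
    | mem w hw =>
      simp only [Set.mem_insert_iff, Set.mem_singleton_iff] at hw
      rcases hw with rfl | rfl | rfl | rfl
      · exact ⟨_, uz, t4'⟩
      · exact ⟨_, ua, t1'⟩
      · exact ⟨_, mul_mem uz' ua, t2'⟩
      · exact ⟨_, ut, t3'⟩
    | one => exact ⟨1, one_mem _, by simp⟩
    | mul u u' _ _ ih ih' =>
      obtain ⟨v, hv, h1⟩ := ih
      obtain ⟨v', hv', h1'⟩ := ih'
      refine ⟨v * v', mul_mem hv hv', ?_⟩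
      have e : (g : G) * (u * u') * (g : G)⁻¹ * (v * v')⁻¹ =
          ((g : G) * u * (g : G)⁻¹ * v⁻¹) * (v * ((g : G) * u' * (g : G)⁻¹ * v'⁻¹) * v⁻¹) := by group
      rw [e]
      exact mul_mem h1 (hnO v hv _ h1')
    | inv u _ ih =>
      obtain ⟨v, hv, h1⟩ := ih
      refine ⟨v⁻¹, inv_mem hv, ?_⟩
      have e : (g : G) * u⁻¹ * (g : G)⁻¹ * v⁻¹⁻¹ = v⁻¹ * (((g : G) * u * (g : G)⁻¹ * v⁻¹))⁻¹ * v⁻¹⁻¹ := by group
      rw [e]
      exact hnO _ (inv_mem hv) _ (inv_mem h1))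
  refine ⟨d, ?_, hd _ uz' _ ua t1', hd _ ua _ (mul_mem uz' ua) t2', ?_⟩
  · rw [mem_centralizer_singleton_iff.1 hdC, mul_inv_cancel_right]
  · rw [← ht]; exact hd _ ut _ ut t3'

theorem core_false (C : Conf z z' J J₂ K K₂ T T' x y) {k k₂ a l l₂ b : G} (h : KP z z' J J₂ T T' x y k k₂ a)
    (h' : KP z' z K K₂ T' T y x l l₂ b) (hb : b = a * (y * x)) : False := by
  have hz2 := C.z2
  have hz'2 := C.z'2
  have hzz := C.zz
  have hxz' := C.xz'
  have hxz := C.xz
  have hyz := C.yz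
  have hyz' := C.yz'
  obtain ⟨d, hd1, hd2, hd3, hd4⟩ := C.exists_d h
  obtain ⟨t, ht⟩ : ∃ t, t = y * x := ⟨_, rfl⟩
  have ht2 : t * t = 1 := by
    rw [ht, mul_assoc, rea C.xy']
    simp only [mul_assoc]
    rw [C.x2, hyz, rea hzz, mul_assoc, rea hz2, one_mul, ← hyz', rea C.y2, hz'2]
  have htT : t ∈ T := by rw [ht]; exact mul_mem C.yT C.xT
  have htT' : t ∈ T' := by rw [ht]; exact mul_mem C.yT' C.xT'
  have htz : t * z = z * t := mem_centralizer_singleton_iff.1 (C.hT.1 htT)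
  have htz' : t * z' = z' * t := mem_centralizer_singleton_iff.1 (C.hT'.1 htT')
  have hat : a * t = t * a := by
    rw [ht, ← mul_assoc, h.ay, mul_assoc, mul_assoc, h.ax, rea hyz, mul_assoc, rea hz2, one_mul, mul_assoc]
  rw [← ht] at hb hd4
  have four : Fin4.Four z z' a t :=
    ⟨hz2, hz'2, h.a2, ht2, hzz.symm, h.az.symm, htz.symm, h.az'.symm, htz'.symm, hat⟩
  have kx : k⁻¹ * x * k = z * x := by
    have : x * k = z * (k * x) := by rw [h.D.kx, rea hz2, one_mul]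
    rw [mul_assoc, this, rea h.kz.symm, mul_assoc, inv_mul_cancel_left]
  have lx : l⁻¹ * x * l = z' * (x * b) := h'.ky
  have ly : l⁻¹ * y * l = z' * y := by
    have : y * l = z' * (l * y) := by rw [h'.D.kx, rea hz'2, one_mul]
    rw [mul_assoc, this, rea h'.kz.symm, mul_assoc, inv_mul_cancel_left]
  have lb : l⁻¹ * b * l = b := by
    rw [h'.adef, mul_assoc, mul_assoc, ← h'.kk₂, inv_mul_cancel_left]
  have k4 : k⁻¹ * t * k = z * a * t := by
    calc k⁻¹ * t * k = (k⁻¹ * y * k) * (k⁻¹ * x * k) := by rw [ht]; group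
      _ = y * (a * x) := by
        rw [h.ky, kx]
        simp only [mul_assoc]
        rw [rea h.az, mul_assoc, rea hyz, mul_assoc, rea hz2, one_mul]
      _ = z * a * t := by rw [ht, mul_assoc z a, rea h.ay, mul_assoc, mul_assoc, rea hz2, one_mul]
  have l4 : l⁻¹ * t * l = a := by
    calc l⁻¹ * t * l = (l⁻¹ * y * l) * (l⁻¹ * x * l) := by rw [ht]; group
      _ = (y * x) * b := by
        rw [ly, lx, mul_assoc z' y, rea hyz', mul_assoc z' y, rea hz'2, one_mul, mul_assoc]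
      _ = t * (a * t) := by rw [← ht, hb]
      _ = a := by rw [← mul_assoc, ← hat, mul_assoc, ht2, mul_one]
  refine final four C.hJ.s_ne (k := k) (l := l) (d := d⁻¹) ?_ ?_ ?_ k4 ?_ ?_ ?_ l4 ?_ ?_ ?_ ?_
    (C.hJ.mem_NN C.hT h.D.kJ h.D.kT)
  · rw [mul_assoc, ← h.kz, inv_mul_cancel_left]
  · rw [mul_assoc, inv_mul_eq_iff_eq_mul]
    rw [rea h.kz, mul_assoc, h.kz', rea hz2, one_mul]
  · rw [h.adef, mul_assoc, mul_assoc, ← h.kk₂, inv_mul_cancel_left]
  · rw [mul_assoc, inv_mul_eq_iff_eq_mul, ← hzz, rea h'.kz, mul_assoc, h'.kz', rea hz'2, one_mul]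
  · rw [mul_assoc, ← h'.kz, inv_mul_cancel_left]
  · have e1 : a = b * t := by rw [hb, mul_assoc, ht2, mul_one]
    calc l⁻¹ * a * l = l⁻¹ * (b * t) * l := by rw [← e1]
      _ = (l⁻¹ * b * l) * (l⁻¹ * t * l) := by group
      _ = t := by rw [lb, l4, hb, hat, mul_assoc, h.a2, mul_one]
  · rw [inv_inv]; exact hd1
  · rw [inv_inv]; exact hd2
  · rw [inv_inv]; exact hd3
  · rw [inv_inv]; exact hd4

theorem false (C : Conf z z' J J₂ K K₂ T T' x y) : False := by
  have hz2 := C.z2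
  have hz'2 := C.z'2
  have hzz := C.zz
  obtain ⟨k, hk⟩ := C.exists_kd
  obtain ⟨l, hl⟩ := C.symm.exists_kd
  have h := C.kp hk
  have h' := C.symm.kp hl
  have hx := C.kp (C.kd_mul hk)
  have hy := C.symm.kp (C.symm.kd_mul hl)
  have ea := C.a_mul h
  have eb := C.symm.a_mul h'
  obtain ⟨v, hv, hb⟩ := C.b_mem h h'
  generalize k * (y⁻¹ * k * y) = a at *
  generalize l * (x⁻¹ * l * x) = b at *
  rw [ea] at hx
  rw [eb] at hy
  rcases hv with rfl | rfl | rfl | rfl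
  · exact C.core_false h h' (by rw [hb, one_mul])
  · exact C.core_false h hy (by rw [hb, rea hz2, one_mul])
  · exact C.core_false hx h' (by rw [hb, mul_assoc])
  · exact C.core_false hx hy (by rw [hb, mul_assoc z z', rea hz2, one_mul, mul_assoc])

end Conf

/-- **Hypothesis (3)**: an element of order 4 of a member at `z'` commuting with `z` normalises the members at `z` -/
theorem Mem.cj_eq_of_sq [Finite G] {J K : Subgroup G} {z z' y : G} (hJ : Mem J z) (hK : Mem K z') (hyK : y ∈ K)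
    (hy2 : y * y = z') (hyz : y * z = z * y) : Cit.cj y J = J := by
  by_cases hne : z = z'
  · subst hne
    exact hK.cj_eq hJ hyK
  · by_contra hmv
    obtain ⟨J₂, K₂, T, T', x, C⟩ := exists_conf hJ hK hyK hy2 hyz hne hmv
    exact C.false

end Cfsg.Agent.Cit.SLThree
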