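import Cfsg.Agent.Cit.SLThreeStep
import Cfsg.Agent.Cit.Quo
import Cfsg.Agent.Cit.Commute
import Cfsg.Agent.Lib.LocalCore
import Cfsg.Agent.SignalizersComponents.PCompCore

/-!
# Solvable components of type `SL(2,3)` of involution centralisers

`O s` : the odd core of `C_G(s)`; `SlG M s i j d` : `M ≤ C_G(s)` contains `O s`, is subnormal in `C_G(s)`, and
`M = O s ⟨i, j, d⟩` with `⟨i, j⟩` quaternion with involution `s` and `d` permuting `i → j → i j`.
-/

set_option autoImplicit false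
set_option linter.unusedSimpArgs false
set_option linter.style.haveILetI false

namespace Cfsg.Agent.Cit.SLThree

open Subgroup Cfsg

variable {G : Type*} [Group G]

/-- the odd core of the centraliser of `s` -/
def O (s : G) : Subgroup G := OO (centralizer {s})

/-- the projection `C(s) → C(s)/O(C(s))` -/
def pr (s : G) : centralizer ({s} : Set G) →* (centralizer ({s} : Set G)) ⧸ oddCore (centralizer ({s} : Set G)) :=
  QuotientGroup.mk' _

theorem pr_surj (s : G) : Function.Surjective (pr s) := QuotientGroup.mk'_surjective _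

theorem O_le (s : G) : O s ≤ centralizer {s} := OO_le _

theorem cent_le (s : G) : centralizer {s} ≤ normalizer (O s : Set G) := le_normalizer_OO _

theorem odd_O [Finite G] (s : G) : ¬ 2 ∣ Nat.card (O s) := odd_OO _

theorem mem_O {s : G} {x : centralizer ({s} : Set G)} : (x : G) ∈ O s ↔ x ∈ oddCore (centralizer ({s} : Set G)) := by
  constructor
  · rintro ⟨y, hy, hyx⟩
    rwa [← (Subtype.ext hyx : y = x)]
  · intro h; exact ⟨x, h, rfl⟩

theorem pr_eq_one {s : G} {x : centralizer ({s} : Set G)} : pr s x = 1 ↔ (x : G) ∈ O s := by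
  rw [mem_O, pr, QuotientGroup.mk'_apply, QuotientGroup.eq_one_iff]

theorem pr_ker (s : G) : (pr s).ker = oddCore (centralizer ({s} : Set G)) := QuotientGroup.ker_mk' _

theorem odd_ker [Finite G] (s : G) : ¬ 2 ∣ Nat.card (pr s).ker := by
  rw [pr_ker]
  have h := odd_O s
  rwa [O, OO, card_map_of_injective (centralizer ({s} : Set G)).subtype_injective] at h

theorem oddCore_quot [Finite G] (s : G) :
    oddCore ((centralizer ({s} : Set G)) ⧸ oddCore (centralizer ({s} : Set G))) = ⊥ :=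
  Lib.Cores.pPrimeCore_quotient_pPrimeCore 2

theorem O_cj (g s : G) : O (g * s * g⁻¹) = cj g (O s) := by
  rw [O, O, ← OO_cj, cj_centralizer]

/-- an element of a 2-group lying in `O s` is trivial -/
theorem eq_one_of_mem_O [Finite G] {s x : G} (hx : x ∈ O s) {T : Subgroup G} (hT : IsPGroup 2 T) (hxT : x ∈ T) :
    x = 1 := Cit.eq_one_of_mem_odd hT (odd_O s) hxT hx

structure SlG (M : Subgroup G) (s i j d : G) : Prop where
  q : Qt s i j
  le : M ≤ centralizer {s}
  hO : O s ≤ M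
  hi : i ∈ M
  hd : d ∈ M
  di : d * i * d⁻¹ = j
  dj : d * j * d⁻¹ = i * j
  d3 : d * d * d ∈ O s
  gen : M ≤ O s ⊔ closure {i, d}
  sub : (M.subgroupOf (centralizer {s})).IsSubnormal

theorem closure_pair_subgroupOf {H : Subgroup G} {a b : G} (ha : a ∈ H) (hb : b ∈ H) :
    (closure ({a, b} : Set G)).subgroupOf H = closure {(⟨a, ha⟩ : H), ⟨b, hb⟩} := by
  apply Subgroup.map_injective H.subtype_injective
  rw [map_subgroupOf_eq_of_le, MonoidHom.map_closure, Set.image_pair]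
  · rfl
  · rw [closure_le]
    rintro x (rfl | rfl)
    · exact ha
    · exact hb

namespace SlG

variable {M : Subgroup G} {s i j d : G}

theorem hj (h : SlG M s i j d) : j ∈ M := by
  rw [← h.di]; exact mul_mem (mul_mem h.hd h.hi) (inv_mem h.hd)

theorem Qle (h : SlG M s i j d) : closure {i, j} ≤ M := by
  rw [closure_le]
  rintro x (rfl | rfl)
  · exact h.hi
  · exact h.hj

theorem hs (h : SlG M s i j d) : s ∈ M := h.Qle h.q.mem_z

theorem hsC (h : SlG M s i j d) : s ∈ centralizer ({s} : Set G) := h.le h.hs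

theorem sl [Finite G] (h : SlG M s i j d) :
    Sl ((M.subgroupOf (centralizer {s})).map (pr s)) (pr s ⟨s, h.le h.hs⟩) (pr s ⟨i, h.le h.hi⟩)
      (pr s ⟨j, h.le h.hj⟩) (pr s ⟨d, h.le h.hd⟩) where
  q := by
    refine ⟨?_, ?_, ?_, ?_, ?_⟩
    · rw [← map_mul]
      have : (⟨s, h.le h.hs⟩ * ⟨s, h.le h.hs⟩ : centralizer ({s} : Set G)) = 1 := Subtype.ext h.q.z2
      rw [this, map_one]
    · intro h1
      rw [pr_eq_one] at h1
      have h2 : IsPGroup 2 (closure ({i, j} : Set G)) := h.q.isPGroup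
      exact h.q.z1 (eq_one_of_mem_O h1 h2 h.q.mem_z)
    · rw [← map_mul]; congr 1; exact Subtype.ext h.q.i2
    · rw [← map_mul]; congr 1; exact Subtype.ext h.q.j2
    · rw [← map_mul, ← map_mul, ← map_mul]; congr 1; exact Subtype.ext h.q.ji
  di := by rw [← map_inv, ← map_mul, ← map_mul]; congr 1; exact Subtype.ext h.di
  dj := by rw [← map_inv, ← map_mul, ← map_mul, ← map_mul]; congr 1; exact Subtype.ext h.dj
  d3 := by rw [← map_mul, ← map_mul, pr_eq_one]; exact h.d3
  gen := by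
    apply le_antisymm
    · have h1 : M.subgroupOf (centralizer {s}) ≤ oddCore (centralizer ({s} : Set G)) ⊔
          closure {(⟨i, h.le h.hi⟩ : centralizer ({s} : Set G)), ⟨d, h.le h.hd⟩} := by
        intro x hx
        have h2 : (x : G) ∈ O s ⊔ closure {i, d} := h.gen hx
        have h3 : O s ⊔ closure ({i, d} : Set G) = (oddCore (centralizer ({s} : Set G)) ⊔
          closure {(⟨i, h.le h.hi⟩ : centralizer ({s} : Set G)), ⟨d, h.le h.hd⟩}).map
            (centralizer ({s} : Set G)).subtype := by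
          rw [Subgroup.map_sup, MonoidHom.map_closure, Set.image_pair]
          rfl
        rw [h3] at h2
        obtain ⟨y, hy, hyx⟩ := h2
        rwa [← (Subtype.ext hyx : y = x)]
      refine (Subgroup.map_mono h1).trans ?_
      rw [Subgroup.map_sup, MonoidHom.map_closure, Set.image_pair]
      refine sup_le ?_ le_rfl
      rintro _ ⟨x, hx, rfl⟩
      have : pr s x = 1 := pr_eq_one.2 (mem_O.2 hx)
      rw [this]
      exact one_mem _
    · rw [closure_le]
      rintro x (rfl | rfl)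
      · exact ⟨_, h.hi, rfl⟩
      · exact ⟨_, h.hd, rfl⟩

theorem of_cj (h : SlG M s i j d) (g : G) :
    SlG (cj g M) (g * s * g⁻¹) (g * i * g⁻¹) (g * j * g⁻¹) (g * d * g⁻¹) where
  q := by
    have e : ∀ a b : G, (g * a * g⁻¹) * (g * b * g⁻¹) = g * (a * b) * g⁻¹ := fun a b => by group
    refine ⟨?_, ?_, ?_, ?_, ?_⟩
    · rw [e, h.q.z2, mul_one, mul_inv_cancel]
    · intro h1
      apply h.q.z1
      have h2 := mul_inv_eq_one.1 h1
      simpa using h2
    · rw [e, h.q.i2]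
    · rw [e, h.q.j2]
    · rw [e, e, e, h.q.ji]
  le := by rw [← cj_centralizer]; exact cj_mono g h.le
  hO := by rw [O_cj]; exact cj_mono g h.hO
  hi := conj_mem_cj h.hi
  hd := conj_mem_cj h.hd
  di := by rw [← h.di]; group
  dj := by
    have e : (g * i * g⁻¹) * (g * j * g⁻¹) = g * (i * j) * g⁻¹ := by group
    rw [e, ← h.dj]; group
  d3 := by
    have e : (g * d * g⁻¹) * (g * d * g⁻¹) * (g * d * g⁻¹) = g * (d * d * d) * g⁻¹ := by group
    rw [e, O_cj]
    exact conj_mem_cj h.d3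
  gen := by
    refine (cj_mono g h.gen).trans ?_
    rw [O_cj, cj_sup]
    refine sup_le le_sup_left (le_trans (le_of_eq ?_) le_sup_right)
    rw [cj_def, MonoidHom.map_closure, Set.image_pair]
    rfl
  sub := by
    rw [← cj_centralizer]
    have h5 := h.sub.map (f := (cjEquiv g (centralizer {s})).toMonoidHom) (cjEquiv g _).surjective
    convert h5 using 1
    ext x
    simp only [mem_subgroupOf, mem_cj, mem_map]
    constructor
    · intro hx
      refine ⟨(cjEquiv g _).symm x, ?_, ?_⟩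
      · have h6 : (((cjEquiv g (centralizer {s})).symm x : centralizer {s}) : G) = g⁻¹ * x * g := by
          have h7 := coe_cjEquiv g (centralizer {s}) ((cjEquiv g (centralizer {s})).symm x)
          rw [MulEquiv.apply_symm_apply] at h7
          rw [h7]; group
        rw [h6]; exact hx
      · simp
    · rintro ⟨y, hy, rfl⟩
      simpa [mul_assoc] using hy

theorem sub_map (h : SlG M s i j d) : ((M.subgroupOf (centralizer {s})).map (pr s)).IsSubnormal :=
  h.sub.map (pr_surj s)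

end SlG

theorem pr_s_central (s : G) (hs : s ∈ centralizer ({s} : Set G)) (x : (centralizer ({s} : Set G)) ⧸ oddCore (centralizer ({s} : Set G))) :
    x * pr s ⟨s, hs⟩ = pr s ⟨s, hs⟩ * x := by
  obtain ⟨y, rfl⟩ := pr_surj s x
  rw [← map_mul, ← map_mul]
  congr 1
  exact Subtype.ext (mem_centralizer_singleton_iff.1 y.2)

theorem comap_map_eq {s : G} {M : Subgroup G} (hO : O s ≤ M) :
    ((M.subgroupOf (centralizer {s})).map (pr s)).comap (pr s) = M.subgroupOf (centralizer {s}) := by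
  rw [Subgroup.comap_map_eq, pr_ker, sup_eq_left]
  intro x hx
  exact hO (mem_O.2 hx)

theorem eq_of_map_eq {s : G} {M₁ M₂ : Subgroup G} (l₁ : M₁ ≤ centralizer {s}) (l₂ : M₂ ≤ centralizer {s})
    (hO₁ : O s ≤ M₁) (hO₂ : O s ≤ M₂)
    (h : (M₁.subgroupOf (centralizer {s})).map (pr s) = (M₂.subgroupOf (centralizer {s})).map (pr s)) : M₁ = M₂ := by
  have h1 := congrArg (Subgroup.comap (pr s)) h
  rw [comap_map_eq hO₁, comap_map_eq hO₂] at h1
  have h2 := congrArg (Subgroup.map (centralizer ({s} : Set G)).subtype) h1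
  rwa [map_subgroupOf_eq_of_le l₁, map_subgroupOf_eq_of_le l₂] at h2

/-- two members with the same involution are equal or commute modulo the core -/
theorem SlG.eq_or_comm [Finite G] {M₁ M₂ : Subgroup G} {s i₁ j₁ d₁ i₂ j₂ d₂ : G} (h₁ : SlG M₁ s i₁ j₁ d₁)
    (h₂ : SlG M₂ s i₂ j₂ d₂) : M₁ = M₂ ∨ ∀ x ∈ M₁, ∀ y ∈ M₂, x * y * x⁻¹ * y⁻¹ ∈ O s := by
  rcases eq_or_cm (oddCore_quot s) (pr_s_central s h₁.hsC) ⟨_, _, _, h₁.sl⟩ ⟨_, _, _, h₂.sl⟩ h₁.sub_map h₂.sub_map with
    h | h
  · exact Or.inl (eq_of_map_eq h₁.le h₂.le h₁.hO h₂.hO h)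
  · right
    intro x hx y hy
    have h3 := h _ ⟨⟨x, h₁.le hx⟩, hx, rfl⟩ _ ⟨⟨y, h₂.le hy⟩, hy, rfl⟩
    have h4 : pr s (⟨x, h₁.le hx⟩ * ⟨y, h₂.le hy⟩ * ⟨x, h₁.le hx⟩⁻¹ * ⟨y, h₂.le hy⟩⁻¹) = 1 := by
      rw [map_mul, map_mul, map_mul, map_inv, map_inv, h3]; group
    exact pr_eq_one.1 h4

/-- 2-elements of different members in a common 2-subgroup commute -/
theorem SlG.comm_of_ne [Finite G] {M₁ M₂ : Subgroup G} {s i₁ j₁ d₁ i₂ j₂ d₂ : G} (h₁ : SlG M₁ s i₁ j₁ d₁)
    (h₂ : SlG M₂ s i₂ j₂ d₂) (hne : M₁ ≠ M₂) {T : Subgroup G} (hT : IsPGroup 2 T) {x y : G} (hx : x ∈ M₁)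
    (hxT : x ∈ T) (hy : y ∈ M₂) (hyT : y ∈ T) : x * y = y * x := by
  have h3 := (h₁.eq_or_comm h₂).resolve_left hne x hx y hy
  have h4 := eq_one_of_mem_O h3 hT (mul_mem (mul_mem (mul_mem hxT hyT) (inv_mem hxT)) (inv_mem hyT))
  rw [mul_inv_eq_one, mul_inv_eq_iff_eq_mul] at h4
  exact h4

section Lift

variable {s : G}

/-- lifting coordinates from the quotient -/
theorem exists_slG [Finite G] {M : Subgroup G} (hs2 : s * s = 1) (hsC : s ∈ centralizer ({s} : Set G))
    (hle : M ≤ centralizer {s}) (hO : O s ≤ M) (hsub : (M.subgroupOf (centralizer {s})).IsSubnormal)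
    (hsl : IsSl ((M.subgroupOf (centralizer {s})).map (pr s)) (pr s ⟨s, hsC⟩)) : ∃ i j d, SlG M s i j d := by
  haveI : Fact (Nat.Prime 2) := ⟨Nat.prime_two⟩
  obtain ⟨i', j', d', h⟩ := hsl
  let Qb : Subgroup ((centralizer ({s} : Set G)) ⧸ oddCore (centralizer ({s} : Set G))) := closure {i', j'}
  have hQbp : IsPGroup 2 Qb := h.q.isPGroup
  let E : Subgroup (centralizer ({s} : Set G)) := Qb.comap (pr s)
  obtain ⟨P, hP⟩ := Hyp.exists_syl E
  -- `P` maps onto `Qb`
  have hPQ : P.map (pr s) = Qb := by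
    have hEm : E.map (pr s) = Qb := Subgroup.map_comap_eq_self_of_surjective (pr_surj s) Qb
    have h1 : (P.map (pr s)).relIndex Qb ∣ P.relIndex E := by
      rw [← hEm]
      exact relIndex_map_dvd (pr s) P E
    have h2 : ¬ 2 ∣ (P.map (pr s)).relIndex Qb := fun h3 => hP.2.2 (h3.trans h1)
    apply le_antisymm
    · rw [← hEm]; exact Subgroup.map_mono hP.1
    · rw [← relIndex_eq_one]
      obtain ⟨n, hn⟩ := hQbp.exists_card_eq
      have h4 : (P.map (pr s)).relIndex Qb ∣ 2 ^ n := by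
        rw [← hn]
        exact relIndex_dvd_card _ _
      obtain ⟨m, _, hm⟩ := (Nat.dvd_prime_pow Nat.prime_two).1 h4
      rcases Nat.eq_zero_or_pos m with h5 | h5
      · rw [hm, h5, pow_zero]
      · exfalso
        apply h2
        rw [hm]
        exact dvd_pow_self 2 h5.ne'
  have hi' : i' ∈ P.map (pr s) := by rw [hPQ]; exact Qt.mem_i (pr s ⟨s, hsC⟩) _ _
  have hj' : j' ∈ P.map (pr s) := by rw [hPQ]; exact Qt.mem_j (pr s ⟨s, hsC⟩) _ _
  obtain ⟨i, hiP, hi⟩ := hi'
  obtain ⟨j, hjP, hj⟩ := hj'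
  -- elements of `P` times powers of `s` in the kernel are trivial
  have key : ∀ x : (centralizer ({s} : Set G)), x ∈ P ⊔ zpowers ⟨s, hsC⟩ → pr s x = 1 → x = 1 := by
    have hs_c : ∀ x : (centralizer ({s} : Set G)), x * ⟨s, hsC⟩ = ⟨s, hsC⟩ * x := fun x => Subtype.ext (mem_centralizer_singleton_iff.1 x.2)
    have hn : (zpowers (⟨s, hsC⟩ : (centralizer ({s} : Set G)))).Normal := by
      constructor
      rintro _ ⟨n, rfl⟩ g
      have h5 : Commute g ((⟨s, hsC⟩ : (centralizer ({s} : Set G))) ^ n) := (show Commute g ⟨s, hsC⟩ from hs_c g).zpow_right n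
      refine ⟨n, ?_⟩
      show ((⟨s, hsC⟩ : (centralizer ({s} : Set G))) ^ n) = _
      rw [show g * (fun x => (⟨s, hsC⟩ : (centralizer ({s} : Set G))) ^ x) n * g⁻¹ = g * (⟨s, hsC⟩ : (centralizer ({s} : Set G))) ^ n * g⁻¹ from rfl, h5.eq]
      group
    have hzp : IsPGroup 2 (zpowers (⟨s, hsC⟩ : (centralizer ({s} : Set G)))) := by
      have h6 : (⟨s, hsC⟩ : (centralizer ({s} : Set G))) ^ 2 ^ 1 = 1 := by
        rw [pow_one, pow_two]; exact Subtype.ext hs2
      rintro ⟨_, n, rfl⟩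
      refine ⟨1, Subtype.ext ?_⟩
      show ((⟨s, hsC⟩ : (centralizer ({s} : Set G))) ^ n) ^ 2 ^ 1 = 1
      rw [← zpow_natCast, ← zpow_mul, mul_comm, zpow_mul, zpow_natCast, h6, one_zpow]
    have hPs : IsPGroup 2 (P ⊔ zpowers (⟨s, hsC⟩ : (centralizer ({s} : Set G))) : Subgroup (centralizer ({s} : Set G))) := hP.2.1.to_sup_of_normal_right hzp
    intro x hx hx1
    have h7 := pr_eq_one.1 hx1
    have h8 : (x : G) ∈ (P ⊔ zpowers (⟨s, hsC⟩ : (centralizer ({s} : Set G)))).map (centralizer ({s} : Set G)).subtype := ⟨x, hx, rfl⟩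
    have h9 := eq_one_of_mem_O h7 (hPs.map (centralizer ({s} : Set G)).subtype) h8
    exact Subtype.ext h9
  have hP1 : P ≤ P ⊔ zpowers (⟨s, hsC⟩ : (centralizer ({s} : Set G))) := le_sup_left
  have hs1 : (⟨s, hsC⟩ : (centralizer ({s} : Set G))) ∈ P ⊔ zpowers (⟨s, hsC⟩ : (centralizer ({s} : Set G))) := (le_sup_right : _ ≤ P ⊔ zpowers (⟨s, hsC⟩ : (centralizer ({s} : Set G)))) (mem_zpowers _)
  have key2 : ∀ a b : (centralizer ({s} : Set G)), a ∈ P ⊔ zpowers (⟨s, hsC⟩ : (centralizer ({s} : Set G))) → b ∈ P ⊔ zpowers (⟨s, hsC⟩ : (centralizer ({s} : Set G))) → pr s a = pr s b → a = b := by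
    intro a b ha hb hab
    have := key (a * b⁻¹) (mul_mem ha (inv_mem hb)) (by rw [map_mul, map_inv, hab, mul_inv_cancel])
    exact mul_inv_eq_one.1 this
  have hq : Qt s (i : G) (j : G) := by
    refine ⟨hs2, ?_, ?_, ?_, ?_⟩
    · intro h1
      apply h.q.z1
      have : (⟨s, hsC⟩ : (centralizer ({s} : Set G))) = 1 := Subtype.ext h1
      rw [this, map_one]
    · have := key2 (i * i) ⟨s, hsC⟩ (mul_mem (hP1 hiP) (hP1 hiP)) hs1 (by rw [map_mul, hi, h.q.i2])
      exact congrArg Subtype.val this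
    · have := key2 (j * j) ⟨s, hsC⟩ (mul_mem (hP1 hjP) (hP1 hjP)) hs1 (by rw [map_mul, hj, h.q.j2])
      exact congrArg Subtype.val this
    · have := key2 (j * i) (⟨s, hsC⟩ * (i * j)) (mul_mem (hP1 hjP) (hP1 hiP))
        (mul_mem hs1 (mul_mem (hP1 hiP) (hP1 hjP))) (by rw [map_mul, map_mul, map_mul, hi, hj, h.q.ji])
      exact congrArg Subtype.val this
  -- the element of order three
  obtain ⟨d₀, hd₀M, hd₀⟩ := h.hd
  obtain ⟨n, hn, hnP⟩ := Lib.LocalCore.exists_mul_mem_normalizer 2 (oddCore (centralizer ({s} : Set G))) P (Lib.Cores.pPrimeCore_coprime 2)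
    hP.2.1 (g := d₀) (by
      intro x hx
      have h1 : pr s (d₀ * x * d₀⁻¹) ∈ P.map (pr s) := by
        rw [hPQ, map_mul, map_mul, map_inv, hd₀]
        apply h.conj_mem
        show pr s x ∈ Qb
        rw [← hPQ]
        exact ⟨x, hx, rfl⟩
      obtain ⟨y, hy, hyx⟩ := h1
      have h2 : y⁻¹ * (d₀ * x * d₀⁻¹) ∈ oddCore (centralizer ({s} : Set G)) := by
        rw [← mem_O, ← pr_eq_one, map_mul, map_inv, hyx, inv_mul_cancel]
      have h3 : d₀ * x * d₀⁻¹ = y * (y⁻¹ * (d₀ * x * d₀⁻¹)) := by group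
      rw [h3]
      exact mul_mem ((le_sup_left : P ≤ _) hy) ((le_sup_right : oddCore (centralizer ({s} : Set G)) ≤ _) h2))
  set d : (centralizer ({s} : Set G)) := n * d₀ with hdef
  have hn1 : pr s n = 1 := pr_eq_one.2 (mem_O.2 hn)
  have hd : pr s d = d' := by rw [hdef, map_mul, hn1, one_mul, hd₀]
  have hdP : ∀ x ∈ P, d * x * d⁻¹ ∈ P := fun x hx => (mem_normalizer_iff.1 hnP x).1 hx
  have hdi : d * i * d⁻¹ = j := key2 _ _ (hP1 (hdP i hiP)) (hP1 hjP) (by
    have e : pr s (d * i * d⁻¹) = pr s d * pr s i * (pr s d)⁻¹ := by rw [map_mul _ (d * i), map_mul, map_inv]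
    rw [e, hd, hi, hj, h.di])
  have hdj : d * j * d⁻¹ = i * j := key2 _ _ (hP1 (hdP j hjP)) (hP1 (mul_mem hiP hjP)) (by
    have e : pr s (d * j * d⁻¹) = pr s d * pr s j * (pr s d)⁻¹ := by rw [map_mul _ (d * j), map_mul, map_inv]
    have e2 : pr s (i * j) = pr s i * pr s j := map_mul _ _ _
    rw [e, e2, hd, hi, hj, h.dj])
  have hlift : ∀ x : (centralizer ({s} : Set G)), pr s x ∈ (M.subgroupOf (centralizer ({s} : Set G))).map (pr s) → (x : G) ∈ M := by
    intro x hx
    have : x ∈ ((M.subgroupOf (centralizer ({s} : Set G))).map (pr s)).comap (pr s) := hx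
    rw [comap_map_eq hO] at this
    exact this
  have hiM : (i : G) ∈ M := hlift i (by rw [hi]; exact h.hi)
  have hdM : (d : G) ∈ M := hlift d (by rw [hd]; exact h.hd)
  refine ⟨i, j, d, hq, hle, hO, hiM, hdM, congrArg Subtype.val hdi, congrArg Subtype.val hdj, ?_, ?_, hsub⟩
  · have e : pr s (d * d * d) = pr s d * pr s d * pr s d := by rw [map_mul _ (d * d), map_mul]
    rw [hd, h.d3] at e
    exact pr_eq_one.1 e
  · intro x hx
    have h1 : pr s ⟨x, hle hx⟩ ∈ (M.subgroupOf (centralizer ({s} : Set G))).map (pr s) := ⟨⟨x, hle hx⟩, hx, rfl⟩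
    rw [h.gen] at h1
    have h2 : closure {i', d'} = (closure {i, d}).map (pr s) := by
      rw [MonoidHom.map_closure, Set.image_pair, hi, hd]
    rw [h2] at h1
    obtain ⟨y, hy, hyx⟩ := h1
    have h3 : (⟨x, hle hx⟩ * y⁻¹ : (centralizer ({s} : Set G))) ∈ oddCore (centralizer ({s} : Set G)) := by
      rw [← mem_O, ← pr_eq_one, map_mul, map_inv, hyx, mul_inv_cancel]
    have h4 : x = ((⟨x, hle hx⟩ * y⁻¹ : (centralizer ({s} : Set G))) : G) * y := by
      show x = x * (y : G)⁻¹ * y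
      group
    rw [h4]
    refine mul_mem ((le_sup_left : O s ≤ _) (mem_O.2 h3)) ((le_sup_right : closure {(i : G), (d : G)} ≤ _) ?_)
    have h5 : closure {(i : G), (d : G)} = (closure {i, d}).map (centralizer ({s} : Set G)).subtype := by
      rw [MonoidHom.map_closure, Set.image_pair]; rfl
    rw [h5]
    exact ⟨y, hy, rfl⟩

end Lift

end Cfsg.Agent.Cit.SLThree
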