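import Cfsg.Agent.Cit.SLThreeComm

/-!
# Step one: an element of order 4 in `O_{2',2}(C(y²))` and a commuting family of `SL(2,3)`'s
-/

set_option autoImplicit false
set_option linter.unusedSimpArgs false
set_option linter.unusedVariables false

namespace Cfsg.Agent.Cit.SLThree

open Subgroup Cfsg

variable {X : Type*} [Group X]

theorem pow_four_pow {v : X} (hv : v * v * v = 1) (k : ℕ) : (v ^ 2 ^ k) ^ 2 ^ k = v := by
  have h1 : (v ^ 2 ^ k) ^ 2 ^ k = v ^ (4 ^ k) := by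
    rw [← pow_mul, ← mul_pow, show (2 : ℕ) * 2 = 4 by norm_num]
  have h3 : v ^ 3 = 1 := by rw [pow_succ, pow_succ, pow_one]; exact hv
  have h2 : ∀ k : ℕ, v ^ (4 ^ k) = v := by
    intro k
    induction k with
    | zero => simp
    | succ k ih =>
      rw [pow_succ, pow_mul, ih]
      rw [show (4 : ℕ) = 3 + 1 by norm_num, pow_succ, h3, one_mul]
  rw [h1, h2]

theorem mem_of_pow {N₀ : Subgroup X} {v : X} (hv : v * v * v = 1) {k : ℕ} (h : v ^ 2 ^ k ∈ N₀) : v ∈ N₀ := by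
  rw [← pow_four_pow hv k]
  exact pow_mem h _

theorem eq_one_of_sq [Finite X] {N₀ : Subgroup X} (hN : ¬ 2 ∣ Nat.card N₀) {w : X} (hw : w ∈ N₀) (h : w * w = 1) :
    w = 1 := by
  by_contra hne
  apply hN
  have h1 : orderOf w = 2 := orderOf_eq_prime (by rw [pow_two]; exact h) hne
  rw [← h1, ← Nat.card_zpowers]
  exact card_dvd_of_le (by rw [zpowers_le]; exact hw)

/-- the common computation -/
theorem core_contra [Finite X] {N N₀ : Subgroup X} {y t D' I' J' : X}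
    (hyN : y ∈ N) (hND : centralizer {t} ≤ normalizer (N : Set X))
    (hN₀D : centralizer {t} ≤ normalizer (N₀ : Set X))
    (hN₀ : ¬ 2 ∣ Nat.card N₀) (h2 : ∀ n ∈ N, ∃ k : ℕ, n ^ 2 ^ k ∈ N₀)
    (hD : D' ∈ centralizer ({t} : Set X)) (hI : I' ∈ centralizer ({t} : Set X))
    (hD3 : D' * D' * D' = 1) (hcD : (y⁻¹ * D'⁻¹ * y) * D' = D' * (y⁻¹ * D'⁻¹ * y))
    (hcJ : (y⁻¹ * D'⁻¹ * y) * J' = J' * (y⁻¹ * D'⁻¹ * y)) (hDI : D' * I' * D'⁻¹ = J')
    (hsq : (I' * J'⁻¹) * (I' * J'⁻¹) = 1) : I' = J' := by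
  set A := y⁻¹ * D'⁻¹ * y with hA
  have hA3 : A * A * A = 1 := by
    have := cube_conj (cube_inv hD3) y⁻¹
    rw [inv_inv] at this
    exact this
  have hv3 : (A * D') * (A * D') * (A * D') = 1 := cube_mul hcD hA3 hD3
  have hvN : A * D' ∈ N := by
    have h3 : A * D' = y⁻¹ * (D'⁻¹ * y * D') := by rw [hA]; group
    rw [h3]
    refine mul_mem (inv_mem hyN) ?_
    have := (mem_normalizer_iff.1 (hND (inv_mem hD)) y).1 hyN
    simpa using this
  obtain ⟨k, hk⟩ := h2 _ hvN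
  have hv : A * D' ∈ N₀ := mem_of_pow hv3 hk
  have hw : I' * J'⁻¹ ∈ N₀ := by
    have h3 : I' * J'⁻¹ = (I' * (A * D') * I'⁻¹) * (A * D')⁻¹ := by
      have h4 : (A * D') * I' * (A * D')⁻¹ = J' := by
        calc (A * D') * I' * (A * D')⁻¹ = A * (D' * I' * D'⁻¹) * A⁻¹ := by group
          _ = A * J' * A⁻¹ := by rw [hDI]
          _ = J' := by rw [hcJ]; group
      calc I' * J'⁻¹ = I' * ((A * D') * I' * (A * D')⁻¹)⁻¹ := by rw [h4]
        _ = (I' * (A * D') * I'⁻¹) * (A * D')⁻¹ := by group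
    rw [h3]
    exact mul_mem ((mem_normalizer_iff.1 (hN₀D hI) _).1 hv) (inv_mem hv)
  exact mul_inv_eq_one.1 (eq_one_of_sq hN₀ hw hsq)

theorem step_one [Finite X] {z : X} (hz : ∀ x : X, x * z = z * x) {Om : Set (Subgroup X)}
    (hOm : ∀ M ∈ Om, IsSl M z) (hconj : ∀ M ∈ Om, ∀ g, cj g M ∈ Om)
    (hc : ∀ M ∈ Om, ∀ M₂ ∈ Om, M = M₂ ∨ Cm M M₂) {y t : X} (hy : y * y = t) (ht : t * t = 1)
    {N N₀ : Subgroup X} (hyN : y ∈ N) (hND : centralizer {t} ≤ normalizer (N : Set X))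
    (hN₀D : centralizer {t} ≤ normalizer (N₀ : Set X))
    (hN₀ : ¬ 2 ∣ Nat.card N₀) (h2 : ∀ n ∈ N, ∃ k : ℕ, n ^ 2 ^ k ∈ N₀) {M : Subgroup X} (hM : M ∈ Om) :
    cj t M = M := by
  by_contra hne
  obtain ⟨i, j, d, h⟩ := hOm M hM
  have hty : t * y = y * t := by rw [← hy, mul_assoc]
  have ht' : t⁻¹ = t := inv_eq_of_mul_eq_one_right ht
  have hMt := hconj M hM t
  have hMy := hconj M hM y⁻¹
  have hMty := hconj _ hMy t
  have c0 : Cm M (cj t M) := (hc M hM _ hMt).resolve_left (fun h1 => hne h1.symm)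
  -- `M' = cj y⁻¹ M` is different from `M` and `cj t M`
  have n1 : M ≠ cj y⁻¹ M := by
    intro h1
    apply hne
    have h3 : cj y M = M := by
      conv_lhs => rw [h1]
      rw [cj_cj_inv]
    rw [← hy, cj_mul, h3, h3]
  have n2 : cj t M ≠ cj y⁻¹ M := by
    intro h1
    apply n1
    have h3 : cj (y * t) M = M := by
      rw [cj_mul, h1, cj_cj_inv]
    have h4 : y * t = y⁻¹ := by
      rw [eq_inv_iff_mul_eq_one, mul_assoc, hty, ← mul_assoc, hy, ht]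
    rw [h4] at h3
    exact h3.symm
  have c1 : Cm M (cj y⁻¹ M) := (hc M hM _ hMy).resolve_left n1
  have c2 : Cm (cj t M) (cj y⁻¹ M) := (hc _ hMt _ hMy).resolve_left n2
  have cjcm : ∀ A B : Subgroup X, Cm A B → Cm (cj t A) (cj t B) := by
    rintro A B hAB _ ⟨a, ha, rfl⟩ _ ⟨b, hb, rfl⟩
    have := hAB a ha b hb
    show MulAut.conj t a * MulAut.conj t b = MulAut.conj t b * MulAut.conj t a
    rw [← map_mul, this, map_mul]
  have htt : cj t (cj t M) = M := by rw [← cj_mul, ht, cj_one]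
  have c3 : Cm M (cj t (cj y⁻¹ M)) := by
    have := cjcm _ _ c2
    rwa [htt] at this
  have c4 : Cm (cj t M) (cj t (cj y⁻¹ M)) := cjcm _ _ c1
  have mt : ∀ m ∈ M, t * m * t⁻¹ ∈ cj t M := fun m hm => conj_mem_cj hm
  -- diagonal elements
  have diagC : ∀ m ∈ M, m * (t * m * t⁻¹) ∈ centralizer ({t} : Set X) := by
    intro m hm
    rw [mem_centralizer_singleton_iff]
    have h3 := c0 m hm _ (mt m hm)
    have h4 : t * (m * (t * m * t⁻¹)) * t⁻¹ = m * (t * m * t⁻¹) := by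
      calc t * (m * (t * m * t⁻¹)) * t⁻¹ = (t * m * t⁻¹) * ((t * t) * m * (t * t)⁻¹) := by group
        _ = (t * m * t⁻¹) * m := by rw [ht]; group
        _ = m * (t * m * t⁻¹) := h3.symm
    exact (mul_inv_eq_iff_eq_mul.1 h4).symm
  have diag_mul : ∀ a ∈ M, ∀ b ∈ M, (a * (t * a * t⁻¹)) * (b * (t * b * t⁻¹)) = (a * b) * (t * (a * b) * t⁻¹) := by
    intro a ha b hb
    have h3 := c0 b hb _ (mt a ha)
    calc (a * (t * a * t⁻¹)) * (b * (t * b * t⁻¹)) = a * ((t * a * t⁻¹) * b) * (t * b * t⁻¹) := by group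
      _ = a * (b * (t * a * t⁻¹)) * (t * b * t⁻¹) := by rw [h3]
      _ = (a * b) * (t * (a * b) * t⁻¹) := by group
  have diag_inv : ∀ a ∈ M, (a * (t * a * t⁻¹))⁻¹ = a⁻¹ * (t * a⁻¹ * t⁻¹) := by
    intro a ha
    have h3 := diag_mul a ha a⁻¹ (inv_mem ha)
    rw [mul_inv_cancel, mul_one, mul_inv_cancel, one_mul] at h3
    exact inv_eq_of_mul_eq_one_right h3
  -- the conjugate of a diagonal element commutes with everything
  have cA : ∀ m ∈ M, ∀ x, (x ∈ M ∨ x ∈ cj t M) →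
      (y⁻¹ * (m * (t * m * t⁻¹)) * y) * x = x * (y⁻¹ * (m * (t * m * t⁻¹)) * y) := by
    intro m hm x hx
    have e1 : y⁻¹ * m * y ∈ cj y⁻¹ M := by
      have := conj_mem_cj (g := y⁻¹) hm
      simpa using this
    have e2 : y⁻¹ * (t * m * t⁻¹) * y ∈ cj t (cj y⁻¹ M) := by
      have h3 : y⁻¹ * (t * m * t⁻¹) * y = t * (y⁻¹ * m * y) * t⁻¹ := by
        have h4 : y⁻¹ * t = t * y⁻¹ := by
          rw [inv_mul_eq_iff_eq_mul, ← mul_assoc, ← hty]; group
        calc y⁻¹ * (t * m * t⁻¹) * y = (y⁻¹ * t) * m * (y⁻¹ * t)⁻¹ := by group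
          _ = (t * y⁻¹) * m * (t * y⁻¹)⁻¹ := by rw [h4]
          _ = t * (y⁻¹ * m * y) * t⁻¹ := by group
      rw [h3]
      exact conj_mem_cj e1
    have e3 : y⁻¹ * (m * (t * m * t⁻¹)) * y = (y⁻¹ * m * y) * (y⁻¹ * (t * m * t⁻¹) * y) := by group
    have f1 : x * (y⁻¹ * m * y) = (y⁻¹ * m * y) * x := by
      rcases hx with hx | hx
      · exact c1 x hx _ e1
      · exact c2 x hx _ e1
    have f2 : x * (y⁻¹ * (t * m * t⁻¹) * y) = (y⁻¹ * (t * m * t⁻¹) * y) * x := by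
      rcases hx with hx | hx
      · exact c3 x hx _ e2
      · exact c4 x hx _ e2
    rw [e3, mul_assoc, ← f2, ← mul_assoc, ← f1, mul_assoc]
  have cA' : ∀ m ∈ M, ∀ x ∈ M,
      (y⁻¹ * (m * (t * m * t⁻¹)) * y) * (x * (t * x * t⁻¹)) = (x * (t * x * t⁻¹)) * (y⁻¹ * (m * (t * m * t⁻¹)) * y) := by
    intro m hm x hx
    rw [← mul_assoc, cA m hm x (Or.inl hx), mul_assoc, cA m hm _ (Or.inr (mt x hx)), ← mul_assoc]
  have hD3 : (d * (t * d * t⁻¹)) * (d * (t * d * t⁻¹)) * (d * (t * d * t⁻¹)) = 1 := by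
    rw [diag_mul d h.hd d h.hd, diag_mul _ (mul_mem h.hd h.hd) d h.hd, h.d3]; group
  have hDI : (d * (t * d * t⁻¹)) * (i * (t * i * t⁻¹)) * (d * (t * d * t⁻¹))⁻¹ = j * (t * j * t⁻¹) := by
    rw [diag_inv d h.hd, diag_mul d h.hd i h.hi, diag_mul _ (mul_mem h.hd h.hi) _ (inv_mem h.hd), h.di]
  have hij : i * j⁻¹ ∈ M := mul_mem h.hi (inv_mem h.hj)
  have hIJ : (i * (t * i * t⁻¹)) * (j * (t * j * t⁻¹))⁻¹ = (i * j⁻¹) * (t * (i * j⁻¹) * t⁻¹) := by
    rw [diag_inv j h.hj, diag_mul i h.hi _ (inv_mem h.hj)]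
  have hk2 : (i * j⁻¹) * (i * j⁻¹) = z := by
    rw [h.q.j_inv]
    simp only [mul_assoc, one_mul, mul_one, h.q.z2, h.q.zz, h.q.iz, h.q.jz, h.q.izx, h.q.jzx, h.q.i2, h.q.j2,
      h.q.iix, h.q.jjx, h.q.ji, h.q.jix]
  have tz : t * z * t⁻¹ = z := by rw [hz, mul_assoc, mul_inv_cancel, mul_one]
  have hsq : ((i * (t * i * t⁻¹)) * (j * (t * j * t⁻¹))⁻¹) * ((i * (t * i * t⁻¹)) * (j * (t * j * t⁻¹))⁻¹) = 1 := by
    rw [hIJ, diag_mul _ hij _ hij, hk2, tz, h.q.z2]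
  have cI := cA' d⁻¹ (inv_mem h.hd)
  rw [← diag_inv d h.hd] at cI
  have fin := core_contra hyN hND hN₀D hN₀ h2 (diagC d h.hd) (diagC i h.hi) hD3 (cI d h.hd) (cI j h.hj) hDI hsq
  -- so `k' = i j⁻¹` satisfies `k' (t k' t⁻¹) = 1`
  have h5 : (i * j⁻¹) * (t * (i * j⁻¹) * t⁻¹) = 1 := by
    rw [← hIJ, fin, mul_inv_cancel]
  have h6 : t * (i * j⁻¹) * t⁻¹ = (i * j⁻¹)⁻¹ := (inv_eq_of_mul_eq_one_right h5).symm
  have h7 := c0 i h.hi _ (mt _ hij)
  rw [h6] at h7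
  apply h.q.not_comm
  have h8 : i * (i * j⁻¹) = (i * j⁻¹) * i := by
    calc i * (i * j⁻¹) = (i * j⁻¹) * ((i * j⁻¹)⁻¹ * i) * (i * j⁻¹) := by group
      _ = (i * j⁻¹) * (i * (i * j⁻¹)⁻¹) * (i * j⁻¹) := by rw [h7]
      _ = (i * j⁻¹) * i := by group
  have h9 : i * j⁻¹ = j⁻¹ * i := by
    rw [mul_assoc] at h8
    exact mul_left_cancel h8
  calc i * j = j * (j⁻¹ * i) * j := by group
    _ = j * (i * j⁻¹) * j := by rw [h9]
    _ = j * i := by group

theorem step_two [Finite X] {z : X} (hz : ∀ x : X, x * z = z * x) {Om : Set (Subgroup X)}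
    (hconj : ∀ M ∈ Om, ∀ g, cj g M ∈ Om)
    (hc : ∀ M ∈ Om, ∀ M₂ ∈ Om, M = M₂ ∨ Cm M M₂) {y t : X} (hy : y * y = t)
    {N N₀ : Subgroup X} (hyN : y ∈ N) (hND : centralizer {t} ≤ normalizer (N : Set X))
    (hN₀D : centralizer {t} ≤ normalizer (N₀ : Set X))
    (hN₀ : ¬ 2 ∣ Nat.card N₀) (h2 : ∀ n ∈ N, ∃ k : ℕ, n ^ 2 ^ k ∈ N₀) {M : Subgroup X} (hM : M ∈ Om)
    (htM : cj t M = M) {i j d : X} (h : Sl M z i j d) (ti : t * i = i * t) (tj : t * j = j * t) :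
    cj y M = M := by
  by_contra hne
  have hMy := hconj M hM y⁻¹
  have n1 : M ≠ cj y⁻¹ M := by
    intro h1
    apply hne
    conv_lhs => rw [h1]
    rw [cj_cj_inv]
  have c1 : Cm M (cj y⁻¹ M) := (hc M hM _ hMy).resolve_left n1
  -- `t` centralises `d`
  have td : t * d * t⁻¹ ∈ M := by
    have := conj_mem_cj (g := t) h.hd
    rwa [htM] at this
  have hc1 : (d⁻¹ * (t * d * t⁻¹)) * i = i * (d⁻¹ * (t * d * t⁻¹)) := by
    have e1 : t⁻¹ * i * t = i := by rw [mul_assoc, ← ti]; group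
    have e2 : t * j * t⁻¹ = j := by rw [tj]; group
    have e3 : (d⁻¹ * (t * d * t⁻¹)) * i * (d⁻¹ * (t * d * t⁻¹))⁻¹ = i := by
      calc (d⁻¹ * (t * d * t⁻¹)) * i * (d⁻¹ * (t * d * t⁻¹))⁻¹
          = d⁻¹ * (t * (d * (t⁻¹ * i * t) * d⁻¹) * t⁻¹) * d := by group
        _ = d⁻¹ * j * d := by rw [e1, h.di, e2]
        _ = i := by rw [← h.di]; group
    exact mul_inv_eq_iff_eq_mul.1 e3
  have hc2 : (d⁻¹ * (t * d * t⁻¹)) * j = j * (d⁻¹ * (t * d * t⁻¹)) := by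
    have e1 : t⁻¹ * j * t = j := by rw [mul_assoc, ← tj]; group
    have e2 : t * (i * j) * t⁻¹ = i * j := by
      calc t * (i * j) * t⁻¹ = (t * i) * j * t⁻¹ := by group
        _ = i * (t * j) * t⁻¹ := by rw [ti]; group
        _ = i * j := by rw [tj]; group
    have e3 : (d⁻¹ * (t * d * t⁻¹)) * j * (d⁻¹ * (t * d * t⁻¹))⁻¹ = j := by
      calc (d⁻¹ * (t * d * t⁻¹)) * j * (d⁻¹ * (t * d * t⁻¹))⁻¹
          = d⁻¹ * (t * (d * (t⁻¹ * j * t) * d⁻¹) * t⁻¹) * d := by group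
        _ = d⁻¹ * (i * j) * d := by rw [e1, h.dj, e2]
        _ = j := by rw [← h.dj]; group
    exact mul_inv_eq_iff_eq_mul.1 e3
  have hmem : d⁻¹ * (t * d * t⁻¹) ∈ M := mul_mem (inv_mem h.hd) td
  -- an element of `M` commuting with `i`, `j` is `1` or `z`
  have hcen : d⁻¹ * (t * d * t⁻¹) = 1 ∨ d⁻¹ * (t * d * t⁻¹) = z := by
    obtain ⟨q, hq, h3⟩ := h.mem_cases hmem
    have hqi : q * i * q⁻¹ = i ∨ q * i * q⁻¹ = z * i := by
      rcases h.q.mem_cases hq with h8 | h8 | h8 | h8 | h8 | h8 | h8 | h8 <;> rw [h8] <;>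
      simp only [mul_inv_rev, h.q.z_inv, h.q.i_inv, h.q.j_inv, inv_one,
        mul_assoc, one_mul, mul_one, h.q.z2, h.q.zz, h.q.iz, h.q.jz, h.q.izx, h.q.jzx, h.q.i2, h.q.j2,
        h.q.iix, h.q.jjx, h.q.ji, h.q.jix, true_or, or_true]
    have nji : ∀ w, (w = j ∨ w = i * j) → w = i ∨ w = z * i → False := by
      intro w hw1 hw2
      apply h.q.not_comm
      have h5 : j = i ∨ j = z * i ∨ j = 1 ∨ j = z := by
        rcases hw1 with rfl | rfl <;> rcases hw2 with hw2 | hw2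
        · exact Or.inl hw2
        · exact Or.inr (Or.inl hw2)
        · exact Or.inr (Or.inr (Or.inl (mul_left_cancel (hw2.trans (mul_one i).symm))))
        · refine Or.inr (Or.inr (Or.inr ?_))
          rw [← h.q.iz] at hw2
          exact mul_left_cancel hw2
      rcases h5 with h5 | h5 | h5 | h5 <;> rw [h5]
      · rw [h.q.izx, mul_assoc]
      · rw [one_mul, mul_one]
      · exact h.q.iz
    have conjq : ∀ w, q * w * q⁻¹ = i → w = i ∨ w = z * i := by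
      intro w hw
      have h5 : w = q⁻¹ * i * q := by rw [← hw]; group
      rcases hqi with h6 | h6
      · left; rw [h5]
        calc q⁻¹ * i * q = q⁻¹ * (q * i * q⁻¹) * q := by rw [h6]
          _ = i := by group
      · right; rw [h5]
        have h7 : i = z * (q * i * q⁻¹) := by rw [h6, h.q.zz]
        have h8 := h.q.comm_z hq
        calc q⁻¹ * i * q = q⁻¹ * (z * (q * i * q⁻¹)) * q := by rw [← h7]
          _ = q⁻¹ * (z * q) * i := by group
          _ = q⁻¹ * (q * z) * i := by rw [h8]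
          _ = z * i := by group
    rcases h3 with h3 | h3 | h3
    · rw [h3] at hc1 hc2 ⊢
      exact h.q.central hq hc1 hc2
    · exfalso
      rw [h3] at hc1
      have h5 : q * j * q⁻¹ = i := by
        rw [← h.di]
        calc q * (d * i * d⁻¹) * q⁻¹ = (q * d * i) * (q * d)⁻¹ := by group
          _ = (i * (q * d)) * (q * d)⁻¹ := by rw [hc1]
          _ = i := by group
      exact nji j (Or.inl rfl) (conjq _ h5)
    · exfalso
      rw [h3] at hc1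
      have h5 : q * (i * j) * q⁻¹ = i := by
        rw [← h.dj, ← h.di]
        calc q * (d * (d * i * d⁻¹) * d⁻¹) * q⁻¹ = (q * (d * d) * i) * (q * (d * d))⁻¹ := by group
          _ = (i * (q * (d * d))) * (q * (d * d))⁻¹ := by rw [hc1]
          _ = i := by group
      exact nji (i * j) (Or.inr rfl) (conjq _ h5)
  have htd : t * d * t⁻¹ = d := by
    rcases hcen with h3 | h3
    · exact (inv_mul_eq_one.1 h3).symm
    · exfalso
      have h4 : t * d * t⁻¹ = d * z := inv_mul_eq_iff_eq_mul.1 h3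
      have h5 := cube_conj h.d3 t
      rw [h4] at h5
      have h6 : (d * z) * (d * z) * (d * z) = z := by
        calc (d * z) * (d * z) * (d * z) = d * (z * d) * (z * d) * z := by group
          _ = d * (d * z) * (d * z) * z := by rw [← hz d]
          _ = d * d * (z * d) * (z * z) := by group
          _ = d * d * (d * z) * (z * z) := by rw [← hz d]
          _ = (d * d * d) * z * (z * z) := by group
          _ = z := by rw [h.d3, h.q.z2, one_mul, mul_one]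
      rw [h6] at h5
      exact h.q.z1 h5
  have hdC : d ∈ centralizer ({t} : Set X) := by
    rw [mem_centralizer_singleton_iff]
    exact (mul_inv_eq_iff_eq_mul.1 htd).symm
  have hiC : i ∈ centralizer ({t} : Set X) := mem_centralizer_singleton_iff.2 ti.symm
  have cA : ∀ x ∈ M, (y⁻¹ * d⁻¹ * y) * x = x * (y⁻¹ * d⁻¹ * y) := by
    intro x hx
    have e1 : y⁻¹ * d⁻¹ * y ∈ cj y⁻¹ M := by
      have := conj_mem_cj (g := y⁻¹) (inv_mem h.hd)
      simpa using this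
    exact (c1 x hx _ e1).symm
  have hk2 : (i * j⁻¹) * (i * j⁻¹) = z := by
    rw [h.q.j_inv]
    simp only [mul_assoc, one_mul, mul_one, h.q.z2, h.q.zz, h.q.iz, h.q.jz, h.q.izx, h.q.jzx, h.q.i2, h.q.j2,
      h.q.iix, h.q.jjx, h.q.ji, h.q.jix]
  -- now `I' = i`, `J' = j`; the square of `i j⁻¹` is `z`, so we argue directly
  set A := y⁻¹ * d⁻¹ * y with hA
  have hA3 : A * A * A = 1 := by
    have := cube_conj (cube_inv h.d3) y⁻¹
    rw [inv_inv] at this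
    exact this
  have hv3 : (A * d) * (A * d) * (A * d) = 1 := cube_mul (cA d h.hd) hA3 h.d3
  have hvN : A * d ∈ N := by
    have h3 : A * d = y⁻¹ * (d⁻¹ * y * d) := by rw [hA]; group
    rw [h3]
    refine mul_mem (inv_mem hyN) ?_
    have := (mem_normalizer_iff.1 (hND (inv_mem hdC)) y).1 hyN
    simpa using this
  obtain ⟨k, hk⟩ := h2 _ hvN
  have hv : A * d ∈ N₀ := mem_of_pow hv3 hk
  have hw : i * j⁻¹ ∈ N₀ := by
    have h4 : (A * d) * i * (A * d)⁻¹ = j := by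
      calc (A * d) * i * (A * d)⁻¹ = A * (d * i * d⁻¹) * A⁻¹ := by group
        _ = A * j * A⁻¹ := by rw [h.di]
        _ = j := by rw [cA j h.hj]; group
    have h3 : i * j⁻¹ = (i * (A * d) * i⁻¹) * (A * d)⁻¹ := by
      calc i * j⁻¹ = i * ((A * d) * i * (A * d)⁻¹)⁻¹ := by rw [h4]
        _ = (i * (A * d) * i⁻¹) * (A * d)⁻¹ := by group
    rw [h3]
    exact mul_mem ((mem_normalizer_iff.1 (hN₀D hiC) _).1 hv) (inv_mem hv)
  have hzN : z ∈ N₀ := by rw [← hk2]; exact mul_mem hw hw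
  exact h.q.z1 (eq_one_of_sq hN₀ hzN h.q.z2)

end Cfsg.Agent.Cit.SLThree
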