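import Cfsg.Agent.Cit.SLThreeMem

/-!
# Members `SL(2,3)` and Sylow 2-subgroups; the group `O_{2',2}(C(s))`; the first step in `G`
-/

set_option autoImplicit false
set_option linter.unusedSimpArgs false
set_option linter.style.haveILetI false

namespace Cfsg.Agent.Cit.SLThree

open Subgroup Cfsg

variable {G : Type*} [Group G]

namespace SlG

variable [Finite G] {M : Subgroup G} {s i j d : G}

theorem syl (h : SlG M s i j d) : Syl (closure {i, j}) M := by
  haveI : Fact (Nat.Prime 2) := ⟨Nat.prime_two⟩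
  refine ⟨h.Qle, h.q.isPGroup, ?_⟩
  have h1 : IsPGroup 2 ((closure ({i, j} : Set G)).subgroupOf M) := h.q.isPGroup.comap_subtype
  obtain ⟨P, hP⟩ := h1.exists_le_sylow
  have h2 : (P : Subgroup M) = (closure ({i, j} : Set G)).subgroupOf M := by
    refine le_antisymm ?_ hP
    intro x hx
    have hPG : IsPGroup 2 ((P : Subgroup M).map M.subtype) := P.isPGroup'.map _
    -- the image of `P` in the quotient
    let PC : Subgroup (centralizer ({s} : Set G)) := ((P : Subgroup M).map M.subtype).subgroupOf (centralizer {s})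
    have hPC : IsPGroup 2 (PC.map (pr s)) := (hPG.comap_subtype).map _
    have hle : closure {pr s ⟨i, h.le h.hi⟩, pr s ⟨j, h.le h.hj⟩} ≤ PC.map (pr s) := by
      rw [closure_le]
      rintro w (rfl | rfl)
      · exact ⟨_, ⟨⟨i, h.hi⟩, hP (Qt.mem_i s i j), rfl⟩, rfl⟩
      · exact ⟨_, ⟨⟨j, h.hj⟩, hP (Qt.mem_j s i j), rfl⟩, rfl⟩
    have hxC : (x : G) ∈ centralizer ({s} : Set G) := h.le x.2
    have h3 := h.sl.mem_Q (x := pr s ⟨x, hxC⟩) ⟨⟨x, hxC⟩, x.2, rfl⟩ hPC hle ⟨⟨x, hxC⟩, ⟨x, hx, rfl⟩, rfl⟩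
    have h4 : closure {pr s ⟨i, h.le h.hi⟩, pr s ⟨j, h.le h.hj⟩} =
        ((closure ({i, j} : Set G)).subgroupOf (centralizer {s})).map (pr s) := by
      rw [closure_pair_subgroupOf (h.le h.hi) (h.le h.hj), MonoidHom.map_closure, Set.image_pair]
    rw [h4] at h3
    obtain ⟨y, hy, hyx⟩ := h3
    have h5 : (x : G) * (y : G)⁻¹ ∈ O s := by
      have : pr s (⟨x, hxC⟩ * y⁻¹) = 1 := by rw [map_mul, map_inv, hyx, mul_inv_cancel]
      exact pr_eq_one.1 this
    have hyP : (y : G) ∈ (P : Subgroup M).map M.subtype := ⟨⟨y, h.Qle hy⟩, hP hy, rfl⟩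
    have h6 := eq_one_of_mem_O h5 hPG (mul_mem ⟨x, hx, rfl⟩ (inv_mem hyP))
    have h7 : (x : G) = y := mul_inv_eq_one.1 h6
    show (x : G) ∈ closure {i, j}
    rw [h7]; exact hy
  rw [relIndex, ← h2]
  exact P.not_dvd_index

theorem syl_inf (h : SlG M s i j d) {T : Subgroup G} (hT : Syl T (centralizer {s})) : Syl (M ⊓ T) M := by
  refine ⟨inf_le_left, hT.2.1.to_le inf_le_right, ?_⟩
  rw [inf_relIndex_left]
  intro h2
  apply hT.2.2
  have h3 := SignalizersComponents.PCompCore.relIndex_dvd_index_of_subnormal (T.subgroupOf (centralizer {s})) h.sub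
  rw [relIndex_subgroupOf h.le] at h3
  exact h2.trans h3

/-- coordinates inside a Sylow 2-subgroup of the centraliser -/
theorem exists_syl (h : SlG M s i j d) {T : Subgroup G} (hT : Syl T (centralizer {s})) :
    ∃ i' j' d', SlG M s i' j' d' ∧ M ⊓ T = closure {i', j'} := by
  obtain ⟨k, hk, hk2⟩ := h.syl.exists_conj (h.syl_inf hT)
  have h1 := h.of_cj k
  have h2 : cj k M = M := mem_normalizer_iff_cj.1 (le_normalizer hk)
  have h3 : k * s * k⁻¹ = s := by
    have := mem_centralizer_singleton_iff.1 (h.le hk)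
    rw [this, mul_assoc, mul_inv_cancel, mul_one]
  rw [h2, h3] at h1
  refine ⟨_, _, _, h1, ?_⟩
  rw [← hk2, cj_def, MonoidHom.map_closure, Set.image_pair]
  rfl

end SlG

/-! ### `O_{2',2}(C(s))` -/

/-- `O_{2',2}` of the centraliser of `s` -/
def NN (s : G) : Subgroup G :=
  ((pCore 2 ((centralizer ({s} : Set G)) ⧸ oddCore (centralizer ({s} : Set G)))).comap (pr s)).map
    (centralizer ({s} : Set G)).subtype

theorem mem_NN {s x : G} (hx : x ∈ centralizer ({s} : Set G)) :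
    x ∈ NN s ↔ pr s ⟨x, hx⟩ ∈ pCore 2 ((centralizer ({s} : Set G)) ⧸ oddCore (centralizer ({s} : Set G))) := by
  constructor
  · rintro ⟨y, hy, hyx⟩
    have : y = ⟨x, hx⟩ := Subtype.ext hyx
    rw [← this]; exact hy
  · intro h; exact ⟨⟨x, hx⟩, h, rfl⟩

theorem NN_le (s : G) : NN s ≤ centralizer {s} := map_subtype_le _

theorem O_le_NN (s : G) : O s ≤ NN s := by
  intro x hx
  rw [mem_NN (O_le s hx)]
  have : pr s ⟨x, O_le s hx⟩ = 1 := pr_eq_one.2 hx
  rw [this]; exact one_mem _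

theorem conj_mem_NN {s c x : G} (hc : c ∈ centralizer ({s} : Set G)) (hx : x ∈ NN s) : c * x * c⁻¹ ∈ NN s := by
  have hxC := NN_le s hx
  have h1 : c * x * c⁻¹ ∈ centralizer ({s} : Set G) := mul_mem (mul_mem hc hxC) (inv_mem hc)
  rw [mem_NN h1]
  have h2 : (⟨c * x * c⁻¹, h1⟩ : centralizer ({s} : Set G)) = ⟨c, hc⟩ * ⟨x, hxC⟩ * ⟨c, hc⟩⁻¹ := rfl
  rw [h2, map_mul, map_mul, map_inv]
  exact (Lib.Cores.pCore_normal 2).conj_mem _ ((mem_NN hxC).1 hx) _

theorem NN_pow {s x : G} (hx : x ∈ NN s) : ∃ k : ℕ, x ^ 2 ^ k ∈ O s := by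
  have hxC := NN_le s hx
  obtain ⟨k, hk⟩ := Lib.Cores.pCore_isPGroup
    (G := (centralizer ({s} : Set G)) ⧸ oddCore (centralizer ({s} : Set G))) 2 ⟨_, (mem_NN hxC).1 hx⟩
  refine ⟨k, ?_⟩
  have h1 : pr s (⟨x, hxC⟩ ^ 2 ^ k) = 1 := by
    rw [map_pow]; exact congrArg Subtype.val hk
  exact pr_eq_one.1 h1

theorem SlG.Q_le_NN [Finite G] {M : Subgroup G} {s i j d : G} (h : SlG M s i j d) : closure {i, j} ≤ NN s := by
  have h1 := h.sl.Q_le_pCore h.sub_map
  rw [closure_le]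
  rintro w (rfl | rfl)
  · exact (mem_NN (h.le h.hi)).2 (h1 (Qt.mem_i (pr s ⟨s, h.le h.hs⟩) _ _))
  · exact (mem_NN (h.le h.hj)).2 (h1 (Qt.mem_j (pr s ⟨s, h.le h.hs⟩) _ _))

/-! ### Step one in `G` -/

section Step

variable [Finite G] {s s' : G}

/-- the members at `s`, in the quotient -/
def OmQ (s : G) : Set (Subgroup ((centralizer ({s} : Set G)) ⧸ oddCore (centralizer ({s} : Set G)))) :=
  {A | ∃ M i j d, SlG M s i j d ∧ A = (M.subgroupOf (centralizer {s})).map (pr s)}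

theorem cj_map_pr {M : Subgroup G} (c : centralizer ({s} : Set G)) :
    cj (pr s c) ((M.subgroupOf (centralizer {s})).map (pr s)) =
      ((cj (c : G) M).subgroupOf (centralizer {s})).map (pr s) := by
  rw [cj_subgroupOf, cj_map]

/-- the data for `step_one` -/
theorem step_data (hs' : s' * s' = 1) (hC : s' ∈ centralizer ({s} : Set G)) :
    ∃ N N₀ : Subgroup ((centralizer ({s} : Set G)) ⧸ oddCore (centralizer ({s} : Set G))),
      (∀ y (hy : y ∈ centralizer ({s} : Set G)), y ∈ NN s' → pr s ⟨y, hy⟩ ∈ N) ∧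
      centralizer {pr s ⟨s', hC⟩} ≤ normalizer (N : Set _) ∧ centralizer {pr s ⟨s', hC⟩} ≤ normalizer (N₀ : Set _) ∧
      ¬ 2 ∣ Nat.card N₀ ∧ ∀ n ∈ N, ∃ k : ℕ, n ^ 2 ^ k ∈ N₀ := by
  refine ⟨((NN s').subgroupOf (centralizer {s})).map (pr s), ((O s').subgroupOf (centralizer {s})).map (pr s),
    ?_, ?_, ?_, ?_, ?_⟩
  · intro y hy hyN
    exact ⟨⟨y, hy⟩, hyN, rfl⟩
  · have h1 := centralizer_map (f := pr s) (pr_surj s) (odd_ker s) (z := ⟨s', hC⟩) (Subtype.ext hs')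
    rw [← h1]
    rintro _ ⟨c, hc, rfl⟩
    have hcs : (c : G) ∈ centralizer ({s'} : Set G) := by
      have := mem_centralizer_singleton_iff.1 hc
      exact mem_centralizer_singleton_iff.2 (congrArg Subtype.val this)
    rw [mem_normalizer_iff_cj, cj_map_pr]
    congr 2
    rw [← mem_normalizer_iff_cj, mem_normalizer_iff]
    intro x
    constructor
    · exact fun hx => conj_mem_NN hcs hx
    · intro hx
      have := conj_mem_NN (inv_mem hcs) hx
      have e : (c : G)⁻¹ * ((c : G) * x * (c : G)⁻¹) * (c : G)⁻¹⁻¹ = x := by group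
      rwa [e] at this
  · have h1 := centralizer_map (f := pr s) (pr_surj s) (odd_ker s) (z := ⟨s', hC⟩) (Subtype.ext hs')
    rw [← h1]
    rintro _ ⟨c, hc, rfl⟩
    have hcs : (c : G) ∈ centralizer ({s'} : Set G) := by
      have := mem_centralizer_singleton_iff.1 hc
      exact mem_centralizer_singleton_iff.2 (congrArg Subtype.val this)
    rw [mem_normalizer_iff_cj, cj_map_pr]
    congr 2
    rw [← mem_normalizer_iff_cj]
    exact cent_le s' hcs
  · intro h2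
    apply odd_O s'
    refine (h2.trans (Subgroup.card_map_dvd _ _)).trans ?_
    have h3 := Subgroup.card_comap_dvd_of_injective (O s') (centralizer ({s} : Set G)).subtype
      (centralizer ({s} : Set G)).subtype_injective
    exact h3
  · rintro _ ⟨x, hx, rfl⟩
    obtain ⟨k, hk⟩ := NN_pow (s := s') (x := (x : G)) hx
    exact ⟨k, by rw [← map_pow]; exact ⟨x ^ 2 ^ k, hk, rfl⟩⟩

theorem OmQ_sl : ∀ A ∈ OmQ s, ∀ hs : s ∈ centralizer ({s} : Set G), IsSl A (pr s ⟨s, hs⟩) := by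
  rintro _ ⟨M, i, j, d, h, rfl⟩ hs
  exact ⟨_, _, _, h.sl⟩

theorem OmQ_conj : ∀ A ∈ OmQ s, ∀ g, cj g A ∈ OmQ s := by
  rintro _ ⟨M, i, j, d, h, rfl⟩ g
  obtain ⟨c, rfl⟩ := pr_surj s g
  have h3 : (c : G) * s * (c : G)⁻¹ = s := by
    have := mem_centralizer_singleton_iff.1 c.2
    rw [this, mul_assoc, mul_inv_cancel, mul_one]
  have h1 := h.of_cj (c : G)
  rw [h3] at h1
  exact ⟨_, _, _, _, h1, cj_map_pr c⟩

theorem OmQ_comm : ∀ A ∈ OmQ s, ∀ B ∈ OmQ s, A = B ∨ Cm A B := by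
  rintro _ ⟨M, i, j, d, h, rfl⟩ _ ⟨M₂, i₂, j₂, d₂, h₂, rfl⟩
  exact eq_or_cm (oddCore_quot s) (pr_s_central s h.hsC) ⟨_, _, _, h.sl⟩ ⟨_, _, _, h₂.sl⟩ h.sub_map h₂.sub_map

/-- **Step one**: the involution `s' = y²`, with `y ∈ O_{2',2}(C(s'))` commuting with `s`, normalises every member
at `s` -/
theorem SlG.cj_sq {M : Subgroup G} {i j d y : G} (h : SlG M s i j d) (hy : y * y = s') (hs' : s' * s' = 1)
    (hyN : y ∈ NN s') (hys : y ∈ centralizer ({s} : Set G)) : cj s' M = M := by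
  have hC : s' ∈ centralizer ({s} : Set G) := by rw [← hy]; exact mul_mem hys hys
  obtain ⟨N, N₀, h1, h2, h3, h4, h5⟩ := step_data hs' hC
  have h6 := step_one (z := pr s ⟨s, h.hsC⟩) (pr_s_central s h.hsC) (fun A hA => OmQ_sl A hA h.hsC) OmQ_conj OmQ_comm
    (y := pr s ⟨y, hys⟩) (t := pr s ⟨s', hC⟩) (by rw [← map_mul]; congr 1; exact Subtype.ext hy)
    (by
      rw [← map_mul]
      have : (⟨s', hC⟩ * ⟨s', hC⟩ : centralizer ({s} : Set G)) = 1 := Subtype.ext hs'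
      rw [this, map_one]) (h1 y hys hyN) h2 h3 h4 h5 ⟨M, i, j, d, h, rfl⟩
  rw [cj_map_pr] at h6
  have h7 : (s' : G) * s * s'⁻¹ = s := by
    have := mem_centralizer_singleton_iff.1 hC
    rw [this, mul_assoc, mul_inv_cancel, mul_one]
  have h8 := h.of_cj s'
  rw [h7] at h8
  exact eq_of_map_eq h8.le h.le h8.hO h.hO h6

/-- **Step two**: if moreover `s'` centralises `⟨i, j⟩` then `y` normalises `M` -/
theorem SlG.cj_of_comm {M : Subgroup G} {i j d y : G} (h : SlG M s i j d) (hy : y * y = s') (hs' : s' * s' = 1)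
    (hyN : y ∈ NN s') (hys : y ∈ centralizer ({s} : Set G)) (hi : s' * i = i * s') (hj : s' * j = j * s') :
    cj y M = M := by
  have hC : s' ∈ centralizer ({s} : Set G) := by rw [← hy]; exact mul_mem hys hys
  have h0 := h.cj_sq hy hs' hyN hys
  obtain ⟨N, N₀, h1, h2, h3, h4, h5⟩ := step_data hs' hC
  have h6 := step_two (z := pr s ⟨s, h.hsC⟩) (pr_s_central s h.hsC) OmQ_conj OmQ_comm
    (y := pr s ⟨y, hys⟩) (t := pr s ⟨s', hC⟩) (by rw [← map_mul]; congr 1; exact Subtype.ext hy)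
    (h1 y hys hyN) h2 h3 h4 h5 ⟨M, i, j, d, h, rfl⟩ (by rw [cj_map_pr]; congr 2) h.sl
    (by rw [← map_mul, ← map_mul]; congr 1; exact Subtype.ext hi)
    (by rw [← map_mul, ← map_mul]; congr 1; exact Subtype.ext hj)
  rw [cj_map_pr] at h6
  have h7 : y * s * y⁻¹ = s := by
    have := mem_centralizer_singleton_iff.1 hys
    rw [this, mul_assoc, mul_inv_cancel, mul_one]
  have h8 := h.of_cj y
  rw [h7] at h8
  exact eq_of_map_eq h8.le h.le h8.hO h.hO h6

end Step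

end Cfsg.Agent.Cit.SLThree
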