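import Cfsg.Agent.Cit.LongSp
import Cfsg.Agent.S0765

/-!
# `Sp₄(F)` in blocks over `V₁ ⊥ V₂`

`spRep F` (`Cit/LongSp.lean`) : the blocks `E1 = SL(V₁)`, `E2 = SL(V₂)`.

* `sp_of`, `exists_of_sp`, `blocks_iff` : the symplectic condition in blocks.
* `tv` : transvections, `tv_conj`.
* `eq_top_of_mixed` : a subgroup containing `E1`, `E2` and an element `m` such that `m u`, `u ∈ V₁`, is neither in
  `V₁` nor in `V₂` is `Sp₄(F)`.
* `exists_conj` (A) : `w = [[0,1],[-1,0]]` and `diag(jj, jj)` are conjugate.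
* `exists_diag_of_p` (B) : the `p`-elements of the centraliser of `w` are `diag(k, k)`.
* `aut_sq` (C) : an automorphism of `PSp₄(F)` which is trivial on the images of `E1` and `E2` has square 1.
-/

set_option autoImplicit false

namespace Cfsg.Agent.Cit.Sp4M

open Subgroup Cfsg Matrix Cfsg.Agent.Cit.LongBlock Cfsg.Agent.Cit.LongSp Cfsg.Agent.Cit.LongQuot

variable {F : Type*} [Field F]

/-- `Sp₄(F)` -/
abbrev Sp (F : Type*) [Field F] := symplecticGroup (Fin 2) F

/-- 4 × 4 matrices in blocks -/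
abbrev MM (F : Type*) := Matrix (Fin 2 ⊕ Fin 2) (Fin 2 ⊕ Fin 2) F

/-- the form -/
def JJ (F : Type*) [Field F] : MM F := fromBlocks (jj F) 0 0 (jj F)

theorem sp_of (g : Sp F) : (spRep F).ρ g * JJ F * ((spRep F).ρ g)ᵀ = JJ F := by
  refine (sp_iff _).1 ?_
  rw [spRep_ρ, e4_e4]
  exact g.2

theorem exists_of_sp {M : MM F} (h : M * JJ F * Mᵀ = JJ F) : ∃ g : Sp F, (spRep F).ρ g = M :=
  ⟨⟨M.submatrix e4 e4, (sp_iff M).2 h⟩, by rw [spRep_ρ, e4_e4]⟩

theorem sp_of' (g : Sp F) : ((spRep F).ρ g)ᵀ * JJ F * (spRep F).ρ g = JJ F := by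
  have h1 : ((spRep F).ρ g)ᵀ.submatrix e4 e4 ∈ symplecticGroup (Fin 2) F := by
    have h2 : ((spRep F).ρ g)ᵀ.submatrix e4 e4 = (g.1)ᵀ := by
      rw [spRep_ρ, transpose_submatrix, e4_e4]
    rw [h2]
    exact SymplecticGroup.transpose_mem g.2
  have h3 := (sp_iff _).1 h1
  rwa [transpose_transpose] at h3

theorem jj_apply : jj F = !![0, -1; 1, 0] := rfl

/-- the symplectic condition in blocks -/
theorem blocks_iff (A B C E : Matrix (Fin 2) (Fin 2) F) :
    fromBlocks A B C E * JJ F * (fromBlocks A B C E)ᵀ = JJ F ↔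
      A.det + B.det = 1 ∧ C.det + E.det = 1 ∧ A * jj F * Cᵀ + B * jj F * Eᵀ = 0 := by
  rw [JJ, fromBlocks_transpose, fromBlocks_multiply, fromBlocks_multiply, fromBlocks_inj]
  simp only [Matrix.mul_zero, add_zero, zero_add, mul_jj, ← add_smul]
  have key : ∀ c : F, c • jj F = jj F ↔ c = 1 := by
    intro c
    constructor
    · intro h
      have := congrFun (congrFun h 1) 0
      simpa [jj] using this
    · rintro rfl; rw [one_smul]
  rw [key, key]
  have ht : (jj F)ᵀ = -jj F := by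
    ext i j
    fin_cases i <;> fin_cases j <;> simp [jj]
  constructor
  · rintro ⟨h1, h2, -, h4⟩
    exact ⟨h1, h4, h2⟩
  · rintro ⟨h1, h2, h3⟩
    refine ⟨h1, h3, ?_, h2⟩
    have h4 := congrArg transpose h3
    simp only [transpose_add, transpose_mul, transpose_transpose, ht, transpose_zero] at h4
    have h5 : C * jj F * Aᵀ + E * jj F * Bᵀ = -(C * (-jj F * Aᵀ) + E * (-jj F * Bᵀ)) := by
      simp only [Matrix.neg_mul, Matrix.mul_neg, Matrix.mul_assoc, neg_add_rev, neg_neg]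
      exact add_comm _ _
    rw [h5, h4, neg_zero]

/-! ### Transvections -/

/-- the transvection with centre `w` -/
def tv (w : Fin 2 ⊕ Fin 2 → F) (c : F) : MM F := 1 + c • vecMulVec w (JJ F *ᵥ w)

theorem tv_conj (g : Sp F) (w : Fin 2 ⊕ Fin 2 → F) (c : F) :
    (spRep F).ρ g * tv w c * (spRep F).ρ g⁻¹ = tv ((spRep F).ρ g *ᵥ w) c := by
  have h1 : (spRep F).ρ g * (spRep F).ρ g⁻¹ = 1 := (spRep F).ρ_mul_inv g
  have h2 : (JJ F *ᵥ w) ᵥ* (spRep F).ρ g⁻¹ = JJ F *ᵥ ((spRep F).ρ g *ᵥ w) := by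
    have h3 : ((spRep F).ρ g⁻¹)ᵀ * JJ F = JJ F * (spRep F).ρ g := by
      have h4 := sp_of' g⁻¹
      calc ((spRep F).ρ g⁻¹)ᵀ * JJ F
          = ((spRep F).ρ g⁻¹)ᵀ * JJ F * ((spRep F).ρ g⁻¹ * (spRep F).ρ g) := by
            rw [(spRep F).ρ_inv_mul g, Matrix.mul_one]
        _ = (((spRep F).ρ g⁻¹)ᵀ * JJ F * (spRep F).ρ g⁻¹) * (spRep F).ρ g := by
            simp only [Matrix.mul_assoc]
        _ = _ := by rw [h4]
    rw [← mulVec_transpose, mulVec_mulVec, h3, mulVec_mulVec]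
  rw [tv, tv, Matrix.mul_add, Matrix.add_mul, Matrix.mul_one, h1, Matrix.mul_smul, Matrix.smul_mul,
    mul_vecMulVec, vecMulVec_mul, h2]

theorem vecMulVec_elim (x y x' y' : Fin 2 → F) : vecMulVec (Sum.elim x y) (Sum.elim x' y') =
    fromBlocks (vecMulVec x x') (vecMulVec x y') (vecMulVec y x') (vecMulVec y y') := by
  ext i j
  rcases i with i | i <;> rcases j with j | j <;> rfl

theorem JJ_mulVec (x y : Fin 2 → F) : JJ F *ᵥ (Sum.elim x y) = Sum.elim (jj F *ᵥ x) (jj F *ᵥ y) := by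
  rw [JJ, fromBlocks_mulVec]
  simp

theorem tv_left (x : Fin 2 → F) (c : F) : tv (Sum.elim x 0) c =
    fromBlocks (1 + c • vecMulVec x (jj F *ᵥ x)) 0 0 1 := by
  rw [tv, JJ_mulVec, vecMulVec_elim, ← fromBlocks_one, fromBlocks_smul, fromBlocks_add]
  simp

theorem tv_right (y : Fin 2 → F) (c : F) : tv (Sum.elim 0 y) c =
    fromBlocks 1 0 0 (1 + c • vecMulVec y (jj F *ᵥ y)) := by
  rw [tv, JJ_mulVec, vecMulVec_elim, ← fromBlocks_one, fromBlocks_smul, fromBlocks_add]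
  simp

theorem det_tv (x : Fin 2 → F) (c : F) : (1 + c • vecMulVec x (jj F *ᵥ x)).det = 1 := by
  rw [det_fin_two]
  simp [jj, dotProduct, Fin.sum_univ_two]
  ring

/-- `SL₂(F)` is transitive on the non-zero vectors -/
theorem exists_sl {x y : Fin 2 → F} (hx : x ≠ 0) (hy : y ≠ 0) :
    ∃ P : Matrix (Fin 2) (Fin 2) F, P.det = 1 ∧ P *ᵥ x = y := by
  have key : ∀ {x : Fin 2 → F}, x ≠ 0 → ∃ P : Matrix (Fin 2) (Fin 2) F, P.det = 1 ∧ P *ᵥ ![1, 0] = x := by
    intro x hx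
    by_cases h0 : x 0 = 0
    · have h1 : x 1 ≠ 0 := by
        intro h1
        apply hx
        funext i
        fin_cases i <;> simp [h0, h1]
      refine ⟨!![0, -(x 1)⁻¹; x 1, 0], ?_, ?_⟩
      · rw [det_fin_two_of]
        field_simp
        ring
      · funext i
        fin_cases i <;> simp [mulVec, dotProduct, Fin.sum_univ_two, h0]
    · refine ⟨!![x 0, 0; x 1, (x 0)⁻¹], ?_, ?_⟩
      · rw [det_fin_two_of]
        field_simp
        ring
      · funext i
        fin_cases i <;> simp [mulVec, dotProduct, Fin.sum_univ_two]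
  obtain ⟨P, hP, hPx⟩ := key hx
  obtain ⟨R, hR, hRy⟩ := key hy
  refine ⟨R * P.adjugate, ?_, ?_⟩
  · rw [det_mul, hR, det_adjugate, hP]; simp
  · rw [← hPx, mulVec_mulVec, Matrix.mul_assoc, adjugate_mul, hP, one_smul, Matrix.mul_one, hRy]

/-- block elements -/
theorem exists_E1 {P : Matrix (Fin 2) (Fin 2) F} (hP : P.det = 1) :
    ∃ g ∈ (spRep F).E1, (spRep F).ρ g = fromBlocks P 0 0 1 := by
  obtain ⟨g, hg⟩ := exists_of_sp (M := fromBlocks P 0 0 1) ((blocks_iff _ _ _ _).2 ⟨by simp [hP], by simp, by simp⟩)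
  exact ⟨g, ⟨P, hg⟩, hg⟩

theorem exists_E2 {S : Matrix (Fin 2) (Fin 2) F} (hS : S.det = 1) :
    ∃ g ∈ (spRep F).E2, (spRep F).ρ g = fromBlocks 1 0 0 S := by
  obtain ⟨g, hg⟩ := exists_of_sp (M := fromBlocks 1 0 0 S) ((blocks_iff _ _ _ _).2 ⟨by simp, by simp [hS], by simp⟩)
  exact ⟨g, ⟨S, hg⟩, hg⟩

/-- **generation** -/
theorem eq_top_of_mixed {M : Subgroup (Sp F)} (h1 : (spRep F).E1 ≤ M) (h2 : (spRep F).E2 ≤ M) {m : Sp F}
    (hm : m ∈ M) {u a b : Fin 2 → F} (hu : (spRep F).ρ m *ᵥ Sum.elim u 0 = Sum.elim a b) (ha : a ≠ 0)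
    (hb : b ≠ 0) : M = ⊤ := by
  rw [eq_top_iff, ← S0765.result 2, closure_le]
  rintro A ⟨w, c, hA⟩
  have hρ : (spRep F).ρ A = tv (w ∘ e4) c := by
    rw [spRep_ρ, hA, tv, sympTransvection, JJ, ← J_eq]
    ext i j
    have h3 : ((J (Fin 2) F).submatrix e4 e4 *ᵥ (w ∘ e4)) j = (J (Fin 2) F *ᵥ w) (e4 j) := by
      rw [submatrix_mulVec_equiv]
      simp [Function.comp_def]
    simp only [submatrix_apply, Matrix.add_apply, Matrix.smul_apply, vecMulVec_apply, Function.comp_apply, h3,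
      Matrix.one_apply, EmbeddingLike.apply_eq_iff_eq]
  have hw : ∃ x y : Fin 2 → F, w ∘ e4 = Sum.elim x y :=
    ⟨(w ∘ e4) ∘ Sum.inl, (w ∘ e4) ∘ Sum.inr, by funext i; rcases i with i | i <;> rfl⟩
  obtain ⟨x, y, hxy⟩ := hw
  rw [hxy] at hρ
  by_cases hy : y = 0
  · subst hy
    exact h1 ⟨_, hρ.trans (tv_left _ _)⟩
  by_cases hx : x = 0
  · subst hx
    exact h2 ⟨_, hρ.trans (tv_right _ _)⟩
  obtain ⟨P, hP, hPx⟩ := exists_sl ha hx
  obtain ⟨S, hS, hSy⟩ := exists_sl hb hy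
  obtain ⟨k, hk, hkρ⟩ := exists_E1 hP
  obtain ⟨l, hl, hlρ⟩ := exists_E2 hS
  obtain ⟨T, hT, hTρ⟩ := exists_E1 (det_tv u c)
  have e1 : (spRep F).ρ (k * l * m) *ᵥ Sum.elim u 0 = Sum.elim x y := by
    rw [map_mul, map_mul, ← mulVec_mulVec, ← mulVec_mulVec, hu, hkρ, hlρ, fromBlocks_mulVec, fromBlocks_mulVec]
    simp [hPx, hSy]
  have e2 : A = (k * l * m) * T * (k * l * m)⁻¹ := by
    apply (spRep F).inj
    rw [hρ, map_mul, map_mul, hTρ, ← tv_left, tv_conj, e1]
  rw [e2]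
  have h3 : k * l * m ∈ M := mul_mem (mul_mem (h1 hk) (h2 hl)) hm
  exact mul_mem (mul_mem h3 (h1 hT)) (inv_mem h3)

/-! ### Automorphisms trivial on the blocks -/

section Aut

/-- the nilpotent matrix -/
def NN (F : Type*) [Field F] : Matrix (Fin 2) (Fin 2) F := !![0, 1; 0, 0]

/-- the short root elements -/
def sm (c : F) : MM F := fromBlocks 1 (c • NN F) (c • NN F) 1

/-- the short root elements of the second kind -/
def sm' (c : F) : MM F := fromBlocks 1 (c • !![1, 0; 0, 0]) (c • !![0, 0; 0, -1]) 1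

theorem NN_mul : NN F * NN F = 0 := by
  ext i j
  fin_cases i <;> fin_cases j <;> simp [NN]

theorem sm_add (c d : F) : sm (c + d) = sm c * sm d := by
  rw [sm, sm, sm, fromBlocks_multiply, fromBlocks_inj]
  simp only [Matrix.smul_mul, Matrix.mul_smul, NN_mul, smul_zero, add_zero, zero_add, Matrix.one_mul,
    Matrix.mul_one, add_smul]
  refine ⟨trivial, ?_, ?_, trivial⟩
  · exact add_comm _ _
  · trivial

theorem sm_inj {c d : F} (h : sm c = sm d) : c = d := by
  have h1 := congrFun (congrFun h (Sum.inl 0)) (Sum.inr 1)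
  simpa [sm, NN] using h1

omit [Field F] in
theorem tr2 (a b c d : F) : (!![a, b; c, d] : Matrix (Fin 2) (Fin 2) F)ᵀ = !![a, c; b, d] := by
  ext i j
  fin_cases i <;> fin_cases j <;> rfl

theorem smul2 (x a b c d : F) : x • (!![a, b; c, d] : Matrix (Fin 2) (Fin 2) F) =
    !![x * a, x * b; x * c, x * d] := by
  ext i j
  fin_cases i <;> fin_cases j <;> rfl

theorem sm_sp (c : F) : sm c * JJ F * (sm c)ᵀ = JJ F := by
  rw [sm, blocks_iff]
  refine ⟨?_, ?_, ?_⟩
  · rw [det_fin_two, det_fin_two]; simp [NN]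
  · rw [det_fin_two, det_fin_two]; simp [NN]
  · rw [NN, jj, smul2, tr2, transpose_one]
    ext i j
    fin_cases i <;> fin_cases j <;> simp

theorem exists_sm (c : F) : ∃ g : Sp F, (spRep F).ρ g = sm c := exists_of_sp (sm_sp c)

/-- the short root elements in `Sp₄(F)` -/
noncomputable def sg (c : F) : Sp F := (exists_sm c).choose

theorem sg_ρ (c : F) : (spRep F).ρ (sg c) = sm c := (exists_sm c).choose_spec

theorem sg_add (c d : F) : sg (c + d) = sg c * sg d := by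
  apply (spRep F).inj
  rw [map_mul, sg_ρ, sg_ρ, sg_ρ, sm_add]

theorem sg_inj {c d : F} (h : sg c = sg d) : c = d := by
  apply sm_inj
  rw [← sg_ρ, ← sg_ρ, h]

theorem one2 : (1 : Matrix (Fin 2) (Fin 2) F) = !![1, 0; 0, 1] := one_fin_two

/-- the elements commuting with the long root elements in both blocks and inverted by `t` -/
theorem form_sq (h2 : (2 : F) ≠ 0) {X : MM F} {ε : F} (hX : X * JJ F * Xᵀ = JJ F)
    (c1 : fromBlocks (1 + NN F) 0 0 1 * X = X * fromBlocks (1 + NN F) 0 0 1)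
    (c2 : fromBlocks 1 0 0 (1 + NN F) * X = X * fromBlocks 1 0 0 (1 + NN F))
    (c3 : fromBlocks (-1) 0 0 1 * X * fromBlocks (-1) 0 0 1 * X = ε • 1) : ∃ b : F, X * X = sm b := by
  obtain ⟨A, B, C, E, rfl⟩ : ∃ A B C E, X = fromBlocks A B C E :=
    ⟨_, _, _, _, (fromBlocks_toBlocks X).symm⟩
  rw [blocks_iff] at hX
  obtain ⟨d1, d2, d3⟩ := hX
  rw [fromBlocks_multiply, fromBlocks_multiply, fromBlocks_inj] at c1 c2
  rw [fromBlocks_multiply, fromBlocks_multiply, fromBlocks_multiply, ← fromBlocks_one, fromBlocks_smul,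
    fromBlocks_inj] at c3
  simp only [Matrix.zero_mul, Matrix.mul_zero, add_zero, zero_add, Matrix.one_mul, Matrix.mul_one,
    Matrix.add_mul, Matrix.mul_add, Matrix.neg_mul, Matrix.mul_neg, neg_neg, add_right_inj] at c1 c2 c3
  obtain ⟨c11, c12, c13, -⟩ := c1
  obtain ⟨-, c22, c23, c24⟩ := c2
  obtain ⟨c31, -, -, c34⟩ := c3
  rw [eta_fin_two A, eta_fin_two B, eta_fin_two C, eta_fin_two E] at *
  generalize A 0 0 = a0 at *
  generalize A 0 1 = a1 at *
  generalize A 1 0 = a2 at *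
  generalize A 1 1 = a3 at *
  generalize B 0 0 = b0 at *
  generalize B 0 1 = b1 at *
  generalize B 1 0 = b2 at *
  generalize B 1 1 = b3 at *
  generalize C 0 0 = e0 at *
  generalize C 0 1 = e1 at *
  generalize C 1 0 = e2 at *
  generalize C 1 1 = e3 at *
  generalize E 0 0 = g0 at *
  generalize E 0 1 = g1 at *
  generalize E 1 0 = g2 at *
  generalize E 1 1 = g3 at *
  simp only [NN] at c11 c12 c13 c22 c23 c24
  simp at c11 c12 c13 c22 c23 c24
  obtain ⟨⟨rfl, rfl⟩, -⟩ := c11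
  obtain ⟨rfl, rfl⟩ := c12
  obtain ⟨rfl, rfl⟩ := c13
  obtain ⟨rfl, -⟩ := c22
  obtain ⟨-, rfl⟩ := c23
  obtain ⟨⟨rfl, rfl⟩, -⟩ := c24
  rw [det_fin_two_of, det_fin_two_of] at d1 d2
  rw [jj, tr2, tr2, mul_fin_two, mul_fin_two, mul_fin_two, mul_fin_two] at d3
  have d4 := congrFun (congrFun d3 0) 0
  simp at d4
  rw [mul_fin_two, mul_fin_two, one2, smul2] at c31 c34
  have d5 := congrFun (congrFun c31 0) 1
  have d6 := congrFun (congrFun c34 0) 1
  simp at d5 d6
  simp only [mul_zero, sub_zero, zero_add, add_zero] at d1 d2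
  have h0 : a3 ≠ 0 := fun h => by rw [h] at d1; simp at d1
  have h0' : g3 ≠ 0 := fun h => by rw [h] at d2; simp at d2
  have h1 : a1 = 0 := by
    have : 2 * (a3 * a1) = 0 := by linear_combination d5
    simpa [h2, h0] using this
  have h1' : g1 = 0 := by
    have : 2 * (g3 * g1) = 0 := by linear_combination d6
    simpa [h2, h0'] using this
  subst h1 h1'
  refine ⟨(a3 + g3) * b1, ?_⟩
  have e2 : e1 = a3 * g3 * b1 := by linear_combination (-a3) * d4 - e1 * d1
  rw [fromBlocks_multiply, sm, fromBlocks_inj, NN, smul2, one2]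
  simp only [mul_fin_two]
  refine ⟨?_, ?_, ?_, ?_⟩ <;> ext i j <;> fin_cases i <;> fin_cases j <;> simp
  all_goals first
    | linear_combination d1
    | linear_combination d2
    | linear_combination (a3 + g3) * e2 + g3 * b1 * d1 + a3 * b1 * d2
    | ring

/-- the long root elements of the first block -/
def tm (c : F) : MM F := fromBlocks (1 + c • NN F) 0 0 1

theorem tm_inj {c d : F} (h : tm c = tm d) : c = d := by
  have h1 := congrFun (congrFun h (Sum.inl 0)) (Sum.inl 1)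
  simpa [tm, NN] using h1

theorem det_NN (c : F) : (1 + c • NN F).det = 1 := by
  rw [NN, smul2, one2, det_fin_two]
  simp

theorem sm_comm1 (c : F) : fromBlocks (1 + NN F) 0 0 1 * sm c = sm c * fromBlocks (1 + NN F) 0 0 1 := by
  rw [sm, fromBlocks_multiply, fromBlocks_multiply, fromBlocks_inj]
  simp [Matrix.add_mul, Matrix.mul_add, NN_mul]

theorem sm_comm2 (c : F) : fromBlocks 1 0 0 (1 + NN F) * sm c = sm c * fromBlocks 1 0 0 (1 + NN F) := by
  rw [sm, fromBlocks_multiply, fromBlocks_multiply, fromBlocks_inj]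
  simp [Matrix.add_mul, Matrix.mul_add, NN_mul]

theorem sm_inv (c : F) : fromBlocks (-1) 0 0 1 * sm c * fromBlocks (-1) 0 0 1 * sm c = 1 := by
  rw [sm, fromBlocks_multiply, fromBlocks_multiply, fromBlocks_multiply, ← fromBlocks_one, fromBlocks_inj]
  simp [NN_mul]

theorem sm_torus {l : F} (hl : l ≠ 0) (c : F) : fromBlocks !![l, 0; 0, l⁻¹] 0 0 1 * sm c =
    sm (l * c) * fromBlocks !![l, 0; 0, l⁻¹] 0 0 1 := by
  rw [sm, sm, fromBlocks_multiply, fromBlocks_multiply, fromBlocks_inj, NN, smul2, smul2, mul_fin_two, mul_fin_two]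
  refine ⟨by simp, ?_, ?_, by simp⟩
  · ext i j
    fin_cases i <;> fin_cases j <;> simp
  · ext i j
    fin_cases i <;> fin_cases j <;> simp
    field_simp

theorem sm_weyl (c : F) : fromBlocks 1 0 0 !![0, 1; -1, 0] * sm c = sm' c * fromBlocks 1 0 0 !![0, 1; -1, 0] := by
  rw [sm, sm', fromBlocks_multiply, fromBlocks_multiply, fromBlocks_inj, NN, smul2, smul2, smul2, mul_fin_two,
    mul_fin_two]
  refine ⟨by simp, ?_, ?_, by simp⟩
  · ext i j
    fin_cases i <;> fin_cases j <;> simp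
  · ext i j
    fin_cases i <;> fin_cases j <;> simp

theorem sm_sm' (c d : F) : sm c * sm' d = tm (-2 * c * d) * sm' d * sm c := by
  rw [sm, sm', tm, fromBlocks_multiply, fromBlocks_multiply, fromBlocks_multiply, fromBlocks_inj, NN, smul2, smul2,
    smul2, smul2, one2]
  simp only [mul_fin_two]
  refine ⟨?_, ?_, ?_, ?_⟩ <;> ext i j <;> fin_cases i <;> fin_cases j <;> simp
  all_goals ring

/-- the short root elements of the second kind in the group -/
theorem exists_weyl : ∃ n ∈ (spRep F).E2, (spRep F).ρ n = fromBlocks 1 0 0 !![0, 1; -1, 0] :=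
  exists_E2 (by rw [det_fin_two_of]; ring)

variable {α : (Sp F ⧸ center (Sp F)) ≃* (Sp F ⧸ center (Sp F))}

theorem trace_ne {A : MM F} (h2 : (2 : F) ≠ 0) (h0 : A (Sum.inl 0) (Sum.inl 0) = 1) (h1 : A (Sum.inl 1) (Sum.inl 1) = 1)
    (h2' : A (Sum.inr 0) (Sum.inr 0) = 1) (h3 : A (Sum.inr 1) (Sum.inr 1) = 1) : trace A ≠ 0 := by
  rw [trace, Fintype.sum_sum_type, Fin.sum_univ_two, Fin.sum_univ_two]
  simp only [diag_apply, h0, h1, h2', h3]
  intro h
  apply h2
  have h4 : (2 : F) * 2 = 0 := by linear_combination h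
  rcases mul_eq_zero.1 h4 with h | h <;> exact h

/-- elements with the same image and the same non-zero trace are equal -/
theorem eq_of_pr {x y : Sp F} (h : pr (Sp F) x = pr (Sp F) y) (ht : trace ((spRep F).ρ x) = trace ((spRep F).ρ y))
    (h0 : trace ((spRep F).ρ y) ≠ 0) : x = y := by
  have h1 : x * y⁻¹ ∈ center (Sp F) := by
    have h2 : pr (Sp F) (x * y⁻¹) = 1 := by rw [map_mul, map_inv, h, mul_inv_cancel]
    exact (QuotientGroup.eq_one_iff _).1 h2
  obtain ⟨c, hc⟩ := (spRep F).cen _ h1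
  have h3 : (spRep F).ρ x = c • (spRep F).ρ y := by
    have h4 : x = (x * y⁻¹) * y := by group
    calc (spRep F).ρ x = (spRep F).ρ (x * y⁻¹) * (spRep F).ρ y := by rw [← map_mul, ← h4]
      _ = _ := by rw [hc, smul_mul_assoc, one_mul]
  have h5 : c = 1 := by
    rw [h3, trace_smul, smul_eq_mul] at ht
    have h6 : (c - 1) * trace ((spRep F).ρ y) = 0 := by linear_combination ht
    have := (mul_eq_zero.1 h6).resolve_right h0
    linear_combination this
  apply (spRep F).inj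
  rw [h3, h5, one_smul]

theorem trace_sm (c : F) : trace (sm c) = 4 := by
  rw [trace, Fintype.sum_sum_type, Fin.sum_univ_two, Fin.sum_univ_two]
  simp [sm]
  norm_num

theorem four_ne (h2 : (2 : F) ≠ 0) : (4 : F) ≠ 0 := by
  have h4 : (4 : F) = 2 * 2 := by norm_num
  rw [h4]
  exact mul_ne_zero h2 h2

theorem pr_sg_inj (h2 : (2 : F) ≠ 0) {b c : F} (h : pr (Sp F) (sg b) = pr (Sp F) (sg c)) : b = c := by
  apply sg_inj
  refine eq_of_pr h ?_ ?_
  · rw [sg_ρ, sg_ρ, trace_sm, trace_sm]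
  · rw [sg_ρ, trace_sm]
    exact four_ne h2

/-- the image of a short root element -/
theorem exists_image (h2 : (2 : F) ≠ 0) (h1 : ∀ x ∈ LongQuot.D1 (spRep F), α x = x)
    (h1' : ∀ x ∈ LongQuot.D2 (spRep F), α x = x) (c : F) :
    ∃ b, α (pr (Sp F) (sg c)) = pr (Sp F) (sg b) := by
  obtain ⟨n1, hn1, e1⟩ := exists_E1 (det_NN (1 : F))
  obtain ⟨n2, hn2, e2⟩ := exists_E2 (det_NN (1 : F))
  have t1 : trace ((spRep F).ρ n1) ≠ 0 := by
    rw [e1]
    apply trace_ne h2 <;> simp [NN]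
  have t2 : trace ((spRep F).ρ n2) ≠ 0 := by
    rw [e2]
    apply trace_ne h2 <;> simp [NN]
  rw [one_smul] at e1 e2
  set x := sg (c / 2) with hx
  have hc : sg c = x * x := by rw [hx, ← sg_add]; congr 1; field_simp; ring
  obtain ⟨y, hy⟩ := QuotientGroup.mk'_surjective (center (Sp F)) (α (pr (Sp F) x))
  change pr (Sp F) y = α (pr (Sp F) x) at hy
  have hα : ∀ {n : Sp F}, α (pr (Sp F) n) = pr (Sp F) n → n * x = x * n → trace ((spRep F).ρ n) ≠ 0 →
      n * y = y * n := by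
    intro n hn h3 ht
    have h4 := congrArg (fun z => α (pr (Sp F) z)) h3
    simp only [map_mul, hn, ← hy] at h4
    refine ((spRep F).comm_of_trace (g := y) (u := n) ?_ ht).symm
    refine (QuotientGroup.eq_one_iff _).1 ?_
    show pr (Sp F) (y * n * y⁻¹ * n⁻¹) = 1
    rw [map_mul, map_mul, map_mul, map_inv, map_inv, ← h4]
    group
  have k1 : n1 * y = y * n1 := by
    refine hα (h1 _ ⟨n1, hn1, rfl⟩) ?_ t1
    apply (spRep F).inj
    rw [map_mul, map_mul, e1, hx, sg_ρ, sm_comm1]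
  have k2 : n2 * y = y * n2 := by
    refine hα (h1' _ ⟨n2, hn2, rfl⟩) ?_ t2
    apply (spRep F).inj
    rw [map_mul, map_mul, e2, hx, sg_ρ, sm_comm2]
  have k3 : (spRep F).t * y * (spRep F).t * y ∈ center (Sp F) := by
    have h3 : (spRep F).t * x * (spRep F).t * x = 1 := by
      apply (spRep F).inj
      rw [map_mul, map_mul, map_mul, (spRep F).t_eq, hx, sg_ρ, sm_inv, map_one]
    have ht : α (pr (Sp F) (spRep F).t) = pr (Sp F) (spRep F).t := h1 _ ⟨_, (spRep F).t_mem, rfl⟩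
    have h4 := congrArg (fun z => α (pr (Sp F) z)) h3
    simp only [map_mul, ht, ← hy, map_one] at h4
    refine (QuotientGroup.eq_one_iff _).1 ?_
    show pr (Sp F) ((spRep F).t * y * (spRep F).t * y) = 1
    rw [map_mul, map_mul, map_mul, h4]
  obtain ⟨ε, hε⟩ := (spRep F).cen _ k3
  rw [map_mul, map_mul, map_mul, (spRep F).t_eq] at hε
  obtain ⟨b, hb⟩ := form_sq h2 (sp_of y)
    (by
      have := congrArg (spRep F).ρ k1
      rwa [map_mul, map_mul, e1] at this)
    (by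
      have := congrArg (spRep F).ρ k2
      rwa [map_mul, map_mul, e2] at this)
    hε
  have hyy : y * y = sg b := by
    apply (spRep F).inj
    rw [map_mul, hb, sg_ρ]
  exact ⟨b, by rw [hc, map_mul, map_mul, ← hy, ← map_mul, hyy]⟩

/-- **(C) an automorphism of `PSp₄(F)` trivial on the blocks has square 1** -/
theorem aut_sq (h2 : (2 : F) ≠ 0) (h1 : ∀ x ∈ LongQuot.D1 (spRep F), α x = x)
    (h1' : ∀ x ∈ LongQuot.D2 (spRep F), α x = x) (x : Sp F ⧸ center (Sp F)) : α (α x) = x := by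
  have himg := exists_image h2 h1 h1'
  set q := pr (Sp F) with hq
  obtain ⟨γ, hγ⟩ := himg 1
  -- `α` is linear on the short root group
  have hlin : ∀ c : F, α (q (sg c)) = q (sg (c * γ)) := by
    intro c
    by_cases hc : c = 0
    · have h0 : sg (0 : F) = 1 := by
        apply (spRep F).inj
        rw [sg_ρ, sm, map_one]
        simp
      rw [hc, zero_mul, h0, map_one, map_one]
    · obtain ⟨h, hh, hhρ⟩ := exists_E1 (P := !![c, 0; 0, c⁻¹]) (by rw [det_fin_two_of]; field_simp; ring)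
      have e : ∀ d : F, h * sg d = sg (c * d) * h := by
        intro d
        apply (spRep F).inj
        rw [map_mul, map_mul, hhρ, sg_ρ, sg_ρ, sm_torus hc]
      have hh' : α (q h) = q h := h1 _ ⟨h, hh, rfl⟩
      have e1 := congrArg (fun z => α (q z)) (e 1)
      simp only [map_mul, hh', hγ, mul_one] at e1
      rw [← map_mul, e γ, map_mul] at e1
      exact (mul_right_cancel e1).symm
  obtain ⟨n, hn, hnρ⟩ := exists_weyl (F := F)
  have hsg' : ∀ c : F, (spRep F).ρ (n * sg c * n⁻¹) = sm' c := by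
    intro c
    rw [map_mul, map_mul, hnρ, sg_ρ, sm_weyl, ← hnρ, mul_assoc, (spRep F).ρ_mul_inv, mul_one]
  have hT : ∀ c : F, ∃ T ∈ (spRep F).E1, (spRep F).ρ T = tm c := fun c => exists_E1 (det_NN c)
  have hcomm : ∀ (c : F) (T : Sp F), (spRep F).ρ T = tm (-2 * c * c) →
      sg c * (n * sg c * n⁻¹) = T * (n * sg c * n⁻¹) * sg c := by
    intro c T hT
    apply (spRep F).inj
    rw [map_mul, map_mul _ (T * _), map_mul _ T, hsg', sg_ρ, hT, sm_sm']
  have hγ2 : γ * γ = 1 := by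
    obtain ⟨T, hT1, hT2⟩ := hT (-2 * 1 * 1)
    obtain ⟨T', hT1', hT2'⟩ := hT (-2 * γ * γ)
    have e1 := congrArg (fun z => α (q z)) (hcomm 1 T hT2)
    have e2 := congrArg q (hcomm γ T' hT2')
    have hn' : α (q n) = q n := h1' _ ⟨n, hn, rfl⟩
    have hT' : α (q T) = q T := h1 _ ⟨T, hT1, rfl⟩
    simp only [map_mul, map_inv, hT', hn', hγ] at e1 e2
    rw [e1] at e2
    have e3 := mul_right_cancel (mul_right_cancel e2)
    have e4 : tm (-2 * 1 * 1 : F) = tm (-2 * γ * γ) := by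
      rw [← hT2, ← hT2']
      congr 1
      refine eq_of_pr e3 ?_ ?_
      · rw [hT2, hT2']
        simp [tm, trace, Fintype.sum_sum_type, Fin.sum_univ_two, NN]
      · rw [hT2']
        apply trace_ne h2 <;> simp [tm, NN]
    have e5 := tm_inj e4
    have e6 : 2 * (γ * γ - 1) = 0 := by linear_combination e5
    rcases mul_eq_zero.1 e6 with h | h
    · exact absurd h h2
    · linear_combination h
  -- the fixed points of `α²`
  let M : Subgroup (Sp F) := ((α.toMonoidHom.comp α.toMonoidHom).eqLocus (MonoidHom.id _)).comap q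
  have hM : M = ⊤ := by
    have hm : sg (1 : F) ∈ M := by
      show α (α (q (sg 1))) = q (sg 1)
      rw [hγ, hlin, hγ2]
    refine eq_top_of_mixed (m := sg 1) (u := ![0, 1]) (a := ![0, 1]) (b := ![1, 0]) ?_ ?_ hm ?_ ?_ ?_
    · intro x hx
      show α (α (q x)) = q x
      rw [h1 _ ⟨x, hx, rfl⟩, h1 _ ⟨x, hx, rfl⟩]
    · intro x hx
      show α (α (q x)) = q x
      rw [h1' _ ⟨x, hx, rfl⟩, h1' _ ⟨x, hx, rfl⟩]
    · rw [sg_ρ, sm, fromBlocks_mulVec]
      congr 1
      · simp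
      · funext i
        fin_cases i <;> simp [NN]
    · intro h
      have := congrFun h 1
      simp at this
    · intro h
      have := congrFun h 0
      simp at this
  obtain ⟨y, rfl⟩ := QuotientGroup.mk'_surjective (center (Sp F)) x
  have hx : y ∈ M := by rw [hM]; trivial
  exact hx

end Aut

/-! ### The elements `w = [[0,1],[-1,0]]` and `diag(jj, jj)` are conjugate -/

theorem mul_eq_of {x y z : Sp F} {X : MM F} (h : x * y = z * x) (hz : (spRep F).ρ z = X) :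
    (spRep F).ρ (x * y * x⁻¹) = X := by
  rw [h, ← hz]
  congr 1
  group

/-- **(A)** -/
theorem exists_conj (h2 : (2 : F) ≠ 0) {a b : F} (h : a * a + b * b = -1) :
    ∃ g0 w h0 : Sp F, ∃ k : Matrix (Fin 2) (Fin 2) F, k.det = 1 ∧ (spRep F).ρ w = fromBlocks 0 1 (-1) 0 ∧
      (spRep F).ρ (g0 * w * g0⁻¹) = fromBlocks (jj F) 0 0 (jj F) ∧
      (spRep F).ρ h0 = fromBlocks (jj F) 0 0 (-jj F) ∧
      (spRep F).ρ (g0⁻¹ * h0 * g0) = fromBlocks k 0 0 k := by
  obtain ⟨g0, hg0⟩ := exists_of_sp (M := fromBlocks !![1, 0; 0, 1 / 2] !![0, 1 / 2; -1, 0]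
    !![b, -a / 2; -a, -b / 2] !![-a, -b / 2; -b, a / 2]) (by
      rw [blocks_iff, det_fin_two_of, det_fin_two_of, det_fin_two_of, det_fin_two_of, jj, tr2, tr2]
      refine ⟨?_, ?_, ?_⟩
      · field_simp
        norm_num
      · field_simp
        linear_combination (-2 : F) * h
      · simp only [mul_fin_two]
        ext i j
        fin_cases i <;> fin_cases j <;> simp <;> ring)
  obtain ⟨w, hw⟩ := exists_of_sp (F := F) (M := fromBlocks 0 1 (-1) 0) (by
    rw [blocks_iff]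
    refine ⟨by simp, ?_, by simp⟩
    rw [det_neg]; simp)
  obtain ⟨j0, hj0⟩ := exists_of_sp (F := F) (M := fromBlocks (jj F) 0 0 (jj F)) (by
    rw [blocks_iff, jj, det_fin_two_of]; simp)
  obtain ⟨h0, hh0⟩ := exists_of_sp (F := F) (M := fromBlocks (jj F) 0 0 (-jj F)) (by
    rw [blocks_iff, det_neg, jj, det_fin_two_of]; simp)
  obtain ⟨k0, hk0⟩ := exists_of_sp (F := F) (M := fromBlocks !![0, -1 / 2; 2, 0] 0 0 !![0, -1 / 2; 2, 0]) (by
    rw [blocks_iff, det_fin_two_of]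
    refine ⟨?_, ?_, by simp⟩ <;> simp <;> field_simp)
  have e1 : g0 * w = j0 * g0 := by
    apply (spRep F).inj
    rw [map_mul, map_mul, hg0, hw, hj0, fromBlocks_multiply, fromBlocks_multiply, fromBlocks_inj, jj, one2]
    refine ⟨?_, ?_, ?_, ?_⟩ <;> ext i j <;> fin_cases i <;> fin_cases j <;> simp <;> ring
  have e2 : h0 * g0 = g0 * k0 := by
    apply (spRep F).inj
    rw [map_mul, map_mul, hg0, hh0, hk0, fromBlocks_multiply, fromBlocks_multiply, fromBlocks_inj, jj]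
    refine ⟨?_, ?_, ?_, ?_⟩ <;> ext i j <;> fin_cases i <;> fin_cases j <;> simp <;> field_simp
  refine ⟨g0, w, h0, !![0, -1 / 2; 2, 0], ?_, hw, mul_eq_of e1 hj0, hh0, ?_⟩
  · rw [det_fin_two_of]
    field_simp
    ring
  · rw [← hk0]
    congr 1
    rw [mul_assoc, e2]
    group

/-! ### The `p`-elements of the centraliser of `w` -/

/-- the determinant of `P + i Q` -/
def dw (P Q : Matrix (Fin 2) (Fin 2) F) : Matrix (Fin 2) (Fin 2) F :=
  !![P.det - Q.det, P 0 0 * Q 1 1 + Q 0 0 * P 1 1 - P 0 1 * Q 1 0 - Q 0 1 * P 1 0;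
    -(P 0 0 * Q 1 1 + Q 0 0 * P 1 1 - P 0 1 * Q 1 0 - Q 0 1 * P 1 0), P.det - Q.det]

theorem dw_mul (P Q P' Q' : Matrix (Fin 2) (Fin 2) F) :
    dw (P * P' - Q * Q') (P * Q' + Q * P') = dw P Q * dw P' Q' := by
  rw [dw, dw, dw, mul_fin_two]
  ext i j
  fin_cases i <;> fin_cases j <;> simp [det_fin_two, Matrix.mul_apply, Fin.sum_univ_two] <;> ring

theorem dw_one : dw (1 : Matrix (Fin 2) (Fin 2) F) 0 = 1 := by
  rw [dw, one2]
  simp

/-- the matrices commuting with `w` -/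
theorem exists_wm {X : MM F} (h : X * fromBlocks 0 1 (-1) 0 = fromBlocks 0 1 (-1) 0 * X) :
    ∃ P Q, X = fromBlocks P Q (-Q) P := by
  obtain ⟨A, B, C, E, rfl⟩ : ∃ A B C E, X = fromBlocks A B C E :=
    ⟨_, _, _, _, (fromBlocks_toBlocks X).symm⟩
  rw [fromBlocks_multiply, fromBlocks_multiply, fromBlocks_inj] at h
  simp only [Matrix.mul_zero, Matrix.zero_mul, add_zero, zero_add, Matrix.mul_one, Matrix.one_mul, Matrix.mul_neg,
    Matrix.neg_mul] at h
  obtain ⟨h1, h2, h3, h4⟩ := h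
  exact ⟨A, B, by rw [← h1, ← h2]⟩

theorem wm_mul (P Q P' Q' : Matrix (Fin 2) (Fin 2) F) :
    fromBlocks P Q (-Q) P * fromBlocks P' Q' (-Q') P' =
      fromBlocks (P * P' - Q * Q') (P * Q' + Q * P') (-(P * Q' + Q * P')) (P * P' - Q * Q') := by
  rw [fromBlocks_multiply, fromBlocks_inj]
  refine ⟨?_, rfl, ?_, ?_⟩
  · rw [Matrix.mul_neg, sub_eq_add_neg]
  · rw [Matrix.neg_mul, Matrix.mul_neg, neg_add]
    exact add_comm _ _
  · rw [Matrix.neg_mul, sub_eq_add_neg]
    exact add_comm _ _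

theorem wm_pow {P Q : Matrix (Fin 2) (Fin 2) F} (n : ℕ) :
    ∃ P' Q', fromBlocks P Q (-Q) P ^ n = fromBlocks P' Q' (-Q') P' ∧ dw P' Q' = dw P Q ^ n := by
  induction n with
  | zero => exact ⟨1, 0, by simp, by rw [dw_one, pow_zero]⟩
  | succ n ih =>
    obtain ⟨P', Q', h1, h2⟩ := ih
    exact ⟨_, _, by rw [pow_succ, h1, wm_mul], by rw [dw_mul, h2, pow_succ]⟩

theorem eq_zero_of_dw (h2 : (2 : F) ≠ 0) {P Q : Matrix (Fin 2) (Fin 2) F} (s1 : P.det + Q.det = 1)
    (s3 : P * jj F * (-Q)ᵀ + Q * jj F * Pᵀ = 0) (d0 : P.det - Q.det = 1)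
    (d1 : P 0 0 * Q 1 1 + Q 0 0 * P 1 1 - P 0 1 * Q 1 0 - Q 0 1 * P 1 0 = 0) : Q = 0 := by
  have t00 := congrFun (congrFun s3 0) 0
  have t01 := congrFun (congrFun s3 0) 1
  have t11 := congrFun (congrFun s3 1) 1
  simp [jj, Matrix.mul_apply, Fin.sum_univ_two] at t00 t01 t11
  have c : ∀ {y : F}, 2 * y = 0 → y = 0 := fun hy => (mul_eq_zero.1 hy).resolve_left h2
  have dP : P 0 0 * P 1 1 - P 0 1 * P 1 0 = 1 := by
    rw [← det_fin_two]
    have := c (y := P.det - 1) (by linear_combination s1 + d0)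
    linear_combination this
  have e00 : P 0 1 * Q 0 0 - P 0 0 * Q 0 1 = 0 := c (by linear_combination -t00)
  have e01 : P 0 1 * Q 1 0 - P 0 0 * Q 1 1 = 0 := c (by linear_combination (-t01) - d1)
  have e10 : P 1 1 * Q 0 0 - P 1 0 * Q 0 1 = 0 := by linear_combination d1 + e01
  have e11 : P 1 1 * Q 1 0 - P 1 0 * Q 1 1 = 0 := c (by linear_combination -t11)
  ext i j
  fin_cases i <;> fin_cases j <;> simp
  · linear_combination (-(Q 0 0)) * dP + P 0 0 * e10 - P 1 0 * e00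
  · linear_combination (-(Q 0 1)) * dP + P 0 1 * e10 - P 1 1 * e00
  · linear_combination (-(Q 1 0)) * dP + P 0 0 * e11 - P 1 0 * e01
  · linear_combination (-(Q 1 1)) * dP + P 0 1 * e11 - P 1 1 * e01

/-- **(B)** -/
theorem exists_diag_of_p (h2 : (2 : F) ≠ 0) (p : ℕ) [Fact p.Prime] [CharP F p] {y w : Sp F}
    (hy : IsPGroup p (zpowers y)) (hw : (spRep F).ρ w = fromBlocks 0 1 (-1) 0) (hc : y * w = w * y) :
    ∃ k, (spRep F).ρ y = fromBlocks k 0 0 k := by
  obtain ⟨P, Q, hX⟩ := exists_wm (X := (spRep F).ρ y) (by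
    have := congrArg (spRep F).ρ hc
    rwa [map_mul, map_mul, hw] at this)
  obtain ⟨n, hn⟩ := hy ⟨y, mem_zpowers y⟩
  have hn' : y ^ p ^ n = 1 := congrArg Subtype.val hn
  have hs := sp_of y
  rw [hX, blocks_iff] at hs
  obtain ⟨s1, -, s3⟩ := hs
  -- the determinant is unipotent
  have h1 : dw P Q ^ p ^ n = 1 := by
    obtain ⟨P', Q', h3, h4⟩ := wm_pow (P := P) (Q := Q) (p ^ n)
    rw [← hX, ← map_pow, hn', map_one, ← fromBlocks_one, fromBlocks_inj] at h3
    rw [← h4, ← h3.1, ← h3.2.1, dw_one]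
  have h3 : (dw P Q - 1) ^ p ^ n = 0 := by
    rw [sub_pow_char_pow_of_commute _ _ (Commute.one_right _), h1, one_pow, sub_self]
  have hnil : IsNilpotent (dw P Q - 1) := ⟨_, h3⟩
  have ht : trace (dw P Q - 1) = 0 := (Matrix.isNilpotent_trace_of_isNilpotent hnil).eq_zero
  have hdet : (dw P Q - 1).det = 0 := by
    have h4 : ((dw P Q - 1).det) ^ p ^ n = 0 := by
      rw [← det_pow, h3, det_zero]
    exact (pow_eq_zero_iff (pow_ne_zero _ (Fact.out (p := p.Prime)).ne_zero)).1 h4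
  rw [dw, one2, trace_fin_two] at ht
  rw [dw, one2, det_fin_two] at hdet
  simp only [Matrix.sub_apply, of_apply, cons_val', cons_val_zero, cons_val_one, cons_val_fin_one, empty_val',
    sub_zero] at ht hdet
  have d0 : P.det - Q.det = 1 := by
    have h5 : 2 * (P.det - Q.det - 1) = 0 := by linear_combination ht
    have := (mul_eq_zero.1 h5).resolve_left h2
    linear_combination this
  have d1 : P 0 0 * Q 1 1 + Q 0 0 * P 1 1 - P 0 1 * Q 1 0 - Q 0 1 * P 1 0 = 0 := by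
    rw [d0] at hdet
    apply mul_self_eq_zero.1
    linear_combination hdet
  have hQ := eq_zero_of_dw h2 s1 s3 d0 d1
  exact ⟨P, by rw [hX, hQ, neg_zero]⟩

end Cfsg.Agent.Cit.Sp4M
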