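import Cfsg.Agent.Cit.UseT
import Cfsg.Agent.Cit.Branches
import Cfsg.Agent.Cit.TypeDet.FramesOf

/-!
# Commuting families of traces, lifting of 2-elements

`H ≤ G`, `fam Om H` the family of traces in `HQ H = H / O(H)` (`Cit/UseT`).

* `exists_of_mem_OmS` : members of `(fam Om H)(T O(H) / O(H))` are traces of members of `Om(T)`;
* `ncard_le` : pairwise commuting subsets of `fam Om H` have at most `n` elements if `|Om(S)| = n`;
* `exists_lift_elt` : a 2-element of `HQ H` commuting with the image of a 2-subgroup `Q` lifts to a 2-element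
  commuting with `Q`.
-/

set_option autoImplicit false
set_option linter.style.haveILetI false
set_option linter.unusedSectionVars false

namespace Cfsg.Agent.Cit.ThreeLift

open Subgroup Cfsg Cfsg.Agent.Cit SubCent UseT TypeDet

variable {G : Type*} [Group G] [Finite G] {Om : Set (Subgroup G)} {H : Subgroup G}

/-- members of `(fam Om H)(T̄)` are traces of members of `Om(T)` -/
theorem exists_of_mem_OmS (hOm : Hyp Om) (h : ∀ K ∈ Om, IsType K) {T : Subgroup H} (hT : IsPGroup 2 T)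
    {J : Subgroup (HQ H)} (hJ : J ∈ OmS (fam Om H) (T.map (qm H))) :
    ∃ M ∈ cov Om H, M ∈ OmS Om (T.map H.subtype) ∧ tr H M = J := by
  have hH := RdOm.hyp_rd (RdOm.hyp_OmIn hOm H) (RdOm.isType_OmIn h H)
  have hset := OmS_img hH (not_dvd_ker H) hT
  have hr := isRd h H
  have h3 : J ∈ OmS (img (qm H) (rd '' OmIn Om H)) (T.map (qm H)) := hJ
  rw [hset] at h3
  obtain ⟨J', ⟨⟨J'', hJ', rfl⟩, hJ2⟩, hJm⟩ := h3
  rw [RdOm.OmIn_eq] at hJ'
  obtain ⟨M', hM', rfl⟩ := hJ'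
  refine ⟨M', hM', ⟨hM'.1, fun h4 => ?_⟩, hJm⟩
  -- `|M' : M' ⊓ T|` is odd
  have hJ3 : ¬ 2 ∣ T.relIndex (M'.subgroupOf H) := by
    intro h5
    have hle := hr.le _ (RdOm.mem_OmIn hM')
    have h6 : T.relIndex (M'.subgroupOf H) ∣
        T.relIndex (rd (M'.subgroupOf H)) * (rd (M'.subgroupOf H)).relIndex (M'.subgroupOf H) := by
      rw [← inf_relIndex_right T (M'.subgroupOf H), ← inf_relIndex_right T (rd (M'.subgroupOf H)),
        relIndex_mul_relIndex _ _ _ inf_le_right hle]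
      exact relIndex_dvd_of_le_left _ (inf_le_inf_left _ hle)
    rcases (Nat.Prime.dvd_mul Nat.prime_two).1 (h5.trans h6) with h7 | h7
    · exact hJ2 h7
    · exact not_dvd_relIndex (hr.mem_cov (RdOm.mem_OmIn hM')) h7
  have h7 : (T.map H.subtype).relIndex M' ∣
      (T.map H.subtype).relIndex (M' ⊓ H) * (M' ⊓ H).relIndex M' := by
    rw [← inf_relIndex_right (T.map H.subtype) M', ← inf_relIndex_right (T.map H.subtype) (M' ⊓ H),
      relIndex_mul_relIndex _ _ _ inf_le_right inf_le_left]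
    exact relIndex_dvd_of_le_left _ (inf_le_inf_left _ inf_le_left)
  rcases (Nat.Prime.dvd_mul Nat.prime_two).1 (h4.trans h7) with h8 | h8
  · apply hJ3
    rw [← subgroupOf_map_subtype, relIndex_map_map_of_injective _ _ H.subtype_injective] at h8
    exact h8
  · rw [inf_relIndex_left] at h8
    exact not_dvd_relIndex hM' h8

/-- pairwise commuting sets of traces have at most `|Om(S)|` elements -/
theorem ncard_le (hOm : Hyp Om) (h : ∀ K ∈ Om, IsType K) {n : ℕ} (hc : Branches.Card Om n)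
    {C : Set (Subgroup (HQ H))} (hC : C ⊆ fam Om H) (hcc : ∀ K ∈ C, ∀ L ∈ C, K ≠ L → cm K L) :
    C.ncard ≤ n := by
  classical
  haveI : Fact (Nat.Prime 2) := ⟨Nat.prime_two⟩
  obtain ⟨S', hS'⟩ := exists_sylow_of_comm hC hcc
  obtain ⟨T, hT, hTS⟩ := exists_lift (qm_surjective H) S'.isPGroup'
  obtain ⟨S, hS⟩ := (hT.map H.subtype).exists_le_sylow
  have key : ∀ J ∈ C, ∃ M ∈ cov Om H, M ∈ OmS Om (S : Subgroup G) ∧ tr H M = J := by
    intro J hJ
    have h1 : J ∈ OmS (fam Om H) (T.map (qm H)) := by rw [hTS]; exact hS' hJ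
    obtain ⟨M, hM, h2, h3⟩ := exists_of_mem_OmS hOm h hT h1
    exact ⟨M, hM, OmS_mono hS h2, h3⟩
  choose! f hf1 hf2 hf3 using key
  rw [← hc S]
  refine Set.ncard_le_ncard_of_injOn f (fun J hJ => hf2 J hJ) ?_ (Set.toFinite _)
  intro J hJ L hL hJL
  rw [← hf3 J hJ, ← hf3 L hL, hJL]

/-- a 2-element of `H / O(H)` commuting with the image of a 2-subgroup `Q` of `H` lifts to a 2-element commuting
with `Q` -/
theorem exists_lift_elt {Q : Subgroup G} (hQ : IsPGroup 2 Q) (hQH : Q ≤ H) {a : HQ H} {k : ℕ} (ha : a ^ 2 ^ k = 1)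
    (hc : ∀ q (hq : q ∈ Q), a * qm H ⟨q, hQH hq⟩ = qm H ⟨q, hQH hq⟩ * a) :
    ∃ b : H, qm H b = a ∧ b ^ 2 ^ k = 1 ∧ (∀ q ∈ Q, (b : G) * q = q * b) ∧
      ∀ q (hq : q ∈ Q), a * a = qm H ⟨q, hQH hq⟩ → (b : G) * b = q := by
  haveI : Fact (Nat.Prime 2) := ⟨Nat.prime_two⟩
  set Q' : Subgroup H := Q.subgroupOf H with hQ'
  have hQ'2 : IsPGroup 2 Q' := hQ.comap_subtype
  have hA : IsPGroup 2 (zpowers a) := by
    rintro ⟨_, i, rfl⟩
    refine ⟨k, Subtype.ext ?_⟩
    change (a ^ i) ^ 2 ^ k = 1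
    rw [← zpow_natCast, ← zpow_mul, mul_comm, zpow_mul, zpow_natCast, ha, one_zpow]
  have hP : IsPGroup 2 (zpowers a ⊔ Q'.map (qm H) : Subgroup (HQ H)) := by
    apply hA.to_sup_of_normal_right' (hQ'2.map _)
    rw [zpowers_le]
    refine centralizer_le_normalizer _ ?_
    rw [mem_centralizer_iff]
    rintro _ ⟨q, hq, rfl⟩
    exact (hc q hq).symm
  set M := (zpowers a ⊔ Q'.map (qm H) : Subgroup (HQ H)).comap (qm H) with hM
  have hQM : Q' ≤ M := by
    rw [hM, ← Subgroup.map_le_iff_le_comap]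
    exact le_sup_right
  obtain ⟨T, hT, hQT⟩ := Cit.exists_syl_ge hQ'2 hQM
  have hTm : T.map (qm H) = zpowers a ⊔ Q'.map (qm H) := by
    have h1 := hT.map (f := qm H)
    rw [hM, map_comap_eq_self_of_surjective (qm_surjective H)] at h1
    exact h1.eq_of_le h1.1 le_rfl hP
  have hker : ∀ x ∈ T, qm H x = 1 → x = 1 := by
    intro x hx h1
    obtain ⟨j, hj⟩ := hT.2.1 ⟨x, hx⟩
    have h2 : x ^ 2 ^ j = 1 := congrArg Subtype.val hj
    have h3 : orderOf x ∣ Nat.card (qm H).ker := by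
      have h4 := orderOf_dvd_natCard (⟨x, MonoidHom.mem_ker.2 h1⟩ : (qm H).ker)
      rwa [Subgroup.orderOf_mk] at h4
    have h4 : Nat.Coprime (orderOf x) (Nat.card (qm H).ker) := by
      refine Nat.Coprime.coprime_dvd_left (orderOf_dvd_of_pow_eq_one h2) ?_
      exact Nat.Coprime.pow_left j ((Nat.Prime.coprime_iff_not_dvd Nat.prime_two).2 (not_dvd_ker H))
    have h5 : orderOf x = 1 := Nat.Coprime.eq_one_of_dvd h4 h3
    exact orderOf_eq_one_iff.1 h5
  have haT : a ∈ T.map (qm H) := by rw [hTm]; exact mem_sup_left (mem_zpowers a)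
  obtain ⟨b, hbT, hb⟩ := haT
  refine ⟨b, hb, ?_, ?_, ?_⟩
  · exact hker _ (T.pow_mem hbT _) (by rw [map_pow, hb, ha])
  · intro q hq
    have hqT : (⟨q, hQH hq⟩ : H) ∈ T := hQT hq
    have h1 : b * ⟨q, hQH hq⟩ * (⟨q, hQH hq⟩ * b)⁻¹ = 1 := by
      apply hker _ (T.mul_mem (T.mul_mem hbT hqT) (T.inv_mem (T.mul_mem hqT hbT)))
      rw [map_mul, map_mul, map_inv, map_mul, hb, hc q hq, mul_inv_cancel]
    exact congrArg Subtype.val (mul_inv_eq_one.1 h1)
  · intro q hq h1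
    have hqT : (⟨q, hQH hq⟩ : H) ∈ T := hQT hq
    have h2 : b * b * (⟨q, hQH hq⟩)⁻¹ = 1 := by
      apply hker _ (T.mul_mem (T.mul_mem hbT hbT) (T.inv_mem hqT))
      rw [map_mul, map_mul, map_inv, hb, h1, mul_inv_cancel]
    exact congrArg Subtype.val (mul_inv_eq_one.1 h2)

end Cfsg.Agent.Cit.ThreeLift
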