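import Cfsg.Agent.Cit.ThreeCoreSL

/-!
# Cores for `|Om(S)| = 3`, `z₁ z₂ z₃ = 1`, type `Sp₄(q)`: the local part

Everything takes place in `H = C(b) / O(C(b))`, `b = z_K` (helper145, blueprints/CIT-n3.md, (S3), (S6)).
`SpPiece p D K L` : the facts about the component `D = Sp₄(q)` of `H` and two commuting classical subgroups
`K, L` of `D`.

* `SpPiece.XX_eq_bot` : `O(C(z_K)) = 1` (BALANCE);
* `SpPiece.comm` : for `a = v₁ v w`, `v ∈ K`, `w ∈ L` and `v₁ ∈ N ⊴ H` of order 4, `[N, D] = 1`: `O(C(a))` commutes with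
  `z_K`.
-/

set_option autoImplicit false
set_option linter.style.haveILetI false

namespace Cfsg.Agent.Cit.ThreeSp

open Subgroup Cfsg Cfsg.Agent.Cit Cfsg.Agent.Cit.Comp Cfsg.Agent.Cit.OneComp Cfsg.Agent.Cit.CT
open Cfsg.Agent.SignalizersComponents.Components Cfsg.Agent.Cit.ThreeCore

variable {H : Type*} [Group H]

/-- the data of a classical subgroup `K = SL₂(q)` with involution `zz K` -/
structure Mem (p : ℕ) (K : Subgroup H) : Prop where
  pgen : PGen p K
  zmem : zz K ∈ K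
  zsq : zz K * zz K = 1
  zc : ∀ x ∈ K, x * zz K = zz K * x

/-- the facts about the component `D` (`= Sp₄(q)`) and two commuting classical subgroups `K`, `L` of `D` -/
structure SpPiece (p : ℕ) (D K L : Subgroup H) : Prop where
  comp : IsComponent D
  fix : FixP p D
  left : K ≤ D
  right : L ≤ D
  memK : Mem p K
  memL : Mem p L
  comm : ∀ x ∈ K, ∀ y ∈ L, x * y = y * x
  /-- `C_{Aut D}(K L)` has order 2 -/
  cent : ∀ u : H, u ∈ normalizer (D : Set H) → ¬ 2 ∣ orderOf u → u ∈ centralizer (K : Set H) →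
    u ∈ centralizer (L : Set H) → u ∈ centralizer (D : Set H)
  /-- `v w⁻¹ ∈ O^{p'}(C_D(v w))` -/
  pel : ∀ v ∈ K, ∀ w ∈ L, v * v = zz K → w * w = zz L →
    v * w⁻¹ ∈ closure {x | x ∈ D ∧ IsPGroup p (zpowers x) ∧ x * (v * w) = v * w * x}
  /-- `D = ⟨K, L, C_D(v w)⟩` -/
  gen : ∀ v ∈ K, ∀ w ∈ L, v * v = zz K → w * w = zz L → D ≤ K ⊔ L ⊔ (D ⊓ centralizer {v * w})

theorem orderOf_odd [Finite H] {a u : H} (hu : u ∈ XX a) : ¬ 2 ∣ orderOf u := by
  intro h4
  have h5 := orderOf_dvd_natCard (⟨u, hu⟩ : XX a)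
  rw [Subgroup.orderOf_mk] at h5
  exact odd_XX a (h4.trans h5)

namespace SpPiece

variable {p : ℕ} {D K L : Subgroup H}

theorem symm (h : SpPiece p D K L) : SpPiece p D L K where
  comp := h.comp
  fix := h.fix
  left := h.right
  right := h.left
  memK := h.memL
  memL := h.memK
  comm := fun x hx y hy => (h.comm y hy x hx).symm
  cent := fun u hu ho h1 h2 => h.cent u hu ho h2 h1
  pel := by
    intro v hv w hw hvv hww
    have h1 := h.pel w hw v hv hww hvv
    have e : v * w = w * v := (h.comm w hw v hv).symm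
    have e2 : v * w⁻¹ = (w * v⁻¹)⁻¹ := by group
    rw [e2]
    rw [e]
    exact inv_mem h1
  gen := by
    intro v hv w hw hvv hww
    have h1 := h.gen w hw v hv hww hvv
    rwa [sup_comm K L, h.comm w hw v hv] at h1

/-- `O(C(a))` centralises the classical subgroups centralised by `a` -/
theorem comm_member [Finite H] [Fact p.Prime] (h : SpPiece p D K L) (hO : pPrimeCore 2 H = ⊥) (hev : EvQ H) {a : H}
    (ha : a * a = 1) (haD : a ∈ normalizer (D : Set H)) {M : Subgroup H} (hM : M ≤ D) (hp : PGen p M)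
    (haM : a ∈ centralizer (M : Set H)) {y : H} (hy : y ∈ XX a) : y ∈ centralizer (M : Set H) := by
  have h1 : M ≤ centralizer {y} := by
    refine hp _ fun v hv hvp => ?_
    rw [mem_centralizer_singleton_iff]
    exact h.fix.comm ha haD hy (CoreTools.XX_le_normalizer hO hev ha h.comp hy) (hM hv)
      (mem_centralizer_iff.1 haM v hv) hvp
  rw [mem_centralizer_iff]
  exact fun l hl => mem_centralizer_singleton_iff.1 (h1 hl)

/-- **(S3) BALANCE**: `O(C(z_K)) = 1` -/
theorem XX_eq_bot [Finite H] [Fact p.Prime] (h : SpPiece p D K L) (hO : pPrimeCore 2 H = ⊥) (hev : EvQ H) :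
    XX (zz K) = ⊥ := by
  rw [eq_bot_iff]
  intro u hu
  rw [mem_bot]
  have hzD : zz K ∈ D := h.left h.memK.zmem
  refine CoreTools.eq_one_of_comp hO h.memK.zsq hu fun N hN => ?_
  by_cases hND : N = D
  · subst hND
    refine h.cent u (CoreTools.XX_le_normalizer hO hev h.memK.zsq h.comp hu) (orderOf_odd hu) ?_ ?_
    · refine h.comm_member hO hev h.memK.zsq (le_normalizer hzD) h.left h.memK.pgen ?_ hu
      rw [mem_centralizer_iff]
      exact fun x hx => h.memK.zc x hx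
    · refine h.comm_member hO hev h.memK.zsq (le_normalizer hzD) h.right h.memL.pgen ?_ hu
      rw [mem_centralizer_iff]
      exact fun x hx => (h.comm _ h.memK.zmem x hx).symm
  · refine CoreTools.XX_le_centralizer_of_cent hev hN ?_ hu
    intro n hn
    rw [mem_centralizer_singleton_iff]
    exact comm_of_ne hN h.comp hND hn hzD

/-- **(TOR) for `(f, z₁)`** -/
theorem comm_f [Finite H] [Fact p.Prime] (h : SpPiece p D K L) (hO : pPrimeCore 2 H = ⊥) (hev : EvQ H)
    {N : Subgroup H} [hN : N.Normal] (hND : ∀ x ∈ N, ∀ y ∈ D, x * y = y * x)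
    (hNu : ∀ x ∈ N, x * x = 1 → x = 1 ∨ x = zz N) (hzc : ∀ x : H, x * zz N = zz N * x) (hzn : zz N ≠ 1)
    {v₁ v w : H} (hv₁ : v₁ ∈ N) (hv : v ∈ K) (hw : w ∈ L) (hv₁2 : v₁ * v₁ = zz N) (hv2 : v * v = zz K)
    (hw2 : w * w = zz L) (haa : v₁ * (v * w) * (v₁ * (v * w)) = 1) {u : H} (hu : u ∈ XX (v₁ * (v * w))) :
    u * zz K = zz K * u := by
  set j := v * w with hj
  set a := v₁ * j with ha
  have hjD : j ∈ D := D.mul_mem (h.left hv) (h.right hw)
  have hv₁D : v₁ ∈ centralizer (D : Set H) := mem_centralizer_iff.2 fun y hy => (hND v₁ hv₁ y hy).symm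
  have haD : a ∈ normalizer (D : Set H) :=
    mul_mem (centralizer_le_normalizer _ hv₁D) (le_normalizer hjD)
  have huD : u ∈ normalizer (D : Set H) := CoreTools.XX_le_normalizer hO hev haa h.comp hu
  have hua : u * a = a * u := comm_of_mem_XX hu
  -- `c = v₁⁻¹ (u v₁ u⁻¹)`
  set c := v₁⁻¹ * (u * v₁ * u⁻¹) with hc
  have hcN : c ∈ N := N.mul_mem (N.inv_mem hv₁) (hN.conj_mem _ hv₁ u)
  have hcj : c = j * (u * j * u⁻¹)⁻¹ := by
    have h1 : (u * v₁ * u⁻¹) * (u * j * u⁻¹) = v₁ * j := by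
      calc (u * v₁ * u⁻¹) * (u * j * u⁻¹) = (u * a) * u⁻¹ := by rw [ha]; group
        _ = v₁ * j := by rw [hua, ha]; group
    calc c = v₁⁻¹ * ((u * v₁ * u⁻¹) * (u * j * u⁻¹)) * (u * j * u⁻¹)⁻¹ := by rw [hc]; group
      _ = j * (u * j * u⁻¹)⁻¹ := by rw [h1]; group
  have hcD : c ∈ D := by
    rw [hcj]
    exact D.mul_mem hjD (D.inv_mem ((mem_normalizer_iff.1 huD j).1 hjD))
  have hcv : v₁ * c = c * v₁ := hND v₁ hv₁ c hcD
  have hcc : c * c = 1 := by
    have h1 : u * v₁ * u⁻¹ = v₁ * c := by rw [hc]; group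
    have h2 : (v₁ * c) * (v₁ * c) = zz N := by
      rw [← h1]
      calc u * v₁ * u⁻¹ * (u * v₁ * u⁻¹) = u * (v₁ * v₁) * u⁻¹ := by group
        _ = zz N := by rw [hv₁2, hzc]; group
    calc c * c = (v₁ * v₁)⁻¹ * ((v₁ * v₁) * (c * c)) := by group
      _ = (v₁ * v₁)⁻¹ * (v₁ * (v₁ * c) * c) := by group
      _ = (v₁ * v₁)⁻¹ * (v₁ * (c * v₁) * c) := by rw [hcv]
      _ = (v₁ * v₁)⁻¹ * ((v₁ * c) * (v₁ * c)) := by group
      _ = 1 := by rw [h2, hv₁2]; group
  have huc : u * c = c * u := by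
    rcases hNu c hcN hcc with e | e
    · rw [e, one_mul, mul_one]
    · rw [e, hzc]
  have hc1 : c = 1 := by
    have hy : u⁻¹ * v₁ * u = v₁ * c := by
      have h1 : u * (v₁ * c) * u⁻¹ = v₁ := by
        calc u * (v₁ * c) * u⁻¹ = (u * v₁ * u⁻¹) * (u * c * u⁻¹) := by group
          _ = (v₁ * c) * (u * c * u⁻¹) := by
            congr 1
            rw [hc]; group
          _ = (v₁ * c) * c := by rw [huc]; group
          _ = v₁ := by rw [mul_assoc, hcc, mul_one]
      calc u⁻¹ * v₁ * u = u⁻¹ * (u * (v₁ * c) * u⁻¹) * u := by rw [h1]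
        _ = v₁ * c := by group
    have h1 := SLPiece.conj_pow_eq hy huc.symm (orderOf u)
    rw [pow_orderOf_eq_one, inv_one, one_mul, mul_one] at h1
    have h2 : c ^ orderOf u = 1 := mul_eq_left.1 h1.symm
    obtain ⟨k, hk⟩ : ∃ k, orderOf u = 2 * k + 1 := by
      have := orderOf_odd hu
      exact ⟨orderOf u / 2, by omega⟩
    rw [hk, pow_succ, pow_mul, pow_two, hcc, one_pow, one_mul] at h2
    exact h2
  have huv : u * v₁ = v₁ * u := by
    have h1 : u * v₁ * u⁻¹ = v₁ := by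
      have : u * v₁ * u⁻¹ = v₁ * c := by rw [hc]; group
      rw [this, hc1, mul_one]
    calc u * v₁ = (u * v₁ * u⁻¹) * u := by group
      _ = v₁ * u := by rw [h1]
  have huj : u * j = j * u := by
    have h1 : j = v₁⁻¹ * a := by rw [ha]; group
    have h2 : u * v₁⁻¹ = v₁⁻¹ * u := by
      calc u * v₁⁻¹ = v₁⁻¹ * (v₁ * u) * v₁⁻¹ := by group
        _ = v₁⁻¹ * u := by rw [← huv]; group
    calc u * j = (u * v₁⁻¹) * a := by rw [h1]; group
      _ = v₁⁻¹ * (u * a) := by rw [h2]; group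
      _ = j * u := by rw [hua, h1]; group
  -- `u` commutes with `v w⁻¹`
  have hul : v * w⁻¹ ∈ centralizer {u} := by
    refine (closure_le _).2 ?_ (h.pel v hv w hw hv2 hw2)
    rintro x ⟨hxD, hxp, hxj⟩
    rw [SetLike.mem_coe, mem_centralizer_singleton_iff]
    refine h.fix.comm haa haD hu huD hxD ?_ hxp
    have h1 := hND v₁ hv₁ x hxD
    calc x * a = (x * v₁) * j := by rw [ha, mul_assoc]
      _ = v₁ * (x * j) := by rw [← h1, mul_assoc]
      _ = v₁ * (j * x) := by rw [show x * j = j * x from hxj]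
      _ = a * x := (mul_assoc v₁ j x).symm
  rw [mem_centralizer_singleton_iff] at hul
  have e1 : zz K = (v * w⁻¹) * j := by
    calc zz K = v * v := hv2.symm
      _ = v * (w⁻¹ * w) * v := by group
      _ = v * w⁻¹ * (w * v) := by group
      _ = v * w⁻¹ * j := by rw [← h.comm v hv w hw]
  calc u * zz K = (u * (v * w⁻¹)) * j := by rw [e1]; group
    _ = (v * w⁻¹) * (u * j) := by rw [← hul]; group
    _ = zz K * u := by rw [huj, e1]; group

end SpPiece

end Cfsg.Agent.Cit.ThreeSp
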