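import Cfsg.Agent.Cit.SpCfg
import Cfsg.Agent.Cit.ThreeSpLoc
import Cfsg.Agent.Cit.ThreeCoreSLI
import Cfsg.Agent.Cit.CoreThree
import Cfsg.Agent.Cit.ThreeLift
import Cfsg.Agent.Cit.UseT2

/-!
# Cores for `|Om(S)| = 3`, `z₁ z₂ z₃ = 1`, type `Sp₄(q)`: the local data

* `Loc Om p F S K₁ K₂ K₃` : the facts in `C(z₁) / O(C(z₁))`;
* `All Om p F` : all data; `all_of` : from `MinS`, `Pre`, `Con` and `SpFacts`;
* `All.balance` : (S3) `O(C(z₁)) ∩ C(z₂) ≤ O(C(z₂))`.
-/

set_option autoImplicit false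
set_option linter.style.haveILetI false
set_option linter.unusedSectionVars false

namespace Cfsg.Agent.Cit.Sp4

open Subgroup Cfsg Cfsg.Agent.Cit Cfsg.Agent.Cit.TorFunctor

universe u

section Defs

variable {G : Type u} [Group G]

/-- the local data at `K₁` -/
structure Loc (Om : Set (Subgroup G)) (p : ℕ) (F : Type) [Field F] (S K1 K2 K3 : Subgroup G) : Prop where
  core : pPrimeCore 2 (ThreeCore.HQ K1) = ⊥
  ev : Comp.EvQ (ThreeCore.HQ K1)
  facts : SpFacts p F (CoreThree.PP Om K1 K2) (UseT.tr (centralizer {zz K1}) K2) (UseT.tr (centralizer {zz K1}) K3)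
  fix : CT.FixP p (CoreThree.PP Om K1 K2)
  sp : ThreeSp.SpPiece p (CoreThree.PP Om K1 K2) (UseT.tr (centralizer {zz K1}) K2) (UseT.tr (centralizer {zz K1}) K3)
  nor : (CoreThree.PP Om K1 K2).Normal
  nor1 : (UseT.tr (centralizer {zz K1}) K1).Normal
  comm1 : ∀ x ∈ UseT.tr (centralizer {zz K1}) K1, ∀ y ∈ CoreThree.PP Om K1 K2, x * y = y * x
  one : ∀ x ∈ UseT.tr (centralizer {zz K1}) K1, x * x = 1 → x = 1 ∨ x = zz (UseT.tr (centralizer {zz K1}) K1)
  zt : ∀ K ∈ OmS Om S, zz (UseT.tr (centralizer {zz K1}) K) = ThreeCore.qt K1 (zz K)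
  syl : ∀ K ∈ OmS Om S, ∀ x ∈ K ⊓ S, ThreeCore.qt K1 x ∈ UseT.tr (centralizer {zz K1}) K

/-- all data -/
structure All (Om : Set (Subgroup G)) (p : ℕ) (F : Type) [Field F] : Prop where
  prime : p.Prime
  char : CharP F p
  fin : Finite F
  odd : p ≠ 2
  tri : Tri Om
  ty : ∀ K ∈ Om, IsType K
  solv : ∀ X : Subgroup G, ¬ 2 ∣ Nat.card X → Group.IsSolvable X
  loc : ∀ S : Sylow 2 G, ∀ K1 ∈ OmS Om (S : Subgroup G), ∀ K2 ∈ OmS Om (S : Subgroup G),
    ∀ K3 ∈ OmS Om (S : Subgroup G), K1 ≠ K2 → K1 ≠ K3 → K2 ≠ K3 → Loc Om p F (S : Subgroup G) K1 K2 K3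

end Defs

/-! ### `SL₂(F)` is generated by `p`-elements -/

section PGen

variable {F : Type*} [Field F]

/-- upper unitriangular -/
def sup1 (t : F) : Matrix.SpecialLinearGroup (Fin 2) F := ⟨!![1, t; 0, 1], by simp⟩

/-- lower unitriangular -/
def slo1 (t : F) : Matrix.SpecialLinearGroup (Fin 2) F := ⟨!![1, 0; t, 1], by simp⟩

theorem sl_mem_closure (g : Matrix.SpecialLinearGroup (Fin 2) F) :
    g ∈ Subgroup.closure (Set.range (sup1 (F := F)) ∪ Set.range (slo1 (F := F))) := by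
  have hu : ∀ t : F, sup1 t ∈ Subgroup.closure (Set.range (sup1 (F := F)) ∪ Set.range (slo1 (F := F))) :=
    fun t => Subgroup.subset_closure (Or.inl ⟨t, rfl⟩)
  have hl : ∀ t : F, slo1 t ∈ Subgroup.closure (Set.range (sup1 (F := F)) ∪ Set.range (slo1 (F := F))) :=
    fun t => Subgroup.subset_closure (Or.inr ⟨t, rfl⟩)
  have key : ∀ g : Matrix.SpecialLinearGroup (Fin 2) F, g.1 1 0 ≠ 0 →
      g ∈ Subgroup.closure (Set.range (sup1 (F := F)) ∪ Set.range (slo1 (F := F))) := by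
    intro g hc
    have hdet : g.1 0 0 * g.1 1 1 - g.1 0 1 * g.1 1 0 = 1 := by
      rw [← Matrix.det_fin_two]; exact g.2
    have : g = sup1 ((g.1 0 0 - 1) / g.1 1 0) * slo1 (g.1 1 0) * sup1 ((g.1 1 1 - 1) / g.1 1 0) := by
      apply Subtype.ext
      show g.1 = (sup1 ((g.1 0 0 - 1) / g.1 1 0)).1 * (slo1 (g.1 1 0)).1 *
        (sup1 ((g.1 1 1 - 1) / g.1 1 0)).1
      ext i j
      fin_cases i <;> fin_cases j
      · simp [sup1, slo1, Matrix.mul_apply, Fin.sum_univ_two, hc]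
      · simp [sup1, slo1, Matrix.mul_apply, Fin.sum_univ_two]
        field_simp
        linear_combination -hdet
      · simp [sup1, slo1, Matrix.mul_apply, Fin.sum_univ_two]
      · simp [sup1, slo1, Matrix.mul_apply, Fin.sum_univ_two]
        field_simp
        ring
    rw [this]
    exact mul_mem (mul_mem (hu _) (hl _)) (hu _)
  by_cases hc : g.1 1 0 = 0
  · have hdet : g.1 0 0 * g.1 1 1 - g.1 0 1 * g.1 1 0 = 1 := by
      rw [← Matrix.det_fin_two]; exact g.2
    have h1 : g * slo1 1 ∈ Subgroup.closure (Set.range (sup1 (F := F)) ∪ Set.range (slo1 (F := F))) := by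
      apply key
      have : (g * slo1 1).1 1 0 = g.1 1 0 + g.1 1 1 := by
        change ((g.1 * (slo1 1).1 : Matrix (Fin 2) (Fin 2) F)) 1 0 = _
        simp [slo1, Matrix.mul_apply, Fin.sum_univ_two]
      rw [this, hc, zero_add]
      intro h
      rw [hc, h] at hdet
      simp at hdet
    have h2 := mul_mem h1 (inv_mem (hl 1))
    rwa [mul_inv_cancel_right] at h2
  · exact key g hc

theorem sup1_pow (t : F) (n : ℕ) : (sup1 t) ^ n = sup1 (n * t) := by
  induction n with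
  | zero => rw [pow_zero, Nat.cast_zero, zero_mul]; apply Subtype.ext; ext i j; fin_cases i <;> fin_cases j <;> simp [sup1]
  | succ n ih =>
    rw [pow_succ, ih]
    apply Subtype.ext
    show (sup1 ((n : F) * t)).1 * (sup1 t).1 = (sup1 (((n + 1 : ℕ) : F) * t)).1
    ext i j
    fin_cases i <;> fin_cases j <;> simp [sup1, Matrix.mul_apply, Fin.sum_univ_two] <;> ring

theorem slo1_pow (t : F) (n : ℕ) : (slo1 t) ^ n = slo1 (n * t) := by
  induction n with
  | zero => rw [pow_zero, Nat.cast_zero, zero_mul]; apply Subtype.ext; ext i j; fin_cases i <;> fin_cases j <;> simp [slo1]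
  | succ n ih =>
    rw [pow_succ, ih]
    apply Subtype.ext
    show (slo1 ((n : F) * t)).1 * (slo1 t).1 = (slo1 (((n + 1 : ℕ) : F) * t)).1
    ext i j
    fin_cases i <;> fin_cases j <;> simp [slo1, Matrix.mul_apply, Fin.sum_univ_two] <;> ring

theorem isPGroup_of_pow {X : Type*} [Group X] {p : ℕ} {x : X} (h : x ^ p = 1) : IsPGroup p (zpowers x) := by
  rintro ⟨_, i, rfl⟩
  refine ⟨1, Subtype.ext ?_⟩
  change (x ^ i) ^ p ^ 1 = 1
  rw [pow_one, ← zpow_natCast, ← zpow_mul, mul_comm, zpow_mul, zpow_natCast, h, one_zpow]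

/-- **`SL₂(F)` is generated by `p`-elements** -/
theorem pgen_of_equiv {H : Type*} [Group H] {p : ℕ} [hchar : CharP F p] {K : Subgroup H}
    (e : Matrix.SpecialLinearGroup (Fin 2) F ≃* K) : ThreeCore.PGen p K := by
  intro X hX k hk
  have h1 : ∀ g : Matrix.SpecialLinearGroup (Fin 2) F, ((e g : K) : H) ∈ X := by
    intro g
    have h2 : Subgroup.closure (Set.range (sup1 (F := F)) ∪ Set.range (slo1 (F := F))) ≤
        X.comap (K.subtype.comp e.toMonoidHom) := by
      rw [closure_le]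
      rintro _ (⟨t, rfl⟩ | ⟨t, rfl⟩)
      · refine hX _ (e (sup1 t)).2 (isPGroup_of_pow ?_)
        have h3 : (sup1 t) ^ p = 1 := by
          rw [sup1_pow, CharP.cast_eq_zero, zero_mul]
          apply Subtype.ext; ext i j; fin_cases i <;> fin_cases j <;> simp [sup1]
        have h4 := congrArg (fun y => ((e y : K) : H)) h3
        simpa using h4
      · refine hX _ (e (slo1 t)).2 (isPGroup_of_pow ?_)
        have h3 : (slo1 t) ^ p = 1 := by
          rw [slo1_pow, CharP.cast_eq_zero, zero_mul]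
          apply Subtype.ext; ext i j; fin_cases i <;> fin_cases j <;> simp [slo1]
        have h4 := congrArg (fun y => ((e y : K) : H)) h3
        simpa using h4
    exact h2 (sl_mem_closure g)
  have h5 := h1 (e.symm ⟨k, hk⟩)
  rwa [e.apply_symm_apply] at h5

/-- `SpFacts` gives `SpPiece` -/
theorem SpFacts.spPiece {H : Type*} [Group H] {p : ℕ} {F : Type} [Field F] [CharP F p] {D K L : Subgroup H}
    (h : SpFacts p F D K L) (hf : CT.FixP p D) (mK : zz K ∈ K) (mL : zz L ∈ L) (sK : zz K * zz K = 1)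
    (sL : zz L * zz L = 1) (cK : ∀ x ∈ K, x * zz K = zz K * x) (cL : ∀ x ∈ L, x * zz L = zz L * x) :
    ThreeSp.SpPiece p D K L where
  comp := h.comp
  fix := hf
  left := h.left
  right := h.right
  memK := ⟨by obtain ⟨e⟩ := h.eK; exact pgen_of_equiv e, mK, sK, cK⟩
  memL := ⟨by obtain ⟨e⟩ := h.eL; exact pgen_of_equiv e, mL, sL, cL⟩
  comm := h.comm
  cent := h.cent
  pel := fun v hv w hw hvv hww => h.hmem v hv w hw hvv hww
  gen := by
    intro v hv w hw hvv hww
    refine (h.gen v hv w hw hvv hww).trans (sup_le le_sup_left (le_sup_of_le_right (le_inf jL_le ?_)))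
    intro x hx
    exact mem_centralizer_singleton_iff.2 (jL_comm hx)

end PGen

/-! ### The local data -/

section Loc

open SubCent UseT CoresG

variable {G : Type u} [Group G] [Finite G] {Om : Set (Subgroup G)} {S : Sylow 2 G} {K1 K2 K3 : Subgroup G}

theorem qt_eq_qm {K : Subgroup G} {x : G} (h : x ∈ centralizer ({zz K} : Set G)) :
    ThreeCore.qt K x = qm (centralizer {zz K}) ⟨x, h⟩ := ThreeCore.qt_eq h

/-- `K` is normalised by `C(z_K)` -/
theorem tr_normal (hp : TriFact.Pre Om) (ty : ∀ K ∈ Om, IsType K) (h1 : K1 ∈ OmS Om (S : Subgroup G)) :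
    (tr (centralizer {zz K1}) K1).Normal := by
  have hc := mem_cov hp.hyp S.isPGroup' h1 (zz_mem_ES h1)
  rw [← normalizer_eq_top_iff, eq_top_iff]
  intro g _
  obtain ⟨x, rfl⟩ := qm_surjective _ g
  rw [mem_normalizer_iff_cj, ← tr_cj ty x hc, hp.cj_eq h1.1 (mem_centralizer_singleton_iff.1 x.2)]

theorem PP_ne (hp : TriFact.Pre Om) (ty : ∀ K ∈ Om, IsType K) (hpc : HasPieces (fam Om (centralizer {zz K1})))
    (h1 : K1 ∈ OmS Om (S : Subgroup G)) (h2 : K2 ∈ OmS Om (S : Subgroup G)) (n12 : K1 ≠ K2) :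
    px Om (centralizer {zz K1}) K2 ≠ px Om (centralizer {zz K1}) K1 := by
  have hS := S.isPGroup'
  have hE := zz_mem_ES h1
  have hc1 := mem_cov hp.hyp hS h1 hE
  have hc2 := mem_cov hp.hyp hS h2 hE
  have hD := DD_le_cent hp.hyp hS hE
  have h1' : K1 ∈ OmS Om (DD Om (S : Subgroup G)) := by rw [OmS_DD hS]; exact h1
  have h2' : K2 ∈ OmS Om (DD Om (S : Subgroup G)) := by rw [OmS_DD hS]; exact h2
  have e1 := px_eq_tr_of_central hp.hyp ty hpc.core hc1 le_rfl
  intro he
  have h3 : tr (centralizer {zz K1}) K2 ≤ tr (centralizer {zz K1}) K1 := by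
    rw [← e1, ← he]; exact tr_le_px
  have h4 := comm_tr hp.hyp ty hpc.core hc2 hc1 (hS.to_le DD_le) hD h2' h1' n12.symm
  exact tr_not_comm_self hp.hyp ty hc2 (h4.trans (centralizer_le h3))

/-- the piece of `K₂` is normal -/
theorem PP_normal (hp : TriFact.Pre Om) (ty : ∀ K ∈ Om, IsType K) (hpc : HasPieces (fam Om (centralizer {zz K1})))
    (h1 : K1 ∈ OmS Om (S : Subgroup G)) (h2 : K2 ∈ OmS Om (S : Subgroup G)) (h3 : K3 ∈ OmS Om (S : Subgroup G))
    (n12 : K1 ≠ K2) (n13 : K1 ≠ K3) (n23 : K2 ≠ K3) (hD : CoreThree.PP Om K1 K2 = CoreThree.PP Om K1 K3) :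
    (CoreThree.PP Om K1 K2).Normal := by
  classical
  have hS := S.isPGroup'
  have hE := zz_mem_ES h1
  set H := centralizer ({zz K1} : Set G) with hH
  have hc1 := mem_cov hp.hyp hS h1 hE
  have hc2 := mem_cov hp.hyp hS h2 hE
  have hc3 := mem_cov hp.hyp hS h3 hE
  have hDH := DD_le_cent hp.hyp hS hE
  have hS' := hS.to_le (DD_le (Om := Om) (S := (S : Subgroup G)))
  have h1' : K1 ∈ OmS Om (DD Om (S : Subgroup G)) := by rw [OmS_DD hS]; exact h1
  have h2' : K2 ∈ OmS Om (DD Om (S : Subgroup G)) := by rw [OmS_DD hS]; exact h2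
  have h3' : K3 ∈ OmS Om (DD Om (S : Subgroup G)) := by rw [OmS_DD hS]; exact h3
  have hf := hyp_fam hp.hyp ty H
  rw [← normalizer_eq_top_iff, eq_top_iff]
  intro g _
  obtain ⟨x, rfl⟩ := qm_surjective _ g
  rw [mem_normalizer_iff_cj]
  have hcx := cj_mem_cov' hp.hyp hc2 x.2
  have e1 : cj (qm H x) (CoreThree.PP Om K1 K2) = px Om H (cj (x : G) K2) := (px_cj hp.hyp ty x hc2).symm
  rw [e1]
  by_contra hne
  -- four commuting traces
  have hne' : px Om H (cj (x : G) K2) ≠ px Om H K2 := hne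
  have hne3 : px Om H (cj (x : G) K2) ≠ px Om H K3 := by
    have : px Om H K3 = px Om H K2 := hD.symm
    rw [this]; exact hne'
  have hx1 : cj (x : G) K1 = K1 := hp.cj_eq h1.1 (mem_centralizer_singleton_iff.1 x.2)
  have hne1 : px Om H (cj (x : G) K2) ≠ px Om H K1 := by
    intro he
    have h5 : px Om H (cj (x : G) K1) = px Om H K1 := by rw [hx1]
    rw [← h5, px_cj hp.hyp ty x hc1, px_cj hp.hyp ty x hc2] at he
    exact PP_ne hp ty hpc h1 h2 n12 (cj_inj.1 he)
  have c12 := comm_tr hp.hyp ty hpc.core hc1 hc2 hS' hDH h1' h2' n12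
  have c13 := comm_tr hp.hyp ty hpc.core hc1 hc3 hS' hDH h1' h3' n13
  have c23 := comm_tr hp.hyp ty hpc.core hc2 hc3 hS' hDH h2' h3' n23
  have cx : ∀ L ∈ cov Om H, px Om H (cj (x : G) K2) ≠ px Om H L →
      tr H (cj (x : G) K2) ≤ centralizer (tr H L : Set (HQ H)) := fun L hL h =>
    (tr_le_px.trans (px_comm hcx hL h)).trans (centralizer_le tr_le_px)
  have cx1 := cx K1 hc1 hne1
  have cx2 := cx K2 hc2 hne'
  have cx3 := cx K3 hc3 hne3
  have hns : ∀ L ∈ cov Om H, ∀ M ∈ cov Om H, tr H L ≤ centralizer (tr H M : Set (HQ H)) → tr H L ≠ tr H M := by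
    intro L hL M hM h4 he
    rw [← he] at h4
    exact tr_not_comm_self hp.hyp ty hL h4
  have n1 := hns _ hc1 _ hc2 c12
  have n2 := hns _ hc1 _ hc3 c13
  have n3 := hns _ hc2 _ hc3 c23
  have m1 := hns _ hcx _ hc1 cx1
  have m2 := hns _ hcx _ hc2 cx2
  have m3 := hns _ hcx _ hc3 cx3
  have hcard := ThreeLift.ncard_le (n := 3) hp.hyp ty hp.three
    (C := {tr H (cj (x : G) K2), tr H K1, tr H K2, tr H K3}) (by
      rintro J (rfl | rfl | rfl | hJ)
      · exact tr_mem hcx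
      · exact tr_mem hc1
      · exact tr_mem hc2
      · have hJ' : J = tr H K3 := hJ
        rw [hJ']; exact tr_mem hc3) (by
      have key : ∀ {A B : Subgroup (HQ H)}, A ≤ centralizer (B : Set (HQ H)) → TypeDet.cm A B ∧ TypeDet.cm B A := by
        intro A B h4
        have h5 := TypeDet.cm_iff_le_centralizer.2 h4
        exact ⟨h5, TypeDet.cm_symm h5⟩
      rintro A (rfl | rfl | rfl | hA) B (rfl | rfl | rfl | hB) hAB
      · exact absurd rfl hAB
      · exact (key cx1).1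
      · exact (key cx2).1
      · have hB' : B = tr H K3 := hB
        rw [hB']; exact (key cx3).1
      · exact (key cx1).2
      · exact absurd rfl hAB
      · exact (key c12).1
      · have hB' : B = tr H K3 := hB
        rw [hB']; exact (key c13).1
      · exact (key cx2).2
      · exact (key c12).2
      · exact absurd rfl hAB
      · have hB' : B = tr H K3 := hB
        rw [hB']; exact (key c23).1
      · have hA' : A = tr H K3 := hA
        rw [hA']; exact (key cx3).2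
      · have hA' : A = tr H K3 := hA
        rw [hA']; exact (key c13).2
      · have hA' : A = tr H K3 := hA
        rw [hA']; exact (key c23).2
      · have hA' : A = tr H K3 := hA
        have hB' : B = tr H K3 := hB
        exact absurd (hA'.trans hB'.symm) hAB)
  rw [Set.ncard_insert_of_notMem (by
      simp only [Set.mem_insert_iff, Set.mem_singleton_iff, not_or]; exact ⟨m1, m2, m3⟩),
    Set.ncard_insert_of_notMem (by
      simp only [Set.mem_insert_iff, Set.mem_singleton_iff, not_or]; exact ⟨n1, n2⟩),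
    Set.ncard_pair n3] at hcard
  omega

/-- **the local data** -/
theorem loc_of (hodd : OddStmt.{u}) (hfix : FixStmt.{u}) (hp : TriFact.Pre Om) (ty : ∀ K ∈ Om, IsType K)
    (hpc : HasPieces (fam Om (centralizer {zz K1}))) {p : ℕ} {F : Type} [Field F] [CharP F p]
    (h1 : K1 ∈ OmS Om (S : Subgroup G)) (h2 : K2 ∈ OmS Om (S : Subgroup G)) (h3 : K3 ∈ OmS Om (S : Subgroup G))
    (n12 : K1 ≠ K2) (n13 : K1 ≠ K3) (n23 : K2 ≠ K3) (hD : CoreThree.PP Om K1 K2 = CoreThree.PP Om K1 K3)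
    (hsp : SpFacts p F (CoreThree.PP Om K1 K2) (tr (centralizer {zz K1}) K2) (tr (centralizer {zz K1}) K3))
    (hch : Nonempty (Nodes.Chart.Chart (fam Om (centralizer {zz K1})) p (CoreThree.PP Om K1 K2))) :
    Loc Om p F (S : Subgroup G) K1 K2 K3 := by
  have hS := S.isPGroup'
  have hE := zz_mem_ES h1
  have hc1 := mem_cov hp.hyp hS h1 hE
  have hc2 := mem_cov hp.hyp hS h2 hE
  have hf := hyp_fam hp.hyp ty (centralizer {zz K1})
  have e1 := px_eq_tr_of_central hp.hyp ty hpc.core hc1 le_rfl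
  have hz : zz K1 ∈ centralizer ({zz K1} : Set G) := mem_centralizer_singleton_iff.2 rfl
  have hc3 := mem_cov hp.hyp hS h3 hE
  have hfx := hfix _ _ hf (core_HQ _) p _ hsp.comp hch
  have hcc : ∀ {K : Subgroup G}, K ∈ cov Om (centralizer {zz K1}) → ∀ x ∈ tr (centralizer {zz K1}) K,
      x * zz (tr (centralizer {zz K1}) K) = zz (tr (centralizer {zz K1}) K) * x := fun hK x hx =>
    mem_centralizer_singleton_iff.1 (hf.le_centralizer (tr_mem hK) hx)
  refine ⟨core_HQ _, hodd.evQ _, hsp, hfx,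
    hsp.spPiece hfx (hf.zz_mem (tr_mem hc2)) (hf.zz_mem (tr_mem hc3)) (hf.zz_mul (tr_mem hc2)) (hf.zz_mul (tr_mem hc3))
      (hcc hc2) (hcc hc3), PP_normal hp ty hpc h1 h2 h3 n12 n13 n23 hD, tr_normal hp ty h1, ?_, ?_, ?_, ?_⟩
  · intro x hx y hy
    have h4 := px_comm hc1 hc2 (PP_ne hp ty hpc h1 h2 n12).symm
    rw [e1] at h4
    exact (mem_centralizer_iff.1 (h4 hx) y hy).symm
  · intro x hx hxx
    by_cases hx1 : x = 1
    · exact Or.inl hx1
    · refine Or.inr (hf.uniq _ (tr_mem hc1) x hx ?_)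
      exact orderOf_eq_prime (by rw [pow_two]; exact hxx) hx1
  · intro K hK
    have hc := mem_cov hp.hyp hS hK hE
    rw [zz_tr hp.hyp ty hc, qt_eq_qm (zz_mem_of_cov hp.hyp hc)]
  · intro K hK x hx
    have hxH : x ∈ centralizer ({zz K1} : Set G) := DD_le_cent hp.hyp hS hE (inf_le_DD hK hx)
    obtain ⟨a, ha⟩ := hS ⟨x, hx.2⟩
    rw [qt_eq_qm hxH]
    exact mem_tr ty (mem_cov hp.hyp hS hK hE) hx.1 (a := a) (Subtype.ext (by simpa using congrArg Subtype.val ha))

/-- **all data** -/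
theorem all_of (hodd : OddStmt.{u}) (hfix : FixStmt.{u}) (hm : MinS Om) (hp : TriFact.Pre Om)
    (hcon : CoreThree.Con Om) {p : ℕ} [hpp : Fact p.Prime] (hp2 : p ≠ 2) {F : Type} [Field F] [Finite F] [CharP F p]
    (hsp : ∀ S : Sylow 2 G, ∀ K ∈ OmS Om (S : Subgroup G), ∀ L ∈ OmS Om (S : Subgroup G),
      ∀ M ∈ OmS Om (S : Subgroup G), K ≠ L → K ≠ M → L ≠ M →
        SpFacts p F (CoreThree.PP Om K L) (tr (centralizer {zz K}) L) (tr (centralizer {zz K}) M) ∧
        Nonempty (Nodes.Chart.Chart (fam Om (centralizer {zz K})) p (CoreThree.PP Om K L))) : All Om p F where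
  prime := hpp.out
  char := inferInstance
  fin := inferInstance
  odd := hp2
  tri := hp.tri hm.isType
  ty := hm.isType
  solv X hX := hodd X hX
  loc := by
    intro S K1 h1 K2 h2 K3 h3 n12 n13 n23
    obtain ⟨h4, h5⟩ := hsp S K1 h1 K2 h2 K3 h3 n12 n13 n23
    exact loc_of hodd hfix hp hm.isType (hm.fam_cent (hp.hyp.zz_ne h1.1)) h1 h2 h3 n12 n13 n23
      (hcon S K1 h1 K2 h2 K3 h3 n12 n13) h4 h5

end Loc

/-! ### (S3) -/

namespace All

variable {G : Type u} [Group G] [Finite G] {Om : Set (Subgroup G)} {S : Sylow 2 G} {K1 K2 K3 : Subgroup G}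
  {p : ℕ} {F : Type} [Field F] {v1 v2 v3 : G}

/-- the local data at `K₁` -/
theorem vloc (g : All Om p F) (d : VD Om (S : Subgroup G) K1 K2 K3 v1 v2 v3) : Loc Om p F (S : Subgroup G) K1 K2 K3 :=
  g.loc S K1 d.m1 K2 d.m2 K3 d.m3 d.n12 d.n13 d.n23

theorem mem_cent (g : All Om p F) (d : VD Om (S : Subgroup G) K1 K2 K3 v1 v2 v3) {a b : G}
    (ha : a ∈ AA Om (S : Subgroup G) (v1 * (v2 * v3))) (hb : b ∈ AA Om (S : Subgroup G) (v1 * (v2 * v3))) :
    a ∈ centralizer ({b} : Set G) := d.le_centralizer g.tri hb ha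

/-- **(S3)** -/
theorem balance (g : All Om p F) (d : VD Om (S : Subgroup G) K1 K2 K3 v1 v2 v3) :
    XX (zz K1) ⊓ centralizer {zz K2} ≤ XX (zz K2) := by
  haveI : Fact p.Prime := ⟨g.prime⟩
  rintro x ⟨hx, hxc⟩
  have loc := g.vloc d.rot
  have hz := g.mem_cent d d.z1_mem d.z2_mem
  have h1 := ThreeCore.qt_mem_XX hz (g.tri.hyp.zz_mul d.m1.1) hx hxc
  have h2 := loc.sp.symm.XX_eq_bot loc.core loc.ev
  rw [loc.zt K1 d.m1] at h2
  rw [h2, mem_bot] at h1
  exact (ThreeCore.qt_eq_one hxc).1 h1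

end All

end Cfsg.Agent.Cit.Sp4
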