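import Cfsg.Agent.Cit.ThreeConn

/-!
# The facts on `D = Sp₄(F)` used for the cores of `|Om(S)| = 3`, `z₁ z₂ z₃ = 1`

`SpFacts p F D K L` : the facts (a)-(d) of helper145's bb R18 #12320 about the component `D` of `H = C(z₁) / O(C(z₁))`
(`D / Z(D) ≅ PSp₄(F)`, `char F = p`) and two commuting members `K`, `L` of `D` (`z_K z_L = z₁ ∈ Z(D)`).

`jL p D j` is the subgroup generated by the `p`-elements of `C_D(j)`; for `j = v w`, `v ∈ K`, `w ∈ L` of order 4, it is
isomorphic to `SL₂(F)`, contains `z₁` and `h = v w⁻¹`, and `D = ⟨K, L, jL⟩`.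
-/

set_option autoImplicit false

namespace Cfsg.Agent.Cit.Sp4

open Subgroup Cfsg Cfsg.Agent.Cit Cfsg.Agent.SignalizersComponents.Components
open Pointwise

universe u

section Local

variable {H : Type*} [Group H]

/-- the subgroup generated by the `p`-elements of `C_D(j)` -/
def jL (p : ℕ) (D : Subgroup H) (j : H) : Subgroup H :=
  closure {x | x ∈ D ∧ IsPGroup p (zpowers x) ∧ x * j = j * x}

theorem jL_le {p : ℕ} {D : Subgroup H} {j : H} : jL p D j ≤ D := by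
  rw [jL, closure_le]
  exact fun x hx => hx.1

theorem jL_comm {p : ℕ} {D : Subgroup H} {j x : H} (hx : x ∈ jL p D j) : x * j = j * x := by
  have h1 : jL p D j ≤ centralizer {j} := by
    rw [jL, closure_le]
    intro y hy
    exact mem_centralizer_singleton_iff.2 hy.2.2
  exact mem_centralizer_singleton_iff.1 (h1 hx)

theorem cj_jL {p : ℕ} {D : Subgroup H} {j x : H} (hx : x ∈ normalizer (D : Set H))
    (hj : x * j * x⁻¹ = j ∨ x * j * x⁻¹ = j⁻¹) : cj x (jL p D j) = jL p D j := by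
  have key : ∀ y : H, y ∈ normalizer (D : Set H) → (y * j * y⁻¹ = j ∨ y * j * y⁻¹ = j⁻¹) →
      cj y (jL p D j) ≤ jL p D j := by
    intro y hy hyj
    rw [cj, jL, MonoidHom.map_closure, closure_le]
    rintro _ ⟨x, ⟨hxD, hxp, hxj⟩, rfl⟩
    refine subset_closure ⟨?_, ?_, ?_⟩
    · exact (mem_normalizer_iff.1 hy x).1 hxD
    · have h1 := hxp.map (MulAut.conj y).toMonoidHom
      rwa [MonoidHom.map_zpowers] at h1
    · have h2 : (y * x * y⁻¹) * (y * j * y⁻¹) = (y * j * y⁻¹) * (y * x * y⁻¹) := by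
        calc (y * x * y⁻¹) * (y * j * y⁻¹) = y * (x * j) * y⁻¹ := by group
          _ = (y * j * y⁻¹) * (y * x * y⁻¹) := by rw [hxj]; group
      have h3 : Commute (y * x * y⁻¹) (y * j * y⁻¹) := h2
      rcases hyj with e | e
      · rw [e] at h3
        exact h3
      · rw [e] at h3
        exact (Commute.inv_right_iff.1 h3)
  refine le_antisymm (key x hx hj) ?_
  have h1 := key x⁻¹ (inv_mem hx) (by
    rcases hj with e | e
    · left
      calc x⁻¹ * j * x⁻¹⁻¹ = x⁻¹ * (x * j * x⁻¹) * x := by rw [e, inv_inv]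
        _ = j := by group
    · right
      have e' : x * j⁻¹ * x⁻¹ = j := by
        have := congrArg (·⁻¹) e
        simpa [mul_assoc] using this
      calc x⁻¹ * j * x⁻¹⁻¹ = x⁻¹ * (x * j⁻¹ * x⁻¹) * x := by rw [e', inv_inv]
        _ = j⁻¹ := by group)
  intro y hy
  have h2 : x⁻¹ * y * x ∈ jL p D j := h1 ⟨y, hy, by simp⟩
  exact ⟨x⁻¹ * y * x, h2, by simp [mul_assoc]⟩

/-- **the facts on `D`** (`D / Z(D) ≅ PSp₄(F)`) and two commuting members `K`, `L` of `D` -/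
structure SpFacts (p : ℕ) (F : Type) [Field F] (D K L : Subgroup H) : Prop where
  comp : IsComponent D
  left : K ≤ D
  right : L ≤ D
  eK : Nonempty (Matrix.SpecialLinearGroup (Fin 2) F ≃* K)
  eL : Nonempty (Matrix.SpecialLinearGroup (Fin 2) F ≃* L)
  comm : ∀ x ∈ K, ∀ y ∈ L, x * y = y * x
  ne : zz K ≠ zz L
  zcen : ∀ x ∈ D, x * (zz K * zz L) = zz K * zz L * x
  /-- (a) `C_D(z_K) = K L` -/
  cen : ∀ x ∈ D, x * zz K = zz K * x → x ∈ K ⊔ L
  /-- (b) `C_{Aut D}(K L)` is a 2-group -/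
  cent : ∀ u : H, u ∈ normalizer (D : Set H) → ¬ 2 ∣ orderOf u → u ∈ centralizer (K : Set H) →
    u ∈ centralizer (L : Set H) → u ∈ centralizer (D : Set H)
  /-- (c) -/
  iso : ∀ v ∈ K, ∀ w ∈ L, v * v = zz K → w * w = zz L →
    Nonempty (Matrix.SpecialLinearGroup (Fin 2) F ≃* jL p D (v * w))
  zmem : ∀ v ∈ K, ∀ w ∈ L, v * v = zz K → w * w = zz L → zz K * zz L ∈ jL p D (v * w)
  hmem : ∀ v ∈ K, ∀ w ∈ L, v * v = zz K → w * w = zz L → v * w⁻¹ ∈ jL p D (v * w)
  /-- (d) -/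
  gen : ∀ v ∈ K, ∀ w ∈ L, v * v = zz K → w * w = zz L → D ≤ K ⊔ L ⊔ jL p D (v * w)

end Local

end Cfsg.Agent.Cit.Sp4
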