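import Cfsg.Agent.Cit.ThreeCoreSLG
import Cfsg.Agent.Cit.SpFacts

/-!
# Cores for `|Om(S)| = 3`, `z₁ z₂ z₃ = 1`, type `Sp₄(q)`: the configuration

`VD Om S K₁ K₂ K₃ v₁ v₂ v₃` : `Om(S) = {K₁, K₂, K₃}`, `v_i ∈ K_i ∩ S`, `v_i² = z_i`. `f = v₁ (v₂ v₃)` is an involution,
`AA Om S f = E(S) ∪ E(S) f` is elementary abelian of order 8; it does not change if the indices are permuted or `v_i` is
replaced by `v_i⁻¹`.
-/

set_option autoImplicit false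
set_option linter.style.haveILetI false
set_option linter.unusedSectionVars false

namespace Cfsg.Agent.Cit.Sp4

open Subgroup Cfsg Cfsg.Agent.Cit Cfsg.Agent.Cit.TorFunctor

variable {G : Type*} [Group G]

/-- `A = E(S) ∪ E(S) f` -/
def AA (Om : Set (Subgroup G)) (S : Subgroup G) (f : G) : Subgroup G := ES Om S ⊔ zpowers f

/-- `K₁, K₂, K₃ ∈ Om(S)`, `v_i ∈ K_i ∩ S`, `v_i² = z_i` -/
structure VD (Om : Set (Subgroup G)) (S K1 K2 K3 : Subgroup G) (v1 v2 v3 : G) : Prop where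
  m1 : K1 ∈ OmS Om S
  m2 : K2 ∈ OmS Om S
  m3 : K3 ∈ OmS Om S
  n12 : K1 ≠ K2
  n13 : K1 ≠ K3
  n23 : K2 ≠ K3
  k1 : v1 ∈ K1
  k2 : v2 ∈ K2
  k3 : v3 ∈ K3
  s1 : v1 ∈ S
  s2 : v2 ∈ S
  s3 : v3 ∈ S
  q1 : v1 * v1 = zz K1
  q2 : v2 * v2 = zz K2
  q3 : v3 * v3 = zz K3

section AA

variable {Om : Set (Subgroup G)} {S : Subgroup G} {f x : G}

theorem ES_le_AA : ES Om S ≤ AA Om S f := le_sup_left

theorem self_mem_AA : f ∈ AA Om S f := mem_sup_right (mem_zpowers f)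

theorem mem_AA (hf : f * f = 1) (hE : ∀ e ∈ ES Om S, e * f = f * e) :
    x ∈ AA Om S f ↔ x ∈ ES Om S ∨ x * f ∈ ES Om S := by
  constructor
  · intro h
    have h1 : AA Om S f ≤ ThreeCore.ext (ES Om S) f hf hE :=
      sup_le ThreeCore.le_ext (by rw [zpowers_le]; exact ThreeCore.self_mem_ext)
    exact h1 h
  · rintro (h | h)
    · exact ES_le_AA h
    · have h1 : x = (x * f) * f⁻¹ := by group
      rw [h1]
      exact mul_mem (ES_le_AA h) (inv_mem self_mem_AA)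

theorem AA_eq_ext (hf : f * f = 1) (hE : ∀ e ∈ ES Om S, e * f = f * e) :
    AA Om S f = ThreeCore.ext (ES Om S) f hf hE := by
  ext x
  exact mem_AA hf hE

/-- `A` does not change if `f` is replaced by `e f`, `e ∈ E(S)` -/
theorem AA_mul {e : G} (he : e ∈ ES Om S) : AA Om S (e * f) = AA Om S f := by
  apply le_antisymm
  · refine sup_le le_sup_left ?_
    rw [zpowers_le]
    exact mul_mem (ES_le_AA he) self_mem_AA
  · refine sup_le le_sup_left ?_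
    rw [zpowers_le]
    have h1 : f = e⁻¹ * (e * f) := by group
    have h2 : e⁻¹ * (e * f) ∈ AA Om S (e * f) := mul_mem (ES_le_AA (inv_mem he)) self_mem_AA
    rwa [← h1] at h2

end AA

namespace VD

variable {Om : Set (Subgroup G)} {K1 K2 K3 : Subgroup G} {v1 v2 v3 : G}

section Perm

variable {S : Subgroup G}

theorem rot (d : VD Om S K1 K2 K3 v1 v2 v3) : VD Om S K2 K3 K1 v2 v3 v1 :=
  ⟨d.m2, d.m3, d.m1, d.n23, d.n12.symm, d.n13.symm, d.k2, d.k3, d.k1, d.s2, d.s3, d.s1, d.q2, d.q3, d.q1⟩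

theorem swap (d : VD Om S K1 K2 K3 v1 v2 v3) : VD Om S K1 K3 K2 v1 v3 v2 :=
  ⟨d.m1, d.m3, d.m2, d.n13, d.n12, d.n23.symm, d.k1, d.k3, d.k2, d.s1, d.s3, d.s2, d.q1, d.q3, d.q2⟩

theorem inv1 [Finite G] (h : Hyp Om) (d : VD Om S K1 K2 K3 v1 v2 v3) : VD Om S K1 K2 K3 v1⁻¹ v2 v3 :=
  ⟨d.m1, d.m2, d.m3, d.n12, d.n13, d.n23, K1.inv_mem d.k1, d.k2, d.k3, S.inv_mem d.s1, d.s2, d.s3,
    by rw [← mul_inv_rev, d.q1, h.zz_inv d.m1.1], d.q2, d.q3⟩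

theorem inv2 [Finite G] (h : Hyp Om) (d : VD Om S K1 K2 K3 v1 v2 v3) : VD Om S K1 K2 K3 v1 v2⁻¹ v3 :=
  ((d.rot.inv1 h).rot).rot

theorem inv3 [Finite G] (h : Hyp Om) (d : VD Om S K1 K2 K3 v1 v2 v3) : VD Om S K1 K2 K3 v1 v2 v3⁻¹ :=
  ((d.rot.rot.inv1 h).rot)

end Perm

section Basic

variable [Finite G] {S : Subgroup G}

theorem zinv (h : Hyp Om) (d : VD Om S K1 K2 K3 v1 v2 v3) : v1⁻¹ = zz K1 * v1 := by
  rw [inv_eq_iff_mul_eq_one, ← d.q1]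
  have h1 := h.zz_mul d.m1.1
  rw [← d.q1] at h1
  calc v1 * (v1 * v1 * v1) = v1 * v1 * (v1 * v1) := by group
    _ = 1 := h1

theorem comm12 (h : Hyp Om) (hS : IsPGroup 2 S) (d : VD Om S K1 K2 K3 v1 v2 v3) : v1 * v2 = v2 * v1 :=
  h.comm hS d.m1 d.m2 d.n12 ⟨d.k1, d.s1⟩ ⟨d.k2, d.s2⟩

theorem comm23 (h : Hyp Om) (hS : IsPGroup 2 S) (d : VD Om S K1 K2 K3 v1 v2 v3) : v2 * v3 = v3 * v2 :=
  d.rot.comm12 h hS

theorem comm13 (h : Hyp Om) (hS : IsPGroup 2 S) (d : VD Om S K1 K2 K3 v1 v2 v3) : v1 * v3 = v3 * v1 :=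
  d.swap.comm12 h hS

theorem mem_DD (d : VD Om S K1 K2 K3 v1 v2 v3) : v1 ∈ DD Om S := inf_le_DD d.m1 ⟨d.k1, d.s1⟩

theorem f_mem_DD (d : VD Om S K1 K2 K3 v1 v2 v3) : v1 * (v2 * v3) ∈ DD Om S :=
  mul_mem d.mem_DD (mul_mem d.rot.mem_DD d.rot.rot.mem_DD)

theorem f_mem (d : VD Om S K1 K2 K3 v1 v2 v3) : v1 * (v2 * v3) ∈ S := DD_le d.f_mem_DD

/-- `f` commutes with `E(S)` -/
theorem f_comm (h : Hyp Om) (hS : IsPGroup 2 S) (d : VD Om S K1 K2 K3 v1 v2 v3) :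
    ∀ e ∈ ES Om S, e * (v1 * (v2 * v3)) = v1 * (v2 * v3) * e := fun e he =>
  mem_centralizer_iff.1 (DD_le_centralizer_ES h hS d.f_mem_DD) e he

theorem v_comm (h : Hyp Om) (hS : IsPGroup 2 S) (d : VD Om S K1 K2 K3 v1 v2 v3) :
    ∀ e ∈ ES Om S, e * v1 = v1 * e := fun e he =>
  mem_centralizer_iff.1 (DD_le_centralizer_ES h hS d.mem_DD) e he

theorem f_rot (h : Hyp Om) (hS : IsPGroup 2 S) (d : VD Om S K1 K2 K3 v1 v2 v3) :
    v2 * (v3 * v1) = v1 * (v2 * v3) := by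
  rw [← d.comm13 h hS, ← mul_assoc, ← d.comm12 h hS, mul_assoc]

theorem f_swap (h : Hyp Om) (hS : IsPGroup 2 S) (d : VD Om S K1 K2 K3 v1 v2 v3) :
    v1 * (v3 * v2) = v1 * (v2 * v3) := by
  rw [d.comm23 h hS]

theorem f_inv1 (h : Hyp Om) (d : VD Om S K1 K2 K3 v1 v2 v3) :
    v1⁻¹ * (v2 * v3) = zz K1 * (v1 * (v2 * v3)) := by
  rw [d.zinv h, mul_assoc]

theorem f_inv2 (h : Hyp Om) (hS : IsPGroup 2 S) (d : VD Om S K1 K2 K3 v1 v2 v3) :
    v1 * (v2⁻¹ * v3) = zz K2 * (v1 * (v2 * v3)) := by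
  rw [← ((d.inv2 h).f_rot h hS), d.rot.f_inv1 h, d.f_rot h hS]

theorem f_inv3 (h : Hyp Om) (hS : IsPGroup 2 S) (d : VD Om S K1 K2 K3 v1 v2 v3) :
    v1 * (v2 * v3⁻¹) = zz K3 * (v1 * (v2 * v3)) := by
  rw [← d.f_swap h hS, ← d.swap.f_inv2 h hS, (d.inv3 h).f_swap h hS]

/-- `z₂ = (v₂ v₃⁻¹) v₁⁻¹ f` -/
theorem z2_eq (h : Hyp Om) (hS : IsPGroup 2 S) (d : VD Om S K1 K2 K3 v1 v2 v3) :
    zz K2 = (v2 * v3⁻¹) * v1⁻¹ * (v1 * (v2 * v3)) := by
  rw [← d.q2]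
  calc v2 * v2 = v2 * (v3⁻¹ * v3) * v2 := by group
    _ = v2 * v3⁻¹ * (v3 * v2) := by group
    _ = v2 * v3⁻¹ * (v2 * v3) := by rw [d.comm23 h hS]
    _ = (v2 * v3⁻¹) * v1⁻¹ * (v1 * (v2 * v3)) := by group

end Basic

section Tri

variable [Finite G] {S : Sylow 2 G}

theorem OmS_eq (t : Tri Om) (d : VD Om (S : Subgroup G) K1 K2 K3 v1 v2 v3) :
    OmS Om (S : Subgroup G) = {K1, K2, K3} := by
  obtain ⟨L2, L3, hE, -, -, -⟩ := t.exists_three S d.m1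
  have h2 : K2 ∈ ({K1, L2, L3} : Set (Subgroup G)) := hE ▸ d.m2
  have h3 : K3 ∈ ({K1, L2, L3} : Set (Subgroup G)) := hE ▸ d.m3
  rw [hE]
  rcases h2 with h2 | h2 | h2
  · exact absurd h2.symm d.n12
  · rcases h3 with h3 | h3 | h3
    · exact absurd h3.symm d.n13
    · exact absurd (h2.trans h3.symm) d.n23
    · have h3' : K3 = L3 := h3
      rw [h2, h3']
  · have h2' : K2 = L3 := h2
    rcases h3 with h3 | h3 | h3
    · exact absurd h3.symm d.n13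
    · rw [h2', h3]
      ext x; simp only [Set.mem_insert_iff, Set.mem_singleton_iff]; tauto
    · exact absurd (h2.trans h3.symm) d.n23

theorem mul12 (t : Tri Om) (d : VD Om (S : Subgroup G) K1 K2 K3 v1 v2 v3) : zz K1 * zz K2 = zz K3 :=
  t.mul_eq S (d.OmS_eq t) d.n12

theorem mul23 (t : Tri Om) (d : VD Om (S : Subgroup G) K1 K2 K3 v1 v2 v3) : zz K2 * zz K3 = zz K1 :=
  d.rot.mul12 t

theorem mul13 (t : Tri Om) (d : VD Om (S : Subgroup G) K1 K2 K3 v1 v2 v3) : zz K1 * zz K3 = zz K2 :=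
  d.swap.mul12 t

theorem z_ne (t : Tri Om) (d : VD Om (S : Subgroup G) K1 K2 K3 v1 v2 v3) : zz K1 ≠ zz K2 := fun h =>
  d.n12 (t.inj d.m1.1 d.m2.1 h)

theorem mem_ES (t : Tri Om) (d : VD Om (S : Subgroup G) K1 K2 K3 v1 v2 v3) {a : G}
    (ha : a ∈ ES Om (S : Subgroup G)) : a = 1 ∨ a = zz K1 ∨ a = zz K2 ∨ a = zz K3 := by
  rcases t.mem_ES S ha with h | ⟨K, hK, rfl⟩
  · exact Or.inl h
  · rw [d.OmS_eq t] at hK
    rcases hK with rfl | rfl | hK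
    · exact Or.inr (Or.inl rfl)
    · exact Or.inr (Or.inr (Or.inl rfl))
    · have hK' : K = K3 := hK
      rw [hK']
      exact Or.inr (Or.inr (Or.inr rfl))

/-- `f` is an involution or `1` -/
theorem ff (t : Tri Om) (d : VD Om (S : Subgroup G) K1 K2 K3 v1 v2 v3) :
    v1 * (v2 * v3) * (v1 * (v2 * v3)) = 1 := by
  have hS := S.isPGroup'
  have h1 := d.comm12 t.hyp hS
  have h2 := d.comm13 t.hyp hS
  have h3 := d.comm23 t.hyp hS
  calc v1 * (v2 * v3) * (v1 * (v2 * v3)) = v1 * v2 * (v3 * v1) * v2 * v3 := by group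
    _ = v1 * (v2 * v1) * (v3 * v2) * v3 := by rw [← h2]; group
    _ = (v1 * v1) * ((v2 * v2) * (v3 * v3)) := by rw [← h1, ← h3]; group
    _ = 1 := by rw [d.q1, d.q2, d.q3, d.mul23 t, t.hyp.zz_mul d.m1.1]

/-- `v₁` is not central in `K₁ ∩ S` -/
theorem exists_not_comm (h : Hyp Om) (d : VD Om (S : Subgroup G) K1 K2 K3 v1 v2 v3) :
    ∃ x ∈ K1 ⊓ (S : Subgroup G), v1 * x ≠ x * v1 := by
  obtain ⟨c, v, n, hc⟩ := h.exists_gq d.m1.1 (syl_inf S.isPGroup' d.m1)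
  have hv4 : orderOf v1 = 4 := GQ.orderOf_of_sq d.q1 (h.zz_mul d.m1.1) (h.zz_ne d.m1.1)
  obtain ⟨x, hx, -, hxv⟩ := hc.exists_inverting ⟨d.k1, d.s1⟩ hv4
  refine ⟨x, hx, fun hcon => h.zz_ne d.m1.1 ?_⟩
  have h1 : v1 = v1⁻¹ := by
    calc v1 = v1 * x * x⁻¹ := by group
      _ = x * v1 * x⁻¹ := by rw [hcon]
      _ = v1⁻¹ := hxv
  calc zz K1 = v1 * v1 := d.q1.symm
    _ = v1 * v1⁻¹ := by rw [← h1]
    _ = 1 := mul_inv_cancel v1

theorem f_notMem (t : Tri Om) (d : VD Om (S : Subgroup G) K1 K2 K3 v1 v2 v3) :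
    v1 * (v2 * v3) ∉ ES Om (S : Subgroup G) := by
  intro hf
  have hS := S.isPGroup'
  obtain ⟨x, hx, hne⟩ := d.exists_not_comm t.hyp
  apply hne
  have h1 : x * (v1 * (v2 * v3)) = v1 * (v2 * v3) * x :=
    ((mem_centralizer_iff.1 (DD_le_centralizer_ES t.hyp hS (inf_le_DD d.m1 hx))) _ hf).symm
  have h2 : x * v2 = v2 * x := t.hyp.comm hS d.m1 d.m2 d.n12 hx ⟨d.k2, d.s2⟩
  have h3 : x * v3 = v3 * x := t.hyp.comm hS d.m1 d.m3 d.n13 hx ⟨d.k3, d.s3⟩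
  have h4 : v1 * x * (v2 * v3) = x * v1 * (v2 * v3) := by
    calc v1 * x * (v2 * v3) = v1 * (x * v2) * v3 := by group
      _ = v1 * v2 * (x * v3) := by rw [h2]; group
      _ = v1 * (v2 * v3) * x := by rw [h3]; group
      _ = x * v1 * (v2 * v3) := by rw [← h1]; group
  exact mul_right_cancel h4

theorem f_ne_one (t : Tri Om) (d : VD Om (S : Subgroup G) K1 K2 K3 v1 v2 v3) : v1 * (v2 * v3) ≠ 1 := fun h =>
  d.f_notMem t (h ▸ one_mem _)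

theorem mem_AA_iff (t : Tri Om) (d : VD Om (S : Subgroup G) K1 K2 K3 v1 v2 v3) {x : G} :
    x ∈ AA Om (S : Subgroup G) (v1 * (v2 * v3)) ↔ x ∈ ES Om (S : Subgroup G) ∨
      x * (v1 * (v2 * v3)) ∈ ES Om (S : Subgroup G) :=
  mem_AA (d.ff t) (d.f_comm t.hyp S.isPGroup')

/-- the elements of `A` -/
theorem cases (t : Tri Om) (d : VD Om (S : Subgroup G) K1 K2 K3 v1 v2 v3) {a : G}
    (ha : a ∈ AA Om (S : Subgroup G) (v1 * (v2 * v3))) (h1 : a ≠ 1) :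
    a = zz K1 ∨ a = zz K2 ∨ a = zz K3 ∨ a = v1 * (v2 * v3) ∨ a = zz K1 * (v1 * (v2 * v3)) ∨
      a = zz K2 * (v1 * (v2 * v3)) ∨ a = zz K3 * (v1 * (v2 * v3)) := by
  rcases (d.mem_AA_iff t).1 ha with h | h
  · rcases d.mem_ES t h with h | h | h | h
    · exact absurd h h1
    · exact Or.inl h
    · exact Or.inr (Or.inl h)
    · exact Or.inr (Or.inr (Or.inl h))
  · have h2 : a = (a * (v1 * (v2 * v3))) * (v1 * (v2 * v3)) := by rw [mul_assoc, d.ff t, mul_one]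
    rcases d.mem_ES t h with h | h | h | h
    · rw [h, one_mul] at h2
      exact Or.inr (Or.inr (Or.inr (Or.inl h2)))
    · rw [h] at h2
      exact Or.inr (Or.inr (Or.inr (Or.inr (Or.inl h2))))
    · rw [h] at h2
      exact Or.inr (Or.inr (Or.inr (Or.inr (Or.inr (Or.inl h2)))))
    · rw [h] at h2
      exact Or.inr (Or.inr (Or.inr (Or.inr (Or.inr (Or.inr h2)))))

theorem AA_le_DD (t : Tri Om) (d : VD Om (S : Subgroup G) K1 K2 K3 v1 v2 v3) :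
    AA Om (S : Subgroup G) (v1 * (v2 * v3)) ≤ DD Om (S : Subgroup G) :=
  sup_le (ES_le_DD t.hyp S.isPGroup') (by rw [zpowers_le]; exact d.f_mem_DD)

theorem z1_mem (d : VD Om (S : Subgroup G) K1 K2 K3 v1 v2 v3) : zz K1 ∈ AA Om (S : Subgroup G) (v1 * (v2 * v3)) :=
  ES_le_AA (zz_mem_ES d.m1)

theorem z2_mem (d : VD Om (S : Subgroup G) K1 K2 K3 v1 v2 v3) : zz K2 ∈ AA Om (S : Subgroup G) (v1 * (v2 * v3)) :=
  ES_le_AA (zz_mem_ES d.m2)

theorem z3_mem (d : VD Om (S : Subgroup G) K1 K2 K3 v1 v2 v3) : zz K3 ∈ AA Om (S : Subgroup G) (v1 * (v2 * v3)) :=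
  ES_le_AA (zz_mem_ES d.m3)

/-- `A` is commutative -/
theorem comm_AA (t : Tri Om) (d : VD Om (S : Subgroup G) K1 K2 K3 v1 v2 v3) {a b : G}
    (ha : a ∈ AA Om (S : Subgroup G) (v1 * (v2 * v3))) (hb : b ∈ AA Om (S : Subgroup G) (v1 * (v2 * v3))) :
    a * b = b * a := by
  have hS := S.isPGroup'
  have hf := d.f_comm t.hyp hS
  -- `A` centralises `E(S)` and `f`
  have h1 : AA Om (S : Subgroup G) (v1 * (v2 * v3)) ≤ centralizer (ES Om (S : Subgroup G) : Set G) :=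
    (d.AA_le_DD t).trans (DD_le_centralizer_ES t.hyp hS)
  have h2 : AA Om (S : Subgroup G) (v1 * (v2 * v3)) ≤ centralizer {v1 * (v2 * v3)} := by
    refine sup_le (fun e he => mem_centralizer_singleton_iff.2 (hf e he)) ?_
    rw [zpowers_le]
    exact mem_centralizer_singleton_iff.2 rfl
  have h3 : AA Om (S : Subgroup G) (v1 * (v2 * v3)) ≤ centralizer {a} := by
    refine sup_le ?_ ?_
    · intro e he
      exact mem_centralizer_singleton_iff.2 (mem_centralizer_iff.1 (h1 ha) e he)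
    · rw [zpowers_le]
      exact mem_centralizer_singleton_iff.2 (mem_centralizer_singleton_iff.1 (h2 ha)).symm
  exact (mem_centralizer_singleton_iff.1 (h3 hb)).symm

theorem sq_AA (t : Tri Om) (d : VD Om (S : Subgroup G) K1 K2 K3 v1 v2 v3) {a : G}
    (ha : a ∈ AA Om (S : Subgroup G) (v1 * (v2 * v3))) : a * a = 1 := by
  have hS := S.isPGroup'
  rcases (d.mem_AA_iff t).1 ha with h | h
  · exact ES_sq t.hyp hS h
  · have h1 := ES_sq t.hyp hS h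
    have h2 := d.comm_AA t ha self_mem_AA
    calc a * a = a * (v1 * (v2 * v3) * (v1 * (v2 * v3))) * a := by rw [d.ff t, mul_one]
      _ = a * (v1 * (v2 * v3)) * (v1 * (v2 * v3) * a) := by group
      _ = 1 := by rw [← h2, h1]

theorem le_centralizer (t : Tri Om) (d : VD Om (S : Subgroup G) K1 K2 K3 v1 v2 v3) {b : G}
    (hb : b ∈ AA Om (S : Subgroup G) (v1 * (v2 * v3))) : AA Om (S : Subgroup G) (v1 * (v2 * v3)) ≤ centralizer {b} :=
  fun _ ha => mem_centralizer_singleton_iff.2 (d.comm_AA t ha hb)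

theorem ES_eq_four (t : Tri Om) (d : VD Om (S : Subgroup G) K1 K2 K3 v1 v2 v3) :
    ES Om (S : Subgroup G) = four (zz K1) (zz K2) (t.hyp.zz_mul d.m1.1) (t.hyp.zz_mul d.m2.1)
      (ES_comm t.hyp S.isPGroup' (zz_mem_ES d.m1) (zz_mem_ES d.m2)) := by
  apply le_antisymm
  · intro x hx
    rcases d.mem_ES t hx with h | h | h | h
    · exact Or.inl h
    · exact Or.inr (Or.inl h)
    · exact Or.inr (Or.inr (Or.inl h))
    · exact Or.inr (Or.inr (Or.inr (h.trans (d.mul12 t).symm)))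
  · rintro x (h | h | h | h)
    · rw [h]; exact one_mem _
    · rw [h]; exact zz_mem_ES d.m1
    · rw [h]; exact zz_mem_ES d.m2
    · rw [h]; exact mul_mem (zz_mem_ES d.m1) (zz_mem_ES d.m2)

theorem card_ES (t : Tri Om) (d : VD Om (S : Subgroup G) K1 K2 K3 v1 v2 v3) :
    Nat.card (ES Om (S : Subgroup G)) = 4 := by
  rw [d.ES_eq_four t]
  exact card_four (t.hyp.zz_ne d.m1.1) (t.hyp.zz_ne d.m2.1) (d.z_ne t).symm

theorem card_AA (t : Tri Om) (d : VD Om (S : Subgroup G) K1 K2 K3 v1 v2 v3) :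
    Nat.card (AA Om (S : Subgroup G) (v1 * (v2 * v3))) = 8 := by
  rw [AA_eq_ext (d.ff t) (d.f_comm t.hyp S.isPGroup'), ThreeCore.card_ext (d.f_notMem t), d.card_ES t]

theorem AA_rot (t : Tri Om) (d : VD Om (S : Subgroup G) K1 K2 K3 v1 v2 v3) :
    AA Om (S : Subgroup G) (v2 * (v3 * v1)) = AA Om (S : Subgroup G) (v1 * (v2 * v3)) := by
  rw [d.f_rot t.hyp S.isPGroup']

theorem AA_swap (t : Tri Om) (d : VD Om (S : Subgroup G) K1 K2 K3 v1 v2 v3) :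
    AA Om (S : Subgroup G) (v1 * (v3 * v2)) = AA Om (S : Subgroup G) (v1 * (v2 * v3)) := by
  rw [d.f_swap t.hyp S.isPGroup']

theorem AA_inv1 (t : Tri Om) (d : VD Om (S : Subgroup G) K1 K2 K3 v1 v2 v3) :
    AA Om (S : Subgroup G) (v1⁻¹ * (v2 * v3)) = AA Om (S : Subgroup G) (v1 * (v2 * v3)) := by
  rw [d.f_inv1 t.hyp, AA_mul (zz_mem_ES d.m1)]

end Tri

end VD

/-- existence: every member of `Om(S)` can be taken as `K₁` -/
theorem exists_vd [Finite G] {Om : Set (Subgroup G)} (t : Tri Om) (S : Sylow 2 G) {K1 : Subgroup G}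
    (h1 : K1 ∈ OmS Om (S : Subgroup G)) : ∃ K2 K3 v1 v2 v3, VD Om (S : Subgroup G) K1 K2 K3 v1 v2 v3 := by
  have hS := S.isPGroup'
  obtain ⟨K2, K3, hE, n12, n13, n23⟩ := t.exists_three S h1
  have h2 : K2 ∈ OmS Om (S : Subgroup G) := by rw [hE]; simp
  have h3 : K3 ∈ OmS Om (S : Subgroup G) := by rw [hE]; simp
  obtain ⟨v1, m1, o1⟩ := t.hyp.exists_four hS h1
  obtain ⟨v2, m2, o2⟩ := t.hyp.exists_four hS h2
  obtain ⟨v3, m3, o3⟩ := t.hyp.exists_four hS h3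
  exact ⟨K2, K3, v1, v2, v3, h1, h2, h3, n12, n13, n23, m1.1, m2.1, m3.1, m1.2, m2.2, m3.2,
    t.hyp.sq_eq_zz h1.1 m1.1 o1, t.hyp.sq_eq_zz h2.1 m2.1 o2, t.hyp.sq_eq_zz h3.1 m3.1 o3⟩

/-- existence: two given members of `Om(S)` can be taken as `K₁`, `K₂` -/
theorem exists_vd_two [Finite G] {Om : Set (Subgroup G)} (t : Tri Om) (S : Sylow 2 G) {K1 K2 : Subgroup G}
    (h1 : K1 ∈ OmS Om (S : Subgroup G)) (h2 : K2 ∈ OmS Om (S : Subgroup G)) (hne : K1 ≠ K2) :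
    ∃ K3 v1 v2 v3, VD Om (S : Subgroup G) K1 K2 K3 v1 v2 v3 := by
  obtain ⟨L2, L3, v1, v2, v3, d⟩ := exists_vd t S h1
  have h3 : K2 ∈ ({K1, L2, L3} : Set (Subgroup G)) := d.OmS_eq t ▸ h2
  rcases h3 with h3 | h3 | h3
  · exact absurd h3.symm hne
  · subst h3; exact ⟨L3, v1, v2, v3, d⟩
  · have h3' : K2 = L3 := h3
    subst h3'
    exact ⟨L2, v1, v3, v2, d.swap⟩

end Cfsg.Agent.Cit.Sp4
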