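import Cfsg.Agent.Cit.CloEnd
import Cfsg.Agent.Cit.UseT
import Cfsg.Agent.Cit.CoreTools

/-!
# Cores for `|Om(S)| = 3`, `z₁ z₂ z₃ = 1`, type `Sp₄(q)`: (2B) at `f`, end

* `Zc.connected` : S1175 for a class `𝒵` of involutions of a central extension `Y` of the simple group `L`: the
  commuting graph on `𝒵` is connected if `L` has no strongly embedded subgroup;
* `Nb Fm M₁ M₂ M₃` : members with `z₁ z₂ = z₃`; all members with involution commuting with `z₁` are `M₁` and the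
  conjugates of `M₂` under `M₁`;
* `Nb.eq_one` : an element of `O(C(z₁))` centralising `M₁` and `M₂` is trivial.
-/

set_option autoImplicit false
set_option linter.style.haveILetI false
set_option linter.unusedSectionVars false

namespace Cfsg.Agent.Cit.Sp4

open Subgroup Cfsg Cfsg.Agent.Cit Relation

universe u

/-! ### S1175 for a class of involutions modulo a central subgroup -/

section Graph

variable {Y L : Type u} [Group Y] [Group L]

/-- a class of involutions of a central extension `π : Y → L` -/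
structure Zc (Z : Set Y) (π : Y →* L) (z : Y) : Prop where
  sur : Function.Surjective π
  ker : π.ker ≤ center Y
  conj : ∀ a ∈ Z, ∀ g : Y, g * a * g⁻¹ ∈ Z
  mem : z ∈ Z
  sq : z * z = 1
  ne : π z ≠ 1
  comm : ∀ a ∈ Z, ∀ b ∈ Z, π a * π b = π b * π a → a * b = b * a
  inj : ∀ a ∈ Z, ∀ b ∈ Z, π a = π b → a = b
  syl : ∃ T : Sylow 2 Y, z ∈ T ∧ ∀ t ∈ T, t * z = z * t
  mul : ∀ a ∈ Z, a * z = z * a → a ≠ z → z * a ∈ Z

/-- adjacency of involutions -/
def RR (Z : Set Y) (a b : Y) : Prop := a ∈ Z ∧ b ∈ Z ∧ a * b = b * a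

theorem RR.symm {Z : Set Y} {a b : Y} (h : RR Z a b) : RR Z b a := ⟨h.2.1, h.1, h.2.2.symm⟩

theorem rr_symm {Z : Set Y} {a b : Y} (h : ReflTransGen (RR Z) a b) : ReflTransGen (RR Z) b a := by
  induction h with
  | refl => exact ReflTransGen.refl
  | tail _ h1 ih => exact ReflTransGen.head h1.symm ih

theorem rr_conj {Z : Set Y} (hZ : ∀ a ∈ Z, ∀ g : Y, g * a * g⁻¹ ∈ Z) (g : Y) {a b : Y}
    (h : ReflTransGen (RR Z) a b) : ReflTransGen (RR Z) (g * a * g⁻¹) (g * b * g⁻¹) := by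
  induction h with
  | refl => exact ReflTransGen.refl
  | @tail b c _ h1 ih =>
    refine ih.tail ⟨hZ _ h1.1 g, hZ _ h1.2.1 g, ?_⟩
    calc g * b * g⁻¹ * (g * c * g⁻¹) = g * (b * c) * g⁻¹ := by group
      _ = g * (c * b) * g⁻¹ := by rw [h1.2.2]
      _ = g * c * g⁻¹ * (g * b * g⁻¹) := by group

/-- the stabiliser of the component of `z` -/
def zst {Z : Set Y} (hZ : ∀ a ∈ Z, ∀ g : Y, g * a * g⁻¹ ∈ Z) (z : Y) : Subgroup Y where
  carrier := {g | ReflTransGen (RR Z) z (g * z * g⁻¹)}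
  one_mem' := by
    show ReflTransGen (RR Z) z (1 * z * 1⁻¹)
    rw [one_mul, inv_one, mul_one]
  mul_mem' := by
    intro a b ha hb
    show ReflTransGen (RR Z) z (a * b * z * (a * b)⁻¹)
    have h1 := rr_conj hZ a hb
    have e : a * (b * z * b⁻¹) * a⁻¹ = a * b * z * (a * b)⁻¹ := by group
    rw [e] at h1
    exact ReflTransGen.trans ha h1
  inv_mem' := by
    intro a ha
    show ReflTransGen (RR Z) z (a⁻¹ * z * a⁻¹⁻¹)
    have h1 := rr_conj hZ a⁻¹ ha
    have e : a⁻¹ * (a * z * a⁻¹) * a⁻¹⁻¹ = z := by group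
    rw [e] at h1
    exact rr_symm h1

theorem mem_zst {Z : Set Y} {hZ : ∀ a ∈ Z, ∀ g : Y, g * a * g⁻¹ ∈ Z} {z g : Y} :
    g ∈ zst hZ z ↔ ReflTransGen (RR Z) z (g * z * g⁻¹) := Iff.rfl

/-- **S1175**: the commuting graph is connected -/
theorem Zc.connected [Finite Y] [Finite L] {Z : Set Y} {π : Y →* L} {z : Y} (h : Zc Z π z)
    (hc : CloEnd.Crit1175 L) (hse : ∀ H : Subgroup L, ¬ IsStronglyEmbedded H) (g : Y) :
    ReflTransGen (RR Z) z (g * z * g⁻¹) := by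
  haveI : Fact (Nat.Prime 2) := ⟨Nat.prime_two⟩
  set M := zst h.conj z with hM
  -- `C(z) ≤ M`
  have hcz : ∀ x : Y, x * z = z * x → x ∈ M := by
    intro x hx
    rw [hM, mem_zst, hx, mul_inv_cancel_right]
  have hker : π.ker ≤ M := fun k hk => hcz k (mem_center_iff.1 (h.ker hk) z).symm
  have hmem : ∀ d : Y, π d ∈ M.map π → d ∈ M := by
    rintro d ⟨m, hm, hmd⟩
    have h1 : d * m⁻¹ ∈ π.ker := by rw [MonoidHom.mem_ker, map_mul, map_inv, hmd, mul_inv_cancel]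
    have h2 : d = d * m⁻¹ * m := by group
    rw [h2]
    exact M.mul_mem (hker h1) hm
  by_cases hMt : M = ⊤
  · have h1 : g ∈ M := by rw [hMt]; exact mem_top g
    exact h1
  exfalso
  have hM0 : M.map π ≠ ⊤ := by
    intro h1
    apply hMt
    rw [eq_top_iff]
    intro d _
    exact hmem d (by rw [h1]; exact mem_top _)
  obtain ⟨T, hzT, hT⟩ := h.syl
  have hTM : (T : Subgroup Y) ≤ M := fun t ht => hcz t (hT t ht)
  -- fusion
  have hfus : ∀ d : Y, d * z * d⁻¹ ∈ M → d ∈ M := by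
    intro d hd
    have hd2 : IsPGroup 2 (zpowers (d * z * d⁻¹)) := by
      rintro ⟨_, i, rfl⟩
      refine ⟨1, Subtype.ext ?_⟩
      change ((d * z * d⁻¹) ^ i) ^ 2 ^ 1 = 1
      have e : (d * z * d⁻¹) ^ 2 = 1 := by
        rw [pow_two]
        calc d * z * d⁻¹ * (d * z * d⁻¹) = d * (z * z) * d⁻¹ := by group
          _ = 1 := by rw [h.sq]; group
      rw [pow_one, ← zpow_natCast, ← zpow_mul, mul_comm, zpow_mul, zpow_natCast, e, one_zpow]
    have hSM : Syl (T : Subgroup Y) M :=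
      ⟨hTM, T.isPGroup', fun h1 => T.not_dvd_index (h1.trans (relIndex_dvd_index_of_le hTM))⟩
    obtain ⟨T', hT', hdT⟩ := Cit.exists_syl_ge hd2 ((zpowers_le).2 hd)
    obtain ⟨m, hm, hmT⟩ := hSM.exists_conj hT'
    have h1 : d * z * d⁻¹ ∈ cj m (T : Subgroup Y) := by rw [hmT]; exact hdT (mem_zpowers _)
    rw [mem_cj] at h1
    have h2 := hT _ h1
    have h3 : m⁻¹ * (d * z * d⁻¹) * m = (m⁻¹ * d) * z * (m⁻¹ * d)⁻¹ := by group
    rw [h3] at h2
    have h4 : m⁻¹ * d ∈ M := by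
      rw [hM, mem_zst]
      exact ReflTransGen.single ⟨h.mem, h.conj _ h.mem _, h2.symm⟩
    have h5 : d = m * (m⁻¹ * d) := by group
    rw [h5]
    exact M.mul_mem hm h4
  obtain ⟨H, hH⟩ := hc (M.map π) hM0 (π z)
    (orderOf_eq_prime (by rw [pow_two, ← map_mul, h.sq, map_one]) h.ne)
    ⟨z, hcz z rfl, rfl⟩
    ⟨T.mapSurjective h.sur, by
      show π z ∈ ((T.mapSurjective h.sur : Sylow 2 L) : Subgroup L)
      rw [Sylow.coe_mapSurjective]; exact ⟨z, hzT, rfl⟩, by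
      intro s hs
      have hs' : s ∈ (T : Subgroup Y).map π := by
        rw [← Sylow.coe_mapSurjective h.sur T]; exact hs
      obtain ⟨t, ht, rfl⟩ := hs'
      show π t * π z = π z * π t
      rw [← map_mul, ← map_mul, hT t ht]⟩
    (by
      intro g hg
      obtain ⟨d, rfl⟩ := h.sur g
      rw [← map_inv, ← map_mul, ← map_mul] at hg
      exact ⟨d, hfus d (hmem _ hg), rfl⟩)
    (by
      intro g hg hne y hy
      obtain ⟨d, rfl⟩ := h.sur g
      obtain ⟨e, rfl⟩ := h.sur y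
      rw [← map_inv, ← map_mul, ← map_mul] at hg hne hy
      have ha : d * z * d⁻¹ ∈ Z := h.conj _ h.mem _
      have h1 : (d * z * d⁻¹) * z = z * (d * z * d⁻¹) := h.comm _ ha _ h.mem hg.eq.symm
      have h2 : z * (d * z * d⁻¹) ∈ Z := h.mul _ ha h1 (fun h3 => hne (by rw [h3]))
      set w := z * (d * z * d⁻¹) with hw
      have hy' := mem_centralizer_singleton_iff.1 hy
      rw [← map_mul, ← hw] at hy'
      have h3 : e * w * e⁻¹ = w := by
        refine h.inj _ (h.conj _ h2 _) _ h2 ?_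
        rw [map_mul, map_mul, hy', map_inv, mul_inv_cancel_right]
      -- `z - w`
      have h4 : RR Z z w := by
        refine ⟨h.mem, h2, ?_⟩
        calc z * w = z * (z * (d * z * d⁻¹)) := rfl
          _ = z * ((d * z * d⁻¹) * z) := by rw [h1]
          _ = w * z := by rw [hw]; group
      refine ⟨e, ?_, rfl⟩
      show ReflTransGen (RR Z) z (e * z * e⁻¹)
      have h5 := rr_conj h.conj e (ReflTransGen.single h4.symm)
      rw [h3] at h5
      exact (ReflTransGen.single h4).trans h5)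
  exact hse H hH

end Graph

/-! ### Members with `z₁ z₂ = z₃` -/

section Nb

/-- three members with `z₁ z₂ = z₃`, and all members with involution commuting with `z₁` -/
structure Nb {X : Type u} [Group X] (Fm : Set (Subgroup X)) (M1 M2 M3 : Subgroup X) : Prop where
  hyp : Hyp Fm
  core : ∀ M ∈ Fm, OO M = ⊥
  cls : ∀ M ∈ Fm, ∃ g, cj g M1 = M
  nor : ∀ M ∈ Fm, centralizer {zz M} ≤ normalizer (M : Set X)
  m1 : M1 ∈ Fm
  m2 : M2 ∈ Fm
  m3 : M3 ∈ Fm
  mul : zz M1 * zz M2 = zz M3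
  nb : ∀ M ∈ Fm, zz M * zz M1 = zz M1 * zz M → M = M1 ∨ ∃ m ∈ M1, M = cj m M2

namespace Nb

variable {X : Type u} [Group X] [Finite X] {Fm : Set (Subgroup X)} {M1 M2 M3 : Subgroup X}

theorem cj_self {M : Subgroup X} {m : X} (hm : m ∈ M) : cj m M = M := mem_normalizer_iff_cj.1 (le_normalizer hm)

theorem z_comm (n : Nb Fm M1 M2 M3) : zz M1 * zz M2 = zz M2 * zz M1 := by
  have h1 := n.hyp.zz_inv n.m3
  rw [← n.mul, mul_inv_rev, n.hyp.zz_inv n.m1, n.hyp.zz_inv n.m2] at h1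
  exact h1.symm

theorem inj (n : Nb Fm M1 M2 M3) {M N : Subgroup X} (hM : M ∈ Fm) (hN : N ∈ Fm) (h : zz M = zz N) : M = N := by
  obtain ⟨g, rfl⟩ := n.cls M hM
  obtain ⟨k, rfl⟩ := n.cls N hN
  have h1 : k * g⁻¹ ∈ centralizer ({zz (cj g M1)} : Set X) := by
    rw [mem_centralizer_singleton_iff]
    have h2 : k * g⁻¹ * zz (cj g M1) * (k * g⁻¹)⁻¹ = zz (cj g M1) := by
      conv_rhs => rw [h]
      rw [n.hyp.zz_cj n.m1, n.hyp.zz_cj n.m1]
      group
    exact mul_inv_eq_iff_eq_mul.1 h2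
  have h3 := mem_normalizer_iff_cj.1 (n.nor _ hM h1)
  rw [← cj_mul, inv_mul_cancel_right] at h3
  exact h3.symm

theorem not_comm (n : Nb Fm M1 M2 M3) : ¬ M1 ≤ centralizer (M2 : Set X) := by
  intro hc
  have h1 : zz M3 * zz M1 = zz M1 * zz M3 := by
    rw [← n.mul]
    calc zz M1 * zz M2 * zz M1 = zz M1 * (zz M2 * zz M1) := by group
      _ = zz M1 * (zz M1 * zz M2) := by rw [n.z_comm]
  rcases n.nb M3 n.m3 h1 with h | ⟨m, hm, h⟩
  · have h2 := n.mul
    rw [h] at h2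
    exact n.hyp.zz_ne n.m2 (mul_eq_left.1 h2)
  · have h3 : cj m M2 = M2 := mem_normalizer_iff_cj.1 (centralizer_le_normalizer _ (hc hm))
    have h2 := n.mul
    rw [h, h3] at h2
    exact n.hyp.zz_ne n.m1 (mul_eq_right.1 h2)

/-- adjacent pairs are conjugate -/
theorem pair (n : Nb Fm M1 M2 M3) {M N : Subgroup X} (hM : M ∈ Fm) (hN : N ∈ Fm) (hne : N ≠ M)
    (hc : zz N * zz M = zz M * zz N) : ∃ g, cj g M1 = M ∧ cj g M2 = N := by
  obtain ⟨g, rfl⟩ := n.cls M hM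
  have h1 : zz (cj g⁻¹ N) * zz M1 = zz M1 * zz (cj g⁻¹ N) := by
    rw [n.hyp.zz_cj n.m1] at hc
    rw [n.hyp.zz_cj hN]
    calc g⁻¹ * zz N * g⁻¹⁻¹ * zz M1 = g⁻¹ * (zz N * (g * zz M1 * g⁻¹)) * g := by group
      _ = g⁻¹ * (g * zz M1 * g⁻¹ * zz N) * g := by rw [hc]
      _ = zz M1 * (g⁻¹ * zz N * g⁻¹⁻¹) := by group
  rcases n.nb _ (n.hyp.conj N hN g⁻¹) h1 with h | ⟨m, hm, h⟩
  · exact absurd (by rw [← h, cj_cj_inv]) hne
  · refine ⟨g * m, ?_, ?_⟩
    · rw [cj_mul, cj_self hm]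
    · rw [cj_mul, ← h, cj_cj_inv]

theorem no_cm (n : Nb Fm M1 M2 M3) {M N : Subgroup X} (hM : M ∈ Fm) (hN : N ∈ Fm)
    (hc : M ≤ centralizer (N : Set X)) : False := by
  by_cases hne : N = M
  · subst hne
    exact n.hyp.not_le_centralizer_self hM hc
  · have h1 : zz N * zz M = zz M * zz N := mem_centralizer_iff.1 (hc (n.hyp.zz_mem hM)) _ (n.hyp.zz_mem hN)
    obtain ⟨g, rfl, rfl⟩ := n.pair hM hN hne h1
    apply n.not_comm
    have h2 := cj_mono g⁻¹ hc
    rwa [cj_inv_cj, CoreTools.cj_centralizer_set, cj_inv_cj] at h2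

/-- all members are in one piece -/
theorem le_pc (n : Nb Fm M1 M2 M3) {M : Subgroup X} (hM : M ∈ Fm) : M ≤ pc Fm M1 := by
  by_cases h : pc Fm M = pc Fm M1
  · rw [← h]; exact Cit.le_pc
  · exact (n.no_cm hM n.m1 ((Cit.le_pc.trans (pc_comm hM n.m1 h)).trans (centralizer_le Cit.le_pc))).elim

theorem cj_D (n : Nb Fm M1 M2 M3) (g : X) : cj g (pc Fm M1) = pc Fm M1 := by
  rw [cj_pc n.hyp.conj]
  by_contra h
  have h1 := pc_comm (n.hyp.conj _ n.m1 g) n.m1 h
  exact n.no_cm (n.hyp.conj _ n.m1 g) n.m1 ((Cit.le_pc.trans h1).trans (centralizer_le Cit.le_pc))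

theorem quasi (n : Nb Fm M1 M2 M3) (hp : HasPieces Fm) : IsQuasisimple (pc Fm M1) := by
  rcases hp.eq_or_quasisimple n.hyp n.m1 with h | h
  · exfalso
    have h1 : M2 ≤ M1 := (n.le_pc n.m2).trans h.le
    have h2 := n.hyp.eq_of_le n.m2 n.m1 h1
    have h3 := n.mul
    rw [h2, n.hyp.zz_mul n.m1] at h3
    exact n.hyp.zz_ne n.m3 h3.symm
  · exact h.2.1

/-- `z_M` is not central in `D` -/
theorem zz_notMem (n : Nb Fm M1 M2 M3) {M : Subgroup X} (hM : M ∈ Fm) :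
    zz M ∉ centralizer (pc Fm M1 : Set X) := by
  intro hz
  have hcn : ∀ g : X, cj g (centralizer (pc Fm M1 : Set X)) = centralizer (pc Fm M1 : Set X) := fun g => by
    rw [CoreTools.cj_centralizer_set, n.cj_D]
  obtain ⟨g, rfl⟩ := n.cls M hM
  have hz1 : zz M1 ∈ centralizer (pc Fm M1 : Set X) := by
    rw [n.hyp.zz_cj n.m1, ← hcn g] at hz
    exact (conj_mem_cj_iff (g := g)).1 hz
  have hz2 : zz M2 ∈ centralizer (pc Fm M1 : Set X) := by
    obtain ⟨k, hk⟩ := n.cls M2 n.m2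
    rw [← hk, n.hyp.zz_cj n.m1, ← hcn k]
    exact conj_mem_cj hz1
  have h1 : M2 ≤ normalizer (M1 : Set X) := fun x hx => n.nor M1 n.m1
    (mem_centralizer_singleton_iff.2 (mem_centralizer_iff.1 hz1 x (n.le_pc n.m2 hx)))
  have h2 : M1 ≤ normalizer (M2 : Set X) := fun x hx => n.nor M2 n.m2
    (mem_centralizer_singleton_iff.2 (mem_centralizer_iff.1 hz2 x (n.le_pc n.m1 hx)))
  have h3 : M1 ⊓ M2 ≤ OO M1 := by
    refine le_OO inf_le_left ?_ ?_
    · intro x hx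
      rw [mem_normalizer_iff]
      intro y
      exact and_congr (mem_normalizer_iff.1 (le_normalizer hx) y) (mem_normalizer_iff.1 (h2 hx) y)
    · intro h4
      obtain ⟨t, ht⟩ := exists_prime_orderOf_dvd_card' 2 h4
      have h5 : orderOf (t : X) = 2 := by rw [Subgroup.orderOf_coe]; exact ht
      have h6 := n.hyp.uniq M1 n.m1 t t.2.1 h5
      have h7 := n.hyp.uniq M2 n.m2 t t.2.2 h5
      have h8 := n.mul
      rw [← h6, ← h7] at h8
      have h9 : (t : X) * t = 1 := by rw [← pow_two, ← h5, pow_orderOf_eq_one]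
      rw [h9] at h8
      exact n.hyp.zz_ne n.m3 h8.symm
  rw [n.core M1 n.m1, le_bot_iff] at h3
  apply n.not_comm
  rw [← commutator_eq_bot_iff_le_centralizer, eq_bot_iff, ← h3, Subgroup.commutator_le]
  intro a ha b hb
  rw [commutatorElement_def]
  refine ⟨?_, M2.mul_mem ((mem_normalizer_iff.1 (h2 ha) b).1 hb) (M2.inv_mem hb)⟩
  have e : a * b * a⁻¹ * b⁻¹ = a * (b * a⁻¹ * b⁻¹) := by group
  rw [e]
  exact M1.mul_mem ha ((mem_normalizer_iff.1 (h1 hb) _).1 (M1.inv_mem ha))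

/-! ### The central extension `D → D / Z(D)` -/

/-- the involutions of the members -/
def Zs (Fm : Set (Subgroup X)) (D : Subgroup X) : Set ↥D := {a | ∃ M ∈ Fm, zz M = (a : X)}

/-- the element `m z₃ m⁻¹` is not central in `D` -/
theorem not_cen (n : Nb Fm M1 M2 M3) {m c : X} (hm : m ∈ M1) (hc : c ∈ centralizer (pc Fm M1 : Set X))
    (h : c = m * zz M3 * m⁻¹) : False := by
  apply n.zz_notMem n.m3
  have hmD := n.le_pc n.m1 hm
  have h1 : m * c = c * m := mem_centralizer_iff.1 hc m hmD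
  have h2 : zz M3 = c := by
    calc zz M3 = m⁻¹ * (m * zz M3 * m⁻¹) * m := by group
      _ = m⁻¹ * (c * m) := by rw [← h]; group
      _ = c := by rw [← h1]; group
  rw [h2]; exact hc

/-- involutions commuting modulo `Z(D)` commute -/
theorem comm_of_cen (n : Nb Fm M1 M2 M3) {M N : Subgroup X} (hM : M ∈ Fm) (hN : N ∈ Fm)
    (hc : zz N * zz M * (zz N)⁻¹ * (zz M)⁻¹ ∈ centralizer (pc Fm M1 : Set X)) : zz N * zz M = zz M * zz N := by
  have key : ∀ N ∈ Fm, zz N * zz M1 * (zz N)⁻¹ * (zz M1)⁻¹ ∈ centralizer (pc Fm M1 : Set X) →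
      zz N * zz M1 = zz M1 * zz N := by
    intro N hN hc
    set b := zz N with hb
    set c := b * zz M1 * b⁻¹ * (zz M1)⁻¹ with hcd
    have hz : zz (cj b M1) = c * zz M1 := by
      rw [n.hyp.zz_cj n.m1, hcd]; group
    have hcz : zz M1 * c = c * zz M1 := mem_centralizer_iff.1 hc _ (n.le_pc n.m1 (n.hyp.zz_mem n.m1))
    have h1 : zz (cj b M1) * zz M1 = zz M1 * zz (cj b M1) := by
      rw [hz, ← mul_assoc, hcz]
    rcases n.nb _ (n.hyp.conj _ n.m1 b) h1 with h | ⟨m, hm, h⟩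
    · have h2 := n.hyp.zz_cj n.m1 b
      rw [h] at h2
      calc b * zz M1 = (b * zz M1 * b⁻¹) * b := by group
        _ = zz M1 * b := by rw [← h2]
    · exfalso
      refine n.not_cen hm hc ?_
      rw [h, n.hyp.zz_cj n.m2] at hz
      have hmz : m * zz M1 = zz M1 * m := n.hyp.comm_zz n.m1 (le_normalizer hm)
      calc c = c * zz M1 * zz M1 := by rw [mul_assoc, n.hyp.zz_mul n.m1, mul_one]
        _ = m * zz M2 * m⁻¹ * zz M1 := by rw [← hz]
        _ = m * zz M2 * (m⁻¹ * zz M1 * m) * m⁻¹ := by group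
        _ = m * zz M2 * (m⁻¹ * (m * zz M1)) * m⁻¹ := by rw [hmz]; group
        _ = m * (zz M2 * zz M1) * m⁻¹ := by group
        _ = m * zz M3 * m⁻¹ := by rw [← n.z_comm, n.mul]
  obtain ⟨g, rfl⟩ := n.cls M hM
  have hcn : cj g⁻¹ (centralizer (pc Fm M1 : Set X)) = centralizer (pc Fm M1 : Set X) := by
    rw [CoreTools.cj_centralizer_set, n.cj_D]
  have h1 := key (cj g⁻¹ N) (n.hyp.conj N hN g⁻¹) (by
    rw [← hcn]
    have h2 := conj_mem_cj (g := g⁻¹) hc
    rw [n.hyp.zz_cj n.m1] at h2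
    rw [n.hyp.zz_cj hN]
    have e : g⁻¹ * (zz N * (g * zz M1 * g⁻¹) * (zz N)⁻¹ * (g * zz M1 * g⁻¹)⁻¹) * g⁻¹⁻¹ =
        g⁻¹ * zz N * g⁻¹⁻¹ * zz M1 * (g⁻¹ * zz N * g⁻¹⁻¹)⁻¹ * (zz M1)⁻¹ := by group
    rwa [e] at h2)
  rw [n.hyp.zz_cj hN] at h1
  rw [n.hyp.zz_cj n.m1]
  calc zz N * (g * zz M1 * g⁻¹) = g * ((g⁻¹ * zz N * g⁻¹⁻¹) * zz M1) * g⁻¹ := by group
    _ = g * (zz M1 * (g⁻¹ * zz N * g⁻¹⁻¹)) * g⁻¹ := by rw [h1]
    _ = g * zz M1 * g⁻¹ * zz N := by group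

/-- involutions equal modulo `Z(D)` are equal -/
theorem eq_of_cen (n : Nb Fm M1 M2 M3) {M N : Subgroup X} (hM : M ∈ Fm) (hN : N ∈ Fm)
    (hc : (zz M)⁻¹ * zz N ∈ centralizer (pc Fm M1 : Set X)) : zz M = zz N := by
  have key : ∀ N ∈ Fm, (zz M1)⁻¹ * zz N ∈ centralizer (pc Fm M1 : Set X) → zz M1 = zz N := by
    intro N hN hc
    set c := (zz M1)⁻¹ * zz N with hcd
    have hcz : zz M1 * c = c * zz M1 := mem_centralizer_iff.1 hc _ (n.le_pc n.m1 (n.hyp.zz_mem n.m1))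
    have hN2 : zz N = zz M1 * c := by rw [hcd]; group
    have h1 : zz N * zz M1 = zz M1 * zz N := by
      rw [hN2, mul_assoc, ← hcz]
    rcases n.nb N hN h1 with h | ⟨m, hm, h⟩
    · rw [h]
    · exfalso
      refine n.not_cen hm hc ?_
      have hmz : m * zz M1 = zz M1 * m := n.hyp.comm_zz n.m1 (le_normalizer hm)
      calc c = zz M1 * zz N := by rw [hcd, n.hyp.zz_inv n.m1]
        _ = zz M1 * (m * zz M2 * m⁻¹) := by rw [h, n.hyp.zz_cj n.m2]
        _ = (zz M1 * m) * zz M2 * m⁻¹ := by group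
        _ = m * (zz M1 * zz M2) * m⁻¹ := by rw [← hmz]; group
        _ = m * zz M3 * m⁻¹ := by rw [n.mul]
  obtain ⟨g, rfl⟩ := n.cls M hM
  have hcn : cj g⁻¹ (centralizer (pc Fm M1 : Set X)) = centralizer (pc Fm M1 : Set X) := by
    rw [CoreTools.cj_centralizer_set, n.cj_D]
  have h1 := key (cj g⁻¹ N) (n.hyp.conj N hN g⁻¹) (by
    rw [← hcn]
    have h2 := conj_mem_cj (g := g⁻¹) hc
    rw [n.hyp.zz_cj n.m1] at h2
    rw [n.hyp.zz_cj hN]
    have e : g⁻¹ * ((g * zz M1 * g⁻¹)⁻¹ * zz N) * g⁻¹⁻¹ = (zz M1)⁻¹ * (g⁻¹ * zz N * g⁻¹⁻¹) := by group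
    rwa [e] at h2)
  rw [n.hyp.zz_cj hN] at h1
  rw [n.hyp.zz_cj n.m1, h1]
  group

/-- the class of involutions of `D` -/
theorem zc (n : Nb Fm M1 M2 M3) :
    Zc (Zs Fm (pc Fm M1)) (QuotientGroup.mk' (center ↥(pc Fm M1)))
      ⟨zz M1, n.le_pc n.m1 (n.hyp.zz_mem n.m1)⟩ where
  sur := QuotientGroup.mk'_surjective _
  ker := by rw [QuotientGroup.ker_mk']
  conj := by
    rintro a ⟨M, hM, hMa⟩ g
    exact ⟨cj (g : X) M, n.hyp.conj M hM _, by rw [n.hyp.zz_cj hM, hMa]; rfl⟩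
  mem := ⟨M1, n.m1, rfl⟩
  sq := Subtype.ext (n.hyp.zz_mul n.m1)
  ne := by
    intro h
    apply n.zz_notMem n.m1
    have h1 := (QuotientGroup.eq_one_iff _).1 h
    rw [mem_centralizer_iff]
    intro y hy
    exact congrArg Subtype.val (mem_center_iff.1 h1 ⟨y, hy⟩)
  comm := by
    rintro a ⟨M, hM, hMa⟩ b ⟨N, hN, hNb⟩ h
    have h1 : QuotientGroup.mk' (center ↥(pc Fm M1)) (a * b * a⁻¹ * b⁻¹) = 1 := by
      rw [map_mul, map_mul, map_mul, h, map_inv, map_inv]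
      group
    have h2 := (QuotientGroup.eq_one_iff _).1 h1
    have h3 : zz M * zz N * (zz M)⁻¹ * (zz N)⁻¹ ∈ centralizer (pc Fm M1 : Set X) := by
      rw [mem_centralizer_iff, hMa, hNb]
      intro y hy
      exact congrArg Subtype.val (mem_center_iff.1 h2 ⟨y, hy⟩)
    have h4 := n.comm_of_cen hN hM h3
    apply Subtype.ext
    rw [hMa, hNb] at h4
    exact h4
  inj := by
    rintro a ⟨M, hM, hMa⟩ b ⟨N, hN, hNb⟩ h
    have h2 := QuotientGroup.eq.1 h
    have h3 : (zz M)⁻¹ * zz N ∈ centralizer (pc Fm M1 : Set X) := by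
      rw [mem_centralizer_iff, hMa, hNb]
      intro y hy
      exact congrArg Subtype.val (mem_center_iff.1 h2 ⟨y, hy⟩)
    have h4 := n.eq_of_cen hM hN h3
    apply Subtype.ext
    rw [← hMa, ← hNb]
    exact h4
  syl := by
    haveI : Fact (Nat.Prime 2) := ⟨Nat.prime_two⟩
    obtain ⟨Q, hQ⟩ := Hyp.exists_syl M1
    have hQD : Q ≤ pc Fm M1 := hQ.1.trans (n.le_pc n.m1)
    obtain ⟨T, hT⟩ := (hQ.2.1.comap_subtype (K := pc Fm M1)).exists_le_sylow
    have hT2 : IsPGroup 2 ((T : Subgroup ↥(pc Fm M1)).map (pc Fm M1).subtype) := T.isPGroup'.map _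
    have hQT : Q ≤ (T : Subgroup ↥(pc Fm M1)).map (pc Fm M1).subtype := fun x hx =>
      ⟨⟨x, hQD hx⟩, hT hx, rfl⟩
    have hm1 := mem_OmS_of_le n.m1 hQ hQT
    have hz := n.hyp.zz_mem_inf hT2 hm1
    refine ⟨T, ?_, ?_⟩
    · obtain ⟨y, hy, hyz⟩ := hz.2
      have e : y = ⟨zz M1, n.le_pc n.m1 (n.hyp.zz_mem n.m1)⟩ := Subtype.ext hyz
      rw [← e]; exact hy
    · intro t ht
      apply Subtype.ext
      have h1 : cj (t : X) M1 = M1 := by
        by_contra hne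
        have ht' : (t : X) ∈ (T : Subgroup ↥(pc Fm M1)).map (pc Fm M1).subtype := ⟨t, ht, rfl⟩
        have h2 := cj_mem_OmS' n.hyp.conj (g := (t : X)) (le_normalizer ht') hm1
        exact n.no_cm hm1.1 h2.1 (UseT.comm_of_core n.hyp n.core hT2 hm1 h2 (Ne.symm hne))
      exact n.hyp.comm_zz n.m1 (mem_normalizer_iff_cj.2 h1)
  mul := by
    rintro a ⟨M, hM, hMa⟩ hc hne
    have h1 : zz M * zz M1 = zz M1 * zz M := by
      rw [hMa]; exact congrArg Subtype.val hc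
    rcases n.nb M hM h1 with h | ⟨m, hm, h⟩
    · exfalso
      apply hne
      apply Subtype.ext
      rw [← hMa, h]
    · refine ⟨cj m M3, n.hyp.conj _ n.m3 m, ?_⟩
      have hmz : m * zz M1 = zz M1 * m := n.hyp.comm_zz n.m1 (le_normalizer hm)
      rw [n.hyp.zz_cj n.m3, ← n.mul]
      show _ = zz M1 * (a : X)
      rw [← hMa, h, n.hyp.zz_cj n.m2]
      calc m * (zz M1 * zz M2) * m⁻¹ = (m * zz M1) * zz M2 * m⁻¹ := by group
        _ = zz M1 * (m * zz M2 * m⁻¹) := by rw [hmz]; group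

/-! ### An element centralising `M₁` and `M₂` -/

/-- an element centralising two adjacent members centralises the members adjacent to one of them -/
theorem comm_nb (n : Nb Fm M1 M2 M3) {M N N' : Subgroup X} (hM : M ∈ Fm) (hN : N ∈ Fm) (hN' : N' ∈ Fm)
    (hne : N ≠ M) (hc : zz N * zz M = zz M * zz N) (hc' : zz N' * zz M = zz M * zz N') {u : X}
    (huM : u ∈ centralizer (M : Set X)) (huN : u ∈ centralizer (N : Set X)) : u ∈ centralizer (N' : Set X) := by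
  obtain ⟨g, rfl, rfl⟩ := n.pair hM hN hne hc
  by_cases hN1 : N' = cj g M1
  · rw [hN1]; exact huM
  have h1 : zz (cj g⁻¹ N') * zz M1 = zz M1 * zz (cj g⁻¹ N') := by
    rw [n.hyp.zz_cj n.m1] at hc'
    rw [n.hyp.zz_cj hN']
    calc g⁻¹ * zz N' * g⁻¹⁻¹ * zz M1 = g⁻¹ * (zz N' * (g * zz M1 * g⁻¹)) * g := by group
      _ = g⁻¹ * (g * zz M1 * g⁻¹ * zz N') * g := by rw [hc']
      _ = zz M1 * (g⁻¹ * zz N' * g⁻¹⁻¹) := by group
  rcases n.nb _ (n.hyp.conj N' hN' g⁻¹) h1 with h | ⟨m, hm, h⟩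
  · exact absurd (by rw [← h, cj_cj_inv]) hN1
  · have e : N' = cj (g * m * g⁻¹) (cj g M2) := by
      rw [← cj_mul, inv_mul_cancel_right, cj_mul, ← h, cj_cj_inv]
    have hgm : g * m * g⁻¹ ∈ cj g M1 := conj_mem_cj hm
    have h2 : u * (g * m * g⁻¹) = g * m * g⁻¹ * u := (mem_centralizer_iff.1 huM _ hgm).symm
    rw [e, ← CoreTools.cj_centralizer_set, mem_cj]
    have h3 : (g * m * g⁻¹)⁻¹ * u * (g * m * g⁻¹) = u := by
      rw [mul_assoc, h2]; group
    rw [h3]; exact huN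

/-- **`u` centralises `D`** -/
theorem comm_D (n : Nb Fm M1 M2 M3) (hp : HasPieces Fm)
    (hcrit : CloEnd.Crit1175 (↥(pc Fm M1) ⧸ center ↥(pc Fm M1)))
    (hbend : CloEnd.Bend (↥(pc Fm M1) ⧸ center ↥(pc Fm M1))) {Q : Subgroup X} (hQ : Syl Q M1) {j : X}
    (hjD : j ∈ pc Fm M1) (hjQ : ∀ q ∈ Q, j * q = q * j) (hjj : j * j = zz M1) {u : X}
    (hu1 : u ∈ centralizer (M1 : Set X)) (hu2 : u ∈ centralizer (M2 : Set X)) :
    u ∈ centralizer (pc Fm M1 : Set X) := by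
  set D := pc Fm M1 with hD
  have hz := n.zc
  -- no strongly embedded subgroup
  have hse : ∀ H : Subgroup (↥D ⧸ center ↥D), ¬ IsStronglyEmbedded H := by
    intro H hH
    have hcon := hbend H hH
    obtain ⟨c, v, k, hq⟩ := n.hyp.exists_gq n.m1 hQ
    have hQD : Q ≤ D := hQ.1.trans (n.le_pc n.m1)
    have hj2 : IsPGroup 2 (zpowers j) := by
      rintro ⟨_, i, rfl⟩
      refine ⟨2, Subtype.ext ?_⟩
      change (j ^ i) ^ 2 ^ 2 = 1
      have e : j ^ (2 ^ 2) = 1 := by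
        rw [show (2 : ℕ) ^ 2 = 2 + 2 by norm_num, pow_add, pow_two, hjj, n.hyp.zz_mul n.m1]
      rw [← zpow_natCast, ← zpow_mul, mul_comm, zpow_mul, zpow_natCast, e, one_zpow]
    have hP : IsPGroup 2 (zpowers j ⊔ Q : Subgroup X) := by
      apply hj2.to_sup_of_normal_right' hQ.2.1
      rw [zpowers_le]
      refine centralizer_le_normalizer _ ?_
      rw [mem_centralizer_iff]
      exact fun q hq => (hjQ q hq).symm
    have hPD : (zpowers j ⊔ Q : Subgroup X) ≤ D := sup_le (by rw [zpowers_le]; exact hjD) hQD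
    have hP' : IsPGroup 2 (((zpowers j ⊔ Q : Subgroup X).subgroupOf D).map (QuotientGroup.mk' (center ↥D))) :=
      (hP.comap_subtype (K := D)).map _
    have hmem : ∀ x (hx : x ∈ (zpowers j ⊔ Q : Subgroup X)), QuotientGroup.mk' (center ↥D) ⟨x, hPD hx⟩ ∈
        ((zpowers j ⊔ Q : Subgroup X).subgroupOf D).map (QuotientGroup.mk' (center ↥D)) := fun x hx =>
      ⟨⟨x, hPD hx⟩, hx, rfl⟩
    have hjP : j ∈ (zpowers j ⊔ Q : Subgroup X) := mem_sup_left (mem_zpowers j)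
    have hcP : c ∈ (zpowers j ⊔ Q : Subgroup X) := mem_sup_right hq.c_mem
    have hvP : v ∈ (zpowers j ⊔ Q : Subgroup X) := mem_sup_right hq.v_mem
    have h1 := CloBen.comm_of_concl hcon hP' (hmem j hjP) (hmem v hvP) (hmem c hcP) (by
      rw [← map_mul]
      have e : (⟨j, hPD hjP⟩ : ↥D) * ⟨j, hPD hjP⟩ = ⟨zz M1, n.le_pc n.m1 (n.hyp.zz_mem n.m1)⟩ := Subtype.ext hjj
      rw [e]
      exact hz.ne) (by
      rw [← map_mul, ← map_mul]
      congr 1
      exact Subtype.ext (hjQ v hq.v_mem)) (by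
      rw [← map_mul, ← map_mul]
      congr 1
      exact Subtype.ext (hjQ c hq.c_mem))
    -- the commutator of `v` and `c` is central in `D`
    have h2 : QuotientGroup.mk' (center ↥D) (⟨v, hPD hvP⟩ * ⟨c, hPD hcP⟩ * ⟨v, hPD hvP⟩⁻¹ * ⟨c, hPD hcP⟩⁻¹) = 1 := by
      rw [map_mul, map_mul, map_mul, h1, map_inv, map_inv]
      group
    have h3 := (QuotientGroup.eq_one_iff _).1 h2
    have h4 : v * c * v⁻¹ * c⁻¹ ∈ centralizer (D : Set X) := by
      rw [mem_centralizer_iff]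
      intro y hy
      exact congrArg Subtype.val (mem_center_iff.1 h3 ⟨y, hy⟩)
    have h5 : v * c * v⁻¹ * c⁻¹ ∈ Q := Q.mul_mem (Q.mul_mem (Q.mul_mem hq.v_mem hq.c_mem) (Q.inv_mem hq.v_mem))
      (Q.inv_mem hq.c_mem)
    have h6 : v * c * v⁻¹ * c⁻¹ ≠ 1 := by
      intro h7
      apply hq.not_comm
      rw [mul_inv_eq_one, mul_inv_eq_iff_eq_mul] at h7
      exact h7
    -- a power of it is `z₁`
    obtain ⟨i, hi⟩ : ∃ i : ℕ, (v * c * v⁻¹ * c⁻¹) ^ i = zz M1 := by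
      obtain ⟨a, ha⟩ := hQ.2.1 ⟨_, h5⟩
      have ha' : (v * c * v⁻¹ * c⁻¹) ^ 2 ^ a = 1 := congrArg Subtype.val ha
      obtain ⟨r, hr⟩ := (Nat.dvd_prime_pow Nat.prime_two).1 (orderOf_dvd_of_pow_eq_one ha')
      have hr0 : r ≠ 0 := by
        rintro rfl
        rw [pow_zero] at hr
        exact h6 (orderOf_eq_one_iff.1 hr.2)
      obtain ⟨s, rfl⟩ := Nat.exists_eq_succ_of_ne_zero hr0
      refine ⟨2 ^ s, n.hyp.uniq M1 n.m1 _ (M1.pow_mem (hQ.1 h5) _) ?_⟩
      rw [orderOf_pow_of_dvd (pow_ne_zero _ (by norm_num)) (by rw [hr.2]; exact pow_dvd_pow _ (Nat.le_succ s)), hr.2,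
        Nat.pow_div (Nat.le_succ s) (by norm_num)]
      simp
    exact n.zz_notMem n.m1 (hi ▸ (centralizer (D : Set X)).pow_mem h4 i)
  -- the members in the component of `z₁`
  have key : ∀ b : ↥D, ReflTransGen (RR (Zs Fm D)) ⟨zz M1, n.le_pc n.m1 (n.hyp.zz_mem n.m1)⟩ b →
      ∃ M ∈ Fm, zz M = (b : X) ∧ u ∈ centralizer (M : Set X) ∧
        ∀ N ∈ Fm, zz N * zz M = zz M * zz N → u ∈ centralizer (N : Set X) := by
    intro b hb
    induction hb with
    | refl =>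
      refine ⟨M1, n.m1, rfl, hu1, fun N hN hc => ?_⟩
      refine n.comm_nb n.m1 n.m2 hN ?_ n.z_comm.symm hc hu1 hu2
      intro h
      apply n.not_comm
      exact absurd (n.mul) (by rw [h, n.hyp.zz_mul n.m1]; exact fun h => n.hyp.zz_ne n.m3 h.symm)
    | @tail b b' _ h1 ih =>
      obtain ⟨M, hM, hMb, huM, hall⟩ := ih
      obtain ⟨N, hN, hNb⟩ := h1.2.1
      have hc : zz N * zz M = zz M * zz N := by
        rw [hNb, hMb]; exact (congrArg Subtype.val h1.2.2).symm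
      have huN := hall N hN hc
      refine ⟨N, hN, hNb, huN, fun N' hN' hc' => ?_⟩
      by_cases hne : M = N
      · subst hne
        exact hall N' hN' hc'
      · exact n.comm_nb hN hM hN' hne hc.symm hc' huN huM
  -- the conjugates of `M₁` under `D`
  have hconj : ∀ d ∈ D, u ∈ centralizer (cj d M1 : Set X) := by
    intro d hd
    obtain ⟨M, hM, hMb, huM, -⟩ := key _ (hz.connected hcrit hse ⟨d, hd⟩)
    have h1 : M = cj d M1 := by
      apply n.inj hM (n.hyp.conj _ n.m1 d)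
      rw [hMb, n.hyp.zz_cj n.m1]
      rfl
    rw [← h1]; exact huM
  -- the normal closure of `M₁` in `D` is `D`
  have hqs := n.quasi hp
  set R : Subgroup X := ⨆ d : ↥D, cj (d : X) M1 with hR
  have hRD : R ≤ D := iSup_le fun d => by
    have h1 := cj_mono (d : X) (n.le_pc n.m1)
    rwa [n.cj_D] at h1
  have hRn : (R.subgroupOf D).Normal := by
    rw [normal_subgroupOf_iff_le_normalizer hRD]
    intro x hx
    rw [mem_normalizer_iff_cj, hR, cj_iSup]
    apply le_antisymm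
    · refine iSup_le fun d => ?_
      rw [← cj_mul]
      exact le_iSup (fun d : ↥D => cj (d : X) M1) (⟨x, hx⟩ * d)
    · refine iSup_le fun d => ?_
      have h1 : cj (d : X) M1 = cj x (cj (((⟨x, hx⟩ : ↥D)⁻¹ * d : ↥D) : X) M1) := by
        rw [← cj_mul]
        congr 1
        simp
      rw [h1]
      exact le_iSup (fun d : ↥D => cj x (cj (d : X) M1)) ((⟨x, hx⟩ : ↥D)⁻¹ * d)
  have hM1R : M1 ≤ R := by
    have h1 := le_iSup (fun d : ↥D => cj (d : X) M1) 1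
    simpa using h1
  have hRe : R = D := by
    rcases SignalizersComponents.LayerBasic.quasisimple_normal hqs _ hRn with h1 | h1
    · exact le_antisymm hRD (subgroupOf_eq_top.1 h1)
    · exfalso
      apply n.zz_notMem n.m1
      have h2 : (⟨zz M1, n.le_pc n.m1 (n.hyp.zz_mem n.m1)⟩ : ↥D) ∈ center ↥D :=
        h1 (hM1R (n.hyp.zz_mem n.m1) : zz M1 ∈ R)
      rw [mem_centralizer_iff]
      intro y hy
      exact congrArg Subtype.val (mem_center_iff.1 h2 ⟨y, hy⟩)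
  have h1 : R ≤ centralizer {u} := iSup_le fun d => by
    intro x hx
    rw [mem_centralizer_singleton_iff]
    exact mem_centralizer_iff.1 (hconj _ d.2) x hx
  rw [hRe] at h1
  rw [mem_centralizer_iff]
  intro y hy
  exact mem_centralizer_singleton_iff.1 (h1 hy)

/-- **(2B)**: an element of `O(C(z₁))` centralising `M₁` and `M₂` is trivial -/
theorem eq_one (n : Nb Fm M1 M2 M3) (hp : HasPieces Fm)
    (hcrit : CloEnd.Crit1175 (↥(pc Fm M1) ⧸ center ↥(pc Fm M1)))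
    (hbend : CloEnd.Bend (↥(pc Fm M1) ⧸ center ↥(pc Fm M1))) {Q : Subgroup X} (hQ : Syl Q M1) {j : X}
    (hjD : j ∈ pc Fm M1) (hjQ : ∀ q ∈ Q, j * q = q * j) (hjj : j * j = zz M1) (hO : pPrimeCore 2 X = ⊥)
    (hev : Comp.EvQ X) {u : X} (hu : u ∈ XX (zz M1))
    (hu1 : u ∈ centralizer (M1 : Set X)) (hu2 : u ∈ centralizer (M2 : Set X)) : u = 1 := by
  have hcD := n.comm_D hp hcrit hbend hQ hjD hjQ hjj hu1 hu2
  have hDn : (pc Fm M1).Normal := by
    rw [← normalizer_eq_top_iff, eq_top_iff]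
    intro g _
    exact mem_normalizer_iff_cj.2 (n.cj_D g)
  have hDc : IsComponent (pc Fm M1) := ⟨hDn.isSubnormal, n.quasi hp⟩
  refine CoreTools.eq_one_of_comp hO (n.hyp.zz_mul n.m1) hu fun N hN => ?_
  by_cases hND : N = pc Fm M1
  · rw [hND]; exact hcD
  · refine CoreTools.XX_le_centralizer_of_cent hev hN ?_ hu
    intro x hx
    rw [mem_centralizer_singleton_iff]
    exact Comp.comm_of_ne hN hDc hND hx (n.le_pc n.m1 (n.hyp.zz_mem n.m1))

end Nb

end Nb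

end Cfsg.Agent.Cit.Sp4
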