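import Cfsg.Agent.Cit.SpAll

/-!
# Cores for `|Om(S)| = 3`, `z₁ z₂ z₃ = 1`, type `Sp₄(q)`: (END)

* `TorH Om` : (TOR) at `z₁`, (TOR) at `f`, (2B) at `f` for all configurations;
* `All.tor` : THEOREM F applies to `A`; `All.cdata` : the data of COROLLARY E;
* `All.XX_eq_bot` : `O(C(e)) = 1` for `e ∈ E(S)`, `e ≠ 1`; `All.coreE`.
-/

set_option autoImplicit false
set_option linter.style.haveILetI false
set_option linter.unusedSectionVars false

namespace Cfsg.Agent.Cit.Sp4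

open Subgroup Cfsg Cfsg.Agent.Cit Cfsg.Agent.Cit.TorFunctor

universe u

/-- (TOR) at `z₁` and `f`, (2B) at `f` -/
structure TorH {G : Type u} [Group G] (Om : Set (Subgroup G)) : Prop where
  t1 : ∀ (S : Sylow 2 G) (K1 K2 K3 : Subgroup G) (v1 v2 v3 : G), VD Om (S : Subgroup G) K1 K2 K3 v1 v2 v3 →
    ∀ a ∈ AA Om (S : Subgroup G) (v1 * (v2 * v3)), a ≠ 1 →
      ⁅XX a ⊓ centralizer {zz K1}, AA Om (S : Subgroup G) (v1 * (v2 * v3))⁆ ≤ XX (zz K1)
  tf : ∀ (S : Sylow 2 G) (K1 K2 K3 : Subgroup G) (v1 v2 v3 : G), VD Om (S : Subgroup G) K1 K2 K3 v1 v2 v3 →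
    ∀ a ∈ AA Om (S : Subgroup G) (v1 * (v2 * v3)), a ≠ 1 →
      ⁅XX a ⊓ centralizer {v1 * (v2 * v3)}, AA Om (S : Subgroup G) (v1 * (v2 * v3))⁆ ≤ XX (v1 * (v2 * v3))
  tw : ∀ (S : Sylow 2 G) (K1 K2 K3 : Subgroup G) (v1 v2 v3 : G), VD Om (S : Subgroup G) K1 K2 K3 v1 v2 v3 →
    ∀ u : G, u ∈ XX (zz K1) → u ∈ XX (zz K2) → u ∈ XX (zz K3) → u * (v1 * (v2 * v3)) = v1 * (v2 * v3) * u →
      u ∈ XX (v1 * (v2 * v3))

namespace All

variable {G : Type u} [Group G] [Finite G] {Om : Set (Subgroup G)} {S : Sylow 2 G} {K1 K2 K3 : Subgroup G}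
  {p : ℕ} {F : Type} [Field F] {v1 v2 v3 : G}

/-- the cores of the three involutions have the same intersection with `C(A)` -/
theorem balance_all (g : All Om p F) (d : VD Om (S : Subgroup G) K1 K2 K3 v1 v2 v3) {e u : G}
    (he : e ∈ ES Om (S : Subgroup G)) (he1 : e ≠ 1) (hu : u ∈ XX e)
    (hc : ∀ e' ∈ ES Om (S : Subgroup G), u * e' = e' * u) :
    u ∈ XX (zz K1) ∧ u ∈ XX (zz K2) ∧ u ∈ XX (zz K3) := by
  have c1 := mem_centralizer_singleton_iff.2 (hc _ (zz_mem_ES d.m1))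
  have c2 := mem_centralizer_singleton_iff.2 (hc _ (zz_mem_ES d.m2))
  have c3 := mem_centralizer_singleton_iff.2 (hc _ (zz_mem_ES d.m3))
  rcases d.mem_ES g.tri he with h | h | h | h
  · exact absurd h he1
  · subst h
    exact ⟨hu, g.balance d ⟨hu, c2⟩, g.balance d.swap ⟨hu, c3⟩⟩
  · subst h
    exact ⟨g.balance d.rot.swap ⟨hu, c1⟩, hu, g.balance d.rot ⟨hu, c3⟩⟩
  · subst h
    exact ⟨g.balance d.rot.rot ⟨hu, c1⟩, g.balance d.rot.rot.swap ⟨hu, c2⟩, hu⟩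

/-- **THEOREM F applies to `A`** -/
theorem tor (g : All Om p F) (h : TorH Om) (d : VD Om (S : Subgroup G) K1 K2 K3 v1 v2 v3) :
    Tor (AA Om (S : Subgroup G) (v1 * (v2 * v3))) where
  solv := g.solv
  comm a ha b hb := d.comm_AA g.tri ha hb
  sq a ha := by rw [pow_two]; exact d.sq_AA g.tri ha
  card := (d.card_AA g.tri).ge
  tor := by
    have hS := S.isPGroup'
    intro a ha ha1 b hb hb1
    rcases d.cases g.tri hb hb1 with rfl | rfl | rfl | rfl | rfl | rfl | rfl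
    · exact h.t1 S _ _ _ _ _ _ d a ha ha1
    · have h1 := h.t1 S _ _ _ _ _ _ d.rot a (by rwa [d.AA_rot g.tri]) ha1
      rwa [d.AA_rot g.tri] at h1
    · have e1 : AA Om (S : Subgroup G) (v3 * (v1 * v2)) = AA Om (S : Subgroup G) (v1 * (v2 * v3)) :=
        (d.rot.AA_rot g.tri).trans (d.AA_rot g.tri)
      have h1 := h.t1 S _ _ _ _ _ _ d.rot.rot a (by rwa [e1]) ha1
      rwa [e1] at h1
    · exact h.tf S _ _ _ _ _ _ d a ha ha1
    · have h1 := h.tf S _ _ _ _ _ _ (d.inv1 g.tri.hyp) a (by rwa [d.AA_inv1 g.tri]) ha1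
      rwa [d.AA_inv1 g.tri, d.f_inv1 g.tri.hyp] at h1
    · have e1 : AA Om (S : Subgroup G) (v1 * (v2⁻¹ * v3)) = AA Om (S : Subgroup G) (v1 * (v2 * v3)) := by
        rw [d.f_inv2 g.tri.hyp hS, AA_mul (zz_mem_ES d.m2)]
      have h1 := h.tf S _ _ _ _ _ _ (d.inv2 g.tri.hyp) a (by rwa [e1]) ha1
      rwa [e1, d.f_inv2 g.tri.hyp hS] at h1
    · have e1 : AA Om (S : Subgroup G) (v1 * (v2 * v3⁻¹)) = AA Om (S : Subgroup G) (v1 * (v2 * v3)) := by
        rw [d.f_inv3 g.tri.hyp hS, AA_mul (zz_mem_ES d.m3)]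
      have h1 := h.tf S _ _ _ _ _ _ (d.inv3 g.tri.hyp) a (by rwa [e1]) ha1
      rwa [e1, d.f_inv3 g.tri.hyp hS] at h1
  two := by
    have hS := S.isPGroup'
    intro B hB h4 s hs hs1
    -- `B ∩ E ≠ 1`
    obtain ⟨e, heB, he1, heE⟩ : ∃ e ∈ B, e ≠ 1 ∧ e ∈ ES Om (S : Subgroup G) := by
      have hB1 : B ≠ ⊥ := by rintro rfl; rw [card_bot] at h4; omega
      obtain ⟨a, haB, ha1⟩ := B.bot_or_exists_ne_one.resolve_left hB1
      obtain ⟨a', haB', ha1', hne'⟩ := Tor.exists_ne (B := B) (by omega) (d.sq_AA g.tri (hB haB))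
      by_cases h1 : a ∈ ES Om (S : Subgroup G)
      · exact ⟨a, haB, ha1, h1⟩
      by_cases h2 : a' ∈ ES Om (S : Subgroup G)
      · exact ⟨a', haB', ha1', h2⟩
      refine ⟨a * a', B.mul_mem haB haB', ?_, ?_⟩
      · intro h3
        apply hne'
        have h5 : a⁻¹ = a := inv_eq_of_mul_eq_one_right (d.sq_AA g.tri (hB haB))
        rw [← h5]
        exact (eq_inv_of_mul_eq_one_right h3)
      · exact (ThreeCore.mem_or_mul_mem ES_le_AA (d.card_ES g.tri) (d.card_AA g.tri) (hB haB') h2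
          (hB haB)).resolve_left h1
    rintro u ⟨hu, huA⟩
    have hc : ∀ a ∈ AA Om (S : Subgroup G) (v1 * (v2 * v3)), u * a = a * u := fun a ha =>
      (mem_centralizer_iff.1 huA a ha).symm
    obtain ⟨u1, u2, u3⟩ := g.balance_all d heE he1 (Del_le heB he1 hu) (fun e' he' => hc e' (ES_le_AA he'))
    rcases d.cases g.tri hs hs1 with rfl | rfl | rfl | rfl | rfl | rfl | rfl
    · exact u1
    · exact u2
    · exact u3
    · exact h.tw S _ _ _ _ _ _ d u u1 u2 u3 (hc _ self_mem_AA)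
    · have h1 := h.tw S _ _ _ _ _ _ (d.inv1 g.tri.hyp) u u1 u2 u3
      rw [d.f_inv1 g.tri.hyp] at h1
      exact h1 (hc _ hs)
    · have h1 := h.tw S _ _ _ _ _ _ (d.inv2 g.tri.hyp) u u1 u2 u3
      rw [d.f_inv2 g.tri.hyp hS] at h1
      exact h1 (hc _ hs)
    · have h1 := h.tw S _ _ _ _ _ _ (d.inv3 g.tri.hyp) u u1 u2 u3
      rw [d.f_inv3 g.tri.hyp hS] at h1
      exact h1 (hc _ hs)

/-! ### Generation -/

theorem qt_v (g : All Om p F) (d : VD Om (S : Subgroup G) K1 K2 K3 v1 v2 v3) :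
    v1 ∈ centralizer ({zz K1} : Set G) ∧ v2 ∈ centralizer ({zz K1} : Set G) ∧
      v3 ∈ centralizer ({zz K1} : Set G) := by
  have hS := S.isPGroup'
  have h1 := DD_le_centralizer_ES g.tri.hyp hS (Om := Om)
  have key : ∀ x ∈ DD Om (S : Subgroup G), x ∈ centralizer ({zz K1} : Set G) := fun x hx =>
    mem_centralizer_singleton_iff.2 (mem_centralizer_iff.1 (h1 hx) _ (zz_mem_ES d.m1)).symm
  exact ⟨key _ d.mem_DD, key _ d.rot.mem_DD, key _ d.rot.rot.mem_DD⟩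

theorem qt_f (g : All Om p F) (d : VD Om (S : Subgroup G) K1 K2 K3 v1 v2 v3) :
    ThreeCore.qt K1 (v1 * (v2 * v3)) = ThreeCore.qt K1 v1 * (ThreeCore.qt K1 v2 * ThreeCore.qt K1 v3) := by
  obtain ⟨h1, h2, h3⟩ := g.qt_v d
  rw [ThreeCore.qt_mul h1 (mul_mem h2 h3), ThreeCore.qt_mul h2 h3]

/-- the images of `v₁`, `v₂`, `v₃` -/
theorem qt_mem (g : All Om p F) (d : VD Om (S : Subgroup G) K1 K2 K3 v1 v2 v3) :
    ThreeCore.qt K1 v1 ∈ UseT.tr (centralizer {zz K1}) K1 ∧ ThreeCore.qt K1 v2 ∈ UseT.tr (centralizer {zz K1}) K2 ∧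
      ThreeCore.qt K1 v3 ∈ UseT.tr (centralizer {zz K1}) K3 ∧
      ThreeCore.qt K1 v2 * ThreeCore.qt K1 v2 = zz (UseT.tr (centralizer {zz K1}) K2) ∧
      ThreeCore.qt K1 v3 * ThreeCore.qt K1 v3 = zz (UseT.tr (centralizer {zz K1}) K3) ∧
      ThreeCore.qt K1 v1 * ThreeCore.qt K1 v1 = zz (UseT.tr (centralizer {zz K1}) K1) := by
  obtain ⟨h1, h2, h3⟩ := g.qt_v d
  have loc := g.vloc d
  refine ⟨loc.syl K1 d.m1 v1 ⟨d.k1, d.s1⟩, loc.syl K2 d.m2 v2 ⟨d.k2, d.s2⟩, loc.syl K3 d.m3 v3 ⟨d.k3, d.s3⟩, ?_, ?_, ?_⟩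
  · rw [loc.zt K2 d.m2, ← d.q2, ThreeCore.qt_mul h2 h2]
  · rw [loc.zt K3 d.m3, ← d.q3, ThreeCore.qt_mul h3 h3]
  · rw [loc.zt K1 d.m1, ← ThreeCore.qt_mul h1 h1]
    exact congrArg (ThreeCore.qt K1) d.q1

/-- `D ≤ ⟨C(z₂), C(f)⟩` -/
theorem PP_le (g : All Om p F) (d : VD Om (S : Subgroup G) K1 K2 K3 v1 v2 v3) :
    CoreThree.PP Om K1 K2 ≤ centralizer {ThreeCore.qt K1 (zz K2)} ⊔ centralizer {ThreeCore.qt K1 (v1 * (v2 * v3))} := by
  have loc := g.vloc d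
  obtain ⟨m1, m2, m3, e2, e3, -⟩ := g.qt_mem d
  refine (loc.facts.gen _ m2 _ m3 e2 e3).trans (sup_le (sup_le (le_sup_of_le_left ?_) (le_sup_of_le_left ?_))
    (le_sup_of_le_right ?_))
  · intro x hx
    rw [← loc.zt K2 d.m2]
    exact mem_centralizer_singleton_iff.2 (loc.sp.memK.zc x hx)
  · intro x hx
    rw [← loc.zt K2 d.m2]
    exact mem_centralizer_singleton_iff.2 (loc.sp.comm _ loc.sp.memK.zmem x hx).symm
  · intro x hx
    rw [g.qt_f d, mem_centralizer_singleton_iff]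
    have h1 := jL_comm hx
    have h2 := loc.comm1 _ m1 x (jL_le hx)
    calc x * (ThreeCore.qt K1 v1 * (ThreeCore.qt K1 v2 * ThreeCore.qt K1 v3))
        = (x * ThreeCore.qt K1 v1) * (ThreeCore.qt K1 v2 * ThreeCore.qt K1 v3) := by group
      _ = ThreeCore.qt K1 v1 * (x * (ThreeCore.qt K1 v2 * ThreeCore.qt K1 v3)) := by rw [← h2]; group
      _ = ThreeCore.qt K1 v1 * (ThreeCore.qt K1 v2 * ThreeCore.qt K1 v3) * x := by rw [h1]; group

/-- generation of `C(z₁)` modulo the normaliser of `D(S)` -/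
theorem gen1 (g : All Om p F) (d : VD Om (S : Subgroup G) K1 K2 K3 v1 v2 v3) :
    ∃ L : Subgroup G, centralizer {zz K1} ≤ normalizer (L : Set G) ∧ DD Om (S : Subgroup G) ≤ L ∧
      L ≤ XX (zz K1) ⊔ ⨆ (b : G) (_ : b ∈ AA Om (S : Subgroup G) (v1 * (v2 * v3)) ∧ b ≠ 1 ∧ b ≠ zz K1),
        centralizer {zz K1} ⊓ centralizer {b} := by
  have hS := S.isPGroup'
  have loc := g.vloc d
  have hnor : ∀ x : ThreeCore.HQ K1, x ∈ normalizer (CoreThree.PP Om K1 K2 : Set (ThreeCore.HQ K1)) := by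
    intro x
    haveI := loc.nor
    rw [normalizer_eq_top (CoreThree.PP Om K1 K2)]
    exact mem_top x
  set A := AA Om (S : Subgroup G) (v1 * (v2 * v3)) with hA
  refine ⟨ThreeCore.pre K1 (CoreThree.PP Om K1 K2 ⊔ centralizer (CoreThree.PP Om K1 K2 : Set (ThreeCore.HQ K1))),
    ThreeCore.centralizer_le_normalizer_pre ?_, ?_, ?_⟩
  · intro x
    rw [mem_normalizer_iff_cj, cj_sup, mem_normalizer_iff_cj.1 (hnor x), CoreTools.cj_centralizer_set,
      mem_normalizer_iff_cj.1 (hnor x)]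
  · rw [DD_le_iff]
    intro N hN x hx
    have hxc : x ∈ centralizer ({zz K1} : Set G) := mem_centralizer_singleton_iff.2
      (mem_centralizer_iff.1 (DD_le_centralizer_ES g.tri.hyp hS (inf_le_DD hN hx)) _ (zz_mem_ES d.m1)).symm
    refine ThreeCore.mem_pre.2 ⟨hxc, ?_⟩
    have h1 := loc.syl N hN x hx
    rw [d.OmS_eq g.tri] at hN
    rcases hN with rfl | rfl | hN
    · exact mem_sup_right (mem_centralizer_iff.2 fun y hy => (loc.comm1 _ h1 y hy).symm)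
    · exact mem_sup_left (loc.sp.left h1)
    · have hN' : N = K3 := hN
      subst hN'
      exact mem_sup_left (loc.sp.right h1)
  · set R := XX (zz K1) ⊔ ⨆ (b : G) (_ : b ∈ A ∧ b ≠ 1 ∧ b ≠ zz K1), centralizer {zz K1} ⊓ centralizer {b} with hR
    have hpre : ∀ b ∈ A, b ≠ 1 → b ≠ zz K1 → ThreeCore.pre K1 (centralizer {ThreeCore.qt K1 b}) ≤ R := by
      intro b hb h1 h2
      refine (ThreeCore.pre_centralizer (g.mem_cent d hb d.z1_mem) (d.sq_AA g.tri hb)).trans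
        (sup_le le_sup_left ?_)
      exact le_sup_of_le_right (le_iSup₂ (f := fun (b : G) (_ : b ∈ A ∧ b ≠ 1 ∧ b ≠ zz K1) =>
        centralizer {zz K1} ⊓ centralizer {b}) b ⟨hb, h1, h2⟩)
    have hz2D : ThreeCore.qt K1 (zz K2) ∈ CoreThree.PP Om K1 K2 := by
      rw [← loc.zt K2 d.m2]; exact loc.sp.left loc.sp.memK.zmem
    have h3 : CoreThree.PP Om K1 K2 ⊔ centralizer (CoreThree.PP Om K1 K2 : Set (ThreeCore.HQ K1)) ≤
        centralizer {ThreeCore.qt K1 (zz K2)} ⊔ centralizer {ThreeCore.qt K1 (v1 * (v2 * v3))} := by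
      refine sup_le (g.PP_le d) (le_sup_of_le_left ?_)
      exact centralizer_le (Set.singleton_subset_iff.2 hz2D)
    have h5 : centralizer {ThreeCore.qt K1 (zz K2)} ⊔ centralizer {ThreeCore.qt K1 (v1 * (v2 * v3))} ≤
        (R.subgroupOf (centralizer ({zz K1} : Set G))).map (ThreeCore.pr K1) := by
      refine sup_le ?_ ?_
      · intro y hy
        obtain ⟨⟨y, hy1⟩, rfl⟩ := ThreeCore.pr_surjective K1 y
        rw [← ThreeCore.qt_eq hy1] at hy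
        exact ⟨⟨y, hy1⟩, hpre _ d.z2_mem (g.tri.hyp.zz_ne d.m2.1) (d.z_ne g.tri).symm
          (ThreeCore.mem_pre.2 ⟨hy1, hy⟩), rfl⟩
      · intro y hy
        obtain ⟨⟨y, hy1⟩, rfl⟩ := ThreeCore.pr_surjective K1 y
        rw [← ThreeCore.qt_eq hy1] at hy
        refine ⟨⟨y, hy1⟩, hpre _ self_mem_AA (d.f_ne_one g.tri) ?_ (ThreeCore.mem_pre.2 ⟨hy1, hy⟩), rfl⟩
        intro h6
        exact d.f_notMem g.tri (h6 ▸ zz_mem_ES d.m1)
    intro x hx
    obtain ⟨hx1, hx2⟩ := ThreeCore.mem_pre.1 hx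
    have h4 := h3 hx2
    rw [ThreeCore.qt_eq hx1] at h4
    obtain ⟨⟨y, hy1⟩, hy2, hyx⟩ := h5 h4
    have h6 : x * y⁻¹ ∈ XX (zz K1) := by
      rw [← ThreeCore.qt_eq_one (mul_mem hx1 (inv_mem hy1)), ThreeCore.qt_eq (mul_mem hx1 (inv_mem hy1))]
      have h7 : (⟨x * y⁻¹, mul_mem hx1 (inv_mem hy1)⟩ : centralizer ({zz K1} : Set G)) = ⟨x, hx1⟩ * ⟨y, hy1⟩⁻¹ := rfl
      rw [h7, map_mul, map_inv, hyx, mul_inv_cancel]
    have h8 : x = (x * y⁻¹) * y := by group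
    rw [h8]
    exact mul_mem (mem_sup_left h6) hy2

/-- the data of COROLLARY E -/
theorem cdata (g : All Om p F) (h : TorH Om) (d : VD Om (S : Subgroup G) K1 K2 K3 v1 v2 v3) :
    CData Om (S : Subgroup G) (AA Om (S : Subgroup G) (v1 * (v2 * v3)))
      (DF (AA Om (S : Subgroup G) (v1 * (v2 * v3)))) where
  out := (g.tor h d).fout
  sq a ha := d.sq_AA g.tri ha
  comm a ha b hb := d.comm_AA g.tri ha hb
  le := ES_le_AA
  four := ⟨_, le_rfl, d.card_ES g.tri⟩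
  gen K hK := by
    rw [d.OmS_eq g.tri] at hK
    rcases hK with rfl | rfl | hK
    · exact g.gen1 d
    · have h1 := g.gen1 d.rot
      rwa [d.AA_rot g.tri] at h1
    · have hK' : K = K3 := hK
      subst hK'
      have h1 := g.gen1 d.rot.rot
      rwa [d.rot.AA_rot g.tri, d.AA_rot g.tri] at h1

/-- `D(A) = 1` -/
theorem DF_eq_bot (g : All Om p F) (h : TorH Om) (hne : Om.Nonempty)
    (hcon : ∀ K ∈ Om, ∀ L ∈ Om, Relation.ReflTransGen (Adj Om) K L)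
    (hO : ∀ N : Subgroup G, N.Normal → ¬ 2 ∣ Nat.card N → N = ⊥)
    (d : VD Om (S : Subgroup G) K1 K2 K3 v1 v2 v3) : DF (AA Om (S : Subgroup G) (v1 * (v2 * v3))) = ⊥ := by
  have hex : ∀ S : Sylow 2 G, ∃ A : Subgroup G, CData Om (S : Subgroup G) A (DF A) := by
    intro S
    obtain ⟨K, hK⟩ := g.tri.hyp.OmS_nonempty S hne
    obtain ⟨K2, K3, v1, v2, v3, d⟩ := exists_vd g.tri S hK
    exact ⟨_, g.cdata h d⟩
  choose A hA using hex
  have h3 := CData.eq_bot g.tri.hyp hne hcon hO A (fun S => DF (A S)) hA S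
  rw [(g.cdata h d).eq_DE, ← (hA S).eq_DE]
  exact h3

/-- **`O(C(e)) = 1`** -/
theorem XX_eq_bot (g : All Om p F) (h : TorH Om) (hne : Om.Nonempty)
    (hcon : ∀ K ∈ Om, ∀ L ∈ Om, Relation.ReflTransGen (Adj Om) K L)
    (hO : ∀ N : Subgroup G, N.Normal → ¬ 2 ∣ Nat.card N → N = ⊥) (S : Sylow 2 G) {e : G}
    (he : e ∈ ES Om (S : Subgroup G)) (he1 : e ≠ 1) : XX e = ⊥ := by
  obtain ⟨K, hK⟩ := g.tri.hyp.OmS_nonempty S hne
  obtain ⟨K2, K3, v1, v2, v3, d⟩ := exists_vd g.tri S hK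
  have hD := g.DF_eq_bot h hne hcon hO d
  have h1 : ⁅XX e, AA Om (S : Subgroup G) (v1 * (v2 * v3))⁆ ≤ ⊥ := by
    rw [← hD]
    exact (g.tor h d).commutator_XX_le (ES_le_AA he) he1
  rw [le_bot_iff, commutator_eq_bot_iff_le_centralizer] at h1
  rw [eq_bot_iff, ← hD]
  refine le_trans ?_ (Dl_le_DF' ES_le_AA (d.card_ES g.tri))
  intro x hx
  have hc : ∀ e' ∈ ES Om (S : Subgroup G), x * e' = e' * x := fun e' he' =>
    (mem_centralizer_iff.1 (h1 hx) e' (ES_le_AA he')).symm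
  obtain ⟨u1, u2, u3⟩ := g.balance_all d he he1 hx hc
  rw [mem_Del]
  intro e' he' he'1
  rcases d.mem_ES g.tri he' with h4 | h4 | h4 | h4
  · exact absurd h4 he'1
  · rw [h4]; exact u1
  · rw [h4]; exact u2
  · rw [h4]; exact u3

/-- **the cores** -/
theorem coreE (g : All Om p F) (h : TorH Om) (hne : Om.Nonempty) (hcon : CoreThree.Conn Om)
    (hO : ∀ N : Subgroup G, N.Normal → ¬ 2 ∣ Nat.card N → N = ⊥) : CoreThree.CoreE Om := by
  intro S K _ s hs hs1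
  rw [g.XX_eq_bot h hne hcon hO S hs hs1]
  exact commutator_bot_left _

end All

end Cfsg.Agent.Cit.Sp4
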