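import Cfsg.Agent.Cit.ThreeSpLoc
import Cfsg.Agent.Cit.CoresG
import Cfsg.Agent.Cit.UseT3

/-!
# Cores for `|Om(S)| = 3`, `z₁ z₂ z₃ = 1`, type `Sp₄(q)`: the group level

`E = ES Om S = {1, z₁, z₂, z₃}`, `f = v₁ v₂ v₃`, `v_i ∈ K_i ⊓ S` of order 4, `A = ⟨E, f⟩` (helper145,
blueprints/CIT-n3.md, (S3), (S6)).

* `LF E H` : the input from `H / O(H)`, `H = C(f)` (part (III));
* `Dat E A` : balance and (TOR) at the elements of `E`, `LF` for the other elements of `A`; `Dat.tor` : the hypotheses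
  of THEOREM F;
* `Dat.XX_eq_bot` : `D(A) = 1` implies `O(C(e)) = 1` for `e ∈ E`, `e ≠ 1`.
-/

set_option autoImplicit false
set_option linter.style.haveILetI false
set_option linter.unusedSectionVars false

namespace Cfsg.Agent.Cit.ThreeSp

open Subgroup Cfsg Cfsg.Agent.Cit SubCent UseT Cfsg.Agent.Cit.Comp TorFunctor CoresG
open Cfsg.Agent.SignalizersComponents.Components
open scoped commutatorElement

universe u

section Abstract

variable {G : Type u} [Group G] [Finite G] {E A : Subgroup G}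

/-- the image of `E` in `H / O(H)`, `H = C(f)` -/
def EQ (E H : Subgroup G) : Subgroup (HQ H) := (E.subgroupOf H).map (qm H)

/-- **(III)**: the input from `H / O(H)`, `H = C(f)`: all of `E` lies in one component `D`, and (TOR) and (2B) hold
for `D` -/
def LF (E H : Subgroup G) : Prop :=
  ∃ D : Subgroup (HQ H), IsComponent D ∧ EQ E H ≤ D ∧
    (∀ e ∈ EQ E H, e ≠ 1 → ∀ y ∈ XX e, ∀ e' ∈ EQ E H,
      y * e' * y⁻¹ * e'⁻¹ ∈ centralizer (D : Set (HQ H))) ∧
    ∀ u, (∀ e ∈ EQ E H, e ≠ 1 → u ∈ XX e) → u ∈ centralizer (D : Set (HQ H))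

/-- the group level data -/
structure Dat (E A : Subgroup G) : Prop where
  comm : ∀ a ∈ A, ∀ b ∈ A, a * b = b * a
  sq : ∀ a ∈ A, a * a = 1
  le : E ≤ A
  cardE : Nat.card E = 4
  cardA : Nat.card A = 8
  idx : ∀ a ∈ A, ∀ b ∈ A, a ∉ E → b ∉ E → a * b ∈ E
  /-- (S3) -/
  bal : ∀ a ∈ E, a ≠ 1 → ∀ b ∈ E, b ≠ 1 → XX a ⊓ centralizer {b} ≤ XX b
  torE : ∀ a ∈ A, a ∉ E → ∀ b ∈ E, b ≠ 1 → ⁅XX a ⊓ centralizer {b}, A⁆ ≤ XX b
  lf : ∀ b ∈ A, b ∉ E → LF E (centralizer {b})

namespace LF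

variable {H : Subgroup G}

/-- an element `x ∈ O(C(a)) ⊓ H`, `a ∈ E`, commutes with `E` modulo `O(H)` -/
theorem comm (h : LF E H) (hev : EvQ (HQ H)) (hEc : ∀ a ∈ E, ∀ b ∈ E, a * b = b * a)
    (hE2 : ∀ a ∈ E, a * a = 1) {e : H} (he : (e : G) ∈ E) (he1 : e ≠ 1) {x : HQ H} (hx : x ∈ XX (qm H e)) {e' : H}
    (he' : (e' : G) ∈ E) : x * qm H e' = qm H e' * x := by
  obtain ⟨D, hD, hED, h1, -⟩ := h
  have hee : e * e = 1 := Subtype.ext (hE2 e he)
  have hqe : qm H e ∈ EQ E H := ⟨e, he, rfl⟩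
  have hqe' : qm H e' ∈ EQ E H := ⟨e', he', rfl⟩
  have hqe1 : qm H e ≠ 1 := by
    intro h0
    apply he1
    have h2 := (mem_ker_iff H).1 h0
    exact Subtype.ext (eq_one_of_odd (odd_OO H) h2 (a := 1) (by
      rw [pow_one, pow_two]; exact hE2 e he))
  have hcomm : qm H e' * qm H e = qm H e * qm H e' := by
    rw [← map_mul, ← map_mul]
    congr 1
    exact Subtype.ext (hEc _ he' _ he)
  have h2 : x * qm H e' * x⁻¹ * (qm H e')⁻¹ ∈ XX (qm H e) := by
    have e1 : x * qm H e' * x⁻¹ * (qm H e')⁻¹ = x * (qm H e' * x⁻¹ * (qm H e')⁻¹) := by group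
    rw [e1]
    exact mul_mem hx (CT.conj_mem_XX hcomm (inv_mem hx))
  have h3 : x * qm H e' * x⁻¹ * (qm H e')⁻¹ = 1 := by
    refine CoreTools.eq_one_of_comp (core_HQ H) (by rw [← map_mul, hee, map_one]) h2 fun N hN => ?_
    by_cases hND : N = D
    · subst hND
      exact h1 _ hqe hqe1 x hx _ hqe'
    · refine CoreTools.XX_le_centralizer_of_cent hev hN ?_ h2
      intro n hn
      rw [mem_centralizer_singleton_iff]
      exact comm_of_ne hN hD hND hn (hED hqe)
  rw [mul_inv_eq_one, mul_inv_eq_iff_eq_mul] at h3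
  exact h3

/-- (2B) -/
theorem eq_one (h : LF E H) (hev : EvQ (HQ H)) (hE2 : ∀ a ∈ E, a * a = 1) (hne : ∃ e : H, (e : G) ∈ E ∧ e ≠ 1)
    {x : HQ H} (hx : ∀ e : H, (e : G) ∈ E → e ≠ 1 → x ∈ XX (qm H e)) : x = 1 := by
  obtain ⟨D, hD, hED, -, h1⟩ := h
  obtain ⟨e, he, he1⟩ := hne
  have hee : e * e = 1 := Subtype.ext (hE2 e he)
  have hqe : qm H e ∈ EQ E H := ⟨e, he, rfl⟩
  refine CoreTools.eq_one_of_comp (core_HQ H) (a := qm H e) (by rw [← map_mul, hee, map_one]) (hx e he he1)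
    fun N hN => ?_
  by_cases hND : N = D
  · subst hND
    refine h1 x ?_
    rintro _ ⟨e', he', rfl⟩ hne'
    refine hx e' he' ?_
    rintro rfl
    exact hne' (map_one _)
  · refine CoreTools.XX_le_centralizer_of_cent hev hN ?_ (hx e he he1)
    intro n hn
    rw [mem_centralizer_singleton_iff]
    exact comm_of_ne hN hD hND hn (hED hqe)

end LF

theorem commutator_le_of_norm {H : Type*} [Group H] {X A : Subgroup H} (h : A ≤ normalizer X) : ⁅X, A⁆ ≤ X := by
  rw [commutator_le]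
  intro x hx a ha
  have e1 : ⁅x, a⁆ = x * (a * x⁻¹ * a⁻¹) := by rw [commutatorElement_def]; group
  rw [e1]
  exact X.mul_mem hx ((mem_normalizer_iff.1 (h ha) _).1 (X.inv_mem hx))

theorem XX_mul_central {H : Type*} [Group H] {b a : H} (hb : ∀ x : H, x * b = b * x) : XX (b * a) = XX a := by
  have h1 : centralizer ({b * a} : Set H) = centralizer {a} := by
    ext x
    rw [mem_centralizer_singleton_iff, mem_centralizer_singleton_iff]
    constructor
    · intro h
      have h2 : b * (x * a) = b * (a * x) := by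
        calc b * (x * a) = (b * x) * a := by group
          _ = (x * b) * a := by rw [hb]
          _ = x * (b * a) := by group
          _ = b * (a * x) := by rw [h]; group
      exact mul_left_cancel h2
    · intro h
      calc x * (b * a) = (x * b) * a := by group
        _ = b * (x * a) := by rw [hb]; group
        _ = b * a * x := by rw [h]; group
  rw [XX, XX, h1]

namespace Dat

theorem le_cent (d : Dat E A) {b : G} (hb : b ∈ A) : A ≤ centralizer {b} := fun a ha =>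
  mem_centralizer_singleton_iff.2 (d.comm a ha b hb)

theorem exists_ne_one (d : Dat E A) : ∃ e ∈ E, e ≠ 1 := by
  refine E.bot_or_exists_ne_one.resolve_left ?_
  rintro rfl
  have := d.cardE
  rw [card_bot] at this
  omega

/-- (TOR) at `b ∉ E` -/
theorem tor_f (d : Dat E A) (hev : ∀ b : G, EvQ (HQ (centralizer ({b} : Set G)))) {a b : G} (ha : a ∈ A)
    (ha1 : a ≠ 1) (hb : b ∈ A) (hbE : b ∉ E) : ⁅XX a ⊓ centralizer {b}, A⁆ ≤ XX b := by
  set H := centralizer ({b} : Set G) with hH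
  by_cases hab : a = b
  · subst hab
    refine (commutator_mono inf_le_left le_rfl).trans (commutator_le_of_norm ?_)
    exact (d.le_cent hb).trans (centralizer_le_normalizer_XX a)
  -- `a ∈ E` or `a ∈ b E`
  obtain ⟨e, heE, he1, hea⟩ : ∃ e ∈ E, e ≠ 1 ∧ (a = e ∨ a = b * e) := by
    by_cases haE : a ∈ E
    · exact ⟨a, haE, ha1, Or.inl rfl⟩
    · refine ⟨b * a, d.idx b hb a ha hbE haE, ?_, Or.inr ?_⟩
      · intro h1
        apply hab
        have h2 : b⁻¹ = a := by rw [inv_eq_iff_mul_eq_one]; exact h1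
        rw [← h2]
        exact inv_eq_of_mul_eq_one_right (d.sq b hb)
      · rw [← mul_assoc, d.sq b hb, one_mul]
  have hbH : b ∈ H := mem_centralizer_singleton_iff.2 rfl
  have heH : e ∈ H := d.le_cent hb (d.le heE)
  have haH : a ∈ H := d.le_cent hb ha
  have hbc : ∀ x : HQ H, x * qm H ⟨b, hbH⟩ = qm H ⟨b, hbH⟩ * x := by
    intro x
    obtain ⟨y, rfl⟩ := qm_surjective H x
    rw [← map_mul, ← map_mul]
    congr 1
    exact Subtype.ext (mem_centralizer_singleton_iff.1 y.2)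
  rw [commutator_le]
  intro x hx c hc
  have hxH : x ∈ H := hx.2
  have hcH : c ∈ H := d.le_cent hb hc
  have h1 : qm H ⟨x, hxH⟩ ∈ XX (qm H ⟨e, heH⟩) := by
    have h2 : qm H ⟨x, hxH⟩ ∈ XX (qm H ⟨a, haH⟩) := qm_mem_XX (Subtype.ext (d.sq a ha)) hx.1
    rcases hea with h3 | h3
    · subst h3; exact h2
    · have h4 : qm H ⟨a, haH⟩ = qm H ⟨b, hbH⟩ * qm H ⟨e, heH⟩ := by
        rw [← map_mul]
        congr 1
        exact Subtype.ext h3
      rwa [h4, XX_mul_central hbc] at h2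
  have key : ∀ e' (he' : e' ∈ E) (he'H : e' ∈ H),
      qm H ⟨x, hxH⟩ * qm H ⟨e', he'H⟩ = qm H ⟨e', he'H⟩ * qm H ⟨x, hxH⟩ := fun e' he' he'H =>
    (d.lf b hb hbE).comm (hev b) (fun a ha b hb => d.comm a (d.le ha) b (d.le hb)) (fun a ha => d.sq a (d.le ha))
      (e := ⟨e, heH⟩) heE (fun h0 => he1 (congrArg Subtype.val h0)) h1 he'
  have h5 : qm H ⟨x, hxH⟩ * qm H ⟨c, hcH⟩ = qm H ⟨c, hcH⟩ * qm H ⟨x, hxH⟩ := by
    by_cases hcE : c ∈ E
    · exact key c hcE hcH
    · have h6 := key (b * c) (d.idx b hb c hc hbE hcE) (H.mul_mem hbH hcH)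
      have h7 : qm H ⟨c, hcH⟩ = qm H ⟨b, hbH⟩ * qm H ⟨b * c, H.mul_mem hbH hcH⟩ := by
        rw [← map_mul]
        congr 1
        apply Subtype.ext
        change c = b * (b * c)
        rw [← mul_assoc, d.sq b hb, one_mul]
      rw [h7, ← mul_assoc, hbc, mul_assoc, h6, mul_assoc]
  have h8 : qm H (⟨x, hxH⟩ * ⟨c, hcH⟩ * (⟨x, hxH⟩ : H)⁻¹ * (⟨c, hcH⟩ : H)⁻¹) = 1 := by
    rw [map_mul, map_mul, map_mul, h5, map_inv, map_inv]
    group
  exact (mem_ker_iff H).1 h8

/-- (2B) at `b ∉ E` -/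
theorem two_f (d : Dat E A) (hev : ∀ b : G, EvQ (HQ (centralizer ({b} : Set G)))) {b : G} (hb : b ∈ A)
    (hbE : b ∉ E) : Del E ⊓ centralizer (A : Set G) ≤ XX b := by
  set H := centralizer ({b} : Set G) with hH
  rintro x ⟨hx, hxA⟩
  have hxH : x ∈ H := mem_centralizer_singleton_iff.2 (mem_centralizer_iff.1 hxA b hb).symm
  obtain ⟨e, he, he1⟩ := d.exists_ne_one
  have h1 : qm H ⟨x, hxH⟩ = 1 := by
    refine (d.lf b hb hbE).eq_one (hev b) (fun a ha => d.sq a (d.le ha))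
      ⟨⟨e, d.le_cent hb (d.le he)⟩, he, fun h0 => he1 (congrArg Subtype.val h0)⟩ ?_
    intro e' he' he'1
    refine qm_mem_XX (Subtype.ext (d.sq _ (d.le he'))) ?_
    exact Del_le he' (fun h0 => he'1 (Subtype.ext h0)) hx
  exact (mem_ker_iff H).1 h1

/-- **the hypotheses of THEOREM F** -/
theorem tor (d : Dat E A) (hodd : OddStmt.{u}) : Tor A where
  solv X hX := hodd X fun h2 => hX h2
  comm := d.comm
  sq a ha := by rw [pow_two]; exact d.sq a ha
  card := d.cardA.ge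
  tor := by
    intro a ha ha1 b hb hb1
    by_cases hbE : b ∈ E
    · by_cases haE : a ∈ E
      · refine (commutator_mono (d.bal a haE ha1 b hbE hb1) le_rfl).trans (commutator_le_of_norm ?_)
        exact (d.le_cent hb).trans (centralizer_le_normalizer_XX b)
      · exact d.torE a ha haE b hbE hb1
    · exact d.tor_f (fun b => hodd.evQ _) ha ha1 hb hbE
  two := by
    intro B hB h4 s hs hs1
    -- `B ⊓ E ≠ 1`
    obtain ⟨e, heB, heE, he1⟩ : ∃ e ∈ B, e ∈ E ∧ e ≠ 1 := by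
      by_contra hcon
      push Not at hcon
      have h5 : B ⊓ E = ⊥ := by
        rw [eq_bot_iff]
        rintro x ⟨hx, hxE⟩
        exact hcon x hx hxE
      obtain ⟨b, hb, hb1⟩ := Tor.exists_ne_one_of_card h4
      have hbE : b ∉ E := fun h => hb1 (hcon b hb h)
      -- an element of `B` different from `1`, `b`
      obtain ⟨c, hc, hc1, hcb⟩ := Tor.exists_ne h4.ge (d.sq b (hB hb))
      have hcE : c ∉ E := fun h => hc1 (hcon c hc h)
      have h6 := d.idx b (hB hb) c (hB hc) hbE hcE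
      have h7 := hcon _ (B.mul_mem hb hc) h6
      apply hcb
      have h8 : b⁻¹ = c := by rw [inv_eq_iff_mul_eq_one]; exact h7
      rw [← h8]
      exact inv_eq_of_mul_eq_one_right (d.sq b (hB hb))
    have hDel : Del B ⊓ centralizer (A : Set G) ≤ Del E := by
      rintro x ⟨hx, hxA⟩
      rw [mem_Del]
      intro e' he' he'1
      refine d.bal e heE he1 e' he' he'1 ⟨Del_le heB he1 hx, ?_⟩
      exact mem_centralizer_singleton_iff.2 (mem_centralizer_iff.1 hxA e' (d.le he')).symm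
    by_cases hsE : s ∈ E
    · exact hDel.trans (Del_le hsE hs1)
    · exact (le_inf hDel inf_le_right).trans (d.two_f (fun b => hodd.evQ _) hs hsE)

/-- `D(A) = 1` implies `O(C(e)) = 1` -/
theorem XX_eq_bot (d : Dat E A) (hodd : OddStmt.{u}) (hD : DF A = ⊥) {e : G} (he : e ∈ E) (he1 : e ≠ 1) :
    XX e = ⊥ := by
  have h1 : ⁅XX e, A⁆ ≤ ⊥ := by
    rw [← hD]
    exact (d.tor hodd).commutator_XX_le (d.le he) he1
  rw [le_bot_iff, commutator_eq_bot_iff_le_centralizer] at h1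
  rw [eq_bot_iff, ← hD]
  refine le_trans ?_ (Dl_le_DF' d.le d.cardE)
  intro x hx
  rw [mem_Del]
  intro e' he' he'1
  refine d.bal e he he1 e' he' he'1 ⟨hx, ?_⟩
  exact mem_centralizer_singleton_iff.2 (mem_centralizer_iff.1 (h1 hx) e' (d.le he')).symm

end Dat

end Abstract

end Cfsg.Agent.Cit.ThreeSp
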