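import Cfsg.Agent.Cit.SpCfg
import Cfsg.Agent.Cit.ThreeSpCore

/-!
# Cores for `|Om(S)| = 3`, `z₁ z₂ z₃ = 1`, type `Sp₄(q)`: (TOR)

`A = AA Om S f = E(S) ∪ E(S) f`, `f = v₁ v₂ v₃`.

* `VD.torZ` : `⁅O(C(a)) ⊓ C(z₁), A⁆ ≤ O(C(z₁))` for `a ∈ A`, `a ≠ 1`;
* `VD.torF` : `⁅O(C(a)) ⊓ C(f), A⁆ ≤ O(C(f))` from `⁅O(C(f) ⊓ C(z_i)), z_j⁆ ≤ O(C(f))`.
-/

set_option autoImplicit false
set_option linter.style.haveILetI false
set_option linter.unusedSectionVars false

namespace Cfsg.Agent.Cit.Sp4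

open Subgroup Cfsg Cfsg.Agent.Cit Cfsg.Agent.Cit.TorFunctor UseT CoresG SubCent Cfsg.Agent.Cit.OneComp
  Cfsg.Agent.Cit.Comp
open Cfsg.Agent.SignalizersComponents.Components
open scoped commutatorElement

universe u

variable {G : Type u} [Group G] [Finite G]

/-- the elements of `H` commuting with `x ∈ H` modulo `O(H)` -/
def cq (H : Subgroup G) (x : H) : Subgroup G := pre H (centralizer {qm H x})

theorem mem_cq {H : Subgroup G} {x : H} {c : G} :
    c ∈ cq H x ↔ ∃ hc : c ∈ H, qm H ⟨c, hc⟩ * qm H x = qm H x * qm H ⟨c, hc⟩ := by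
  rw [cq, mem_pre]
  simp only [mem_centralizer_singleton_iff]

theorem coe_mem_cq {H : Subgroup G} {x c : H} : (c : G) ∈ cq H x ↔ qm H c * qm H x = qm H x * qm H c := by
  rw [cq, coe_mem_pre, mem_centralizer_singleton_iff]

/-- commuting modulo `O(H)` -/
theorem commutator_mem_of_cq {H : Subgroup G} {x : H} {c : G} (hc : c ∈ cq H x) : ⁅(x : G), c⁆ ∈ OO H := by
  obtain ⟨hcH, h⟩ := mem_cq.1 hc
  have h1 : qm H ⁅x, (⟨c, hcH⟩ : H)⁆ = 1 := by
    rw [commutatorElement_def, map_mul, map_mul, map_mul, map_inv, map_inv, ← h]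
    group
  exact (mem_ker_iff H).1 h1

theorem mem_cq_of_comm {H : Subgroup G} {x : H} {c : G} (hc : c ∈ H) (h : c * x = x * c) : c ∈ cq H x := by
  refine mem_cq.2 ⟨hc, ?_⟩
  rw [← map_mul, ← map_mul]
  congr 1
  exact Subtype.ext h

theorem mem_cq_of_commutator {H : Subgroup G} {x : H} {c : G} (hc : c ∈ H) (h : ⁅(x : G), c⁆ ∈ OO H) :
    c ∈ cq H x := by
  refine mem_cq.2 ⟨hc, ?_⟩
  have h1 : qm H ⁅x, (⟨c, hc⟩ : H)⁆ = 1 := (mem_ker_iff H).2 h
  rw [commutatorElement_def, map_mul, map_mul, map_mul, map_inv, map_inv, mul_inv_eq_one,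
    mul_inv_eq_iff_eq_mul] at h1
  exact h1.symm

theorem commutator_self_le {A : Subgroup G} {b : G} (hA : A ≤ centralizer {b}) :
    ⁅XX b ⊓ centralizer {b}, A⁆ ≤ XX b :=
  (commutator_mono inf_le_left le_rfl).trans
    (ThreeSp.commutator_le_of_norm (hA.trans (centralizer_le_normalizer_XX b)))

/-- a product of commuting involutions congruent modulo a group of odd order -/
theorem XX_mul_comm {a b : G} (hb : b * b = 1) :
    XX (a * b) ⊓ centralizer {b} ≤ OO (centralizer {a} ⊓ centralizer {b}) := by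
  have h1 : centralizer ({a} : Set G) ⊓ centralizer {b} ≤ centralizer {a * b} := by
    rintro x ⟨h1, h2⟩
    rw [mem_centralizer_singleton_iff]
    have h3 := mem_centralizer_singleton_iff.1 h1
    have h4 := mem_centralizer_singleton_iff.1 h2
    calc x * (a * b) = (x * a) * b := by group
      _ = a * (x * b) := by rw [h3]; group
      _ = a * b * x := by rw [h4]; group
  refine le_OO ?_ ?_ ?_
  · rintro x ⟨h2, h3⟩
    refine ⟨?_, h3⟩
    have h4 := mem_centralizer_singleton_iff.1 (XX_le _ h2)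
    have h5 := mem_centralizer_singleton_iff.1 h3
    change x ∈ centralizer {a}
    rw [mem_centralizer_singleton_iff]
    have h6 : a = a * b * b := by rw [mul_assoc, hb, mul_one]
    calc x * a = x * (a * b) * b := by rw [mul_assoc, mul_assoc, hb, mul_one]
      _ = a * b * (x * b) := by rw [h4]; group
      _ = a * (b * b) * x := by rw [h5]; group
      _ = a * x := by rw [hb, mul_one]
  · exact normalizer_inf_le (h1.trans (centralizer_le_normalizer_XX _)) (inf_le_right.trans le_normalizer)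
  · exact not_two_dvd_of_le inf_le_left (odd_XX _)

theorem XX_inf_le_OO {a b : G} : XX a ⊓ centralizer {b} ≤ OO (centralizer {a} ⊓ centralizer {b}) :=
  le_OO (inf_le_inf_right _ (XX_le a))
    (normalizer_inf_le (inf_le_left.trans (centralizer_le_normalizer_XX _)) (inf_le_right.trans le_normalizer))
    (not_two_dvd_of_le inf_le_left (odd_XX _))

theorem qm_central {H : Subgroup G} {b : H} (h : H ≤ centralizer {(b : G)}) (x : HQ H) :
    x * qm H b = qm H b * x := by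
  obtain ⟨y, rfl⟩ := qm_surjective H x
  rw [← map_mul, ← map_mul]
  congr 1
  exact Subtype.ext (mem_centralizer_singleton_iff.1 (h y.2))

theorem qm_ne_one {H : Subgroup G} {b : H} (hb : (b : G) * b = 1) (h1 : (b : G) ≠ 1) : qm H b ≠ 1 := by
  intro h0
  have h3 := (mem_ker_iff H).1 h0
  exact h1 (eq_one_of_odd (odd_OO H) h3 (a := 1) (by rw [pow_one, pow_two]; exact hb))

theorem comm_f_aux {H : Subgroup G} {p : ℕ} [Fact p.Prime] {N D T2 T3 : Subgroup (HQ H)} {a1 a2 a3 w1 w2 w3 x : H}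
    (hev : EvQ (HQ H)) (piece : ThreeSp.SpPiece p D T2 T3) (hn : N.Normal) (comm : ∀ x ∈ N, ∀ y ∈ D, x * y = y * x)
    (uniq : ∀ x ∈ N, x * x = 1 → x = 1 ∨ x = zz N) (z1 : zz N = qm H a1) (hc : H ≤ centralizer {(a1 : G)})
    (hs : (a1 : G) * a1 = 1) (hne : (a1 : G) ≠ 1) (z2 : zz T2 = qm H a2) (z3 : zz T3 = qm H a3) (m1 : qm H w1 ∈ N)
    (m2 : qm H w2 ∈ T2) (m3 : qm H w3 ∈ T3) (q1 : w1 * w1 = a1) (q2 : w2 * w2 = a2) (q3 : w3 * w3 = a3)
    (ff : w1 * (w2 * w3) * (w1 * (w2 * w3)) = 1) (hx : (x : G) ∈ XX ((w1 * (w2 * w3) : H) : G)) :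
    (a2 : G) ∈ cq H x := by
  haveI := hn
  have key := piece.comm_f (core_HQ H) hev (N := N) comm uniq (by rw [z1]; exact qm_central hc)
    (by rw [z1]; exact qm_ne_one hs hne) m1 m2 m3 (by rw [← map_mul, z1, q1]) (by rw [← map_mul, z2, q2])
    (by rw [← map_mul, z3, q3]) (by rw [← map_mul, ← map_mul, ← map_mul, ff, map_one]) (u := qm H x) (by
      rw [← map_mul, ← map_mul]
      exact qm_mem_XX ff hx)
  rw [z2] at key
  exact coe_mem_cq.2 key.symm

namespace VD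

variable {Om : Set (Subgroup G)} {S : Sylow 2 G} {K1 K2 K3 : Subgroup G} {v1 v2 v3 : G}

theorem AA_le (t : Tri Om) (d : VD Om (S : Subgroup G) K1 K2 K3 v1 v2 v3) {H : Subgroup G} (h1 : zz K1 ∈ H)
    (h2 : zz K2 ∈ H) (h3 : v1 * (v2 * v3) ∈ H) : AA Om (S : Subgroup G) (v1 * (v2 * v3)) ≤ H := by
  refine sup_le ?_ (by rwa [zpowers_le])
  intro e he
  rcases d.mem_ES t he with h | h | h | h
  · rw [h]; exact one_mem _
  · rw [h]; exact h1
  · rw [h]; exact h2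
  · rw [h, ← d.mul12 t]; exact mul_mem h1 h2

/-- it is enough to look at `z₁`, `z₂`, `f` -/
theorem commutator_AA_le (t : Tri Om) (d : VD Om (S : Subgroup G) K1 K2 K3 v1 v2 v3) {b : G} {X : Subgroup G}
    (hX : X ≤ centralizer {b}) (h : ∀ x : centralizer ({b} : Set G), (x : G) ∈ X →
      zz K1 ∈ cq (centralizer {b}) x ∧ zz K2 ∈ cq (centralizer {b}) x ∧
        v1 * (v2 * v3) ∈ cq (centralizer {b}) x) :
    ⁅X, AA Om (S : Subgroup G) (v1 * (v2 * v3))⁆ ≤ XX b := by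
  rw [commutator_le]
  intro x hx c hc
  obtain ⟨h1, h2, h3⟩ := h ⟨x, hX hx⟩ hx
  exact commutator_mem_of_cq (x := ⟨x, hX hx⟩) (d.AA_le t h1 h2 h3 hc)

/-! ### (TOR) at `z₁` -/

/-- the local data at `z₁` used for (TOR) -/
structure LocZ (S K1 K2 K3 : Subgroup G) (p : ℕ)
    (N D T2 T3 : Subgroup (HQ (centralizer ({zz K1} : Set G)))) : Prop where
  prime : p.Prime
  ev : EvQ (HQ (centralizer ({zz K1} : Set G)))
  piece : ThreeSp.SpPiece p D T2 T3
  nor : N.Normal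
  comm : ∀ x ∈ N, ∀ y ∈ D, x * y = y * x
  uniq : ∀ x ∈ N, x * x = 1 → x = 1 ∨ x = zz N
  z1 : ∀ h, zz N = qm (centralizer {zz K1}) ⟨zz K1, h⟩
  z2 : ∀ h, zz T2 = qm (centralizer {zz K1}) ⟨zz K2, h⟩
  z3 : ∀ h, zz T3 = qm (centralizer {zz K1}) ⟨zz K3, h⟩
  s1 : ∀ x (h : x ∈ centralizer {zz K1}), x ∈ K1 → x ∈ S → qm (centralizer {zz K1}) ⟨x, h⟩ ∈ N
  s2 : ∀ x (h : x ∈ centralizer {zz K1}), x ∈ K2 → x ∈ S → qm (centralizer {zz K1}) ⟨x, h⟩ ∈ T2
  s3 : ∀ x (h : x ∈ centralizer {zz K1}), x ∈ K3 → x ∈ S → qm (centralizer {zz K1}) ⟨x, h⟩ ∈ T3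

theorem LocZ.swap {S K1 K2 K3 : Subgroup G} {p : ℕ} {N D T2 T3 : Subgroup (HQ (centralizer ({zz K1} : Set G)))}
    (l : LocZ S K1 K2 K3 p N D T2 T3) : LocZ S K1 K3 K2 p N D T3 T2 where
  prime := l.prime
  ev := l.ev
  piece := l.piece.symm
  nor := l.nor
  comm := l.comm
  uniq := l.uniq
  z1 := l.z1
  z2 := l.z3
  z3 := l.z2
  s1 := l.s1
  s2 := l.s3
  s3 := l.s2

section Z

variable {p : ℕ} {N D T2 T3 : Subgroup (HQ (centralizer ({zz K1} : Set G)))}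

/-- **(S3)**: balance -/
theorem bal (t : Tri Om) (d : VD Om (S : Subgroup G) K1 K2 K3 v1 v2 v3)
    (l : LocZ (S : Subgroup G) K1 K2 K3 p N D T2 T3) : XX (zz K2) ⊓ centralizer {zz K1} ≤ XX (zz K1) := by
  haveI : Fact p.Prime := ⟨l.prime⟩
  have h2 : zz K2 ∈ centralizer ({zz K1} : Set G) := d.le_centralizer t d.z1_mem d.z2_mem
  rintro x ⟨hx, hx1⟩
  have h3 : qm (centralizer {zz K1}) ⟨x, hx1⟩ ∈ XX (qm (centralizer {zz K1}) ⟨zz K2, h2⟩) :=
    qm_mem_XX (Subtype.ext (t.hyp.zz_mul d.m2.1)) hx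
  rw [← l.z2 h2, l.piece.XX_eq_bot (core_HQ _) l.ev, mem_bot] at h3
  exact (mem_ker_iff _).1 h3

/-- `O(C(f))` commutes with `z₂` modulo `O(C(z₁))` -/
theorem z2_mem_cq (t : Tri Om) (d : VD Om (S : Subgroup G) K1 K2 K3 v1 v2 v3)
    (l : LocZ (S : Subgroup G) K1 K2 K3 p N D T2 T3)
    {x : centralizer ({zz K1} : Set G)} (hx : (x : G) ∈ XX (v1 * (v2 * v3))) : zz K2 ∈ cq (centralizer {zz K1}) x := by
  haveI : Fact p.Prime := ⟨l.prime⟩
  have hS := S.isPGroup'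
  have h1 : zz K1 ∈ centralizer ({zz K1} : Set G) := d.le_centralizer t d.z1_mem d.z1_mem
  have h2 : zz K2 ∈ centralizer ({zz K1} : Set G) := d.le_centralizer t d.z1_mem d.z2_mem
  have h3 : zz K3 ∈ centralizer ({zz K1} : Set G) := d.le_centralizer t d.z1_mem d.z3_mem
  have e1 := zz_mem_ES d.m1
  have w1 : v1 ∈ centralizer ({zz K1} : Set G) := mem_centralizer_singleton_iff.2 (d.v_comm t.hyp hS _ e1).symm
  have w2 : v2 ∈ centralizer ({zz K1} : Set G) :=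
    mem_centralizer_singleton_iff.2 (d.rot.v_comm t.hyp hS _ e1).symm
  have w3 : v3 ∈ centralizer ({zz K1} : Set G) :=
    mem_centralizer_singleton_iff.2 (d.rot.rot.v_comm t.hyp hS _ e1).symm
  exact comm_f_aux (a1 := ⟨_, h1⟩) (a2 := ⟨_, h2⟩) (a3 := ⟨_, h3⟩) (w1 := ⟨_, w1⟩) (w2 := ⟨_, w2⟩) (w3 := ⟨_, w3⟩)
    l.ev l.piece l.nor l.comm l.uniq (l.z1 h1) le_rfl (t.hyp.zz_mul d.m1.1) (t.hyp.zz_ne d.m1.1) (l.z2 h2) (l.z3 h3)
    (l.s1 _ w1 d.k1 d.s1) (l.s2 _ w2 d.k2 d.s2) (l.s3 _ w3 d.k3 d.s3) (Subtype.ext d.q1) (Subtype.ext d.q2)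
    (Subtype.ext d.q3) (Subtype.ext (d.ff t)) hx

/-- (TOR) at `z₁` for `a = e f` -/
theorem torZ_aux (t : Tri Om) (d : VD Om (S : Subgroup G) K1 K2 K3 v1 v2 v3) {e : G}
    (he : e ∈ ES Om (S : Subgroup G))
    (h : ∀ x : centralizer ({zz K1} : Set G), (x : G) ∈ XX (e * (v1 * (v2 * v3))) → zz K2 ∈ cq (centralizer {zz K1}) x) :
    ⁅XX (e * (v1 * (v2 * v3))) ⊓ centralizer {zz K1}, AA Om (S : Subgroup G) (v1 * (v2 * v3))⁆ ≤ XX (zz K1) := by
  refine d.commutator_AA_le t inf_le_right fun x hx => ?_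
  have hA := d.le_centralizer t d.z1_mem
  have h1 : zz K1 ∈ cq (centralizer {zz K1}) x :=
    mem_cq_of_comm (hA d.z1_mem) (mem_centralizer_singleton_iff.1 x.2).symm
  have h2 := h x hx.1
  have ha : e * (v1 * (v2 * v3)) ∈ AA Om (S : Subgroup G) (v1 * (v2 * v3)) := mul_mem (ES_le_AA he) self_mem_AA
  have h3 : e * (v1 * (v2 * v3)) ∈ cq (centralizer {zz K1}) x :=
    mem_cq_of_comm (hA ha) (mem_centralizer_singleton_iff.1 (XX_le _ hx.1)).symm
  refine ⟨h1, h2, ?_⟩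
  have h4 : e ∈ cq (centralizer {zz K1}) x := by
    rcases d.mem_ES t he with h | h | h | h
    · rw [h]; exact one_mem _
    · rw [h]; exact h1
    · rw [h]; exact h2
    · rw [h, ← d.mul12 t]; exact mul_mem h1 h2
  have h5 : v1 * (v2 * v3) = e⁻¹ * (e * (v1 * (v2 * v3))) := by group
  rw [h5]
  exact mul_mem (inv_mem h4) h3

/-- **(TOR) at `z₁`** -/
theorem torZ (t : Tri Om) (d : VD Om (S : Subgroup G) K1 K2 K3 v1 v2 v3)
    (l : LocZ (S : Subgroup G) K1 K2 K3 p N D T2 T3) {a : G}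
    (ha : a ∈ AA Om (S : Subgroup G) (v1 * (v2 * v3))) (h1 : a ≠ 1) :
    ⁅XX a ⊓ centralizer {zz K1}, AA Om (S : Subgroup G) (v1 * (v2 * v3))⁆ ≤ XX (zz K1) := by
  have hS := S.isPGroup'
  have hA := d.le_centralizer t d.z1_mem
  have hn := ThreeSp.commutator_le_of_norm (hA.trans (centralizer_le_normalizer_XX _))
  rcases d.cases t ha h1 with h | h | h | h | h | h | h
  · rw [h]; exact commutator_self_le hA
  · rw [h]; exact (commutator_mono (d.bal t l) le_rfl).trans hn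
  · rw [h]; exact (commutator_mono (d.swap.bal t l.swap) le_rfl).trans hn
  · rw [h]
    have h2 := d.torZ_aux t (e := 1) (one_mem _) (by
      rw [one_mul]
      exact fun x hx => d.z2_mem_cq t l hx)
    rwa [one_mul] at h2
  · rw [h]
    refine d.torZ_aux t (zz_mem_ES d.m1) fun x hx => (d.inv1 t.hyp).z2_mem_cq t l ?_
    rwa [d.f_inv1 t.hyp]
  · rw [h]
    refine d.torZ_aux t (zz_mem_ES d.m2) fun x hx => (d.inv2 t.hyp).z2_mem_cq t l ?_
    rwa [d.f_inv2 t.hyp hS]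
  · rw [h]
    refine d.torZ_aux t (zz_mem_ES d.m3) fun x hx => (d.inv3 t.hyp).z2_mem_cq t l ?_
    rwa [d.f_inv3 t.hyp hS]

end Z

/-! ### (TOR) at `f` -/

section F

/-- **(TOR) at `f`**, from `⁅O(C(f) ⊓ C(z_i)), z_j⁆ ≤ O(C(f))` -/
theorem torF (t : Tri Om) (d : VD Om (S : Subgroup G) K1 K2 K3 v1 v2 v3)
    (h1 : ∀ x : centralizer ({v1 * (v2 * v3)} : Set G),
      (x : G) ∈ OO (centralizer {zz K1} ⊓ centralizer {v1 * (v2 * v3)}) →
      zz K2 ∈ cq (centralizer {v1 * (v2 * v3)}) x)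
    (h2 : ∀ x : centralizer ({v1 * (v2 * v3)} : Set G),
      (x : G) ∈ OO (centralizer {zz K2} ⊓ centralizer {v1 * (v2 * v3)}) →
      zz K1 ∈ cq (centralizer {v1 * (v2 * v3)}) x)
    (h3 : ∀ x : centralizer ({v1 * (v2 * v3)} : Set G),
      (x : G) ∈ OO (centralizer {zz K3} ⊓ centralizer {v1 * (v2 * v3)}) →
      zz K2 ∈ cq (centralizer {v1 * (v2 * v3)}) x) {a : G}
    (ha : a ∈ AA Om (S : Subgroup G) (v1 * (v2 * v3))) (hne : a ≠ 1) :
    ⁅XX a ⊓ centralizer {v1 * (v2 * v3)}, AA Om (S : Subgroup G) (v1 * (v2 * v3))⁆ ≤ XX (v1 * (v2 * v3)) := by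
  have hS := S.isPGroup'
  have hff := d.ff t
  have hA := d.le_centralizer t (self_mem_AA (Om := Om) (S := (S : Subgroup G)) (f := v1 * (v2 * v3)))
  -- the commuting elements
  have hf : ∀ x : centralizer ({v1 * (v2 * v3)} : Set G), v1 * (v2 * v3) ∈ cq (centralizer {v1 * (v2 * v3)}) x :=
    fun x => mem_cq_of_comm (hA self_mem_AA) (mem_centralizer_singleton_iff.1 x.2).symm
  have hz : ∀ (K : Subgroup G), zz K ∈ AA Om (S : Subgroup G) (v1 * (v2 * v3)) →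
      ∀ x : centralizer ({v1 * (v2 * v3)} : Set G),
        (x : G) ∈ OO (centralizer {zz K} ⊓ centralizer {v1 * (v2 * v3)}) →
        zz K ∈ cq (centralizer {v1 * (v2 * v3)}) x := fun K hK x hx =>
    mem_cq_of_comm (hA hK) (mem_centralizer_singleton_iff.1 ((OO_le _).trans inf_le_left hx)).symm
  -- the three cases
  have c1 : ⁅OO (centralizer {zz K1} ⊓ centralizer {v1 * (v2 * v3)}), AA Om (S : Subgroup G) (v1 * (v2 * v3))⁆ ≤
      XX (v1 * (v2 * v3)) :=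
    d.commutator_AA_le t ((OO_le _).trans inf_le_right) fun x hx => ⟨hz _ d.z1_mem x hx, h1 x hx, hf x⟩
  have c2 : ⁅OO (centralizer {zz K2} ⊓ centralizer {v1 * (v2 * v3)}), AA Om (S : Subgroup G) (v1 * (v2 * v3))⁆ ≤
      XX (v1 * (v2 * v3)) :=
    d.commutator_AA_le t ((OO_le _).trans inf_le_right) fun x hx => ⟨h2 x hx, hz _ d.z2_mem x hx, hf x⟩
  have c3 : ⁅OO (centralizer {zz K3} ⊓ centralizer {v1 * (v2 * v3)}), AA Om (S : Subgroup G) (v1 * (v2 * v3))⁆ ≤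
      XX (v1 * (v2 * v3)) :=
    d.commutator_AA_le t ((OO_le _).trans inf_le_right) fun x hx => by
      have h4 := h3 x hx
      refine ⟨?_, h4, hf x⟩
      rw [← d.mul23 t]
      exact mul_mem h4 (hz _ d.z3_mem x hx)
  rcases d.cases t ha hne with h | h | h | h | h | h | h
  · rw [h]; exact (commutator_mono XX_inf_le_OO le_rfl).trans c1
  · rw [h]; exact (commutator_mono XX_inf_le_OO le_rfl).trans c2
  · rw [h]; exact (commutator_mono XX_inf_le_OO le_rfl).trans c3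
  · rw [h]; exact commutator_self_le hA
  · rw [h]; exact (commutator_mono (XX_mul_comm hff) le_rfl).trans c1
  · rw [h]; exact (commutator_mono (XX_mul_comm hff) le_rfl).trans c2
  · rw [h]; exact (commutator_mono (XX_mul_comm hff) le_rfl).trans c3

end F

end VD

end Cfsg.Agent.Cit.Sp4
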