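import Cfsg.Agent.Cit.CoreTwoNe
import Cfsg.Agent.Cit.CoresComm
import Cfsg.Agent.Cit.SpTor

/-!
# Cores for `|Om(S)| = 3`, `z₁ z₂ z₃ = 1`, type `Sp₄(q)`: (Tf), the group `H_f = C(f) / O(C(f))`

`FIn Fm M1 a` : the family `Fm` of `H_f`, its member `M1` over `z₁` and the image `a` of `z₂`.  The piece `D'` of `M1` has
`|Fm_{D'}(T)| = 1`, so it is known (`CoreTwoNe.qOne_facts`); `FIn.comm_XX` : `a` centralises `O(C(z₁))`.
-/

set_option autoImplicit false
set_option linter.style.haveILetI false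
set_option linter.unusedSectionVars false

namespace Cfsg.Agent.Cit.Sp4

open Subgroup Cfsg Cfsg.Agent.Cit Relation OneBasic TypeDet
open Cfsg.Agent.Cit.TwoB Cfsg.Agent.Cit.CoreOne Cfsg.Agent.Cit.TorFunctor
open scoped commutatorElement

universe u

/-- `[C(z), C(z)] ≤ N` -/
theorem cyc_commutator_mem {X : Type*} [Group X] {N : Subgroup X} {z : X} (hn : centralizer {z} ≤ normalizer (N : Set X)) (hcyc : CycCent X N z) {x y : X}
    (hx : x * z = z * x) (hy : y * z = z * y) : x * y * x⁻¹ * y⁻¹ ∈ N := by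
  obtain ⟨g, hg, hc⟩ := hcyc
  obtain ⟨n, hn1⟩ := hc x hx
  obtain ⟨m, hm1⟩ := hc y hy
  obtain ⟨a, ha⟩ : ∃ a, a = x * g ^ n := ⟨_, rfl⟩
  obtain ⟨b, hb⟩ : ∃ b, b = y * g ^ m := ⟨_, rfl⟩
  rw [← ha] at hn1
  rw [← hb] at hm1
  have hgN : ∀ k : ℕ, (g ^ k)⁻¹ ∈ normalizer (N : Set X) := fun k =>
    inv_mem (pow_mem (hn (mem_centralizer_singleton_iff.2 hg)) k)
  have h1 : (g ^ n)⁻¹ * b * (g ^ n)⁻¹⁻¹ ∈ N := (mem_normalizer_iff.1 (hgN n) b).1 hm1
  have h2 : (g ^ m)⁻¹ * a⁻¹ * (g ^ m)⁻¹⁻¹ ∈ N := (mem_normalizer_iff.1 (hgN m) a⁻¹).1 (N.inv_mem hn1)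
  have hcm : g ^ n * (g ^ m)⁻¹ = (g ^ m)⁻¹ * g ^ n :=
    (((Commute.refl g).pow_pow n m).inv_right).eq
  have h3 : x * y * x⁻¹ * y⁻¹ = a * ((g ^ n)⁻¹ * b * (g ^ n)⁻¹⁻¹) * ((g ^ m)⁻¹ * a⁻¹ * (g ^ m)⁻¹⁻¹) * b⁻¹ := by
    have hx' : x = a * (g ^ n)⁻¹ := by rw [ha]; group
    have hy' : y = b * (g ^ m)⁻¹ := by rw [hb]; group
    rw [hx', hy', mul_inv_rev, mul_inv_rev, inv_inv, inv_inv]
    calc a * (g ^ n)⁻¹ * (b * (g ^ m)⁻¹) * (g ^ n * a⁻¹) * (g ^ m * b⁻¹)
        = a * (g ^ n)⁻¹ * b * ((g ^ m)⁻¹ * g ^ n) * a⁻¹ * g ^ m * b⁻¹ := by simp only [mul_assoc]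
      _ = a * (g ^ n)⁻¹ * b * (g ^ n * (g ^ m)⁻¹) * a⁻¹ * g ^ m * b⁻¹ := by rw [hcm]
      _ = _ := by simp only [mul_assoc]
  rw [h3]
  exact mul_mem (mul_mem (mul_mem hn1 h1) h2) (inv_mem hm1)

section Abstract

variable {X : Type u} [Group X] [Finite X]

/-- the situation in `H_f = C(f) / O(C(f))` : `M1` is the member over `z₁`, `a` the image of `z₂` -/
structure FIn (Fm : Set (Subgroup X)) (M1 : Subgroup X) (a : X) : Prop where
  hyp : Hyp Fm
  ty : ∀ M ∈ Fm, Ty M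
  pieces : HasPieces Fm
  cls : ∀ M ∈ Fm, ∃ g, M = cj g M1
  nor : centralizer {zz M1} ≤ normalizer (M1 : Set X)
  mem : M1 ∈ Fm
  two : ∃ M ∈ Fm, M ≠ M1 ∧ zz M = a
  comm : a * zz M1 = zz M1 * a
  noc : ∀ M ∈ Fm, M ≠ M1 → zz M * zz M1 = zz M1 * zz M → ∃ m ∈ M1, zz M * m ≠ m * zz M
  three : ∀ M ∈ Fm, ∀ M' ∈ Fm, M ≠ M1 → M' ≠ M1 → M ≠ M' → zz M * zz M1 = zz M1 * zz M →
    zz M' * zz M1 = zz M1 * zz M' → zz M * zz M' = zz M' * zz M → zz M * zz M' = zz M1

namespace FIn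

variable {Fm : Set (Subgroup X)} {M1 : Subgroup X} {a : X}

/-- an odd subgroup of `M1` normalised by `M1` is trivial -/
theorem inf_eq (h : FIn Fm M1 a) : XX (zz M1) ⊓ M1 = ⊥ := by
  rw [eq_bot_iff, ← h.pieces.core M1 h.mem]
  refine le_OO inf_le_right ?_ (not_two_dvd_of_le inf_le_left (odd_XX _))
  exact normalizer_inf_le ((h.hyp.le_centralizer h.mem).trans (centralizer_le_normalizer_XX _)) le_normalizer

/-- `O(C(z₁))` centralises `M1` -/
theorem comm_M1 (h : FIn Fm M1 a) {u m : X} (hu : u ∈ XX (zz M1)) (hm : m ∈ M1) : u * m = m * u := by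
  have h1 : u * m * u⁻¹ * m⁻¹ ∈ XX (zz M1) ⊓ M1 := by
    refine ⟨?_, ?_⟩
    · have e : u * m * u⁻¹ * m⁻¹ = u * (m * u⁻¹ * m⁻¹) := by group
      rw [e]
      exact mul_mem hu ((mem_normalizer_iff.1 (centralizer_le_normalizer_XX _ (h.hyp.le_centralizer h.mem hm)) _).1
        (inv_mem hu))
    · exact M1.mul_mem ((mem_normalizer_iff.1 (h.nor (XX_le _ hu)) _).1 hm) (M1.inv_mem hm)
  rw [h.inf_eq, mem_bot, mul_inv_eq_one, mul_inv_eq_iff_eq_mul] at h1
  exact h1

/-- no member different from `M1` commutes with `M1` -/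
theorem not_cm (h : FIn Fm M1 a) {M : Subgroup X} (hM : M ∈ Fm) (hne : M ≠ M1) : ¬ cm M1 M := by
  intro hc
  obtain ⟨m, hm, hm1⟩ := h.noc M hM hne (hc _ (h.hyp.zz_mem h.mem) _ (h.hyp.zz_mem hM)).symm
  exact hm1 (hc m hm _ (h.hyp.zz_mem hM)).symm

theorem not_cm' (h : FIn Fm M1 a) {M M' : Subgroup X} (hM : M ∈ Fm) (hM' : M' ∈ Fm) (hne : M ≠ M') : ¬ cm M M' := by
  intro hc
  obtain ⟨g, rfl⟩ := h.cls M hM
  refine h.not_cm (h.hyp.conj M' hM' g⁻¹) ?_ ?_ (M := cj g⁻¹ M')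
  · intro e
    apply hne
    rw [← e, cj_cj_inv]
  · rw [← cj_cj_inv g M', cm_cj] at hc
    exact hc

theorem le_pc (h : FIn Fm M1 a) {M : Subgroup X} (hM : M ∈ Fm) : M ≤ pc Fm M1 := by
  by_cases hne : M = M1
  · rw [hne]; exact Cit.le_pc
  · exact le_pc_of_chn (ReflTransGen.single ⟨h.mem, hM, h.not_cm hM hne⟩)

theorem quasi (h : FIn Fm M1 a) : pc Fm M1 ∉ Fm ∧ IsQuasisimple (pc Fm M1) ∧ IsPGroup 2 (center (pc Fm M1)) := by
  refine (h.pieces.eq_or_quasisimple h.hyp h.mem).resolve_left fun h1 => ?_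
  obtain ⟨M, hM, hne, -⟩ := h.two
  have h2 := h.le_pc hM
  rw [h1] at h2
  exact hne (h.hyp.eq_of_le hM h.mem h2)

theorem qOne (h : FIn Fm M1 a) : QOne (restr Fm (pc Fm M1)) := by
  refine ⟨⟨h.hyp.restr _, ?_⟩, h.quasi.2.1, h.quasi.2.2, ⟨_, subgroupOf_mem_restr h.mem Cit.le_pc⟩, ?_⟩
  · intro S hS J hJ J' hJ'
    rw [mem_OmS_restr] at hJ hJ'
    apply Subgroup.map_injective (pc Fm M1).subtype_injective
    by_contra hne
    exact h.not_cm' hJ.1 hJ'.1 hne (CoresComm.comm_of_OmS h.hyp (hS.map _) hJ hJ' hne (h.ty _ hJ.1) (h.ty _ hJ'.1)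
      (h.pieces.core _ hJ.1) (h.pieces.core _ hJ'.1))
  · intro h1
    rw [mem_restr, ← MonoidHom.range_eq_map, range_subtype] at h1
    exact h.quasi.1 h1

theorem le_norm (h : FIn Fm M1 a) : normalizer (M1 : Set X) ≤ normalizer (pc Fm M1 : Set X) := by
  intro g hg
  rw [mem_normalizer_iff_cj] at hg ⊢
  rw [cj_pc h.hyp.conj, hg]

/-- **`a` centralises `O(C(z₁))`** -/
theorem comm_XX (h : FIn Fm M1 a) (h1173 : S1173Stmt.{u}) (hI : IdentStmt.{u}) (hA : CoreTwoNe.FactA.{u})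
    (hB : CoreTwoNe.FactB.{u}) {u : X} (hu : u ∈ XX (zz M1)) : u * a = a * u := by
  set D := pc Fm M1 with hD
  obtain ⟨M2, hM2, hne, hz2⟩ := h.two
  have haD : a ∈ D := hz2 ▸ h.le_pc hM2 (h.hyp.zz_mem hM2)
  have ha2 : a * a = 1 := hz2 ▸ h.hyp.zz_mul hM2
  have haC : a ∈ centralizer {zz M1} := mem_centralizer_singleton_iff.2 h.comm
  have hJ : M1.subgroupOf D ∈ restr Fm D := subgroupOf_mem_restr h.mem Cit.le_pc
  have hmap : (M1.subgroupOf D).map D.subtype = M1 := map_subgroupOf_eq_of_le Cit.le_pc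
  have hzJ : ((zz (M1.subgroupOf D) : D) : X) = zz M1 := by rw [zz_map h.hyp hJ, hmap]
  obtain ⟨-, -, h1⟩ := CoreTwoNe.qOne_facts h1173 hI hA hB h.qOne
    (fun J hJ => Ty.of_map _ D.subtype_injective (h.ty _ hJ)) (fun J hJ => by
      have h1 := h.pieces.core _ hJ
      rw [OO_map _ D.subtype_injective, Subgroup.map_eq_bot_iff_of_injective _ D.subtype_injective] at h1
      exact h1)
  rcases h1 with ⟨-, -, h1⟩ | ⟨-, h1⟩
  · -- `C_D(z₁) / M1` is cyclic
    obtain ⟨-, hcyc⟩ := h1 _ hJ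
    have hn : centralizer {zz (M1.subgroupOf D)} ≤ normalizer ((M1.subgroupOf D : Subgroup D) : Set D) := by
      intro x hx
      have h2 : (x : X) ∈ normalizer (M1 : Set X) := by
        apply h.nor
        rw [mem_centralizer_singleton_iff] at hx ⊢
        have := congrArg Subtype.val hx
        rw [← hzJ]
        exact this
      rw [mem_normalizer_iff]
      intro y
      exact mem_normalizer_iff.1 h2 y
    set W := ⁅XX (zz M1), zpowers a⁆ with hW
    have hzn : zpowers a ≤ normalizer (XX (zz M1) : Set X) :=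
      zpowers_le.2 (centralizer_le_normalizer_XX _ haC)
    have hWX : W ≤ XX (zz M1) := ThreeSp.commutator_le_of_norm hzn
    have hWD : W ≤ D := by
      rw [hW, commutator_le]
      intro x hx b hb
      rw [commutatorElement_def]
      have hbD : b ∈ D := (zpowers_le.2 haD) hb
      exact mul_mem ((mem_normalizer_iff.1 (h.le_norm (h.nor (XX_le _ hx))) _).1 hbD) (inv_mem hbD)
    have hWM : ⁅W, zpowers a⁆ ≤ M1 := by
      rw [commutator_le]
      intro x hx b hb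
      have hbD : b ∈ D := (zpowers_le.2 haD) hb
      have hbC : b ∈ centralizer {zz M1} := (zpowers_le.2 haC) hb
      have hxC : x ∈ centralizer {zz M1} := XX_le _ (hWX hx)
      have h2 := cyc_commutator_mem hn hcyc (x := ⟨x, hWD hx⟩) (y := ⟨b, hbD⟩)
        (Subtype.ext (by
          change x * ((zz (M1.subgroupOf D) : D) : X) = ((zz (M1.subgroupOf D) : D) : X) * x
          rw [hzJ]; exact mem_centralizer_singleton_iff.1 hxC))
        (Subtype.ext (by
          change b * ((zz (M1.subgroupOf D) : D) : X) = ((zz (M1.subgroupOf D) : D) : X) * b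
          rw [hzJ]; exact mem_centralizer_singleton_iff.1 hbC))
      rw [commutatorElement_def]
      exact h2
    have hcop : (Nat.card (zpowers a)).Coprime (Nat.card (XX (zz M1))) := by
      have h3 : Nat.card (zpowers a) ∣ 2 := by
        rw [Nat.card_zpowers]
        exact orderOf_dvd_of_pow_eq_one (by rw [pow_two]; exact ha2)
      have h4 : Nat.Coprime 2 (Nat.card (XX (zz M1))) :=
        (Nat.Prime.coprime_iff_not_dvd Nat.prime_two).2 (odd_XX _)
      exact Nat.Coprime.coprime_dvd_left h3 h4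
    have hWW : ⁅W, zpowers a⁆ = W := Lib.CoprimeCommutator.commutator_commutator_eq _ _ hzn hcop
    have hbot : W ≤ ⊥ := by
      rw [← h.inf_eq]
      exact le_inf hWX (by rw [← hWW]; exact hWM)
    have h5 : ⁅u, a⁆ ∈ W := commutator_mem_commutator hu (mem_zpowers a)
    have h6 := hbot h5
    rw [mem_bot, commutatorElement_eq_one_iff_mul_comm] at h6
    exact h6
  · -- one class of involutions, and an `E₈`
    exfalso
    obtain ⟨hf, E, hzE, hE8, hE2⟩ := h1 _ hJ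
    set z := zz (M1.subgroupOf D) with hz
    have hcomm : ∀ x ∈ E, ∀ y ∈ E, x * y = y * x := by
      intro x hx y hy
      have h2 := hE2 _ (E.mul_mem hx hy)
      have h3 : (x * y)⁻¹ = x * y := inv_eq_of_mul_eq_one_right h2
      rw [mul_inv_rev] at h3
      rw [inv_eq_of_mul_eq_one_right (hE2 _ hx), inv_eq_of_mul_eq_one_right (hE2 _ hy)] at h3
      exact h3.symm
    have hzz : z * z = 1 := hE2 _ hzE
    -- two more elements
    obtain ⟨x, hx, hx1, hxz⟩ : ∃ x ∈ E, x ≠ 1 ∧ x ≠ z := by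
      by_contra hcon
      push Not at hcon
      have h2 : (E : Set D) ⊆ {1, z} := by
        intro y hy
        by_cases hy1 : y = 1
        · exact Or.inl hy1
        · exact Or.inr (hcon y hy hy1)
      have h3 := Set.ncard_le_ncard h2 (Set.toFinite _)
      have h4 : (E : Set D).ncard = 8 := by rw [← Nat.card_coe_set_eq]; exact hE8
      have h5 : ({1, z} : Set D).ncard ≤ 2 := Set.ncard_insert_le _ _ |>.trans (by rw [Set.ncard_singleton])
      omega
    obtain ⟨y, hy, hy1, hyz, hyx, hyxz⟩ : ∃ y ∈ E, y ≠ 1 ∧ y ≠ z ∧ y ≠ x ∧ x * y ≠ z := by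
      by_contra hcon
      push Not at hcon
      have h2 : (E : Set D) ⊆ {1, z, x, x * z} := by
        intro y hy
        by_cases hy1 : y = 1
        · exact Or.inl hy1
        · by_cases hy2 : y = z
          · exact Or.inr (Or.inl hy2)
          · by_cases hy3 : y = x
            · exact Or.inr (Or.inr (Or.inl hy3))
            · refine Or.inr (Or.inr (Or.inr ?_))
              have h3 := hcon y hy hy1 hy2 hy3
              change y = x * z
              rw [← h3, ← mul_assoc, hE2 x hx, one_mul]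
      have h3 := Set.ncard_le_ncard h2 (Set.toFinite _)
      have h4 : (E : Set D).ncard = 8 := by rw [← Nat.card_coe_set_eq]; exact hE8
      have h5 : ({1, z, x, x * z} : Set D).ncard ≤ 4 := by
        refine (Set.ncard_insert_le _ _).trans ?_
        have := (Set.ncard_insert_le z {x, x * z})
        have h6 : ({x, x * z} : Set D).ncard ≤ 2 := Set.ncard_insert_le _ _ |>.trans (by rw [Set.ncard_singleton])
        omega
      omega
    -- they are involutions of members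
    have hmem : ∀ t ∈ E, t ≠ 1 → ∃ M ∈ Fm, zz M = (t : X) := by
      intro t ht ht1
      obtain ⟨g, hg⟩ := hf.one z t hzz (by
        intro h0
        exact hf.ne h0) (hE2 t ht) ht1
      refine ⟨cj (g : X) M1, h.hyp.conj _ h.mem _, ?_⟩
      rw [h.hyp.zz_cj h.mem, ← hzJ, ← hg]
      rfl
    obtain ⟨M, hM, hMz⟩ := hmem x hx hx1
    obtain ⟨M', hM', hMz'⟩ := hmem y hy hy1
    have e1 : ∀ s ∈ E, ∀ t ∈ E, (s : X) * (t : X) = (t : X) * (s : X) := fun s hs t ht =>
      congrArg Subtype.val (hcomm s hs t ht)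
    have h2 := h.three M hM M' hM' (by
        rintro rfl
        exact hxz (Subtype.ext (by rw [← hMz, hzJ]))) (by
        rintro rfl
        exact hyz (Subtype.ext (by rw [← hMz', hzJ]))) (by
        rintro rfl
        exact hyx (Subtype.ext (by rw [← hMz, ← hMz'])))
      (by rw [hMz, ← hzJ]; exact e1 x hx z hzE) (by rw [hMz', ← hzJ]; exact e1 y hy z hzE)
      (by rw [hMz, hMz']; exact e1 x hx y hy)
    apply hyxz
    apply Subtype.ext
    rw [hzJ, ← h2, hMz, hMz']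
    rfl

end FIn

end Abstract

end Cfsg.Agent.Cit.Sp4
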