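import Cfsg.Agent.Cit.ThreeQuat
import Cfsg.Agent.Cit.CoresClose
import Cfsg.Agent.Cit.OneBasic
import Cfsg.Prelude.Def_Involutions

/-!
# `|Om(S)| = 3`, `z₁ z₂ z₃ = 1`: the commuting graph is connected

Blueprint `blueprints/CIT-n3.md`, (S1), (S2), (T1), (T2), in a type free form with arbitrary cores.

`Tri Om` : HYP, `|Om(S)| = 3`, `zz K₁ * zz K₂ = zz K₃` for the members of `Om(S)`, and the two facts
* `sw` (from KAPPA, `Hyp.sw` of `Cit.Swap`): if `zz J ∈ S` moves `K ∈ Om(S)` to `K'` then `zz K * zz K'`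
  centralises a Sylow 2-subgroup of `J`;
* `fact` (from theorem T for `C(zz H)`): if `J, J'` are adjacent to `H` and `zz J`, `zz J'` commute then
  `zz J * zz J' ≡ zz L` modulo `O(C(zz H))` for some `L` adjacent or equal to `H`.

Main results: `Tri.rel_of_comm` (commuting `zz K`, `zz J` are in the same component), `Tri.exists_mul` (the product of
two commuting `zz`'s is a `zz`), `Tri.connected` (S1175).
-/

set_option autoImplicit false
set_option linter.style.haveILetI false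
set_option linter.unusedSectionVars false

namespace Cfsg.Agent.Cit

open Subgroup Cfsg Relation OneBasic

variable {G : Type*} [Group G]

/-- two involutions congruent modulo a subgroup of odd order are conjugate in it -/
theorem exists_conj_of_mul_mem_odd [Finite G] {X : Subgroup G} (hX : ¬ 2 ∣ Nat.card X) {s t : G} (hs : s * s = 1)
    (ht : t * t = 1) (hst : s * t ∈ X) : ∃ c ∈ X, c * s * c⁻¹ = t := by
  obtain ⟨m, hm⟩ : ∃ m, orderOf (s * t) = 2 * m + 1 := by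
    have h1 : orderOf (s * t) ∣ Nat.card X := by
      have h2 := orderOf_dvd_natCard (⟨s * t, hst⟩ : X)
      rwa [← Subgroup.orderOf_coe] at h2
    have h3 : Odd (orderOf (s * t)) := by
      rw [Nat.odd_iff]
      by_contra h4
      exact hX (Dvd.dvd.trans (Nat.dvd_of_mod_eq_zero (by omega)) h1)
    exact h3
  have hsi : s⁻¹ = s := inv_eq_of_mul_eq_one_right hs
  have hti : t⁻¹ = t := inv_eq_of_mul_eq_one_right ht
  set x := s * t with hx
  set y := x ^ (m + 1) with hy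
  have hyX : y ∈ X := X.pow_mem hst _
  have hyy : y * y = x := by
    rw [hy, ← pow_add, show m + 1 + (m + 1) = (2 * m + 1) + 1 by ring, pow_succ, ← hm, pow_orderOf_eq_one, one_mul]
  have hsx : s * x * s⁻¹ = x⁻¹ := by
    rw [hx, mul_inv_rev, hti, hsi]
    calc s * (s * t) * s = (s * s) * t * s := by group
      _ = t * s := by rw [hs, one_mul]
  have hsy : s * y * s⁻¹ = y⁻¹ := by
    have h1 := (MulAut.conj s).toMonoidHom.map_pow x (m + 1)
    simp only [MulEquiv.toMonoidHom_eq_coe, MonoidHom.coe_coe, MulAut.conj_apply] at h1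
    rw [hy, h1, hsx, inv_pow]
  refine ⟨y⁻¹, inv_mem hyX, ?_⟩
  rw [inv_inv]
  have h2 : y⁻¹ * s = s * y := by
    rw [← hsy]
    calc s * y * s⁻¹ * s = s * y := by group
      _ = s * y := rfl
  rw [h2, mul_assoc, hyy, hx, ← mul_assoc, hs, one_mul]

/-- the adjacency relation is symmetric -/
theorem Adj.symm {Om : Set (Subgroup G)} {K L : Subgroup G} (h : Adj Om K L) : Adj Om L K := by
  obtain ⟨S, h1, h2⟩ := h
  exact ⟨S, h2, h1⟩

theorem Adj.left {Om : Set (Subgroup G)} {K L : Subgroup G} (h : Adj Om K L) : K ∈ Om := by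
  obtain ⟨S, h1, h2⟩ := h
  exact h1.1

theorem Adj.right {Om : Set (Subgroup G)} {K L : Subgroup G} (h : Adj Om K L) : L ∈ Om := h.symm.left

theorem Adj.conj {Om : Set (Subgroup G)} (hO : ∀ K ∈ Om, ∀ g, cj g K ∈ Om) {K L : Subgroup G} (h : Adj Om K L)
    (g : G) : Adj Om (cj g K) (cj g L) := by
  haveI : Fact (Nat.Prime 2) := ⟨Nat.prime_two⟩
  obtain ⟨S, h1, h2⟩ := h
  have h3 : ((g • S : Sylow 2 G) : Subgroup G) = cj g (S : Subgroup G) := rfl
  exact ⟨g • S, by rw [h3]; exact cj_mem_OmS hO g h1, by rw [h3]; exact cj_mem_OmS hO g h2⟩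

/-- adjacency from a common 2-subgroup -/
theorem adj_of_mem [Finite G] {Om : Set (Subgroup G)} {P K L : Subgroup G} (hP : IsPGroup 2 P)
    (hK : K ∈ OmS Om P) (hL : L ∈ OmS Om P) : Adj Om K L := by
  obtain ⟨S, hS⟩ := hP.exists_le_sylow
  exact ⟨S, OmS_mono hS hK, OmS_mono hS hL⟩

theorem rel_symm {Om : Set (Subgroup G)} {K L : Subgroup G} (h : ReflTransGen (Adj Om) K L) :
    ReflTransGen (Adj Om) L K := by
  induction h with
  | refl => exact ReflTransGen.refl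
  | tail _ h1 ih => exact ReflTransGen.head h1.symm ih

theorem rel_conj {Om : Set (Subgroup G)} (hO : ∀ K ∈ Om, ∀ g, cj g K ∈ Om) {K L : Subgroup G}
    (h : ReflTransGen (Adj Om) K L) (g : G) : ReflTransGen (Adj Om) (cj g K) (cj g L) := by
  induction h with
  | refl => exact ReflTransGen.refl
  | tail _ h1 ih => exact ih.tail (h1.conj hO g)

/-- the hypotheses of the case `|Om(S)| = 3`, `z₁ z₂ z₃ = 1` -/
structure Tri (Om : Set (Subgroup G)) : Prop where
  hyp : Hyp Om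
  three : ∀ S : Sylow 2 G, (OmS Om (S : Subgroup G)).ncard = 3
  mul : ∀ S : Sylow 2 G, ∀ K ∈ OmS Om (S : Subgroup G), ∀ L ∈ OmS Om (S : Subgroup G), K ≠ L →
    ∃ N ∈ OmS Om (S : Subgroup G), N ≠ K ∧ N ≠ L ∧ zz K * zz L = zz N
  sw : ∀ S : Sylow 2 G, ∀ J ∈ Om, zz J ∈ S → ∀ K ∈ OmS Om (S : Subgroup G), cj (zz J) K ≠ K →
    ∃ Q, Syl Q J ∧ ∀ x ∈ Q, (zz K * zz (cj (zz J) K)) * x = x * (zz K * zz (cj (zz J) K))
  fact : ∀ H J J' : Subgroup G, Adj Om H J → Adj Om H J' → J ≠ J' → zz J * zz J' = zz J' * zz J →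
    ∃ L, Adj Om H L ∧ zz J * zz J' * zz L ∈ XX (zz H)

namespace Tri

variable [Finite G] {Om : Set (Subgroup G)}

/-- `zz` is injective on `Om` -/
theorem inj (t : Tri Om) {K L : Subgroup G} (hK : K ∈ Om) (hL : L ∈ Om) (hz : zz K = zz L) : K = L := by
  obtain ⟨S, hS, -⟩ := t.hyp.exists_sylow hK
  have hL' := t.hyp.mem_OmS_of_zz_eq S hS hL hz.symm
  by_contra hne
  obtain ⟨N, hN, -, -, h1⟩ := t.mul S K hS L hL' hne
  rw [← hz, t.hyp.zz_mul hK] at h1
  exact t.hyp.zz_ne hN.1 h1.symm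

theorem mem_normalizer (t : Tri Om) {K : Subgroup G} (hK : K ∈ Om) {g : G} (hg : g * zz K = zz K * g) :
    g ∈ normalizer (K : Set G) := by
  rw [mem_normalizer_iff_cj]
  apply t.inj (t.hyp.conj K hK g) hK
  rw [t.hyp.zz_cj hK, hg, mul_inv_cancel_right]

theorem cj_eq (t : Tri Om) {K : Subgroup G} (hK : K ∈ Om) {g : G} (hg : g * zz K = zz K * g) : cj g K = K :=
  mem_normalizer_iff_cj.1 (t.mem_normalizer hK hg)

/-- if `zz J` centralises a Sylow 2-subgroup of `K` then `K` and `J` are adjacent -/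
theorem adj_of_cent (t : Tri Om) {K J Q : Subgroup G} (hK : K ∈ Om) (hJ : J ∈ Om) (hQ : Syl Q K)
    (hc : ∀ x ∈ Q, zz J * x = x * zz J) : Adj Om K J := by
  have h1 : Q ≤ normalizer (J : Set G) := fun x hx => t.mem_normalizer hJ (hc x hx).symm
  obtain ⟨R, hR, hQR, -, hS⟩ := exists_two_sup hQ.2.1 h1
  exact adj_of_mem hR (mem_OmS_of_le hK hQ hQR) (mem_OmS_of_le hJ hS inf_le_right)

/-- a member of `Om(S)` and the two others -/
theorem exists_three (t : Tri Om) (S : Sylow 2 G) {K : Subgroup G} (hK : K ∈ OmS Om (S : Subgroup G)) :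
    ∃ K2 K3, OmS Om (S : Subgroup G) = {K, K2, K3} ∧ K ≠ K2 ∧ K ≠ K3 ∧ K2 ≠ K3 := by
  obtain ⟨a, b, c, hab, hac, hbc, hE⟩ := Set.ncard_eq_three.1 (t.three S)
  have h1 : K ∈ ({a, b, c} : Set (Subgroup G)) := hE ▸ hK
  rcases h1 with rfl | rfl | h1
  · exact ⟨b, c, hE, hab, hac, hbc⟩
  · exact ⟨a, c, by rw [hE]; ext x; simp only [Set.mem_insert_iff, Set.mem_singleton_iff]; tauto,
      hab.symm, hbc, hac⟩
  · have h2 : K = c := h1
    subst h2
    exact ⟨a, b, by rw [hE]; ext x; simp only [Set.mem_insert_iff, Set.mem_singleton_iff]; tauto,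
      hac.symm, hbc.symm, hab⟩

theorem mul_eq (t : Tri Om) (S : Sylow 2 G) {K K2 K3 : Subgroup G}
    (hE : OmS Om (S : Subgroup G) = {K, K2, K3}) (h12 : K ≠ K2) :
    zz K * zz K2 = zz K3 := by
  have hK : K ∈ OmS Om (S : Subgroup G) := by rw [hE]; simp
  have hK2 : K2 ∈ OmS Om (S : Subgroup G) := by rw [hE]; simp
  obtain ⟨N, hN, h1, h2, h3⟩ := t.mul S K hK K2 hK2 h12
  have h4 : N ∈ ({K, K2, K3} : Set (Subgroup G)) := hE ▸ hN
  rcases h4 with h4 | h4 | h4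
  · exact absurd h4 h1
  · exact absurd h4 h2
  · rw [h3, h4]

/-- swap case -/
theorem swap (t : Tri Om) (S : Sylow 2 G) {K K2 K3 J : Subgroup G}
    (hE : OmS Om (S : Subgroup G) = {K, K2, K3}) (h23 : K2 ≠ K3) (hJ : J ∈ Om) (hJS : zz J ∈ S)
    (h : cj (zz J) K2 = K3) : Adj Om K J := by
  have hK : K ∈ OmS Om (S : Subgroup G) := by rw [hE]; simp
  have hK2 : K2 ∈ OmS Om (S : Subgroup G) := by rw [hE]; simp
  obtain ⟨Q, hQ, hc⟩ := t.sw S J hJ hJS K2 hK2 (by rw [h]; exact h23.symm)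
  have h1 : zz K2 * zz K3 = zz K := by
    have h2 : OmS Om (S : Subgroup G) = {K2, K3, K} := by
      rw [hE]; ext x; simp only [Set.mem_insert_iff, Set.mem_singleton_iff]; tauto
    exact t.mul_eq S h2 h23
  rw [h, h1] at hc
  exact (t.adj_of_cent hJ hK.1 hQ hc).symm

theorem fix_or_swap (t : Tri Om) (S : Sylow 2 G) {K K2 K3 : Subgroup G}
    (hE : OmS Om (S : Subgroup G) = {K, K2, K3}) (h12 : K ≠ K2) (h13 : K ≠ K3) (h23 : K2 ≠ K3) {y : G}
    (hy : y ∈ S) (hc : y * zz K = zz K * y) : cj y K2 = K3 ∨ (cj y K2 = K2 ∧ cj y K3 = K3) := by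
  have hK : K ∈ OmS Om (S : Subgroup G) := by rw [hE]; simp
  have hK2 : K2 ∈ OmS Om (S : Subgroup G) := by rw [hE]; simp
  have hK3 : K3 ∈ OmS Om (S : Subgroup G) := by rw [hE]; simp
  have hyK := t.cj_eq hK.1 hc
  have hyN : y ∈ normalizer ((S : Subgroup G) : Set G) := le_normalizer hy
  have h2 : cj y K2 ∈ ({K, K2, K3} : Set (Subgroup G)) := hE ▸ cj_mem_OmS' t.hyp.conj hyN hK2
  have h3 : cj y K3 ∈ ({K, K2, K3} : Set (Subgroup G)) := hE ▸ cj_mem_OmS' t.hyp.conj hyN hK3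
  rcases h2 with h2 | h2 | h2
  · exact absurd (cj_inj.1 (hyK.trans h2.symm)) h12
  · rcases h3 with h3 | h3 | h3
    · exact absurd (cj_inj.1 (hyK.trans h3.symm)) h13
    · exact absurd (cj_inj.1 (h2.trans h3.symm)) h23
    · exact Or.inr ⟨h2, h3⟩
  · exact Or.inl h2

/-- the elements of `E(S)` -/
theorem mem_ES (t : Tri Om) (S : Sylow 2 G) {a : G} (ha : a ∈ ES Om (S : Subgroup G)) :
    a = 1 ∨ ∃ K ∈ OmS Om (S : Subgroup G), a = zz K := by
  unfold ES at ha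
  induction ha using Subgroup.closure_induction with
  | mem x hx =>
    obtain ⟨K, hK, rfl⟩ := hx
    exact Or.inr ⟨K, hK, rfl⟩
  | one => exact Or.inl rfl
  | mul x y _ _ hx hy =>
    rcases hx with rfl | ⟨K, hK, rfl⟩
    · rwa [one_mul]
    · rcases hy with rfl | ⟨L, hL, rfl⟩
      · rw [mul_one]; exact Or.inr ⟨K, hK, rfl⟩
      · by_cases hKL : K = L
        · subst hKL
          exact Or.inl (t.hyp.zz_mul hK.1)
        · obtain ⟨N, hN, -, -, h1⟩ := t.mul S K hK L hL hKL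
          exact Or.inr ⟨N, hN, h1⟩
  | inv x _ hx =>
    rcases hx with rfl | ⟨K, hK, rfl⟩
    · left; exact inv_one
    · right; exact ⟨K, hK, t.hyp.zz_inv hK.1⟩

/-- **members with commuting involutions are in the same component of the commuting graph** -/
theorem rel_of_comm (t : Tri Om) {K J : Subgroup G} (hK : K ∈ Om) (hJ : J ∈ Om)
    (hc : zz J * zz K = zz K * zz J) : ReflTransGen (Adj Om) K J := by
  have hJ2 : IsPGroup 2 (zpowers (zz J)) := by
    apply IsPGroup.of_card (n := 1)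
    rw [Nat.card_zpowers, t.hyp.orderOf_zz hJ, pow_one]
  obtain ⟨T, hT, hzT⟩ := Cit.exists_syl_ge (C := centralizer {zz K}) hJ2
    ((zpowers_le).2 (mem_centralizer_singleton_iff.2 hc))
  obtain ⟨S, hTS, -⟩ := hT.exists_sylow_ge
  have hKS : K ∈ OmS Om (S : Subgroup G) := OmS_mono hTS (t.hyp.mem_OmS_of_syl hK hT)
  have hJS : zz J ∈ S := hTS (hzT (mem_zpowers _))
  obtain ⟨K2, K3, hE, h12, h13, h23⟩ := t.exists_three S hKS
  have hK2 : K2 ∈ OmS Om (S : Subgroup G) := by rw [hE]; simp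
  have hK3 : K3 ∈ OmS Om (S : Subgroup G) := by rw [hE]; simp
  rcases t.fix_or_swap S hE h12 h13 h23 hJS hc with h | ⟨h2, h3⟩
  · exact ReflTransGen.single (t.swap S hE h23 hJ hJS h)
  -- `E ≤ C(zz J)`
  have hfixS : ∀ L ∈ OmS Om (S : Subgroup G), cj (zz J) L = L := by
    intro L hL
    have h4 : L ∈ ({K, K2, K3} : Set (Subgroup G)) := hE ▸ hL
    rcases h4 with h4 | h4 | h4
    · rw [h4]; exact t.cj_eq hK hc
    · rw [h4]; exact h2
    · rw [h4]; exact h3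
  have hEJ : ES Om (S : Subgroup G) ≤ centralizer {zz J} := by
    rw [ES_le_iff]
    intro L hL
    rw [mem_centralizer_singleton_iff]
    exact (t.hyp.comm_zz hL.1 (mem_normalizer_iff_cj.2 (hfixS L hL))).symm
  obtain ⟨T', hT', hET'⟩ := Cit.exists_syl_ge (C := centralizer {zz J})
    (S.isPGroup'.to_le (ES_le t.hyp S.isPGroup')) hEJ
  obtain ⟨S', hTS', -⟩ := hT'.exists_sylow_ge
  have hJS' : J ∈ OmS Om (S' : Subgroup G) := OmS_mono hTS' (t.hyp.mem_OmS_of_syl hJ hT')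
  obtain ⟨J2, J3, hE', g12, g13, g23⟩ := t.exists_three S' hJS'
  have hzS' : ∀ L ∈ OmS Om (S : Subgroup G), zz L ∈ S' := fun L hL => hTS' (hET' (zz_mem_ES hL))
  have hcJ : ∀ L ∈ OmS Om (S : Subgroup G), zz L * zz J = zz J * zz L := fun L hL =>
    mem_centralizer_singleton_iff.1 (hEJ (zz_mem_ES hL))
  by_cases hsw : ∃ L ∈ OmS Om (S : Subgroup G), cj (zz L) J2 = J3
  · obtain ⟨L, hL, hLJ⟩ := hsw
    have h4 : Adj Om J L := t.swap S' hE' g23 hL.1 (hzS' L hL) hLJ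
    have h5 : Adj Om K L := ⟨S, hKS, hL⟩
    exact (ReflTransGen.single h5).tail h4.symm
  have hfix : ∀ L ∈ OmS Om (S : Subgroup G), ∀ M ∈ OmS Om (S' : Subgroup G), cj (zz L) M = M := by
    intro L hL M hM
    have h4 : M ∈ ({J, J2, J3} : Set (Subgroup G)) := hE' ▸ hM
    rcases t.fix_or_swap S' hE' g12 g13 g23 (hzS' L hL) (hcJ L hL) with h | ⟨h5, h6⟩
    · exact absurd ⟨L, hL, h⟩ hsw
    · rcases h4 with h4 | h4 | h4
      · rw [h4]; exact t.cj_eq hJ (hcJ L hL)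
      · rw [h4]; exact h5
      · rw [h4]; exact h6
  have hcomm : ∀ L ∈ OmS Om (S : Subgroup G), ∀ M ∈ OmS Om (S' : Subgroup G),
      zz L * zz M = zz M * zz L := fun L hL M hM =>
    t.hyp.comm_zz hM.1 (mem_normalizer_iff_cj.2 (hfix L hL M hM))
  by_cases hcen : ∃ M ∈ OmS Om (S' : Subgroup G), ∃ Q, Syl Q K ∧ ∀ x ∈ Q, zz M * x = x * zz M
  · obtain ⟨M, hM, Q, hQ, hQc⟩ := hcen
    exact (ReflTransGen.single (t.adj_of_cent hK hM.1 hQ hQc)).tail ⟨S', hM, hJS'⟩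
  push Not at hcen
  -- LEMMA Q
  have hA : ES Om (S' : Subgroup G) ≤ normalizer (K : Set G) := by
    rw [ES_le_iff]
    intro M hM
    exact t.mem_normalizer hK (hcomm K hKS M hM).symm
  have hA2 : IsPGroup 2 (ES Om (S' : Subgroup G)) := S'.isPGroup'.to_le (ES_le t.hyp S'.isPGroup')
  obtain ⟨Q, hQ, hAQ⟩ := exists_syl_normalized hA2 hA
  obtain ⟨c, v, n, hq⟩ := t.hyp.exists_gq hK hQ
  have hJ2S : J2 ∈ OmS Om (S' : Subgroup G) := by rw [hE']; simp
  obtain ⟨w, hw, hw4, a, ha, b, hb, ha1, haw, hbw⟩ := hq.exists_fix_inv hQ.2.1 hAQ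
    (fun a ha => ES_sq t.hyp S'.isPGroup' ha) (zz_mem_ES hJS') (zz_mem_ES hJ2S) (t.hyp.zz_ne hJ)
    (t.hyp.zz_ne hJ2S.1) (fun h4 => g12 (t.inj hJ hJ2S.1 h4)) (by
      intro a ha ha1 h4
      rcases t.mem_ES S' ha with h5 | ⟨M, hM, rfl⟩
      · exact ha1 h5
      · obtain ⟨x, hx, hx2⟩ := hcen M hM Q hQ
        exact hx2 (h4 x hx))
  obtain ⟨M, hM, rfl⟩ := (t.mem_ES S' ha).resolve_left ha1
  have hb1 : b ≠ 1 := by
    rintro rfl
    rw [one_mul, inv_one, mul_one] at hbw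
    exact hq.ne_inv_of_four hw hw4 hbw
  obtain ⟨M', hM', rfl⟩ := (t.mem_ES S' hb).resolve_left hb1
  have hne : M ≠ M' := by
    rintro rfl
    rw [haw] at hbw
    exact hq.ne_inv_of_four hw hw4 hbw
  have hbb : (zz M')⁻¹ = zz M' := t.hyp.zz_inv hM'.1
  have hprod : zz M' * zz (cj w⁻¹ M') = zz K := by
    rw [t.hyp.zz_cj hM'.1, inv_inv]
    have h4 : zz M' * w⁻¹ * zz M' = w := by
      have h5 : zz M' * w⁻¹ * (zz M')⁻¹ = w := by
        calc zz M' * w⁻¹ * (zz M')⁻¹ = (zz M' * w * (zz M')⁻¹)⁻¹ := by group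
          _ = w := by rw [hbw, inv_inv]
      rwa [hbb] at h5
    calc zz M' * (w⁻¹ * zz M' * w) = (zz M' * w⁻¹ * zz M') * w := by group
      _ = w * w := by rw [h4]
      _ = zz K := hq.sq_of_four hw hw4
  have hwM : cj w⁻¹ M = M := by
    have h4 : w ∈ normalizer (M : Set G) := t.mem_normalizer hM.1 (by
      calc w * zz M = (zz M * w * (zz M)⁻¹) * zz M := by rw [haw]
        _ = zz M * w := by group)
    exact mem_normalizer_iff_cj.1 (inv_mem h4)
  have hadj : Adj Om M M' := ⟨S', hM, hM'⟩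
  have hadj' : Adj Om M (cj w⁻¹ M') := by
    have h4 := hadj.conj t.hyp.conj w⁻¹
    rwa [hwM] at h4
  have hMM : M' ≠ cj w⁻¹ M' := by
    intro h4
    rw [← h4, t.hyp.zz_mul hM'.1] at hprod
    exact t.hyp.zz_ne hK hprod.symm
  obtain ⟨L, hL, hLX⟩ := t.fact M M' (cj w⁻¹ M') hadj hadj' hMM (by
    have hzi : (zz (cj w⁻¹ M'))⁻¹ = zz (cj w⁻¹ M') := t.hyp.zz_inv (t.hyp.conj M' hM'.1 _)
    have h4 : (zz M' * zz (cj w⁻¹ M'))⁻¹ = zz M' * zz (cj w⁻¹ M') := by
      rw [hprod, t.hyp.zz_inv hK]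
    rw [mul_inv_rev, hzi, hbb] at h4
    exact h4.symm)
  rw [hprod] at hLX
  obtain ⟨x, hx, hxL⟩ := exists_conj_of_mul_mem_odd (odd_XX _) (t.hyp.zz_mul hK) (t.hyp.zz_mul hL.right) hLX
  have h5 : cj x K = L := t.inj (t.hyp.conj K hK x) hL.right (by rw [t.hyp.zz_cj hK, hxL])
  have h6 : cj x M = M := t.cj_eq hM.1 (mem_centralizer_singleton_iff.1 (XX_le _ hx))
  have h7 : Adj Om M K := by
    have h8 : Adj Om (cj x M) (cj x K) := by rw [h5, h6]; exact hL
    have h9 := h8.conj t.hyp.conj x⁻¹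
    rwa [cj_inv_cj, cj_inv_cj] at h9
  exact (ReflTransGen.single h7.symm).tail ⟨S', hM, hJS'⟩

/-- **the product of two commuting `zz`'s is a `zz`** -/
theorem exists_mul (t : Tri Om) {K J : Subgroup G} (hK : K ∈ Om) (hJ : J ∈ Om) (hne : J ≠ K)
    (hc : zz J * zz K = zz K * zz J) : ∃ L ∈ Om, zz K * zz J = zz L := by
  have hJN : zz J ∈ normalizer (K : Set G) := t.mem_normalizer hK hc
  have hJ2 : IsPGroup 2 (zpowers (zz J)) := by
    apply IsPGroup.of_card (n := 1)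
    rw [Nat.card_zpowers, t.hyp.orderOf_zz hJ, pow_one]
  obtain ⟨Q, hQ, hJQ⟩ := exists_syl_normalized hJ2 ((zpowers_le).2 hJN)
  by_cases hcen : ∀ x ∈ Q, zz J * x = x * zz J
  · obtain ⟨S, h1, h2⟩ := t.adj_of_cent hK hJ hQ hcen
    obtain ⟨N, hN, -, -, h3⟩ := t.mul S K h1 J h2 hne.symm
    exact ⟨N, hN.1, h3⟩
  · obtain ⟨c, v, n, hq⟩ := t.hyp.exists_gq hK hQ
    obtain ⟨w, hw, hw4, hww⟩ := hq.exists_inverted hQ.2.1 (hJQ (mem_zpowers _)) (t.hyp.zz_mul hJ) hcen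
    refine ⟨cj w⁻¹ J, t.hyp.conj J hJ _, ?_⟩
    rw [t.hyp.zz_cj hJ, inv_inv]
    have h1 : zz J * w = w⁻¹ * zz J := by
      rw [← hww]; group
    have h2 : w⁻¹ * zz J * w = zz J * (w * w) := by
      rw [← h1]; group
    rw [h2, hq.sq_of_four hw hw4, ← hc]

/-- the stabiliser of the component of `K` -/
def stab (hO : ∀ K ∈ Om, ∀ g, cj g K ∈ Om) (K : Subgroup G) : Subgroup G where
  carrier := {g | ReflTransGen (Adj Om) K (cj g K)}
  one_mem' := by
    show ReflTransGen (Adj Om) K (cj 1 K)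
    rw [cj_one]
  mul_mem' := by
    intro a b ha hb
    show ReflTransGen (Adj Om) K (cj (a * b) K)
    rw [cj_mul]
    exact ha.trans (rel_conj hO hb a)
  inv_mem' := by
    intro a ha
    show ReflTransGen (Adj Om) K (cj a⁻¹ K)
    have h1 := rel_conj hO ha a⁻¹
    rw [cj_inv_cj] at h1
    exact rel_symm h1

theorem mem_stab {hO : ∀ K ∈ Om, ∀ g, cj g K ∈ Om} {K : Subgroup G} {g : G} :
    g ∈ stab hO K ↔ ReflTransGen (Adj Om) K (cj g K) := Iff.rfl

/-- a Sylow 2-subgroup normalises a member of `Om(S)` -/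
theorem exists_fixed (t : Tri Om) (S : Sylow 2 G) :
    ∃ K ∈ OmS Om (S : Subgroup G), (S : Subgroup G) ≤ normalizer (K : Set G) := by
  haveI : Fact (Nat.Prime 2) := ⟨Nat.prime_two⟩
  let act : MulAction (S : Subgroup G) (OmS Om (S : Subgroup G)) :=
    { smul := fun s K => ⟨cj (s : G) K, cj_mem_OmS' t.hyp.conj (le_normalizer s.2) K.2⟩
      one_smul := fun K => Subtype.ext (cj_one _)
      mul_smul := fun a b K => Subtype.ext (cj_mul _ _ _) }
  have hS : IsPGroup 2 (S : Subgroup G) := S.isPGroup'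
  have hcard : ¬ 2 ∣ Nat.card (OmS Om (S : Subgroup G)) := by
    rw [Nat.card_coe_set_eq, t.three S]
    omega
  obtain ⟨K, hK⟩ := hS.nonempty_fixed_point_of_prime_not_dvd_card (α := OmS Om (S : Subgroup G)) hcard
  refine ⟨K, K.2, fun s hs => ?_⟩
  rw [mem_normalizer_iff_cj]
  exact congrArg Subtype.val (hK ⟨s, hs⟩)

/-- **CONN for `|Om(S)| = 3`, `z₁ z₂ z₃ = 1`**: `hasch` is S1175, `hse` excludes strongly embedded subgroups. -/
theorem connected (t : Tri Om)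
    (hasch : ∀ (M : Subgroup G), M ≠ ⊤ → ∀ z : G, orderOf z = 2 → z ∈ M →
      (∃ S : Sylow 2 G, z ∈ S ∧ ∀ s ∈ S, Commute s z) → (∀ g : G, g * z * g⁻¹ ∈ M → g ∈ M) →
      (∀ g : G, Commute z (g * z * g⁻¹) → g * z * g⁻¹ ≠ z → centralizer ({z * (g * z * g⁻¹)} : Set G) ≤ M) →
      ∃ H : Subgroup G, Cfsg.IsStronglyEmbedded H)
    (hse : ∀ H : Subgroup G, ¬ Cfsg.IsStronglyEmbedded H) {K : Subgroup G} (hK : K ∈ Om) (g : G) :
    ReflTransGen (Adj Om) K (cj g K) := by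
  haveI : Fact (Nat.Prime 2) := ⟨Nat.prime_two⟩
  -- a member fixed by a Sylow subgroup, in the component of `K`
  obtain ⟨S, hKS, -⟩ := t.hyp.exists_sylow hK
  obtain ⟨K0, hK0, hS0⟩ := t.exists_fixed S
  have hKK0 : Adj Om K K0 := ⟨S, hKS, hK0⟩
  set M := stab t.hyp.conj K0 with hM
  have hNM : normalizer (K0 : Set G) ≤ M := by
    intro x hx
    rw [hM, mem_stab, mem_normalizer_iff_cj.1 hx]
  -- (h2)
  have key : ∀ J ∈ Om, zz J ∈ M → ReflTransGen (Adj Om) K0 J := by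
    intro J hJ hzJ
    have hJ2 : IsPGroup 2 (zpowers (zz J)) := by
      apply IsPGroup.of_card (n := 1)
      rw [Nat.card_zpowers, t.hyp.orderOf_zz hJ, pow_one]
    have hSM : Syl (S : Subgroup G) M := by
      refine ⟨hS0.trans hNM, S.isPGroup', fun h => ?_⟩
      exact S.not_dvd_index (h.trans (relIndex_dvd_index_of_le (hS0.trans hNM)))
    obtain ⟨T, hT, hzT⟩ := Cit.exists_syl_ge hJ2 ((zpowers_le).2 hzJ)
    obtain ⟨m, hm, hmT⟩ := hSM.exists_conj hT
    have h1 : zz J ∈ cj m (S : Subgroup G) := by rw [hmT]; exact hzT (mem_zpowers _)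
    rw [mem_cj] at h1
    have h2 : zz J ∈ normalizer ((cj m K0 : Subgroup G) : Set G) := by
      have h3 := hS0 h1
      rw [mem_normalizer_iff_cj] at h3 ⊢
      have h4 := congrArg (cj m) h3
      rw [← cj_mul] at h4
      rw [← cj_mul]
      rw [show m * (m⁻¹ * zz J * m) = zz J * m by group] at h4
      exact h4
    have h5 : ReflTransGen (Adj Om) (cj m K0) J :=
      t.rel_of_comm (t.hyp.conj _ hK0.1 m) hJ (t.hyp.comm_zz (t.hyp.conj _ hK0.1 m) h2)
    exact (mem_stab.1 hm).trans h5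
  by_cases hMt : M = ⊤
  · have h1 : g ∈ M := by rw [hMt]; exact mem_top g
    have h2 := rel_conj t.hyp.conj (ReflTransGen.single hKK0) g
    exact (ReflTransGen.single hKK0).trans ((mem_stab.1 h1).trans (rel_symm h2))
  · exfalso
    suffices hex : ∃ H : Subgroup G, Cfsg.IsStronglyEmbedded H by
      obtain ⟨H, hH⟩ := hex
      exact hse H hH
    refine hasch M hMt (zz K0) (t.hyp.orderOf_zz hK0.1) (hNM (le_normalizer (t.hyp.zz_mem hK0.1)))
      ⟨S, ?_, ?_⟩ ?_ ?_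
    · exact (t.hyp.zz_mem_inf S.isPGroup' hK0).2
    · intro s hs
      exact t.hyp.comm_zz hK0.1 (hS0 hs)
    · intro x hx
      rw [← t.hyp.zz_cj hK0.1] at hx
      exact mem_stab.2 (key _ (t.hyp.conj _ hK0.1 x) hx)
    · intro x hcx hnx
      rw [← t.hyp.zz_cj hK0.1] at hcx hnx ⊢
      have hJ := t.hyp.conj _ hK0.1 x
      obtain ⟨L, hL, hLz⟩ := t.exists_mul hK0.1 hJ (fun h => hnx (by rw [h])) hcx.eq.symm
      rw [hLz]
      intro y hy
      have h1 : ReflTransGen (Adj Om) K0 L := by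
        apply t.rel_of_comm hK0.1 hL
        rw [← hLz]
        calc zz K0 * zz (cj x K0) * zz K0 = zz K0 * (zz (cj x K0) * zz K0) := by group
          _ = zz K0 * (zz K0 * zz (cj x K0)) := by rw [hcx.eq]
      have h2 : cj y L = L := t.cj_eq hL (mem_centralizer_singleton_iff.1 hy)
      have h3 := rel_conj t.hyp.conj h1 y
      rw [h2] at h3
      exact mem_stab.2 (h1.trans (rel_symm h3))

/-- the commuting graph is connected if `Om` is one class -/
theorem connected_of_class (t : Tri Om)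
    (hasch : ∀ (M : Subgroup G), M ≠ ⊤ → ∀ z : G, orderOf z = 2 → z ∈ M →
      (∃ S : Sylow 2 G, z ∈ S ∧ ∀ s ∈ S, Commute s z) → (∀ g : G, g * z * g⁻¹ ∈ M → g ∈ M) →
      (∀ g : G, Commute z (g * z * g⁻¹) → g * z * g⁻¹ ≠ z → centralizer ({z * (g * z * g⁻¹)} : Set G) ≤ M) →
      ∃ H : Subgroup G, Cfsg.IsStronglyEmbedded H)
    (hse : ∀ H : Subgroup G, ¬ Cfsg.IsStronglyEmbedded H)
    (hone : ∀ K ∈ Om, ∀ L ∈ Om, ∃ g, cj g K = L) :
    ∀ K ∈ Om, ∀ L ∈ Om, ReflTransGen (Adj Om) K L := by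
  intro K hK L hL
  obtain ⟨g, rfl⟩ := hone K hK L hL
  exact t.connected hasch hse hK g

end Tri

end Cfsg.Agent.Cit
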