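import Cfsg.Agent.Cit.SpCfg
import Cfsg.Agent.Cit.ThreeConn
import Cfsg.Agent.Cit.Types

/-!
# Cores for `|Om(S)| = 3`, `z₁ z₂ z₃ = 1`, type `Sp₄(q)`: LEMMA N

* `NZero Om` (N0): `J`, `J'` adjacent to `H`, `z_J`, `z_J'` commute, all different ⇒ `z_J z_J' = z_H`;
* `NZero.adj` (N): `K, J ∈ Om`, `z_K`, `z_J` commute ⇒ `K`, `J` adjacent (LEMMA Q, helper145);
* `nzero` : (N0) from the facts on the piece `D` of `C(z_K) / O(C(z_K))`.
-/

set_option autoImplicit false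
set_option linter.style.haveILetI false
set_option linter.unusedSectionVars false

namespace Cfsg.Agent.Cit.Sp4

open Subgroup Cfsg Cfsg.Agent.Cit Relation OneBasic

universe u

/-! ### Local part -/

section Local

variable {H : Type*} [Group H]

/-- `zz T` is the only involution of `T`, it is central, and central elements have order at most 2 -/
structure ZU (T : Subgroup H) : Prop where
  mem : zz T ∈ T
  ord : orderOf (zz T) = 2
  uniq : ∀ x ∈ T, x * x = 1 → x = 1 ∨ x = zz T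
  cen : ∀ x ∈ T, x * zz T = zz T * x
  cc : ∀ x ∈ T, (∀ y ∈ T, y * x = x * y) → x * x = 1

theorem ZU.sq {T : Subgroup H} (h : ZU T) : zz T * zz T = 1 := by
  have := pow_orderOf_eq_one (zz T)
  rwa [h.ord, pow_two] at this

theorem ZU.ne {T : Subgroup H} (h : ZU T) : zz T ≠ 1 := by
  intro e
  have := h.ord
  rw [e, orderOf_one] at this
  omega

theorem zu_of_sl {F : Type} [Field F] [Fintype F] (hF : Odd (Fintype.card F)) {T : Subgroup H}
    (e : Nonempty (Matrix.SpecialLinearGroup (Fin 2) F ≃* T)) : ZU T := by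
  obtain ⟨e⟩ := e
  obtain ⟨z, hz, hu⟩ := (IsTy.good (X := ↥T) (Or.inl ⟨F, inferInstance, inferInstance, hF, ⟨e.symm⟩⟩)).uniq
  obtain ⟨h1, h2⟩ := zz_spec (K := T) ⟨z, z.2, by rw [Subgroup.orderOf_coe]; exact hz⟩
  have hu' : ∀ x ∈ T, orderOf x = 2 → x = zz T := by
    intro x hx hx2
    have h3 := hu ⟨x, hx⟩ (by rw [← Subgroup.orderOf_coe]; exact hx2)
    have h4 := hu ⟨zz T, h1⟩ (by rw [← Subgroup.orderOf_coe]; exact h2)
    exact congrArg Subtype.val (h3.trans h4.symm)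
  refine ⟨h1, h2, ?_, ?_, ?_⟩
  · intro x hx hxx
    by_cases h3 : x = 1
    · exact Or.inl h3
    · exact Or.inr (hu' x hx (orderOf_eq_prime (by rw [pow_two]; exact hxx) h3))
  · intro x hx
    have h3 : x * zz T * x⁻¹ = zz T := by
      refine hu' _ (T.mul_mem (T.mul_mem hx h1) (T.inv_mem hx)) ?_
      have h4 := (MulAut.conj x).orderOf_eq (zz T)
      rw [MulAut.conj_apply] at h4
      rw [h4, h2]
    calc x * zz T = (x * zz T * x⁻¹) * x := by group
      _ = zz T * x := by rw [h3]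
  · intro x hx hc
    have h3 : e.symm ⟨x, hx⟩ ∈ center (Matrix.SpecialLinearGroup (Fin 2) F) := by
      rw [Subgroup.mem_center_iff]
      intro g
      apply e.injective
      rw [map_mul, map_mul, e.apply_symm_apply]
      exact Subtype.ext (hc _ (e g).2)
    rw [TwoFusion.QuatCoverSL.center_eq_zpowers hF] at h3
    obtain ⟨i, hi⟩ := h3
    have hi' : (-1 : Matrix.SpecialLinearGroup (Fin 2) F) ^ i = e.symm ⟨x, hx⟩ := hi
    have h4 : e.symm ⟨x, hx⟩ * e.symm ⟨x, hx⟩ = 1 := by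
      rw [← hi', ← zpow_add, ← two_mul, zpow_mul]
      simp
    rw [← map_mul] at h4
    have h5 : (⟨x, hx⟩ : T) * ⟨x, hx⟩ = 1 := e.symm.injective (by rw [h4, map_one])
    exact congrArg Subtype.val h5

/-- an involution of `D` commuting with `z_K` -/
theorem SpFacts.cases {p : ℕ} {F : Type} [Field F] {D K L : Subgroup H} (h : SpFacts p F D K L)
    (hK : ZU K) (hL : ZU L) {y : H} (hy : y ∈ D) (hyy : y * y = 1) (hc : y * zz K = zz K * y) :
    y = 1 ∨ y = zz K ∨ y = zz L ∨ y = zz K * zz L := by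
  have hn : L ≤ normalizer (K : Set H) := by
    intro x hx
    refine centralizer_le_normalizer _ ?_
    rw [mem_centralizer_iff]
    exact fun k hk => h.comm k hk x hx
  obtain ⟨a, ha, b, hb, rfl⟩ := LB.exists_mul_of_mem_sup hn (h.cen y hy hc)
  have hab := h.comm a ha b hb
  have h1 : a * a = (b * b)⁻¹ := by
    have h2 : a * a * (b * b) = 1 := by
      calc a * a * (b * b) = a * (a * b) * b := by group
        _ = a * (b * a) * b := by rw [hab]
        _ = a * b * (a * b) := by group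
        _ = 1 := hyy
    exact eq_inv_of_mul_eq_one_left h2
  -- `a²` is central in `K` and `L`
  have h3 : a * a ∈ L := by rw [h1]; exact L.inv_mem (L.mul_mem hb hb)
  have h4 : a * a ∈ K := K.mul_mem ha ha
  have h5 : (a * a) * (a * a) = 1 := hK.cc _ h4 fun y hy => h.comm y hy _ h3
  have h6 : a * a = 1 := by
    rcases hK.uniq _ h4 h5 with e | e
    · exact e
    · rcases hL.uniq _ h3 h5 with e' | e'
      · exact e'
      · exact absurd (e.symm.trans e') h.ne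
  have h7 : b * b = 1 := by
    have := h1.symm.trans h6
    rwa [inv_eq_one] at this
  rcases hK.uniq a ha h6 with rfl | rfl <;> rcases hL.uniq b hb h7 with rfl | rfl
  · left; rw [one_mul]
  · right; right; left; rw [one_mul]
  · right; left; rw [mul_one]
  · right; right; right; rfl

end Local

variable {G : Type u} [Group G] [Finite G] {Om : Set (Subgroup G)}

/-- (N0) -/
def NZero (Om : Set (Subgroup G)) : Prop := ∀ H J J' : Subgroup G, Adj Om H J → Adj Om H J' → J ≠ H → J' ≠ H →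
  J ≠ J' → zz J * zz J' = zz J' * zz J → zz J * zz J' = zz H

/-- **(N)** -/
theorem NZero.adj (n0 : NZero Om) (t : Tri Om) {K J : Subgroup G} (hK : K ∈ Om) (hJ : J ∈ Om)
    (hc : zz J * zz K = zz K * zz J) : Adj Om K J := by
  by_contra hna
  have hJ2 : IsPGroup 2 (zpowers (zz K)) := by
    apply IsPGroup.of_card (n := 1)
    rw [Nat.card_zpowers, t.hyp.orderOf_zz hK, pow_one]
  obtain ⟨T, hT, hzT⟩ := Cit.exists_syl_ge (C := centralizer {zz J}) hJ2
    ((zpowers_le).2 (mem_centralizer_singleton_iff.2 hc.symm))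
  obtain ⟨S, hTS, -⟩ := hT.exists_sylow_ge
  have hJS : J ∈ OmS Om (S : Subgroup G) := OmS_mono hTS (t.hyp.mem_OmS_of_syl hJ hT)
  have hKS : zz K ∈ S := hTS (hzT (mem_zpowers _))
  obtain ⟨J2, J3, hE, g12, g13, g23⟩ := t.exists_three S hJS
  have hJ2S : J2 ∈ OmS Om (S : Subgroup G) := by rw [hE]; simp
  have hJ3S : J3 ∈ OmS Om (S : Subgroup G) := by rw [hE]; simp
  rcases t.fix_or_swap S hE g12 g13 g23 hKS hc.symm with h | ⟨h2, h3⟩
  · exact hna (t.swap S hE g23 hK hKS h).symm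
  have hfix : ∀ M ∈ OmS Om (S : Subgroup G), cj (zz K) M = M := by
    intro M hM
    have h4 : M ∈ ({J, J2, J3} : Set (Subgroup G)) := hE ▸ hM
    rcases h4 with h4 | h4 | h4
    · rw [h4]; exact t.cj_eq hJ hc.symm
    · rw [h4]; exact h2
    · rw [h4]; exact h3
  have hcomm : ∀ M ∈ OmS Om (S : Subgroup G), zz K * zz M = zz M * zz K := fun M hM =>
    t.hyp.comm_zz hM.1 (mem_normalizer_iff_cj.2 (hfix M hM))
  have hnS : K ∉ OmS Om (S : Subgroup G) := fun h => hna ⟨S, h, hJS⟩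
  -- no `M ∈ Om(S)` is adjacent to `K`
  have hnM : ∀ M ∈ OmS Om (S : Subgroup G), ¬ Adj Om K M := by
    intro M hM hKM
    have hMJ : M ≠ J := by rintro rfl; exact hna hKM
    have hMK : M ≠ K := by rintro rfl; exact hnS hM
    have hJK : J ≠ K := by rintro rfl; exact hnS hJS
    have h5 := n0 M J K ⟨S, hM, hJS⟩ hKM.symm hMJ.symm hMK.symm hJK hc
    obtain ⟨N, hN, -, -, h6⟩ := t.mul S J hJS M hM hMJ.symm
    have h7 : zz K = zz N := by
      rw [← h6, ← h5, ← mul_assoc, t.hyp.zz_mul hJ, one_mul]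
    exact hnS (t.inj hK hN.1 h7 ▸ hN)
  have hcen : ∀ M ∈ OmS Om (S : Subgroup G), ∀ Q, Syl Q K → ∃ x ∈ Q, zz M * x ≠ x * zz M := by
    intro M hM Q hQ
    by_contra hcon
    push Not at hcon
    exact hnM M hM (t.adj_of_cent hK hM.1 hQ hcon)
  -- LEMMA Q
  have hA : ES Om (S : Subgroup G) ≤ normalizer (K : Set G) := by
    rw [ES_le_iff]
    intro M hM
    exact t.mem_normalizer hK (hcomm M hM).symm
  have hA2 : IsPGroup 2 (ES Om (S : Subgroup G)) := S.isPGroup'.to_le (ES_le t.hyp S.isPGroup')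
  obtain ⟨Q, hQ, hAQ⟩ := exists_syl_normalized hA2 hA
  obtain ⟨c, v, n, hq⟩ := t.hyp.exists_gq hK hQ
  obtain ⟨w, hw, hw4, a, ha, b, hb, ha1, haw, hbw⟩ := hq.exists_fix_inv hQ.2.1 hAQ
    (fun a ha => ES_sq t.hyp S.isPGroup' ha) (zz_mem_ES hJS) (zz_mem_ES hJ2S) (t.hyp.zz_ne hJ)
    (t.hyp.zz_ne hJ2S.1) (fun h4 => g12 (t.inj hJ hJ2S.1 h4)) (by
      intro a ha ha1 h4
      rcases t.mem_ES S ha with h5 | ⟨M, hM, rfl⟩
      · exact ha1 h5
      · obtain ⟨x, hx, hx2⟩ := hcen M hM Q hQ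
        exact hx2 (h4 x hx))
  obtain ⟨M, hM, rfl⟩ := (t.mem_ES S ha).resolve_left ha1
  have hb1 : b ≠ 1 := by
    rintro rfl
    rw [one_mul, inv_one, mul_one] at hbw
    exact hq.ne_inv_of_four hw hw4 hbw
  obtain ⟨M', hM', rfl⟩ := (t.mem_ES S hb).resolve_left hb1
  have hne : M ≠ M' := by
    rintro rfl
    rw [haw] at hbw
    exact hq.ne_inv_of_four hw hw4 hbw
  have hbb : (zz M')⁻¹ = zz M' := t.hyp.zz_inv hM'.1
  have hprod : zz M' * zz (cj w⁻¹ M') = zz K := by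
    rw [t.hyp.zz_cj hM'.1, inv_inv]
    have h4 : zz M' * w⁻¹ * zz M' = w := by
      have h5 : zz M' * w⁻¹ * (zz M')⁻¹ = w := by
        calc zz M' * w⁻¹ * (zz M')⁻¹ = (zz M' * w * (zz M')⁻¹)⁻¹ := by group
          _ = w := by rw [hbw, inv_inv]
      rwa [hbb] at h5
    calc zz M' * (w⁻¹ * zz M' * w) = (zz M' * w⁻¹ * zz M') * w := by group
      _ = w * w := by rw [h4]
      _ = zz K := hq.sq_of_four hw hw4
  have hwM : cj w⁻¹ M = M := by
    have h4 : w ∈ normalizer (M : Set G) := t.mem_normalizer hM.1 (by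
      calc w * zz M = (zz M * w * (zz M)⁻¹) * zz M := by rw [haw]
        _ = zz M * w := by group)
    exact mem_normalizer_iff_cj.1 (inv_mem h4)
  have hadj : Adj Om M M' := ⟨S, hM, hM'⟩
  have hadj' : Adj Om M (cj w⁻¹ M') := by
    have h4 := hadj.conj t.hyp.conj w⁻¹
    rwa [hwM] at h4
  have hMM : M' ≠ cj w⁻¹ M' := by
    intro h4
    rw [← h4, t.hyp.zz_mul hM'.1] at hprod
    exact t.hyp.zz_ne hK hprod.symm
  have hne' : cj w⁻¹ M' ≠ M := by
    intro h4
    apply hne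
    rw [← hwM] at h4
    exact (cj_inj.1 h4).symm
  have h5 := n0 M M' (cj w⁻¹ M') hadj hadj' hne.symm hne' hMM (by
    have hzi : (zz (cj w⁻¹ M'))⁻¹ = zz (cj w⁻¹ M') := t.hyp.zz_inv (t.hyp.conj M' hM'.1 _)
    have h4 : (zz M' * zz (cj w⁻¹ M'))⁻¹ = zz M' * zz (cj w⁻¹ M') := by
      rw [hprod, t.hyp.zz_inv hK]
    rw [mul_inv_rev, hzi, hbb] at h4
    exact h4.symm)
  rw [hprod] at h5
  exact hnS (t.inj hK hM.1 h5 ▸ hM)

/-- the facts at `K₁` used for (N0) -/
structure NLoc (p : ℕ) (F : Type) [Field F] (K1 K2 K3 : Subgroup G) : Prop where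
  ex : ∃ D T2 T3 : Subgroup (ThreeCore.HQ K1), D.Normal ∧ SpFacts p F D T2 T3 ∧
    zz T2 = ThreeCore.qt K1 (zz K2) ∧ zz T3 = ThreeCore.qt K1 (zz K3)

/-- **(N0)** -/
theorem nzero (t : Tri Om) {p : ℕ} {F : Type} [Field F] [Fintype F] (hF : Odd (Fintype.card F))
    (loc : ∀ S : Sylow 2 G, ∀ K1 ∈ OmS Om (S : Subgroup G), ∀ K2 ∈ OmS Om (S : Subgroup G),
      ∀ K3 ∈ OmS Om (S : Subgroup G), K1 ≠ K2 → K1 ≠ K3 → K2 ≠ K3 → NLoc p F K1 K2 K3) : NZero Om := by
  intro K J J' hJ hJ' nJ nJ' nJJ hc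
  obtain ⟨S, hKS, hJS⟩ := hJ
  obtain ⟨S', hKS', hJS'⟩ := hJ'
  obtain ⟨L2, L3, hE, e1, e2, e3⟩ := t.exists_three S hKS
  -- the third member
  obtain ⟨J3, hJ3, n1, n2, hmul⟩ := t.mul S K hKS J hJS nJ.symm
  obtain ⟨D, T2, T3, hDn, hfa, z2, z3⟩ := (loc S K hKS J hJS J3 hJ3 nJ.symm n1.symm n2.symm).ex
  have hZ2 := zu_of_sl hF hfa.eK
  have hZ3 := zu_of_sl hF hfa.eL
  -- `z_J'` is conjugate in `C(z_K)` to `z_J` or `z_J3`
  obtain ⟨x, hx, hxS⟩ := DD_conj_of_common t.hyp S S' hKS hKS'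
  have hcS : ∀ A ∈ OmS Om (S : Subgroup G), ∀ B ∈ OmS Om (S : Subgroup G), zz A * zz B = zz B * zz A :=
    fun A hA B hB => ES_comm t.hyp S.isPGroup' (zz_mem_ES hA) (zz_mem_ES hB)
  have hmc : ∀ M ∈ OmS Om (S : Subgroup G), zz M ∈ centralizer ({zz K} : Set G) := fun M hM =>
    mem_centralizer_singleton_iff.2 (hcS M hM K hKS)
  have hJ3K : J3 ∈ OmS Om (S : Subgroup G) := hJ3
  have hall : ∀ M ∈ OmS Om (S : Subgroup G), M ≠ K → M = J ∨ M = J3 := by
    intro M hM hMK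
    have h1 : M ∈ ({K, L2, L3} : Set (Subgroup G)) := hE ▸ hM
    have h2 : J ∈ ({K, L2, L3} : Set (Subgroup G)) := hE ▸ hJS
    have h3 : J3 ∈ ({K, L2, L3} : Set (Subgroup G)) := hE ▸ hJ3
    simp only [Set.mem_insert_iff, Set.mem_singleton_iff] at h1 h2 h3
    rcases h1 with h1 | h1 | h1
    · exact absurd h1 hMK
    · rcases h2 with h2 | h2 | h2
      · exact absurd h2 nJ
      · exact Or.inl (h1.trans h2.symm)
      · rcases h3 with h3 | h3 | h3
        · exact absurd h3 n1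
        · exact Or.inr (h1.trans h3.symm)
        · exact absurd (h3.trans h2.symm) n2
    · rcases h2 with h2 | h2 | h2
      · exact absurd h2 nJ
      · rcases h3 with h3 | h3 | h3
        · exact absurd h3 n1
        · exact absurd (h3.trans h2.symm) n2
        · exact Or.inr (h1.trans h3.symm)
      · exact Or.inl (h1.trans h2.symm)
  have hz : ∀ M ∈ OmS Om (S : Subgroup G), M ≠ K → ThreeCore.qt K (zz M) ∈ D := by
    intro M hM hMK
    rcases hall M hM hMK with rfl | rfl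
    · rw [← z2]; exact hfa.left hZ2.mem
    · rw [← z3]; exact hfa.right hZ3.mem
  have hxK : cj x K = K := t.cj_eq hKS.1 (mem_centralizer_singleton_iff.1 hx)
  have hM : cj x⁻¹ J' ∈ OmS Om (S : Subgroup G) := by
    rw [← OmS_DD S'.isPGroup', ← hxS] at hJS'
    have h1 := cj_mem_OmS t.hyp.conj x⁻¹ hJS'
    rwa [cj_inv_cj, OmS_DD S.isPGroup'] at h1
  have hMK : cj x⁻¹ J' ≠ K := by
    intro h1
    apply nJ'
    rw [← cj_cj_inv x J', h1, hxK]
  set M := cj x⁻¹ J' with hMd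
  have hJM : zz J' = x * zz M * x⁻¹ := by
    rw [← t.hyp.zz_cj hM.1, hMd, cj_cj_inv]
  have hJ'c : zz J' ∈ centralizer ({zz K} : Set G) := by
    rw [hJM]
    exact mul_mem (mul_mem hx (hmc M hM)) (inv_mem hx)
  have hyD : ThreeCore.qt K (zz J') ∈ D := by
    have h1 : ThreeCore.qt K (zz J') = ThreeCore.pr K ⟨x, hx⟩ * ThreeCore.qt K (zz M) * (ThreeCore.pr K ⟨x, hx⟩)⁻¹ := by
      rw [ThreeCore.qt_eq hJ'c, ThreeCore.qt_eq (hmc M hM), ← map_mul, ← map_inv, ← map_mul]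
      congr 1
      exact Subtype.ext hJM
    rw [h1]
    exact hDn.conj_mem _ (hz M hM hMK) _
  have hJc := hmc J hJS
  have hJ3c := hmc J3 hJ3
  have hKc := hmc K hKS
  have hJ' := hJS'.1
  have hzz : zz J' * zz J' = 1 := t.hyp.zz_mul hJ'
  have hcK : zz J' * zz K = zz K * zz J' := mem_centralizer_singleton_iff.1 hJ'c
  have hcJ3 : zz J' * zz J3 = zz J3 * zz J' := by
    rw [← hmul]
    calc zz J' * (zz K * zz J) = (zz J' * zz K) * zz J := by group
      _ = zz K * (zz J' * zz J) := by rw [hcK]; group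
      _ = zz K * zz J * zz J' := by rw [← hc]; group
  rcases hfa.cases hZ2 hZ3 hyD
      (by rw [← ThreeCore.qt_mul hJ'c hJ'c, hzz, ThreeCore.qt_one])
      (by rw [z2, ← ThreeCore.qt_mul hJ'c hJc, ← ThreeCore.qt_mul hJc hJ'c, hc]) with h | h | h | h
  · exfalso
    apply t.hyp.zz_ne hJ'
    exact ThreeCore.eq_of_qt_eq hJ'c (one_mem _) hzz (one_mul 1) (by rw [mul_one, one_mul])
      (h.trans (ThreeCore.qt_one K).symm)
  · exfalso
    rw [z2] at h
    apply nJJ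
    exact t.inj hJS.1 hJ' (ThreeCore.eq_of_qt_eq hJ'c hJc hzz (t.hyp.zz_mul hJS.1) hc.symm h).symm
  · rw [z3] at h
    have h1 := ThreeCore.eq_of_qt_eq hJ'c hJ3c hzz (t.hyp.zz_mul hJ3.1) hcJ3 h
    rw [h1, ← hmul, hcS K hKS J hJS, ← mul_assoc, t.hyp.zz_mul hJS.1, one_mul]
  · exfalso
    have h1 : zz J * zz J3 = zz K := by
      rw [← hmul, hcS K hKS J hJS, ← mul_assoc, t.hyp.zz_mul hJS.1, one_mul]
    rw [z2, z3, ← ThreeCore.qt_mul hJc hJ3c, h1] at h
    apply nJ'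
    exact t.inj hJ' hKS.1 (ThreeCore.eq_of_qt_eq hJ'c hKc hzz (t.hyp.zz_mul hKS.1) hcK h)

end Cfsg.Agent.Cit.Sp4
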