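import Cfsg.Agent.Cit.SpMb
import Cfsg.Agent.Cit.SpN
import Cfsg.Agent.Cit.CoresG
import Cfsg.Agent.Cit.ParabSL2
import Cfsg.Agent.Cit.SpAll
import Cfsg.Agent.Cit.UniOm

/-!
# Cores for `|Om(S)| = 3`, `z₁ z₂ z₃ = 1`, type `Sp₄(q)`: the family in `C(f) / O(C(f))`
-/

set_option autoImplicit false
set_option linter.style.haveILetI false
set_option linter.unusedSectionVars false

namespace Cfsg.Agent.Cit.Sp4

open Subgroup Cfsg Cfsg.Agent.Cit Cfsg.Agent.Cit.CoresG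

universe u

variable {G : Type u} [Group G]

/-! ### The map `C(f) → C(f) / O(C(f))` on elements of `G` -/

open Classical in
/-- the image of `x ∈ C(f)` in `C(f) / O(C(f))` (`1` for other elements) -/
noncomputable def qh (f x : G) : UseT.HQ (centralizer ({f} : Set G)) :=
  if h : x ∈ centralizer ({f} : Set G) then UseT.qm _ ⟨x, h⟩ else 1

theorem qh_eq {f x : G} (h : x ∈ centralizer ({f} : Set G)) : qh f x = UseT.qm _ ⟨x, h⟩ := by
  rw [qh, dif_pos h]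

theorem qh_mul {f x y : G} (hx : x ∈ centralizer ({f} : Set G)) (hy : y ∈ centralizer ({f} : Set G)) :
    qh f (x * y) = qh f x * qh f y := by
  rw [qh_eq hx, qh_eq hy, qh_eq (mul_mem hx hy), ← map_mul]
  rfl

theorem qh_inv {f x : G} (hx : x ∈ centralizer ({f} : Set G)) : qh f x⁻¹ = (qh f x)⁻¹ := by
  rw [qh_eq hx, qh_eq (inv_mem hx), ← map_inv]
  rfl

theorem qh_one (f : G) : qh f 1 = 1 := by
  rw [qh_eq (one_mem _)]
  exact map_one _

theorem exists_qh {f : G} (y : UseT.HQ (centralizer ({f} : Set G))) :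
    ∃ x ∈ centralizer ({f} : Set G), qh f x = y := by
  obtain ⟨x, rfl⟩ := UseT.qm_surjective _ y
  exact ⟨x, x.2, qh_eq x.2⟩

theorem qh_eq_one [Finite G] {f x : G} (hx : x ∈ centralizer ({f} : Set G)) : qh f x = 1 ↔ x ∈ XX f := by
  rw [qh_eq hx, mem_ker_iff]
  rfl

theorem qt_inv {K : Subgroup G} {x : G} (hx : x ∈ centralizer ({zz K} : Set G)) :
    ThreeCore.qt K x⁻¹ = (ThreeCore.qt K x)⁻¹ := by
  rw [ThreeCore.qt_eq hx, ThreeCore.qt_eq (inv_mem hx), ← map_inv]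
  rfl

/-! ### The subgroup `J₁` of `C(f)` -/

/-- the elements of `C(z_K) ∩ C(f)` with image in `L ≤ C(z_K) / O(C(z_K))` -/
def JJ (K : Subgroup G) (f : G) (L : Subgroup (ThreeCore.HQ K)) : Subgroup ↥(centralizer ({f} : Set G)) where
  carrier := {x | (x : G) ∈ centralizer ({zz K} : Set G) ∧ ThreeCore.qt K (x : G) ∈ L}
  one_mem' := ⟨one_mem _, by
    change ThreeCore.qt K 1 ∈ L
    rw [ThreeCore.qt_one]; exact one_mem _⟩
  mul_mem' := by
    rintro x y ⟨hx, hx'⟩ ⟨hy, hy'⟩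
    refine ⟨mul_mem hx hy, ?_⟩
    change ThreeCore.qt K ((x : G) * y) ∈ L
    rw [ThreeCore.qt_mul hx hy]
    exact mul_mem hx' hy'
  inv_mem' := by
    rintro x ⟨hx, hx'⟩
    refine ⟨inv_mem hx, ?_⟩
    change ThreeCore.qt K ((x : G)⁻¹) ∈ L
    rw [qt_inv hx]
    exact inv_mem hx'

section

variable {K : Subgroup G} {f : G} {L : Subgroup (ThreeCore.HQ K)}

theorem mem_JJ {x : ↥(centralizer ({f} : Set G))} :
    x ∈ JJ K f L ↔ (x : G) ∈ centralizer ({zz K} : Set G) ∧ ThreeCore.qt K (x : G) ∈ L := Iff.rfl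

/-- the hypotheses for `JJ K f L` -/
structure JH (K : Subgroup G) (f : G) (F : Type) [Field F] (L : Subgroup (ThreeCore.HQ K)) : Prop where
  fc : f ∈ centralizer ({zz K} : Set G)
  ff : f * f = 1
  ord : orderOf (zz K) = 2
  comm : ∀ l ∈ L, l * ThreeCore.qt K f = ThreeCore.qt K f * l
  nor : ∀ x, x * ThreeCore.qt K f = ThreeCore.qt K f * x → cj x L = L
  zL : ThreeCore.qt K (zz K) ∈ L
  eL : Nonempty (Matrix.SpecialLinearGroup (Fin 2) F ≃* L)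

namespace JH

variable {F : Type} [Field F]

theorem zf (h : JH K f F L) : zz K ∈ centralizer ({f} : Set G) := by
  have := mem_centralizer_singleton_iff.1 h.fc
  exact mem_centralizer_singleton_iff.2 this.symm

theorem mem_cent_iff (h : JH K f F L) {x : ↥(centralizer ({f} : Set G))} :
    x ∈ centralizer ({(⟨zz K, h.zf⟩ : ↥(centralizer ({f} : Set G)))} : Set ↥(centralizer ({f} : Set G))) ↔
      (x : G) ∈ centralizer ({zz K} : Set G) := by
  rw [mem_centralizer_singleton_iff, mem_centralizer_singleton_iff, ← Subtype.coe_inj]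
  rfl

theorem le (h : JH K f F L) : JJ K f L ≤
    centralizer ({(⟨zz K, h.zf⟩ : ↥(centralizer ({f} : Set G)))} : Set ↥(centralizer ({f} : Set G))) :=
  fun _ hx => h.mem_cent_iff.2 hx.1

theorem z_mem (h : JH K f F L) : (⟨zz K, h.zf⟩ : ↥(centralizer ({f} : Set G))) ∈ JJ K f L :=
  ⟨mem_centralizer_singleton_iff.2 rfl, h.zL⟩

theorem ord' (h : JH K f F L) : orderOf (⟨zz K, h.zf⟩ : ↥(centralizer ({f} : Set G))) = 2 := by
  rw [← Subgroup.orderOf_coe]; exact h.ord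

theorem normalizes (h : JH K f F L) :
    centralizer ({(⟨zz K, h.zf⟩ : ↥(centralizer ({f} : Set G)))} : Set ↥(centralizer ({f} : Set G))) ≤
      normalizer (JJ K f L : Set ↥(centralizer ({f} : Set G))) := by
  have key : ∀ g : ↥(centralizer ({f} : Set G)), (g : G) ∈ centralizer ({zz K} : Set G) → ∀ x ∈ JJ K f L,
      g * x * g⁻¹ ∈ JJ K f L := by
    intro g hg x hx
    refine ⟨mul_mem (mul_mem hg hx.1) (inv_mem hg), ?_⟩
    change ThreeCore.qt K ((g : G) * x * (g : G)⁻¹) ∈ L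
    rw [ThreeCore.qt_mul (mul_mem hg hx.1) (inv_mem hg), ThreeCore.qt_mul hg hx.1, qt_inv hg]
    have h1 : ThreeCore.qt K g * ThreeCore.qt K f = ThreeCore.qt K f * ThreeCore.qt K g := by
      rw [← ThreeCore.qt_mul hg h.fc, ← ThreeCore.qt_mul h.fc hg, mem_centralizer_singleton_iff.1 g.2]
    have h2 := conj_mem_cj (g := ThreeCore.qt K g) hx.2
    rwa [h.nor _ h1] at h2
  intro g hg
  have hg' := h.mem_cent_iff.1 hg
  rw [mem_normalizer_iff]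
  intro x
  constructor
  · exact key g hg' x
  · intro hx
    have h1 := key g⁻¹ (by rw [coe_inv]; exact inv_mem hg') _ hx
    have h2 : g⁻¹ * (g * x * g⁻¹) * g⁻¹⁻¹ = x := by group
    rwa [h2] at h1

theorem normal (h : JH K f F L) : ((JJ K f L).subgroupOf
    (centralizer ({(⟨zz K, h.zf⟩ : ↥(centralizer ({f} : Set G)))} : Set ↥(centralizer ({f} : Set G))))).Normal :=
  (normal_subgroupOf_iff_le_normalizer h.le).2 h.normalizes

/-- the map `J → L` -/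
noncomputable def psi (_h : JH K f F L) : ↥(JJ K f L) →* ↥L where
  toFun x := ⟨ThreeCore.qt K ((x : ↥(centralizer ({f} : Set G))) : G), x.2.2⟩
  map_one' := Subtype.ext (ThreeCore.qt_one K)
  map_mul' x y := Subtype.ext (ThreeCore.qt_mul x.2.1 y.2.1)

variable [Finite G]

/-- lifting of the elements of `C(f̄)` -/
theorem exists_lift (h : JH K f F L) {l : ThreeCore.HQ K} (hl : l * ThreeCore.qt K f = ThreeCore.qt K f * l) :
    ∃ x ∈ centralizer ({zz K} : Set G), x ∈ centralizer ({f} : Set G) ∧ ThreeCore.qt K x = l := by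
  have hk : ¬ 2 ∣ Nat.card (ThreeCore.pr K).ker := by
    rw [ThreeCore.ker_pr]; exact not_two_dvd_oddCore _
  have h1 := centralizer_map (ThreeCore.pr_surjective K) hk
    (z := (⟨f, h.fc⟩ : ↥(centralizer ({zz K} : Set G)))) (Subtype.ext h.ff)
  have h2 : l ∈ centralizer ({ThreeCore.pr K ⟨f, h.fc⟩} : Set (ThreeCore.HQ K)) := by
    rw [mem_centralizer_singleton_iff, ← ThreeCore.qt_eq h.fc]
    exact hl
  rw [← h1] at h2
  obtain ⟨x, hx, rfl⟩ := h2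
  refine ⟨x, x.2, ?_, ThreeCore.qt_eq x.2⟩
  have h3 := mem_centralizer_singleton_iff.1 hx
  exact mem_centralizer_singleton_iff.2 (congrArg Subtype.val h3)

theorem psi_surjective (h : JH K f F L) : Function.Surjective h.psi := by
  rintro ⟨l, hl⟩
  obtain ⟨x, hx1, hx2, rfl⟩ := h.exists_lift (h.comm l hl)
  exact ⟨⟨⟨x, hx2⟩, hx1, hl⟩, rfl⟩

theorem ker_psi (h : JH K f F L) : ¬ 2 ∣ Nat.card h.psi.ker := by
  intro h2
  apply odd_XX (zz K)
  refine h2.trans ?_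
  rw [← card_map_of_injective (f := (JJ K f L).subtype) (Subgroup.subtype_injective _),
    ← card_map_of_injective (f := (centralizer ({f} : Set G)).subtype) (Subgroup.subtype_injective _)]
  refine card_dvd_of_le ?_
  rintro _ ⟨_, ⟨x, hx, rfl⟩, rfl⟩
  have h3 : ThreeCore.qt K ((x : ↥(centralizer ({f} : Set G))) : G) = 1 :=
    congrArg Subtype.val (MonoidHom.mem_ker.1 hx)
  exact (ThreeCore.qt_eq_one x.2.1).1 h3

variable [Fintype F]

theorem oddCore_L (h : JH K f F L) (hF : Odd (Fintype.card F)) : oddCore ↥L = ⊥ := by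
  obtain ⟨e⟩ := h.eL
  have h1 := ParabSL2.OO_eq_bot hF e
  rwa [OO, Subgroup.map_eq_bot_iff, ker_subtype, le_bot_iff] at h1

theorem isType (h : JH K f F L) (hF : Odd (Fintype.card F)) : IsType (JJ K f L) := by
  obtain ⟨e⟩ := h.eL
  have e1 := quotEquiv h.psi h.psi_surjective h.ker_psi
  have e2 : (↥L ⧸ oddCore ↥L) ≃* ↥L :=
    (QuotientGroup.quotientMulEquivOfEq (h.oddCore_L hF)).trans QuotientGroup.quotientBot
  exact Or.inl ⟨F, inferInstance, inferInstance, hF, ⟨(e1.trans e2).trans e.symm⟩⟩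

/-- `O(J)` maps to `1` -/
theorem qt_OO (h : JH K f F L) (hF : Odd (Fintype.card F)) {x : ↥(centralizer ({f} : Set G))}
    (hx : x ∈ OO (JJ K f L)) : ThreeCore.qt K (x : G) = 1 := by
  have hxJ := OO_le _ hx
  have h1 := (mem_OO_iff hxJ).1 hx
  have h2 := comap_oddCore h.psi h.psi_surjective h.ker_psi
  rw [← h2, mem_comap, h.oddCore_L hF, mem_bot] at h1
  exact congrArg Subtype.val h1

/-! ### The member and the family -/

/-- the image of `cls M` in `C(f) / O(C(f))` -/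
def FF (f : G) (M : Subgroup ↥(centralizer ({f} : Set G))) : Set (Subgroup (UseT.HQ (centralizer ({f} : Set G)))) :=
  img (UseT.qm (centralizer {f})) (cls M)

/-- existence of the member -/
theorem exists_M (h : JH K f F L) (hF : Odd (Fintype.card F)) (hind : TLt.{u} (Nat.card G))
    (hlt : Nat.card ↥(centralizer ({f} : Set G)) < Nat.card G) :
    ∃ M, Mb (⟨zz K, h.zf⟩ : ↥(centralizer ({f} : Set G))) (JJ K f L) M ∧ HasPieces (FF f M) := by
  obtain ⟨M, hM⟩ := exists_mb h.ord' h.le h.z_mem h.normal (h.isType hF)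
  exact ⟨M, hM, hind _ hlt (cls M) hM.hyp (ty_cls' hM.ty) (uni_cls M)⟩

variable {M : Subgroup ↥(centralizer ({f} : Set G))}

theorem hyp_FF (h : JH K f F L) (m : Mb (⟨zz K, h.zf⟩ : ↥(centralizer ({f} : Set G))) (JJ K f L) M) :
    Hyp (FF f M) :=
  m.hyp.img (UseT.qm_surjective _) (UseT.not_dvd_ker _)

theorem ty_FF (h : JH K f F L) (m : Mb (⟨zz K, h.zf⟩ : ↥(centralizer ({f} : Set G))) (JJ K f L) M) :
    ∀ N ∈ FF f M, Ty N :=
  Ty.img (ty_cls' m.ty) _ (UseT.not_dvd_ker _)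

omit [Finite G] [Fintype F] in
theorem mem_FF : M.map (UseT.qm (centralizer {f})) ∈ FF f M := ⟨M, self_mem_cls M, rfl⟩

omit [Finite G] [Fintype F] in
theorem cls_FF {N : Subgroup (UseT.HQ (centralizer ({f} : Set G)))} (hN : N ∈ FF f M) :
    ∃ g, cj g (M.map (UseT.qm (centralizer {f}))) = N := by
  obtain ⟨_, ⟨x, rfl⟩, rfl⟩ := hN
  exact ⟨_, (cj_map _ x M).symm⟩

theorem zz_FF (h : JH K f F L) (m : Mb (⟨zz K, h.zf⟩ : ↥(centralizer ({f} : Set G))) (JJ K f L) M) :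
    zz (M.map (UseT.qm (centralizer {f}))) = qh f (zz K) := by
  rw [qh_eq h.zf, zz_map' m.hyp (UseT.not_dvd_ker _) (self_mem_cls M), m.zz]

theorem nor_FF (h : JH K f F L) (m : Mb (⟨zz K, h.zf⟩ : ↥(centralizer ({f} : Set G))) (JJ K f L) M)
    {N : Subgroup (UseT.HQ (centralizer ({f} : Set G)))} (hN : N ∈ FF f M) :
    centralizer {zz N} ≤ normalizer (N : Set (UseT.HQ (centralizer ({f} : Set G)))) := by
  have key : centralizer {zz (M.map (UseT.qm (centralizer {f})))} ≤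
      normalizer (M.map (UseT.qm (centralizer {f})) : Set (UseT.HQ (centralizer ({f} : Set G)))) := by
    intro y hy
    rw [zz_map' m.hyp (UseT.not_dvd_ker _) (self_mem_cls M)] at hy
    have h1 := centralizer_map (f := UseT.qm (centralizer {f})) (UseT.qm_surjective _) (UseT.not_dvd_ker _)
      (m.hyp.zz_mul (self_mem_cls M))
    rw [← h1] at hy
    obtain ⟨x, hx, rfl⟩ := hy
    rw [mem_normalizer_iff_cj, ← cj_map]
    congr 1
    rw [← mem_normalizer_iff_cj]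
    apply m.nor
    rw [← m.zz]
    exact hx
  obtain ⟨g, rfl⟩ := cls_FF hN
  intro y hy
  rw [(h.hyp_FF m).zz_cj mem_FF, ← cj_centralizer, mem_cj] at hy
  have h2 := key hy
  rw [mem_normalizer_iff_cj] at h2 ⊢
  have h3 := congrArg (cj g) h2
  rw [← cj_mul, show g * (g⁻¹ * y * g) = y * g by group, cj_mul] at h3
  exact h3

/-- 2-elements of `J` are in `M` -/
theorem mem_M (h : JH K f F L) (m : Mb (⟨zz K, h.zf⟩ : ↥(centralizer ({f} : Set G))) (JJ K f L) M)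
    {x : ↥(centralizer ({f} : Set G))} (hx : x ∈ JJ K f L) {n : ℕ} (hn : x ^ 2 ^ n = 1) : x ∈ M := by
  have hMn : JJ K f L ≤ normalizer ((M ⊓ JJ K f L : Subgroup _) : Set ↥(centralizer ({f} : Set G))) := by
    intro y hy
    rw [mem_normalizer_iff_cj, cj_inf, mem_normalizer_iff_cj.1 (m.nor (h.le hy)),
      mem_normalizer_iff_cj.1 (le_normalizer hy)]
  haveI : ((M ⊓ JJ K f L).subgroupOf (JJ K f L)).Normal := (normal_subgroupOf_iff_le_normalizer inf_le_right).2 hMn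
  have hsup : OO (JJ K f L) ⊔ (M ⊓ JJ K f L) = JJ K f L := by
    apply le_antisymm (sup_le (OO_le _) inf_le_right)
    intro y hy
    obtain ⟨a, ha, haJ, hao⟩ := m.cov y hy
    have h1 : y = a * (a⁻¹ * y) := by group
    rw [h1]
    exact mul_mem (mem_sup_right ⟨ha, haJ⟩) (mem_sup_left hao)
  have hidx : ¬ 2 ∣ (M ⊓ JJ K f L).relIndex (JJ K f L) := by
    intro h4
    have h5 := AutAct.relIndex_sup_dvd_card (A := M ⊓ JJ K f L) (N := OO (JJ K f L))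
      (inf_le_right.trans (le_normalizer_OO _))
    rw [hsup] at h5
    exact odd_OO _ (h4.trans h5)
  have h5 : (⟨x, hx⟩ : JJ K f L) ∈ (M ⊓ JJ K f L).subgroupOf (JJ K f L) := by
    refine Ty.mem_of_odd_index (k := n) ?_ ?_
    · rw [← Nat.not_even_iff_odd, even_iff_two_dvd]; exact hidx
    · exact Subtype.ext (by simpa using hn)
  exact h5.1

/-- lifting of the elements of `L` to `M` -/
theorem lift_M (h : JH K f F L) (hF : Odd (Fintype.card F))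
    (m : Mb (⟨zz K, h.zf⟩ : ↥(centralizer ({f} : Set G))) (JJ K f L) M) {l : ThreeCore.HQ K} (hl : l ∈ L) :
    ∃ x ∈ centralizer ({zz K} : Set G), x ∈ centralizer ({f} : Set G) ∧ ThreeCore.qt K x = l ∧
      qh f x ∈ M.map (UseT.qm (centralizer {f})) := by
  obtain ⟨x, hx1, hx2, hxl⟩ := h.exists_lift (h.comm l hl)
  obtain ⟨a, ha, haJ, hao⟩ := m.cov ⟨x, hx2⟩ ⟨hx1, by rw [hxl]; exact hl⟩
  refine ⟨a, haJ.1, a.2, ?_, ?_⟩
  · have h1 := h.qt_OO hF hao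
    have h2 : ((a⁻¹ * ⟨x, hx2⟩ : ↥(centralizer ({f} : Set G))) : G) = (a : G)⁻¹ * x := rfl
    rw [h2, ThreeCore.qt_mul (inv_mem haJ.1) hx1, qt_inv haJ.1, inv_mul_eq_one] at h1
    rw [h1, hxl]
  · rw [qh_eq a.2]
    exact ⟨a, ha, rfl⟩

/-- the elements of the image of `M` are images of elements of `J` -/
theorem sub_M (_h : JH K f F L) (m : Mb (⟨zz K, _h.zf⟩ : ↥(centralizer ({f} : Set G))) (JJ K f L) M)
    (hp : HasPieces (FF f M)) {y : UseT.HQ (centralizer ({f} : Set G))}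
    (hy : y ∈ M.map (UseT.qm (centralizer {f}))) :
    ∃ x ∈ centralizer ({zz K} : Set G), x ∈ centralizer ({f} : Set G) ∧ qh f x = y ∧ ThreeCore.qt K x ∈ L := by
  obtain ⟨x, hx, rfl⟩ := hy
  obtain ⟨j, hj, -, hjx⟩ := m.sub x hx
  refine ⟨j, hj.1, j.2, ?_, hj.2⟩
  have h1 : UseT.qm (centralizer {f}) (j⁻¹ * x) ∈ OO (M.map (UseT.qm (centralizer {f}))) := map_OO_le _ _ ⟨_, hjx, rfl⟩
  rw [hp.core _ mem_FF, mem_bot, map_mul, map_inv, inv_mul_eq_one] at h1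
  rw [qh_eq j.2]
  exact h1

/-- **(J)** -/
theorem comm_mem (h : JH K f F L) (m : Mb (⟨zz K, h.zf⟩ : ↥(centralizer ({f} : Set G))) (JJ K f L) M)
    (hp : HasPieces (FF f M)) {x u : G} (hx1 : x ∈ centralizer ({zz K} : Set G)) (hx2 : x ∈ centralizer ({f} : Set G))
    (hxL : ThreeCore.qt K x ∈ L) {n : ℕ} (hn : x ^ 2 ^ n = 1)
    (hu : u ∈ OO (centralizer ({zz K} : Set G) ⊓ centralizer {f})) : u * x * u⁻¹ * x⁻¹ ∈ XX f := by
  have hxM : (⟨x, hx2⟩ : ↥(centralizer ({f} : Set G))) ∈ M := h.mem_M m (n := n) ⟨hx1, hxL⟩ (Subtype.ext (by simpa using hn))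
  have hu' := OO_le _ hu
  set U := OO (centralizer ({zz K} : Set G) ⊓ centralizer {f}) with hU
  set N : Subgroup ↥(centralizer ({f} : Set G)) := U.subgroupOf (centralizer {f}) ⊓ M with hN
  have hM1 : ∀ y ∈ M, (y : G) ∈ centralizer ({zz K} : Set G) := by
    intro y hy
    have h1 := m.hyp.le_centralizer (self_mem_cls M) hy
    rw [m.zz] at h1
    exact h.mem_cent_iff.1 h1
  have hNM : N ≤ OO M := by
    refine le_OO inf_le_right ?_ ?_
    · intro y hy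
      rw [mem_normalizer_iff_cj, hN, cj_inf, mem_normalizer_iff_cj.1 (le_normalizer hy)]
      congr 1
      have h1 : (y : G) ∈ normalizer (U : Set G) := le_normalizer_OO _ ⟨hM1 y hy, y.2⟩
      rw [← UseT.cj_subgroupOf, mem_normalizer_iff_cj.1 h1]
    · intro h2
      apply odd_OO (centralizer ({zz K} : Set G) ⊓ centralizer {f})
      refine h2.trans ?_
      rw [← card_map_of_injective (f := (centralizer ({f} : Set G)).subtype) (Subgroup.subtype_injective _)]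
      refine card_dvd_of_le ?_
      rintro _ ⟨y, hy, rfl⟩
      exact hy.1
  have hc : (⟨u, hu'.2⟩ * ⟨x, hx2⟩ * (⟨u, hu'.2⟩ : ↥(centralizer ({f} : Set G)))⁻¹ *
      (⟨x, hx2⟩ : ↥(centralizer ({f} : Set G)))⁻¹) ∈ N := by
    refine ⟨?_, ?_⟩
    · change u * x * u⁻¹ * x⁻¹ ∈ U
      have h1 : u * x * u⁻¹ * x⁻¹ = u * (x * u⁻¹ * x⁻¹) := by group
      rw [h1]
      have h2 : x ∈ normalizer (U : Set G) := le_normalizer_OO _ ⟨hx1, hx2⟩
      exact U.mul_mem hu ((mem_normalizer_iff.1 h2 _).1 (U.inv_mem hu))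
    · have h1 : (⟨u, hu'.2⟩ : ↥(centralizer ({f} : Set G))) ∈ normalizer (M : Set ↥(centralizer ({f} : Set G))) :=
        m.nor (h.mem_cent_iff.2 hu'.1)
      exact M.mul_mem ((mem_normalizer_iff.1 h1 _).1 hxM) (M.inv_mem hxM)
  have h3 : UseT.qm (centralizer {f}) (⟨u, hu'.2⟩ * ⟨x, hx2⟩ * (⟨u, hu'.2⟩ : ↥(centralizer ({f} : Set G)))⁻¹ *
      (⟨x, hx2⟩ : ↥(centralizer ({f} : Set G)))⁻¹) ∈ OO (M.map (UseT.qm (centralizer {f}))) :=
    map_OO_le _ _ ⟨_, hNM hc, rfl⟩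
  rw [hp.core _ mem_FF, mem_bot] at h3
  exact (mem_ker_iff _).1 h3

end JH

end

/-! ### The configuration -/

/-- the family in `C(f) / O(C(f))`, `f = v₁ v₂ v₃` -/
structure Fam (Om : Set (Subgroup G)) (p : ℕ) (K1 K2 K3 : Subgroup G) (v1 v2 v3 : G)
    (Fm : Set (Subgroup (UseT.HQ (centralizer ({v1 * (v2 * v3)} : Set G)))))
    (M1 : Subgroup (UseT.HQ (centralizer ({v1 * (v2 * v3)} : Set G)))) : Prop where
  hyp : Hyp Fm
  ty : ∀ M ∈ Fm, Ty M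
  pieces : HasPieces Fm
  mem : M1 ∈ Fm
  cls : ∀ M ∈ Fm, ∃ x ∈ centralizer ({v1 * (v2 * v3)} : Set G), cj (qh (v1 * (v2 * v3)) x) M1 = M
  z1 : zz M1 = qh (v1 * (v2 * v3)) (zz K1)
  nor : ∀ M ∈ Fm, centralizer {zz M} ≤ normalizer (M : Set (UseT.HQ (centralizer ({v1 * (v2 * v3)} : Set G))))
  /-- 2-elements of `J₁` -/
  two : ∀ x ∈ centralizer ({zz K1} : Set G), x ∈ centralizer ({v1 * (v2 * v3)} : Set G) →
    ThreeCore.qt K1 x ∈ jL p (CoreThree.PP Om K1 K2) (ThreeCore.qt K1 v2 * ThreeCore.qt K1 v3) →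
    ∀ n : ℕ, x ^ 2 ^ n = 1 → qh (v1 * (v2 * v3)) x ∈ M1
  h1 : qh (v1 * (v2 * v3)) (v2 * v3⁻¹) ∈ M1
  lift : ∀ l ∈ jL p (CoreThree.PP Om K1 K2) (ThreeCore.qt K1 v2 * ThreeCore.qt K1 v3),
    ∃ m ∈ centralizer ({zz K1} : Set G), m ∈ centralizer ({v1 * (v2 * v3)} : Set G) ∧ ThreeCore.qt K1 m = l ∧
      qh (v1 * (v2 * v3)) m ∈ M1
  sub1 : ∀ y ∈ M1, ∃ m ∈ centralizer ({zz K1} : Set G), m ∈ centralizer ({v1 * (v2 * v3)} : Set G) ∧
    qh (v1 * (v2 * v3)) m = y ∧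
    ThreeCore.qt K1 m ∈ jL p (CoreThree.PP Om K1 K2) (ThreeCore.qt K1 v2 * ThreeCore.qt K1 v3)
  swap : ∃ x ∈ centralizer ({zz K1} : Set G), x ∈ centralizer ({v1 * (v2 * v3)} : Set G) ∧ x * zz K2 * x⁻¹ = zz K3
  /-- (J) -/
  core : ∀ u ∈ OO (centralizer ({zz K1} : Set G) ⊓ centralizer {v1 * (v2 * v3)}),
    u * (v2 * v3⁻¹) * u⁻¹ * (v2 * v3⁻¹)⁻¹ ∈ XX (v1 * (v2 * v3))
  ex2 : ∃ M ∈ Fm, zz M = qh (v1 * (v2 * v3)) (zz K2)
  ex3 : ∃ M ∈ Fm, zz M = qh (v1 * (v2 * v3)) (zz K3)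

namespace All

variable {Om : Set (Subgroup G)} {S : Sylow 2 G} {K1 K2 K3 : Subgroup G}
  {p : ℕ} {F : Type} [Field F] {v1 v2 v3 : G} [Finite G]

omit [Finite G] in
theorem odd_card [Fintype F] (g : All Om p F) : Odd (Fintype.card F) := by
  haveI := g.char
  obtain ⟨n, hp, hn⟩ := FiniteField.card F p
  rw [hn]
  exact (hp.odd_of_ne_two g.odd).pow

/-- `v₁`, `v₂`, `v₃`, `f`, `z_i` centralise `z₁` -/
theorem cent_v (g : All Om p F) (d : VD Om (S : Subgroup G) K1 K2 K3 v1 v2 v3) :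
    v1 ∈ centralizer ({zz K1} : Set G) ∧ v2 ∈ centralizer ({zz K1} : Set G) ∧
      v3 ∈ centralizer ({zz K1} : Set G) := by
  have hS := S.isPGroup'
  have key : ∀ x ∈ DD Om (S : Subgroup G), x ∈ centralizer ({zz K1} : Set G) := fun x hx =>
    mem_centralizer_singleton_iff.2
      (mem_centralizer_iff.1 (DD_le_centralizer_ES g.tri.hyp hS hx) _ (zz_mem_ES d.m1)).symm
  exact ⟨key _ d.mem_DD, key _ d.rot.mem_DD, key _ d.rot.rot.mem_DD⟩

/-- facts on the images of `v_i` -/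
theorem vbar (g : All Om p F) (d : VD Om (S : Subgroup G) K1 K2 K3 v1 v2 v3) :
    ThreeCore.qt K1 v1 ∈ UseT.tr (centralizer {zz K1}) K1 ∧ ThreeCore.qt K1 v2 ∈ UseT.tr (centralizer {zz K1}) K2 ∧
      ThreeCore.qt K1 v3 ∈ UseT.tr (centralizer {zz K1}) K3 ∧
      ThreeCore.qt K1 v2 * ThreeCore.qt K1 v2 = zz (UseT.tr (centralizer {zz K1}) K2) ∧
      ThreeCore.qt K1 v3 * ThreeCore.qt K1 v3 = zz (UseT.tr (centralizer {zz K1}) K3) := by
  obtain ⟨h1, h2, h3⟩ := g.cent_v d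
  have loc := g.vloc d
  refine ⟨loc.syl K1 d.m1 v1 ⟨d.k1, d.s1⟩, loc.syl K2 d.m2 v2 ⟨d.k2, d.s2⟩, loc.syl K3 d.m3 v3 ⟨d.k3, d.s3⟩, ?_, ?_⟩
  · rw [loc.zt K2 d.m2, ← d.q2, ThreeCore.qt_mul h2 h2]
  · rw [loc.zt K3 d.m3, ← d.q3, ThreeCore.qt_mul h3 h3]

theorem fbar (g : All Om p F) (d : VD Om (S : Subgroup G) K1 K2 K3 v1 v2 v3) :
    ThreeCore.qt K1 (v1 * (v2 * v3)) = ThreeCore.qt K1 v1 * (ThreeCore.qt K1 v2 * ThreeCore.qt K1 v3) := by
  obtain ⟨h1, h2, h3⟩ := g.cent_v d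
  rw [ThreeCore.qt_mul h1 (mul_mem h2 h3), ThreeCore.qt_mul h2 h3]

/-- `L₁` in terms of `f` -/
theorem jL_eq (g : All Om p F) (d : VD Om (S : Subgroup G) K1 K2 K3 v1 v2 v3) :
    jL p (CoreThree.PP Om K1 K2) (ThreeCore.qt K1 (v1 * (v2 * v3))) =
      jL p (CoreThree.PP Om K1 K2) (ThreeCore.qt K1 v2 * ThreeCore.qt K1 v3) := by
  have loc := g.vloc d
  obtain ⟨m1, m2, m3, -, -⟩ := g.vbar d
  rw [g.fbar d, jL, jL]
  congr 1
  ext x
  constructor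
  · rintro ⟨hx, hxp, hc⟩
    refine ⟨hx, hxp, ?_⟩
    have h1 := loc.comm1 _ m1 x hx
    apply mul_left_cancel (a := ThreeCore.qt K1 v1)
    calc ThreeCore.qt K1 v1 * (x * (ThreeCore.qt K1 v2 * ThreeCore.qt K1 v3))
        = (ThreeCore.qt K1 v1 * x) * (ThreeCore.qt K1 v2 * ThreeCore.qt K1 v3) := by group
      _ = x * (ThreeCore.qt K1 v1 * (ThreeCore.qt K1 v2 * ThreeCore.qt K1 v3)) := by rw [h1, mul_assoc]
      _ = ThreeCore.qt K1 v1 * (ThreeCore.qt K1 v2 * ThreeCore.qt K1 v3 * x) := by rw [hc]; group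
  · rintro ⟨hx, hxp, hc⟩
    refine ⟨hx, hxp, ?_⟩
    have h1 := loc.comm1 _ m1 x hx
    calc x * (ThreeCore.qt K1 v1 * (ThreeCore.qt K1 v2 * ThreeCore.qt K1 v3))
        = (x * ThreeCore.qt K1 v1) * (ThreeCore.qt K1 v2 * ThreeCore.qt K1 v3) := by group
      _ = ThreeCore.qt K1 v1 * (x * (ThreeCore.qt K1 v2 * ThreeCore.qt K1 v3)) := by rw [← h1, mul_assoc]
      _ = ThreeCore.qt K1 v1 * (ThreeCore.qt K1 v2 * ThreeCore.qt K1 v3) * x := by rw [hc]; group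

theorem jh (g : All Om p F) (d : VD Om (S : Subgroup G) K1 K2 K3 v1 v2 v3) :
    JH K1 (v1 * (v2 * v3)) F (jL p (CoreThree.PP Om K1 K2) (ThreeCore.qt K1 v2 * ThreeCore.qt K1 v3)) := by
  have loc := g.vloc d
  obtain ⟨c1, c2, c3⟩ := g.cent_v d
  obtain ⟨m1, m2, m3, e2, e3⟩ := g.vbar d
  refine ⟨mul_mem c1 (mul_mem c2 c3), d.ff g.tri, g.tri.hyp.orderOf_zz d.m1.1, ?_, ?_, ?_, ?_⟩
  · intro l hl
    rw [← g.jL_eq d] at hl
    exact jL_comm hl
  · intro x hx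
    rw [← g.jL_eq d]
    refine cj_jL ?_ (Or.inl ?_)
    · haveI := loc.nor
      rw [normalizer_eq_top]
      exact mem_top x
    · rw [hx, mul_inv_cancel_right]
  · have h1 := loc.facts.zmem _ m2 _ m3 e2 e3
    rw [loc.zt K2 d.m2, loc.zt K3 d.m3] at h1
    have z2 := g.mem_cent d d.z2_mem d.z1_mem
    have z3 := g.mem_cent d d.z3_mem d.z1_mem
    rwa [← ThreeCore.qt_mul z2 z3, d.mul23 g.tri] at h1
  · exact loc.facts.iso _ m2 _ m3 e2 e3

/-- `h = v₂ v₃⁻¹` -/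
theorem h_mem (g : All Om p F) (d : VD Om (S : Subgroup G) K1 K2 K3 v1 v2 v3) :
    ThreeCore.qt K1 (v2 * v3⁻¹) ∈ jL p (CoreThree.PP Om K1 K2) (ThreeCore.qt K1 v2 * ThreeCore.qt K1 v3) := by
  have loc := g.vloc d
  obtain ⟨c1, c2, c3⟩ := g.cent_v d
  obtain ⟨m1, m2, m3, e2, e3⟩ := g.vbar d
  have h1 := loc.facts.hmem _ m2 _ m3 e2 e3
  rwa [ThreeCore.qt_mul c2 (inv_mem c3), qt_inv c3]

theorem v_cent (g : All Om p F) (d : VD Om (S : Subgroup G) K1 K2 K3 v1 v2 v3) :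
    v1 ∈ centralizer ({v1 * (v2 * v3)} : Set G) ∧ v2 ∈ centralizer ({v1 * (v2 * v3)} : Set G) ∧
      v3 ∈ centralizer ({v1 * (v2 * v3)} : Set G) := by
  have hS := S.isPGroup'
  have a12 : Commute v1 v2 := d.comm12 g.tri.hyp hS
  have a13 : Commute v1 v3 := d.comm13 g.tri.hyp hS
  have a23 : Commute v2 v3 := d.comm23 g.tri.hyp hS
  refine ⟨?_, ?_, ?_⟩
  · exact mem_centralizer_singleton_iff.2 ((Commute.refl v1).mul_right (a12.mul_right a13)).eq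
  · exact mem_centralizer_singleton_iff.2 (a12.symm.mul_right ((Commute.refl v2).mul_right a23)).eq
  · exact mem_centralizer_singleton_iff.2 (a13.symm.mul_right (a23.symm.mul_right (Commute.refl v3))).eq

theorem h_cent (g : All Om p F) (d : VD Om (S : Subgroup G) K1 K2 K3 v1 v2 v3) :
    v2 * v3⁻¹ ∈ centralizer ({v1 * (v2 * v3)} : Set G) := by
  obtain ⟨-, h2, h3⟩ := g.v_cent d
  exact mul_mem h2 (inv_mem h3)

/-- `h² = z₁` -/
theorem h_sq (g : All Om p F) (d : VD Om (S : Subgroup G) K1 K2 K3 v1 v2 v3) :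
    (v2 * v3⁻¹) * (v2 * v3⁻¹) = zz K1 := by
  have hS := S.isPGroup'
  have a2 := d.comm23 g.tri.hyp hS
  have a3 : v3⁻¹ * v2 = v2 * v3⁻¹ := by
    calc v3⁻¹ * v2 = v3⁻¹ * (v2 * v3) * v3⁻¹ := by group
      _ = v2 * v3⁻¹ := by rw [a2]; group
  calc (v2 * v3⁻¹) * (v2 * v3⁻¹) = v2 * (v3⁻¹ * v2) * v3⁻¹ := by group
    _ = (v2 * v2) * (v3 * v3)⁻¹ := by rw [a3]; group
    _ = zz K1 := by rw [d.q2, d.q3, g.tri.hyp.zz_inv d.m3.1, d.mul23 g.tri]

theorem h_four (g : All Om p F) (d : VD Om (S : Subgroup G) K1 K2 K3 v1 v2 v3) : (v2 * v3⁻¹) ^ 2 ^ 2 = 1 := by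
  have h1 : (v2 * v3⁻¹) ^ 2 ^ 2 = ((v2 * v3⁻¹) * (v2 * v3⁻¹)) * ((v2 * v3⁻¹) * (v2 * v3⁻¹)) := by
    rw [show 2 ^ 2 = 1 + 1 + 1 + 1 by norm_num]
    simp only [pow_add, pow_one]
    group
  rw [h1, g.h_sq d, g.tri.hyp.zz_mul d.m1.1]

/-- an element of `C(f) ∩ C(z₁)` with `z₂ ↦ z₃` -/
theorem exists_swap [Fintype F] (g : All Om p F) (d : VD Om (S : Subgroup G) K1 K2 K3 v1 v2 v3)
    (hind : TLt.{u} (Nat.card G)) (hlt : Nat.card ↥(centralizer ({v1 * (v2 * v3)} : Set G)) < Nat.card G) :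
    ∃ x ∈ centralizer ({zz K1} : Set G), x ∈ centralizer ({v1 * (v2 * v3)} : Set G) ∧ x * zz K2 * x⁻¹ = zz K3 := by
  have hS := S.isPGroup'
  have loc := g.vloc d
  have h := g.jh d
  obtain ⟨M, m, -⟩ := h.exists_M g.odd_card hind hlt
  obtain ⟨c1, c2, c3⟩ := g.cent_v d
  obtain ⟨b1, b2, b3⟩ := g.v_cent d
  obtain ⟨m1, m2, m3, e2, e3⟩ := g.vbar d
  have hhc := g.h_cent d
  -- `h ∈ M`
  have hJ : (⟨v2 * v3⁻¹, hhc⟩ : ↥(centralizer ({v1 * (v2 * v3)} : Set G))) ∈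
      JJ K1 (v1 * (v2 * v3)) (jL p (CoreThree.PP Om K1 K2) (ThreeCore.qt K1 v2 * ThreeCore.qt K1 v3)) :=
    ⟨mul_mem c2 (inv_mem c3), g.h_mem d⟩
  have hM := h.mem_M m hJ (n := 2) (Subtype.ext (by simpa using g.h_four d))
  -- a Sylow 2-subgroup of `M` containing `h`
  set h' : ↥(centralizer ({v1 * (v2 * v3)} : Set G)) := ⟨v2 * v3⁻¹, hhc⟩ with hh'
  have hh2 : h' * h' = ⟨zz K1, h.zf⟩ := Subtype.ext (g.h_sq d)
  have h4 : orderOf h' = 4 := by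
    refine GQ.orderOf_of_sq hh2 ?_ ?_
    · exact Subtype.ext (g.tri.hyp.zz_mul d.m1.1)
    · intro h0
      exact g.tri.hyp.zz_ne d.m1.1 (congrArg Subtype.val h0)
  have hp2 : IsPGroup 2 (zpowers h') := by
    rintro ⟨_, i, rfl⟩
    refine ⟨2, Subtype.ext ?_⟩
    change (h' ^ i) ^ 2 ^ 2 = 1
    rw [← zpow_natCast, ← zpow_mul, mul_comm, zpow_mul, zpow_natCast]
    have h5 : h' ^ 2 ^ 2 = 1 := by
      rw [show 2 ^ 2 = 4 by norm_num, ← h4, pow_orderOf_eq_one]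
    rw [h5, one_zpow]
  obtain ⟨Q, hQ, hhQ⟩ := LB.exists_syl_ge hp2 ((zpowers_le).2 hM)
  obtain ⟨c, v, n, hq⟩ := m.hyp.exists_gq (self_mem_cls M) hQ
  obtain ⟨t, htQ, ht4, hth⟩ := hq.exists_inverting (hhQ (mem_zpowers _)) h4
  have htJ := m.two t (hQ.1 htQ) 2 (by rw [show 2 ^ 2 = 4 by norm_num, ← ht4, pow_orderOf_eq_one])
  obtain ⟨ht1, htL⟩ := htJ
  have htf := t.2
  have hth' : (t : G) * (v2 * v3⁻¹) * (t : G)⁻¹ = (v2 * v3⁻¹)⁻¹ := congrArg Subtype.val hth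
  -- `t` commutes with `v₁` mod `O(C(z₁))`
  have htv : ThreeCore.qt K1 t * ThreeCore.qt K1 v1 = ThreeCore.qt K1 v1 * ThreeCore.qt K1 t :=
    (loc.comm1 _ m1 _ (jL_le htL)).symm
  have z2 := g.mem_cent d d.z2_mem d.z1_mem
  have z3 := g.mem_cent d d.z3_mem d.z1_mem
  have z2f := g.mem_cent d d.z2_mem self_mem_AA
  have z3f := g.mem_cent d d.z3_mem self_mem_AA
  have hfc := h.fc
  have e1 : (t : G) * zz K2 * (t : G)⁻¹ = (v2 * v3⁻¹)⁻¹ * ((t : G) * v1⁻¹ * (t : G)⁻¹) * (v1 * (v2 * v3)) := by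
    have h6 : (t : G) * (v1 * (v2 * v3)) = v1 * (v2 * v3) * t := mem_centralizer_singleton_iff.1 htf
    calc (t : G) * zz K2 * (t : G)⁻¹ = (t : G) * ((v2 * v3⁻¹) * v1⁻¹ * (v1 * (v2 * v3))) * (t : G)⁻¹ := by
          rw [← d.z2_eq g.tri.hyp hS]
      _ = ((t : G) * (v2 * v3⁻¹) * (t : G)⁻¹) * ((t : G) * v1⁻¹ * (t : G)⁻¹) *
          (((t : G) * (v1 * (v2 * v3))) * (t : G)⁻¹) := by group
      _ = (v2 * v3⁻¹)⁻¹ * ((t : G) * v1⁻¹ * (t : G)⁻¹) * (v1 * (v2 * v3)) := by rw [hth', h6]; group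
  have e3 : zz K3 = (v2 * v3⁻¹)⁻¹ * v1⁻¹ * (v1 * (v2 * v3)) := by
    have a23 := d.comm23 g.tri.hyp hS
    rw [← d.q3]
    calc v3 * v3 = v3 * v2⁻¹ * (v2 * v3) := by group
      _ = (v2 * v3⁻¹)⁻¹ * v1⁻¹ * (v1 * (v2 * v3)) := by group
  have hq1 : ThreeCore.qt K1 ((t : G) * zz K2 * (t : G)⁻¹) = ThreeCore.qt K1 (zz K3) := by
    rw [e1, e3, ThreeCore.qt_mul (mul_mem (inv_mem (mul_mem c2 (inv_mem c3))) (mul_mem (mul_mem ht1 (inv_mem c1))
      (inv_mem ht1))) hfc, ThreeCore.qt_mul (inv_mem (mul_mem c2 (inv_mem c3))) (mul_mem (mul_mem ht1 (inv_mem c1))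
      (inv_mem ht1)), ThreeCore.qt_mul (mul_mem ht1 (inv_mem c1)) (inv_mem ht1), ThreeCore.qt_mul ht1 (inv_mem c1),
      ThreeCore.qt_mul (mul_mem (inv_mem (mul_mem c2 (inv_mem c3))) (inv_mem c1)) hfc,
      ThreeCore.qt_mul (inv_mem (mul_mem c2 (inv_mem c3))) (inv_mem c1), qt_inv c1, qt_inv ht1]
    congr 2
    have h7 : ThreeCore.qt K1 t * (ThreeCore.qt K1 v1)⁻¹ = (ThreeCore.qt K1 v1)⁻¹ * ThreeCore.qt K1 t := by
      have h8 : Commute (ThreeCore.qt K1 t) (ThreeCore.qt K1 v1) := htv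
      exact h8.inv_right.eq
    rw [h7, mul_inv_cancel_right]
  have hz2c : (t : G) * zz K2 * (t : G)⁻¹ ∈ centralizer ({zz K1} : Set G) := mul_mem (mul_mem ht1 z2) (inv_mem ht1)
  have hz2f : (t : G) * zz K2 * (t : G)⁻¹ ∈ centralizer ({v1 * (v2 * v3)} : Set G) :=
    mul_mem (mul_mem htf z2f) (inv_mem htf)
  have hzz : (t : G) * zz K2 * (t : G)⁻¹ * ((t : G) * zz K2 * (t : G)⁻¹) = 1 := by
    calc (t : G) * zz K2 * (t : G)⁻¹ * ((t : G) * zz K2 * (t : G)⁻¹) = (t : G) * (zz K2 * zz K2) * (t : G)⁻¹ := by group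
      _ = 1 := by rw [g.tri.hyp.zz_mul d.m2.1]; group
  have hX : ¬ 2 ∣ Nat.card (XX (zz K1) ⊓ centralizer ({v1 * (v2 * v3)} : Set G) : Subgroup G) := fun h0 =>
    odd_XX (zz K1) (h0.trans (card_dvd_of_le inf_le_left))
  obtain ⟨x, hx, hxz⟩ := exists_conj_of_mul_mem_odd hX hzz (g.tri.hyp.zz_mul d.m3.1) (by
    refine mem_inf.2 ⟨?_, mul_mem hz2f z3f⟩
    rw [← ThreeCore.qt_eq_one (mul_mem hz2c z3), ThreeCore.qt_mul hz2c z3, hq1, ← ThreeCore.qt_mul z3 z3,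
      g.tri.hyp.zz_mul d.m3.1, ThreeCore.qt_one])
  refine ⟨x * t, mul_mem (XX_le _ hx.1) ht1, mul_mem hx.2 htf, ?_⟩
  rw [← hxz]
  group

/-- **(F) THE FAMILY** -/
theorem exists_fam [Fintype F] (g : All Om p F) (d : VD Om (S : Subgroup G) K1 K2 K3 v1 v2 v3)
    (hind : TLt.{u} (Nat.card G)) (hlt : Nat.card ↥(centralizer ({v1 * (v2 * v3)} : Set G)) < Nat.card G) :
    ∃ Fm M1, Fam Om p K1 K2 K3 v1 v2 v3 Fm M1 := by
  have hS := S.isPGroup'
  have h := g.jh d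
  have hF : Odd (Fintype.card F) := g.odd_card
  obtain ⟨M, m, hpc⟩ := h.exists_M hF hind hlt
  obtain ⟨c1, c2, c3⟩ := g.cent_v d
  have hhc := g.h_cent d
  have hh1 : v2 * v3⁻¹ ∈ centralizer ({zz K1} : Set G) := mul_mem c2 (inv_mem c3)
  have two : ∀ x ∈ centralizer ({zz K1} : Set G), x ∈ centralizer ({v1 * (v2 * v3)} : Set G) →
      ThreeCore.qt K1 x ∈ jL p (CoreThree.PP Om K1 K2) (ThreeCore.qt K1 v2 * ThreeCore.qt K1 v3) →
      ∀ n : ℕ, x ^ 2 ^ n = 1 → qh (v1 * (v2 * v3)) x ∈ M.map (UseT.qm (centralizer {v1 * (v2 * v3)})) := by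
    intro x hx hxf hxL n hn
    rw [qh_eq hxf]
    exact ⟨_, h.mem_M m (x := ⟨x, hxf⟩) ⟨hx, hxL⟩ (n := n) (Subtype.ext (by simpa using hn)), rfl⟩
  -- members over `z₂`, `z₃`
  have key : ∀ z : G, (∃ x ∈ centralizer ({v1 * (v2 * v3)} : Set G), x * zz K1 * x⁻¹ = z) →
      ∃ N ∈ JH.FF (v1 * (v2 * v3)) M, zz N = qh (v1 * (v2 * v3)) z := by
    rintro _ ⟨x, hx, rfl⟩
    refine ⟨cj (qh (v1 * (v2 * v3)) x) (M.map (UseT.qm (centralizer {v1 * (v2 * v3)}))),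
      (h.hyp_FF m).conj _ JH.mem_FF _, ?_⟩
    rw [(h.hyp_FF m).zz_cj JH.mem_FF, h.zz_FF m, qh_mul (mul_mem hx h.zf) (inv_mem hx), qh_mul hx h.zf, qh_inv hx]
  have k3 : ∃ x ∈ centralizer ({v1 * (v2 * v3)} : Set G), x * zz K1 * x⁻¹ = zz K2 := by
    have e : v3 * (v1 * v2) = v1 * (v2 * v3) := by
      rw [d.rot.f_rot g.tri.hyp hS, d.f_rot g.tri.hyp hS]
    obtain ⟨x, -, hx, hxz⟩ := g.exists_swap d.rot.rot hind (by rw [e]; exact hlt)
    exact ⟨x, by rwa [e] at hx, hxz⟩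
  obtain ⟨y, hy1, hy, hyz⟩ := g.exists_swap d hind hlt
  refine ⟨JH.FF (v1 * (v2 * v3)) M, M.map (UseT.qm (centralizer {v1 * (v2 * v3)})), h.hyp_FF m, h.ty_FF m, hpc,
    JH.mem_FF, ?_, h.zz_FF m, fun N hN => h.nor_FF m hN, two, ?_, fun l hl => h.lift_M hF m hl,
    fun y hy => h.sub_M m hpc hy, ⟨y, hy1, hy, hyz⟩, ?_, key _ k3, key _ ?_⟩
  · intro N hN
    obtain ⟨a, ha⟩ := JH.cls_FF hN
    obtain ⟨x, hx, rfl⟩ := exists_qh a
    exact ⟨x, hx, ha⟩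
  · exact two _ hh1 hhc (g.h_mem d) 2 (g.h_four d)
  · intro u hu
    exact h.comm_mem m hpc hh1 hhc (g.h_mem d) (g.h_four d) hu
  · obtain ⟨x, hx, hxz⟩ := k3
    refine ⟨y * x, mul_mem hy hx, ?_⟩
    rw [← hyz, ← hxz]
    group

/-! ### `MinS` -/

omit [Field F] in
theorem _root_.Cfsg.Agent.Cit.MinS.card_centralizer_lt (hm : MinS Om) {f : G} (hf : f ≠ 1) :
    Nat.card ↥(centralizer ({f} : Set G)) < Nat.card G := by
  have h1 := hm.centralizer_ne_top hf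
  refine lt_of_le_of_ne (card_le_card_group _) fun h2 => h1 ?_
  exact eq_top_of_card_eq _ h2

/-- **(F) THE FAMILY** -/
theorem exists_fam_of_minS (g : All Om p F) (hm : MinS Om) (d : VD Om (S : Subgroup G) K1 K2 K3 v1 v2 v3) :
    ∃ Fm M1, Fam Om p K1 K2 K3 v1 v2 v3 Fm M1 := by
  haveI := g.fin
  haveI := Fintype.ofFinite F
  exact g.exists_fam d hm.ind (hm.card_centralizer_lt (d.f_ne_one g.tri))

/-- an element of `C(f) ∩ C(z₁)` with `z₂ ↦ z₃` -/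
theorem exists_swap_of_minS (g : All Om p F) (hm : MinS Om) (d : VD Om (S : Subgroup G) K1 K2 K3 v1 v2 v3) :
    ∃ x ∈ centralizer ({zz K1} : Set G), x ∈ centralizer ({v1 * (v2 * v3)} : Set G) ∧ x * zz K2 * x⁻¹ = zz K3 := by
  haveI := g.fin
  haveI := Fintype.ofFinite F
  exact g.exists_swap d hm.ind (hm.card_centralizer_lt (d.f_ne_one g.tri))

/-! ### (N) -/

/-- **(N0)** -/
theorem nzero (g : All Om p F) : NZero Om := by
  haveI := g.fin
  haveI := Fintype.ofFinite F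
  refine Sp4.nzero g.tri (p := p) (F := F) g.odd_card ?_
  intro S K1 h1 K2 h2 K3 h3 n12 n13 n23
  have loc := g.loc S K1 h1 K2 h2 K3 h3 n12 n13 n23
  exact ⟨_, _, _, loc.nor, loc.facts, loc.zt K2 h2, loc.zt K3 h3⟩

/-- **(N)** -/
theorem adj_of_comm (g : All Om p F) {K J : Subgroup G} (hK : K ∈ Om) (hJ : J ∈ Om)
    (hc : zz J * zz K = zz K * zz J) : Adj Om K J :=
  g.nzero.adj g.tri hK hJ hc

end All

end Cfsg.Agent.Cit.Sp4
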