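import Cfsg.Agent.Cit.SpFam
import Cfsg.Agent.Cit.AutAct

/-!
# Cores for `|Om(S)| = 3`, `z₁ z₂ z₃ = 1`, type `Sp₄(q)`: conjugacy in `C(z₁) ∩ C(f)`

`All.exists_conj` : `J ∈ Om`, `J ≠ K₁`, `z_J` commutes with `z₁` and `f` ⇒ `z₂` and `z_J` are conjugate in
`C(z₁) ∩ C(f)`.
-/

set_option autoImplicit false
set_option linter.style.haveILetI false
set_option linter.unusedSectionVars false

namespace Cfsg.Agent.Cit.Sp4

open Subgroup Cfsg Cfsg.Agent.Cit Cfsg.Agent.Cit.CoresG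
open Cfsg.Agent.SignalizersComponents.Components

universe u

/-! ### Local part -/

section Local

variable {H : Type*} [Group H]

/-- a component containing a nonabelian subgroup `T` is unique -/
theorem comp_unique [Finite H] {D D' T : Subgroup H} (hD : IsComponent D) (hD' : IsComponent D') (hT : ZU T)
    (h1 : T ≤ D) (h2 : T ≤ D') {v : H} (hv : v ∈ T) (hvv : v * v = zz T) : D = D' := by
  by_contra hne
  have h3 := hT.cc v hv fun y hy => Comp.comm_of_ne hD hD' hne (h1 hy) (h2 hv)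
  exact hT.ne (hvv.symm.trans h3)

/-- `j ∈ D` with `j² = z_K z_L` commuting with `z_K` is a product of elements of order 4 of `K` and `L` -/
theorem SpFacts.exists_split {p : ℕ} {F : Type} [Field F] {D K L : Subgroup H} (h : SpFacts p F D K L)
    (hK : ZU K) (hL : ZU L) {j : H} (hj : j ∈ D) (hjj : j * j = zz K * zz L) (hc : j * zz K = zz K * j) :
    ∃ v ∈ K, ∃ w ∈ L, v * w = j ∧ v * v = zz K ∧ w * w = zz L := by
  obtain ⟨v, hv, w, hw, rfl⟩ := Comp.mem_sup_comm h.comm (h.cen j hj hc)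
  refine ⟨v, hv, w, hw, rfl, ?_⟩
  have hvw := h.comm v hv w hw
  have h1 : (v * v) * (w * w) = zz K * zz L := by
    rw [← hjj]
    calc v * v * (w * w) = v * (v * w) * w := by group
      _ = v * (w * v) * w := by rw [hvw]
      _ = v * w * (v * w) := by group
  have h2 : zz K * (v * v) = zz L * (w * w)⁻¹ := by
    have h3 : v * v = zz K * zz L * (w * w)⁻¹ := by rw [← h1]; group
    calc zz K * (v * v) = (zz K * zz K) * (zz L * (w * w)⁻¹) := by rw [h3]; group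
      _ = zz L * (w * w)⁻¹ := by rw [hK.sq, one_mul]
  have m1 : zz K * (v * v) ∈ K := K.mul_mem hK.mem (K.mul_mem hv hv)
  have m2 : zz K * (v * v) ∈ L := by rw [h2]; exact L.mul_mem hL.mem (L.inv_mem (L.mul_mem hw hw))
  have h4 := hK.cc _ m1 fun y hy => h.comm y hy _ m2
  have h5 : zz K * (v * v) = 1 := by
    rcases hK.uniq _ m1 h4 with e | e
    · exact e
    · rcases hL.uniq _ m2 h4 with e' | e'
      · exact e'
      · exact absurd (e.symm.trans e') h.ne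
  have h6 : v * v = zz K := by
    have h7 := mul_eq_one_iff_eq_inv'.1 h5
    rw [h7]
    exact inv_eq_of_mul_eq_one_right hK.sq
  refine ⟨h6, ?_⟩
  rw [h6] at h1
  exact mul_left_cancel h1

end Local

variable {G : Type u} [Group G] [Finite G]

namespace All

variable {Om : Set (Subgroup G)} {S S' : Sylow 2 G} {K1 K2 K3 J J' : Subgroup G}
  {p : ℕ} {F : Type} [Field F] {v1 v2 v3 : G}

/-- conjugates of traces -/
theorem tr_cj (g : All Om p F) {K M : Subgroup G} (hM : M ∈ SubCent.cov Om (centralizer {zz K})) {x : G}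
    (hx : x ∈ centralizer ({zz K} : Set G)) :
    UseT.tr (centralizer {zz K}) (cj x M) = cj (ThreeCore.qt K x) (UseT.tr (centralizer {zz K}) M) := by
  rw [qt_eq_qm hx]
  exact UseT.tr_cj g.ty ⟨x, hx⟩ hM

/-- the trace of `K₂` in `C(z₁) / O(C(z₁))` -/
theorem zu (g : All Om p F) (d : VD Om (S : Subgroup G) K1 K2 K3 v1 v2 v3) :
    ZU (UseT.tr (centralizer {zz K1}) K2) ∧ ZU (UseT.tr (centralizer {zz K1}) K3) := by
  haveI := g.fin
  haveI := Fintype.ofFinite F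
  have loc := g.vloc d
  exact ⟨zu_of_sl g.odd_card loc.facts.eK, zu_of_sl g.odd_card loc.facts.eL⟩

/-- `PP Om K₁ K₂ = PP Om K₁ K₃` -/
theorem PP_eq (g : All Om p F) (d : VD Om (S : Subgroup G) K1 K2 K3 v1 v2 v3) :
    CoreThree.PP Om K1 K2 = CoreThree.PP Om K1 K3 := by
  have loc := g.vloc d
  have loc' := g.vloc d.swap
  obtain ⟨m1, m2, m3, e2, e3⟩ := g.vbar d
  exact comp_unique loc.facts.comp loc'.facts.comp (g.zu d).2 loc.facts.right loc'.facts.left m3 e3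

/-- Frattini: two Sylow 2-subgroups with common member `K₁` -/
theorem frattini (g : All Om p F) (d : VD Om (S : Subgroup G) K1 K2 K3 v1 v2 v3)
    (h1 : K1 ∈ OmS Om (S' : Subgroup G)) :
    ∃ l ∈ centralizer ({zz K1} : Set G),
      ThreeCore.qt K1 l ∈ UseT.tr (centralizer {zz K1}) K1 ⊔ CoreThree.PP Om K1 K2 ∧
      cj l (DD Om (S : Subgroup G)) = DD Om (S' : Subgroup G) := by
  have hS := S.isPGroup'
  have loc := g.vloc d
  haveI := loc.nor
  haveI := loc.nor1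
  set H := centralizer ({zz K1} : Set G) with hH
  set L := UseT.pre H (UseT.tr H K1 ⊔ CoreThree.PP Om K1 K2) with hL
  have hn : H ≤ normalizer (L : Set G) := by
    intro x hx
    have h2 := UseT.mem_normalizer_pre (D := UseT.tr H K1 ⊔ CoreThree.PP Om K1 K2) (g := (⟨x, hx⟩ : H))
    refine h2.2 ?_
    rw [normalizer_eq_top]
    exact mem_top _
  have hD : DD Om (S : Subgroup G) ≤ L := by
    rw [DD_le_iff]
    intro K hK x hx
    have hxH : x ∈ H := DD_le_cent g.tri.hyp hS (zz_mem_ES d.m1) (inf_le_DD hK hx)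
    refine UseT.mem_pre.2 ⟨hxH, ?_⟩
    have h3 := loc.syl K hK x hx
    rw [qt_eq_qm hxH] at h3
    rw [d.OmS_eq g.tri] at hK
    rcases hK with rfl | rfl | hK
    · exact mem_sup_left h3
    · exact mem_sup_right (loc.facts.left h3)
    · have hK' : K = K3 := hK
      subst hK'
      exact mem_sup_right (loc.facts.right h3)
  obtain ⟨x, hx, hxS⟩ := DD_conj_of_common g.tri.hyp S S' d.m1 h1
  obtain ⟨l, hl, hlx⟩ := frattini_DD g.tri.hyp S hn hD hx
  obtain ⟨hlH, hlq⟩ := UseT.mem_pre.1 (inv_mem hl)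
  refine ⟨l⁻¹, hlH, ?_, ?_⟩
  · rw [qt_eq_qm hlH]; exact hlq
  · rw [mem_normalizer_iff_cj, cj_mul, hxS] at hlx
    have h2 := congrArg (cj l⁻¹) hlx
    rw [cj_inv_cj] at h2
    exact h2.symm

/-- the main step -/
theorem exists_conj_aux (g : All Om p F) (d : VD Om (S : Subgroup G) K1 K2 K3 v1 v2 v3)
    (hK : K1 ∈ OmS Om (S' : Subgroup G)) (hJ : J ∈ OmS Om (S' : Subgroup G)) (hJ' : J' ∈ OmS Om (S' : Subgroup G))
    (n1 : K1 ≠ J) (n2 : K1 ≠ J') (n3 : J ≠ J')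
    (cf : zz J * (v1 * (v2 * v3)) = (v1 * (v2 * v3)) * zz J) {l : G} (hl : l ∈ centralizer ({zz K1} : Set G))
    (hlq : ThreeCore.qt K1 l ∈ UseT.tr (centralizer {zz K1}) K1 ⊔ CoreThree.PP Om K1 K2)
    (h2 : cj l K2 = J) (h3 : cj l K3 = J') :
    ∃ c ∈ centralizer ({zz K1} : Set G), c ∈ centralizer ({v1 * (v2 * v3)} : Set G) ∧ c * zz K2 * c⁻¹ = zz J := by
  haveI := g.fin
  haveI := Fintype.ofFinite F
  have hS := S.isPGroup'
  have hS' := S'.isPGroup'
  have loc := g.vloc d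
  have loc' := g.loc S' K1 hK J hJ J' hJ' n1 n2 n3
  obtain ⟨c1, c2, c3⟩ := g.cent_v d
  obtain ⟨b1, b2, b3⟩ := g.v_cent d
  obtain ⟨m1, m2, m3, e2, e3⟩ := g.vbar d
  obtain ⟨zu2, zu3⟩ := g.zu d
  have zuJ := zu_of_sl g.odd_card loc'.facts.eK
  have zuJ' := zu_of_sl g.odd_card loc'.facts.eL
  have hc2 := mem_cov g.tri.hyp hS d.m2 (zz_mem_ES d.m1)
  have hc3 := mem_cov g.tri.hyp hS d.m3 (zz_mem_ES d.m1)
  have hcJ := mem_cov g.tri.hyp hS' hJ (zz_mem_ES hK)
  have hcJ' := mem_cov g.tri.hyp hS' hJ' (zz_mem_ES hK)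
  -- `l = τ δ`
  obtain ⟨τ, hτ, δ, hδ, hτδ⟩ := Comp.mem_sup_comm loc.comm1 hlq
  have key : ∀ T : Subgroup (ThreeCore.HQ K1), T ≤ CoreThree.PP Om K1 K2 → cj (ThreeCore.qt K1 l) T = cj δ T := by
    intro T hT
    rw [← hτδ, cj_mul, ← mem_normalizer_iff_cj]
    refine centralizer_le_normalizer _ ?_
    rw [mem_centralizer_iff]
    intro y hy
    have h4 : y ∈ CoreThree.PP Om K1 K2 := by
      have h5 := cj_mono δ hT hy
      rwa [mem_normalizer_iff_cj.1 (le_normalizer hδ)] at h5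
    exact (loc.comm1 τ hτ y h4).symm
  have t2 : cj δ (UseT.tr (centralizer {zz K1}) K2) = UseT.tr (centralizer {zz K1}) J := by
    rw [← key _ loc.facts.left, ← g.tr_cj hc2 hl, h2]
  have t3 : cj δ (UseT.tr (centralizer {zz K1}) K3) = UseT.tr (centralizer {zz K1}) J' := by
    rw [← key _ loc.facts.right, ← g.tr_cj hc3 hl, h3]
  have hfam := UseT.hyp_fam g.tri.hyp g.ty (centralizer ({zz K1} : Set G))
  have z2 : zz (UseT.tr (centralizer {zz K1}) J) = δ * zz (UseT.tr (centralizer {zz K1}) K2) * δ⁻¹ := by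
    rw [← t2, hfam.zz_cj (UseT.tr_mem hc2)]
  have z3 : zz (UseT.tr (centralizer {zz K1}) J') = δ * zz (UseT.tr (centralizer {zz K1}) K3) * δ⁻¹ := by
    rw [← t3, hfam.zz_cj (UseT.tr_mem hc3)]
  -- images of `v₂`, `v₃` under `δ`
  set a2 := ThreeCore.qt K1 v2 with ha2
  set a3 := ThreeCore.qt K1 v3 with ha3
  have w2 : δ * a2 * δ⁻¹ ∈ UseT.tr (centralizer {zz K1}) J := by rw [← t2]; exact conj_mem_cj m2
  have w3 : δ * a3 * δ⁻¹ ∈ UseT.tr (centralizer {zz K1}) J' := by rw [← t3]; exact conj_mem_cj m3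
  have q2 : (δ * a2 * δ⁻¹) * (δ * a2 * δ⁻¹) = zz (UseT.tr (centralizer {zz K1}) J) := by
    rw [z2, ← e2]; group
  have q3 : (δ * a3 * δ⁻¹) * (δ * a3 * δ⁻¹) = zz (UseT.tr (centralizer {zz K1}) J') := by
    rw [z3, ← e3]; group
  -- `D' = D`
  have hDD : CoreThree.PP Om K1 K2 = CoreThree.PP Om K1 J := by
    refine comp_unique loc.facts.comp loc'.facts.comp zuJ ?_ loc'.facts.left w2 q2
    rw [← t2]
    have h5 := cj_mono δ loc.facts.left
    rwa [mem_normalizer_iff_cj.1 (le_normalizer hδ)] at h5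
  -- `j`
  have hj : a2 * a3 ∈ CoreThree.PP Om K1 J := by
    rw [← hDD]
    exact mul_mem (loc.facts.left m2) (loc.facts.right m3)
  have hz1 : zz (UseT.tr (centralizer {zz K1}) K2) * zz (UseT.tr (centralizer {zz K1}) K3) =
      zz (UseT.tr (centralizer {zz K1}) J) * zz (UseT.tr (centralizer {zz K1}) J') := by
    have h4 := loc.facts.zcen δ hδ
    rw [z2, z3]
    calc zz (UseT.tr (centralizer {zz K1}) K2) * zz (UseT.tr (centralizer {zz K1}) K3)
        = (δ * (zz (UseT.tr (centralizer {zz K1}) K2) * zz (UseT.tr (centralizer {zz K1}) K3))) * δ⁻¹ := by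
          rw [h4]; group
      _ = δ * zz (UseT.tr (centralizer {zz K1}) K2) * δ⁻¹ * (δ * zz (UseT.tr (centralizer {zz K1}) K3) * δ⁻¹) := by
          group
  have a23 := loc.facts.comm a2 m2 a3 m3
  have hjj : (a2 * a3) * (a2 * a3) =
      zz (UseT.tr (centralizer {zz K1}) J) * zz (UseT.tr (centralizer {zz K1}) J') := by
    rw [← hz1, ← e2, ← e3]
    calc a2 * a3 * (a2 * a3) = a2 * (a3 * a2) * a3 := by group
      _ = a2 * (a2 * a3) * a3 := by rw [← a23]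
      _ = a2 * a2 * (a3 * a3) := by group
  have hzJ : zz J ∈ centralizer ({zz K1} : Set G) := mem_centralizer_singleton_iff.2
    (ES_comm g.tri.hyp hS' (zz_mem_ES hJ) (zz_mem_ES hK))
  have hJm : ThreeCore.qt K1 (zz J) ∈ CoreThree.PP Om K1 K2 := by
    rw [hDD, ← loc'.zt J hJ]
    exact loc'.facts.left zuJ.mem
  have hfc := (g.jh d).fc
  have hcJf : ThreeCore.qt K1 (zz J) * ThreeCore.qt K1 (v1 * (v2 * v3)) =
      ThreeCore.qt K1 (v1 * (v2 * v3)) * ThreeCore.qt K1 (zz J) := by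
    rw [← ThreeCore.qt_mul hzJ hfc, ← ThreeCore.qt_mul hfc hzJ, cf]
  have hcj : (a2 * a3) * zz (UseT.tr (centralizer {zz K1}) J) = zz (UseT.tr (centralizer {zz K1}) J) * (a2 * a3) := by
    rw [loc'.zt J hJ]
    rw [g.fbar d, ← ha2, ← ha3] at hcJf
    have h4 := loc.comm1 _ m1 _ hJm
    apply mul_left_cancel (a := ThreeCore.qt K1 v1)
    calc ThreeCore.qt K1 v1 * (a2 * a3 * ThreeCore.qt K1 (zz J))
        = ThreeCore.qt K1 v1 * (a2 * a3) * ThreeCore.qt K1 (zz J) := by group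
      _ = ThreeCore.qt K1 (zz J) * (ThreeCore.qt K1 v1 * (a2 * a3)) := hcJf.symm
      _ = (ThreeCore.qt K1 v1 * ThreeCore.qt K1 (zz J)) * (a2 * a3) := by rw [h4]; group
      _ = ThreeCore.qt K1 v1 * (ThreeCore.qt K1 (zz J) * (a2 * a3)) := by group
  obtain ⟨v, hv, w, hw, hvw, hvv, hww⟩ := loc'.facts.exists_split zuJ zuJ' hj hjj hcj
  -- conjugation in `T_J` and `T_J'`
  obtain ⟨x, hx, hxw⟩ := AutAct.conj_four (UseT.isType_fam g.ty _ _ (UseT.tr_mem hcJ)) (hfam.uniq _ (UseT.tr_mem hcJ))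
    w2 hv q2 hvv
  obtain ⟨y, hy, hyw⟩ := AutAct.conj_four (UseT.isType_fam g.ty _ _ (UseT.tr_mem hcJ')) (hfam.uniq _ (UseT.tr_mem hcJ'))
    w3 hw q3 hww
  -- `b = x y δ`
  have hxy := loc'.facts.comm x hx y hy
  have hbD : x * y * δ ∈ CoreThree.PP Om K1 K2 := by
    refine mul_mem ?_ hδ
    rw [hDD]
    exact mul_mem (loc'.facts.left hx) (loc'.facts.right hy)
  have b2 : (x * y * δ) * a2 * (x * y * δ)⁻¹ = v := by
    have h4 : y * (δ * a2 * δ⁻¹) * y⁻¹ = δ * a2 * δ⁻¹ := by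
      rw [← loc'.facts.comm _ w2 y hy, mul_inv_cancel_right]
    calc (x * y * δ) * a2 * (x * y * δ)⁻¹ = x * (y * (δ * a2 * δ⁻¹) * y⁻¹) * x⁻¹ := by group
      _ = v := by rw [h4, hxw]
  have b3 : (x * y * δ) * a3 * (x * y * δ)⁻¹ = w := by
    have h4 : x * (y * (δ * a3 * δ⁻¹) * y⁻¹) * x⁻¹ = w := by
      rw [hyw, loc'.facts.comm x hx w hw, mul_inv_cancel_right]
    rw [← h4]; group
  have bj : (x * y * δ) * (a2 * a3) = (a2 * a3) * (x * y * δ) := by
    have h4 : (x * y * δ) * (a2 * a3) * (x * y * δ)⁻¹ = a2 * a3 := by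
      calc (x * y * δ) * (a2 * a3) * (x * y * δ)⁻¹
          = ((x * y * δ) * a2 * (x * y * δ)⁻¹) * ((x * y * δ) * a3 * (x * y * δ)⁻¹) := by group
        _ = a2 * a3 := by rw [b2, b3, hvw]
    exact mul_inv_eq_iff_eq_mul.1 h4
  have bf : (x * y * δ) * ThreeCore.qt K1 (v1 * (v2 * v3)) = ThreeCore.qt K1 (v1 * (v2 * v3)) * (x * y * δ) := by
    rw [g.fbar d, ← ha2, ← ha3]
    have h4 := loc.comm1 _ m1 _ hbD
    calc x * y * δ * (ThreeCore.qt K1 v1 * (a2 * a3)) = ((x * y * δ) * ThreeCore.qt K1 v1) * (a2 * a3) := by group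
      _ = ThreeCore.qt K1 v1 * ((x * y * δ) * (a2 * a3)) := by rw [← h4]; group
      _ = ThreeCore.qt K1 v1 * (a2 * a3) * (x * y * δ) := by rw [bj]; group
  obtain ⟨β, hβ1, hβf, hβ⟩ := (g.jh d).exists_lift bf
  -- correction by an element of odd order
  have hz2 := g.mem_cent d d.z2_mem d.z1_mem
  have hz2f := g.mem_cent d d.z2_mem self_mem_AA
  have hzJf : zz J ∈ centralizer ({v1 * (v2 * v3)} : Set G) := mem_centralizer_singleton_iff.2 cf
  have hq : ThreeCore.qt K1 (β * zz K2 * β⁻¹) = ThreeCore.qt K1 (zz J) := by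
    rw [ThreeCore.qt_mul (mul_mem hβ1 hz2) (inv_mem hβ1), ThreeCore.qt_mul hβ1 hz2, qt_inv hβ1, hβ,
      ← loc'.zt J hJ, ← loc.zt K2 d.m2, ← e2, ← hvv, ← b2]
    group
  have hX : ¬ 2 ∣ Nat.card (XX (zz K1) ⊓ centralizer ({v1 * (v2 * v3)} : Set G) : Subgroup G) := fun h0 =>
    odd_XX (zz K1) (h0.trans (card_dvd_of_le inf_le_left))
  have hzz : β * zz K2 * β⁻¹ * (β * zz K2 * β⁻¹) = 1 := by
    calc β * zz K2 * β⁻¹ * (β * zz K2 * β⁻¹) = β * (zz K2 * zz K2) * β⁻¹ := by group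
      _ = 1 := by rw [g.tri.hyp.zz_mul d.m2.1]; group
  have hc' : β * zz K2 * β⁻¹ ∈ centralizer ({zz K1} : Set G) := mul_mem (mul_mem hβ1 hz2) (inv_mem hβ1)
  obtain ⟨u, hu, huz⟩ := exists_conj_of_mul_mem_odd hX hzz (g.tri.hyp.zz_mul hJ.1) (by
    refine mem_inf.2 ⟨?_, mul_mem (mul_mem (mul_mem hβf hz2f) (inv_mem hβf)) hzJf⟩
    rw [← ThreeCore.qt_eq_one (mul_mem hc' hzJ), ThreeCore.qt_mul hc' hzJ, hq, ← ThreeCore.qt_mul hzJ hzJ,
      g.tri.hyp.zz_mul hJ.1, ThreeCore.qt_one])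
  refine ⟨u * β, mul_mem (XX_le _ hu.1) hβ1, mul_mem hu.2 hβf, ?_⟩
  rw [← huz]
  group

/-- **(Z1e)** `z₂` and `z_J` are conjugate in `C(z₁) ∩ C(f)` -/
theorem exists_conj (g : All Om p F) (hm : MinS Om) (d : VD Om (S : Subgroup G) K1 K2 K3 v1 v2 v3)
    (hJ : J ∈ Om) (hne : J ≠ K1) (c1 : zz J * zz K1 = zz K1 * zz J)
    (cf : zz J * (v1 * (v2 * v3)) = (v1 * (v2 * v3)) * zz J) :
    ∃ c ∈ centralizer ({zz K1} : Set G), c ∈ centralizer ({v1 * (v2 * v3)} : Set G) ∧ c * zz K2 * c⁻¹ = zz J := by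
  have hS := S.isPGroup'
  obtain ⟨S', hK', hJ'⟩ := g.adj_of_comm d.m1.1 hJ c1
  obtain ⟨l, hl, hlq, hlS⟩ := g.frattini d hK'
  have hlK : cj l K1 = K1 := g.tri.cj_eq d.m1.1 (mem_centralizer_singleton_iff.1 hl)
  have mem : ∀ M ∈ OmS Om (S : Subgroup G), cj l M ∈ OmS Om (S' : Subgroup G) := by
    intro M hM
    rw [← OmS_DD hS] at hM
    have h1 := cj_mem_OmS g.tri.hyp.conj l hM
    rwa [hlS, OmS_DD S'.isPGroup'] at h1
  have n2 : K1 ≠ cj l K2 := fun h => d.n12 (cj_inj.1 (hlK.trans h))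
  have n3 : K1 ≠ cj l K3 := fun h => d.n13 (cj_inj.1 (hlK.trans h))
  have n23 : cj l K2 ≠ cj l K3 := fun h => d.n23 (cj_inj.1 h)
  have hd : cj l K2 = J ∨ cj l K3 = J := by
    obtain ⟨L2, L3, hE, f1, f2, f3⟩ := g.tri.exists_three S' hK'
    have h1 : J ∈ ({K1, L2, L3} : Set (Subgroup G)) := hE ▸ hJ'
    have h2 : cj l K2 ∈ ({K1, L2, L3} : Set (Subgroup G)) := hE ▸ mem K2 d.m2
    have h3 : cj l K3 ∈ ({K1, L2, L3} : Set (Subgroup G)) := hE ▸ mem K3 d.m3
    simp only [Set.mem_insert_iff, Set.mem_singleton_iff] at h1 h2 h3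
    rcases h1 with h1 | h1 | h1
    · exact absurd h1 hne
    · rcases h2 with h2 | h2 | h2
      · exact absurd h2.symm n2
      · exact Or.inl (h2.trans h1.symm)
      · rcases h3 with h3 | h3 | h3
        · exact absurd h3.symm n3
        · exact Or.inr (h3.trans h1.symm)
        · exact absurd (h2.trans h3.symm) n23
    · rcases h2 with h2 | h2 | h2
      · exact absurd h2.symm n2
      · rcases h3 with h3 | h3 | h3
        · exact absurd h3.symm n3
        · exact absurd (h2.trans h3.symm) n23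
        · exact Or.inr (h3.trans h1.symm)
      · exact Or.inl (h2.trans h1.symm)
  rcases hd with hd | hd
  · refine g.exists_conj_aux d hK' hJ' (mem K3 d.m3) hne.symm n3 ?_ cf hl hlq hd rfl
    rw [← hd]; exact n23
  · have hf := d.f_swap g.tri.hyp hS
    obtain ⟨c, hc, hcf, hcz⟩ := g.exists_conj_aux d.swap hK' hJ' (mem K2 d.m2) hne.symm n2
      (by rw [← hd]; exact n23.symm) (by rw [hf]; exact cf) hl (by rw [← g.PP_eq d]; exact hlq) hd rfl
    rw [hf] at hcf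
    obtain ⟨x, hx, hxf, hxz⟩ := g.exists_swap_of_minS hm d
    refine ⟨c * x, mul_mem hc hx, mul_mem hcf hxf, ?_⟩
    rw [← hcz, ← hxz]
    group

end All

end Cfsg.Agent.Cit.Sp4
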