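import Cfsg.Agent.Cit.SpFam
import Cfsg.Agent.Cit.SpF
import Cfsg.Agent.Cit.SpEnd
import Cfsg.Agent.Cit.SpZ1

/-!
# Cores for `|Om(S)| = 3`, `z₁ z₂ z₃ = 1`, type `Sp₄(q)`: (T1) and (Tf)

* `Fam.fin` : the family `Fm` of `C(f) / O(C(f))` is in the situation `FIn`;
* `All.t1` : (TOR) at `z₁`; `All.tf` : (TOR) at `f`.
-/

set_option autoImplicit false
set_option linter.style.haveILetI false
set_option linter.unusedSectionVars false

namespace Cfsg.Agent.Cit.Sp4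

open Subgroup Cfsg Cfsg.Agent.Cit Cfsg.Agent.Cit.TorFunctor CoresG UseT SubCent Cfsg.Agent.Cit.OneComp
  Cfsg.Agent.Cit.Comp
open Cfsg.Agent.Cit.CoreOne
open scoped commutatorElement

universe u

/-- an odd subgroup of `M1` normalised by `M1` is trivial -/
theorem inf_eq_of_pieces {X : Type u} [Group X] [Finite X] {Fm : Set (Subgroup X)} {M1 : Subgroup X} (h : Hyp Fm)
    (hp : HasPieces Fm) (hM : M1 ∈ Fm) : XX (zz M1) ⊓ M1 = ⊥ := by
  rw [eq_bot_iff, ← hp.core M1 hM]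
  refine le_OO inf_le_right ?_ (not_two_dvd_of_le inf_le_left (odd_XX _))
  exact normalizer_inf_le ((h.le_centralizer hM).trans (centralizer_le_normalizer_XX _)) le_normalizer

/-- a central element of a member with square `zz` does not exist -/
theorem not_central_four {X : Type u} [Group X] [Finite X] {Fm : Set (Subgroup X)} {M : Subgroup X} (h : Hyp Fm)
    (hM : M ∈ Fm) {y : X} (hy : y ∈ M) (hyy : y * y = zz M) (hc : ∀ m ∈ M, m * y = y * m) : False := by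
  have h4 : orderOf y = 4 := GQ.orderOf_of_sq hyy (h.zz_mul hM) (h.zz_ne hM)
  have hp2 : IsPGroup 2 (zpowers y) := by
    apply IsPGroup.of_card (n := 2)
    rw [Nat.card_zpowers, h4]
    norm_num
  obtain ⟨Q, hQ, hyQ⟩ := LB.exists_syl_ge hp2 ((zpowers_le).2 hy)
  obtain ⟨c, v, n, hq⟩ := h.exists_gq hM hQ
  obtain ⟨t, htQ, -, hty⟩ := hq.exists_inverting (hyQ (mem_zpowers _)) h4
  have h1 := hc t (hQ.1 htQ)
  rw [h1, mul_inv_cancel_right] at hty
  have h2 : y * y = 1 := by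
    calc y * y = y * y⁻¹ := by rw [← hty]
      _ = 1 := mul_inv_cancel _
  exact h.zz_ne hM (hyy.symm.trans h2)

/-- the image of `O(C(b) ⊓ H)` -/
theorem qm_mem_XX' {G : Type u} [Group G] [Finite G] {H : Subgroup G} {b x : H} (hb : b * b = 1)
    (hx : (x : G) ∈ OO (centralizer {(b : G)} ⊓ H)) : qm H x ∈ XX (qm H b) := by
  have h1 : (((OO (centralizer {(b : G)} ⊓ H)).subgroupOf H).map (qm H)) ≤ XX (qm H b) := by
    refine le_OO ?_ ?_ ?_
    · rintro _ ⟨y, hy, rfl⟩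
      rw [mem_centralizer_singleton_iff, ← map_mul, ← map_mul]
      congr 1
      exact Subtype.ext (mem_centralizer_singleton_iff.1 ((OO_le _).trans inf_le_left (mem_subgroupOf.1 hy)))
    · rw [← centralizer_map (qm_surjective H) (not_dvd_ker H) hb]
      rintro _ ⟨c, hc, rfl⟩
      rw [mem_normalizer_iff_cj, ← cj_map, ← cj_subgroupOf]
      have h2 : (c : G) ∈ centralizer {(b : G)} ⊓ H := by
        refine ⟨?_, c.2⟩
        exact mem_centralizer_singleton_iff.2 (congrArg Subtype.val (mem_centralizer_singleton_iff.1 hc))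
      rw [mem_normalizer_iff_cj.1 (le_normalizer_OO _ h2)]
    · intro h2
      have h3 := h2.trans (card_map_dvd _ _)
      have h4 : Nat.card ((OO (centralizer {(b : G)} ⊓ H)).subgroupOf H) ∣
          Nat.card (OO (centralizer {(b : G)} ⊓ H)) := by
        rw [← card_map_of_injective H.subtype_injective, subgroupOf_map_subtype]
        exact card_dvd_of_le inf_le_left
      exact odd_OO _ (h3.trans h4)
  exact h1 ⟨x, hx, rfl⟩

/-- (Z1e) at a configuration -/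
def ZE {G : Type u} [Group G] (Om : Set (Subgroup G)) (K1 K2 : Subgroup G) (f : G) : Prop :=
  ∀ J ∈ Om, J ≠ K1 → zz J * zz K1 = zz K1 * zz J → zz J * f = f * zz J →
    ∃ c ∈ centralizer ({zz K1} : Set G), c ∈ centralizer ({f} : Set G) ∧ c * zz K2 * c⁻¹ = zz J

variable {G : Type u} [Group G] [Finite G] {Om : Set (Subgroup G)} {S : Sylow 2 G} {K1 K2 K3 : Subgroup G}
  {p : ℕ} {F : Type} [Field F] {v1 v2 v3 : G}
  {Fm : Set (Subgroup (UseT.HQ (centralizer ({v1 * (v2 * v3)} : Set G))))}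
  {M1 : Subgroup (UseT.HQ (centralizer ({v1 * (v2 * v3)} : Set G)))}

namespace Fam

theorem zz_inj (fm : Fam Om p K1 K2 K3 v1 v2 v3 Fm M1) {M M' : Subgroup (UseT.HQ (centralizer ({v1 * (v2 * v3)} : Set G)))}
    (hM : M ∈ Fm) (hM' : M' ∈ Fm) (hz : zz M = zz M') : M = M' := by
  obtain ⟨x, -, hx⟩ := fm.cls M hM
  obtain ⟨y, -, hy⟩ := fm.cls M' hM'
  set g := qh (v1 * (v2 * v3)) y * (qh (v1 * (v2 * v3)) x)⁻¹ with hg
  have e1 : cj g M = M' := by
    rw [hg, ← hx, ← hy, cj_mul, cj_inv_cj]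
  have h1 : g ∈ centralizer {zz M} := by
    rw [mem_centralizer_singleton_iff, ← mul_inv_eq_iff_eq_mul, ← fm.hyp.zz_cj hM, e1]
    exact hz.symm
  have h2 := mem_normalizer_iff_cj.1 (fm.nor M hM h1)
  rw [← h2, e1]

/-- a member of `Fm` is over an involution `z_J`, `J ∈ Om` -/
theorem exists_J (g : All Om p F) (d : VD Om (S : Subgroup G) K1 K2 K3 v1 v2 v3)
    (fm : Fam Om p K1 K2 K3 v1 v2 v3 Fm M1) {M : Subgroup (UseT.HQ (centralizer ({v1 * (v2 * v3)} : Set G)))}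
    (hM : M ∈ Fm) : ∃ J ∈ Om, zz J ∈ centralizer ({v1 * (v2 * v3)} : Set G) ∧ qh (v1 * (v2 * v3)) (zz J) = zz M := by
  obtain ⟨x, hx, rfl⟩ := fm.cls M hM
  have hzf := g.mem_cent d d.z1_mem self_mem_AA
  refine ⟨cj x K1, g.tri.hyp.conj _ d.m1.1 _, ?_, ?_⟩
  · rw [g.tri.hyp.zz_cj d.m1.1]
    exact mul_mem (mul_mem hx hzf) (inv_mem hx)
  · rw [g.tri.hyp.zz_cj d.m1.1, fm.hyp.zz_cj fm.mem, fm.z1, qh_mul (mul_mem hx hzf) (inv_mem hx), qh_mul hx hzf,
      qh_inv hx]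

/-- exact lifts -/
theorem exists_lift (g : All Om p F) (d : VD Om (S : Subgroup G) K1 K2 K3 v1 v2 v3)
    (fm : Fam Om p K1 K2 K3 v1 v2 v3 Fm M1) {M : Subgroup (UseT.HQ (centralizer ({v1 * (v2 * v3)} : Set G)))}
    (hM : M ∈ Fm) {Q : Subgroup G} (hQ : IsPGroup 2 Q) (hQf : Q ≤ centralizer ({v1 * (v2 * v3)} : Set G))
    (hc : ∀ q ∈ Q, zz M * qh (v1 * (v2 * v3)) q = qh (v1 * (v2 * v3)) q * zz M) :
    ∃ J ∈ Om, zz J ∈ centralizer ({v1 * (v2 * v3)} : Set G) ∧ qh (v1 * (v2 * v3)) (zz J) = zz M ∧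
      ∀ q ∈ Q, zz J * q = q * zz J := by
  obtain ⟨J, hJ, hJf, hJz⟩ := fm.exists_J g d hM
  obtain ⟨b, hb, hb2, hbQ, -⟩ := ThreeLift.exists_lift_elt hQ hQf (a := zz M) (k := 1)
    (by rw [pow_one, pow_two]; exact fm.hyp.zz_mul hM) (fun q hq => by rw [← qh_eq]; exact hc q hq)
  have hbb : (b : G) * b = 1 := by
    have := congrArg Subtype.val hb2
    simpa [pow_two] using this
  have hzz := g.tri.hyp.zz_mul hJ
  obtain ⟨x, hx, hxz⟩ := exists_conj_of_mul_mem_odd (odd_XX (v1 * (v2 * v3))) hzz hbb (by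
    rw [← qh_eq_one (mul_mem hJf b.2), qh_mul hJf b.2, hJz, qh_eq b.2, hb]
    exact fm.hyp.zz_mul hM)
  have hxf := XX_le _ hx
  have hx1 : qh (v1 * (v2 * v3)) x = 1 := (qh_eq_one hxf).2 hx
  have e1 : zz (cj x J) = b := by rw [g.tri.hyp.zz_cj hJ]; exact hxz
  refine ⟨cj x J, g.tri.hyp.conj _ hJ _, ?_, ?_, ?_⟩
  · rw [e1]; exact b.2
  · rw [e1, qh_eq b.2]; exact hb
  · rw [e1]; exact hbQ

/-- `v₁` commutes with `M1` -/
theorem v1_comm (g : All Om p F) (d : VD Om (S : Subgroup G) K1 K2 K3 v1 v2 v3)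
    (fm : Fam Om p K1 K2 K3 v1 v2 v3 Fm M1) {y : UseT.HQ (centralizer ({v1 * (v2 * v3)} : Set G))} (hy : y ∈ M1) :
    qh (v1 * (v2 * v3)) v1 * y = y * qh (v1 * (v2 * v3)) v1 := by
  have loc := g.vloc d
  obtain ⟨m, hm1, hmf, rfl, hmL⟩ := fm.sub1 y hy
  obtain ⟨c1, -, -⟩ := g.cent_v d
  obtain ⟨b1, -, -⟩ := g.v_cent d
  obtain ⟨w1, -, -, -, -⟩ := g.vbar d
  have hzf := g.mem_cent d d.z1_mem self_mem_AA
  -- `[v₁, m] ∈ O(C(z₁))`
  have h1 : v1 * m * v1⁻¹ * m⁻¹ ∈ XX (zz K1) := by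
    rw [← ThreeCore.qt_eq_one (mul_mem (mul_mem (mul_mem c1 hm1) (inv_mem c1)) (inv_mem hm1)),
      ThreeCore.qt_mul (mul_mem (mul_mem c1 hm1) (inv_mem c1)) (inv_mem hm1),
      ThreeCore.qt_mul (mul_mem c1 hm1) (inv_mem c1), ThreeCore.qt_mul c1 hm1, qt_inv c1, qt_inv hm1,
      loc.comm1 _ w1 _ (jL_le hmL)]
    group
  have h1f : v1 * m * v1⁻¹ * m⁻¹ ∈ centralizer ({v1 * (v2 * v3)} : Set G) :=
    mul_mem (mul_mem (mul_mem b1 hmf) (inv_mem b1)) (inv_mem hmf)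
  have e1 : qh (v1 * (v2 * v3)) (v1 * m * v1⁻¹ * m⁻¹) = qh (v1 * (v2 * v3)) v1 * qh (v1 * (v2 * v3)) m *
      (qh (v1 * (v2 * v3)) v1)⁻¹ * (qh (v1 * (v2 * v3)) m)⁻¹ := by
    rw [qh_mul (mul_mem (mul_mem b1 hmf) (inv_mem b1)) (inv_mem hmf), qh_mul (mul_mem b1 hmf) (inv_mem b1),
      qh_mul b1 hmf, qh_inv b1, qh_inv hmf]
  have h2 : qh (v1 * (v2 * v3)) (v1 * m * v1⁻¹ * m⁻¹) ∈ XX (zz M1) := by
    rw [fm.z1, qh_eq hzf, qh_eq h1f]
    exact qm_mem_XX (Subtype.ext (g.tri.hyp.zz_mul d.m1.1)) h1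
  have hn : qh (v1 * (v2 * v3)) v1 ∈ normalizer (M1 : Set (UseT.HQ (centralizer ({v1 * (v2 * v3)} : Set G)))) := by
    apply fm.nor M1 fm.mem
    rw [mem_centralizer_singleton_iff, fm.z1, ← qh_mul b1 hzf, ← qh_mul hzf b1,
      mem_centralizer_singleton_iff.1 c1]
  have h3 : qh (v1 * (v2 * v3)) (v1 * m * v1⁻¹ * m⁻¹) ∈ XX (zz M1) ⊓ M1 := by
    refine ⟨h2, ?_⟩
    rw [e1]
    exact M1.mul_mem ((mem_normalizer_iff.1 hn _).1 hy) (M1.inv_mem hy)
  rw [inf_eq_of_pieces fm.hyp fm.pieces fm.mem, mem_bot, e1, mul_inv_eq_one, mul_inv_eq_iff_eq_mul] at h3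
  exact h3

/-- `z₂` does not commute with `M1` -/
theorem ncomm (g : All Om p F) (d : VD Om (S : Subgroup G) K1 K2 K3 v1 v2 v3)
    (fm : Fam Om p K1 K2 K3 v1 v2 v3 Fm M1) :
    ∃ m ∈ M1, qh (v1 * (v2 * v3)) (zz K2) * m ≠ m * qh (v1 * (v2 * v3)) (zz K2) := by
  by_contra hcon
  push Not at hcon
  have hS := S.isPGroup'
  obtain ⟨b1, b2, b3⟩ := g.v_cent d
  have hhc := g.h_cent d
  have hff : v1 * (v2 * v3) ∈ centralizer ({v1 * (v2 * v3)} : Set G) := mul_mem b1 (mul_mem b2 b3)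
  have hcen : ∀ x : UseT.HQ (centralizer ({v1 * (v2 * v3)} : Set G)),
      x * qh (v1 * (v2 * v3)) (v1 * (v2 * v3)) = qh (v1 * (v2 * v3)) (v1 * (v2 * v3)) * x := by
    intro x
    rw [qh_eq hff]
    exact qm_central (b := ⟨v1 * (v2 * v3), hff⟩) le_rfl x
  have e1 : qh (v1 * (v2 * v3)) (zz K2) = qh (v1 * (v2 * v3)) (v2 * v3⁻¹) * (qh (v1 * (v2 * v3)) v1)⁻¹ *
      qh (v1 * (v2 * v3)) (v1 * (v2 * v3)) := by
    rw [← qh_inv b1, ← qh_mul hhc (inv_mem b1), ← qh_mul (mul_mem hhc (inv_mem b1)) hff, d.z2_eq g.tri.hyp hS]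
  have hzf := g.mem_cent d d.z1_mem self_mem_AA
  refine not_central_four fm.hyp fm.mem fm.h1 ?_ ?_
  · rw [← qh_mul hhc hhc, g.h_sq d, fm.z1]
  · intro m hm
    have h1 := hcon m hm
    have h2 := fm.v1_comm g d hm
    have h3 := hcen m
    set a := qh (v1 * (v2 * v3)) (v2 * v3⁻¹) with ha
    set b := qh (v1 * (v2 * v3)) v1 with hb
    set c := qh (v1 * (v2 * v3)) (v1 * (v2 * v3)) with hc
    rw [e1] at h1
    have h4 : a = (a * b⁻¹ * c) * c⁻¹ * b := by group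
    have h5 : Commute m (a * b⁻¹ * c) := h1.symm
    have h6 : Commute m b := h2.symm
    have h7 : Commute m c := h3
    rw [h4]
    exact ((h5.mul_right h7.inv_right).mul_right h6).eq

/-- **the situation `FIn`** -/
theorem fin (g : All Om p F) (d : VD Om (S : Subgroup G) K1 K2 K3 v1 v2 v3)
    (fm : Fam Om p K1 K2 K3 v1 v2 v3 Fm M1) (ze : ZE Om K1 K2 (v1 * (v2 * v3))) :
    FIn Fm M1 (qh (v1 * (v2 * v3)) (zz K2)) := by
  have hzf := g.mem_cent d d.z1_mem self_mem_AA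
  have hz2f := g.mem_cent d d.z2_mem self_mem_AA
  have hz21 := g.mem_cent d d.z2_mem d.z1_mem
  obtain ⟨m0, hm0, hm1⟩ := fm.ncomm g d
  -- lifts of members commuting with `M1`
  have key : ∀ J ∈ Om, zz J ∈ centralizer ({v1 * (v2 * v3)} : Set G) → zz J * zz K1 = zz K1 * zz J →
      ∀ M ∈ Fm, M ≠ M1 → qh (v1 * (v2 * v3)) (zz J) = zz M → J ≠ K1 := by
    rintro J hJ hJf hJ1 M hM hne hJM rfl
    rw [← fm.z1] at hJM
    exact hne (fm.zz_inj hM fm.mem hJM.symm)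
  refine ⟨fm.hyp, fm.ty, fm.pieces, ?_, fm.nor M1 fm.mem, fm.mem, ?_, ?_, ?_, ?_⟩
  · intro M hM
    obtain ⟨x, -, hx⟩ := fm.cls M hM
    exact ⟨_, hx.symm⟩
  · obtain ⟨M, hM, hz⟩ := fm.ex2
    refine ⟨M, hM, ?_, hz⟩
    rintro rfl
    apply hm1
    rw [← hz]
    exact (fm.hyp.comm_zz hM (le_normalizer hm0)).symm
  · rw [fm.z1, ← qh_mul hz2f hzf, ← qh_mul hzf hz2f, mem_centralizer_singleton_iff.1 hz21]
  · intro M hM hne hc
    obtain ⟨J, hJ, hJf, hJM, hJq⟩ := fm.exists_lift g d hM (Q := zpowers (zz K1))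
      (by
        apply IsPGroup.of_card (n := 1)
        rw [Nat.card_zpowers, g.tri.hyp.orderOf_zz d.m1.1, pow_one])
      ((zpowers_le).2 hzf) (by
        rintro _ ⟨i, rfl⟩
        have h1 : qh (v1 * (v2 * v3)) (zz K1 ^ i) = zz M1 ^ i := by
          rw [fm.z1, qh_eq hzf, ← map_zpow, qh_eq (zpow_mem hzf i)]
          rfl
        change zz M * qh (v1 * (v2 * v3)) (zz K1 ^ i) = qh (v1 * (v2 * v3)) (zz K1 ^ i) * zz M
        rw [h1]
        exact ((show Commute (zz M) (zz M1) from hc).zpow_right i).eq)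
    have hJ1 := hJq _ (mem_zpowers _)
    obtain ⟨c, hc1, hcf, hcz⟩ := ze J hJ (key J hJ hJf hJ1 M hM hne hJM) hJ1
      (mem_centralizer_singleton_iff.1 hJf)
    -- `c` normalises `M1`
    have hcn : qh (v1 * (v2 * v3)) c ∈ normalizer (M1 : Set (UseT.HQ (centralizer ({v1 * (v2 * v3)} : Set G)))) := by
      apply fm.nor M1 fm.mem
      rw [mem_centralizer_singleton_iff, fm.z1, ← qh_mul hcf hzf, ← qh_mul hzf hcf,
        mem_centralizer_singleton_iff.1 hc1]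
    have e1 : zz M = qh (v1 * (v2 * v3)) c * qh (v1 * (v2 * v3)) (zz K2) * (qh (v1 * (v2 * v3)) c)⁻¹ := by
      rw [← hJM, ← hcz, qh_mul (mul_mem hcf hz2f) (inv_mem hcf), qh_mul hcf hz2f, qh_inv hcf]
    refine ⟨_, (mem_normalizer_iff.1 hcn m0).1 hm0, fun h0 => hm1 ?_⟩
    rw [e1] at h0
    set a := qh (v1 * (v2 * v3)) (zz K2) with ha
    set b := qh (v1 * (v2 * v3)) c with hb
    calc a * m0 = b⁻¹ * (b * a * b⁻¹ * (b * m0 * b⁻¹)) * b := by group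
      _ = m0 * a := by rw [h0]; group
  · intro M hM M' hM' hne hne' hMM hc hc' hcc
    obtain ⟨J, hJ, hJf, hJM, hJq⟩ := fm.exists_lift g d hM (Q := zpowers (zz K1))
      (by
        apply IsPGroup.of_card (n := 1)
        rw [Nat.card_zpowers, g.tri.hyp.orderOf_zz d.m1.1, pow_one])
      ((zpowers_le).2 hzf) (by
        rintro _ ⟨i, rfl⟩
        have h1 : qh (v1 * (v2 * v3)) (zz K1 ^ i) = zz M1 ^ i := by
          rw [fm.z1, qh_eq hzf, ← map_zpow, qh_eq (zpow_mem hzf i)]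
          rfl
        change zz M * qh (v1 * (v2 * v3)) (zz K1 ^ i) = qh (v1 * (v2 * v3)) (zz K1 ^ i) * zz M
        rw [h1]
        exact ((show Commute (zz M) (zz M1) from hc).zpow_right i).eq)
    have hJ1 := hJq _ (mem_zpowers _)
    -- the four-group
    have hsq1 := g.tri.hyp.zz_mul d.m1.1
    have hsqJ := g.tri.hyp.zz_mul hJ
    have hz2 : IsPGroup 2 (zpowers (zz K1)) := by
      apply IsPGroup.of_card (n := 1)
      rw [Nat.card_zpowers, g.tri.hyp.orderOf_zz d.m1.1, pow_one]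
    have hzJ2 : IsPGroup 2 (zpowers (zz J)) := by
      apply IsPGroup.of_card (n := 1)
      rw [Nat.card_zpowers, g.tri.hyp.orderOf_zz hJ, pow_one]
    have hQ : IsPGroup 2 (zpowers (zz K1) ⊔ zpowers (zz J) : Subgroup G) := by
      apply OneBasic.isPGroup_sup_of_normalizes hz2 hzJ2
      rw [zpowers_le]
      refine centralizer_le_normalizer _ ?_
      rw [mem_centralizer_iff]
      rintro _ ⟨i, rfl⟩
      exact ((show Commute (zz J) (zz K1) from hJ1).zpow_left i).eq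
    obtain ⟨J', hJ', hJf', hJM', hJq'⟩ := fm.exists_lift g d hM' hQ
      (sup_le ((zpowers_le).2 hzf) ((zpowers_le).2 hJf)) (by
        intro q hq
        have h1 : (zpowers (zz K1) ⊔ zpowers (zz J) : Subgroup G) ≤
            pre (centralizer ({v1 * (v2 * v3)} : Set G)) (centralizer {zz M'}) := by
          rw [sup_le_iff, zpowers_le, zpowers_le]
          refine ⟨mem_pre.2 ⟨hzf, ?_⟩, mem_pre.2 ⟨hJf, ?_⟩⟩
          · rw [← qh_eq, ← fm.z1, mem_centralizer_singleton_iff]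
            exact hc'.symm
          · rw [← qh_eq, hJM, mem_centralizer_singleton_iff]
            exact hcc
        obtain ⟨h2, h3⟩ := mem_pre.1 (h1 hq)
        rw [← qh_eq, mem_centralizer_singleton_iff] at h3
        exact h3.symm)
    have hJ1' := hJq' _ (mem_sup_left (mem_zpowers _))
    have hJJ' := hJq' _ (mem_sup_right (mem_zpowers _))
    have n1 := key J hJ hJf hJ1 M hM hne hJM
    have n2 := key J' hJ' hJf' hJ1' M' hM' hne' hJM'
    have n3 : J ≠ J' := by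
      rintro rfl
      exact hMM (fm.zz_inj hM hM' (hJM.symm.trans hJM'))
    have h1 := g.nzero K1 J J' (g.adj_of_comm d.m1.1 hJ hJ1) (g.adj_of_comm d.m1.1 hJ' hJ1') n1 n2 n3 hJJ'.symm
    rw [← hJM, ← hJM', fm.z1, ← qh_mul hJf hJf', h1]

/-- `a` commutes with `O(C(z₁) ∩ C(f))` modulo `O(C(f))` -/
theorem z2_mem_cq (g : All Om p F) (d : VD Om (S : Subgroup G) K1 K2 K3 v1 v2 v3)
    (fm : Fam Om p K1 K2 K3 v1 v2 v3 Fm M1) (ze : ZE Om K1 K2 (v1 * (v2 * v3)))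
    (h1173 : S1173Stmt.{u}) (hI : IdentStmt.{u}) (hA : CoreTwoNe.FactA.{u}) (hB : CoreTwoNe.FactB.{u})
    (x : centralizer ({v1 * (v2 * v3)} : Set G))
    (hx : (x : G) ∈ OO (centralizer {zz K1} ⊓ centralizer {v1 * (v2 * v3)})) :
    zz K2 ∈ cq (centralizer {v1 * (v2 * v3)}) x := by
  have hzf := g.mem_cent d d.z1_mem self_mem_AA
  have hz2f := g.mem_cent d d.z2_mem self_mem_AA
  have h1 : qm (centralizer {v1 * (v2 * v3)}) x ∈ XX (zz M1) := by
    rw [fm.z1, qh_eq hzf]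
    exact qm_mem_XX' (b := ⟨zz K1, hzf⟩) (Subtype.ext (g.tri.hyp.zz_mul d.m1.1)) hx
  have h2 := (fm.fin g d ze).comm_XX h1173 hI hA hB h1
  rw [qh_eq hz2f] at h2
  exact mem_cq.2 ⟨hz2f, h2.symm⟩

end Fam

/-- the statements (Z1e) for all configurations -/
def ZEAll {G : Type u} [Group G] [Finite G] (Om : Set (Subgroup G)) : Prop :=
  ∀ (S : Sylow 2 G) (K1 K2 K3 : Subgroup G) (v1 v2 v3 : G), VD Om (S : Subgroup G) K1 K2 K3 v1 v2 v3 →
    ZE Om K1 K2 (v1 * (v2 * v3))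

namespace All

/-- the data for (TOR) at `z₁` -/
theorem locZ (g : All Om p F) (d : VD Om (S : Subgroup G) K1 K2 K3 v1 v2 v3) :
    VD.LocZ (S : Subgroup G) K1 K2 K3 p (tr (centralizer {zz K1}) K1) (CoreThree.PP Om K1 K2)
      (tr (centralizer {zz K1}) K2) (tr (centralizer {zz K1}) K3) := by
  have loc := g.vloc d
  exact {
    prime := g.prime
    ev := loc.ev
    piece := loc.sp
    nor := loc.nor1
    comm := loc.comm1
    uniq := loc.one
    z1 := fun h => by rw [loc.zt K1 d.m1, qt_eq_qm h]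
    z2 := fun h => by rw [loc.zt K2 d.m2, qt_eq_qm h]
    z3 := fun h => by rw [loc.zt K3 d.m3, qt_eq_qm h]
    s1 := fun x h h1 h2 => by rw [← qt_eq_qm h]; exact loc.syl K1 d.m1 x ⟨h1, h2⟩
    s2 := fun x h h1 h2 => by rw [← qt_eq_qm h]; exact loc.syl K2 d.m2 x ⟨h1, h2⟩
    s3 := fun x h h1 h2 => by rw [← qt_eq_qm h]; exact loc.syl K3 d.m3 x ⟨h1, h2⟩ }

/-- **(T1)** : (TOR) at `z₁` -/
theorem t1 (g : All Om p F) (S : Sylow 2 G) (K1 K2 K3 : Subgroup G) (v1 v2 v3 : G)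
    (d : VD Om (S : Subgroup G) K1 K2 K3 v1 v2 v3) (a : G) (ha : a ∈ AA Om (S : Subgroup G) (v1 * (v2 * v3)))
    (ha1 : a ≠ 1) : ⁅XX a ⊓ centralizer {zz K1}, AA Om (S : Subgroup G) (v1 * (v2 * v3))⁆ ≤ XX (zz K1) :=
  d.torZ g.tri (g.locZ d) ha ha1

/-- `⁅O(C(f) ∩ C(z₁)), z₂⁆ ≤ O(C(f))` -/
theorem comm_f (g : All Om p F) (hm : MinS Om) (ze : ZEAll Om) (h1173 : S1173Stmt.{u}) (hI : IdentStmt.{u})
    (hA : CoreTwoNe.FactA.{u}) (hB : CoreTwoNe.FactB.{u}) {S : Sylow 2 G} {K1 K2 K3 : Subgroup G} {v1 v2 v3 : G}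
    (d : VD Om (S : Subgroup G) K1 K2 K3 v1 v2 v3) (x : centralizer ({v1 * (v2 * v3)} : Set G))
    (hx : (x : G) ∈ OO (centralizer {zz K1} ⊓ centralizer {v1 * (v2 * v3)})) :
    zz K2 ∈ cq (centralizer {v1 * (v2 * v3)}) x := by
  obtain ⟨Fm, M1, fm⟩ := g.exists_fam_of_minS hm d
  exact fm.z2_mem_cq g d (ze S _ _ _ _ _ _ d) h1173 hI hA hB x hx

/-- **(Tf)** : (TOR) at `f` -/
theorem tf (g : All Om p F) (hm : MinS Om) (ze : ZEAll Om) (h1173 : S1173Stmt.{u}) (hI : IdentStmt.{u})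
    (hA : CoreTwoNe.FactA.{u}) (hB : CoreTwoNe.FactB.{u}) (S : Sylow 2 G) (K1 K2 K3 : Subgroup G) (v1 v2 v3 : G)
    (d : VD Om (S : Subgroup G) K1 K2 K3 v1 v2 v3) (a : G) (ha : a ∈ AA Om (S : Subgroup G) (v1 * (v2 * v3)))
    (ha1 : a ≠ 1) :
    ⁅XX a ⊓ centralizer {v1 * (v2 * v3)}, AA Om (S : Subgroup G) (v1 * (v2 * v3))⁆ ≤ XX (v1 * (v2 * v3)) := by
  have hS := S.isPGroup'
  have e1 : v2 * (v3 * v1) = v1 * (v2 * v3) := d.f_rot g.tri.hyp hS
  have e2 : v3 * (v1 * v2) = v1 * (v2 * v3) := (d.rot.f_rot g.tri.hyp hS).trans e1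
  have z2f := g.mem_cent d d.z2_mem self_mem_AA
  have z3f := g.mem_cent d d.z3_mem self_mem_AA
  refine d.torF g.tri ?_ ?_ ?_ ha ha1
  · intro x hx
    exact g.comm_f hm ze h1173 hI hA hB d x hx
  · intro x hx
    have h1 := g.comm_f hm ze h1173 hI hA hB d.rot
    rw [e1] at h1
    have h2 := h1 x hx
    have h3 : zz K2 ∈ cq (centralizer {v1 * (v2 * v3)}) x :=
      mem_cq_of_comm z2f (mem_centralizer_singleton_iff.1 ((OO_le _).trans inf_le_left hx)).symm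
    rw [← d.mul23 g.tri]
    exact mul_mem h3 h2
  · intro x hx
    have h1 := g.comm_f hm ze h1173 hI hA hB d.rot.rot
    rw [e2] at h1
    have h2 := h1 x hx
    have h3 : zz K3 ∈ cq (centralizer {v1 * (v2 * v3)}) x :=
      mem_cq_of_comm z3f (mem_centralizer_singleton_iff.1 ((OO_le _).trans inf_le_left hx)).symm
    rw [← d.rot.mul23 g.tri]
    exact mul_mem h3 h2

/-- (Z1e), helper531 -/
theorem zeAll (g : All Om p F) (hm : MinS Om) : ZEAll Om := fun _ _ _ _ _ _ _ d _ hJ hne c1 cf =>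
  g.exists_conj hm d hJ hne c1 cf

end All

end Cfsg.Agent.Cit.Sp4
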