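import Cfsg.Agent.Cit.SpZ
import Cfsg.Agent.Cit.SpTf

/-!
# Cores for `|Om(S)| = 3`, `z₁ z₂ z₃ = 1`, type `Sp₄(q)`: the end

* `In` : the inputs (S1175, Bender, S1173, `IdentStmt`, `FactA`, `FactB`, the odd order theorem, THEOREM FIX);
* `All.torH` : (TOR) and (2B);
* `SpCase Om` : all pieces `D` of the groups `C(z_K) / O(C(z_K))` are of type `PSp₄(F)` (uniform `F`);
* `coreE_of_sp` : **the cores are trivial on `E(S)`** if `SpCase Om`.
-/

set_option autoImplicit false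
set_option linter.style.haveILetI false

namespace Cfsg.Agent.Cit.Sp4

open Subgroup Cfsg Cfsg.Agent.Cit Cfsg.Agent.Cit.CoresG Cfsg.Agent.Cit.TorFunctor
open scoped commutatorElement

universe u

/-- the inputs -/
structure In : Prop where
  odd : OddStmt.{u}
  fix : FixStmt.{u}
  crit : CoreThree.CritStmt.{u}
  bend : CoreThree.BendStmt.{u}
  s1173 : CoreOne.S1173Stmt.{u}
  ident : CoreOne.IdentStmt.{u}
  factA : CoreTwoNe.FactA.{u}
  factB : CoreTwoNe.FactB.{u}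

section

variable {G : Type u} [Group G] [Finite G] {Om : Set (Subgroup G)} {p : ℕ} {F : Type} [Field F]

/-- (TOR) at `z₁` and `f`, (2B) at `f` -/
theorem All.torH (i : In.{u}) (g : All Om p F) (hm : MinS Om) : TorH Om where
  t1 := fun S K1 K2 K3 v1 v2 v3 d a ha ha1 => g.t1 S K1 K2 K3 v1 v2 v3 d a ha ha1
  tf := fun S K1 K2 K3 v1 v2 v3 d a ha ha1 =>
    g.tf hm (g.zeAll hm) i.s1173 i.ident i.factA i.factB S K1 K2 K3 v1 v2 v3 d a ha ha1
  tw := by
    intro S K1 K2 K3 v1 v2 v3 d u hu1 hu2 _ huf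
    obtain ⟨Fm, M1, fm⟩ := g.exists_fam_of_minS hm d
    refine fm.tw i.odd i.crit i.bend g d ?_ ?_ hu1 hu2 huf
    · intro J hJ hne hc hf
      obtain ⟨c, hc1, hc2, hcz⟩ := g.exists_conj hm d hJ hne hc (mem_centralizer_singleton_iff.1 hf)
      exact ⟨c, hc1, hc2, hcz.symm⟩
    · intro y hy hyf
      have h1 := g.tf hm (g.zeAll hm) i.s1173 i.ident i.factA i.factB S K1 K2 K3 v1 v2 v3 d (zz K1) d.z1_mem
        (g.tri.hyp.zz_ne d.m1.1)
      have h2 := h1 (commutator_mem_commutator (mem_inf.2 ⟨hy, hyf⟩) d.z2_mem)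
      rwa [commutatorElement_def] at h2

/-- the pieces are of type `PSp₄(F)` -/
def SpCase (Om : Set (Subgroup G)) : Prop :=
  ∃ (p : ℕ) (F : Type) (_ : Field F), p.Prime ∧ p ≠ 2 ∧ Finite F ∧ CharP F p ∧
    ∀ S : Sylow 2 G, ∀ K ∈ OmS Om (S : Subgroup G), ∀ L ∈ OmS Om (S : Subgroup G),
      ∀ M ∈ OmS Om (S : Subgroup G), K ≠ L → K ≠ M → L ≠ M →
        SpFacts p F (CoreThree.PP Om K L) (UseT.tr (centralizer {zz K}) L) (UseT.tr (centralizer {zz K}) M) ∧
        Nonempty (Nodes.Chart.Chart (UseT.fam Om (centralizer {zz K})) p (CoreThree.PP Om K L))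

/-- **the cores, type `Sp₄(q)`** -/
theorem coreE_of_sp (i : In.{u}) (hm : MinS Om) (hp : TriFact.Pre Om) (hco : CoreThree.Conn Om)
    (hcon : CoreThree.Con Om) (hsp : SpCase Om) : CoreThree.CoreE Om := by
  obtain ⟨p, F, _, hpp, hp2, _, _, h⟩ := hsp
  haveI : Fact p.Prime := ⟨hpp⟩
  haveI := hm.simple
  have g := all_of i.odd i.fix hm hp hcon hp2 (F := F) h
  exact g.coreE (g.torH i hm) hm.ne hco (CoreThree.odd_normal hm.hyp hm.ne)

end

end Cfsg.Agent.Cit.Sp4
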