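import Cfsg.Agent.Cit.LongConj
import Cfsg.Agent.S0765

/-!
# `Sp₄(F)`: `⟨E₁, E₂, x⟩ = Sp₄(F)` if `x` does not permute the two blocks
-/

set_option autoImplicit false

namespace Cfsg.Agent.Cit.SpGen

open Subgroup Cfsg Matrix Cfsg.Agent.Cit.LongAbs Cfsg.Agent.Cit.LongBlock Cfsg.Agent.Cit.LongQuot
  Cfsg.Agent.Cit.LongMain Cfsg.Agent.Cit.LongSp

variable {F : Type*} [Field F]

/-- the form matrix in the block coordinates -/
abbrev Ωm (F : Type*) [Field F] : Matrix (Fin 2 ⊕ Fin 2) (Fin 2 ⊕ Fin 2) F := fromBlocks (jj F) 0 0 (jj F)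

abbrev Γ (F : Type*) [Field F] := symplecticGroup (Fin 2) F

/-- element of `Sp₄(F)` from a matrix in block coordinates -/
def mk (M : Matrix (Fin 2 ⊕ Fin 2) (Fin 2 ⊕ Fin 2) F) (h : M * Ωm F * Mᵀ = Ωm F) : Γ F :=
  ⟨M.submatrix e4 e4, (sp_iff M).2 h⟩

theorem ρ_mk (M : Matrix (Fin 2 ⊕ Fin 2) (Fin 2 ⊕ Fin 2) F) (h : M * Ωm F * Mᵀ = Ωm F) :
    (spRep F).ρ (mk M h) = M := e4_e4 F M

theorem form_ρ (g : Γ F) : (spRep F).ρ g * Ωm F * ((spRep F).ρ g)ᵀ = Ωm F := by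
  rw [← sp_iff, spRep_ρ, e4_e4]
  exact g.2

theorem jj_sq : jj F * jj F = -1 := by
  ext i j
  fin_cases i <;> fin_cases j <;> simp [jj, Matrix.mul_apply, Fin.sum_univ_two]

theorem Ω_sq : Ωm F * Ωm F = -1 := by
  rw [fromBlocks_multiply, jj_sq, ← fromBlocks_one, fromBlocks_neg]
  simp

/-- the other form of the equation -/
theorem form_ρ' (g : Γ F) : ((spRep F).ρ g)ᵀ * Ωm F * (spRep F).ρ g = Ωm F := by
  have h1 := form_ρ g
  set M := (spRep F).ρ g
  have h2 : M * (-(Ωm F * Mᵀ * Ωm F)) = 1 := by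
    rw [Matrix.mul_neg, ← Matrix.mul_assoc, ← Matrix.mul_assoc, h1, Ω_sq, neg_neg]
  have h3 := mul_eq_one_comm.1 h2
  have h4 : Ωm F * (Ωm F * Mᵀ * Ωm F * M) = Ωm F * (-1) := by
    rw [show Ωm F * Mᵀ * Ωm F * M = -1 by rw [← neg_inj, ← Matrix.neg_mul, h3, neg_neg]]
  have h5 : Ωm F * (Ωm F * Mᵀ * Ωm F * M) = -(Mᵀ * Ωm F * M) := by
    rw [← Matrix.mul_assoc, ← Matrix.mul_assoc, ← Matrix.mul_assoc, Ω_sq]
    simp
  rw [h5, Matrix.mul_neg, Matrix.mul_one, neg_inj] at h4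
  exact h4

/-! ### transvections -/

/-- transvection in block coordinates -/
def TT (u : Fin 2 ⊕ Fin 2 → F) (c : F) : Matrix (Fin 2 ⊕ Fin 2) (Fin 2 ⊕ Fin 2) F :=
  1 + c • vecMulVec u (Ωm F *ᵥ u)

theorem submatrix_transvection (w : Fin 2 ⊕ Fin 2 → F) (c : F) :
    (Cfsg.sympTransvection 2 w c).submatrix e4 e4 = TT (fun i => w (e4 i)) c := by
  have h1 : ∀ i, (J (Fin 2) F *ᵥ w) (e4 i) = (Ωm F *ᵥ fun i => w (e4 i)) i := by
    intro i
    simp only [Ωm]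
    rw [← J_eq]
    simp only [mulVec, dotProduct, submatrix_apply]
    exact (Equiv.sum_comp e4 (fun j => J (Fin 2) F (e4 i) j * w j)).symm
  ext i j
  simp only [Cfsg.sympTransvection, TT, submatrix_apply, Matrix.add_apply, Matrix.smul_apply, vecMulVec_apply,
    smul_eq_mul, h1, one_apply, EmbeddingLike.apply_eq_iff_eq]

theorem exists_transvection (g : Γ F) (h : ∃ w c, (g : Matrix (Fin 2 ⊕ Fin 2) (Fin 2 ⊕ Fin 2) F) =
    Cfsg.sympTransvection 2 w c) : ∃ u c, (spRep F).ρ g = TT u c := by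
  obtain ⟨w, c, h⟩ := h
  exact ⟨_, c, by rw [spRep_ρ, h, submatrix_transvection]⟩

theorem ρ_mul_TT (g : Γ F) (u : Fin 2 ⊕ Fin 2 → F) (c : F) :
    (spRep F).ρ g * TT u c = TT ((spRep F).ρ g *ᵥ u) c * (spRep F).ρ g := by
  have h := form_ρ' g
  set M := (spRep F).ρ g
  rw [TT, TT, Matrix.mul_add, Matrix.add_mul, Matrix.mul_one, Matrix.one_mul, Matrix.mul_smul, Matrix.smul_mul,
    mul_vecMulVec, vecMulVec_mul]
  congr 3
  rw [← Matrix.mulVec_transpose, mulVec_mulVec, mulVec_mulVec]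
  rw [h]

theorem exists_TT (u : Fin 2 ⊕ Fin 2 → F) (c : F) : ∃ g : Γ F, (spRep F).ρ g = TT u c := by
  refine ⟨⟨Cfsg.sympTransvection 2 (fun i => u (e4 i)) c, Cfsg.Agent.S0764.result 2 _ c⟩, ?_⟩
  rw [spRep_ρ]
  change (Cfsg.sympTransvection 2 (fun i => u (e4 i)) c).submatrix e4 e4 = _
  rw [submatrix_transvection]
  congr 1
  funext i
  have : e4 (e4 i) = i := by simp [e4]
  rw [this]

/-- vectors of `SL₂` -/
theorem exists_sl_first {v : Fin 2 → F} (hv : v ≠ 0) : ∃ P : Matrix (Fin 2) (Fin 2) F, P.det = 1 ∧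
    P *ᵥ ![1, 0] = v := by
  by_cases h0 : v 0 = 0
  · have h1 : v 1 ≠ 0 := by
      intro h1
      exact hv (by ext i; fin_cases i <;> simp [h0, h1])
    refine ⟨!![0, -(v 1)⁻¹; v 1, 0], ?_, ?_⟩
    · simp [det_fin_two, h1]
    · ext i; fin_cases i <;> simp [mulVec, dotProduct, Fin.sum_univ_two, h0]
  · refine ⟨!![v 0, 0; v 1, (v 0)⁻¹], ?_, ?_⟩
    · simp [det_fin_two, h0]
    · ext i; fin_cases i <;> simp [mulVec, dotProduct, Fin.sum_univ_two]

theorem exists_sl {v w : Fin 2 → F} (hv : v ≠ 0) (hw : w ≠ 0) : ∃ P : Matrix (Fin 2) (Fin 2) F, P.det = 1 ∧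
    P *ᵥ v = w := by
  obtain ⟨A, hA, hA'⟩ := exists_sl_first hv
  obtain ⟨B, hB, hB'⟩ := exists_sl_first hw
  have h1 : A.adjugate * A = 1 := by rw [adjugate_mul, hA, one_smul]
  refine ⟨B * A.adjugate, by rw [det_mul, hB, det_adjugate, hA]; simp, ?_⟩
  rw [← hA', ← hB', ← mulVec_mulVec]
  congr 1
  rw [mulVec_mulVec, h1, one_mulVec]

theorem exists_vec {P R : Matrix (Fin 2) (Fin 2) F} (hP : P ≠ 0) (hR : R ≠ 0) :
    ∃ w : Fin 2 → F, P *ᵥ w ≠ 0 ∧ R *ᵥ w ≠ 0 := by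
  have key : ∀ A : Matrix (Fin 2) (Fin 2) F, A ≠ 0 → ∃ i, A *ᵥ (Pi.single i 1) ≠ 0 := by
    intro A hA
    by_contra h
    push Not at h
    apply hA
    ext i j
    have := congrFun (h j) i
    simpa using this
  obtain ⟨i, hi⟩ := key P hP
  obtain ⟨k, hk⟩ := key R hR
  by_cases h1 : R *ᵥ (Pi.single i 1) = 0
  · by_cases h2 : P *ᵥ (Pi.single k 1) = 0
    · refine ⟨Pi.single i 1 + Pi.single k 1, ?_, ?_⟩
      · rw [mulVec_add, h2, add_zero]; exact hi
      · rw [mulVec_add, h1, zero_add]; exact hk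
    · exact ⟨_, h2, hk⟩
  · exact ⟨_, hi, h1⟩

/-- transvections of the first block -/
theorem TT_left (w : Fin 2 → F) (c : F) : ∃ P, TT (Sum.elim w 0) c = fromBlocks P 0 0 1 := by
  refine ⟨1 + c • vecMulVec w (jj F *ᵥ w), ?_⟩
  ext i j
  rcases i with i | i <;> rcases j with j | j <;> fin_cases i <;> fin_cases j <;>
    simp [TT, vecMulVec_apply, fromBlocks_mulVec, one_apply]

theorem TT_right (w : Fin 2 → F) (c : F) : ∃ P, TT (Sum.elim 0 w) c = fromBlocks 1 0 0 P := by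
  refine ⟨1 + c • vecMulVec w (jj F *ᵥ w), ?_⟩
  ext i j
  rcases i with i | i <;> rcases j with j | j <;> fin_cases i <;> fin_cases j <;>
    simp [TT, vecMulVec_apply, fromBlocks_mulVec, one_apply]

/-- **generation** -/
theorem gen {M : Subgroup (Γ F)} (h1 : (spRep F).E1 ≤ M) (h2 : (spRep F).E2 ≤ M) {x : Γ F} (hx : x ∈ M)
    (hb : ¬ ∃ P S, (spRep F).ρ x = fromBlocks P 0 0 S) (ha : ¬ ∃ Q R, (spRep F).ρ x = fromBlocks 0 Q R 0) :
    M = ⊤ := by
  obtain ⟨P, Q, R, S, hX⟩ : ∃ P Q R S, (spRep F).ρ x = fromBlocks P Q R S := ⟨_, _, _, _, (fromBlocks_toBlocks _).symm⟩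
  have hf := form_ρ' x
  rw [hX, fromBlocks_transpose, fromBlocks_multiply, fromBlocks_multiply, fromBlocks_inj] at hf
  simp only [Matrix.mul_zero, add_zero, zero_add] at hf
  obtain ⟨f1, f2, f3, f4⟩ := hf
  have inv : ∀ A : Matrix (Fin 2) (Fin 2) F, Aᵀ * jj F * A = jj F → ∀ B, Aᵀ * jj F * B = 0 → B = 0 := by
    intro A hA B hB
    have h5 : (-(jj F * (Aᵀ * jj F))) * A = 1 := by
      rw [Matrix.neg_mul, Matrix.mul_assoc, hA, jj_sq, neg_neg]
    have h6 := mul_eq_one_comm.1 h5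
    calc B = (-(jj F * (Aᵀ * jj F))) * A * B := by rw [h5, Matrix.one_mul]
      _ = A * (-(jj F * (Aᵀ * jj F))) * B := by rw [h5, h6]
      _ = 0 := by
        rw [Matrix.mul_assoc, Matrix.neg_mul, Matrix.mul_assoc, hB]
        simp
  have hP : P ≠ 0 := by
    rintro rfl
    refine ha ⟨Q, R, ?_⟩
    rw [hX]
    have h5 : S = 0 := inv R (by simpa using f1) S (by simpa using f2)
    rw [h5]
  have hR : R ≠ 0 := by
    rintro rfl
    refine hb ⟨P, S, ?_⟩
    rw [hX]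
    have h5 : Q = 0 := inv P (by simpa using f1) Q (by simpa using f2)
    rw [h5]
  obtain ⟨w, hw1, hw2⟩ := exists_vec hP hR
  have hleft : ∀ w : Fin 2 → F, ∀ c, ∀ g : Γ F, (spRep F).ρ g = TT (Sum.elim w 0) c → g ∈ M := by
    intro w c g hg
    obtain ⟨A, hA⟩ := TT_left w c
    exact h1 ⟨A, by rw [hg, hA]⟩
  have hright : ∀ w : Fin 2 → F, ∀ c, ∀ g : Γ F, (spRep F).ρ g = TT (Sum.elim 0 w) c → g ∈ M := by
    intro w c g hg
    obtain ⟨A, hA⟩ := TT_right w c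
    exact h2 ⟨A, by rw [hg, hA]⟩
  have hblk : ∀ A B : Matrix (Fin 2) (Fin 2) F, A.det = 1 → B.det = 1 →
      ∃ g ∈ M, (spRep F).ρ g = fromBlocks A 0 0 B := by
    intro A B hA hB
    have e1 : ∃ g : Γ F, (spRep F).ρ g = fromBlocks A 0 0 1 :=
      (spRep_model F).ex A 1 ⟨hA, fun t ht => absurd ht (Set.notMem_empty t)⟩
        ⟨det_one, fun t ht => absurd ht (Set.notMem_empty t)⟩
    have e2 : ∃ g : Γ F, (spRep F).ρ g = fromBlocks 1 0 0 B :=
      (spRep_model F).ex 1 B ⟨det_one, fun t ht => absurd ht (Set.notMem_empty t)⟩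
        ⟨hB, fun t ht => absurd ht (Set.notMem_empty t)⟩
    obtain ⟨g, hg⟩ := e1
    obtain ⟨k, hk⟩ := e2
    refine ⟨g * k, M.mul_mem (h1 ⟨A, hg⟩) (h2 ⟨B, hk⟩), ?_⟩
    rw [map_mul, hg, hk, fromBlocks_multiply]
    simp
  have hmix : ∀ u1 u2 : Fin 2 → F, u1 ≠ 0 → u2 ≠ 0 → ∀ c, ∀ g : Γ F,
      (spRep F).ρ g = TT (Sum.elim u1 u2) c → g ∈ M := by
    intro u1 u2 hu1 hu2 c g hg
    obtain ⟨A, hA, hA'⟩ := exists_sl hw1 hu1
    obtain ⟨B, hB, hB'⟩ := exists_sl hw2 hu2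
    obtain ⟨k, hk, hk'⟩ := hblk A B hA hB
    obtain ⟨t, ht⟩ := exists_TT (Sum.elim w (0 : Fin 2 → F)) c
    have htM : t ∈ M := hleft w c t ht
    have h5 : (spRep F).ρ (k * x) *ᵥ Sum.elim w 0 = Sum.elim u1 u2 := by
      rw [map_mul, ← mulVec_mulVec, hX, hk', fromBlocks_mulVec, fromBlocks_mulVec]
      simp only [Sum.elim_comp_inl, Sum.elim_comp_inr, zero_mulVec, mulVec_zero, add_zero, zero_add, hA', hB']
    have h6 : (k * x) * t = g * (k * x) := by
      apply (spRep F).inj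
      rw [(spRep F).ρ.map_mul (k * x) t, (spRep F).ρ.map_mul g, ht, ρ_mul_TT, h5, hg]
    have h7 : g = (k * x) * t * (k * x)⁻¹ := by rw [h6]; group
    rw [h7]
    exact M.mul_mem (M.mul_mem (M.mul_mem hk hx) htM) (M.inv_mem (M.mul_mem hk hx))
  rw [eq_top_iff, ← Cfsg.Agent.S0765.result 2, closure_le]
  intro g hg
  obtain ⟨u, c, h⟩ := exists_transvection g hg
  have hu : u = Sum.elim (fun i => u (Sum.inl i)) (fun i => u (Sum.inr i)) := by
    funext i; rcases i with i | i <;> rfl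
  by_cases h5 : (fun i => u (Sum.inl i)) = 0
  · rw [h5] at hu
    rw [hu] at h
    exact hright _ c g h
  · by_cases h6 : (fun i => u (Sum.inr i)) = 0
    · rw [h6] at hu
      rw [hu] at h
      exact hleft _ c g h
    · rw [hu] at h
      exact hmix _ _ h5 h6 c g h


/-- `C_L(z₀)` consists of the block diagonal and the block antidiagonal elements -/
theorem blocks_or (h2 : (2 : F) ≠ 0) {g : Γ F} (hg : pr (Γ F) g * z0 (spRep F) = z0 (spRep F) * pr (Γ F) g) :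
    (∃ P S, (spRep F).ρ g = fromBlocks P 0 0 S) ∨ ∃ Q R, (spRep F).ρ g = fromBlocks 0 Q R 0 := by
  rw [z0, pr_comm] at hg
  obtain ⟨c, hc⟩ := (spRep F).cen _ hg
  set t := (spRep F).t with ht
  have h1 : (spRep F).ρ (g * t) = c • (spRep F).ρ (t * g) := by
    have h3 : g * t = (g * t * g⁻¹ * t⁻¹) * (t * g) := by group
    rw [h3, map_mul, hc, smul_mul_assoc, one_mul]
  have h4 : c = 1 ∨ c = -1 := by
    have h5 : (g * t * g⁻¹) * (g * t * g⁻¹) = 1 := by
      calc (g * t * g⁻¹) * (g * t * g⁻¹) = g * (t * t) * g⁻¹ := by group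
        _ = 1 := by rw [ht, (spRep F).t_sq]; group
    have h6 : (spRep F).ρ (g * t * g⁻¹) = c • (spRep F).ρ t := by
      have h7 : g * t * g⁻¹ = (g * t * g⁻¹ * t⁻¹) * t := by group
      rw [h7, map_mul, hc, smul_mul_assoc, one_mul]
    have h8 := congrArg (spRep F).ρ h5
    rw [map_mul, h6, smul_mul_smul_comm, ← map_mul, ht, (spRep F).t_sq, map_one] at h8
    have h9 : c * c = 1 := by
      have := congrFun (congrFun h8 (Sum.inl 0)) (Sum.inl 0)
      simpa using this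
    exact mul_self_eq_one_iff.1 h9
  rcases h4 with rfl | rfl
  · left
    refine (spRep F).blocks_of_comm h2 ?_
    rw [one_smul] at h1
    exact (spRep F).inj h1
  · right
    rw [map_mul, map_mul, ht, (spRep F).t_eq] at h1
    obtain ⟨P, Q, R, S, hX⟩ : ∃ P Q R S, (spRep F).ρ g = fromBlocks P Q R S :=
      ⟨_, _, _, _, (fromBlocks_toBlocks _).symm⟩
    rw [hX, fromBlocks_multiply, fromBlocks_multiply, fromBlocks_smul, fromBlocks_inj] at h1
    simp only [Matrix.mul_neg, Matrix.mul_one, Matrix.mul_zero, zero_add, add_zero, Matrix.neg_mul,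
      Matrix.one_mul, Matrix.zero_mul, neg_smul, one_smul, neg_neg] at h1
    obtain ⟨e1, -, -, e4⟩ := h1
    have h5 : P = 0 := by
      have : (2 : F) • P = 0 := by
        rw [two_smul]
        nth_rewrite 1 [← e1]
        exact neg_add_cancel _
      exact (smul_eq_zero.1 this).resolve_left h2
    have h6 : S = 0 := by
      have : (2 : F) • S = 0 := by
        rw [two_smul]
        nth_rewrite 1 [e4]
        exact neg_add_cancel _
      exact (smul_eq_zero.1 this).resolve_left h2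
    exact ⟨Q, R, by rw [hX, h5, h6]⟩

/-- the centre of `Sp₄(F)` has exponent 2 -/
theorem sq_of_center {ζ : Γ F} (h : ζ ∈ center (Γ F)) : ζ * ζ = 1 := by
  obtain ⟨c, hc⟩ := (spRep F).cen _ h
  have h1 := form_ρ ζ
  rw [hc, transpose_smul, transpose_one, Matrix.smul_mul, Matrix.one_mul, Matrix.smul_mul, Matrix.mul_smul,
    Matrix.mul_one, smul_smul] at h1
  have h2 : c * c = 1 := by
    have := congrFun (congrFun h1 (Sum.inl 1)) (Sum.inl 0)
    simpa [Ωm, jj] using this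
  apply (spRep F).inj
  rw [map_mul, hc, smul_mul_smul_comm, h2, one_smul, Matrix.one_mul, map_one]

end Cfsg.Agent.Cit.SpGen
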