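import Cfsg.Agent.Cit.SpGen
import Cfsg.Agent.Cit.SpFacts
import Cfsg.Agent.ClassicalGeometry.SLTwoFour

/-!
# `E / Z(E) ≅ PSp₄(F)`: lifting the facts to `E`

`Cov p φ K L z z'` : `E` perfect, `Z(E)` a 2-group, `φ : E → Sp₄(F) / Z` onto with kernel `Z(E)`, `K`, `L` commuting
subgroups `≅ SL₂(F)` over the two blocks, with involutions `z ≠ z'`.

* `Cov.center_le`, `Cov.center_eq` : `Z(E) = ⟨z z'⟩ ≤ K L` (transfer);
* `Cov.mem_sup` : `C_E(z) = K L`.
-/

set_option autoImplicit false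
set_option linter.style.haveILetI false
set_option linter.unusedSectionVars false

namespace Cfsg.Agent.Cit.SpLift

open Subgroup Cfsg Matrix Cfsg.Agent.Cit.LongAbs Cfsg.Agent.Cit.LongBlock Cfsg.Agent.Cit.LongQuot
  Cfsg.Agent.Cit.LongMain Cfsg.Agent.Cit.LongSp Cfsg.Agent.Cit.SpGen Cfsg.Agent.Cit.LongModel
  Cfsg.Agent.Cit.LongInst Cfsg.Agent.Cit.LongConj

/-- `SL₂(F)` -/
abbrev SL (F : Type*) [Field F] := SpecialLinearGroup (Fin 2) F

/-- `PSp₄(F)` -/
abbrev QQ (F : Type*) [Field F] := Γ F ⧸ center (Γ F)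

/-! ### Generalities -/

section Gen

variable {E : Type*} [Group E]

/-- `K` is generated by its `p`-elements -/
def PG (p : ℕ) (K : Subgroup E) : Prop :=
  ∀ X : Subgroup E, (∀ v ∈ K, ∀ n : ℕ, v ^ p ^ n = 1 → v ∈ X) → K ≤ X

/-- products of commuting subgroups -/
theorem mem_sup_comm {K L : Subgroup E} (h : ∀ x ∈ K, ∀ y ∈ L, x * y = y * x) {x : E} :
    x ∈ K ⊔ L ↔ ∃ a ∈ K, ∃ b ∈ L, x = a * b := by
  constructor
  · intro hx
    have h1 : K ⊔ L ≤ 
        { carrier := {x | ∃ a ∈ K, ∃ b ∈ L, x = a * b}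
          one_mem' := ⟨1, K.one_mem, 1, L.one_mem, by simp⟩
          mul_mem' := by
            rintro _ _ ⟨a, ha, b, hb, rfl⟩ ⟨c, hc, d, hd, rfl⟩
            refine ⟨a * c, K.mul_mem ha hc, b * d, L.mul_mem hb hd, ?_⟩
            calc a * b * (c * d) = a * (b * c) * d := by group
              _ = a * (c * b) * d := by rw [h c hc b hb]
              _ = a * c * (b * d) := by group
          inv_mem' := by
            rintro _ ⟨a, ha, b, hb, rfl⟩
            refine ⟨a⁻¹, K.inv_mem ha, b⁻¹, L.inv_mem hb, ?_⟩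
            rw [_root_.mul_inv_rev, h _ (K.inv_mem ha) _ (L.inv_mem hb)] : Subgroup E } := by
      refine sup_le (fun a ha => ⟨a, ha, 1, L.one_mem, by simp⟩) fun b hb => ⟨1, K.one_mem, b, hb, by simp⟩
    exact h1 hx
  · rintro ⟨a, ha, b, hb, rfl⟩
    exact mul_mem (mem_sup_left ha) (mem_sup_right hb)

/-- transfer: the central 2-elements of a perfect group lie in `P'`, `|E : P|` odd -/
theorem mem_commutator_of_central [Finite E] (hG : commutator E = ⊤) (P : Subgroup E)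
    (hodd : ¬ 2 ∣ P.index) {z : E} (hz : z ∈ P) (hc : z ∈ center E) {a : ℕ} (hz2 : z ^ 2 ^ a = 1) :
    z ∈ ⁅P, P⁆ := by
  let V : E →* Abelianization P := MonoidHom.transfer (Abelianization.of)
  have h1 : V z = 1 := by
    have h0 : commutator E ≤ V.ker := Abelianization.commutator_subset_ker V
    exact h0 (hG ▸ mem_top z)
  have h2 : V z = Abelianization.of ⟨z ^ P.index, Subgroup.pow_mem _ hz _⟩ := by
    have key : ∀ (k : ℕ) (g₀ : E), g₀⁻¹ * z ^ k * g₀ ∈ P → g₀⁻¹ * z ^ k * g₀ = z ^ k := by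
      intro k g₀ _
      have h3 := mem_center_iff.1 ((center E).pow_mem hc k) g₀
      rw [mul_assoc, ← h3, inv_mul_cancel_left]
    exact MonoidHom.transfer_eq_pow _ z key
  rw [h1] at h2
  have h3 : (⟨z ^ P.index, Subgroup.pow_mem _ hz _⟩ : P) ∈ commutator P := by
    rw [← Abelianization.ker_of, MonoidHom.mem_ker]
    exact h2.symm
  have h4 : z ^ P.index ∈ ⁅P, P⁆ := by
    rw [← Subgroup.map_subtype_commutator]
    exact ⟨_, h3, rfl⟩
  have h5 : (orderOf z).Coprime P.index := by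
    have h6 : orderOf z ∣ 2 ^ a := orderOf_dvd_of_pow_eq_one hz2
    refine Nat.Coprime.coprime_dvd_left h6 (Nat.Coprime.pow_left a ?_)
    exact (Nat.Prime.coprime_iff_not_dvd Nat.prime_two).2 hodd
  obtain ⟨m, hm⟩ := exists_pow_eq_self_of_coprime h5.symm
  rw [← hm]
  exact Subgroup.pow_mem _ h4 m

end Gen

/-! ### `SL₂(F)` -/

section SLF

variable {F : Type*} [Field F] {E : Type*} [Group E] {K : Subgroup E}

theorem sl_central (h2 : (2 : F) ≠ 0) (e : SL F ≃* K) {z : E} (hz : z ∈ K) (hz2 : z * z = 1) {x : E} (hx : x ∈ K) :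
    x * z = z * x := by
  by_cases h1 : z = 1
  · rw [h1, mul_one, one_mul]
  have h3 : e.symm ⟨z, hz⟩ = -1 := by
    refine eq_neg_one h2 ?_ fun h => h1 ?_
    · rw [← map_mul]
      have : (⟨z, hz⟩ * ⟨z, hz⟩ : K) = 1 := Subtype.ext hz2
      rw [this, map_one]
    · have := (e.symm.map_eq_one_iff).1 h
      exact congrArg Subtype.val this
  have h4 : (⟨x, hx⟩ : K) * ⟨z, hz⟩ = ⟨z, hz⟩ * ⟨x, hx⟩ := by
    apply e.symm.injective
    rw [map_mul, map_mul, h3]
    simp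
  exact congrArg Subtype.val h4

theorem sl_unique (h2 : (2 : F) ≠ 0) (e : SL F ≃* K) {z x : E} (hz : z ∈ K) (hz2 : z * z = 1) (hz1 : z ≠ 1) 
    (hx : x ∈ K) (hx2 : x * x = 1) (hx1 : x ≠ 1) : x = z := by
  have key : ∀ y : E, ∀ hy : y ∈ K, y * y = 1 → y ≠ 1 → e.symm ⟨y, hy⟩ = -1 := by
    intro y hy hy2 hy1
    refine eq_neg_one h2 ?_ fun h => hy1 ?_
    · rw [← map_mul]
      have : (⟨y, hy⟩ * ⟨y, hy⟩ : K) = 1 := Subtype.ext hy2
      rw [this, map_one]
    · have := (e.symm.map_eq_one_iff).1 h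
      exact congrArg Subtype.val this
  have h3 := (key x hx hx2 hx1).trans (key z hz hz2 hz1).symm
  exact congrArg Subtype.val (e.symm.injective h3)

theorem sl_center_sq (e : SL F ≃* K) {x : E} (hx : x ∈ K) (hc : ∀ y ∈ K, y * x = x * y) : x * x = 1 := by
  have h1 : e.symm ⟨x, hx⟩ ∈ center (SL F) := by
    rw [mem_center_iff]
    intro g
    apply e.injective
    rw [map_mul, map_mul, e.apply_symm_apply]
    exact Subtype.ext (hc _ (e g).2)
  obtain ⟨r, hr, hr2⟩ := Matrix.SpecialLinearGroup.mem_center_iff.1 h1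
  have h2 : e.symm ⟨x, hx⟩ * e.symm ⟨x, hx⟩ = 1 := by
    apply Subtype.ext
    change (e.symm ⟨x, hx⟩).1 * (e.symm ⟨x, hx⟩).1 = 1
    rw [← hr2, ← map_mul, ← pow_two, show r ^ 2 = 1 by simpa using hr, map_one]
  rw [← map_mul] at h2
  have h3 := (e.symm.map_eq_one_iff).1 h2
  exact congrArg Subtype.val h3

theorem sl_conj_four [Fintype F] (hF : Odd (Fintype.card F)) (h2 : (2 : F) ≠ 0) (e : SL F ≃* K) {z x y : E} 
    (hz1 : z ≠ 1) (hz2 : z * z = 1) (hx : x ∈ K) (hy : y ∈ K) (hxx : x * x = z) (hyy : y * y = z) :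
    ∃ k ∈ K, k * x * k⁻¹ = y := by
  have key : ∀ y : E, ∀ hy : y ∈ K, y * y = z → e.symm ⟨y, hy⟩ * e.symm ⟨y, hy⟩ = -1 := by
    intro y hy hyy
    refine eq_neg_one h2 ?_ fun h => hz1 ?_
    · rw [← map_mul, ← map_mul]
      have : ((⟨y, hy⟩ * ⟨y, hy⟩ : K) * (⟨y, hy⟩ * ⟨y, hy⟩ : K)) = 1 := Subtype.ext (by
        change (y * y) * (y * y) = 1
        rw [hyy, hz2])
      rw [this, map_one]
    · rw [← map_mul] at h
      have := congrArg Subtype.val ((e.symm.map_eq_one_iff).1 h)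
      rw [← hyy]
      exact this
  obtain ⟨g, hg⟩ := ClassicalGeometry.SLTwoFour.exists_conj_w hF _ (key x hx hxx)
  obtain ⟨k, hk⟩ := ClassicalGeometry.SLTwoFour.exists_conj_w hF _ (key y hy hyy)
  refine ⟨e (k * g⁻¹), (e (k * g⁻¹)).2, ?_⟩
  have h3 : (k * g⁻¹) * e.symm ⟨x, hx⟩ * (k * g⁻¹)⁻¹ = e.symm ⟨y, hy⟩ := by
    rw [← hg, ← hk]; group
  have h4 := congrArg e h3
  rw [map_mul, map_mul, map_inv, e.apply_symm_apply, e.apply_symm_apply] at h4
  exact congrArg Subtype.val h4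

theorem sl_pg {p : ℕ} [CharP F p] (e : SL F ≃* K) : PG p K := by
  have h0 : ∀ g : SL F, g ∈ Subgroup.closure {x : SL F | x ^ p = 1} := by
    let su (t : F) : SL F := ⟨!![1, t; 0, 1], by simp⟩
    let sl (t : F) : SL F := ⟨!![1, 0; t, 1], by simp⟩
    have hsu : ∀ (t : F) (n : ℕ), (su t) ^ n = su (n * t) := by
      intro t n
      induction n with
      | zero => 
        rw [pow_zero, Nat.cast_zero, zero_mul]
        apply Subtype.ext; ext i j; fin_cases i <;> fin_cases j <;> simp [su]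
      | succ n ih =>
        rw [pow_succ, ih]
        apply Subtype.ext
        show (su ((n : F) * t)).1 * (su t).1 = (su (((n + 1 : ℕ) : F) * t)).1
        ext i j
        fin_cases i <;> fin_cases j <;> simp [su, Matrix.mul_apply, Fin.sum_univ_two] <;> ring
    have hsl : ∀ (t : F) (n : ℕ), (sl t) ^ n = sl (n * t) := by
      intro t n
      induction n with
      | zero => 
        rw [pow_zero, Nat.cast_zero, zero_mul]
        apply Subtype.ext; ext i j; fin_cases i <;> fin_cases j <;> simp [sl]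
      | succ n ih =>
        rw [pow_succ, ih]
        apply Subtype.ext
        show (sl ((n : F) * t)).1 * (sl t).1 = (sl (((n + 1 : ℕ) : F) * t)).1
        ext i j
        fin_cases i <;> fin_cases j <;> simp [sl, Matrix.mul_apply, Fin.sum_univ_two] <;> ring
    have hu : ∀ t : F, su t ∈ Subgroup.closure {x : SL F | x ^ p = 1} := fun t => Subgroup.subset_closure (by
      change su t ^ p = 1
      rw [hsu, CharP.cast_eq_zero, zero_mul]
      apply Subtype.ext; ext i j; fin_cases i <;> fin_cases j <;> simp [su])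
    have hl : ∀ t : F, sl t ∈ Subgroup.closure {x : SL F | x ^ p = 1} := fun t => Subgroup.subset_closure (by
      change sl t ^ p = 1
      rw [hsl, CharP.cast_eq_zero, zero_mul]
      apply Subtype.ext; ext i j; fin_cases i <;> fin_cases j <;> simp [sl])
    have key : ∀ g : SL F, g.1 1 0 ≠ 0 → g ∈ Subgroup.closure {x : SL F | x ^ p = 1} := by
      intro g hc
      have hdet : g.1 0 0 * g.1 1 1 - g.1 0 1 * g.1 1 0 = 1 := by
        rw [← Matrix.det_fin_two]; exact g.2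
      have : g = su ((g.1 0 0 - 1) / g.1 1 0) * sl (g.1 1 0) * su ((g.1 1 1 - 1) / g.1 1 0) := by
        apply Subtype.ext
        show g.1 = (su ((g.1 0 0 - 1) / g.1 1 0)).1 * (sl (g.1 1 0)).1 *
          (su ((g.1 1 1 - 1) / g.1 1 0)).1
        ext i j
        fin_cases i <;> fin_cases j
        · simp [su, sl, Matrix.mul_apply, Fin.sum_univ_two, hc]
        · simp [su, sl, Matrix.mul_apply, Fin.sum_univ_two]
          field_simp
          linear_combination -hdet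
        · simp [su, sl, Matrix.mul_apply, Fin.sum_univ_two]
        · simp [su, sl, Matrix.mul_apply, Fin.sum_univ_two]
          field_simp
          ring
      rw [this]
      exact mul_mem (mul_mem (hu _) (hl _)) (hu _)
    intro g
    by_cases hc : g.1 1 0 = 0
    · have hdet : g.1 0 0 * g.1 1 1 - g.1 0 1 * g.1 1 0 = 1 := by
        rw [← Matrix.det_fin_two]; exact g.2
      have h1 : g * sl 1 ∈ Subgroup.closure {x : SL F | x ^ p = 1} := by
        apply key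
        have : (g * sl 1).1 1 0 = g.1 1 0 + g.1 1 1 := by
          change ((g.1 * (sl 1).1 : Matrix (Fin 2) (Fin 2) F)) 1 0 = _
          simp [sl, Matrix.mul_apply, Fin.sum_univ_two]
        rw [this, hc, zero_add]
        intro h
        rw [hc, h] at hdet
        simp at hdet
      have h2 := mul_mem h1 (inv_mem (hl 1))
      rwa [mul_inv_cancel_right] at h2
    · exact key g hc
  intro X hX k hk
  have h1 : ∀ g : SL F, ((e g : K) : E) ∈ X := by
    intro g
    have h2 : Subgroup.closure {x : SL F | x ^ p = 1} ≤ X.comap (K.subtype.comp e.toMonoidHom) := by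
      rw [closure_le]
      intro x hx
      refine hX _ (e x).2 1 ?_
      have h3 : x ^ p = 1 := hx
      have h4 := congrArg (fun y => ((e y : K) : E)) h3
      rw [pow_one]
      simpa using h4
    exact h2 (h0 g)
  have h5 := h1 (e.symm ⟨k, hk⟩)
  rwa [e.apply_symm_apply] at h5

theorem eD1 (F : Type*) [Field F] : Nonempty (SL F ≃* D1 (spRep F)) := by
  obtain ⟨e⟩ := (spRep_model F).equiv1
  obtain ⟨e'⟩ := un_empty_equiv F (Fin 2)
  exact ⟨(e'.symm.trans e.symm).trans (D1Equiv (spRep F))⟩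

theorem eD2 (F : Type*) [Field F] : Nonempty (SL F ≃* D2 (spRep F)) := by
  obtain ⟨e⟩ := (spRep_model F).equiv2
  obtain ⟨e'⟩ := un_empty_equiv F (Fin 2)
  exact ⟨(e'.symm.trans e.symm).trans (D2Equiv (spRep F))⟩

theorem inj_of_equiv [Finite F] {Q : Type*} [Group Q] {φ : E →* Q} {D : Subgroup Q} (hK : K.map φ = D) 
    (e : SL F ≃* K) (e' : SL F ≃* D) {x : E} (hx : x ∈ K) (h : φ x = 1) : x = 1 := by
  subst hK
  haveI : Finite K := Finite.of_equiv _ e.toEquiv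
  have h1 : Function.Bijective (φ.subgroupMap K) :=
    (Nat.bijective_iff_surjective_and_card _).2 ⟨φ.subgroupMap_surjective K, Nat.card_congr (e.symm.trans e').toEquiv⟩
  have h2 : (⟨x, hx⟩ : K) = 1 := h1.1 (by
    rw [map_one]
    exact Subtype.ext h)
  exact congrArg Subtype.val h2

end SLF

/-! ### the cover -/

section Cov

variable {F : Type*} [Field F] [Fintype F] {E : Type*} [Group E] [Finite E]

/-- `E / Z(E) ≅ PSp₄(F)`, `K` and `L` lie over the two blocks -/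
structure Cov (φ : E →* QQ F) (K L : Subgroup E) (z z' : E) : Prop where
  odd : Odd (Fintype.card F)
  surj : Function.Surjective φ
  ker : φ.ker = center E
  perf : commutator E = ⊤
  two : IsPGroup 2 (center E)
  eK : Nonempty (SL F ≃* K)
  eL : Nonempty (SL F ≃* L)
  mK : K.map φ = D1 (spRep F)
  mL : L.map φ = D2 (spRep F)
  comm : ∀ x ∈ K, ∀ y ∈ L, x * y = y * x
  zK : z ∈ K
  z2 : z * z = 1
  z1 : z ≠ 1
  zL : z' ∈ L
  z2' : z' * z' = 1
  z1' : z' ≠ 1
  ne : z ≠ z'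
  syl : ∃ S : Sylow 2 (QQ F), ∀ s ∈ (S : Subgroup (QQ F)), s * z0 (spRep F) = z0 (spRep F) * s

namespace Cov

variable {φ : E →* QQ F} {K L : Subgroup E} {z z' : E} (c : Cov φ K L z z')
include c

theorem h2 : (2 : F) ≠ 0 := SignalizersComponents.SLQuasisimple.two_ne_zero_of_odd c.odd

theorem mem_center {x : E} : x ∈ center E ↔ φ x = 1 := by
  rw [← c.ker, MonoidHom.mem_ker]

theorem injK {x : E} (hx : x ∈ K) (h : φ x = 1) : x = 1 := by
  obtain ⟨e⟩ := c.eK
  obtain ⟨e'⟩ := eD1 F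
  exact inj_of_equiv c.mK e e' hx h

theorem injL {x : E} (hx : x ∈ L) (h : φ x = 1) : x = 1 := by
  obtain ⟨e⟩ := c.eL
  obtain ⟨e'⟩ := eD2 F
  exact inj_of_equiv c.mL e e' hx h

theorem injK' {x y : E} (hx : x ∈ K) (hy : y ∈ K) (h : φ x = φ y) : x = y := by
  have h1 := c.injK (K.mul_mem (K.inv_mem hx) hy) (by rw [map_mul, map_inv, h, inv_mul_cancel])
  exact inv_mul_eq_one.1 h1

theorem injL' {x y : E} (hx : x ∈ L) (hy : y ∈ L) (h : φ x = φ y) : x = y := by
  have h1 := c.injL (L.mul_mem (L.inv_mem hx) hy) (by rw [map_mul, map_inv, h, inv_mul_cancel])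
  exact inv_mul_eq_one.1 h1

theorem map_z : φ z = z0 (spRep F) := by
  have h1 : z0 (spRep F) ∈ K.map φ := by rw [c.mK]; exact z0_mem
  obtain ⟨x, hx, hx'⟩ := h1
  have hx2 : x * x = 1 := c.injK (K.mul_mem hx hx) (by rw [map_mul, hx', z0_mul])
  have hx1 : x ≠ 1 := by
    rintro rfl
    rw [map_one] at hx'
    have h5 : (spRep F).t ∈ center (Γ F) := pr_eq_one.1 hx'.symm
    have h6 := congrArg (spRep F).ρ (E1_center (spRep F) (spRep F).t_mem h5)
    rw [(spRep F).t_eq, map_one, ← fromBlocks_one, fromBlocks_inj] at h6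
    have h7 := congrFun (congrFun h6.1 0) 0
    simp at h7
    apply c.h2
    have : (1 : F) + 1 = 0 := by nth_rewrite 1 [← h7]; ring
    rw [← this]; norm_num
  obtain ⟨e⟩ := c.eK
  rw [← hx', sl_unique c.h2 e c.zK c.z2 c.z1 hx hx2 hx1]

theorem z0_mem' : z0 (spRep F) ∈ D2 (spRep F) := by
  have h1 : ∃ g : Γ F, (spRep F).ρ g = fromBlocks 1 0 0 (-1) :=
    (spRep_model F).ex 1 (-1) ⟨det_one, fun t ht => absurd ht (Set.notMem_empty t)⟩
      ⟨by rw [det_neg]; simp, fun t ht => absurd ht (Set.notMem_empty t)⟩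
  obtain ⟨g, hg⟩ := h1
  refine ⟨g, ⟨_, hg⟩, ?_⟩
  rw [z0]
  apply Cfsg.Agent.Cit.LongFiveB.pr_eq_of_smul (spRep F) (e := -1)
  rw [hg, (spRep F).t_eq, fromBlocks_smul]
  simp

theorem map_z' : φ z' = z0 (spRep F) := by
  have h1 : z0 (spRep F) ∈ L.map φ := by rw [c.mL]; exact c.z0_mem'
  obtain ⟨x, hx, hx'⟩ := h1
  have hx2 : x * x = 1 := c.injL (L.mul_mem hx hx) (by rw [map_mul, hx', z0_mul])
  have hx1 : x ≠ 1 := by
    rintro rfl
    have h3 := c.map_z
    rw [← hx', map_one] at h3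
    exact c.z1 (c.injK c.zK h3)
  obtain ⟨e⟩ := c.eL
  rw [← hx', sl_unique c.h2 e c.zL c.z2' c.z1' hx hx2 hx1]

theorem zz_center : z * z' ∈ center E := by
  rw [c.mem_center, map_mul, c.map_z, c.map_z', z0_mul]

/-- `p`-elements and central 2-elements -/
theorem eq_one_of_pow {p n : ℕ} (hp : Odd p) {y l ζ : E} (hy : y = l * ζ) (hyp : y ^ p ^ n = 1) (hlp : l ^ p ^ n = 1)
    (hζ : ζ ∈ center E) : ζ = 1 := by
  have h1 : ζ ^ p ^ n = 1 := by
    have h3 : Commute l ζ := (mem_center_iff.1 hζ l)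
    rw [hy, h3.mul_pow, hlp, one_mul] at hyp
    exact hyp
  obtain ⟨k, hk⟩ := c.two ⟨ζ, hζ⟩
  have h3 : ζ ^ 2 ^ k = 1 := congrArg Subtype.val hk
  have h4 : Nat.Coprime (p ^ n) (2 ^ k) := by
    apply Nat.Coprime.pow
    exact Nat.Coprime.symm (Nat.coprime_two_left.2 hp)
  have h5 := Nat.dvd_gcd (orderOf_dvd_of_pow_eq_one h1) (orderOf_dvd_of_pow_eq_one h3)
  rw [Nat.Coprime.gcd_eq_one h4] at h5
  exact orderOf_eq_one_iff.1 (Nat.dvd_one.1 h5)

theorem le_of_map_le {p : ℕ} (hp : Odd p) {M L' : Subgroup E} (hM : PG p M) (hinj : ∀ x ∈ L', φ x = 1 → x = 1)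
    (h : M.map φ ≤ L'.map φ) : M ≤ L' := by
  refine hM _ fun y hy n hn => ?_
  obtain ⟨l, hl, hly⟩ := h (mem_map_of_mem φ hy)
  have h1 : y = l * (l⁻¹ * y) := by group
  have h3 : l⁻¹ * y ∈ center E := by rw [c.mem_center, map_mul, map_inv, hly, inv_mul_cancel]
  have h4 : l ^ p ^ n = 1 := hinj _ (L'.pow_mem hl _) (by rw [map_pow, hly, ← map_pow, hn, map_one])
  have h5 := c.eq_one_of_pow hp h1 hn h4 h3
  rw [h1, h5, mul_one]
  exact hl

omit c in
theorem pg_map {p : ℕ} {M : Subgroup E} (hM : PG p M) {E' : Type*} [Group E'] (f : E →* E') : PG p (M.map f) := by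
  intro X hX
  rw [map_le_iff_le_comap]
  refine hM _ fun v hv n hn => ?_
  exact hX _ (mem_map_of_mem f hv) n (by rw [← map_pow, hn, map_one])

theorem char : ∃ p : ℕ, Odd p ∧ CharP F p ∧ p.Prime := by
  obtain ⟨p, hp⟩ := CharP.exists F
  haveI := hp
  obtain ⟨n, hp1, hc⟩ := FiniteField.card F p
  refine ⟨p, ?_, hp, hp1⟩
  have h1 := c.odd
  rw [hc] at h1
  exact (Nat.odd_pow_iff n.ne_zero).1 h1

/-- an element over a block antidiagonal matrix swaps `K` and `L` -/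
theorem swapK {x : E} {g : Γ F} (hg : φ x = pr (Γ F) g) {A B : Matrix (Fin 2) (Fin 2) F}
    (hA : (spRep F).ρ g = fromBlocks 0 A B 0) : cj x K ≤ L := by
  obtain ⟨p, hpo, hp, -⟩ := c.char
  haveI := hp
  obtain ⟨e⟩ := c.eK
  refine c.le_of_map_le hpo (pg_map (sl_pg e) _) (fun x hx h => c.injL hx h) ?_
  rw [c.mL, cj, Subgroup.map_map]
  rintro _ ⟨k, hk, rfl⟩
  have h1 : φ k ∈ D1 (spRep F) := by rw [← c.mK]; exact mem_map_of_mem φ hk
  obtain ⟨a, ⟨P, ha⟩, ha'⟩ := h1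
  have h3 : φ (x * k * x⁻¹) = pr (Γ F) (g * a * g⁻¹) := by
    rw [map_mul, map_mul, map_inv, hg, ← ha', map_mul, map_mul, map_inv]
  have h4 : (φ.comp (MulAut.conj x).toMonoidHom) k = pr (Γ F) (g * a * g⁻¹) := h3
  rw [h4]
  have h5 := (spRep F).ρ_mul_inv g
  rw [hA, ← fromBlocks_toBlocks ((spRep F).ρ g⁻¹), fromBlocks_multiply, ← fromBlocks_one, fromBlocks_inj] at h5
  simp only [Matrix.zero_mul, add_zero, zero_add] at h5
  obtain ⟨e1, e2, e3, e4⟩ := h5
  have e5 : ((spRep F).ρ g⁻¹).toBlocks₁₁ = 0 := by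
    calc ((spRep F).ρ g⁻¹).toBlocks₁₁ = (((spRep F).ρ g⁻¹).toBlocks₁₂ * B) * ((spRep F).ρ g⁻¹).toBlocks₁₁ := by
          rw [mul_eq_one_comm.1 e4, Matrix.one_mul]
      _ = 0 := by rw [Matrix.mul_assoc, e3, Matrix.mul_zero]
  have e6 : ((spRep F).ρ g⁻¹).toBlocks₂₂ = 0 := by
    calc ((spRep F).ρ g⁻¹).toBlocks₂₂ = (((spRep F).ρ g⁻¹).toBlocks₂₁ * A) * ((spRep F).ρ g⁻¹).toBlocks₂₂ := by
          rw [mul_eq_one_comm.1 e1, Matrix.one_mul]
      _ = 0 := by rw [Matrix.mul_assoc, e2, Matrix.mul_zero]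
  refine mem_map_of_mem _ ⟨B * P * ((spRep F).ρ g⁻¹).toBlocks₁₂, ?_⟩
  rw [map_mul, map_mul, hA, ha]
  nth_rewrite 1 [← fromBlocks_toBlocks ((spRep F).ρ g⁻¹)]
  rw [e5, e6, fromBlocks_multiply, fromBlocks_multiply]
  simp [e1]

theorem swapL {x : E} {g : Γ F} (hg : φ x = pr (Γ F) g) {A B : Matrix (Fin 2) (Fin 2) F}
    (hA : (spRep F).ρ g = fromBlocks 0 A B 0) : cj x L ≤ K := by
  obtain ⟨p, hpo, hp, -⟩ := c.char
  haveI := hp
  obtain ⟨e⟩ := c.eL
  refine c.le_of_map_le hpo (pg_map (sl_pg e) _) (fun x hx h => c.injK hx h) ?_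
  rw [c.mK, cj, Subgroup.map_map]
  rintro _ ⟨k, hk, rfl⟩
  have h1 : φ k ∈ D2 (spRep F) := by rw [← c.mL]; exact mem_map_of_mem φ hk
  obtain ⟨a, ⟨P, ha⟩, ha'⟩ := h1
  have h3 : φ (x * k * x⁻¹) = pr (Γ F) (g * a * g⁻¹) := by
    rw [map_mul, map_mul, map_inv, hg, ← ha', map_mul, map_mul, map_inv]
  have h4 : (φ.comp (MulAut.conj x).toMonoidHom) k = pr (Γ F) (g * a * g⁻¹) := h3
  rw [h4]
  have h5 := (spRep F).ρ_mul_inv g
  rw [hA, ← fromBlocks_toBlocks ((spRep F).ρ g⁻¹), fromBlocks_multiply, ← fromBlocks_one, fromBlocks_inj] at h5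
  simp only [Matrix.zero_mul, add_zero, zero_add] at h5
  obtain ⟨e1, e2, e3, e4⟩ := h5
  have e5 : ((spRep F).ρ g⁻¹).toBlocks₁₁ = 0 := by
    calc ((spRep F).ρ g⁻¹).toBlocks₁₁ = (((spRep F).ρ g⁻¹).toBlocks₁₂ * B) * ((spRep F).ρ g⁻¹).toBlocks₁₁ := by
          rw [mul_eq_one_comm.1 e4, Matrix.one_mul]
      _ = 0 := by rw [Matrix.mul_assoc, e3, Matrix.mul_zero]
  have e6 : ((spRep F).ρ g⁻¹).toBlocks₂₂ = 0 := by
    calc ((spRep F).ρ g⁻¹).toBlocks₂₂ = (((spRep F).ρ g⁻¹).toBlocks₂₁ * A) * ((spRep F).ρ g⁻¹).toBlocks₂₂ := by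
          rw [mul_eq_one_comm.1 e1, Matrix.one_mul]
      _ = 0 := by rw [Matrix.mul_assoc, e2, Matrix.mul_zero]
  refine mem_map_of_mem _ ⟨A * P * ((spRep F).ρ g⁻¹).toBlocks₂₁, ?_⟩
  rw [map_mul, map_mul, hA, ha]
  nth_rewrite 1 [← fromBlocks_toBlocks ((spRep F).ρ g⁻¹)]
  rw [e5, e6, fromBlocks_multiply, fromBlocks_multiply]
  simp [e4]

theorem conj_z {x : E} {g : Γ F} (hg : φ x = pr (Γ F) g) {A B : Matrix (Fin 2) (Fin 2) F}
    (hA : (spRep F).ρ g = fromBlocks 0 A B 0) : x * z * x⁻¹ = z' := by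
  obtain ⟨e⟩ := c.eL
  refine sl_unique c.h2 e c.zL c.z2' c.z1' (c.swapK hg hA ⟨z, c.zK, rfl⟩) ?_ ?_
  · calc x * z * x⁻¹ * (x * z * x⁻¹) = x * (z * z) * x⁻¹ := by group
      _ = 1 := by rw [c.z2]; group
  · intro h
    apply c.z1
    calc z = x⁻¹ * (x * z * x⁻¹) * x := by group
      _ = 1 := by rw [h]; group

/-- elements of the preimage of `C(z₀)` -/
theorem block_cases {x : E} (hx : φ x * z0 (spRep F) = z0 (spRep F) * φ x) :
    (∃ k ∈ K ⊔ L, ∃ ζ ∈ center E, x = k * ζ) ∨ (cj x K ≤ L ∧ cj x L ≤ K ∧ x * z * x⁻¹ = z') := by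
  obtain ⟨g, hg⟩ := pr_surjective (φ x)
  rw [← hg] at hx
  rcases blocks_or c.h2 hx with ⟨P, S, h⟩ | ⟨A, B, h⟩
  · left
    obtain ⟨hP, hS⟩ := spRep_blocks F h
    have h1 := (spRep_model F).split.mem (spRep F) h hP hS
    have h3 : φ x ∈ (K ⊔ L).map φ := by
      rw [← hg, Subgroup.map_sup, c.mK, c.mL, D1, D2, ← Subgroup.map_sup]
      exact mem_map_of_mem _ h1
    obtain ⟨k, hk, hkx⟩ := h3
    exact ⟨k, hk, k⁻¹ * x, by rw [c.mem_center, map_mul, map_inv, hkx, inv_mul_cancel], by group⟩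
  · right
    exact ⟨c.swapK hg.symm h, c.swapL hg.symm h, c.conj_z hg.symm h⟩

theorem center_le : center E ≤ K ⊔ L := by
  intro ζ hζ
  set P : Subgroup E := (CC (spRep F)).comap φ with hP
  have hPm : ∀ {x : E}, x ∈ P ↔ φ x * z0 (spRep F) = z0 (spRep F) * φ x := by
    intro x
    rw [hP, mem_comap, mem_centralizer_singleton_iff]
  have hodd : ¬ 2 ∣ P.index := by
    rw [hP, index_comap_of_surjective _ c.surj]
    obtain ⟨S, hS⟩ := c.syl
    have h1 : (S : Subgroup (QQ F)) ≤ CC (spRep F) := fun s hs => mem_centralizer_singleton_iff.2 (hS s hs)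
    intro h
    exact S.not_dvd_index (h.trans (index_dvd_of_le h1))
  obtain ⟨a, ha⟩ := c.two ⟨ζ, hζ⟩
  have hz2 : ζ ^ 2 ^ a = 1 := congrArg Subtype.val ha
  have hζP : ζ ∈ P := hPm.2 (by rw [c.mem_center.1 hζ]; simp)
  have h1 := mem_commutator_of_central c.perf P hodd hζP hζ hz2
  have hK : ∀ x ∈ K, x ∈ K ⊔ L := fun x hx => mem_sup_left hx
  have hL : ∀ x ∈ L, x ∈ K ⊔ L := fun x hx => mem_sup_right hx
  have hN : ∀ b : E, cj b K ≤ L → cj b L ≤ K → ∀ n ∈ K ⊔ L, b * n * b⁻¹ ∈ K ⊔ L := by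
    intro b h1 h3 n hn
    obtain ⟨x, hx, y, hy, rfl⟩ := (mem_sup_comm c.comm).1 hn
    have e : b * (x * y) * b⁻¹ = (b * x * b⁻¹) * (b * y * b⁻¹) := by group
    rw [e]
    exact mul_mem (hL _ (h1 ⟨x, hx, rfl⟩)) (hK _ (h3 ⟨y, hy, rfl⟩))
  have h3 : ⁅P, P⁆ ≤ K ⊔ L := by
    rw [commutator_le]
    intro a ha b hb
    rw [commutatorElement_def]
    rcases c.block_cases (hPm.1 ha) with ⟨n, hn, d, hd, rfl⟩ | ⟨h5, h6, -⟩
    · have hd' := mem_center_iff.1 hd
      have e : n * d * b * (n * d)⁻¹ * b⁻¹ = n * (b * n⁻¹ * b⁻¹) := by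
        calc n * d * b * (n * d)⁻¹ * b⁻¹ = n * (d * b) * d⁻¹ * n⁻¹ * b⁻¹ := by group
          _ = n * (b * d) * d⁻¹ * n⁻¹ * b⁻¹ := by rw [hd' b]
          _ = _ := by group
      rw [e]
      refine mul_mem hn ?_
      rcases c.block_cases (hPm.1 hb) with ⟨m, hm, f, hf, rfl⟩ | ⟨h7, h8, -⟩
      · have hf' := mem_center_iff.1 hf
        have e : m * f * n⁻¹ * (m * f)⁻¹ = m * n⁻¹ * m⁻¹ := by
          calc m * f * n⁻¹ * (m * f)⁻¹ = m * (f * n⁻¹) * f⁻¹ * m⁻¹ := by group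
            _ = m * (n⁻¹ * f) * f⁻¹ * m⁻¹ := by rw [hf' n⁻¹]
            _ = _ := by group
        rw [e]
        exact mul_mem (mul_mem hm (inv_mem hn)) (inv_mem hm)
      · exact hN b h7 h8 _ (inv_mem hn)
    · rcases c.block_cases (hPm.1 hb) with ⟨m, hm, f, hf, rfl⟩ | ⟨h7, h8, -⟩
      · have hf' := mem_center_iff.1 hf
        have e : a * (m * f) * a⁻¹ * (m * f)⁻¹ = (a * m * a⁻¹) * m⁻¹ := by
          calc a * (m * f) * a⁻¹ * (m * f)⁻¹ = a * m * (f * a⁻¹) * f⁻¹ * m⁻¹ := by group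
            _ = a * m * (a⁻¹ * f) * f⁻¹ * m⁻¹ := by rw [hf' a⁻¹]
            _ = _ := by group
        rw [e]
        exact mul_mem (hN a h5 h6 m hm) (inv_mem hm)
      · -- `b = a c`
        have h9 : a⁻¹ * b ∈ P := P.mul_mem (P.inv_mem ha) hb
        rcases c.block_cases (hPm.1 h9) with ⟨m, hm, f, hf, e⟩ | ⟨h10, -, -⟩
        · have hf' := mem_center_iff.1 hf
          have e2 : b = a * m * f := by rw [mul_assoc, ← e]; group
          have e3 : a * b * a⁻¹ * b⁻¹ = a * ((a * m * a⁻¹) * m⁻¹) * a⁻¹ := by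
            rw [e2]
            calc a * (a * m * f) * a⁻¹ * (a * m * f)⁻¹ = a * (a * m * (f * a⁻¹) * f⁻¹ * m⁻¹) * a⁻¹ := by group
              _ = a * (a * m * (a⁻¹ * f) * f⁻¹ * m⁻¹) * a⁻¹ := by rw [hf' a⁻¹]
              _ = _ := by group
          rw [e3]
          exact hN a h5 h6 _ (mul_mem (hN a h5 h6 m hm) (inv_mem hm))
        · exfalso
          have h11 : a⁻¹ * b * z * (a⁻¹ * b)⁻¹ ∈ L := h10 ⟨z, c.zK, rfl⟩
          have h12 : b * z * b⁻¹ ∈ L := h7 ⟨z, c.zK, rfl⟩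
          obtain ⟨e⟩ := c.eL
          obtain ⟨eK⟩ := c.eK
          have inv : ∀ y : E, y * z * y⁻¹ * (y * z * y⁻¹) = 1 ∧ y * z * y⁻¹ ≠ 1 := by
            intro y
            constructor
            · calc y * z * y⁻¹ * (y * z * y⁻¹) = y * (z * z) * y⁻¹ := by group
                _ = 1 := by rw [c.z2]; group
            · intro h
              apply c.z1
              calc z = y⁻¹ * (y * z * y⁻¹) * y := by group
                _ = 1 := by rw [h]; group
          have h13 : b * z * b⁻¹ = z' := sl_unique c.h2 e c.zL c.z2' c.z1' h12 (inv b).1 (inv b).2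
          have h14 : a⁻¹ * b * z * (a⁻¹ * b)⁻¹ = z' :=
            sl_unique c.h2 e c.zL c.z2' c.z1' h11 (inv _).1 (inv _).2
          have h15 : a * z' * a⁻¹ = z' := by
            calc a * z' * a⁻¹ = a * (a⁻¹ * b * z * (a⁻¹ * b)⁻¹) * a⁻¹ := by rw [h14]
              _ = b * z * b⁻¹ := by group
              _ = z' := h13
          have h16 : a * z' * a⁻¹ ∈ K := h6 ⟨z', c.zL, rfl⟩
          rw [h15] at h16
          exact c.ne (sl_unique c.h2 eK c.zK c.z2 c.z1 h16 c.z2' c.z1').symm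
  exact h3 h1

theorem center_eq {ζ : E} (hζ : ζ ∈ center E) : ζ = 1 ∨ ζ = z * z' := by
  obtain ⟨eK⟩ := c.eK
  obtain ⟨eL⟩ := c.eL
  obtain ⟨x, hx, y, hy, rfl⟩ := (mem_sup_comm c.comm).1 (c.center_le hζ)
  have h1 := mem_center_iff.1 hζ
  have hxx : x * x = 1 := by
    refine sl_center_sq eK hx fun k hk => ?_
    have h3 := h1 k
    have h4 := c.comm k hk y hy
    have : k * x * y = x * k * y := by
      calc k * x * y = k * (x * y) := by group
        _ = x * (y * k) := by rw [h3]; group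
        _ = x * k * y := by rw [← h4]; group
    exact mul_right_cancel this
  have hyy : y * y = 1 := by
    refine sl_center_sq eL hy fun k hk => ?_
    have h3 := h1 k
    have h4 := c.comm x hx k hk
    have : x * (k * y) = x * (y * k) := by
      calc x * (k * y) = (x * k) * y := by group
        _ = k * (x * y) := by rw [h4]; group
        _ = x * (y * k) := by rw [h3]; group
    exact mul_left_cancel this
  have h5 : φ x * φ y = 1 := by rw [← map_mul, c.mem_center.1 hζ]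
  have hz0 : z0 (spRep F) ≠ 1 := fun h => c.z1 (c.injK c.zK (by rw [c.map_z, h]))
  by_cases hx1 : x = 1
  · subst hx1
    rw [map_one, one_mul] at h5
    left
    rw [c.injL hy h5, one_mul]
  · have hxz := sl_unique c.h2 eK c.zK c.z2 c.z1 hx hxx hx1
    subst hxz
    by_cases hy1 : y = 1
    · subst hy1
      rw [map_one, mul_one, c.map_z] at h5
      exact absurd h5 hz0
    · right
      rw [sl_unique c.h2 eL c.zL c.z2' c.z1' hy hyy hy1]

/-- **(a)** `C_E(z) = K L` -/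
theorem mem_sup {x : E} (hx : x * z = z * x) : x ∈ K ⊔ L := by
  have h1 : φ x * z0 (spRep F) = z0 (spRep F) * φ x := by
    rw [← c.map_z, ← map_mul, hx, map_mul]
  rcases c.block_cases h1 with ⟨k, hk, ζ, hζ, rfl⟩ | ⟨-, -, h⟩
  · exact mul_mem hk (c.center_le hζ)
  · exfalso
    apply c.ne
    rw [← h, hx]
    group

end Cov

end Cov

end Cfsg.Agent.Cit.SpLift
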