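import Cfsg.Agent.Cit.SpLift
import Cfsg.Agent.Cit.Sp4M

/-!
# `E / Z(E) ≅ PSp₄(F)`: the subgroups `jL p ⊤ (v v')`

* `Cov.exists_jL` : `jL p ⊤ (v v') = Δ^Y`, `Δ = {x x^W : x ∈ K} ≅ SL₂(F)`, contains `z z'` and `v v'⁻¹`;
* `Cov.gen` : `E = ⟨K, L, jL p ⊤ (v v')⟩`;
* `Cov.aut` : an automorphism trivial on `K` and `L` has square 1.
-/

set_option autoImplicit false
set_option linter.style.haveILetI false
set_option linter.unusedSectionVars false

namespace Cfsg.Agent.Cit.SpLift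

open Subgroup Cfsg Matrix Cfsg.Agent.Cit.LongAbs Cfsg.Agent.Cit.LongBlock Cfsg.Agent.Cit.LongQuot
  Cfsg.Agent.Cit.LongMain Cfsg.Agent.Cit.LongSp Cfsg.Agent.Cit.SpGen Cfsg.Agent.Cit.LongModel
  Cfsg.Agent.Cit.LongInst Cfsg.Agent.Cit.LongConj Cfsg.Agent.Cit.Sp4

variable {F : Type*} [Field F] [Fintype F] {E : Type*} [Group E] [Finite E]

theorem isPGroup_zpowers {X : Type*} [Group X] {p n : ℕ} {x : X} (h : x ^ p ^ n = 1) : IsPGroup p (zpowers x) := by
  rintro ⟨_, i, rfl⟩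
  refine ⟨n, Subtype.ext ?_⟩
  change (x ^ i) ^ p ^ n = 1
  rw [← zpow_natCast, ← _root_.zpow_mul, mul_comm, _root_.zpow_mul, zpow_natCast, h, _root_.one_zpow]

theorem jL_conj_le {X : Type*} [Group X] (p : ℕ) (j Y : X) : cj Y (jL p ⊤ j) ≤ jL p ⊤ (Y * j * Y⁻¹) := by
  rw [cj, jL, MonoidHom.map_closure, closure_le]
  rintro _ ⟨x, ⟨-, hxp, hxj⟩, rfl⟩
  refine subset_closure ⟨mem_top _, ?_, ?_⟩
  · have h1 := hxp.map (MulAut.conj Y).toMonoidHom
    rwa [MonoidHom.map_zpowers] at h1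
  · change (Y * x * Y⁻¹) * (Y * j * Y⁻¹) = (Y * j * Y⁻¹) * (Y * x * Y⁻¹)
    calc (Y * x * Y⁻¹) * (Y * j * Y⁻¹) = Y * (x * j) * Y⁻¹ := by group
      _ = (Y * j * Y⁻¹) * (Y * x * Y⁻¹) := by rw [hxj]; group

theorem jL_conj {X : Type*} [Group X] (p : ℕ) (j Y : X) : jL p ⊤ (Y * j * Y⁻¹) = cj Y (jL p ⊤ j) := by
  refine le_antisymm ?_ (jL_conj_le p j Y)
  have h1 := jL_conj_le p (Y * j * Y⁻¹) Y⁻¹
  have h2 : Y⁻¹ * (Y * j * Y⁻¹) * Y⁻¹⁻¹ = j := by group
  rw [h2] at h1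
  intro x hx
  have h3 : Y⁻¹ * x * Y ∈ jL p ⊤ j := h1 ⟨x, hx, by simp⟩
  exact ⟨Y⁻¹ * x * Y, h3, by simp [mul_assoc]⟩

theorem jL_mul_center {X : Type*} [Group X] (p : ℕ) (j : X) {c : X} (hc : c ∈ center X) :
    jL p ⊤ (j * c) = jL p ⊤ j := by
  unfold jL
  congr 1
  ext x
  have h1 := mem_center_iff.1 hc x
  have h2 : x * (j * c) = j * c * x ↔ x * j = j * x := by
    constructor
    · intro h
      have h3 : x * j * c = j * x * c := by
        calc x * j * c = x * (j * c) := by group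
          _ = j * (c * x) := by rw [h]; group
          _ = j * x * c := by rw [← h1]; group
      exact mul_right_cancel h3
    · intro h
      calc x * (j * c) = (x * j) * c := by group
        _ = j * (x * c) := by rw [h]; group
        _ = j * c * x := by rw [h1]; group
  simp only [Set.mem_ofPred_eq, h2]

theorem eq_one_of_hom_center {E : Type*} [Group E] (hp : commutator E = ⊤) (γ : E →* center E) (x : E) :
    γ x = 1 := by
  have h5 : commutator E ≤ γ.ker := by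
    rw [commutator_def, commutator_le]
    intro a _ b _
    rw [MonoidHom.mem_ker, map_commutatorElement, commutatorElement_eq_one_iff_mul_comm]
    exact Subtype.ext (mem_center_iff.1 (γ b).2 _)
  exact MonoidHom.mem_ker.1 (h5 (hp ▸ mem_top x))

theorem exists_equiv_of_ker {E Q Q' : Type*} [Group E] [Group Q] [Group Q'] {φ : E →* Q} {ψ : E →* Q'}
    (hφ : Function.Surjective φ) (hψ : Function.Surjective ψ) (hk : φ.ker = ψ.ker) :
    ∃ β : Q ≃* Q', ∀ y : E, β (φ y) = ψ y := by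
  refine ⟨((QuotientGroup.quotientKerEquivOfSurjective φ hφ).symm.trans
    (QuotientGroup.quotientMulEquivOfEq hk)).trans (QuotientGroup.quotientKerEquivOfSurjective _ hψ), ?_⟩
  intro y
  have h1 : (QuotientGroup.quotientKerEquivOfSurjective φ hφ).symm (φ y) = QuotientGroup.mk y := by
    rw [MulEquiv.symm_apply_eq]
    rfl
  rw [MulEquiv.trans_apply, MulEquiv.trans_apply, h1]
  rfl

namespace Cov

variable {φ : E →* QQ F} {K L : Subgroup E} {z z' : E} (c : Cov φ K L z z')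
include c

theorem exists_K {P : Matrix (Fin 2) (Fin 2) F} (hP : P.det = 1) :
    ∃ x ∈ K, ∃ e : Γ F, (spRep F).ρ e = fromBlocks P 0 0 1 ∧ φ x = pr (Γ F) e := by
  have h1 : ∃ g : Γ F, (spRep F).ρ g = fromBlocks P 0 0 1 :=
    (spRep_model F).ex P 1 ⟨hP, fun t ht => absurd ht (Set.notMem_empty t)⟩
      ⟨det_one, fun t ht => absurd ht (Set.notMem_empty t)⟩
  obtain ⟨e, he⟩ := h1
  have h2 : pr (Γ F) e ∈ K.map φ := by
    rw [c.mK]
    exact mem_map_of_mem _ ⟨P, he⟩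
  obtain ⟨x, hx, hx'⟩ := h2
  exact ⟨x, hx, e, he, hx'⟩

theorem exists_L {P : Matrix (Fin 2) (Fin 2) F} (hP : P.det = 1) :
    ∃ x ∈ L, ∃ e : Γ F, (spRep F).ρ e = fromBlocks 1 0 0 P ∧ φ x = pr (Γ F) e := by
  have h1 : ∃ g : Γ F, (spRep F).ρ g = fromBlocks 1 0 0 P :=
    (spRep_model F).ex 1 P ⟨det_one, fun t ht => absurd ht (Set.notMem_empty t)⟩
      ⟨hP, fun t ht => absurd ht (Set.notMem_empty t)⟩
  obtain ⟨e, he⟩ := h1
  have h2 : pr (Γ F) e ∈ L.map φ := by
    rw [c.mL]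
    exact mem_map_of_mem _ ⟨P, he⟩
  obtain ⟨x, hx, hx'⟩ := h2
  exact ⟨x, hx, e, he, hx'⟩

theorem inf_eq {x : E} (hK : x ∈ K) (hL : x ∈ L) : x = 1 := by
  obtain ⟨eK⟩ := c.eK
  obtain ⟨eL⟩ := c.eL
  by_contra hx1
  have hxx : x * x = 1 := sl_center_sq eK hK fun y hy => c.comm y hy x hL
  exact c.ne ((sl_unique c.h2 eK c.zK c.z2 c.z1 hK hxx hx1).symm.trans
    (sl_unique c.h2 eL c.zL c.z2' c.z1' hL hxx hx1))

/-- `x ↦ x x^W` -/
noncomputable def dl {W : E} (hW : cj W K ≤ L) : K →* E where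
  toFun x := x * (W * x * W⁻¹)
  map_one' := by simp
  map_mul' := by
    intro x y
    have h1 : (y : E) * (W * x * W⁻¹) = (W * x * W⁻¹) * y := c.comm _ y.2 _ (hW ⟨x, x.2, rfl⟩)
    rw [Subgroup.coe_mul]
    calc (x : E) * y * (W * (x * y) * W⁻¹) = x * (y * (W * x * W⁻¹)) * (W * y * W⁻¹) := by group
      _ = x * (W * x * W⁻¹) * (y * (W * y * W⁻¹)) := by rw [h1]; group

theorem dl_apply {W : E} (hW : cj W K ≤ L) (x : K) : c.dl hW x = x * (W * x * W⁻¹) := rfl

theorem dl_injective {W : E} (hW : cj W K ≤ L) : Function.Injective (c.dl hW) := by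
  rw [injective_iff_map_eq_one]
  intro x hx
  rw [dl_apply] at hx
  have h1 : (x : E) = (W * x * W⁻¹)⁻¹ := eq_inv_of_mul_eq_one_left hx
  have h2 : (x : E) ∈ L := by
    rw [h1]
    exact L.inv_mem (hW ⟨x, x.2, rfl⟩)
  exact Subtype.ext (c.inf_eq x.2 h2)

/-- the data for `Δ` -/
theorem jL_W {p : ℕ} [Fact p.Prime] [CharP F p] {w : Γ F} (hw : (spRep F).ρ w = fromBlocks 0 1 (-1) 0) {W : E}
    (hWw : φ W = pr (Γ F) w) (hW : cj W K ≤ L) :
    (∀ g : Γ F, ∀ k, (spRep F).ρ g = fromBlocks k 0 0 k → ∃ x : K, φ (c.dl hW x) = pr (Γ F) g) ∧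
      jL p ⊤ W = (c.dl hW).range := by
  have hpo : Odd p := by
    obtain ⟨q, hq, hq', -⟩ := c.char
    haveI := hq'
    rwa [CharP.eq F ‹CharP F p› hq']
  have hww : w * w ∈ center (Γ F) := by
    refine (spRep F).mem_center_of_scalar (c := -1) ?_
    rw [map_mul, hw, fromBlocks_multiply, neg_smul, one_smul, ← fromBlocks_one, fromBlocks_neg]
    simp
  have key : ∀ g : Γ F, ∀ k, (spRep F).ρ g = fromBlocks k 0 0 k →
      ∃ x : K, φ (c.dl hW x) = pr (Γ F) g ∧ ∀ n, g ^ n = 1 → (x : E) ^ n = 1 := by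
    intro g k hg
    obtain ⟨hk, -⟩ := spRep_blocks F hg
    obtain ⟨x, hx, e, he, hxe⟩ := c.exists_K hk
    refine ⟨⟨x, hx⟩, ?_, ?_⟩
    · have h1 : e * w * e = g * w := by
        apply (spRep F).inj
        rw [map_mul, map_mul, map_mul, he, hw, hg, fromBlocks_multiply, fromBlocks_multiply, fromBlocks_multiply]
        simp
      rw [dl_apply]
      change φ (x * (W * x * W⁻¹)) = _
      rw [map_mul, map_mul, map_mul, map_inv, hxe, hWw, ← map_mul, ← map_inv, ← map_mul, ← map_mul]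
      congr 1
      calc e * (w * e * w⁻¹) = (e * w * e) * w⁻¹ := by group
        _ = g := by rw [h1]; group
    · intro n hn
      refine c.injK (K.pow_mem hx n) ?_
      rw [map_pow, hxe, ← map_pow, pr_eq_one]
      have h3 : e ^ n = 1 := by
        apply (spRep F).inj
        have h4 := congrArg (spRep F).ρ hn
        rw [map_pow, hg, fromBlocks_diagonal_pow, map_one, ← fromBlocks_one, fromBlocks_inj] at h4
        rw [map_pow, he, fromBlocks_diagonal_pow, h4.1, one_pow, fromBlocks_one, map_one]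
      rw [h3]
      exact (center (Γ F)).one_mem
  refine ⟨fun g k hg => (key g k hg).imp fun x hx => hx.1, le_antisymm ?_ ?_⟩
  · rw [jL, closure_le]
    rintro y ⟨-, hyp, hyW⟩
    obtain ⟨n, hn⟩ := hyp ⟨y, mem_zpowers y⟩
    have hn' : y ^ p ^ n = 1 := congrArg Subtype.val hn
    -- lift to an element of the same order
    obtain ⟨g', hg'⟩ := pr_surjective (φ y)
    have hpn : Odd (p ^ n) := hpo.pow
    obtain ⟨m, hm⟩ : ∃ m, (y ^ 2) ^ m = y := by
      apply exists_pow_eq_self_of_coprime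
      refine Nat.Coprime.coprime_dvd_right (orderOf_dvd_of_pow_eq_one hn') ?_
      exact Nat.coprime_two_left.2 hpn
    set g := (g' ^ 2) ^ m with hgdef
    have hg : pr (Γ F) g = φ y := by rw [hgdef, map_pow, map_pow, hg', ← map_pow, ← map_pow, hm]
    have hgn : g ^ p ^ n = 1 := by
      have h1 : g' ^ p ^ n ∈ center (Γ F) := by
        rw [← pr_eq_one, map_pow, hg', ← map_pow, hn', map_one]
      have h2 := sq_of_center h1
      calc g ^ p ^ n = (g' ^ p ^ n * g' ^ p ^ n) ^ m := by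
            rw [hgdef, ← pow_mul, ← pow_mul, ← pow_add, ← pow_mul]
            congr 1
            ring
        _ = 1 := by rw [h2, one_pow]
    have hgw : g * w = w * g := by
      have h1 : pr (Γ F) g * pr (Γ F) w = pr (Γ F) w * pr (Γ F) g := by
        rw [hg, ← hWw, ← map_mul, hyW, map_mul]
      rw [pr_comm] at h1
      set ζ := g * w * g⁻¹ * w⁻¹ with hζ
      have h2 := sq_of_center h1
      have h3 := mem_center_iff.1 h1
      have h4 : w * g * w⁻¹ = ζ⁻¹ * g := by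
        rw [hζ]; group
      have h5 : (w * g * w⁻¹) ^ p ^ n = 1 := by
        rw [conj_pow, hgn]; group
      have h6 : Commute ζ⁻¹ g := (Commute.inv_left (h3 g).symm)
      rw [h4, h6.mul_pow, hgn, mul_one, inv_pow, inv_eq_one] at h5
      obtain ⟨r, hr⟩ := hpn
      have h7 : ζ = 1 := by
        have : ζ ^ p ^ n = ζ := by
          rw [hr, pow_succ, pow_mul, pow_two, h2, one_pow, one_mul]
        rw [← this, h5]
      calc g * w = ζ * (w * g) := by rw [hζ]; group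
        _ = w * g := by rw [h7, one_mul]
    obtain ⟨k, hk⟩ := Sp4M.exists_diag_of_p c.h2 p (isPGroup_zpowers hgn) hw hgw
    obtain ⟨x, hx, hxn⟩ := key g k hk
    have h1 : y = c.dl hW x * ((c.dl hW x)⁻¹ * y) := by group
    have h2 : (c.dl hW x)⁻¹ * y ∈ center E := by
      rw [c.mem_center, map_mul, map_inv, hx, hg, inv_mul_cancel]
    have h3 : (c.dl hW x) ^ p ^ n = 1 := by
      have : x ^ p ^ n = 1 := Subtype.ext (by simpa using hxn _ hgn)
      rw [← map_pow, this, map_one]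
    have h4 := c.eq_one_of_pow hpo h1 hn' h3 h2
    rw [h1, h4, mul_one]
    exact ⟨x, rfl⟩
  · obtain ⟨eK⟩ := c.eK
    have h1 : PG p (c.dl hW).range := by
      have e := eK.trans (MonoidHom.ofInjective (c.dl_injective hW))
      exact sl_pg e
    refine h1 _ fun y hy n hn => subset_closure ⟨mem_top _, isPGroup_zpowers hn, ?_⟩
    obtain ⟨x, rfl⟩ := hy
    rw [dl_apply]
    have h2 : W * W ∈ center E := by
      rw [c.mem_center, map_mul, hWw, ← map_mul, pr_eq_one]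
      exact hww
    have h3 := mem_center_iff.1 h2 (x : E)
    have h4 : (x : E) * (W * x * W⁻¹) = (W * x * W⁻¹) * x := c.comm _ x.2 _ (hW ⟨x, x.2, rfl⟩)
    calc (x : E) * (W * x * W⁻¹) * W = (x : E) * W * x := by group
      _ = (x : E) * (W * W) * W⁻¹ * x := by group
      _ = (W * W) * x * W⁻¹ * x := by rw [h3]
      _ = W * ((W * x * W⁻¹) * x) := by group
      _ = W * (x * (W * x * W⁻¹)) := by rw [h4]

/-- **`jL p ⊤ (v v')`** -/
theorem exists_jL (p : ℕ) [Fact p.Prime] [CharP F p] {v v' : E} (hv : v ∈ K) (hv' : v' ∈ L) (hvv : v * v = z)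
    (hvv' : v' * v' = z') : Nonempty (SL F ≃* jL p ⊤ (v * v')) ∧ z * z' ∈ jL p ⊤ (v * v') ∧
      v * v'⁻¹ ∈ jL p ⊤ (v * v') := by
  obtain ⟨a, b, hab⟩ := exists_quat F
  obtain ⟨g0, w, h0, k, hk, hw, hg0, hh0, hgh⟩ := Sp4M.exists_conj c.h2 hab.1
  obtain ⟨W, hWw⟩ := c.surj (pr (Γ F) w)
  obtain ⟨G, hG⟩ := c.surj (pr (Γ F) g0)
  have hW : cj W K ≤ L := c.swapK hWw hw
  obtain ⟨hex, hjL⟩ := c.jL_W (p := p) hw hWw hW
  obtain ⟨eK⟩ := id c.eK
  obtain ⟨eL⟩ := id c.eL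
  have hjd : (jj F).det = 1 := by simp [jj, det_fin_two]
  obtain ⟨a1, ha1, e1, he1, hae1⟩ := c.exists_K hjd
  obtain ⟨a2, ha2, e2, he2, hae2⟩ := c.exists_L hjd
  -- `a1² = z`, `a2² = z'`
  have ha11 : a1 * a1 = z := by
    refine c.injK' (K.mul_mem ha1 ha1) c.zK ?_
    rw [map_mul, hae1, ← map_mul, c.map_z, z0]
    congr 1
    apply (spRep F).inj
    rw [map_mul, he1, (spRep F).t_eq, fromBlocks_multiply]
    simp [jj_sq]
  have ha22 : a2 * a2 = z' := by
    refine c.injL' (L.mul_mem ha2 ha2) c.zL ?_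
    rw [map_mul, hae2, ← map_mul, c.map_z', z0]
    apply Cfsg.Agent.Cit.LongFiveB.pr_eq_of_smul (spRep F) (e := -1)
    rw [map_mul, he2, (spRep F).t_eq, fromBlocks_multiply, fromBlocks_smul]
    simp [jj_sq]
  -- `G W G⁻¹ = a1 a2` modulo the centre
  have hz1 : (a1 * a2)⁻¹ * (G * W * G⁻¹) ∈ center E := by
    rw [c.mem_center, map_mul, map_inv, map_mul, map_mul, map_mul, map_inv, hae1, hae2, hG, hWw]
    have : e1 * e2 = g0 * w * g0⁻¹ := by
      apply (spRep F).inj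
      rw [hg0, map_mul, he1, he2, fromBlocks_multiply]
      simp
    rw [← map_mul, this, map_mul, map_mul, map_inv, inv_mul_cancel]
  -- `a1 a2⁻¹ = G (dl x) G⁻¹` modulo the centre
  obtain ⟨x, hx⟩ := hex _ _ hgh
  have hz2 : (G * c.dl hW x * G⁻¹)⁻¹ * (a1 * a2⁻¹) ∈ center E := by
    rw [c.mem_center, map_mul, map_inv, map_mul, map_mul, map_mul, map_inv, map_inv, hae1, hae2, hG, hx]
    have : e1 = h0 * e2 := by
      apply (spRep F).inj
      rw [map_mul, he1, hh0, he2, fromBlocks_multiply]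
      simp [jj_sq]
    rw [this]
    simp only [← map_inv, ← map_mul]
    rw [pr_eq_one]
    have e : (g0 * (g0⁻¹ * h0 * g0) * g0⁻¹)⁻¹ * (h0 * e2 * e2⁻¹) = 1 := by group
    rw [e]
    exact (center (Γ F)).one_mem
  obtain ⟨b1, hb1, hb1'⟩ := sl_conj_four c.odd c.h2 eK c.z1 c.z2 ha1 hv ha11 hvv
  obtain ⟨b2, hb2, hb2'⟩ := sl_conj_four c.odd c.h2 eL c.z1' c.z2' ha2 hv' ha22 hvv'
  set Y := b1 * b2 * G with hY
  have hprod : ∀ x ∈ K, ∀ y ∈ L, (b1 * b2) * (x * y) * (b1 * b2)⁻¹ = (b1 * x * b1⁻¹) * (b2 * y * b2⁻¹) := by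
    intro x hx y hy
    have h1 : b2 * x = x * b2 := (c.comm x hx b2 hb2).symm
    have h2 : b2 * y * b2⁻¹ * b1⁻¹ = b1⁻¹ * (b2 * y * b2⁻¹) :=
      (c.comm _ (K.inv_mem hb1) _ (L.mul_mem (L.mul_mem hb2 hy) (L.inv_mem hb2))).symm
    calc (b1 * b2) * (x * y) * (b1 * b2)⁻¹ = b1 * (b2 * x) * y * b2⁻¹ * b1⁻¹ := by group
      _ = b1 * x * (b2 * y * b2⁻¹ * b1⁻¹) := by rw [h1]; group
      _ = _ := by rw [h2]; group
  have hYW : ∃ ζ ∈ center E, Y * W * Y⁻¹ = v * v' * ζ := by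
    refine ⟨_, hz1, ?_⟩
    have h1 := hprod a1 ha1 a2 ha2
    rw [hb1', hb2'] at h1
    have h2 := mem_center_iff.1 hz1 (b1 * b2)⁻¹
    calc Y * W * Y⁻¹ = (b1 * b2) * ((a1 * a2) * ((a1 * a2)⁻¹ * (G * W * G⁻¹))) * (b1 * b2)⁻¹ := by
          rw [hY]; group
      _ = (b1 * b2) * (a1 * a2) * ((a1 * a2)⁻¹ * (G * W * G⁻¹) * (b1 * b2)⁻¹) := by group
      _ = (b1 * b2) * (a1 * a2) * (b1 * b2)⁻¹ * ((a1 * a2)⁻¹ * (G * W * G⁻¹)) := by rw [← h2]; group
      _ = _ := by rw [h1]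
  have hmain : jL p ⊤ (v * v') = cj Y (c.dl hW).range := by
    obtain ⟨ζ, hζ, h⟩ := hYW
    rw [← jL_mul_center p (v * v') hζ, ← h, jL_conj, hjL]
  have hzz : z * z' ∈ jL p ⊤ (v * v') := by
    rw [hmain]
    refine ⟨z * z', ⟨⟨z, c.zK⟩, ?_⟩, ?_⟩
    · rw [dl_apply]
      change z * (W * z * W⁻¹) = _
      rw [c.conj_z hWw hw]
    · have h1 := mem_center_iff.1 c.zz_center Y
      simp only [MulEquiv.coe_toMonoidHom, MulAut.conj_apply]
      rw [h1]
      group
  refine ⟨?_, hzz, ?_⟩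
  · rw [hmain]
    exact ⟨(eK.trans (MonoidHom.ofInjective (c.dl_injective hW))).trans (cjEquiv Y _)⟩
  · have h1 : v * v'⁻¹ = (Y * c.dl hW x * Y⁻¹) * ((G * c.dl hW x * G⁻¹)⁻¹ * (a1 * a2⁻¹)) := by
      have h2 := hprod a1 ha1 a2⁻¹ (L.inv_mem ha2)
      have h3 : b2 * a2⁻¹ * b2⁻¹ = v'⁻¹ := by rw [← hb2']; group
      rw [hb1', h3] at h2
      rw [← h2]
      have h4 := mem_center_iff.1 hz2 (b1 * b2)⁻¹
      calc (b1 * b2) * (a1 * a2⁻¹) * (b1 * b2)⁻¹ 
          = (b1 * b2) * ((G * c.dl hW x * G⁻¹) * (((G * c.dl hW x * G⁻¹)⁻¹ * (a1 * a2⁻¹)) * (b1 * b2)⁻¹)) := by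
            group
        _ = (b1 * b2) * ((G * c.dl hW x * G⁻¹) * ((b1 * b2)⁻¹ * ((G * c.dl hW x * G⁻¹)⁻¹ * (a1 * a2⁻¹)))) := by
            rw [h4]
        _ = _ := by rw [hY]; group
    rw [h1]
    refine mul_mem ?_ ?_
    · rw [hmain]
      exact ⟨_, ⟨x, rfl⟩, rfl⟩
    · rcases c.center_eq hz2 with h | h
      · rw [h]; exact one_mem _
      · rw [h]; exact hzz

/-- **(d)** `E = ⟨K, L, jL⟩` -/
theorem gen (p : ℕ) [Fact p.Prime] [CharP F p] {v v' : E} (hv : v ∈ K) (hv' : v' ∈ L) (hvv : v * v = z)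
    (hvv' : v' * v' = z') : K ⊔ L ⊔ jL p ⊤ (v * v') = ⊤ := by
  obtain ⟨⟨e⟩, hzz, hh⟩ := c.exists_jL p hv hv' hvv hvv'
  have hpo : Odd p := by
    obtain ⟨q, hq, hq', -⟩ := c.char
    haveI := hq'
    rwa [CharP.eq F ‹CharP F p› hq']
  obtain ⟨eK⟩ := id c.eK
  -- a `p`-element of `jL` not commuting with `z`
  obtain ⟨x, n, hxj, hxn, hxz⟩ : ∃ x, ∃ n : ℕ, x ∈ jL p ⊤ (v * v') ∧ x ^ p ^ n = 1 ∧ x * z ≠ z * x := by
    by_contra hcon
    push Not at hcon
    have h1 : jL p ⊤ (v * v') ≤ centralizer {z} := sl_pg (p := p) e _ fun x hx n hn =>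
      mem_centralizer_singleton_iff.2 (hcon x n hx hn)
    have h2 : ∀ y ∈ jL p ⊤ (v * v'), y * (v * v'⁻¹) = v * v'⁻¹ * y := by
      intro y hy
      have h3 := mem_centralizer_singleton_iff.1 (h1 hy)
      have h4 : Commute y (v * v') := jL_comm hy
      have h5 : v * v'⁻¹ = z * (v * v')⁻¹ := by
        have : v' * v = v * v' := (c.comm v hv v' hv').symm
        rw [← hvv]
        calc v * v'⁻¹ = v * (v * v⁻¹) * v'⁻¹ := by group
          _ = v * v * (v' * v)⁻¹ := by group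
          _ = v * v * (v * v')⁻¹ := by rw [this]
      rw [h5]
      exact ((show Commute y z from h3).mul_right h4.inv_right)
    have h3 := sl_center_sq e hh h2
    have h4 : v * v'⁻¹ * (v * v'⁻¹) = z * z' := by
      have h5 : v'⁻¹ * v = v * v'⁻¹ := (c.comm v hv _ (L.inv_mem hv')).symm
      have h6 : z'⁻¹ = z' := inv_eq_of_mul_eq_one_left c.z2'
      calc v * v'⁻¹ * (v * v'⁻¹) = v * (v'⁻¹ * v) * v'⁻¹ := by group
        _ = (v * v) * (v' * v')⁻¹ := by rw [h5]; group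
        _ = z * z' := by rw [hvv, hvv', h6]
    rw [h4] at h3
    apply c.ne
    calc z = z * (z' * z') := by rw [c.z2', mul_one]
      _ = (z * z') * z' := by group
      _ = z' := by rw [h3, one_mul]
  obtain ⟨g, hg⟩ := pr_surjective (φ x)
  have hnc : ¬ (φ x * z0 (spRep F) = z0 (spRep F) * φ x) := by
    intro h
    apply hxz
    -- `x z x⁻¹ = z` or `z'`; `x` has odd order
    have h1 : x * z * x⁻¹ * z⁻¹ ∈ center E := by
      rw [c.mem_center, map_mul, map_mul, map_mul, map_inv, map_inv, c.map_z, h]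
      group
    rcases c.center_eq h1 with h2 | h2
    · calc x * z = (x * z * x⁻¹ * z⁻¹) * (z * x) := by group
        _ = z * x := by rw [h2, one_mul]
    · -- `x² z x⁻² = z`
      have h3 : x * z * x⁻¹ = z * z' * z := by rw [← h2]; group
      have h4 := mem_center_iff.1 c.zz_center
      have h5 : x ^ 2 * z = z * x ^ 2 := by
        have h6 : x * (x * z * x⁻¹) * x⁻¹ = z := by
          rw [h3]
          have h7 : x * (z * z' * z) * x⁻¹ = (z * z') * (x * z * x⁻¹) := by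
            calc x * (z * z' * z) * x⁻¹ = (x * (z * z')) * z * x⁻¹ := by group
              _ = (z * z') * (x * z * x⁻¹) := by rw [h4 x]; group
          rw [h7, h3]
          have h8 : z' * z = z * z' := (c.comm z c.zK z' c.zL).symm
          calc z * z' * (z * z' * z) = z * (z' * z) * z' * z := by group
            _ = (z * z) * (z' * z') * z := by rw [h8]; group
            _ = z := by rw [c.z2, c.z2', one_mul, one_mul]
        calc x ^ 2 * z = (x * (x * z * x⁻¹) * x⁻¹) * x ^ 2 := by rw [pow_two]; group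
          _ = z * x ^ 2 := by rw [h6]
      have hpn : Odd (p ^ n) := hpo.pow
      obtain ⟨m, hm⟩ : ∃ m, (x ^ 2) ^ m = x := by
        apply exists_pow_eq_self_of_coprime
        refine Nat.Coprime.coprime_dvd_right (orderOf_dvd_of_pow_eq_one hxn) ?_
        exact Nat.coprime_two_left.2 hpn
      have h6 : Commute ((x ^ 2) ^ m) z := (show Commute (x ^ 2) z from h5).pow_left m
      rw [hm] at h6
      exact h6
  have hgen : ((K ⊔ L ⊔ jL p ⊤ (v * v')).map φ).comap (pr (Γ F)) = ⊤ := by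
    refine SpGen.gen (x := g) ?_ ?_ ?_ ?_ ?_
    · intro y hy
      have h1 : pr (Γ F) y ∈ K.map φ := by rw [c.mK]; exact mem_map_of_mem _ hy
      exact Subgroup.map_mono (le_sup_left.trans le_sup_left) h1
    · intro y hy
      have h1 : pr (Γ F) y ∈ L.map φ := by rw [c.mL]; exact mem_map_of_mem _ hy
      exact Subgroup.map_mono (le_sup_right.trans le_sup_left) h1
    · rw [mem_comap, hg]
      exact mem_map_of_mem _ (mem_sup_right hxj)
    · rintro ⟨P, S, h⟩
      apply hnc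
      rw [← hg, z0, ← map_mul, ← map_mul, (spRep F).comm_t_of_blocks h]
    · rintro ⟨P, S, h⟩
      apply hnc
      rw [← hg, z0, pr_comm]
      refine (spRep F).mem_center_of_scalar (c := -1) ?_
      have h1 : g * (spRep F).t * g⁻¹ * (spRep F).t⁻¹ = (g * (spRep F).t) * ((spRep F).t * g)⁻¹ := by group
      have h2 : (spRep F).ρ (g * (spRep F).t) = - (spRep F).ρ ((spRep F).t * g) := by
        rw [map_mul, map_mul, h, (spRep F).t_eq, fromBlocks_multiply, fromBlocks_multiply, fromBlocks_neg]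
        simp
      rw [h1, map_mul, h2, Matrix.neg_mul, ← map_mul, mul_inv_cancel, map_one, neg_smul, one_smul]
  rw [eq_top_iff]
  intro y _
  obtain ⟨g1, hg1⟩ := pr_surjective (φ y)
  have h1 : g1 ∈ ((K ⊔ L ⊔ jL p ⊤ (v * v')).map φ).comap (pr (Γ F)) := by rw [hgen]; exact mem_top _
  rw [mem_comap, hg1] at h1
  obtain ⟨m, hm, hmy⟩ := h1
  have h2 : m⁻¹ * y ∈ center E := by rw [c.mem_center, map_mul, map_inv, hmy, inv_mul_cancel]
  have h3 : y = m * (m⁻¹ * y) := by group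
  rw [h3]
  exact mul_mem hm (mem_sup_left (c.center_le h2))

/-- **(b)** -/
theorem aut {α : E ≃* E} (hK : ∀ x ∈ K, α x = x) (hL : ∀ x ∈ L, α x = x) (x : E) : α (α x) = x := by
  have hcen : ∀ {x : E}, x ∈ center E ↔ α x ∈ center E := by
    intro x
    constructor
    · intro h
      rw [mem_center_iff]
      intro y
      obtain ⟨y, rfl⟩ := α.surjective y
      rw [← map_mul, mem_center_iff.1 h, map_mul]
    · intro h
      rw [mem_center_iff]
      intro y
      apply α.injective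
      rw [map_mul, mem_center_iff.1 h, map_mul]
  have hk : φ.ker = (φ.comp α.toMonoidHom).ker := by
    ext y
    rw [MonoidHom.mem_ker, MonoidHom.mem_ker, ← c.mem_center, hcen, c.mem_center]
    rfl
  have hs : Function.Surjective (φ.comp α.toMonoidHom) := c.surj.comp α.surjective
  obtain ⟨β, hβ⟩ : ∃ β : QQ F ≃* QQ F, ∀ y : E, β (φ y) = φ (α y) := exists_equiv_of_ker c.surj hs hk
  have h1 : ∀ y ∈ D1 (spRep F), β y = y := by
    intro y hy
    rw [← c.mK] at hy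
    obtain ⟨k, hk, rfl⟩ := hy
    rw [hβ, hK k hk]
  have h2 : ∀ y ∈ D2 (spRep F), β y = y := by
    intro y hy
    rw [← c.mL] at hy
    obtain ⟨k, hk, rfl⟩ := hy
    rw [hβ, hL k hk]
  have h3 := Sp4M.aut_sq c.h2 h1 h2
  have h4 : ∀ y : E, y⁻¹ * α (α y) ∈ center E := by
    intro y
    rw [c.mem_center, map_mul, map_inv, ← hβ, ← hβ, h3, inv_mul_cancel]
  -- the homomorphism to the centre is trivial
  let γ : E →* center E :=
    { toFun := fun y => ⟨y⁻¹ * α (α y), h4 y⟩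
      map_one' := Subtype.ext (by simp)
      map_mul' := by
        intro y y'
        apply Subtype.ext
        change (y * y')⁻¹ * α (α (y * y')) = y⁻¹ * α (α y) * (y'⁻¹ * α (α y'))
        have h5 := mem_center_iff.1 (h4 y) y'⁻¹
        rw [map_mul, map_mul]
        calc (y * y')⁻¹ * (α (α y) * α (α y')) = y'⁻¹ * (y⁻¹ * α (α y)) * α (α y') := by group
          _ = y⁻¹ * α (α y) * y'⁻¹ * α (α y') := by rw [h5]
          _ = _ := by group }
  have h6 := eq_one_of_hom_center c.perf γ x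
  have h7 : x⁻¹ * α (α x) = 1 := congrArg Subtype.val h6
  exact (inv_mul_eq_one.1 h7).symm

end Cov

end Cfsg.Agent.Cit.SpLift
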