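import Cfsg.Agent.Cit.SpLift2

/-!
# `SpFacts` from `Cov`
-/

set_option autoImplicit false
set_option linter.style.haveILetI false
set_option linter.unusedSectionVars false

namespace Cfsg.Agent.Cit.SpLift

open Subgroup Cfsg Matrix Cfsg.Agent.Cit.Sp4 Cfsg.Agent.SignalizersComponents.Components

variable {F : Type} [Field F] [Fintype F] {H : Type*} [Group H] [Finite H]

theorem jL_map (p : ℕ) (D : Subgroup H) (j : D) : jL p D (j : H) = (jL p ⊤ j).map D.subtype := by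
  rw [jL, jL, MonoidHom.map_closure]
  congr 1
  ext x
  constructor
  · rintro ⟨hx, hxp, hxj⟩
    refine ⟨⟨x, hx⟩, ⟨mem_top _, ?_, Subtype.ext hxj⟩, rfl⟩
    obtain ⟨n, hn⟩ := hxp ⟨x, mem_zpowers x⟩
    have hn' : x ^ p ^ n = 1 := congrArg Subtype.val hn
    exact isPGroup_zpowers (n := n) (Subtype.ext (by simpa using hn'))
  · rintro ⟨x, ⟨-, hxp, hxj⟩, rfl⟩
    refine ⟨x.2, ?_, congrArg Subtype.val hxj⟩
    have h1 := hxp.map D.subtype
    rwa [MonoidHom.map_zpowers] at h1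

/-- the facts on `D` -/
theorem spFacts {p : ℕ} [Fact p.Prime] [CharP F p] {D K L : Subgroup H} (comp : IsComponent D) (hKD : K ≤ D)
    (hLD : L ≤ D) (hzK : zz K ∈ K) (hzL : zz L ∈ L) {φ : D →* QQ F}
    (c : Cov φ (K.subgroupOf D) (L.subgroupOf D) ⟨zz K, hKD hzK⟩ ⟨zz L, hLD hzL⟩) : SpFacts p F D K L where
  comp := comp
  left := hKD
  right := hLD
  eK := by
    obtain ⟨e⟩ := c.eK
    exact ⟨e.trans (subgroupOfEquivOfLe hKD)⟩
  eL := by
    obtain ⟨e⟩ := c.eL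
    exact ⟨e.trans (subgroupOfEquivOfLe hLD)⟩
  comm := fun x hx y hy => congrArg Subtype.val
    (c.comm ⟨x, hKD hx⟩ (mem_subgroupOf.2 hx) ⟨y, hLD hy⟩ (mem_subgroupOf.2 hy))
  ne := fun h => c.ne (Subtype.ext h)
  zcen := fun x hx => congrArg Subtype.val (mem_center_iff.1 c.zz_center ⟨x, hx⟩)
  cen := by
    intro x hx h
    have h1 : (⟨x, hx⟩ : D) ∈ K.subgroupOf D ⊔ L.subgroupOf D := c.mem_sup (Subtype.ext h)
    have h2 := mem_map_of_mem D.subtype h1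
    rw [Subgroup.map_sup, map_subgroupOf_eq_of_le hKD, map_subgroupOf_eq_of_le hLD] at h2
    exact h2
  cent := by
    intro u hu ho hK hL
    let α : D ≃* D := normalizerMonoidHom D ⟨u, hu⟩
    have hα : ∀ x : D, ((α x : D) : H) = u * x * u⁻¹ := fun x => rfl
    have fix : ∀ {M : Subgroup H}, u ∈ centralizer (M : Set H) → ∀ x ∈ M.subgroupOf D, α x = x := by
      intro M hM x hx
      apply Subtype.ext
      rw [hα, ← mem_centralizer_iff.1 hM x (mem_subgroupOf.1 hx)]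
      group
    have h1 := c.aut (α := α) (fix hK) (fix hL)
    have h2 : u ^ 2 ∈ centralizer (D : Set H) := by
      rw [mem_centralizer_iff]
      intro x hx
      have h3 := congrArg Subtype.val (h1 ⟨x, hx⟩)
      rw [hα, hα] at h3
      calc x * u ^ 2 = u * (u * x * u⁻¹) * u⁻¹ * u ^ 2 := by rw [h3]
        _ = u ^ 2 * x := by rw [pow_two]; group
    obtain ⟨m, hm⟩ : ∃ m, (u ^ 2) ^ m = u := by
      apply exists_pow_eq_self_of_coprime
      exact (Nat.Prime.coprime_iff_not_dvd Nat.prime_two).2 ho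
    rw [← hm]
    exact pow_mem h2 m
  iso := by
    intro v hv w hw hvv hww
    obtain ⟨⟨e⟩, -, -⟩ := c.exists_jL p (v := ⟨v, hKD hv⟩) (v' := ⟨w, hLD hw⟩) (mem_subgroupOf.2 hv)
      (mem_subgroupOf.2 hw) (Subtype.ext hvv) (Subtype.ext hww)
    have h1 := jL_map p D (⟨v, hKD hv⟩ * ⟨w, hLD hw⟩)
    rw [show v * w = ((⟨v, hKD hv⟩ * ⟨w, hLD hw⟩ : D) : H) from rfl, h1]
    exact ⟨e.trans (equivMapOfInjective _ _ D.subtype_injective)⟩
  zmem := by
    intro v hv w hw hvv hww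
    obtain ⟨-, h, -⟩ := c.exists_jL p (v := ⟨v, hKD hv⟩) (v' := ⟨w, hLD hw⟩) (mem_subgroupOf.2 hv)
      (mem_subgroupOf.2 hw) (Subtype.ext hvv) (Subtype.ext hww)
    have h1 := jL_map p D (⟨v, hKD hv⟩ * ⟨w, hLD hw⟩)
    rw [show v * w = ((⟨v, hKD hv⟩ * ⟨w, hLD hw⟩ : D) : H) from rfl, h1]
    exact mem_map_of_mem D.subtype h
  hmem := by
    intro v hv w hw hvv hww
    obtain ⟨-, -, h⟩ := c.exists_jL p (v := ⟨v, hKD hv⟩) (v' := ⟨w, hLD hw⟩) (mem_subgroupOf.2 hv)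
      (mem_subgroupOf.2 hw) (Subtype.ext hvv) (Subtype.ext hww)
    have h1 := jL_map p D (⟨v, hKD hv⟩ * ⟨w, hLD hw⟩)
    rw [show v * w = ((⟨v, hKD hv⟩ * ⟨w, hLD hw⟩ : D) : H) from rfl, h1]
    exact mem_map_of_mem D.subtype h
  gen := by
    intro v hv w hw hvv hww
    have h := c.gen p (v := ⟨v, hKD hv⟩) (v' := ⟨w, hLD hw⟩) (mem_subgroupOf.2 hv)
      (mem_subgroupOf.2 hw) (Subtype.ext hvv) (Subtype.ext hww)
    have h1 := jL_map p D (⟨v, hKD hv⟩ * ⟨w, hLD hw⟩)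
    rw [show v * w = ((⟨v, hKD hv⟩ * ⟨w, hLD hw⟩ : D) : H) from rfl, h1]
    have h2 := congrArg (Subgroup.map D.subtype) h
    rw [Subgroup.map_sup, Subgroup.map_sup, map_subgroupOf_eq_of_le hKD, map_subgroupOf_eq_of_le hLD] at h2
    rw [h2]
    intro x hx
    exact ⟨⟨x, hx⟩, mem_top _, rfl⟩

end Cfsg.Agent.Cit.SpLift
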