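import Cfsg.Agent.Cit.SLThreeMain
import Cfsg.Agent.Cit.TBasic
import Cfsg.Agent.Cit.TDef
import Cfsg.Agent.Cit.AutAct
import Cfsg.Agent.Cit.LemmaB

/-!
# A member inside a normal subgroup `J` of `C(z)` of the right type

`exists_mb` : `J ⊴ C(z)`, `z ∈ J`, `IsType J` ⇒ there is `M` with `Hyp (cls M)`, `zz M = z`, `Ty M`, `M ⊴ C(z)`,
`J = (M ⊓ J) O(J)` and the 2-elements of `M` are in `J` (and conversely).
-/

set_option autoImplicit false
set_option linter.style.haveILetI false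
set_option linter.unusedSectionVars false

namespace Cfsg.Agent.Cit.Sp4

open Subgroup Cfsg Cfsg.Agent.Cit
open Cfsg.Agent.Lib.PComponents
open Cfsg.Agent.SignalizersComponents Cfsg.Agent.SignalizersComponents.PLayerAut

universe u

variable {Y : Type u} [Group Y]

/-- a member over `z` inside `J` (modulo the core) -/
structure Mb (z : Y) (J M : Subgroup Y) : Prop where
  hyp : Hyp (cls M)
  zz : zz M = z
  ty : Ty M
  nor : centralizer {z} ≤ normalizer (M : Set Y)
  cov : ∀ x ∈ J, ∃ m ∈ M, m ∈ J ∧ m⁻¹ * x ∈ OO J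
  two : ∀ x ∈ M, ∀ n : ℕ, x ^ 2 ^ n = 1 → x ∈ J
  sub : ∀ x ∈ M, ∃ j ∈ J, j ∈ M ∧ j⁻¹ * x ∈ OO M

variable [Finite Y]

theorem mem_OO_iff {J : Subgroup Y} {x : Y} (hx : x ∈ J) : x ∈ OO J ↔ (⟨x, hx⟩ : J) ∈ oddCore J := by
  constructor
  · rintro ⟨y, hy, hyx⟩
    have : y = ⟨x, hx⟩ := Subtype.ext hyx
    rwa [← this]
  · intro h
    exact ⟨_, h, rfl⟩

theorem ty_cls' {K : Subgroup Y} (h : Ty K) : ∀ J ∈ cls K, Ty J := by
  rintro _ ⟨g, rfl⟩
  exact h.map_of_injective (MulAut.conj g).toMonoidHom (MulAut.conj g).injective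

/-- the case `SL₂(F)`, `|F| > 3`, `2.A₇` -/
theorem exists_mb_big {z : Y} (hz : orderOf z = 2) {J : Subgroup Y} (hJz : J ≤ centralizer ({z} : Set Y))
    (hzJ : z ∈ J) (hn : (J.subgroupOf (centralizer ({z} : Set Y))).Normal) (hty : IsType J)
    (hJ : Seven.IsBig (↥J ⧸ oddCore ↥J)) : ∃ M, Mb z J M := by
  have hp2 : Fact (Nat.Prime 2) := ⟨Nat.prime_two⟩
  have hsn : (J.subgroupOf (centralizer ({z} : Set Y))).IsSubnormal := hn.isSubnormal
  set X := centralizer ({z} : Set Y) with hX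
  set π := QuotientGroup.mk' (pPrimeCore 2 ↥X) with hπ
  set C := (J.subgroupOf X).map π with hC
  obtain ⟨e, -⟩ := PCompQuot.exists_quotient_equiv 2 hsn
  have eJ : (↥J ⧸ oddCore ↥J) ≃* ↥C := (IntrinsicDiag.quotSubgroupOf hJz).symm.trans e
  have hcomp : IsComponent C :=
    ⟨hsn.map (QuotientGroup.mk'_surjective _), PCompQuot.quasisimple_congr eJ hJ.quasisimple⟩
  obtain ⟨hK', hmap⟩ := isPComponent_pElem_comap hcomp
  set K' := pElem 2 (C.comap π) with hK'def
  have hK'J : K' ≤ J.subgroupOf X := pElem_comap_le hsn rfl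
  set K := K'.map X.subtype with hKdef
  have hKX : K ≤ X := map_subtype_le _
  have hKsub : K.subgroupOf X = K' := comap_map_eq_self_of_injective X.subtype_injective K'
  have hKJ : K ≤ J := by
    rintro _ ⟨y, hy, rfl⟩
    exact hK'J hy
  have hzK : z ∈ K := by
    refine ⟨⟨z, hJz hzJ⟩, ?_, rfl⟩
    refine mem_pElem (n := 1) ?_ ?_
    · exact ⟨⟨z, hJz hzJ⟩, hzJ, rfl⟩
    · apply Subtype.ext
      change z ^ 2 ^ 1 = 1
      rw [pow_one, ← hz, pow_orderOf_eq_one]
  have hKc : IsPComponent 2 (K.subgroupOf X) := by rw [hKsub]; exact hK'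
  obtain ⟨e', -⟩ := PCompQuot.exists_quotient_equiv 2 hKc.1
  have hmap' : (K.subgroupOf X).map π = C := by rw [hKsub]; exact hmap
  have eK : (↥K ⧸ oddCore ↥K) ≃* (↥J ⧸ oddCore ↥J) :=
    ((IntrinsicDiag.quotSubgroupOf hKX).symm.trans e').trans
      ((MulEquiv.subgroupCongr hmap').trans eJ.symm)
  obtain ⟨h1, h2⟩ := Seven.hyp_of_comp z hz K hKX hzK hKc (hJ.congr eK.symm)
  have hperf : ⁅K, K⁆ = K := by
    have h1 := Lib.PComponents.pcomp_perfect hKc
    have h2 := congrArg (Subgroup.map X.subtype) h1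
    rwa [Subgroup.map_commutator, map_subgroupOf_eq_of_le hKX] at h2
  refine ⟨K, h1, h2, Or.inr ⟨IsTy.congr eK.symm hty, hperf⟩, ?_, ?_, fun x hx _ _ => hKJ hx,
    fun x hx => ⟨x, hKJ hx, hx, by rw [inv_mul_cancel]; exact one_mem _⟩⟩
  · -- normality
    haveI hCn : C.Normal := Subgroup.Normal.map hn π (QuotientGroup.mk'_surjective _)
    have h3 : (⊤ : Subgroup X) ≤ normalizer (K' : Set X) := by
      refine le_trans ?_ (normalizer_le_normalizer_pElem (p := 2) (C.comap π))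
      haveI : (C.comap π).Normal := hCn.comap π
      rw [Subgroup.normalizer_eq_top]
    intro g hg
    rw [mem_normalizer_iff_cj]
    have h4 := mem_normalizer_iff_cj.1 (h3 (mem_top (⟨g, hg⟩ : X)))
    rw [hKdef]
    have h5 := congrArg (Subgroup.map X.subtype) h4
    have h6 : cj g (K'.map X.subtype) = (cj ⟨g, hg⟩ K').map X.subtype := by
      ext y
      rw [mem_cj]
      constructor
      · rintro ⟨k, hk, hky⟩
        refine ⟨⟨g, hg⟩ * k * (⟨g, hg⟩ : X)⁻¹, conj_mem_cj hk, ?_⟩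
        have hky' : (k : Y) = g⁻¹ * y * g := hky
        change g * (k : Y) * g⁻¹ = y
        rw [hky']; group
      · rintro ⟨k, hk, rfl⟩
        rw [SetLike.mem_coe, mem_cj] at hk
        exact ⟨_, hk, rfl⟩
    rw [h6]
    exact h5
  · intro x hx
    have hxC : π ⟨x, hJz hx⟩ ∈ C := ⟨⟨x, hJz hx⟩, hx, rfl⟩
    rw [← hmap] at hxC
    obtain ⟨k, hk, hkx⟩ := hxC
    refine ⟨k, ⟨k, hk, rfl⟩, hK'J hk, ?_⟩
    have h3 : k⁻¹ * ⟨x, hJz hx⟩ ∈ pPrimeCore 2 ↥X := by
      rw [← QuotientGroup.eq]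
      exact hkx
    have h4 : ((k : Y))⁻¹ * x ∈ J := J.mul_mem (J.inv_mem (hK'J hk)) hx
    have h5 : (J ⊓ OO X) ≤ OO J := by
      refine le_OO inf_le_left ?_ (fun h => odd_OO X (h.trans (card_dvd_of_le inf_le_right)))
      intro y hy
      have h6 : y ∈ normalizer (OO X : Set Y) := le_normalizer_OO X (hJz hy)
      rw [mem_normalizer_iff_cj] at h6 ⊢
      rw [cj_inf, h6, mem_normalizer_iff_cj.1 (le_normalizer hy)]
    exact h5 ⟨h4, ⟨_, h3, rfl⟩⟩

/-- the case `SL₂(3)` -/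
theorem exists_mb_three {z : Y} (hz : orderOf z = 2) {J : Subgroup Y} (hJz : J ≤ centralizer ({z} : Set Y))
    (hzJ : z ∈ J) (hn : (J.subgroupOf (centralizer ({z} : Set Y))).Normal) (hJ : SolvTwo.IsT J) : ∃ M, Mb z J M := by
  haveI : Fact (Nat.Prime 3) := ⟨Nat.prime_three⟩
  have hsn : (J.subgroupOf (centralizer ({z} : Set Y))).IsSubnormal := hn.isSubnormal
  obtain ⟨h1, h2, h3⟩ := SLThreeMain.exists_hyp z hz J hJz hzJ hsn (F := ZMod 3) (ZMod.card 3) hJ
  have hJn : centralizer ({z} : Set Y) ≤ normalizer (J : Set Y) := (normal_subgroupOf_iff_le_normalizer hJz).1 hn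
  refine ⟨J ⊔ OO (centralizer ({z} : Set Y)), h1, h2, Or.inl h3, ?_, ?_, ?_, ?_⟩
  · intro g hg
    rw [mem_normalizer_iff_cj, cj_sup, mem_normalizer_iff_cj.1 (hJn hg),
      mem_normalizer_iff_cj.1 (le_normalizer_OO _ hg)]
  · intro x hx
    exact ⟨x, mem_sup_left hx, hx, by rw [inv_mul_cancel]; exact one_mem _⟩
  · intro x hx n hxn
    -- the index of `J` is odd
    set R := J ⊔ OO (centralizer ({z} : Set Y)) with hR
    have hRn : R ≤ normalizer (J : Set Y) := sup_le le_normalizer ((OO_le _).trans hJn)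
    have hidx : ¬ 2 ∣ J.relIndex R := by
      intro h4
      rw [hR, sup_comm] at h4
      exact odd_OO _ (h4.trans (AutAct.relIndex_sup_dvd_card (hJz.trans (le_normalizer_OO _))))
    haveI : (J.subgroupOf R).Normal := (normal_subgroupOf_iff_le_normalizer le_sup_left).2 hRn
    have h5 : (⟨x, hx⟩ : R) ∈ J.subgroupOf R := by
      refine Ty.mem_of_odd_index (k := n) ?_ ?_
      · rw [← Nat.not_even_iff_odd, even_iff_two_dvd]; exact hidx
      · exact Subtype.ext (by simpa using hxn)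
    exact h5
  · intro x hx
    have hX : OO (centralizer ({z} : Set Y)) ≤ OO (J ⊔ OO (centralizer ({z} : Set Y))) := by
      refine le_OO le_sup_right (sup_le (hJz.trans (le_normalizer_OO _)) le_normalizer) (odd_OO _)
    obtain ⟨o, ho, j, hj, rfl⟩ := LB.exists_mul_of_mem_sup (hJz.trans (le_normalizer_OO _)) (by rwa [sup_comm] at hx)
    refine ⟨j, hj, mem_sup_left hj, hX ?_⟩
    have h4 : j⁻¹ ∈ normalizer (OO (centralizer ({z} : Set Y)) : Set Y) := le_normalizer_OO _ (hJz (J.inv_mem hj))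
    have h5 := (mem_normalizer_iff.1 h4 o).1 ho
    have h6 : j⁻¹ * (o * j) = j⁻¹ * o * j⁻¹⁻¹ := by group
    rw [h6]
    exact h5

/-- **a member inside `J`** -/
theorem exists_mb {z : Y} (hz : orderOf z = 2) {J : Subgroup Y} (hJz : J ≤ centralizer ({z} : Set Y))
    (hzJ : z ∈ J) (hn : (J.subgroupOf (centralizer ({z} : Set Y))).Normal) (hty : IsType J) : ∃ M, Mb z J M := by
  rcases Ty.IsTy.cases hty with h | h
  · exact exists_mb_big hz hJz hzJ hn hty h
  · exact exists_mb_three hz hJz hzJ hn h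

end Cfsg.Agent.Cit.Sp4
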