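import Cfsg.Agent.Cit.SpFam
import Cfsg.Agent.Cit.SpConn
import Cfsg.Agent.Cit.SpEnd
import Cfsg.Agent.LFourB.RConC

/-!
# Cores for `|Om(S)| = 3`, `z₁ z₂ z₃ = 1`, type `Sp₄(q)`: (Z1) and (2B) at `f`

* `All.exists_l` : the level `C(z₁) / O(C(z₁))`;
* `Fam.z1_nb` : **(Z1)** the members of the family with involution commuting with `z₁`;
* `Fam.tw` : **(2B)** at `f`.
-/

set_option autoImplicit false
set_option linter.style.haveILetI false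
set_option linter.unusedSectionVars false

namespace Cfsg.Agent.Cit.Sp4

open Subgroup Cfsg Cfsg.Agent.Cit Cfsg.Agent.Cit.CoresG Cfsg.Agent.Cit.TorFunctor

universe u

variable {G : Type u} [Group G] [Finite G] {Om : Set (Subgroup G)} {S : Sylow 2 G} {K1 K2 K3 : Subgroup G}
  {p : ℕ} {F : Type} [Field F] {v1 v2 v3 : G}

omit [Finite G] in
/-- `z_K` is central in `C(z_K) / O(C(z_K))` -/
theorem qt_zz_central {K : Subgroup G} (x : ThreeCore.HQ K) :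
    x * ThreeCore.qt K (zz K) = ThreeCore.qt K (zz K) * x := by
  obtain ⟨y, rfl⟩ := ThreeCore.pr_surjective K x
  have hz : zz K ∈ centralizer ({zz K} : Set G) := mem_centralizer_singleton_iff.2 rfl
  rw [ThreeCore.qt_eq hz, ← map_mul, ← map_mul]
  congr 1
  exact Subtype.ext (mem_centralizer_singleton_iff.1 y.2)

namespace All

/-- elements of square `-1` of `L ≅ SL₂(F)` are conjugate -/
theorem two_ne (g : All Om p F) : (2 : F) ≠ 0 := by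
  haveI := g.char
  haveI : Fact p.Prime := ⟨g.prime⟩
  intro h
  have h1 : ((2 : ℕ) : F) = 0 := by exact_mod_cast h
  rw [CharP.cast_eq_zero_iff F p] at h1
  exact g.odd ((Nat.prime_dvd_prime_iff_eq g.prime Nat.prime_two).1 h1)

/-- the conjugates of `z̄₂` under elements commuting with `f̄` are conjugates under `L` -/
theorem exists_l (g : All Om p F) (d : VD Om (S : Subgroup G) K1 K2 K3 v1 v2 v3) {γ : ThreeCore.HQ K1}
    (hγ : γ * ThreeCore.qt K1 (v1 * (v2 * v3)) = ThreeCore.qt K1 (v1 * (v2 * v3)) * γ) :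
    ∃ l ∈ jL p (CoreThree.PP Om K1 K2) (ThreeCore.qt K1 v2 * ThreeCore.qt K1 v3),
      γ * ThreeCore.qt K1 (zz K2) * γ⁻¹ = l * ThreeCore.qt K1 (zz K2) * l⁻¹ := by
  haveI := g.fin
  haveI := Fintype.ofFinite F
  have hS := S.isPGroup'
  have loc := g.vloc d
  obtain ⟨c1, c2, c3⟩ := g.cent_v d
  obtain ⟨m1, m2, m3, e2, e3⟩ := g.vbar d
  have jh := g.jh d
  have hfb := g.fbar d
  have hhL := g.h_mem d
  have hZc := fun x => qt_zz_central (K := K1) x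
  have hnor := loc.nor
  have hnor1 := loc.nor1
  have hcm := loc.facts.comm _ m2 _ m3
  have l2 := loc.facts.left m2
  have l3 := loc.facts.right m3
  have hone := loc.one
  have hcomm1 := loc.comm1
  have hz2 : ThreeCore.qt K1 (zz K2) = ThreeCore.qt K1 v2 * ThreeCore.qt K1 v2 := by rw [e2, loc.zt K2 d.m2]
  have hz3 : ThreeCore.qt K1 (zz K3) = ThreeCore.qt K1 v3 * ThreeCore.qt K1 v3 := by rw [e3, loc.zt K3 d.m3]
  have hzz : ThreeCore.qt K1 (zz K2) * ThreeCore.qt K1 (zz K3) = ThreeCore.qt K1 (zz K1) := by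
    rw [← ThreeCore.qt_mul (g.mem_cent d d.z2_mem d.z1_mem) (g.mem_cent d d.z3_mem d.z1_mem), d.mul23 g.tri]
  have hz11 : ThreeCore.qt K1 (zz K1) * ThreeCore.qt K1 (zz K1) = 1 := by
    have hz : zz K1 ∈ centralizer ({zz K1} : Set G) := mem_centralizer_singleton_iff.2 rfl
    rw [← ThreeCore.qt_mul hz hz, g.tri.hyp.zz_mul d.m1.1, ThreeCore.qt_one]
  have hz1ne : ThreeCore.qt K1 (zz K1) ≠ 1 := by
    have hz : zz K1 ∈ centralizer ({zz K1} : Set G) := mem_centralizer_singleton_iff.2 rfl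
    intro h
    have h3 := (ThreeCore.qt_eq_one hz).1 h
    apply odd_XX (zz K1)
    rw [← g.tri.hyp.orderOf_zz d.m1.1]
    exact Subgroup.orderOf_dvd_natCard _ h3
  have hz1t : zz (UseT.tr (centralizer {zz K1}) K1) = ThreeCore.qt K1 (zz K1) := loc.zt K1 d.m1
  have hsq : ThreeCore.qt K1 (v2 * v3⁻¹) * ThreeCore.qt K1 (v2 * v3⁻¹) = ThreeCore.qt K1 (zz K1) := by
    rw [← ThreeCore.qt_mul (mul_mem c2 (inv_mem c3)) (mul_mem c2 (inv_mem c3)), g.h_sq d]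
  have hh : ThreeCore.qt K1 (v2 * v3⁻¹) = ThreeCore.qt K1 v2 * (ThreeCore.qt K1 v3)⁻¹ := by
    rw [ThreeCore.qt_mul c2 (inv_mem c3), qt_inv c3]
  rw [hfb] at hγ
  have hcomf := jh.comm
  have hnorf := jh.nor
  rw [hfb] at hcomf hnorf
  have hzL := jh.zL
  obtain ⟨eL⟩ := jh.eL
  have h2 := g.two_ne
  clear jh hfb e2 e3
  generalize ThreeCore.qt K1 v1 = a1 at *
  generalize ThreeCore.qt K1 v2 = a2 at *
  generalize ThreeCore.qt K1 v3 = a3 at *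
  generalize ThreeCore.qt K1 (v2 * v3⁻¹) = hb at *
  generalize ThreeCore.qt K1 (zz K1) = z1 at *
  generalize ThreeCore.qt K1 (zz K2) = z2 at *
  generalize ThreeCore.qt K1 (zz K3) = z3 at *
  have t1 : γ * a1 * γ⁻¹ ∈ UseT.tr (centralizer {zz K1}) K1 := hnor1.conj_mem _ m1 γ
  have tj : γ * (a2 * a3) * γ⁻¹ ∈ CoreThree.PP Om K1 K2 := hnor.conj_mem _ (mul_mem l2 l3) γ
  obtain ⟨c, hc⟩ : ∃ c, c = a1⁻¹ * (γ * a1 * γ⁻¹) := ⟨_, rfl⟩
  have hcT : c ∈ UseT.tr (centralizer {zz K1}) K1 := by rw [hc]; exact mul_mem (inv_mem m1) t1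
  have hcj : c * (γ * (a2 * a3) * γ⁻¹) = a2 * a3 := by
    rw [hc]
    calc a1⁻¹ * (γ * a1 * γ⁻¹) * (γ * (a2 * a3) * γ⁻¹) = a1⁻¹ * (γ * (a1 * (a2 * a3))) * γ⁻¹ := by group
      _ = a2 * a3 := by rw [hγ]; group
  have hjj : a2 * a3 * (a2 * a3) = z1 := by
    rw [← hzz, hz2, hz3]
    calc a2 * a3 * (a2 * a3) = a2 * (a3 * a2) * a3 := by group
      _ = a2 * (a2 * a3) * a3 := by rw [hcm]
      _ = a2 * a2 * (a3 * a3) := by group
  have hjj' : γ * (a2 * a3) * γ⁻¹ * (γ * (a2 * a3) * γ⁻¹) = z1 := by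
    calc γ * (a2 * a3) * γ⁻¹ * (γ * (a2 * a3) * γ⁻¹) = γ * (a2 * a3 * (a2 * a3)) * γ⁻¹ := by group
      _ = z1 := by rw [hjj, hZc, mul_inv_cancel_right]
  have hcc : c * c = 1 := by
    have h3 := hcomm1 c hcT _ tj
    have h4 : c * c * z1 = z1 := by
      calc c * c * z1 = c * (c * (γ * (a2 * a3) * γ⁻¹)) * (γ * (a2 * a3) * γ⁻¹) := by rw [← hjj']; group
        _ = c * ((γ * (a2 * a3) * γ⁻¹) * c) * (γ * (a2 * a3) * γ⁻¹) := by rw [← h3]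
        _ = (c * (γ * (a2 * a3) * γ⁻¹)) * (c * (γ * (a2 * a3) * γ⁻¹)) := by simp only [mul_assoc]
        _ = z1 := by rw [hcj, hjj]
    exact mul_eq_right.1 h4
  have hc1 : c = 1 ∨ c = z1 := by
    rcases hone c hcT hcc with h | h
    · exact Or.inl h
    · exact Or.inr (h.trans hz1t)
  have hcL : c ∈ jL p (CoreThree.PP Om K1 K2) (a2 * a3) := by
    rcases hc1 with h | h
    · rw [h]; exact one_mem _
    · rw [h]; exact hzL
  have hcZ : ∀ x, x * c = c * x := by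
    rcases hc1 with h | h
    · intro x; rw [h, mul_one, one_mul]
    · rw [h]; exact hZc
  have hγL : γ * hb * γ⁻¹ ∈ jL p (CoreThree.PP Om K1 K2) (a2 * a3) := by
    have h3 := conj_mem_cj (g := γ) hhL
    rwa [hnorf γ hγ] at h3
  obtain ⟨l, hl, hlh⟩ := LFourB.RCon.conj_four h2 eL.symm (a := hb) (b := γ * hb * γ⁻¹ * c) (ζ := z1) hhL
    (mul_mem hγL hcL) hz1ne hz11 hsq (by
      calc γ * hb * γ⁻¹ * c * (γ * hb * γ⁻¹ * c) = γ * hb * γ⁻¹ * (c * (γ * hb * γ⁻¹)) * c := by group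
        _ = γ * hb * γ⁻¹ * ((γ * hb * γ⁻¹) * c) * c := by rw [hcZ (γ * hb * γ⁻¹)]
        _ = γ * (hb * hb) * γ⁻¹ * (c * c) := by group
        _ = z1 := by rw [hsq, hcc, mul_one, hZc, mul_inv_cancel_right])
  refine ⟨l, hl, ?_⟩
  have hzh : z2 = hb * a1⁻¹ * (a1 * (a2 * a3)) := by
    rw [hz2, hh]
    calc a2 * a2 = a2 * a3⁻¹ * (a3 * a2) := by group
      _ = a2 * a3⁻¹ * (a2 * a3) := by rw [hcm]
      _ = a2 * a3⁻¹ * a1⁻¹ * (a1 * (a2 * a3)) := by group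
  have hla : l * a1⁻¹ = a1⁻¹ * l := by
    have h3 : Commute a1 l := hcomm1 _ m1 l (jL_le hl)
    exact h3.inv_left.eq.symm
  have hta : a1 * c = γ * a1 * γ⁻¹ := by rw [hc]; group
  have hci : c⁻¹ = c := inv_eq_of_mul_eq_one_right hcc
  have e1 : γ * z2 * γ⁻¹ = γ * hb * γ⁻¹ * (γ * a1 * γ⁻¹)⁻¹ * (a1 * (a2 * a3)) := by
    calc γ * z2 * γ⁻¹ = γ * hb * a1⁻¹ * ((a1 * (a2 * a3)) * γ⁻¹) := by rw [hzh]; group
      _ = γ * hb * a1⁻¹ * (γ⁻¹ * (γ * (a1 * (a2 * a3))) * γ⁻¹) := by group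
      _ = γ * hb * a1⁻¹ * (γ⁻¹ * (a1 * (a2 * a3) * γ) * γ⁻¹) := by rw [hγ]
      _ = γ * hb * γ⁻¹ * (γ * a1 * γ⁻¹)⁻¹ * (a1 * (a2 * a3)) := by group
  have e2 : l * z2 * l⁻¹ = l * hb * l⁻¹ * a1⁻¹ * (a1 * (a2 * a3)) := by
    calc l * z2 * l⁻¹ = l * hb * a1⁻¹ * ((a1 * (a2 * a3)) * l⁻¹) := by rw [hzh]; group
      _ = l * hb * a1⁻¹ * (l⁻¹ * (l * (a1 * (a2 * a3))) * l⁻¹) := by group
      _ = l * hb * a1⁻¹ * (l⁻¹ * (a1 * (a2 * a3) * l) * l⁻¹) := by rw [hcomf l hl]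
      _ = l * hb * (a1⁻¹ * l⁻¹) * (a1 * (a2 * a3)) := by group
      _ = l * hb * (l⁻¹ * (l * a1⁻¹) * l⁻¹) * (a1 * (a2 * a3)) := by group
      _ = l * hb * (l⁻¹ * (a1⁻¹ * l) * l⁻¹) * (a1 * (a2 * a3)) := by rw [hla]
      _ = l * hb * l⁻¹ * a1⁻¹ * (a1 * (a2 * a3)) := by group
  rw [e1, e2, hlh, ← hta, mul_inv_rev, hci]
  group

end All

namespace Fam

variable {Fm : Set (Subgroup (UseT.HQ (centralizer ({v1 * (v2 * v3)} : Set G))))}
  {M1 : Subgroup (UseT.HQ (centralizer ({v1 * (v2 * v3)} : Set G)))}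

/-- members with the same involution are equal -/
theorem inj (fm : Fam Om p K1 K2 K3 v1 v2 v3 Fm M1)
    {M N : Subgroup (UseT.HQ (centralizer ({v1 * (v2 * v3)} : Set G)))} (hM : M ∈ Fm) (hN : N ∈ Fm)
    (h : zz M = zz N) : M = N := by
  obtain ⟨x, -, rfl⟩ := fm.cls M hM
  obtain ⟨y, -, rfl⟩ := fm.cls N hN
  generalize qh (v1 * (v2 * v3)) x = a at *
  generalize qh (v1 * (v2 * v3)) y = b at *
  have h1 : b * a⁻¹ ∈ centralizer ({zz (cj a M1)} : Set _) := by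
    rw [mem_centralizer_singleton_iff]
    have h2 : b * a⁻¹ * zz (cj a M1) * (b * a⁻¹)⁻¹ = zz (cj a M1) := by
      conv_rhs => rw [h]
      rw [fm.hyp.zz_cj fm.mem, fm.hyp.zz_cj fm.mem]
      group
    exact mul_inv_eq_iff_eq_mul.1 h2
  have h3 := mem_normalizer_iff_cj.1 (fm.nor _ hM h1)
  rw [← cj_mul, inv_mul_cancel_right] at h3
  exact h3.symm

/-- **(Z1)** : the members with involution commuting with `z₁` -/
theorem z1_nb (g : All Om p F) (d : VD Om (S : Subgroup G) K1 K2 K3 v1 v2 v3)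
    (fm : Fam Om p K1 K2 K3 v1 v2 v3 Fm M1)
    (hex : ∀ J ∈ Om, J ≠ K1 → zz J * zz K1 = zz K1 * zz J → zz J ∈ centralizer ({v1 * (v2 * v3)} : Set G) →
      ∃ x ∈ centralizer ({zz K1} : Set G), x ∈ centralizer ({v1 * (v2 * v3)} : Set G) ∧ zz J = x * zz K2 * x⁻¹)
    (htf : ∀ y ∈ XX (zz K1), y ∈ centralizer ({v1 * (v2 * v3)} : Set G) →
      y * zz K2 * y⁻¹ * (zz K2)⁻¹ ∈ XX (v1 * (v2 * v3)))
    {M2 : Subgroup (UseT.HQ (centralizer ({v1 * (v2 * v3)} : Set G)))} (hM2 : M2 ∈ Fm)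
    (hz2 : zz M2 = qh (v1 * (v2 * v3)) (zz K2))
    {M : Subgroup (UseT.HQ (centralizer ({v1 * (v2 * v3)} : Set G)))} (hM : M ∈ Fm)
    (hc : zz M * zz M1 = zz M1 * zz M) : M = M1 ∨ ∃ m ∈ M1, M = cj m M2 := by
  have hyp := g.tri.hyp
  have z1f : zz K1 ∈ centralizer ({v1 * (v2 * v3)} : Set G) := g.mem_cent d d.z1_mem self_mem_AA
  have z2f : zz K2 ∈ centralizer ({v1 * (v2 * v3)} : Set G) := g.mem_cent d d.z2_mem self_mem_AA
  have z2c : zz K2 ∈ centralizer ({zz K1} : Set G) := g.mem_cent d d.z2_mem d.z1_mem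
  have fc : v1 * (v2 * v3) ∈ centralizer ({zz K1} : Set G) := g.mem_cent d self_mem_AA d.z1_mem
  obtain ⟨x, hx, hxM⟩ := fm.cls M hM
  have hw0 : x * zz K1 * x⁻¹ ∈ centralizer ({v1 * (v2 * v3)} : Set G) := mul_mem (mul_mem hx z1f) (inv_mem hx)
  have hzM : zz M = qh (v1 * (v2 * v3)) (x * zz K1 * x⁻¹) := by
    rw [← hxM, fm.hyp.zz_cj fm.mem, fm.z1, qh_mul (mul_mem hx z1f) (inv_mem hx), qh_mul hx z1f, qh_inv hx]
  have h11 := hyp.zz_mul d.m1.1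
  have hww : x * zz K1 * x⁻¹ * (x * zz K1 * x⁻¹) = 1 := by
    calc x * zz K1 * x⁻¹ * (x * zz K1 * x⁻¹) = x * (zz K1 * zz K1) * x⁻¹ := by group
      _ = 1 := by rw [h11]; group
  obtain ⟨y, hy, hyc⟩ := ThreeCore.exists_conj_comm (X := XX (v1 * (v2 * v3))) (odd_XX _) (u := zz K1)
    (g := x * zz K1 * x⁻¹) h11 hww (centralizer_le_normalizer_XX _ z1f) (centralizer_le_normalizer_XX _ hw0) (by
      rw [← qh_eq_one (mul_mem (mul_mem (mul_mem z1f hw0) (inv_mem z1f)) (inv_mem hw0)),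
        qh_mul (mul_mem (mul_mem z1f hw0) (inv_mem z1f)) (inv_mem hw0), qh_mul (mul_mem z1f hw0) (inv_mem z1f),
        qh_mul z1f hw0, qh_inv z1f, qh_inv hw0, ← hzM, ← fm.z1, ← hc]
      group)
  have hyf := XX_le _ hy
  have hqy : qh (v1 * (v2 * v3)) y = 1 := (qh_eq_one hyf).2 hy
  have hJ : cj (y * x) K1 ∈ Om := hyp.conj _ d.m1.1 _
  have hzJ : zz (cj (y * x) K1) = y * (x * zz K1 * x⁻¹) * y⁻¹ := by
    rw [hyp.zz_cj d.m1.1]; group
  have hJf : zz (cj (y * x) K1) ∈ centralizer ({v1 * (v2 * v3)} : Set G) := by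
    rw [hzJ]; exact mul_mem (mul_mem hyf hw0) (inv_mem hyf)
  have hJM : qh (v1 * (v2 * v3)) (zz (cj (y * x) K1)) = zz M := by
    rw [hzJ, qh_mul (mul_mem hyf hw0) (inv_mem hyf), qh_mul hyf hw0, qh_inv hyf, hqy, ← hzM]
    group
  by_cases hJ1 : cj (y * x) K1 = K1
  · left
    apply fm.inj hM fm.mem
    rw [← hJM, hJ1, fm.z1]
  right
  obtain ⟨c0, hc01, hc02, hc0⟩ := hex _ hJ hJ1 (by rw [hzJ]; exact hyc) hJf
  obtain ⟨l, hl, hl0⟩ := g.exists_l d (γ := ThreeCore.qt K1 c0) (by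
    rw [← ThreeCore.qt_mul hc01 fc, ← ThreeCore.qt_mul fc hc01, mem_centralizer_singleton_iff.1 hc02])
  obtain ⟨m, hm1, hm2, hml, hmM⟩ := fm.lift l hl
  refine ⟨_, hmM, ?_⟩
  have hs1 : m * zz K2 * m⁻¹ ∈ centralizer ({zz K1} : Set G) := mul_mem (mul_mem hm1 z2c) (inv_mem hm1)
  have hs2 : m * zz K2 * m⁻¹ ∈ centralizer ({v1 * (v2 * v3)} : Set G) := mul_mem (mul_mem hm2 z2f) (inv_mem hm2)
  have ht1 : zz (cj (y * x) K1) ∈ centralizer ({zz K1} : Set G) := by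
    rw [hc0]; exact mul_mem (mul_mem hc01 z2c) (inv_mem hc01)
  have h22 := hyp.zz_mul d.m2.1
  obtain ⟨c, ⟨hc1, hcf⟩, hcs⟩ := exists_conj_of_mul_mem_odd
    (X := XX (zz K1) ⊓ centralizer ({v1 * (v2 * v3)} : Set G))
    (fun h0 => odd_XX (zz K1) (h0.trans (card_dvd_of_le inf_le_left)))
    (s := m * zz K2 * m⁻¹) (t := zz (cj (y * x) K1)) (by
      calc m * zz K2 * m⁻¹ * (m * zz K2 * m⁻¹) = m * (zz K2 * zz K2) * m⁻¹ := by group
        _ = 1 := by rw [h22]; group) (hyp.zz_mul hJ) (by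
      refine ⟨?_, mul_mem hs2 hJf⟩
      change m * zz K2 * m⁻¹ * zz (cj (y * x) K1) ∈ XX (zz K1)
      rw [← ThreeCore.qt_eq_one (mul_mem hs1 ht1), ThreeCore.qt_mul hs1 ht1, hc0,
        ThreeCore.qt_mul (mul_mem hm1 z2c) (inv_mem hm1), ThreeCore.qt_mul hm1 z2c, qt_inv hm1,
        ThreeCore.qt_mul (mul_mem hc01 z2c) (inv_mem hc01), ThreeCore.qt_mul hc01 z2c, qt_inv hc01, hl0, hml]
      have h22' : ThreeCore.qt K1 (zz K2) * ThreeCore.qt K1 (zz K2) = 1 := by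
        rw [← ThreeCore.qt_mul z2c z2c, h22, ThreeCore.qt_one]
      calc l * ThreeCore.qt K1 (zz K2) * l⁻¹ * (l * ThreeCore.qt K1 (zz K2) * l⁻¹) =
          l * (ThreeCore.qt K1 (zz K2) * ThreeCore.qt K1 (zz K2)) * l⁻¹ := by group
        _ = 1 := by rw [h22']; group)
  have hcc : m⁻¹ * c * m ∈ XX (zz K1) := by
    have h3 := (mem_normalizer_iff.1 (inv_mem (centralizer_le_normalizer_XX _ hm1)) c).1 hc1
    rwa [inv_inv] at h3
  have hccf : m⁻¹ * c * m ∈ centralizer ({v1 * (v2 * v3)} : Set G) := mul_mem (mul_mem (inv_mem hm2) hcf) hm2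
  have h4 := htf _ hcc hccf
  have h5 : qh (v1 * (v2 * v3)) (m⁻¹ * c * m * zz K2 * (m⁻¹ * c * m)⁻¹) = qh (v1 * (v2 * v3)) (zz K2) := by
    rw [← qh_eq_one (mul_mem (mul_mem (mul_mem hccf z2f) (inv_mem hccf)) (inv_mem z2f)),
      qh_mul (mul_mem (mul_mem hccf z2f) (inv_mem hccf)) (inv_mem z2f), qh_inv z2f, mul_inv_eq_one] at h4
    exact h4
  have h6 : zz (cj (y * x) K1) = m * (m⁻¹ * c * m * zz K2 * (m⁻¹ * c * m)⁻¹) * m⁻¹ := by
    rw [← hcs]; group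
  apply fm.inj hM (fm.hyp.conj _ hM2 _)
  rw [fm.hyp.zz_cj hM2, hz2, ← hJM, h6,
    qh_mul (mul_mem hm2 (mul_mem (mul_mem hccf z2f) (inv_mem hccf))) (inv_mem hm2),
    qh_mul hm2 (mul_mem (mul_mem hccf z2f) (inv_mem hccf)), h5, qh_inv hm2]

/-- the neighbours -/
theorem nb (g : All Om p F) (d : VD Om (S : Subgroup G) K1 K2 K3 v1 v2 v3)
    (fm : Fam Om p K1 K2 K3 v1 v2 v3 Fm M1)
    (hex : ∀ J ∈ Om, J ≠ K1 → zz J * zz K1 = zz K1 * zz J → zz J ∈ centralizer ({v1 * (v2 * v3)} : Set G) →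
      ∃ x ∈ centralizer ({zz K1} : Set G), x ∈ centralizer ({v1 * (v2 * v3)} : Set G) ∧ zz J = x * zz K2 * x⁻¹)
    (htf : ∀ y ∈ XX (zz K1), y ∈ centralizer ({v1 * (v2 * v3)} : Set G) →
      y * zz K2 * y⁻¹ * (zz K2)⁻¹ ∈ XX (v1 * (v2 * v3)))
    {M2 M3 : Subgroup (UseT.HQ (centralizer ({v1 * (v2 * v3)} : Set G)))} (hM2 : M2 ∈ Fm)
    (hz2 : zz M2 = qh (v1 * (v2 * v3)) (zz K2)) (hM3 : M3 ∈ Fm) (hz3 : zz M3 = qh (v1 * (v2 * v3)) (zz K3)) :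
    Nb Fm M1 M2 M3 where
  hyp := fm.hyp
  core := fm.pieces.core
  cls M hM := by
    obtain ⟨x, -, h⟩ := fm.cls M hM
    exact ⟨_, h⟩
  nor := fm.nor
  m1 := fm.mem
  m2 := hM2
  m3 := hM3
  mul := by
    rw [fm.z1, hz2, hz3, ← qh_mul (g.mem_cent d d.z1_mem self_mem_AA) (g.mem_cent d d.z2_mem self_mem_AA),
      d.mul12 g.tri]
  nb M hM hc := z1_nb g d fm hex htf hM2 hz2 hM hc

/-- `O(C(z_M))` centralises `M` -/
theorem comm_XX (fm : Fam Om p K1 K2 K3 v1 v2 v3 Fm M1)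
    {M : Subgroup (UseT.HQ (centralizer ({v1 * (v2 * v3)} : Set G)))} (hM : M ∈ Fm)
    {u m : UseT.HQ (centralizer ({v1 * (v2 * v3)} : Set G))} (hu : u ∈ normalizer (M : Set _)) (hm : m ∈ M)
    (h : m * u * m⁻¹ * u⁻¹ ∈ XX (zz M)) : m * u = u * m := by
  have h0 : XX (zz M) ⊓ M = ⊥ := by
    rw [eq_bot_iff, ← fm.pieces.core M hM]
    refine le_OO inf_le_right ?_ (not_two_dvd_of_le inf_le_left (odd_XX _))
    exact normalizer_inf_le ((fm.hyp.le_centralizer hM).trans (centralizer_le_normalizer_XX _)) le_normalizer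
  have h1 : m * u * m⁻¹ * u⁻¹ ∈ XX (zz M) ⊓ M := by
    refine ⟨h, ?_⟩
    have h2 : m * u * m⁻¹ * u⁻¹ = m * (u * m⁻¹ * u⁻¹) := by group
    rw [h2]
    exact M.mul_mem hm ((mem_normalizer_iff.1 hu _).1 (M.inv_mem hm))
  rw [h0, mem_bot, mul_inv_eq_one, mul_inv_eq_iff_eq_mul] at h1
  exact h1

end Fam

/-- the image in `C(f) / O(C(f))` of an element of `O(C(a))` -/
theorem qh_mem_XX {f a x : G} (ha : a ∈ centralizer ({f} : Set G)) (haa : a * a = 1) (hx : x ∈ XX a)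
    (hxf : x ∈ centralizer ({f} : Set G)) : qh f x ∈ XX (qh f a) := by
  rw [qh_eq ha, qh_eq hxf]
  exact qm_mem_XX (H := centralizer ({f} : Set G)) (b := ⟨a, ha⟩) (x := ⟨x, hxf⟩) (Subtype.ext haa) hx

namespace Fam

variable {Fm : Set (Subgroup (UseT.HQ (centralizer ({v1 * (v2 * v3)} : Set G))))}
  {M1 : Subgroup (UseT.HQ (centralizer ({v1 * (v2 * v3)} : Set G)))}

/-- **(2B)** at `f` -/
theorem tw (hodd : OddStmt.{u}) (hcrit : CoreThree.CritStmt.{u}) (hbend : CoreThree.BendStmt.{u})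
    (g : All Om p F) (d : VD Om (S : Subgroup G) K1 K2 K3 v1 v2 v3) (fm : Fam Om p K1 K2 K3 v1 v2 v3 Fm M1)
    (hex : ∀ J ∈ Om, J ≠ K1 → zz J * zz K1 = zz K1 * zz J → zz J ∈ centralizer ({v1 * (v2 * v3)} : Set G) →
      ∃ x ∈ centralizer ({zz K1} : Set G), x ∈ centralizer ({v1 * (v2 * v3)} : Set G) ∧ zz J = x * zz K2 * x⁻¹)
    (htf : ∀ y ∈ XX (zz K1), y ∈ centralizer ({v1 * (v2 * v3)} : Set G) →
      y * zz K2 * y⁻¹ * (zz K2)⁻¹ ∈ XX (v1 * (v2 * v3)))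
    {u : G} (hu1 : u ∈ XX (zz K1)) (hu2 : u ∈ XX (zz K2)) (huf : u * (v1 * (v2 * v3)) = v1 * (v2 * v3) * u) :
    u ∈ XX (v1 * (v2 * v3)) := by
  have hyp := g.tri.hyp
  have hS := S.isPGroup'
  obtain ⟨M2, hM2, hz2⟩ := fm.ex2
  obtain ⟨M3, hM3, hz3⟩ := fm.ex3
  have n := fm.nb g d hex htf hM2 hz2 hM3 hz3
  have z1f : zz K1 ∈ centralizer ({v1 * (v2 * v3)} : Set G) := g.mem_cent d d.z1_mem self_mem_AA
  have z2f : zz K2 ∈ centralizer ({v1 * (v2 * v3)} : Set G) := g.mem_cent d d.z2_mem self_mem_AA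
  obtain ⟨c1, c2, c3⟩ := g.cent_v d
  obtain ⟨b1, b2, b3⟩ := g.v_cent d
  have hhf := g.h_cent d
  have hufc : u ∈ centralizer ({v1 * (v2 * v3)} : Set G) := mem_centralizer_singleton_iff.2 huf
  obtain ⟨Q, hQ⟩ := Hyp.exists_syl M1
  obtain ⟨j, hj⟩ : ∃ j, j = qh (v1 * (v2 * v3)) (v2 * v3) := ⟨_, rfl⟩
  have hjj : j * j = zz M1 := by
    rw [hj, ← qh_mul (mul_mem b2 b3) (mul_mem b2 b3), fm.z1]
    congr 1
    have h1 := d.comm23 hyp hS
    calc v2 * v3 * (v2 * v3) = v2 * (v3 * v2) * v3 := by group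
      _ = v2 * (v2 * v3) * v3 := by rw [h1]
      _ = (v2 * v2) * (v3 * v3) := by group
      _ = zz K1 := by rw [d.q2, d.q3, d.mul23 g.tri]
  have hjD : j ∈ pc Fm M1 := by
    have h1 : v2 * v3 = zz K2 * (v2 * v3⁻¹)⁻¹ := by
      have h2 : v3 * v2⁻¹ = v2⁻¹ * v3 := by
        have h3 : Commute v2 v3 := d.comm23 hyp hS
        exact h3.inv_left.eq.symm
      rw [← d.q2]
      calc v2 * v3 = v2 * v2 * (v2⁻¹ * v3) := by group
        _ = v2 * v2 * (v2 * v3⁻¹)⁻¹ := by rw [← h2]; group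
    rw [hj, congrArg (qh (v1 * (v2 * v3))) h1, qh_mul z2f (inv_mem hhf), qh_inv hhf, ← hz2]
    exact mul_mem (n.le_pc hM2 (fm.hyp.zz_mem hM2)) (inv_mem (n.le_pc fm.mem fm.h1))
  have hjC : j ∈ centralizer {zz M1} := by
    rw [mem_centralizer_singleton_iff, ← hjj, mul_assoc]
  have hjM : ∀ q ∈ M1, j * q = q * j := by
    intro q hq
    obtain ⟨m, hm1, hm2, rfl, hmL⟩ := fm.sub1 q hq
    refine (fm.comm_XX fm.mem (fm.nor _ fm.mem hjC) hq ?_).symm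
    have h1 : m * (v2 * v3) * m⁻¹ * (v2 * v3)⁻¹ ∈ XX (zz K1) := by
      have hc := mul_mem c2 c3
      rw [← ThreeCore.qt_eq_one (mul_mem (mul_mem (mul_mem hm1 hc) (inv_mem hm1)) (inv_mem hc)),
        ThreeCore.qt_mul (mul_mem (mul_mem hm1 hc) (inv_mem hm1)) (inv_mem hc),
        ThreeCore.qt_mul (mul_mem hm1 hc) (inv_mem hm1), ThreeCore.qt_mul hm1 hc, qt_inv hm1, qt_inv hc,
        ThreeCore.qt_mul c2 c3, jL_comm hmL]
      group
    have hb := mul_mem b2 b3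
    have h2 := qh_mem_XX z1f (hyp.zz_mul d.m1.1) h1 (mul_mem (mul_mem (mul_mem hm2 hb) (inv_mem hm2)) (inv_mem hb))
    rwa [qh_mul (mul_mem (mul_mem hm2 hb) (inv_mem hm2)) (inv_mem hb), qh_mul (mul_mem hm2 hb) (inv_mem hm2),
      qh_mul hm2 hb, qh_inv hm2, qh_inv hb, ← hj, ← fm.z1] at h2
  haveI : IsSimpleGroup (↥(pc Fm M1) ⧸ center ↥(pc Fm M1)) := (n.quasi fm.pieces).2
  have hcent : ∀ M ∈ Fm, ∀ w ∈ XX (zz M), w ∈ centralizer (M : Set _) := by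
    intro M hM w hw
    rw [mem_centralizer_iff]
    intro m hm
    refine fm.comm_XX hM (fm.nor _ hM (XX_le _ hw)) hm (mul_mem ?_ (inv_mem hw))
    exact (mem_normalizer_iff.1 (centralizer_le_normalizer_XX _ (fm.hyp.le_centralizer hM hm)) _).1 hw
  have hq1 : qh (v1 * (v2 * v3)) u ∈ XX (zz M1) := by
    rw [fm.z1]; exact qh_mem_XX z1f (hyp.zz_mul d.m1.1) hu1 hufc
  have hq2 : qh (v1 * (v2 * v3)) u ∈ XX (zz M2) := by
    rw [hz2]; exact qh_mem_XX z2f (hyp.zz_mul d.m2.1) hu2 hufc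
  rw [← qh_eq_one hufc]
  exact n.eq_one fm.pieces (hcrit _) (hbend _) hQ hjD (fun q hq => hjM q (hQ.1 hq)) hjj (core_HQ _) (hodd.evQ _) hq1
    (hcent _ fm.mem _ hq1) (hcent _ hM2 _ hq2)

end Fam

end Cfsg.Agent.Cit.Sp4
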