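import Mathlib

/-!
# A homomorphism to `±1` from a double cover (abstract part of Theorem TAU, (6b))

`G` acts on a finite set `X` and on a set `T`; `F x` = frames at `x`; `δ x t t' = ±1` measures whether two frames at `x`
are equal.  The product over `x` of `δ (g x) (g t_x) t_{g x}` is a homomorphism.  Its value on an element `y` of order
dividing `4` is computed from the fixed points of `y` and `y²`.
-/

set_option autoImplicit false

namespace Cfsg.Agent.Cit.TauHom

variable {G X T : Type*} [Group G]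

/-- the data -/
structure Cover (G X T : Type*) [Group G] where
  a : G → X → X
  a_one : ∀ x, a 1 x = x
  a_mul : ∀ g h x, a (g * h) x = a g (a h x)
  b : G → T → T
  b_one : ∀ t, b 1 t = t
  b_mul : ∀ g h t, b (g * h) t = b g (b h t)
  F : X → T → Prop
  ex : ∀ x, ∃ t, F x t
  bF : ∀ g x t, F x t → F (a g x) (b g t)
  δ : X → T → T → ℤˣ
  δ_mul : ∀ x t t' t'', F x t → F x t' → F x t'' → δ x t t'' = δ x t t' * δ x t' t''
  δ_b : ∀ g x t t', F x t → F x t' → δ (a g x) (b g t) (b g t') = δ x t t'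

namespace Cover

variable (C : Cover G X T)

noncomputable def fr (x : X) : T := (C.ex x).choose

theorem fr_spec (x : X) : C.F x (C.fr x) := (C.ex x).choose_spec

/-- the cocycle -/
noncomputable def c (g : G) (x : X) : ℤˣ := C.δ (C.a g x) (C.b g (C.fr x)) (C.fr (C.a g x))

theorem c_mul (g h : G) (x : X) : C.c (g * h) x = C.c h x * C.c g (C.a h x) := by
  have h1 := C.δ_mul (C.a (g * h) x) (C.b (g * h) (C.fr x)) (C.b g (C.fr (C.a h x))) (C.fr (C.a (g * h) x))
    (C.bF _ _ _ (C.fr_spec x)) (by rw [C.a_mul]; exact C.bF _ _ _ (C.fr_spec _)) (C.fr_spec _)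
  have h2 := C.δ_b g (C.a h x) (C.b h (C.fr x)) (C.fr (C.a h x)) (C.bF _ _ _ (C.fr_spec x)) (C.fr_spec _)
  rw [c, h1, C.b_mul, C.a_mul, h2]
  rfl

theorem c_one (x : X) : C.c 1 x = 1 := by
  have h1 := C.c_mul 1 1 x
  rw [mul_one, C.a_one] at h1
  exact (mul_eq_left.mp h1.symm)

theorem δ_self {x : X} {t : T} (ht : C.F x t) : C.δ x t t = 1 := by
  have h1 := C.δ_mul x t t t ht ht ht
  exact (mul_eq_left.mp h1.symm)

/-- at a fixed point the cocycle does not depend on the frame -/
theorem c_eq {g : G} {x : X} (hx : C.a g x = x) {t : T} (ht : C.F x t) : C.c g x = C.δ x (C.b g t) t := by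
  have hb : C.F x (C.b g t) := by have := C.bF g x t ht; rwa [hx] at this
  have hb' : C.F x (C.b g (C.fr x)) := by have := C.bF g x _ (C.fr_spec x); rwa [hx] at this
  have h0 : C.δ x (C.b g (C.fr x)) (C.b g t) = C.δ x (C.fr x) t := by
    have := C.δ_b g x (C.fr x) t (C.fr_spec x) ht
    rwa [hx] at this
  have h1 := C.δ_mul x (C.b g (C.fr x)) (C.b g t) (C.fr x) hb' hb (C.fr_spec x)
  have h2 := C.δ_mul x (C.b g t) t (C.fr x) hb ht (C.fr_spec x)
  have h3 := C.δ_mul x (C.fr x) t (C.fr x) (C.fr_spec x) ht (C.fr_spec x)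
  rw [C.δ_self (C.fr_spec x)] at h3
  rw [c, hx, h1, h0, h2]
  calc C.δ x (C.fr x) t * (C.δ x (C.b g t) t * C.δ x t (C.fr x))
      = (C.δ x (C.fr x) t * C.δ x t (C.fr x)) * C.δ x (C.b g t) t := by
        rw [mul_comm (C.δ x (C.b g t) t), mul_assoc]
    _ = _ := by rw [← h3, one_mul]

def perm (g : G) : X ≃ X where
  toFun := C.a g
  invFun := C.a g⁻¹
  left_inv x := by rw [← C.a_mul, inv_mul_cancel, C.a_one]
  right_inv x := by rw [← C.a_mul, mul_inv_cancel, C.a_one]

/-- the homomorphism -/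
noncomputable def f [Fintype X] : G →* ℤˣ where
  toFun g := ∏ x, C.c g x
  map_one' := by simp [C.c_one]
  map_mul' g h := by
    have h1 : ∏ x, C.c g (C.a h x) = ∏ x, C.c g x := Equiv.prod_comp (C.perm h) (C.c g)
    rw [← h1, ← Finset.prod_mul_distrib]
    exact Finset.prod_congr rfl fun x _ => by rw [C.c_mul, mul_comm]

theorem sq_one (u : ℤˣ) : u * u = 1 := by
  rcases Int.units_eq_one_or u with rfl | rfl <;> rfl

/-- the contribution of the points moved by `z = y²` is trivial -/
theorem prod_moved [Fintype X] [DecidableEq X] {y : G} (hy : y * y * (y * y) = 1) :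
    ∏ x ∈ Finset.univ.filter (fun x => C.a (y * y) x ≠ x), C.c y x = 1 := by
  classical
  obtain ⟨r, hr⟩ : ∃ r : X → ℕ, Function.Injective r :=
    ⟨fun x => (Fintype.equivFin X x : ℕ), fun x x' hh => (Fintype.equivFin X).injective (Fin.ext hh)⟩
  set S := Finset.univ.filter (fun x => C.a (y * y) x ≠ x) with hS
  have hzz : ∀ x, C.a (y * y) (C.a (y * y) x) = x := fun x => by rw [← C.a_mul, hy, C.a_one]
  have hyS : ∀ x ∈ S, C.a y x ∈ S := by
    intro x hx
    simp only [hS, Finset.mem_filter, Finset.mem_univ, true_and] at hx ⊢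
    intro h1
    apply hx
    have h2 : C.a y (C.a (y * y) x) = C.a y x := by
      have h3 : C.a (y * y) (C.a y x) = C.a y (C.a (y * y) x) := by
        rw [← C.a_mul, ← C.a_mul, mul_assoc]
      rw [← h3]
      exact h1
    exact (C.perm y).injective h2
  have hzS : ∀ x ∈ S, C.a (y * y) x ∈ S := fun x hx => by
    rw [C.a_mul]; exact hyS _ (hyS _ hx)
  -- a coboundary
  let e : X → ℤˣ := fun x => if r x < r (C.a (y * y) x) then C.c (y * y) x else 1
  have he : ∀ x ∈ S, e x * e (C.a (y * y) x) = C.c (y * y) x := by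
    intro x hx
    have hne : r x ≠ r (C.a (y * y) x) := by
      intro h1
      simp only [hS, Finset.mem_filter, Finset.mem_univ, true_and] at hx
      exact hx (hr h1).symm
    have h1 : C.c (y * y) x * C.c (y * y) (C.a (y * y) x) = 1 := by
      rw [← C.c_mul, hy, C.c_one]
    have h2 : C.c (y * y) (C.a (y * y) x) = C.c (y * y) x := by
      rw [← mul_right_inj (C.c (y * y) x), h1, sq_one]
    simp only [e, hzz]
    rcases lt_or_gt_of_ne hne with h3 | h3
    · rw [if_pos h3, if_neg (by omega), mul_one]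
    · rw [if_neg (by omega), if_pos h3, one_mul, h2]
  have hprod : ∏ x ∈ S, C.c y x = ∏ x ∈ S, (C.c y x * (e x * e (C.a y x))) := by
    rw [Finset.prod_mul_distrib, Finset.prod_mul_distrib]
    have h1 : ∏ x ∈ S, e (C.a y x) = ∏ x ∈ S, e x := by
      refine Finset.prod_bij (fun x _ => C.a y x) (fun x hx => hyS x hx) ?_ ?_ (fun _ _ => rfl)
      · intro x _ x' _ hh
        exact (C.perm y).injective hh
      · intro x hx
        refine ⟨C.a (y * (y * y)) x, ?_, ?_⟩
        · rw [C.a_mul]; exact hyS _ (hzS _ hx)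
        · rw [← C.a_mul, ← mul_assoc, hy, C.a_one]
    rw [h1, sq_one, mul_one]
  rw [hprod]
  refine Finset.prod_involution (fun x _ => C.a (y * y) x) ?_ ?_ (fun x hx => hzS x hx) (fun x _ => hzz x)
  · intro x hx
    -- c(y,x) c(y,zx) = c(z,x) c(z,yx)
    have h1 : C.c (y * y * y) x = C.c y x * C.c (y * y) (C.a y x) := C.c_mul _ _ _
    have h2 : C.c (y * (y * y)) x = C.c (y * y) x * C.c y (C.a (y * y) x) := C.c_mul _ _ _
    rw [← mul_assoc] at h2
    have h3 : C.c y x * C.c y (C.a (y * y) x) = C.c (y * y) x * C.c (y * y) (C.a y x) := by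
      have h4 : C.c y x * C.c (y * y) (C.a y x) = C.c (y * y) x * C.c y (C.a (y * y) x) := h1.symm.trans h2
      calc C.c y x * C.c y (C.a (y * y) x)
          = (C.c (y * y) x * C.c (y * y) x) * (C.c y x * C.c y (C.a (y * y) x)) := by rw [sq_one, one_mul]
        _ = C.c (y * y) x * C.c y x * (C.c (y * y) x * C.c y (C.a (y * y) x)) := by
            rw [mul_assoc, mul_assoc, mul_left_comm (C.c (y * y) x) (C.c y x)]
        _ = C.c (y * y) x * C.c y x * (C.c y x * C.c (y * y) (C.a y x)) := by rw [h4]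
        _ = C.c (y * y) x * (C.c y x * C.c y x) * C.c (y * y) (C.a y x) := by simp only [mul_assoc]
        _ = _ := by rw [sq_one, mul_one]
    have h5 := he x hx
    have h6 := he (C.a y x) (hyS x hx)
    have h7 : C.a (y * y) (C.a y x) = C.a y (C.a (y * y) x) := by
      rw [← C.a_mul, ← C.a_mul, mul_assoc]
    rw [h7] at h6
    calc C.c y x * (e x * e (C.a y x)) * (C.c y (C.a (y * y) x) * (e (C.a (y * y) x) * e (C.a y (C.a (y * y) x))))
        = (C.c y x * C.c y (C.a (y * y) x)) * ((e x * e (C.a (y * y) x)) * (e (C.a y x) * e (C.a y (C.a (y * y) x)))) := by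
          simp only [mul_assoc, mul_left_comm]
      _ = _ := by rw [h3, h5, h6, sq_one]
  · intro x hx _ hh
    simp only [hS, Finset.mem_filter, Finset.mem_univ, true_and] at hx
    exact hx hh

/-- the value of `f` on an element `y` with `y⁴ = 1` -/
theorem f_eq [Fintype X] {y : G} (hy : y * y * (y * y) = 1)
    (hz : ∀ x, C.a (y * y) x = x → ∃ t, C.F x t ∧ C.δ x (C.b (y * y) t) t = 1) (x₀ : X) (hx₀ : C.a y x₀ = x₀)
    (h0 : ∃ t, C.F x₀ t ∧ C.δ x₀ (C.b y t) t = -1)
    (h1 : ∀ x, x ≠ x₀ → C.a y x = x → ∃ t, C.F x t ∧ C.δ x (C.b y t) t = 1) : C.f y = -1 := by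
  classical
  have e0 : C.c y x₀ = -1 := by
    obtain ⟨t, ht, h⟩ := h0
    rw [C.c_eq hx₀ ht, h]
  have e1 : ∀ x, x ≠ x₀ → C.a y x = x → C.c y x = 1 := by
    intro x hne hx
    obtain ⟨t, ht, h⟩ := h1 x hne hx
    rw [C.c_eq hx ht, h]
  have ez : ∀ x, C.a (y * y) x = x → C.c (y * y) x = 1 := by
    intro x hx
    obtain ⟨t, ht, h⟩ := hz x hx
    rw [C.c_eq hx ht, h]
  have hf : C.f y = ∏ x, C.c y x := rfl
  rw [hf, ← Finset.prod_filter_mul_prod_filter_not Finset.univ (fun x => C.a (y * y) x ≠ x), C.prod_moved hy,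
    one_mul, ← Finset.prod_filter_mul_prod_filter_not _ (fun x => C.a y x = x)]
  have p1 : ∏ x ∈ (Finset.univ.filter (fun x => ¬ C.a (y * y) x ≠ x)).filter (fun x => C.a y x = x), C.c y x = -1 := by
    rw [← e0]
    refine Finset.prod_eq_single_of_mem x₀ ?_ ?_
    · simp only [Finset.mem_filter, Finset.mem_univ, true_and, not_not]
      exact ⟨by rw [C.a_mul, hx₀, hx₀], hx₀⟩
    · intro x hx hne
      simp only [Finset.mem_filter, Finset.mem_univ, true_and, not_not] at hx
      exact e1 x hne hx.2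
  have p2 : ∏ x ∈ (Finset.univ.filter (fun x => ¬ C.a (y * y) x ≠ x)).filter (fun x => ¬ C.a y x = x), C.c y x = 1 := by
    refine Finset.prod_involution (fun x _ => C.a y x) ?_ ?_ ?_ ?_
    · intro x hx
      simp only [Finset.mem_filter, Finset.mem_univ, true_and, not_not] at hx
      rw [← C.c_mul]
      exact ez x hx.1
    · intro x hx _
      simp only [Finset.mem_filter, Finset.mem_univ, true_and, not_not] at hx
      exact hx.2
    · intro x hx
      simp only [Finset.mem_filter, Finset.mem_univ, true_and, not_not] at hx ⊢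
      have h7 : C.a (y * y) (C.a y x) = C.a y (C.a (y * y) x) := by
        rw [← C.a_mul, ← C.a_mul, mul_assoc]
      refine ⟨by rw [h7, hx.1], fun h8 => hx.2 ((C.perm y).injective h8)⟩
    · intro x hx
      simp only [Finset.mem_filter, Finset.mem_univ, true_and, not_not] at hx
      rw [← C.a_mul]
      exact hx.1
  rw [p1, p2, mul_one]

end Cover

end Cfsg.Agent.Cit.TauHom
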