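import Cfsg.Agent.Cit.TheoremV
import Cfsg.Agent.Cit.TauHom

/-!
# Theorem TAU (helper545, bb #5436), (6b): local part

`XX U K` = the centraliser in `K` of `U K / O(K)` (`= O(K) X_K`, `X_K` cyclic of index two in a Sylow 2-subgroup of `K`).
Coordinates `Loc` for `K / O(K)`, two-nilpotency of the members, action of 2-elements of `N(K)` in coordinates.
-/

set_option autoImplicit false
set_option linter.style.haveILetI false
set_option linter.unusedSectionVars false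

namespace Cfsg.Agent.Cit.Tau

open Subgroup Cfsg Cfsg.Agent.Cit

variable {G : Type*} [Group G]

theorem conj_OO {K : Subgroup G} {g x : G} (hg : g ∈ normalizer (K : Set G)) (hx : x ∈ OO K) :
    g * x * g⁻¹ ∈ OO K := by
  have h1 : cj g (OO K) = OO K := by rw [← OO_cj, mem_normalizer_iff_cj.mp hg]
  rw [← h1]
  exact conj_mem_cj hx

/-- the elements of `K` centralising `U K / O(K)` -/
def XX (U : Subgroup G → Subgroup G) (K : Subgroup G) : Subgroup G where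
  carrier := {x | x ∈ K ∧ ∀ w ∈ U K, x * w * x⁻¹ * w⁻¹ ∈ OO K}
  one_mem' := ⟨K.one_mem, fun w _ => by simp [(OO K).one_mem]⟩
  mul_mem' := by
    rintro x y ⟨hx, hx'⟩ ⟨hy, hy'⟩
    refine ⟨K.mul_mem hx hy, fun w hw => ?_⟩
    have h1 := (OO K).mul_mem (conj_OO (le_normalizer hx) (hy' w hw)) (hx' w hw)
    have h2 : x * (y * w * y⁻¹ * w⁻¹) * x⁻¹ * (x * w * x⁻¹ * w⁻¹) = x * y * w * (x * y)⁻¹ * w⁻¹ := by group
    rwa [h2] at h1
  inv_mem' := by
    rintro x ⟨hx, hx'⟩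
    refine ⟨K.inv_mem hx, fun w hw => ?_⟩
    have h1 := conj_OO (inv_mem (le_normalizer hx)) ((OO K).inv_mem (hx' w hw))
    have h2 : x⁻¹ * (x * w * x⁻¹ * w⁻¹)⁻¹ * x⁻¹⁻¹ = x⁻¹ * w * x⁻¹⁻¹ * w⁻¹ := by group
    rwa [h2] at h1

variable {U : Subgroup G → Subgroup G}

theorem mem_XX {K : Subgroup G} {x : G} : x ∈ XX U K ↔ x ∈ K ∧ ∀ w ∈ U K, x * w * x⁻¹ * w⁻¹ ∈ OO K := Iff.rfl

theorem XX_le (K : Subgroup G) : XX U K ≤ K := fun _ hx => hx.1

theorem OO_le_XX (K : Subgroup G) (hUK : U K ≤ K) : OO K ≤ XX U K := by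
  intro x hx
  refine ⟨OO_le K hx, fun w hw => ?_⟩
  have h1 := conj_OO (le_normalizer (hUK hw)) ((OO K).inv_mem hx)
  have h2 := (OO K).mul_mem hx h1
  have h3 : x * (w * x⁻¹ * w⁻¹) = x * w * x⁻¹ * w⁻¹ := by group
  rwa [h3] at h2

/-- conjugation -/
theorem conj_mem_XX {g x : G} {K : Subgroup G} (hg : U (cj g K) = cj g (U K)) :
    g * x * g⁻¹ ∈ XX U (cj g K) ↔ x ∈ XX U K := by
  rw [mem_XX, mem_XX, conj_mem_cj_iff, hg, OO_cj]
  refine and_congr Iff.rfl ⟨fun h w hw => ?_, fun h w hw => ?_⟩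
  · have h1 := h _ (conj_mem_cj (g := g) hw)
    have h2 : g * x * g⁻¹ * (g * w * g⁻¹) * (g * x * g⁻¹)⁻¹ * (g * w * g⁻¹)⁻¹ = g * (x * w * x⁻¹ * w⁻¹) * g⁻¹ := by group
    rwa [h2, conj_mem_cj_iff] at h1
  · obtain ⟨w', hw', rfl⟩ : ∃ w' ∈ U K, w = g * w' * g⁻¹ := ⟨g⁻¹ * w * g, mem_cj.mp hw, by group⟩
    have h2 : g * x * g⁻¹ * (g * w' * g⁻¹) * (g * x * g⁻¹)⁻¹ * (g * w' * g⁻¹)⁻¹ = g * (x * w' * x⁻¹ * w'⁻¹) * g⁻¹ := by group
    rw [h2, conj_mem_cj_iff]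
    exact h w' hw'

/-- the elements of `XX U K` which are squares modulo `O(K)` -/
def W2 (U : Subgroup G → Subgroup G) (K : Subgroup G) (x : G) : Prop := ∃ k ∈ XX U K, (k * k)⁻¹ * x ∈ OO K

theorem conj_W2 {g x : G} {K : Subgroup G} (hg : U (cj g K) = cj g (U K)) :
    W2 U (cj g K) (g * x * g⁻¹) ↔ W2 U K x := by
  constructor
  · rintro ⟨k, hk, hx⟩
    obtain ⟨k', rfl⟩ : ∃ k', k = g * k' * g⁻¹ := ⟨g⁻¹ * k * g, by group⟩
    rw [conj_mem_XX hg] at hk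
    refine ⟨k', hk, ?_⟩
    have h2 : (g * k' * g⁻¹ * (g * k' * g⁻¹))⁻¹ * (g * x * g⁻¹) = g * ((k' * k')⁻¹ * x) * g⁻¹ := by group
    rwa [h2, OO_cj, conj_mem_cj_iff] at hx
  · rintro ⟨k, hk, hx⟩
    refine ⟨g * k * g⁻¹, (conj_mem_XX hg).mpr hk, ?_⟩
    have h2 : (g * k * g⁻¹ * (g * k * g⁻¹))⁻¹ * (g * x * g⁻¹) = g * ((k * k)⁻¹ * x) * g⁻¹ := by group
    rw [h2, OO_cj, conj_mem_cj_iff]
    exact hx

variable [Finite G] {Om : Set (Subgroup G)}

/-- a 2-subgroup of `N(K)` lies in a 2-subgroup of `N(K)` containing a Sylow 2-subgroup of `K` -/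
theorem exists_T {K P : Subgroup G} (hK : K ∈ Om) (hP : IsPGroup 2 P) (hPK : P ≤ normalizer (K : Set G)) :
    ∃ T : Subgroup G, IsPGroup 2 T ∧ P ≤ T ∧ T ≤ normalizer (K : Set G) ∧ K ∈ OmS Om T := by
  obtain ⟨T, hT, hPT⟩ := exists_syl_ge hP hPK
  refine ⟨T, hT.2.1, hPT, hT.1, hK, ?_⟩
  intro h2
  apply hT.2.2
  haveI : (K.subgroupOf (normalizer (K : Set G))).Normal := normal_in_normalizer
  have h3 := SignalizersComponents.PCompCore.relIndex_dvd_index_of_normal_right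
    (T.subgroupOf (normalizer (K : Set G))) (K.subgroupOf (normalizer (K : Set G)))
  rw [relIndex_subgroupOf le_normalizer] at h3
  exact h2.trans h3

section UU

variable (hU : VChoice Om U)
include hU

theorem UU_comm {K : Subgroup G} (hK : K ∈ Om) {a b : G} (ha : a ∈ U K) (hb : b ∈ U K) :
    a * b * a⁻¹ * b⁻¹ ∈ OO K := by
  haveI : Fact (Nat.Prime 2) := ⟨Nat.prime_two⟩
  have hOn : U K ≤ normalizer (OO K : Set G) := (hU.le K hK).trans (le_normalizer_OO K)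
  haveI hN : ((OO K).subgroupOf (U K)).Normal := (normal_subgroupOf_iff_le_normalizer (hU.oo K hK)).2 hOn
  have hc4 : Nat.card (U K ⧸ (OO K).subgroupOf (U K)) = 2 ^ 2 := by
    have h3 := card_mul_index ((OO K).subgroupOf (U K))
    rw [Nat.card_congr (subgroupOfEquivOfLe (hU.oo K hK)).toEquiv, hU.card K hK, mul_comm 4] at h3
    exact Nat.eq_of_mul_eq_mul_left Nat.card_pos h3
  have hcomm : ∀ a b : U K ⧸ (OO K).subgroupOf (U K), a * b = b * a :=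
    (IsPGroup.isMulCommutative_of_card_eq_prime_sq hc4).is_comm.comm
  have h4 : ((⟨a, ha⟩ * ⟨b, hb⟩ * ⟨a, ha⟩⁻¹ * ⟨b, hb⟩⁻¹ : U K) : U K ⧸ (OO K).subgroupOf (U K)) = 1 := by
    rw [QuotientGroup.mk_mul, QuotientGroup.mk_mul, QuotientGroup.mk_mul, QuotientGroup.mk_inv,
      QuotientGroup.mk_inv, hcomm (QuotientGroup.mk ⟨a, ha⟩), mul_inv_cancel_right, mul_inv_cancel]
  rw [QuotientGroup.eq_one_iff] at h4
  exact h4

/-- elements of order four of `U K` are equal or inverse modulo `O(K)` -/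
theorem UU_or {K : Subgroup G} (hK : K ∈ Om) {v w : G} (hv : v ∈ U K) (hw : w ∈ U K) (hv4 : orderOf v = 4)
    (hw4 : orderOf w = 4) : v⁻¹ * w ∈ OO K ∨ v * w ∈ OO K := by
  obtain ⟨k, hk, hkw⟩ := (hU.syl_zpowers hK hv hv4).exists_conj (hU.syl_zpowers hK hw hw4)
  have h1 : k * v * k⁻¹ ∈ zpowers w := by rw [← hkw]; exact conj_mem_cj (mem_zpowers v)
  have h2 := UU_comm hU hK (a := k) (b := v) hk hv
  have hvn : v ∈ normalizer (K : Set G) := le_normalizer (hU.le K hK hv)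
  have h3 : v⁻¹ * (k * v * k⁻¹) ∈ OO K := by
    have := conj_OO (inv_mem hvn) h2
    have h4 : v⁻¹ * (k * v * k⁻¹ * v⁻¹) * v⁻¹⁻¹ = v⁻¹ * (k * v * k⁻¹) := by group
    rwa [h4] at this
  rcases eq_or_eq_inv_of_four hw4 (orderOf_conj_four hv4 k) h1 with h4 | h4
  · left
    rwa [h4] at h3
  · right
    rw [h4] at h3
    have h5 := conj_OO hvn h3
    have h6 : v * (v⁻¹ * w⁻¹) * v⁻¹ = (v * w)⁻¹ := by group
    rw [h6] at h5
    exact (inv_mem_iff (H := OO K)).mp h5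

/-- the action of `N(K)` on `U K / O(K)` -/
theorem act_or {K : Subgroup G} (hK : K ∈ Om) {g w : G} (hg : g ∈ normalizer (K : Set G)) (hw : w ∈ U K)
    (hw4 : orderOf w = 4) : g * w * g⁻¹ * w⁻¹ ∈ OO K ∨ g * w * g⁻¹ * w ∈ OO K := by
  have h1 : g * w * g⁻¹ ∈ U K := (mem_normalizer_iff.mp (hU.le_normalizer hK hg) w).mp hw
  have hwn : w ∈ normalizer (K : Set G) := le_normalizer (hU.le K hK hw)
  rcases UU_or hU hK hw h1 hw4 (orderOf_conj_four hw4 g) with h2 | h2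
  · left
    have h3 := conj_OO hwn h2
    have h4 : w * (w⁻¹ * (g * w * g⁻¹)) * w⁻¹ = g * w * g⁻¹ * w⁻¹ := by group
    rwa [h4] at h3
  · right
    have h3 := conj_OO (inv_mem hwn) h2
    have h4 : w⁻¹ * (w * (g * w * g⁻¹)) * w⁻¹⁻¹ = g * w * g⁻¹ * w := by group
    rwa [h4] at h3

theorem sq_not_mem (h : Hyp Om) {K : Subgroup G} (hK : K ∈ Om) {w : G} (hw : w ∈ U K) (hw4 : orderOf w = 4) :
    w * w ∉ OO K := by
  intro h1
  rw [hU.sq_eq h hK hw hw4] at h1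
  have h2 := orderOf_dvd_natCard (⟨zz K, h1⟩ : OO K)
  rw [Subgroup.orderOf_mk, h.orderOf_zz hK] at h2
  exact odd_OO K h2

/-- squares of elements of `N(K)` centralise `U K / O(K)` -/
theorem sq_act {K : Subgroup G} (hK : K ∈ Om) {g w : G} (hg : g ∈ normalizer (K : Set G)) (hw : w ∈ U K)
    (hw4 : orderOf w = 4) : (g * g) * w * (g * g)⁻¹ * w⁻¹ ∈ OO K := by
  have hwn : w ∈ normalizer (K : Set G) := le_normalizer (hU.le K hK hw)
  rcases act_or hU hK hg hw hw4 with h1 | h1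
  · have h2 := (OO K).mul_mem (conj_OO hg h1) h1
    have h3 : g * (g * w * g⁻¹ * w⁻¹) * g⁻¹ * (g * w * g⁻¹ * w⁻¹) = (g * g) * w * (g * g)⁻¹ * w⁻¹ := by group
    rwa [h3] at h2
  · have h2 := conj_OO hg h1
    have h3 := conj_OO hwn ((OO K).inv_mem h1)
    have h4 := (OO K).mul_mem h2 h3
    have h5 : g * (g * w * g⁻¹ * w) * g⁻¹ * (w * (g * w * g⁻¹ * w)⁻¹ * w⁻¹) = (g * g) * w * (g * g)⁻¹ * w⁻¹ := by group
    rwa [h5] at h4

/-- decomposition of `U K` -/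
theorem UU_decomp {K : Subgroup G} (hK : K ∈ Om) {w : G} (hw : w ∈ U K) (hw4 : orderOf w = 4) {x : G}
    (hx : x ∈ U K) : ∃ o ∈ OO K, ∃ i : ℕ, x = o * w ^ i := by
  have hs := hU.syl_zpowers hK hw hw4
  have h1 : Nat.card ((OO K).subgroupOf (U K)) = Nat.card (OO K) :=
    Nat.card_congr (subgroupOfEquivOfLe (hU.oo K hK)).toEquiv
  have h2 : Nat.card ((zpowers w).subgroupOf (U K)) = 4 := by
    rw [Nat.card_congr (subgroupOfEquivOfLe hs.1).toEquiv, Nat.card_zpowers, hw4]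
  have hodd := odd_OO K
  have h3 : IsComplement' ((OO K).subgroupOf (U K)) ((zpowers w).subgroupOf (U K)) := by
    apply isComplement'_of_coprime
    · rw [h1, h2, hU.card K hK]; ring
    · rw [h1, h2]
      have : Nat.Coprime (Nat.card (OO K)) (2 ^ 2) :=
        Nat.Coprime.pow_right 2 ((Nat.Prime.coprime_iff_not_dvd Nat.prime_two).2 hodd).symm
      simpa using this
  obtain ⟨⟨a, b⟩, hab⟩ := (h3.existsUnique ⟨x, hx⟩).exists
  have hb : ((b : U K) : G) ∈ zpowers w := b.2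
  obtain ⟨i, hi⟩ := (isOfFinOrder_of_finite w).mem_powers_iff_mem_zpowers.mpr hb
  refine ⟨((a : U K) : G), a.2, i, ?_⟩
  have h4 := congrArg Subtype.val hab
  simp only [Subgroup.coe_mul] at h4
  rw [← h4]
  simp only at hi
  rw [hi]

theorem mem_XX_iff {K : Subgroup G} (hK : K ∈ Om) {w : G} (hw : w ∈ U K) (hw4 : orderOf w = 4) {x : G} (hx : x ∈ K) :
    x ∈ XX U K ↔ x * w * x⁻¹ * w⁻¹ ∈ OO K := by
  refine ⟨fun h => h.2 w hw, fun h => ⟨hx, fun w' hw' => ?_⟩⟩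
  obtain ⟨o, ho, i, rfl⟩ := UU_decomp hU hK hw hw4 hw'
  have hxn : x ∈ normalizer (K : Set G) := le_normalizer hx
  have hwn : w ∈ normalizer (K : Set G) := le_normalizer (hU.le K hK hw)
  have key : ∀ i : ℕ, x * w ^ i * x⁻¹ * (w ^ i)⁻¹ ∈ OO K := by
    intro i
    induction i with
    | zero => simp [(OO K).one_mem]
    | succ i ih =>
      have h1 := conj_OO hwn ih
      have h2 := (OO K).mul_mem h h1
      have h3 : x * w * x⁻¹ * w⁻¹ * (w * (x * w ^ i * x⁻¹ * (w ^ i)⁻¹) * w⁻¹) =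
          x * w ^ (i + 1) * x⁻¹ * (w ^ (i + 1))⁻¹ := by
        rw [pow_succ' w i]; group
      rwa [h3] at h2
  have h1 := (OO K).mul_mem ((OO K).mul_mem (conj_OO hxn ho) (key i)) ((OO K).inv_mem ho)
  have h2 : x * o * x⁻¹ * (x * w ^ i * x⁻¹ * (w ^ i)⁻¹) * o⁻¹ = x * (o * w ^ i) * x⁻¹ * (o * w ^ i)⁻¹ := by group
  rwa [h2] at h1

theorem inv_of_not_mem_XX {K : Subgroup G} (hK : K ∈ Om) {w : G} (hw : w ∈ U K) (hw4 : orderOf w = 4) {x : G}
    (hx : x ∈ K) (hx' : x ∉ XX U K) : x * w * x⁻¹ * w ∈ OO K := by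
  rw [mem_XX_iff hU hK hw hw4 hx] at hx'
  exact (act_or hU hK (le_normalizer hx) hw hw4).resolve_left hx'

/-- `XX U K` has index at most two -/
theorem mul_mem_XX {K : Subgroup G} (hK : K ∈ Om) {x y : G} (hx : x ∈ K) (hy : y ∈ K) (hx' : x ∉ XX U K)
    (hy' : y ∉ XX U K) : x * y ∈ XX U K := by
  obtain ⟨w, hw, hw4⟩ := hU.ex K hK
  have hwn : w ∈ normalizer (K : Set G) := le_normalizer (hU.le K hK hw)
  rw [mem_XX_iff hU hK hw hw4 (K.mul_mem hx hy)]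
  have h1 := conj_OO (le_normalizer hx) (inv_of_not_mem_XX hU hK hw hw4 hy hy')
  have h2 := conj_OO hwn ((OO K).inv_mem (inv_of_not_mem_XX hU hK hw hw4 hx hx'))
  have h3 := (OO K).mul_mem h1 h2
  have h4 : x * (y * w * y⁻¹ * w) * x⁻¹ * (w * (x * w * x⁻¹ * w)⁻¹ * w⁻¹) = x * y * w * (x * y)⁻¹ * w⁻¹ := by group
  rwa [h4] at h3

theorem inv_mul_mem_XX {K : Subgroup G} (hK : K ∈ Om) {x y : G} (hx : x ∈ K) (hy : y ∈ K) (hx' : x ∉ XX U K)
    (hy' : y ∉ XX U K) : x⁻¹ * y ∈ XX U K :=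
  mul_mem_XX hU hK (K.inv_mem hx) hy (fun hh => hx' ((inv_mem_iff (H := XX U K)).mp hh)) hy'

theorem le_normalizer_XX {K : Subgroup G} (hK : K ∈ Om) : normalizer (K : Set G) ≤ normalizer (XX U K : Set G) := by
  intro g hg
  have h1 := mem_normalizer_iff_cj.mp hg
  rw [mem_normalizer_iff]
  intro x
  have h2 := conj_mem_XX (g := g) (x := x) (hU.cj K hK g)
  rw [h1] at h2
  exact h2.symm

end UU

/-! ### Coordinates -/

section Coord

variable (h : Hyp Om) (hU : VChoice Om U)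
include h hU

theorem exists_coord {L T : Subgroup G} (hT : IsPGroup 2 T) (hL : L ∈ OmS Om T) :
    ∃ c v n, GQ (L ⊓ T) c v (zz L) n ∧ c ^ 2 ^ n ∈ U L := by
  obtain ⟨c, v, n, hc⟩ := h.exists_gq hL.1 (syl_inf hT hL)
  obtain ⟨w₀, hw₀, hw₀4⟩ := hU.ex L hL.1
  obtain ⟨w, hw, hwT, hw4, -⟩ := hU.exists_mem hT hL hw₀ hw₀4
  have hwL := hU.le L hL.1 hw
  have hc4 : c ^ 2 ^ n * c ^ 2 ^ n = zz L := by
    rw [← pow_add, ← two_mul, ← pow_succ', hc.z_eq]
  have hcc4 : orderOf (c ^ 2 ^ n) = 4 := GQ.orderOf_of_sq hc4 hc.z_mul hc.z_ne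
  have hww : w * w = zz L := hU.sq_eq h hL.1 hw hw4
  rcases hc.cov w ⟨hwL, hwT⟩ with ⟨i, hi⟩ | ⟨i, hi⟩
  · refine ⟨c, v, n, hc, ?_⟩
    -- `w = c^i` of order four
    have h1 : (c ^ 2 ^ n) * (c ^ i)⁻¹ * ((c ^ 2 ^ n) * (c ^ i)⁻¹) = 1 := by
      have h2 : Commute (c ^ 2 ^ n) (c ^ i)⁻¹ := ((Commute.refl c).pow_pow _ _).inv_right
      rw [← hi] at h2 ⊢
      calc (c ^ 2 ^ n) * w⁻¹ * ((c ^ 2 ^ n) * w⁻¹) = (c ^ 2 ^ n) * (w⁻¹ * (c ^ 2 ^ n)) * w⁻¹ := by group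
        _ = (c ^ 2 ^ n) * ((c ^ 2 ^ n) * w⁻¹) * w⁻¹ := by rw [h2.eq]
        _ = ((c ^ 2 ^ n) * (c ^ 2 ^ n)) * (w * w)⁻¹ := by group
        _ = 1 := by rw [hc4, hww, mul_inv_cancel]
    by_cases h3 : (c ^ 2 ^ n) * (c ^ i)⁻¹ = 1
    · rw [mul_inv_eq_one] at h3
      rw [h3, ← hi]
      exact hw
    · have h4 := hc.eq_z ((L ⊓ T).mul_mem ((L ⊓ T).pow_mem hc.c_mem _)
        ((L ⊓ T).inv_mem ((L ⊓ T).pow_mem hc.c_mem i))) h1 h3
      rw [mul_inv_eq_iff_eq_mul, ← hi] at h4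
      rw [h4, ← hww]
      exact (U L).mul_mem ((U L).mul_mem hw hw) hw
  · -- `w` outside `⟨c⟩`: then `c` has order four
    have hcn : c ∈ normalizer (L : Set G) := le_normalizer hc.c_mem.1
    have h1 : c * w * c⁻¹ ∈ U L := (mem_normalizer_iff.mp (hU.le_normalizer hL.1 hcn) w).mp hw
    have hcwT : c * w * c⁻¹ ∈ T := T.mul_mem (T.mul_mem hc.c_mem.2 hwT) (T.inv_mem hc.c_mem.2)
    have hwc : w * c * w⁻¹ = c⁻¹ := by
      rw [hi]
      calc v * c ^ i * c * (v * c ^ i)⁻¹ = v * (c ^ i * c * (c ^ i)⁻¹) * v⁻¹ := by group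
        _ = v * c * v⁻¹ := by rw [((Commute.refl c).pow_left i).eq, mul_inv_cancel_right]
        _ = c⁻¹ := hc.conj
    have h2 : c * w * c⁻¹ = c * c * w := by
      have h3 : w * c⁻¹ = c * w := by
        have h4 : w * c⁻¹ * w⁻¹ = c := by
          calc w * c⁻¹ * w⁻¹ = (w * c * w⁻¹)⁻¹ := by group
            _ = c := by rw [hwc, inv_inv]
        calc w * c⁻¹ = w * c⁻¹ * w⁻¹ * w := by group
          _ = c * w := by rw [h4]
      rw [mul_assoc, h3, mul_assoc]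
    have hcc : c * c = zz L := by
      rcases hU.eq_or hL.1 hw hw4 h1 (orderOf_conj_four hw4 c) hT hwT hcwT with h3 | h3
      · rw [h2] at h3
        exact absurd (by simpa using h3 : c * c = 1) hc.c_sq_ne
      · rw [h2] at h3
        have h5 : c * c = w⁻¹ * w⁻¹ := eq_mul_inv_of_mul_eq h3
        rw [h5, ← mul_inv_rev, hww, h.zz_inv hL.1]
    have hn : n = 0 := by
      by_contra hn
      have h3 : c ^ 4 = 1 := by
        rw [show 4 = 2 + 2 by norm_num, pow_add, pow_two, hcc, hc.z_mul]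
      have h4 := orderOf_dvd_of_pow_eq_one h3
      rw [hc.ord] at h4
      have h5 := Nat.le_of_dvd (by norm_num) h4
      have h6 : 2 ^ 3 ≤ 2 ^ (n + 2) := Nat.pow_le_pow_right (by norm_num) (by omega)
      omega
    subst hn
    refine ⟨w, c, 0, ⟨⟨hwL, hwT⟩, hc.c_mem, by simpa using hw4, ?_, hcc, ?_, ?_⟩, by simpa using hw⟩
    · simpa [pow_two] using hww
    · rw [h2, hcc, ← hww]
      have : w * w * w * w = 1 := by
        rw [mul_assoc, hww, hc.z_mul]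
      exact eq_inv_of_mul_eq_one_left this
    · have hcc' : c * c = w * w := by rw [hcc, hww]
      have k1 : ∀ j : ℕ, (∃ i : ℕ, c ^ j = w ^ i) ∨ (∃ i : ℕ, c ^ j = c * w ^ i) := by
        intro j
        induction j with
        | zero => exact Or.inl ⟨0, by simp⟩
        | succ j ih =>
          rw [pow_succ']
          rcases ih with ⟨k, hk⟩ | ⟨k, hk⟩
          · exact Or.inr ⟨k, by rw [hk]⟩
          · refine Or.inl ⟨k + 2, ?_⟩
            rw [hk, ← mul_assoc, hcc', ← pow_two, ← pow_add, Nat.add_comm]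
      have k2 : ∀ x : G, ((∃ i : ℕ, x = w ^ i) ∨ (∃ i : ℕ, x = c * w ^ i)) →
          ((∃ i : ℕ, w * x = w ^ i) ∨ (∃ i : ℕ, w * x = c * w ^ i)) := by
        rintro x (⟨k, rfl⟩ | ⟨k, rfl⟩)
        · exact Or.inl ⟨k + 1, by rw [pow_succ']⟩
        · refine Or.inr ⟨k + 3, ?_⟩
          have h6 : w * c = c⁻¹ * w := by rw [← hwc]; group
          have h7 : c⁻¹ = c * (w * w) := by
            rw [← hcc']
            have : c * (c * c) * c = 1 := by
              rw [← mul_assoc, mul_assoc (c * c), hcc, hc.z_mul]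
            exact inv_eq_of_mul_eq_one_left this
          rw [← mul_assoc, h6, h7]
          rw [show k + 3 = 3 + k by ring, pow_add, pow_succ, pow_two]
          group
      intro x hx
      rcases hc.cov x hx with ⟨j, rfl⟩ | ⟨j, rfl⟩
      · exact k1 j
      · have h6 : v * c ^ j = w * ((c ^ i)⁻¹ * c ^ j) := by rw [hi]; group
        obtain ⟨m, hm⟩ : ∃ m : ℕ, (c ^ i)⁻¹ * c ^ j = c ^ m := by
          have h7 : (c ^ i)⁻¹ * c ^ j ∈ zpowers c :=
            (zpowers c).mul_mem ((zpowers c).inv_mem (pow_mem (mem_zpowers c) i)) (pow_mem (mem_zpowers c) j)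
          obtain ⟨m, hm⟩ := (isOfFinOrder_of_finite c).mem_powers_iff_mem_zpowers.mpr h7
          exact ⟨m, hm.symm⟩
        rw [h6, hm]
        exact k2 _ (k1 m)

/-- `XX U L` in a 2-group -/
theorem mem_XX_T {L T : Subgroup G} (hT : IsPGroup 2 T) (hL : L ∈ Om) {w x : G} (hw : w ∈ U L) (hwT : w ∈ T)
    (hw4 : orderOf w = 4) (hx : x ∈ L) (hxT : x ∈ T) : x ∈ XX U L ↔ x * w = w * x := by
  rw [mem_XX_iff hU hL hw hw4 hx]
  constructor
  · intro h1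
    have h2 := eq_one_of_mem_odd hT (odd_OO L)
      (T.mul_mem (T.mul_mem (T.mul_mem hxT hwT) (T.inv_mem hxT)) (T.inv_mem hwT)) h1
    rwa [mul_inv_eq_one, mul_inv_eq_iff_eq_mul] at h2
  · intro h1
    rw [h1, mul_inv_cancel_right, mul_inv_cancel]
    exact (OO L).one_mem

/-- the cyclic part in coordinates -/
theorem mem_XX_coord {L T : Subgroup G} (hT : IsPGroup 2 T) (hL : L ∈ OmS Om T) {c v : G} {n : ℕ}
    (hc : GQ (L ⊓ T) c v (zz L) n) (hw : c ^ 2 ^ n ∈ U L) {x : G} (hx : x ∈ L ⊓ T) :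
    x ∈ XX U L ↔ ∃ i : ℕ, x = c ^ i := by
  have hc4 : c ^ 2 ^ n * c ^ 2 ^ n = zz L := by
    rw [← pow_add, ← two_mul, ← pow_succ', hc.z_eq]
  have hcc4 : orderOf (c ^ 2 ^ n) = 4 := GQ.orderOf_of_sq hc4 hc.z_mul hc.z_ne
  rw [mem_XX_T h hU hT hL.1 hw (T.pow_mem hc.c_mem.2 _) hcc4 hx.1 hx.2]
  constructor
  · intro h1
    rcases hc.cov x hx with h2 | ⟨i, hi⟩
    · exact h2
    · exfalso
      have h3 : x * c ^ 2 ^ n = (c ^ 2 ^ n)⁻¹ * x := by
        rw [hi, mul_assoc, ((Commute.refl c).pow_pow i (2 ^ n)).eq, ← mul_assoc, hc.conj_pow, mul_assoc]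
      rw [h1] at h3
      have h4 := mul_right_cancel h3
      rw [← mul_eq_one_iff_eq_inv] at h4
      rw [hc4] at h4
      exact hc.z_ne h4
  · rintro ⟨i, rfl⟩
    exact ((Commute.refl c).pow_pow i (2 ^ n)).eq

theorem v_not_mem_XX {L T : Subgroup G} (hT : IsPGroup 2 T) (hL : L ∈ OmS Om T) {c v : G} {n : ℕ}
    (hc : GQ (L ⊓ T) c v (zz L) n) (hw : c ^ 2 ^ n ∈ U L) : v ∉ XX U L := by
  rw [mem_XX_coord h hU hT hL hc hw hc.v_mem]
  rintro ⟨i, hi⟩
  apply hc.not_comm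
  rw [hi]
  exact ((Commute.refl c).pow_left i).eq

/-- `XX U L` is 2-nilpotent -/
theorem XX_decomp {L T : Subgroup G} (hT : IsPGroup 2 T) (hL : L ∈ OmS Om T) {x : G} (hx : x ∈ XX U L) :
    ∃ o ∈ OO L, ∃ t ∈ L ⊓ T, x = o * t := by
  haveI : Fact (Nat.Prime 2) := ⟨Nat.prime_two⟩
  obtain ⟨c, v, n, hc, hw⟩ := exists_coord h hU hT hL
  have hXL : XX U L ≤ L := XX_le L
  have hn : L ≤ normalizer (XX U L : Set G) := le_normalizer.trans (le_normalizer_XX hU hL.1)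
  have h1 : Syl (XX U L ⊓ T) (XX U L) := by
    refine ⟨inf_le_left, hT.to_le inf_le_right, ?_⟩
    rw [inf_comm, inf_relIndex_right]
    intro h2
    apply hL.2
    haveI : ((XX U L).subgroupOf L).Normal := (normal_subgroupOf_iff_le_normalizer hXL).2 hn
    have h3 := SignalizersComponents.PCompCore.relIndex_dvd_index_of_normal_right (T.subgroupOf L)
      ((XX U L).subgroupOf L)
    rw [relIndex_subgroupOf hXL] at h3
    exact h2.trans h3
  obtain ⟨S, hS⟩ := h1.exists_sylow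
  have hcyc : IsCyclic S := by
    have hcy : IsCyclic ↥(XX U L ⊓ T) := by
      have hle : XX U L ⊓ T ≤ zpowers c := by
        intro y hy
        obtain ⟨i, rfl⟩ := (mem_XX_coord h hU hT hL hc hw ⟨hXL hy.1, hy.2⟩).mp hy.1
        exact pow_mem (mem_zpowers c) i
      exact isCyclic_of_injective (inclusion hle) (inclusion_injective hle)
    have e : ↥(S : Subgroup (XX U L)) ≃* ↥(XX U L ⊓ T) := by
      rw [hS]
      exact subgroupOfEquivOfLe inf_le_left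
    exact isCyclic_of_surjective e.symm e.symm.surjective
  have hmin : (Nat.card (XX U L)).minFac = 2 := by
    rw [Nat.minFac_eq_two_iff]
    have h2 : zz L ∈ XX U L := by
      rw [mem_XX_coord h hU hT hL hc hw hc.z_mem]
      exact ⟨2 ^ (n + 1), hc.z_eq.symm⟩
    have h3 := orderOf_dvd_natCard (⟨zz L, h2⟩ : XX U L)
    rwa [Subgroup.orderOf_mk, h.orderOf_zz hL.1] at h3
  have hcomp := hcyc.isComplement' hmin
  set N := (MonoidHom.transferSylow S (hcyc.normalizer_le_centralizer hmin)).ker with hN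
  have hNodd : ¬ 2 ∣ Nat.card N := by
    rw [← hcomp.index_eq_card]
    exact S.not_dvd_index
  have hNO : N ≤ oddCore (XX U L) := by
    refine Lib.Cores.le_pPrimeCore (MonoidHom.normal_ker _) ?_
    rw [Nat.coprime_comm]
    exact (Nat.Prime.coprime_iff_not_dvd Nat.prime_two).2 hNodd
  have hOO : OO (XX U L) ≤ OO L := by
    refine le_OO ((OO_le _).trans hXL) ?_ (odd_OO _)
    intro g hg
    rw [mem_normalizer_iff_cj, ← OO_cj, mem_normalizer_iff_cj.mp (hn hg)]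
  obtain ⟨⟨a, b⟩, hab⟩ := (hcomp.existsUnique ⟨x, hx⟩).exists
  have h4 := congrArg Subtype.val hab
  simp only [Subgroup.coe_mul] at h4
  refine ⟨((a : XX U L) : G), hOO ⟨_, hNO a.2, rfl⟩, ((b : XX U L) : G), ⟨hXL (b : XX U L).2, ?_⟩, h4.symm⟩
  have hb : (b : XX U L) ∈ (XX U L ⊓ T).subgroupOf (XX U L) := by
    rw [← hS]; exact b.2
  exact hb.2

/-- the members are 2-nilpotent -/
theorem decomp {L T : Subgroup G} (hT : IsPGroup 2 T) (hL : L ∈ OmS Om T) {x : G} (hx : x ∈ L) :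
    ∃ o ∈ OO L, ∃ t ∈ L ⊓ T, x = o * t := by
  obtain ⟨c, v, n, hc, hw⟩ := exists_coord h hU hT hL
  by_cases hx' : x ∈ XX U L
  · exact XX_decomp h hU hT hL hx'
  · have hv := v_not_mem_XX h hU hT hL hc hw
    obtain ⟨o, ho, t, ht, hot⟩ := XX_decomp h hU hT hL (mul_mem_XX hU hL.1 hc.v_mem.1 hx hv hx')
    refine ⟨v⁻¹ * o * v⁻¹⁻¹, conj_OO (inv_mem (le_normalizer hc.v_mem.1)) ho, v⁻¹ * t,
      (L ⊓ T).mul_mem ((L ⊓ T).inv_mem hc.v_mem) ht, ?_⟩
    have h1 : x = v⁻¹ * (v * x) := by group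
    rw [h1, hot]; group

end Coord

end Cfsg.Agent.Cit.Tau
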