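import Cfsg.Agent.Cit.OneF.LTwo
import Cfsg.Agent.Cit.OneF.RR
import Cfsg.Agent.Cit.OneEndGlue

/-!
# `|Om(S)| = 1`: a dihedral group of order 8 centralising `Q` isolates `z` (LEMMA ISO, bb R18)

`One Om`, `K ∈ Om`, `z = zz K`; `f` an involution with `f ⊥ K` and `r f r⁻¹ = f z` for some `r ∈ C(z)`. Then no
other member has an involution commuting with `z`.
-/

set_option autoImplicit false
set_option linter.style.haveILetI false
set_option linter.unusedSectionVars false

namespace Cfsg.Agent.Cit.ThreeIso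

open Subgroup Cfsg Cit OneBasic OneF OneEndGlue

variable {G : Type*} [Group G] [Finite G] {Om : Set (Subgroup G)}

/-- (a): `f` does not commute with a neighbour of `z` -/
theorem no_comm (h : One Om) (hL1 : L1 Om) {K L : Subgroup G} (hK : K ∈ Om) (hL : L ∈ Om) (hne : K ≠ L)
    (hc : zz K * zz L = zz L * zz K) {f r : G} (hf2 : f * f = 1) (hf : Perp f K)
    (hrz : r * zz K = zz K * r) (hr : r * f * r⁻¹ = f * zz K) (hfL : f * zz L = zz L * f) : False := by
  haveI : Fact (Nat.Prime 2) := ⟨Nat.prime_two⟩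
  have hzz := h.hyp.zz_mul hK
  have hfz : f * zz K = zz K * f := hf.comm h.hyp hK
  have hzK : Perp (zz K) K := by
    obtain ⟨Q, hQ⟩ := Hyp.exists_syl K
    exact ⟨Q, hQ, fun x hx => (h.hyp.comm_zz hK (le_normalizer (hQ.1 hx))).symm⟩
  have hfp : IsPGroup 2 (zpowers f) := by
    refine IsPGroup.of_card (n := orderOf f - 1) ?_
    rw [Nat.card_zpowers]
    have h1 : orderOf f ∣ 2 := orderOf_dvd_of_pow_eq_one (by rw [pow_two]; exact hf2)
    rcases (Nat.dvd_prime Nat.prime_two).1 h1 with h2 | h2 <;> rw [h2] <;> norm_num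
  have hP : IsPGroup 2 (zpowers f ⊔ zpowers (zz K) : Subgroup G) :=
    exists_two_of_commute hfp (isPGroup_zpowers_zz h.hyp hK) hfz
  have hPK : zpowers f ⊔ zpowers (zz K) ≤ normalizer (K : Set G) :=
    sup_le (zpowers_le.2 (hf.mem_normalizer h hK)) (zpowers_le.2 (le_normalizer (h.hyp.zz_mem hK)))
  have hPL : zpowers f ⊔ zpowers (zz K) ≤ normalizer (L : Set G) :=
    sup_le (zpowers_le.2 (h.mem_normalizer hL hfL)) (zpowers_le.2 (h.mem_normalizer hL hc))
  have hfP : f ∈ zpowers f ⊔ zpowers (zz K) := mem_sup_left (mem_zpowers f)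
  have hzP : zz K ∈ zpowers f ⊔ zpowers (zz K) := mem_sup_right (mem_zpowers _)
  -- the general step
  have key : ∀ g : G, g ∈ zpowers f ⊔ zpowers (zz K) → Perp g K → Perp g L → r * g * r⁻¹ = g * zz K →
      g * zz L = zz L * g → False := by
    intro g hgP hgK hgL hrg hgc
    have hw : WW Om g := ⟨K, hK, L, hL, hne, hc, hgK, hgL⟩
    have hw2 : WW Om (g * zz K) := by
      rw [← hrg]
      exact hw.conj h.hyp r
    have hgz : IsPGroup 2 (zpowers (g * zz K)) := isPGroup_zpowers_of_mem hP (mul_mem hgP hzP)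
    have h1 : Perp (g * zz K) L := by
      refine hw2.perp h hL1 hgz hL ?_
      rw [mul_assoc, hc, ← mul_assoc, hgc, mul_assoc]
    have h2 := hgL.inv.mul h1 h hL hP hPL (inv_mem hgP) (mul_mem hgP hzP)
    rw [inv_mul_cancel_left] at h2
    exact not_perp h hL hK hne.symm h2
  obtain ⟨T, Q, Q', hPT, p⟩ := h.exists_pair hK hL hne hc hP hPK hPL
  have hfT : f ∈ T := hPT hfP
  have hfQ := hf.cent h hK hfp p.hQ (p.hTQ hfT)
  rcases p.cent_or h hfT hfQ hf2 with h1 | h1
  · exact key f hfP hf ⟨Q', p.hQ', h1⟩ hr hfL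
  · refine key (zz K * f) (mul_mem hzP hfP) (hzK.mul hf h hK hP hPK hzP hfP) ⟨Q', p.hQ', h1⟩ ?_ ?_
    · calc r * (zz K * f) * r⁻¹ = (r * zz K) * f * r⁻¹ := by group
        _ = zz K * (r * f * r⁻¹) := by rw [hrz]; group
        _ = zz K * f * zz K := by rw [hr]; group
    · rw [mul_assoc, hfL, ← mul_assoc, hc, mul_assoc]

/-- the kill for a pair of type W: `g² = z`, `g` inverts `x` and commutes with `t` -/
theorem kill_W (h : One Om) {K L Q S : Subgroup G} (hK : K ∈ Om) (hL : L ∈ Om) (hne : K ≠ L)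
    (hc : zz K * zz L = zz L * zz K) (hQ : Syl Q K) {x y : G} {n : ℕ} (hxy : GQ Q x y (zz K) n)
    (hxt : x * zz L = zz L * x) {g : G} (hg2 : g * g = zz K) (hgx : g * x * g⁻¹ = x⁻¹)
    (hgt : g * zz L = zz L * g) (hS : IsPGroup 2 S) (hSK : S ≤ normalizer (K : Set G)) (hxS : x ∈ S)
    (hgS : g ∈ S) : False := by
  haveI : Fact (Nat.Prime 2) := ⟨Nat.prime_two⟩
  have hA : IsPGroup 2 (S ⊓ centralizer {zz L} : Subgroup G) := hS.to_le inf_le_left
  have hAL : S ⊓ centralizer {zz L} ≤ normalizer (L : Set G) := by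
    rw [← h.centralizer_zz hL]; exact inf_le_right
  obtain ⟨T, Q1, Q1', hAT, p⟩ := h.exists_pair hK hL hne hc hA (inf_le_left.trans hSK) hAL
  obtain ⟨x1, y1, x1', y1', m, c⟩ := p.exists_co h
  have hxT : x ∈ T := hAT ⟨hxS, mem_centralizer_singleton_iff.2 hxt⟩
  have hgT : g ∈ T := hAT ⟨hgS, mem_centralizer_singleton_iff.2 hgt⟩
  have hxQ1 : x ∈ Q1 := by
    have h1 : K ⊓ T ≤ Q1 := syl_le_of_normalizes' p.hQ (p.tp.to_le inf_le_right) inf_le_left
      (inf_le_right.trans p.hTQ)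
    exact h1 ⟨hQ.1 hxy.c_mem, hxT⟩
  have hmn : m = n := by
    obtain ⟨k, -, hk⟩ := hQ.exists_conj p.hQ
    have h1 : Nat.card Q1 = Nat.card Q := by rw [← hk, card_cj]
    rw [c.gq.card, hxy.card] at h1
    have := Nat.pow_right_injective (le_refl 2) h1
    omega
  subst hmn
  have hx1 : x ≠ 1 := by
    rintro rfl
    have := hxy.ord
    rw [orderOf_one] at this
    have h2 : 2 ^ 0 < 2 ^ (m + 2) := Nat.pow_lt_pow_right (by norm_num) (by omega)
    omega
  have hxz : x ≠ zz K := by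
    intro hx
    have := hxy.ord
    rw [hx, h.hyp.orderOf_zz hK] at this
    have h2 : 2 ^ 1 < 2 ^ (m + 2) := Nat.pow_lt_pow_right (by norm_num) (by omega)
    omega
  have hW : zz K * x1' = x1' * zz K ∧ zz L * x1 = x1 * zz L := by
    rcases c.dich h with h1 | h1
    · exact h1
    · rcases h1.1 x hxQ1 hxt with h2 | h2
      · exact absurd h2 hx1
      · exact absurd h2 hxz
  -- `x` generates `⟨x1⟩`
  have hx1' : g * x1 * g⁻¹ = x1⁻¹ := by
    have h1 : x ∈ zpowers x1 := by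
      rcases c.gq.covZ hxQ1 with h1 | ⟨i, hi⟩
      · exact h1
      · exfalso
        have h2 : zz L * y1 * (zz L)⁻¹ = y1 * zz K := c.t_y h hW.2
        have h3 : zz L * x * (zz L)⁻¹ = x := by rw [← hxt, mul_inv_cancel_right]
        have h4 : zz L * x1 ^ i * (zz L)⁻¹ = x1 ^ i := by
          rw [((show Commute (zz L) x1 from hW.2).zpow_right i).eq, mul_inv_cancel_right]
        have h5 : y1 * zz K * x1 ^ i = y1 * x1 ^ i := by
          calc y1 * zz K * x1 ^ i = (zz L * y1 * (zz L)⁻¹) * (zz L * x1 ^ i * (zz L)⁻¹) := by rw [h2, h4]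
            _ = zz L * (y1 * x1 ^ i) * (zz L)⁻¹ := by group
            _ = y1 * x1 ^ i := by rw [← hi]; exact h3
        have h6 : y1 * zz K = y1 := mul_right_cancel h5
        exact h.hyp.zz_ne hK (by simpa using h6)
    have h2 : zpowers x = zpowers x1 := by
      refine eq_of_le_of_card_ge (zpowers_le.2 h1) ?_
      rw [Nat.card_zpowers, Nat.card_zpowers, hxy.ord, c.gq.ord]
    obtain ⟨k, hk⟩ : x1 ∈ zpowers x := by rw [h2]; exact mem_zpowers x1
    have hk' : x ^ k = x1 := hk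
    rw [← hk', ← conj_zpow, hgx, inv_zpow]
  -- `g` inverts `x1'`
  obtain ⟨hxx, l, hlo, hl⟩ := OneEndGlue.Fr.exists_l p h c hW.2 hW.1
  obtain ⟨a, ha⟩ := c.symm.exp hgT
  obtain ⟨j, hj⟩ := c.conj_y hgT
  have hla : ∀ k : ℤ, x1' ^ k * y1 * (x1' ^ k)⁻¹ = y1 * x1 ^ (l * k) := by
    have hcomm : ∀ i : ℤ, x1' * x1 ^ i * x1'⁻¹ = x1 ^ i := fun i => by
      rw [((show Commute x1' x1 from hxx.symm).zpow_right i).eq, mul_inv_cancel_right]
    have hcomm' : ∀ i : ℤ, x1'⁻¹ * x1 ^ i * x1' = x1 ^ i := fun i => by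
      rw [((show Commute x1'⁻¹ x1 from (show Commute x1' x1 from hxx.symm).inv_left).zpow_right i).eq,
        mul_assoc, inv_mul_cancel, mul_one]
    have hl' : x1'⁻¹ * y1 * x1' = y1 * x1 ^ (-l) := by
      have h1 : y1 = x1'⁻¹ * (y1 * x1 ^ l) * x1' := by rw [← hl]; group
      have h2 : x1'⁻¹ * (y1 * x1 ^ l) * x1' = (x1'⁻¹ * y1 * x1') * (x1'⁻¹ * x1 ^ l * x1') := by group
      rw [h2, hcomm'] at h1
      rw [zpow_neg, eq_mul_inv_iff_mul_eq]
      exact h1.symm
    intro k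
    induction k using Int.induction_on with
    | zero => simp
    | succ i ih =>
        have e1 : x1' ^ ((i : ℤ) + 1) = x1' * x1' ^ (i : ℤ) := by rw [add_comm, zpow_add, zpow_one]
        calc x1' ^ ((i : ℤ) + 1) * y1 * (x1' ^ ((i : ℤ) + 1))⁻¹
            = x1' * (x1' ^ (i : ℤ) * y1 * (x1' ^ (i : ℤ))⁻¹) * x1'⁻¹ := by rw [e1]; group
          _ = (x1' * y1 * x1'⁻¹) * (x1' * x1 ^ (l * i) * x1'⁻¹) := by rw [ih]; group
          _ = y1 * x1 ^ (l * ((i : ℤ) + 1)) := by
              rw [hl, hcomm, mul_assoc, ← zpow_add]; congr 2; ring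
    | pred i ih =>
        have e1 : x1' ^ (-(i : ℤ) - 1) = x1'⁻¹ * x1' ^ (-(i : ℤ)) := by
          rw [sub_eq_add_neg, add_comm, zpow_add, zpow_neg_one]
        calc x1' ^ (-(i : ℤ) - 1) * y1 * (x1' ^ (-(i : ℤ) - 1))⁻¹
            = x1'⁻¹ * (x1' ^ (-(i : ℤ)) * y1 * (x1' ^ (-(i : ℤ)))⁻¹) * x1' := by rw [e1]; group
          _ = (x1'⁻¹ * y1 * x1') * (x1'⁻¹ * x1 ^ (l * (-(i : ℤ))) * x1') := by rw [ih]; group
          _ = y1 * x1 ^ (l * (-(i : ℤ) - 1)) := by
              rw [hl', hcomm', mul_assoc, ← zpow_add]; congr 2; ring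
  have hgx1 : ∀ i : ℤ, g * x1 ^ i * g⁻¹ = x1 ^ (-i) := fun i => by
    rw [← conj_zpow, hx1', inv_zpow, zpow_neg]
  have hcomma : x1' ^ a * x1 ^ j * (x1' ^ a)⁻¹ = x1 ^ j := by
    rw [((show Commute x1' x1 from hxx.symm).zpow_zpow a j).eq, mul_inv_cancel_right]
  have h3 : y1 * x1 ^ (l * a) * x1 ^ j = y1 * x1 ^ j * x1 ^ (-l) := by
    have h4 : g * (x1' * y1 * x1'⁻¹) * g⁻¹ = g * (y1 * x1 ^ l) * g⁻¹ := by rw [hl]
    have h5 : g * (x1' * y1 * x1'⁻¹) * g⁻¹ = x1' ^ a * (y1 * x1 ^ j) * (x1' ^ a)⁻¹ := by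
      rw [← ha, ← hj]; group
    have h6 : g * (y1 * x1 ^ l) * g⁻¹ = y1 * x1 ^ j * x1 ^ (-l) := by
      rw [← hj, ← hgx1 l]; group
    rw [← h6, ← h4, h5]
    calc y1 * x1 ^ (l * a) * x1 ^ j = (x1' ^ a * y1 * (x1' ^ a)⁻¹) * (x1' ^ a * x1 ^ j * (x1' ^ a)⁻¹) := by
          rw [hla, hcomma]
      _ = _ := by group
  have h4 : x1 ^ (l * (a + 1)) = 1 := by
    rw [mul_assoc, mul_assoc] at h3
    have h5 := mul_left_cancel h3
    rw [← zpow_add, ← zpow_add] at h5
    have h6 : x1 ^ (l * (a + 1)) = x1 ^ (l * a + j) * (x1 ^ (j + -l))⁻¹ := by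
      rw [← zpow_neg, ← zpow_add]; congr 1; ring
    rw [h6, h5, mul_inv_cancel]
  have h5 : (2 : ℤ) ^ (m + 2) ∣ a + 1 := by
    rw [c.gq.zpow_eq_one_iff] at h4
    have hcop : IsCoprime ((2 : ℤ) ^ (m + 2)) l := by
      apply IsCoprime.pow_left
      obtain ⟨b, hb⟩ := hlo
      exact ⟨-b, 1, by rw [hb]; ring⟩
    exact hcop.dvd_of_dvd_mul_left h4
  have h6 : g * x1' * g⁻¹ = x1'⁻¹ := by
    have h7 : x1' ^ (a + 1) = 1 := (c.gq'.zpow_eq_one_iff _).2 h5
    rw [ha]
    rw [zpow_add, zpow_one] at h7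
    exact eq_inv_of_mul_eq_one_left h7
  -- `g²` centralises `y1'`
  obtain ⟨b, hb⟩ := c.symm.conj_y hgT
  have h7 : (g * g) * y1' * (g * g)⁻¹ = y1' := by
    calc (g * g) * y1' * (g * g)⁻¹ = g * (g * y1' * g⁻¹) * g⁻¹ := by group
      _ = g * (y1' * x1' ^ b) * g⁻¹ := by rw [hb]
      _ = (g * y1' * g⁻¹) * (g * x1' ^ b * g⁻¹) := by group
      _ = y1' * x1' ^ b * (x1' ^ b)⁻¹ := by rw [hb, ← conj_zpow, h6, inv_zpow]
      _ = y1' := by rw [mul_inv_cancel_right]
  have h8 := c.symm.t_y h hW.1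
  rw [← hg2, h7] at h8
  exact h.hyp.zz_ne hL (by simpa using h8.symm)

/-- type SD: `t` is `Q`-conjugate to `u t`, `u ∈ ⟨x⟩` -/
theorem exists_conj_x (h : One Om) {K L T Q Q' : Subgroup G} {x y x' y' : G} {n : ℕ}
    (c : OPair.Co Om K L T Q Q' x y x' y' n) (hS : ∀ u ∈ Q, u * zz L = zz L * u → u = 1 ∨ u = zz K)
    {u : G} (hu : u ∈ zpowers x) : ∃ q ∈ Q, q * zz L * q⁻¹ = u * zz L := by
  classical
  have p := c.pair
  have hLT : zz L ∈ T := p.zL_mem h
  have hxt : ∀ g ∈ zpowers x, zz L * g * (zz L)⁻¹ ∈ zpowers x := by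
    rintro _ ⟨i, rfl⟩
    change zz L * x ^ i * (zz L)⁻¹ ∈ zpowers x
    rw [← conj_zpow]
    exact zpow_mem (c.inv _ hLT) i
  obtain ⟨j, hj⟩ := c.conj_y hLT
  have hyx : ∀ g ∈ zpowers x, y * g * y⁻¹ ∈ zpowers x := by
    rintro _ ⟨i, rfl⟩
    change y * x ^ i * y⁻¹ ∈ zpowers x
    rw [← conj_zpow, c.gq.conj]
    exact zpow_mem (inv_mem (mem_zpowers x)) i
  have hmem : ∀ q ∈ Q, q * zz L * q⁻¹ * (zz L)⁻¹ ∈ zpowers x := by
    intro q hq
    have e1 : q * zz L * q⁻¹ * (zz L)⁻¹ = q * (zz L * q * (zz L)⁻¹)⁻¹ := by group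
    rw [e1]
    rcases c.gq.covZ hq with h1 | ⟨i, rfl⟩
    · exact mul_mem h1 (inv_mem (hxt q h1))
    · have e2 : zz L * (y * x ^ i) * (zz L)⁻¹ = y * (x ^ j * (zz L * x ^ i * (zz L)⁻¹)) := by
        calc zz L * (y * x ^ i) * (zz L)⁻¹ = (zz L * y * (zz L)⁻¹) * (zz L * x ^ i * (zz L)⁻¹) := by group
          _ = _ := by rw [hj]; group
      rw [e2]
      have e3 : y * x ^ i * (y * (x ^ j * (zz L * x ^ i * (zz L)⁻¹)))⁻¹ =
          y * (x ^ i * (x ^ j * (zz L * x ^ i * (zz L)⁻¹))⁻¹) * y⁻¹ := by group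
      rw [e3]
      have h2 : x ^ i ∈ zpowers x := zpow_mem (mem_zpowers x) i
      exact hyx _ (mul_mem h2 (inv_mem (mul_mem (zpow_mem (mem_zpowers x) j) (hxt _ h2))))
  letI : Fintype Q := Fintype.ofFinite Q
  letI : Fintype (zpowers x) := Fintype.ofFinite _
  let φ : Q → zpowers x := fun q => ⟨q * zz L * (q : G)⁻¹ * (zz L)⁻¹, hmem q q.2⟩
  have hzQ : zz K ∈ Q := p.zK_mem_Q h
  have hfib : ∀ a ∈ (Finset.univ : Finset Q).image φ,
      ((Finset.univ : Finset Q).filter (fun q => φ q = a)).card ≤ 2 := by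
    intro a ha
    obtain ⟨q0, -, rfl⟩ := Finset.mem_image.1 ha
    refine (Finset.card_le_card (t := {q0, q0 * ⟨zz K, hzQ⟩}) ?_).trans Finset.card_le_two
    intro q hq
    have h1 : φ q = φ q0 := (Finset.mem_filter.1 hq).2
    have h2 : (q : G) * zz L * (q : G)⁻¹ = q0 * zz L * (q0 : G)⁻¹ :=
      mul_right_cancel (congrArg Subtype.val h1)
    have h3 : ((q0 : G)⁻¹ * q) * zz L = zz L * ((q0 : G)⁻¹ * q) := by
      calc ((q0 : G)⁻¹ * q) * zz L = (q0 : G)⁻¹ * (q * zz L * (q : G)⁻¹) * q := by group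
        _ = (q0 : G)⁻¹ * (q0 * zz L * (q0 : G)⁻¹) * q := by rw [h2]
        _ = _ := by group
    rw [Finset.mem_insert, Finset.mem_singleton]
    rcases hS _ (Q.mul_mem (Q.inv_mem q0.2) q.2) h3 with h4 | h4
    · left
      exact Subtype.ext (inv_mul_eq_one.1 h4).symm
    · right
      exact Subtype.ext (inv_mul_eq_iff_eq_mul.1 h4)
  have h1 := Finset.card_le_mul_card_image (Finset.univ : Finset Q) 2 hfib
  have h2 : (Finset.univ : Finset Q).card = 2 ^ (n + 3) := by
    rw [Finset.card_univ, ← Nat.card_eq_fintype_card, c.gq.card]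
  have h3 : Fintype.card (zpowers x) = 2 ^ (n + 2) := by
    rw [← Nat.card_eq_fintype_card, Nat.card_zpowers, c.gq.ord]
  have h4 : (Finset.univ : Finset Q).image φ = Finset.univ := by
    apply Finset.eq_univ_of_card
    apply le_antisymm (Finset.card_le_univ _)
    rw [h3]
    rw [h2, pow_succ] at h1
    omega
  have h5 : (⟨u, hu⟩ : zpowers x) ∈ (Finset.univ : Finset Q).image φ := by rw [h4]; exact Finset.mem_univ _
  obtain ⟨q, -, hq⟩ := Finset.mem_image.1 h5
  refine ⟨q, q.2, ?_⟩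
  have h6 : (q : G) * zz L * (q : G)⁻¹ * (zz L)⁻¹ = u := congrArg Subtype.val hq
  rw [← h6]; group

/-- hypotheses of LEMMA ISO -/
structure D8 (Om : Set (Subgroup G)) (K : Subgroup G) (f r : G) : Prop where
  hK : K ∈ Om
  sq : f * f = 1
  perp : Perp f K
  rz : r * zz K = zz K * r
  conj : r * f * r⁻¹ = f * zz K

namespace D8

variable {K L : Subgroup G} {f r : G}

theorem fp (d : D8 Om K f r) : IsPGroup 2 (zpowers f) := by
  refine IsPGroup.of_card (n := orderOf f - 1) ?_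
  rw [Nat.card_zpowers]
  have h1 : orderOf f ∣ 2 := orderOf_dvd_of_pow_eq_one (by rw [pow_two]; exact d.sq)
  rcases (Nat.dvd_prime Nat.prime_two).1 h1 with h2 | h2 <;> rw [h2] <;> norm_num

theorem fz (d : D8 Om K f r) (h : One Om) : f * zz K = zz K * f := d.perp.comm h.hyp d.hK

/-- moving the configuration by an element of `N(K)` -/
theorem mv (d : D8 Om K f r) (h : One Om) {m : G} (hm : m ∈ normalizer (K : Set G)) :
    D8 Om K (m * f * m⁻¹) (m * r * m⁻¹) := by
  have hmz : m * zz K * m⁻¹ = zz K := by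
    rw [h.hyp.comm_zz d.hK hm, mul_inv_cancel_right]
  refine ⟨d.hK, ?_, ?_, ?_, ?_⟩
  · calc m * f * m⁻¹ * (m * f * m⁻¹) = m * (f * f) * m⁻¹ := by group
      _ = 1 := by rw [d.sq]; group
  · have := d.perp.conj m
    rwa [mem_normalizer_iff_cj.1 hm] at this
  · calc m * r * m⁻¹ * zz K = m * r * m⁻¹ * (m * zz K * m⁻¹) := by rw [hmz]
      _ = m * (r * zz K) * m⁻¹ := by group
      _ = m * (zz K * r) * m⁻¹ := by rw [d.rz]
      _ = (m * zz K * m⁻¹) * (m * r * m⁻¹) := by group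
      _ = _ := by rw [hmz]
  · calc m * r * m⁻¹ * (m * f * m⁻¹) * (m * r * m⁻¹)⁻¹ = m * (r * f * r⁻¹) * m⁻¹ := by group
      _ = m * (f * zz K) * m⁻¹ := by rw [d.conj]
      _ = m * f * m⁻¹ * (m * zz K * m⁻¹) := by group
      _ = _ := by rw [hmz]

/-- the configuration can be moved into a given Sylow 2-subgroup of `N(K)` -/
theorem exists_mem (d : D8 Om K f r) (h : One Om) {S : Subgroup G} (hS : Syl S (normalizer (K : Set G))) :
    ∃ f r, D8 Om K f r ∧ f ∈ S := by
  obtain ⟨S1, hS1, hfS1⟩ := exists_syl_ge d.fp (zpowers_le.2 (d.perp.mem_normalizer h d.hK))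
  obtain ⟨m, hm, hmS⟩ := hS1.exists_conj hS
  refine ⟨_, _, d.mv h hm, ?_⟩
  rw [← hmS]
  exact conj_mem_cj (hfS1 (mem_zpowers f))

theorem no_comm (d : D8 Om K f r) (h : One Om) (hL1 : L1 Om) (hL : L ∈ Om) (hne : K ≠ L)
    (hc : zz K * zz L = zz L * zz K) (hfL : f * zz L = zz L * f) : False :=
  ThreeIso.no_comm h hL1 d.hK hL hne hc d.sq d.perp d.rz d.conj hfL

/-- no neighbour of type W -/
theorem no_W (d : D8 Om K f r) (h : One Om) (hk : K1 Om) (hL1 : L1 Om) (hL : L ∈ Om) (hne : K ≠ L)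
    (hc : zz K * zz L = zz L * zz K) {u : G} (hu : u ∈ K) (hu2 : u * u = zz K)
    (hut : u * zz L = zz L * u) : False := by
  have hkr := k1rel_of_k1 h.hyp hk
  have hzz := h.hyp.zz_mul d.hK
  have hup : IsPGroup 2 (zpowers u) := isP_four h d.hK hu2
  obtain ⟨T, Q, Q', S, huT, fr⟩ := exists_fr h d.hK hL hne hc hup (zpowers_le.2 (le_normalizer hu))
    (zpowers_le.2 (h.mem_normalizer hL hut))
  obtain ⟨f, r, d, hfS⟩ := d.exists_mem h fr.hS
  have p := fr.pair
  have huQ : u ∈ Q := by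
    have h1 : K ⊓ T ≤ Q := syl_le_of_normalizes' p.hQ (p.tp.to_le inf_le_right) inf_le_left
      (inf_le_right.trans p.hTQ)
    exact h1 ⟨hu, huT (mem_zpowers u)⟩
  obtain ⟨x, y, x', y', n, c⟩ := p.exists_co h
  have hW : zz L * x = x * zz L := by
    rcases c.dich h with h1 | h1
    · exact h1.2
    · exfalso
      rcases h1.1 u huQ hut with h2 | h2
      · rw [h2, one_mul] at hu2; exact h.hyp.zz_ne d.hK hu2.symm
      · rw [h2, hzz] at hu2; exact h.hyp.zz_ne d.hK hu2.symm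
  have hfQ : ∀ q ∈ Q, f * q = q * f := d.perp.cent h d.hK d.fp p.hQ (fr.SQ hfS)
  obtain ⟨w, hw⟩ : ∃ w, w = x ^ 2 ^ n := ⟨_, rfl⟩
  have hww : w * w = zz K := by rw [hw]; exact c.gq.w_sq
  have hwQ : w ∈ Q := by rw [hw]; exact Q.pow_mem c.gq.c_mem _
  have hwx : w * x = x * w := by rw [hw]; exact ((Commute.refl x).pow_left _).eq
  have hwt : w * zz L = zz L * w := by
    rw [hw]; exact ((show Commute x (zz L) from hW.symm).pow_left _).eq
  have hwz : w * zz K = zz K * w := sq_comm hww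
  have hyz : y * zz K = zz K * y := (c.gq.commute_v_z).eq
  have hyw : y * w = w⁻¹ * y := by rw [hw]; exact c.gq.conj_pow _
  have hwinv : w⁻¹ = zz K * w := inv_of_sq hww hzz
  have hwy : w * y = y * w⁻¹ := by
    rw [eq_mul_inv_iff_mul_eq, mul_assoc, hyw]; group
  have hty := c.t_y h hW
  have hty' : zz L * y = y * zz K * zz L := by rwa [mul_inv_eq_iff_eq_mul] at hty
  -- `r0 = w⁻¹ t`
  obtain ⟨r0, hr0⟩ : ∃ r0, r0 = w⁻¹ * zz L := ⟨_, rfl⟩
  have hwr0 : zz L = w * r0 := by rw [hr0]; group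
  have hr0Q : ∀ q ∈ Q, r0 * q = q * r0 := by
    apply c.cent_Q
    · have h1 : w⁻¹ * x = x * w⁻¹ := ((show Commute w x from hwx).inv_left).eq
      rw [hr0]
      calc w⁻¹ * zz L * x = w⁻¹ * (zz L * x) := by group
        _ = (w⁻¹ * x) * zz L := by rw [hW]; group
        _ = x * (w⁻¹ * zz L) := by rw [h1]; group
    · rw [hr0]
      calc w⁻¹ * zz L * y = w⁻¹ * (zz L * y) := by group
        _ = (w⁻¹ * y) * zz K * zz L := by rw [hty']; group
        _ = (y * w) * zz K * zz L := by rw [hyw]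
        _ = y * (w * zz K) * zz L := by group
        _ = y * (w⁻¹) * zz L := by rw [hwinv, hwz]
        _ = y * (w⁻¹ * zz L) := by group
  have hr0c : r0 * w = w * r0 := hr0Q w hwQ
  have hr02 : r0 * r0 = zz K := by
    have h1 : (w * r0) * (w * r0) = 1 := by rw [← hwr0]; exact h.hyp.zz_mul hL
    have h2 : (w * r0) * (w * r0) = zz K * (r0 * r0) := by
      calc (w * r0) * (w * r0) = w * (r0 * w) * r0 := by group
        _ = (w * w) * (r0 * r0) := by rw [hr0c]; group
        _ = _ := by rw [hww]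
    rw [h2] at h1
    calc r0 * r0 = (zz K * zz K) * (r0 * r0) := by rw [hzz, one_mul]
      _ = zz K * (zz K * (r0 * r0)) := by group
      _ = zz K := by rw [h1, mul_one]
  have hRR : RR Om K Q r0 := RR.of_one h hkr d.hK p.hQ hr0Q hr02 hwQ hww hL hwr0
  have hfz := d.fz h
  have hff : f⁻¹ = f := inv_eq_of_mul_eq_one_right d.sq
  have hRR1 : RR Om K Q (f * r0 * f⁻¹) := hRR.conj h (fr.SQ hfS) hfz
  have hwS : w ∈ S := fr.QS hwQ
  have htS : zz L ∈ S := fr.TS (p.zL_mem h)
  have hr0S : r0 ∈ S := by rw [hr0]; exact S.mul_mem (S.inv_mem hwS) htS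
  have hr1S : f * r0 * f⁻¹ ∈ S := S.mul_mem (S.mul_mem hfS hr0S) (S.inv_mem hfS)
  have hfw : f * w = w * f := hfQ w hwQ
  have hfy : f * y = y * f := hfQ y c.gq.v_mem
  have hfx : f * x = x * f := hfQ x c.gq.c_mem
  -- the common kill
  have kill : ∀ v M, M ∈ Om → zz M = w * v → (∀ q ∈ Q, v * q = q * v) → f * v * f⁻¹ = v⁻¹ → v * v = zz K →
      False := by
    intro v M hM hMv hvQ hfv hv2
    have hvw : v * w = w * v := hvQ w hwQ
    have hvy : v * y = y * v := hvQ y c.gq.v_mem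
    have hvx : v * x = x * v := hvQ x c.gq.c_mem
    have hvz : v * zz K = zz K * v := sq_comm hv2
    have hvinv : v⁻¹ = zz K * v := inv_of_sq hv2 hzz
    have hyM : y * zz M * y⁻¹ = zz K * zz M := by
      rw [hMv]
      calc y * (w * v) * y⁻¹ = (y * w) * v * y⁻¹ := by group
        _ = w⁻¹ * (y * v) * y⁻¹ := by rw [hyw]; group
        _ = w⁻¹ * v := by rw [← hvy]; group
        _ = zz K * (w * v) := by rw [hwinv]; group
    have hfM : f * zz M * f⁻¹ = zz K * zz M := by
      rw [hMv]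
      calc f * (w * v) * f⁻¹ = (f * w) * v * f⁻¹ := by group
        _ = w * (f * v * f⁻¹) := by rw [hfw]; group
        _ = w * (zz K * v) := by rw [hfv, hvinv]
        _ = (w * zz K) * v := by group
        _ = zz K * (w * v) := by rw [hwz]; group
    have hzM : zz K * zz M = zz M * zz K := by
      rw [hMv]
      calc zz K * (w * v) = (zz K * w) * v := by group
        _ = w * (v * zz K) := by rw [← hwz, hvz]; group
        _ = w * v * zz K := by group
    have hKM : K ≠ M := by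
      rintro rfl
      have h1 : y * zz K * y⁻¹ = zz K := by rw [hyz, mul_inv_cancel_right]
      rw [h1, hzz] at hyM
      exact h.hyp.zz_ne d.hK hyM
    refine kill_W h d.hK hM hKM hzM p.hQ c.gq (g := f * y) (S := S) ?_ ?_ ?_ ?_ fr.hS.2.1 fr.hS.1
      (fr.QS c.gq.c_mem) (S.mul_mem hfS (fr.QS c.gq.v_mem))
    · rw [hMv]
      calc x * (w * v) = (x * w) * v := by group
        _ = w * (x * v) := by rw [← hwx]; group
        _ = w * v * x := by rw [← hvx]; group
    · calc f * y * (f * y) = f * (y * f) * y := by group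
        _ = (f * f) * (y * y) := by rw [← hfy]; group
        _ = zz K := by rw [d.sq, c.gq.v_sq, one_mul]
    · calc f * y * x * (f * y)⁻¹ = f * (y * x * y⁻¹) * f⁻¹ := by group
        _ = f * x⁻¹ * f⁻¹ := by rw [c.gq.conj]
        _ = (f * x * f⁻¹)⁻¹ := by group
        _ = x⁻¹ := by rw [hfx, mul_inv_cancel_right]
    · have h1 : (f * y) * zz M * (f * y)⁻¹ = zz M := by
        calc (f * y) * zz M * (f * y)⁻¹ = f * (y * zz M * y⁻¹) * f⁻¹ := by group
          _ = f * (zz K * zz M) * f⁻¹ := by rw [hyM]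
          _ = (f * zz K) * zz M * f⁻¹ := by group
          _ = zz K * (f * zz M * f⁻¹) := by rw [hfz]; group
          _ = (zz K * zz K) * zz M := by rw [hfM]; group
          _ = zz M := by rw [hzz, one_mul]
      rwa [mul_inv_eq_iff_eq_mul] at h1
  rcases hRR.dich hRR1 h hkr d.hK p.hQ fr.hS.2.1 hr0S hr1S with h1 | h1 | ⟨v, hv, hv2, hRv, -, -⟩
  · -- `f` commutes with `r0`, `w`, hence with `t`
    rw [mul_inv_eq_iff_eq_mul] at h1
    apply d.no_comm h hL1 hL hne hc
    rw [hwr0]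
    calc f * (w * r0) = (f * w) * r0 := by group
      _ = w * (f * r0) := by rw [hfw]; group
      _ = w * r0 * f := by rw [h1]; group
  · exact kill r0 L hL hwr0 hr0Q h1 hr02
  · obtain ⟨M, hM, hMv⟩ := hRv.mem w hwQ hww
    refine kill v M hM hMv hRv.cent ?_ hv2
    refine inv_zpowers ?_ hv
    -- `f` inverts `z r0 r1`
    have hr1z : f * r0 * f⁻¹ * zz K = zz K * (f * r0 * f⁻¹) := hRR1.comm_z
    have hr1inv := hRR1.inv_eq h d.hK
    have hr0inv := hRR.inv_eq h d.hK
    have e1 : (zz K * (r0 * (f * r0 * f⁻¹)))⁻¹ = (f * r0 * f⁻¹)⁻¹ * r0⁻¹ * (zz K)⁻¹ := by group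
    rw [e1, hr1inv, hr0inv, h.hyp.zz_inv d.hK]
    calc f * (zz K * (r0 * (f * r0 * f⁻¹))) * f⁻¹ = (f * zz K) * r0 * f * r0 * (f⁻¹ * f⁻¹) := by group
      _ = zz K * (f * r0 * f) * r0 := by
          rw [hfz, hff, d.sq, mul_one]; group
      _ = zz K * (f * r0 * f⁻¹) * r0 := by rw [hff]
      _ = zz K * (f * r0 * f⁻¹) * (zz K * zz K) * r0 := by rw [hzz, mul_one]
      _ = zz K * (f * r0 * f⁻¹) * (zz K * (zz K * r0)) := by group
      _ = zz K * (f * r0 * f⁻¹) * (zz K * (r0 * zz K)) := by rw [hRR.comm_z]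
      _ = zz K * (f * r0 * f⁻¹) * (zz K * r0) * zz K := by group

/-- if no neighbour has type W there is no neighbour -/
theorem no_SD (d : D8 Om K f r) (h : One Om) (hL1 : L1 Om) (hL : L ∈ Om) (hne : K ≠ L)
    (hc : zz K * zz L = zz L * zz K)
    (hnoW : ∀ M ∈ Om, K ≠ M → zz K * zz M = zz M * zz K → ∀ u ∈ K, u * u = zz K →
      u * zz M = zz M * u → False) : False := by
  have hzz := h.hyp.zz_mul d.hK
  obtain ⟨T, Q, Q', S, -, fr⟩ := exists_fr h d.hK hL hne hc (A := ⊥) IsPGroup.of_bot bot_le bot_le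
  obtain ⟨f, r, d, hfS⟩ := d.exists_mem h fr.hS
  have p := fr.pair
  obtain ⟨x, y, x', y', n, c⟩ := p.exists_co h
  have hfQ : ∀ q ∈ Q, f * q = q * f := d.perp.cent h d.hK d.fp p.hQ (fr.SQ hfS)
  have hSD : (∀ u ∈ Q, u * zz L = zz L * u → u = 1 ∨ u = zz K) ∧
      (∀ u ∈ Q', u * zz K = zz K * u → u = 1 ∨ u = zz L) := by
    rcases c.dich h with h1 | h1
    · exact (hnoW L hL hne hc _ (p.hQ.1 (Q.pow_mem c.gq.c_mem (2 ^ n))) c.gq.w_sq
        (c.w_comm h1.2)).elim
    · exact h1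
  have htw := c.t_w h hSD.1
  have hzw' := c.symm.t_w h hSD.2
  obtain ⟨w, hw⟩ : ∃ w, w = x ^ 2 ^ n := ⟨_, rfl⟩
  obtain ⟨w', hw'⟩ : ∃ w', w' = x' ^ 2 ^ n := ⟨_, rfl⟩
  have hww : w * w = zz K := by rw [hw]; exact c.gq.w_sq
  have hwQ : w ∈ Q := by rw [hw]; exact Q.pow_mem c.gq.c_mem _
  have hwx : w ∈ zpowers x := by rw [hw]; exact pow_mem (mem_zpowers x) _
  have hyw : y * w = w⁻¹ * y := by rw [hw]; exact c.gq.conj_pow _
  have hwcy : w * y ≠ y * w := by
    intro h1
    rw [hyw] at h1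
    have h2 : w = w⁻¹ := mul_right_cancel h1
    have h3 : w * w = 1 := by nth_rw 2 [h2]; group
    rw [hww] at h3
    exact h.hyp.zz_ne d.hK h3
  rw [← hw] at htw
  rw [← hw'] at hzw'
  have hww' : w' * w' = zz L := by rw [hw']; exact c.gq'.w_sq
  have hwQ' : w' ∈ Q' := by rw [hw']; exact Q'.pow_mem c.gq'.c_mem _
  obtain ⟨z, hz⟩ : ∃ z, z = zz K := ⟨_, rfl⟩
  obtain ⟨t, ht⟩ : ∃ t, t = zz L := ⟨_, rfl⟩
  have hz1 : z ≠ 1 := by rw [hz]; exact h.hyp.zz_ne d.hK
  have ht1 : t ≠ 1 := by rw [ht]; exact h.hyp.zz_ne hL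
  have htt : t * t = 1 := by rw [ht]; exact h.hyp.zz_mul hL
  have htinv : t⁻¹ = t := inv_eq_of_mul_eq_one_right htt
  have hff : f * f = 1 := d.sq
  have hfinv : f⁻¹ = f := inv_eq_of_mul_eq_one_right hff
  have hfz : f * z = z * f := by rw [hz]; exact d.fz h
  have hwz : w * z = z * w := by rw [hz]; exact sq_comm hww
  have hwt' : w' * t = t * w' := by rw [ht]; exact sq_comm hww'
  have hzq : ∀ q ∈ Q, z * q = q * z := fun q hq => by
    rw [hz]; exact (h.hyp.comm_zz d.hK (le_normalizer (p.hQ.1 hq))).symm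
  have htq' : ∀ q ∈ Q', t * q = q * t := fun q hq => by
    rw [ht]; exact (h.hyp.comm_zz hL (le_normalizer (p.hQ'.1 hq))).symm
  have hzz' : z * z = 1 := by rw [hz]; exact hzz
  have hct : z * t = t * z := by rw [hz, ht]; exact hc
  have hwinv : w⁻¹ = w * z := by rw [hz, inv_of_sq hww hzz, sq_comm hww]
  rw [← hz, ← ht] at htw hzw'
  have hwt : w * t * w⁻¹ = z * t := OneBasic.conj_swap hwz.symm hzz' htw
  have hwz' : w' * z * w'⁻¹ = t * z := OneBasic.conj_swap hwt'.symm htt hzw'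
  have hfw : f * w = w * f := hfQ w hwQ
  have htS : t ∈ S := by rw [ht]; exact fr.TS (p.zL_mem h)
  have hzS : z ∈ S := by rw [hz]; exact fr.TS (p.zK_mem h)
  have hwS : w ∈ S := fr.QS hwQ
  have htN : t ∈ normalizer (Q : Set G) := fr.SQ htS
  have hmemT : ∀ s ∈ S, s * t = t * s → s ∈ T := fun s hs hst => fr.mem_T h hs (by rw [← ht]; exact hst)
  -- the dihedral group `⟨f, t⟩`
  obtain ⟨a, ha⟩ : ∃ a, a = f * t := ⟨_, rfl⟩
  have haS : a ∈ S := by rw [ha]; exact S.mul_mem hfS htS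
  have hta : t * a * t⁻¹ = a⁻¹ := by
    rw [ha, mul_inv_rev, hfinv]
    calc t * (f * t) * t⁻¹ = t * f := by group
      _ = t⁻¹ * f := by rw [htinv]
  have haa : a * a ≠ 1 := by
    intro h1
    apply d.no_comm h hL1 hL hne hc
    rw [← ht]
    have h2 : a = a⁻¹ := by rw [eq_inv_iff_mul_eq_one]; exact h1
    rw [ha, mul_inv_rev, hfinv, htinv] at h2
    exact h2
  have hti : ∀ i : ℤ, t * a ^ i * t⁻¹ = (a ^ i)⁻¹ := fun i => inv_zpowers hta (zpow_mem (mem_zpowers a) i)
  have hconj : ∀ i : ℤ, a ^ i * t * (a ^ i)⁻¹ = a ^ (2 * i) * t := by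
    intro i
    have h1 : t * (a ^ i)⁻¹ = a ^ i * t := by
      have h2 := hti (-i)
      rw [zpow_neg, inv_inv] at h2
      exact mul_inv_eq_iff_eq_mul.1 h2
    rw [mul_assoc, h1, ← mul_assoc, ← zpow_add, two_mul]
  have hZ : ∀ i : ℤ, ∃ M ∈ Om, zz M = a ^ (2 * i) * t := fun i =>
    ⟨cj (a ^ i) L, h.hyp.conj L hL _, by rw [h.hyp.zz_cj hL, ← ht, hconj]⟩
  have haaQ : ∀ q ∈ Q, (a * a) * q = q * (a * a) := by
    have h1 : a * a = f * (t * f * t⁻¹) := by
      rw [ha]
      calc f * t * (f * t) = f * (t * f * t) := by group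
        _ = f * (t * f * t⁻¹) := by rw [htinv]
    intro q hq
    have h2 : (t * f * t⁻¹) * q = q * (t * f * t⁻¹) := by
      have h3 := hfQ _ (conj_mem_of' htN hq)
      calc t * f * t⁻¹ * q = t * (f * (t⁻¹ * q * t)) * t⁻¹ := by group
        _ = t * ((t⁻¹ * q * t) * f) * t⁻¹ := by rw [h3]
        _ = q * (t * f * t⁻¹) := by group
    rw [h1]
    calc f * (t * f * t⁻¹) * q = f * ((t * f * t⁻¹) * q) := by group
      _ = (f * q) * (t * f * t⁻¹) := by rw [h2]; group
      _ = q * (f * (t * f * t⁻¹)) := by rw [hfQ q hq]; group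
  have haiQ : ∀ i : ℤ, ∀ q ∈ Q, a ^ (2 * i) * q = q * a ^ (2 * i) := by
    intro i q hq
    have h1 : a ^ (2 * i) = (a * a) ^ i := by rw [zpow_mul, zpow_two]
    rw [h1]
    exact ((show Commute (a * a) q from haaQ q hq).zpow_left i).eq
  -- the involution of `⟨a²⟩` is `z`
  have hza : z ∈ zpowers a := by
    obtain ⟨j, hj, hj2, hj1⟩ : ∃ j ∈ zpowers (a * a), j * j = 1 ∧ j ≠ 1 := by
      haveI : Fact (Nat.Prime 2) := ⟨Nat.prime_two⟩
      have h1 : IsPGroup 2 (zpowers (a * a)) :=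
        isPGroup_zpowers_of_mem fr.hS.2.1 (S.mul_mem haS haS)
      have h2 : 2 ∣ Nat.card (zpowers (a * a)) := by
        obtain ⟨k, hk⟩ := IsPGroup.iff_card.1 h1
        rcases Nat.eq_zero_or_pos k with rfl | hk0
        · exfalso
          rw [pow_zero, Nat.card_zpowers, orderOf_eq_one_iff] at hk
          exact haa hk
        · rw [hk]; exact dvd_pow_self 2 hk0.ne'
      obtain ⟨j, hj⟩ := exists_prime_orderOf_dvd_card' 2 h2
      refine ⟨j, j.2, ?_, ?_⟩
      · have h3 := pow_orderOf_eq_one j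
        rw [hj, pow_two] at h3
        exact congrArg Subtype.val h3
      · intro h3
        have h4 : j = 1 := Subtype.ext h3
        rw [h4, orderOf_one] at hj
        omega
    obtain ⟨i, hi⟩ := hj
    have hi' : j = a ^ (2 * i) := by
      rw [zpow_mul, zpow_two]
      exact hi.symm
    have hja : j ∈ zpowers a := by rw [hi']; exact zpow_mem (mem_zpowers a) _
    have hjS : j ∈ S := (zpowers_le.2 haS) hja
    have hjinv : j⁻¹ = j := inv_eq_of_mul_eq_one_right hj2
    have hjt : j * t = t * j := by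
      have h1 := inv_zpowers hta hja
      rw [hjinv, mul_inv_eq_iff_eq_mul] at h1
      exact h1.symm
    have hjT := hmemT j hjS hjt
    have hjQ : ∀ q ∈ Q, j * q = q * j := fun q hq => by rw [hi']; exact haiQ i q hq
    obtain ⟨M, hM, hMj⟩ := hZ i
    rw [← hi'] at hMj
    have hjz : j * z = z * j := by rw [hz]; exact p.tz h hjT
    rcases p.cent_or h hjT hjQ hj2 with h1 | h1
    · exfalso
      have h2 : L = M := h.eq_of_cent hL hM p.hQ' (fun q hq => by
        rw [hMj]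
        calc j * t * q = j * (t * q) := by group
          _ = (j * q) * t := by rw [htq' q hq]; group
          _ = q * (j * t) := by rw [h1 q hq]; group)
      rw [← h2, ← ht] at hMj
      exact hj1 (by simpa using hMj)
    · obtain ⟨N, hN, hNz⟩ := OneF.exists_mul h d.hK hL hne hc
      have h2 : Perp (zz K * j) N := by
        refine perp_of_mul h d.hK hL hN hne hc hNz ?_ ⟨Q, p.hQ, ?_⟩ ⟨Q', p.hQ', h1⟩
        · exact isPGroup_zpowers_of_mem p.tp (T.mul_mem (p.zK_mem h) hjT)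
        · intro q hq
          rw [← hz]
          calc z * j * q = z * (j * q) := by group
            _ = (z * q) * j := by rw [hjQ q hq]; group
            _ = q * (z * j) := by rw [hzq q hq]; group
      obtain ⟨Q2, hQ2, hc2⟩ := h2
      have h3 : N = M := h.eq_of_cent hN hM hQ2 (fun q hq => by
        have h4 := hc2 q hq
        have h5 : zz N * q = q * zz N := (h.hyp.comm_zz hN (le_normalizer (hQ2.1 hq))).symm
        have h6 : zz M = (zz K * j) * zz N := by
          rw [hMj, hNz, ← hz, ← ht]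
          calc j * t = (z * z) * j * t := by rw [hzz', one_mul]
            _ = z * (z * j) * t := by group
            _ = z * (j * z) * t := by rw [hjz]
            _ = z * j * (z * t) := by group
        rw [h6]
        calc zz K * j * zz N * q = zz K * j * (zz N * q) := by group
          _ = (zz K * j * q) * zz N := by rw [h5]; group
          _ = q * (zz K * j * zz N) := by rw [h4]; group)
      rw [← h3, hNz, ← hz, ← ht] at hMj
      have h4 : z = j := mul_right_cancel hMj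
      rw [h4]; exact hja
  have hap : IsPGroup 2 (zpowers a) := isPGroup_zpowers_of_mem fr.hS.2.1 haS
  rcases exists_root hzz' hz1 hza hap with h1 | h1 | ⟨e0, he0, he04⟩
  · exact haa (by rw [h1, hzz'])
  · -- `a² = z`
    have hft : f * t * f⁻¹ = z * t := by
      rw [hfinv]
      calc f * t * f = (f * t * (f * t)) * t⁻¹ := by group
        _ = z * t := by rw [← ha, h1, htinv]
    obtain ⟨g, hg⟩ : ∃ g, g = f * w := ⟨_, rfl⟩
    have hgt : g * t * g⁻¹ = t := by
      rw [hg]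
      calc f * w * t * (f * w)⁻¹ = f * (w * t * w⁻¹) * f⁻¹ := by group
        _ = (f * z) * t * f⁻¹ := by rw [hwt]; group
        _ = z * (f * t * f⁻¹) := by rw [hfz]; group
        _ = (z * z) * t := by rw [hft]; group
        _ = t := by rw [hzz', one_mul]
    have hgt' : g * t = t * g := by rwa [mul_inv_eq_iff_eq_mul] at hgt
    have hgT : g ∈ T := hmemT g (by rw [hg]; exact S.mul_mem hfS hwS) hgt'
    have hg2 : g * g = z := by
      rw [hg]
      calc f * w * (f * w) = f * (w * f) * w := by group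
        _ = (f * f) * (w * w) := by rw [← hfw]; group
        _ = z := by rw [hff, hww, one_mul, hz]
    have h2 : (g * g) * w' * (g * g)⁻¹ = w' := by
      have h3 := c.symm.conj_w h hgT
      rw [← hw', ← ht] at h3
      have e1 : (g * g) * w' * (g * g)⁻¹ = g * (g * w' * g⁻¹) * g⁻¹ := by group
      rw [e1]
      rcases h3 with h3 | h3
      · rw [h3, h3]
      · rw [h3]
        calc g * (w' * t) * g⁻¹ = (g * w' * g⁻¹) * (g * t * g⁻¹) := by group
          _ = w' * (t * t) := by rw [h3, hgt]; group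
          _ = w' := by rw [htt, mul_one]
    rw [hg2, hzw'] at h2
    exact ht1 (by simpa using h2)
  · -- `v = e0²`, `v² = z`
    obtain ⟨i, hi⟩ := he0
    have hi' : e0 = a ^ i := hi.symm
    obtain ⟨v, hv⟩ : ∃ v, v = e0 * e0 := ⟨_, rfl⟩
    have hv2 : v * v = z := by rw [hv]; exact he04
    have hvi : v = a ^ (2 * i) := by rw [hv, hi', ← zpow_add, two_mul]
    have hvQ : ∀ q ∈ Q, v * q = q * v := fun q hq => by rw [hvi]; exact haiQ i q hq
    have hvS : v ∈ S := by rw [hvi]; exact S.zpow_mem haS _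
    have htv : t * v * t⁻¹ = v⁻¹ := by rw [hvi]; exact hti _
    obtain ⟨N1, hN1, hN1v⟩ := hZ i
    rw [← hvi] at hN1v
    have hvw : v * w = w * v := hvQ w hwQ
    have hvz : v * z = z * v := sq_comm hv2
    have hvinv : v⁻¹ = z * v := inv_of_sq hv2 hzz'
    obtain ⟨e, he⟩ : ∃ e, e = w * v := ⟨_, rfl⟩
    have heS : e ∈ S := by rw [he]; exact S.mul_mem hwS hvS
    have het : e * t = t * e := by
      have h2 : t * e * t⁻¹ = e := by
        rw [he]
        calc t * (w * v) * t⁻¹ = (t * w * t⁻¹) * (t * v * t⁻¹) := by group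
          _ = w * (z * z) * v := by rw [htw, htv, hvinv]; group
          _ = w * v := by rw [hzz', mul_one]
      rw [mul_inv_eq_iff_eq_mul] at h2
      exact h2.symm
    have heT := hmemT e heS het
    -- `e'` commutes with `w'`
    obtain ⟨w1, hw1, he'⟩ : ∃ w1, (w1 = w ∨ w1 = w * z) ∧ (w1 * v) * w' = w' * (w1 * v) := by
      have h3 := c.symm.conj_w h heT
      rw [← hw', ← ht] at h3
      rcases h3 with h3 | h3
      · refine ⟨w, Or.inl rfl, ?_⟩
        rw [← he]
        rwa [mul_inv_eq_iff_eq_mul] at h3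
      · refine ⟨w * z, Or.inr rfl, ?_⟩
        have e1 : w * z * v = e * z := by rw [he, mul_assoc, ← hvz]; group
        rw [e1]
        have e2 : (e * z) * w' * (e * z)⁻¹ = w' := by
          calc (e * z) * w' * (e * z)⁻¹ = e * (z * w' * z⁻¹) * e⁻¹ := by group
            _ = e * (w' * t) * e⁻¹ := by rw [hzw']
            _ = (e * w' * e⁻¹) * (e * t * e⁻¹) := by group
            _ = (w' * t) * t := by rw [h3, het, mul_inv_cancel_right]
            _ = w' * (t * t) := by group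
            _ = w' := by rw [htt, mul_one]
        rwa [mul_inv_eq_iff_eq_mul] at e2
    have hzx : z ∈ zpowers x := by rw [hz, ← hww]; exact mul_mem hwx hwx
    have hw1x : w1 ∈ zpowers x := by
      rcases hw1 with h3 | h3 <;> rw [h3]
      · exact hwx
      · exact mul_mem hwx hzx
    have hw1w : w1 * w = w * w1 := by
      rcases hw1 with h3 | h3 <;> rw [h3]
      calc w * z * w = w * (z * w) := by group
        _ = w * (w * z) := by rw [hwz]
    have hw1z : w1 * z = z * w1 := by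
      rcases hw1 with h3 | h3 <;> rw [h3]
      · exact hwz
      · rw [← mul_assoc, ← hwz]
    have hw1y : w1 * y ≠ y * w1 := by
      rcases hw1 with h3 | h3 <;> rw [h3]
      · exact hwcy
      · intro h4
        apply hwcy
        have h5 := hzq y c.gq.v_mem
        have h6 : (w * y) * z = (y * w) * z := by
          calc (w * y) * z = w * (z * y) := by rw [h5]; group
            _ = w * z * y := by group
            _ = y * (w * z) := h4
            _ = (y * w) * z := by group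
        exact mul_right_cancel h6
    obtain ⟨e', hee⟩ : ∃ e', e' = w1 * v := ⟨_, rfl⟩
    rw [← hee] at he'
    have hew : e' * w = w * e' := by
      rw [hee]
      calc w1 * v * w = w1 * (v * w) := by group
        _ = (w1 * w) * v := by rw [hvw]; group
        _ = w * (w1 * v) := by rw [hw1w]; group
    have hez : e' * z = z * e' := by
      rw [hee]
      calc w1 * v * z = w1 * (v * z) := by group
        _ = (w1 * z) * v := by rw [hvz]; group
        _ = z * (w1 * v) := by rw [hw1z]; group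
    -- `e' t ∈ Z`
    obtain ⟨q, hq, hqt⟩ := exists_conj_x h c hSD.1 hw1x
    rw [← ht] at hqt
    have hN2 : zz (cj q N1) = e' * t := by
      rw [h.hyp.zz_cj hN1, hN1v]
      have h3 := hvQ q hq
      calc q * (v * t) * q⁻¹ = (q * v) * t * q⁻¹ := by group
        _ = v * (q * t * q⁻¹) := by rw [← h3]; group
        _ = (v * w1) * t := by rw [hqt]; group
        _ = e' * t := by
            rw [hee]
            congr 1
            exact hvQ w1 ((zpowers_le.2 c.gq.c_mem) hw1x)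
    have hN2m : cj q N1 ∈ Om := h.hyp.conj N1 hN1 q
    have hg0 : (w' * w) * (e' * t) * (w' * w)⁻¹ = e' * z := by
      calc (w' * w) * (e' * t) * (w' * w)⁻¹ = w' * (w * e') * t * w⁻¹ * w'⁻¹ := by group
        _ = w' * e' * (w * t * w⁻¹) * w'⁻¹ := by rw [← hew]; group
        _ = (w' * e') * z * t * w'⁻¹ := by rw [hwt]; group
        _ = e' * w' * z * (t * w'⁻¹) := by rw [← he']; group
        _ = e' * w' * z * (w'⁻¹ * t) := by
            congr 1
            exact ((show Commute w' t from hwt').inv_left).eq.symm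
        _ = e' * (w' * z * w'⁻¹) * t := by group
        _ = e' * t * (z * t) := by rw [hwz']; group
        _ = e' * (t * t) * z := by rw [hct]; group
        _ = e' * z := by rw [htt, mul_one]
    have hN3 : zz (cj (w' * w) (cj q N1)) = e' * z := by
      rw [h.hyp.zz_cj hN2m, hN2, hg0]
    have hN3m : cj (w' * w) (cj q N1) ∈ Om := h.hyp.conj _ hN2m _
    refine hnoW _ hN3m ?_ ?_ w (p.hQ.1 hwQ) hww ?_
    · intro h3
      rw [← h3, ← hz] at hN3
      have h4 : e' = 1 := by simpa using hN3.symm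
      apply hw1y
      have h5 : w1 = v⁻¹ := by rw [eq_inv_iff_mul_eq_one, ← hee, h4]
      rw [h5]
      exact ((show Commute v y from hvQ y c.gq.v_mem).inv_left).eq
    · rw [hN3, ← hz]
      calc z * (e' * z) = (z * e') * z := by group
        _ = e' * z * z := by rw [← hez]
    · rw [hN3]
      calc w * (e' * z) = (w * e') * z := by group
        _ = e' * (w * z) := by rw [← hew]; group
        _ = e' * z * w := by rw [hwz]; group

/-- **LEMMA ISO** -/
theorem iso (d : D8 Om K f r) (h : One Om) (hk : K1 Om) (hL1 : L1 Om) (hL : L ∈ Om)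
    (hc : zz K * zz L = zz L * zz K) : K = L := by
  by_contra hne
  exact d.no_SD h hL1 hL hne hc fun M hM hne' hc' u hu hu2 hut =>
    d.no_W h hk hL1 hM hne' hc' hu hu2 hut

end D8

end Cfsg.Agent.Cit.ThreeIso
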