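import Cfsg.Agent.Cit.SameStar
import Cfsg.Agent.Cit.ThreeIso
import Cfsg.Agent.Cit.TyTrans
import Cfsg.Agent.Cit.OneF.Main
import Cfsg.Agent.S0215

/-!
# `|Om(S)| = 3`, all three members over one involution (case (A), bb R18 #6163, #7277, #8381)

`Three Om`: HYP, `|Om(S)| = 3` and all members of `Om(S)` have the same involution.

* `Three.star` : `z = zz K` centralises the `z`-invariant 2-subgroups of `C(t)`, `t ∈ TT(z)`;
* `Three.isolated` : no other `zz L` commutes with `zz K`;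
* `Three.comm_mem` : `zz K` is central modulo `O(G)`;
* `Three.false_of_simple` : impossible in simple groups.
-/

set_option autoImplicit false
set_option linter.style.haveILetI false
set_option linter.unusedSectionVars false

namespace Cfsg.Agent.Cit.ThreeA

open Subgroup Cfsg Cit OneBasic OneF SameStar SubCent

variable {G : Type*} [Group G] {Om : Set (Subgroup G)}

/-- HYP, `|Om(S)| = 3`, one involution -/
structure Three (Om : Set (Subgroup G)) : Prop where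
  hyp : Hyp Om
  same : Same Om
  three : ∀ S : Sylow 2 G, (OmS Om (S : Subgroup G)).ncard = 3

namespace Three

variable [Finite G]

theorem ncard_cj (h : Hyp Om) (g : G) (S : Subgroup G) : (OmS Om (cj g S)).ncard = (OmS Om S).ncard := by
  rw [OmS_cj h.conj]
  exact Set.ncard_image_of_injective _ fun K L hKL => cj_inj.mp hKL

/-- it is enough to look at one Sylow 2-subgroup -/
theorem of_sylow (h : Hyp Om) (S : Sylow 2 G) (h3 : (OmS Om (S : Subgroup G)).ncard = 3)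
    (hs : ∀ K ∈ OmS Om (S : Subgroup G), ∀ L ∈ OmS Om (S : Subgroup G), zz K = zz L) : Three Om := by
  refine ⟨h, ?_, ?_⟩
  · intro P hP K hK L hL
    obtain ⟨g, hg⟩ := exists_le_cj S hP
    have hK' := OmS_mono hg hK
    have hL' := OmS_mono hg hL
    rw [OmS_cj h.conj] at hK' hL'
    obtain ⟨K0, hK0, rfl⟩ := hK'
    obtain ⟨L0, hL0, rfl⟩ := hL'
    rw [h.zz_cj hK0.1, h.zz_cj hL0.1, hs K0 hK0 L0 hL0]
  · intro S'
    obtain ⟨g, hg⟩ := exists_le_cj S S'.isPGroup'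
    obtain ⟨g', hg'⟩ := exists_le_cj S' S.isPGroup'
    have h1 := Set.ncard_le_ncard (OmS_mono (Om := Om) hg)
    have h2 := Set.ncard_le_ncard (OmS_mono (Om := Om) hg')
    rw [ncard_cj h] at h1 h2
    omega

/-- exactly three members over `zz K` -/
theorem ncard_over (h : Three Om) {K : Subgroup G} (hK : K ∈ Om) : {J | J ∈ Om ∧ zz J = zz K}.ncard = 3 := by
  obtain ⟨S, hS, -⟩ := h.hyp.exists_sylow hK
  rw [← h.three S]
  congr 1
  ext J
  constructor
  · rintro ⟨hJ, hz⟩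
    exact h.hyp.mem_OmS_of_zz_eq S hS hJ hz
  · intro hJ
    exact ⟨hJ.1, h.same S S.isPGroup' J hJ K hS⟩

theorem exists_third (h : Three Om) {K₁ K₂ : Subgroup G} (h1 : K₁ ∈ Om) (h2 : K₂ ∈ Om)
    (hz : zz K₂ = zz K₁) (hne : K₁ ≠ K₂) : ∃ K₃ ∈ Om, zz K₃ = zz K₁ ∧ K₁ ≠ K₃ ∧ K₂ ≠ K₃ ∧
      ∀ L ∈ Om, zz L = zz K₁ → L = K₁ ∨ L = K₂ ∨ L = K₃ := by
  have hs : ({K₁, K₂} : Set (Subgroup G)) ⊆ {J | J ∈ Om ∧ zz J = zz K₁} := by
    rintro J (rfl | rfl)
    · exact ⟨h1, rfl⟩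
    · exact ⟨h2, hz⟩
  have h3 : ({J | J ∈ Om ∧ zz J = zz K₁} \ {K₁, K₂}).ncard = 1 := by
    rw [Set.ncard_sdiff hs, h.ncard_over h1, Set.ncard_pair hne]
  obtain ⟨K₃, hK₃⟩ := Set.ncard_eq_one.1 h3
  have h4 : K₃ ∈ {J | J ∈ Om ∧ zz J = zz K₁} \ {K₁, K₂} := by rw [hK₃]; rfl
  have h5 : K₃ ≠ K₁ ∧ K₃ ≠ K₂ := by
    have := h4.2
    rw [Set.mem_insert_iff, Set.mem_singleton_iff, not_or] at this
    exact this
  refine ⟨K₃, h4.1.1, h4.1.2, h5.1.symm, h5.2.symm, fun L hL hzL => ?_⟩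
  by_cases h6 : L = K₁
  · exact Or.inl h6
  by_cases h7 : L = K₂
  · exact Or.inr (Or.inl h7)
  right; right
  have h8 : L ∈ ({J | J ∈ Om ∧ zz J = zz K₁} \ {K₁, K₂} : Set (Subgroup G)) :=
    ⟨⟨hL, hzL⟩, by rw [Set.mem_insert_iff, Set.mem_singleton_iff, not_or]; exact ⟨h6, h7⟩⟩
  rw [hK₃] at h8
  exact h8

/-- a 2-group centralising `zz L` normalises a member over `zz L` -/
theorem exists_fixed (h : Three Om) {L V : Subgroup G} (hL : L ∈ Om) (hV : IsPGroup 2 V)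
    (hVL : V ≤ centralizer {zz L}) : ∃ J ∈ Om, zz J = zz L ∧ V ≤ normalizer (J : Set G) := by
  haveI : Fact (Nat.Prime 2) := ⟨Nat.prime_two⟩
  let X : Set (Subgroup G) := {J | J ∈ Om ∧ zz J = zz L}
  letI : MulAction V X :=
    { smul := fun v J => ⟨cj (v : G) J.1, h.hyp.conj _ J.2.1 _, by
        rw [h.hyp.zz_cj J.2.1, J.2.2, mem_centralizer_singleton_iff.1 (hVL v.2), mul_inv_cancel_right]⟩
      one_smul := fun J => Subtype.ext (cj_one _)
      mul_smul := fun v w J => Subtype.ext (cj_mul _ _ _) }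
  have hX : ¬ 2 ∣ Nat.card X := by
    have h1 : Nat.card X = 3 := by
      rw [Nat.card_coe_set_eq]
      exact h.ncard_over hL
    rw [h1]; norm_num
  obtain ⟨J, hJ⟩ := hV.nonempty_fixed_point_of_prime_not_dvd_card X hX
  refine ⟨J, J.2.1, J.2.2, fun v hv => ?_⟩
  rw [mem_normalizer_iff_cj]
  exact congrArg Subtype.val (hJ ⟨v, hv⟩)

end Three

/-! ### The centraliser of `t = x y` -/

/-- coordinates for `t ∈ TT(z)` -/
structure Set3 (Om : Set (Subgroup G)) (z t : G) (K₁ K₂ K₃ T : Subgroup G) (x y : G) : Prop where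
  hT : Syl T (centralizer {z})
  m1 : K₁ ∈ Om
  m2 : K₂ ∈ Om
  m3 : K₃ ∈ Om
  z1 : zz K₁ = z
  z2 : zz K₂ = z
  z3 : zz K₃ = z
  n12 : K₁ ≠ K₂
  n13 : K₁ ≠ K₃
  n23 : K₂ ≠ K₃
  all : ∀ L ∈ Om, zz L = z → L = K₁ ∨ L = K₂ ∨ L = K₃
  hx : x ∈ K₁ ⊓ T
  hy : y ∈ K₂ ⊓ T
  xx : x * x = z
  yy : y * y = z
  ht : t = x * y

theorem Three.exists_set3 [Finite G] (h : Three Om) {z t : G} (ht : Tw Om z t) :
    ∃ K₁ K₂ K₃ T x y, Set3 Om z t K₁ K₂ K₃ T x y := by
  obtain ⟨S, K, L, hS, hK, hL, hne, hzK, hzL, x, hx, y, hy, hxx, hyy, ht⟩ := ht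
  obtain ⟨M, hM, hzM, n1, n2, hall⟩ := h.exists_third hK.1 hL.1 (by rw [hzL, hzK]) hne
  rw [hzK] at hzM hall
  have hP : IsPGroup 2 (DD Om S) := hS.to_le DD_le
  have hPC : DD Om S ≤ centralizer {z} := by
    rw [← hzK]; exact h.hyp.DD_le_centralizer hS hK
  obtain ⟨T, hT, hPT⟩ := Cit.exists_syl_ge hP hPC
  exact ⟨K, L, M, T, x, y, hT, hK.1, hL.1, hM, hzK, hzL, hzM, hne, n1, n2, hall,
    ⟨hx.1, hPT (inf_le_DD hK hx)⟩, ⟨hy.1, hPT (inf_le_DD hL hy)⟩, hxx, hyy, ht⟩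

namespace Set3

variable [Finite G] {z t x y : G} {K₁ K₂ K₃ T : Subgroup G}

theorem Tp (s : Set3 Om z t K₁ K₂ K₃ T x y) : IsPGroup 2 T := s.hT.2.1

theorem mem (s : Set3 Om z t K₁ K₂ K₃ T x y) (h : Hyp Om) {K : Subgroup G} (hK : K ∈ Om) (hz : zz K = z) :
    K ∈ OmS Om T := by
  have := s.hT
  rw [← hz] at this
  exact h.mem_OmS_of_syl hK this

theorem k1 (s : Set3 Om z t K₁ K₂ K₃ T x y) (h : Hyp Om) : K₁ ∈ OmS Om T := s.mem h s.m1 s.z1
theorem k2 (s : Set3 Om z t K₁ K₂ K₃ T x y) (h : Hyp Om) : K₂ ∈ OmS Om T := s.mem h s.m2 s.z2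
theorem k3 (s : Set3 Om z t K₁ K₂ K₃ T x y) (h : Hyp Om) : K₃ ∈ OmS Om T := s.mem h s.m3 s.z3

theorem symm (s : Set3 Om z t K₁ K₂ K₃ T x y) (h : Hyp Om) : Set3 Om z t K₂ K₁ K₃ T y x where
  hT := s.hT
  m1 := s.m2
  m2 := s.m1
  m3 := s.m3
  z1 := s.z2
  z2 := s.z1
  z3 := s.z3
  n12 := s.n12.symm
  n13 := s.n23
  n23 := s.n13
  all := fun L hL hz => by
    rcases s.all L hL hz with h1 | h1 | h1
    · exact Or.inr (Or.inl h1)
    · exact Or.inl h1
    · exact Or.inr (Or.inr h1)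
  hx := s.hy
  hy := s.hx
  xx := s.yy
  yy := s.xx
  ht := by rw [s.ht, h.comm s.Tp (s.k1 h) (s.k2 h) s.n12 s.hx s.hy]

theorem zz_mul (s : Set3 Om z t K₁ K₂ K₃ T x y) (h : Hyp Om) : z * z = 1 := by
  rw [← s.z1]; exact h.zz_mul s.m1

theorem z_ne (s : Set3 Om z t K₁ K₂ K₃ T x y) (h : Hyp Om) : z ≠ 1 := by
  rw [← s.z1]; exact h.zz_ne s.m1

theorem tw (s : Set3 Om z t K₁ K₂ K₃ T x y) (h : Hyp Om) : Tw Om z t :=
  ⟨T, K₁, K₂, s.Tp, s.k1 h, s.k2 h, s.n12, s.z1, s.z2, x, s.hx, y, s.hy, s.xx, s.yy, s.ht⟩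

theorem tT (s : Set3 Om z t K₁ K₂ K₃ T x y) : t ∈ T := by
  rw [s.ht]; exact T.mul_mem s.hx.2 s.hy.2

theorem comm3 (s : Set3 Om z t K₁ K₂ K₃ T x y) (h : Hyp Om) {q : G} (hq : q ∈ K₃ ⊓ T) : t * q = q * t := by
  have h1 := h.comm s.Tp (s.k1 h) (s.k3 h) s.n13 s.hx hq
  have h2 := h.comm s.Tp (s.k2 h) (s.k3 h) s.n23 s.hy hq
  rw [s.ht]
  calc x * y * q = x * (y * q) := by group
    _ = (x * q) * y := by rw [h2]; group
    _ = q * (x * y) := by rw [h1]; group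

theorem norm3 (s : Set3 Om z t K₁ K₂ K₃ T x y) (h : Hyp Om) : t ∈ normalizer (K₃ : Set G) := by
  have h1 := h.DD_le_normalizer s.Tp (s.k3 h)
  rw [s.ht]
  exact mul_mem (h1 (inf_le_DD (s.k1 h) s.hx)) (h1 (inf_le_DD (s.k2 h) s.hy))

theorem tp (s : Set3 Om z t K₁ K₂ K₃ T x y) : IsPGroup 2 (zpowers t) := isPGroup_zpowers_of_mem s.Tp s.tT

theorem cov3 (s : Set3 Om z t K₁ K₂ K₃ T x y) (h : Hyp Om) : K₃ ∈ cov Om (centralizer {t}) := by
  have h1 := Trivial.commutator_le h s.m3 (syl_inf s.Tp (s.k3 h)) s.tp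
    (zpowers_le.2 (s.norm3 h)) (fun a ha q hq => (comm_zpowers (s.comm3 h hq).symm ha).symm)
  have h2 := cov_of_comm s.m3 s.tp h1
  rwa [PairComm.centralizer_zpowers] at h2

theorem not_cov1 (s : Set3 Om z t K₁ K₂ K₃ T x y) (h : Hyp Om) : K₁ ∉ cov Om (centralizer {t}) := by
  intro h1
  rw [← PairComm.centralizer_zpowers] at h1
  have h2 := (comm_of_cov h h1).2
  obtain ⟨c, v, n, gq⟩ := h.exists_gq s.m1 (syl_inf s.Tp (s.k1 h))
  rw [s.z1] at gq
  have hx4 : orderOf x = 4 := GQ.orderOf_of_sq s.xx (s.zz_mul h) (s.z_ne h)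
  obtain ⟨q, hq, hq4, hqx⟩ := gq.exists_inverting s.hx hx4
  have h3 : q * y = y * q := h.comm s.Tp (s.k1 h) (s.k2 h) s.n12 hq s.hy
  have h4 : q * t * q⁻¹ * t⁻¹ = z := by
    rw [s.ht]
    have h5 : q * (x * y) * q⁻¹ = x⁻¹ * y := by
      calc q * (x * y) * q⁻¹ = (q * x * q⁻¹) * (q * y * q⁻¹) := by group
        _ = x⁻¹ * y := by rw [hqx, h3, mul_inv_cancel_right]
    rw [h5, mul_inv_rev]
    calc x⁻¹ * y * (y⁻¹ * x⁻¹) = (x * x)⁻¹ := by group
      _ = z⁻¹ := by rw [s.xx]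
      _ = z := inv_eq_of_mul_eq_one_right (s.zz_mul h)
  have h5 : z ∈ OO K₁ := by
    rw [← h4]
    exact h2 (commutator_mem_commutator hq.1 (mem_zpowers t))
  exact s.z_ne h (eq_one_of_mem_odd s.Tp (odd_OO K₁) (by
    have := h.zz_mem_inf s.Tp (s.k1 h)
    rw [s.z1] at this
    exact this.2) h5)

theorem eq_of_cov (s : Set3 Om z t K₁ K₂ K₃ T x y) (h : Hyp Om) {L : Subgroup G}
    (hL : L ∈ cov Om (centralizer {t})) (hz : zz L = z) : L = K₃ := by
  rcases s.all L hL.1 hz with h1 | h1 | h1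
  · rw [h1] at hL
    exact (s.not_cov1 h hL).elim
  · rw [h1] at hL
    exact ((s.symm h).not_cov1 h hL).elim
  · exact h1

theorem le3 (s : Set3 Om z t K₁ K₂ K₃ T x y) (h : Hyp Om) : K₃ ⊓ T ≤ centralizer {t} := fun q hq => by
  rw [mem_centralizer_singleton_iff]
  exact (s.comm3 h hq).symm

/-- in `C(t)` -/
theorem key (s : Set3 Om z t K₁ K₂ K₃ T x y) (h : Hyp Om) (same : Same Om) {P : Subgroup (centralizer {t})}
    (hP : IsPGroup 2 P) (hle : (K₃ ⊓ T).subgroupOf (centralizer {t}) ≤ P) {M : Subgroup (centralizer {t})}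
    (hM : M ∈ OmS (restrX Om (centralizer {t})) P) : M = K₃.subgroupOf (centralizer {t}) := by
  obtain ⟨R, hR⟩ : ∃ R, R = P.map (centralizer {t}).subtype := ⟨_, rfl⟩
  have hRC : R ≤ centralizer {t} := by rw [hR]; exact map_subtype_le P
  have hRp : IsPGroup 2 R := by rw [hR]; exact hP.map _
  have hPR : P = R.subgroupOf (centralizer {t}) := by
    rw [hR, subgroupOf, comap_map_eq_self_of_injective (centralizer {t}).subtype_injective]
  obtain ⟨K, hK, rfl⟩ := hM.1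
  rw [hPR, mem_OmS_restrX hK hRC] at hM
  have h3 : K₃ ∈ OmS Om R := by
    refine mem_OmS_of_le s.m3 (syl_inf s.Tp (s.k3 h)) ?_
    rw [hR, ← map_subgroupOf_eq_of_le (s.le3 h)]
    exact Subgroup.map_mono hle
  have h4 := same R hRp K hM K₃ h3
  rw [s.z3] at h4
  rw [s.eq_of_cov h hK h4]

/-- **`One` for `C(t)`** -/
theorem one (s : Set3 Om z t K₁ K₂ K₃ T x y) (h : Hyp Om) (same : Same Om) :
    One (restrX Om (centralizer {t})) := by
  haveI : Fact (Nat.Prime 2) := ⟨Nat.prime_two⟩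
  have hy := hyp_restrX h (centralizer {t})
  refine ⟨hy, ?_⟩
  intro P hP K hK L hL
  have h1 : IsPGroup 2 ((K₃ ⊓ T).subgroupOf (centralizer {t})) :=
    (s.Tp.to_le inf_le_right).comap_subtype
  obtain ⟨P3, hP3⟩ := h1.exists_le_sylow
  obtain ⟨c, hc⟩ := exists_le_cj P3 hP
  have hh : ∀ M ∈ OmS (restrX Om (centralizer {t})) P, cj c⁻¹ M = K₃.subgroupOf (centralizer {t}) := by
    intro M hM
    have h2 := cj_mem_OmS hy.conj c⁻¹ (OmS_mono hc hM)
    rw [cj_inv_cj] at h2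
    exact s.key h same P3.isPGroup' hP3 h2
  exact cj_inj.1 ((hh K hK).trans (hh L hL).symm)

/-- the `D8` in `C(t)` -/
theorem exists_d8 (s : Set3 Om z t K₁ K₂ K₃ T x y) (h : Hyp Om) :
    ∃ f r : centralizer {t}, ThreeIso.D8 (restrX Om (centralizer {t})) (K₃.subgroupOf (centralizer {t})) f r := by
  have hzz := s.zz_mul h
  obtain ⟨c, v, n, gq⟩ := h.exists_gq s.m1 (syl_inf s.Tp (s.k1 h))
  obtain ⟨c', v', n', gq'⟩ := h.exists_gq s.m2 (syl_inf s.Tp (s.k2 h))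
  rw [s.z1] at gq
  rw [s.z2] at gq'
  have hx4 : orderOf x = 4 := GQ.orderOf_of_sq s.xx hzz (s.z_ne h)
  have hy4 : orderOf y = 4 := GQ.orderOf_of_sq s.yy hzz (s.z_ne h)
  obtain ⟨u, hu, hu4, hux⟩ := gq.exists_inverting s.hx hx4
  obtain ⟨w, hw, hw4, hwy⟩ := gq'.exists_inverting s.hy hy4
  have huu := gq.sq_of_four hu hu4
  have hww := gq'.sq_of_four hw hw4
  have cuw : u * w = w * u := h.comm s.Tp (s.k1 h) (s.k2 h) s.n12 hu hw
  have cuy : u * y = y * u := h.comm s.Tp (s.k1 h) (s.k2 h) s.n12 hu s.hy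
  have cxy : x * y = y * x := h.comm s.Tp (s.k1 h) (s.k2 h) s.n12 s.hx s.hy
  have cxw : x * w = w * x := h.comm s.Tp (s.k1 h) (s.k2 h) s.n12 s.hx hw
  have hxz : x * z = z * x := by rw [← s.xx, mul_assoc]
  have hyz : y * z = z * y := by rw [← s.yy, mul_assoc]
  have huz : u * z = z * u := by rw [← huu, mul_assoc]
  have hxi : x⁻¹ = x * z := by rw [inv_eq_iff_mul_eq_one, ← mul_assoc, s.xx, hzz]
  have hyi : y⁻¹ = y * z := by rw [inv_eq_iff_mul_eq_one, ← mul_assoc, s.yy, hzz]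
  -- `f = u w`
  have hfC : u * w ∈ centralizer {t} := by
    rw [mem_centralizer_singleton_iff, s.ht]
    have h1 : (u * w) * (x * y) * (u * w)⁻¹ = x * y := by
      calc (u * w) * (x * y) * (u * w)⁻¹ = u * ((w * x) * y) * w⁻¹ * u⁻¹ := by group
        _ = u * x * (w * y * w⁻¹) * u⁻¹ := by rw [← cxw]; group
        _ = u * x * (y * z) * u⁻¹ := by rw [hwy, hyi]
        _ = u * x * (z * y) * u⁻¹ := by rw [hyz]
        _ = u * x * z * (y * u⁻¹) := by group
        _ = u * x * z * (u⁻¹ * y) := by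
            congr 1
            exact ((show Commute u y from cuy).inv_left).eq.symm
        _ = (u * x * u⁻¹) * (u * z * u⁻¹) * y := by group
        _ = (x * z) * z * y := by rw [hux, hxi, huz, mul_inv_cancel_right]
        _ = x * (z * z) * y := by group
        _ = x * y := by rw [hzz, mul_one]
    exact mul_inv_eq_iff_eq_mul.1 h1
  have hrC : x ∈ centralizer {t} := by
    rw [mem_centralizer_singleton_iff, s.ht]
    calc x * (x * y) = x * (y * x) := by rw [cxy]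
      _ = x * y * x := by group
  have hz3 : ((zz (K₃.subgroupOf (centralizer {t})) : centralizer {t}) : G) = z := by
    rw [zz_subgroupOf h (s.cov3 h), s.z3]
  refine ⟨⟨u * w, hfC⟩, ⟨x, hrC⟩, ⟨K₃, s.cov3 h, rfl⟩, ?_, ?_, ?_, ?_⟩
  · apply Subtype.ext
    change u * w * (u * w) = 1
    calc u * w * (u * w) = u * (w * u) * w := by group
      _ = (u * u) * (w * w) := by rw [← cuw]; group
      _ = 1 := by rw [huu, hww, hzz]
  · refine ⟨(K₃ ⊓ T).subgroupOf (centralizer {t}), ?_, ?_⟩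
    · have h1 := syl_inf_of_syl (H := centralizer {t}) (syl_inf s.Tp (s.k3 h)) (s.le3 h)
      refine ⟨?_, h1.2.1.comap_subtype, ?_⟩
      · intro q hq
        exact (mem_subgroupOf.1 hq).1
      · have h2 := relIndex_subgroupOf (H := K₃ ⊓ T) (inf_le_right : K₃ ⊓ centralizer {t} ≤ centralizer {t})
        rw [inf_subgroupOf_right] at h2
        rw [h2]
        exact h1.2.2
    · intro q hq
      apply Subtype.ext
      change u * w * (q : G) = q * (u * w)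
      have hq' : (q : G) ∈ K₃ ⊓ T := hq
      have a1 := h.comm s.Tp (s.k1 h) (s.k3 h) s.n13 hu hq'
      have a2 := h.comm s.Tp (s.k2 h) (s.k3 h) s.n23 hw hq'
      calc u * w * (q : G) = u * (w * q) := by group
        _ = (u * q) * w := by rw [a2]; group
        _ = q * (u * w) := by rw [a1]; group
  · apply Subtype.ext
    change x * ((zz (K₃.subgroupOf (centralizer {t})) : centralizer {t}) : G) = ((zz (K₃.subgroupOf (centralizer {t})) : centralizer {t}) : G) * x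
    rw [hz3, hxz]
  · apply Subtype.ext
    change x * (u * w) * x⁻¹ = u * w * ((zz (K₃.subgroupOf (centralizer {t})) : centralizer {t}) : G)
    rw [hz3]
    have h1 : x * u * x⁻¹ = u * z := by
      have h2 : u * x = x⁻¹ * u := mul_inv_eq_iff_eq_mul.1 hux
      have h3 : x * u = u * x⁻¹ := by
        calc x * u = x * (u * x) * x⁻¹ := by group
          _ = u * x⁻¹ := by rw [h2]; group
      calc x * u * x⁻¹ = u * (x⁻¹ * x⁻¹) := by rw [h3]; group
        _ = u * ((x * z) * (x * z)) := by rw [hxi]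
        _ = u * (x * (z * x) * z) := by group
        _ = u * ((x * x) * (z * z)) := by rw [← hxz]; group
        _ = u * z := by rw [s.xx, hzz, mul_one]
    have hwz : w * z = z * w := by rw [← hww, mul_assoc]
    calc x * (u * w) * x⁻¹ = (x * u * x⁻¹) * (x * w * x⁻¹) := by group
      _ = u * z * w := by rw [h1, cxw, mul_inv_cancel_right]
      _ = u * w * z := by rw [mul_assoc, ← hwz]; group

/-- **`z` is central modulo the core of `C(t)`** -/
theorem zstar (s : Set3 Om z t K₁ K₂ K₃ T x y) (h : Hyp Om) (same : Same Om) (hT : ∀ K ∈ Om, IsType K) :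
    ∃ N : Subgroup (centralizer {t}), ¬ 2 ∣ Nat.card N ∧ ∀ g : centralizer {t},
      z * (g : G) * z⁻¹ * (g : G)⁻¹ ∈ N.map (centralizer {t}).subtype := by
  haveI : Fact (Nat.Prime 2) := ⟨Nat.prime_two⟩
  have hO := s.one h same
  have hK1 := k1_of_type hO.hyp (TyTrans.isType_restrX hT (centralizer {t}))
  have hL1 := l1 hO (k1rel_of_k1 hO.hyp hK1)
  obtain ⟨f, r, d⟩ := s.exists_d8 h
  have hz3 : ((zz (K₃.subgroupOf (centralizer {t})) : centralizer {t}) : G) = z := by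
    rw [zz_subgroupOf h (s.cov3 h), s.z3]
  -- a Sylow 2-subgroup containing a Sylow subgroup of `K₃`
  obtain ⟨Q, hQ⟩ := Hyp.exists_syl (K₃.subgroupOf (centralizer {t}))
  obtain ⟨P, hP⟩ := hQ.2.1.exists_le_sylow
  have hKP : K₃.subgroupOf (centralizer {t}) ∈ OmS (restrX Om (centralizer {t})) P :=
    mem_OmS_of_le d.hK hQ hP
  have hPN := hO.le_normalizer_self P.isPGroup' hKP
  obtain ⟨N, hN, hNo, hNc⟩ := Cfsg.Agent.S0215.result P (zz (K₃.subgroupOf (centralizer {t})))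
    (hO.hyp.orderOf_zz d.hK) ((hO.hyp.zz_mem_inf P.isPGroup' hKP).2) (by
      intro g hg
      have h1 := hO.hyp.comm_zz d.hK (hPN hg)
      have h2 := d.iso hO hK1 hL1 (hO.hyp.conj _ d.hK g) (by rw [hO.hyp.zz_cj d.hK]; exact h1.symm)
      rw [← hO.hyp.zz_cj d.hK, ← h2])
  refine ⟨N, fun h2 => ?_, fun g => ?_⟩
  · rw [Nat.odd_iff] at hNo; omega
  · refine ⟨_, hNc g, ?_⟩
    change ((zz (K₃.subgroupOf (centralizer {t})) : centralizer {t}) : G) * g * ((zz (K₃.subgroupOf (centralizer {t})) : centralizer {t}) : G)⁻¹ *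
      (g : G)⁻¹ = _
    rw [hz3]

end Set3

namespace Three

variable [Finite G]

/-- **(star)** -/
theorem star (h : Three Om) (hT : ∀ K ∈ Om, IsType K) (z : G) : Star Om z := by
  intro t ht R hR hRt hz r hr
  obtain ⟨K₁, K₂, K₃, T, x, y, s⟩ := h.exists_set3 ht
  obtain ⟨N, hN, hNc⟩ := s.zstar h.hyp h.same hT
  have h1 := hNc ⟨r, mem_centralizer_singleton_iff.2 (hRt r hr)⟩
  have h2 : z * r * z⁻¹ * r⁻¹ ∈ R := R.mul_mem ((mem_normalizer_iff.1 hz r).1 hr) (R.inv_mem hr)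
  have h3 : ¬ 2 ∣ Nat.card (N.map (centralizer {t}).subtype) := by
    rw [card_map_of_injective (centralizer {t}).subtype_injective]
    exact hN
  have h4 := eq_one_of_mem_odd hR h3 h2 h1
  rw [mul_inv_eq_one, mul_inv_eq_iff_eq_mul] at h4
  exact h4

/-- **no other involution `zz L` commutes with `zz K`** -/
theorem isolated (h : Three Om) (hT : ∀ K ∈ Om, IsType K) {K L : Subgroup G} (hK : K ∈ Om) (hL : L ∈ Om)
    (hc : zz K * zz L = zz L * zz K) : zz L = zz K := by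
  by_contra hne
  obtain ⟨K₂, hK₂, hz₂, hn₂⟩ : ∃ K₂ ∈ Om, zz K₂ = zz K ∧ K ≠ K₂ := by
    by_contra hcon
    push Not at hcon
    have h1 : {J | J ∈ Om ∧ zz J = zz K} ⊆ {K} := fun J hJ => by
      rw [Set.mem_singleton_iff]
      exact (hcon J hJ.1 hJ.2).symm
    have h2 := Set.ncard_le_ncard h1
    rw [h.ncard_over hK, Set.ncard_singleton] at h2
    omega
  obtain ⟨K₃, hK₃, hz₃, n13, n23, -⟩ := h.exists_third hK hK₂ hz₂ hn₂
  refine false_of_star h.hyp h.same hK hK₂ hK₃ rfl hz₂ hz₃ hn₂ n13 n23 (h.star hT _) hL hne hc ?_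
  intro t₁ t₂ a1 a2 a3 a4 a5 a6
  obtain ⟨J, hJ, hzJ, hV⟩ := h.exists_fixed hL (V := zpowers t₁ ⊔ zpowers t₂)
    (exists_two_of_commute (isPGroup_of_sq (a1.sq h.hyp)) (isPGroup_of_sq (a2.sq h.hyp)) a4) (by
      rw [sup_le_iff, zpowers_le, zpowers_le, mem_centralizer_singleton_iff, mem_centralizer_singleton_iff]
      exact ⟨a5, a6⟩)
  exact ⟨J, hJ, hzJ, hV (mem_sup_left (mem_zpowers t₁)), hV (mem_sup_right (mem_zpowers t₂))⟩

/-- **`zz K` is central modulo a normal subgroup of odd order** -/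
theorem exists_normal (h : Three Om) (hT : ∀ K ∈ Om, IsType K) {K : Subgroup G} (hK : K ∈ Om) :
    ∃ N : Subgroup G, N.Normal ∧ Odd (Nat.card N) ∧ ∀ g : G, zz K * g * (zz K)⁻¹ * g⁻¹ ∈ N := by
  obtain ⟨S, hS, -⟩ := h.hyp.exists_sylow hK
  refine Cfsg.Agent.S0215.result S (zz K) (h.hyp.orderOf_zz hK) ((h.hyp.zz_mem_inf S.isPGroup' hS).2) ?_
  intro g hg
  have h1 : zz (cj (g * zz K * g⁻¹) K) = zz K :=
    h.same S S.isPGroup' _ (cj_mem_OmS' h.hyp.conj (le_normalizer hg) hS) K hS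
  rw [h.hyp.zz_cj hK, mul_inv_eq_iff_eq_mul] at h1
  rw [← h.hyp.zz_cj hK] at h1 ⊢
  exact h.isolated hT hK (h.hyp.conj K hK g) h1.symm

/-- **case (A) is impossible in simple groups** -/
theorem false_of_simple [IsSimpleGroup G] (h : Three Om) (hT : ∀ K ∈ Om, IsType K) (hne : Om.Nonempty) :
    False := by
  obtain ⟨K, hK⟩ := hne
  obtain ⟨N, hN, hNo, hNc⟩ := h.exists_normal hT hK
  rcases hN.eq_bot_or_eq_top with h1 | h1
  · have h2 : zz K ∈ center G := by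
      rw [mem_center_iff]
      intro g
      have h3 := hNc g
      rw [h1, mem_bot, mul_inv_eq_one, mul_inv_eq_iff_eq_mul] at h3
      exact h3.symm
    have h4 : center G = ⊤ := by
      rcases (inferInstance : (center G).Normal).eq_bot_or_eq_top with h5 | h5
      · rw [h5, mem_bot] at h2
        exact (h.hyp.zz_ne hK h2).elim
      · exact h5
    obtain ⟨Q, hQ⟩ := Hyp.exists_syl K
    obtain ⟨c, v, n, gq⟩ := h.hyp.exists_gq hK hQ
    refine gq.not_comm ?_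
    have h5 : c ∈ center G := by rw [h4]; exact mem_top c
    exact mem_center_iff.1 h5 v
  · rw [h1, card_top] at hNo
    have h2 := orderOf_dvd_natCard (zz K)
    rw [h.hyp.orderOf_zz hK] at h2
    rw [Nat.odd_iff] at hNo
    omega

end Three

end Cfsg.Agent.Cit.ThreeA
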