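import Cfsg.Agent.Cit.CoreThree
import Cfsg.Agent.Cit.FrameOfFr
import Cfsg.Agent.Nodes.ZRel
import Cfsg.Agent.Nodes.ShortSum

/-!
# `|Om(S)| = 3`, `z₁ z₂ z₃ = 1`: type `A₄` is impossible

* `pc_tr_self` : in `C(zz K) / O(C(zz K))` the trace of `K` is a piece of its own;
* `z_mul` : `z₁ z₂ z₃ = 1`: for two orthogonal classical roots `r`, `s` of a chart of the piece `PP Om K L` the product
  `z r * z s` is the image of `zz K`, hence central;
* `aFour` : `CoreThree.AFourStmt`;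
* `X_eq_Z` : `X r = Z r` for these charts, if there is a classical root orthogonal to `r`.
-/

set_option autoImplicit false
set_option linter.unusedSectionVars false

namespace Cfsg.Agent.Cit.ThreeAFour

open Subgroup Cfsg Cfsg.Agent.Cit.UseT Cfsg.Agent.Cit.SubCent Cfsg.Agent.Cit.CoreThree Cfsg.Agent.Cit.Branches
open CoxeterSystem Cfsg.Agent.ChevalleyStructure.CoxeterGeom Cfsg.Agent.Tits.Roots Cfsg.Agent.Nodes.Chart
  Cfsg.Agent.Nodes.Perp

universe u

section

variable {G : Type*} [Group G] [Finite G] {Om : Set (Subgroup G)}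

/-- a Sylow 2-subgroup of `C(zz K)` containing a given 2-subgroup -/
theorem exists_syl_ge {H T : Subgroup G} (hT : IsPGroup 2 T) (hTH : T ≤ H) : ∃ T₁, T ≤ T₁ ∧ Syl T₁ H := by
  have h1 : IsPGroup 2 (T.subgroupOf H) := hT.comap_of_injective H.subtype H.subtype_injective
  obtain ⟨S, hS⟩ := h1.exists_le_sylow
  refine ⟨(S : Subgroup H).map H.subtype, ?_, ?_⟩
  · intro x hx
    exact ⟨⟨x, hTH hx⟩, hS hx, rfl⟩
  · refine ⟨map_subtype_le _, S.isPGroup'.map _, ?_⟩
    have h2 : ((S : Subgroup H).map H.subtype).relIndex H = (S : Subgroup H).index := by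
      rw [relIndex, subgroupOf, comap_map_eq_self_of_injective H.subtype_injective]
    rw [h2]
    exact S.not_dvd_index

theorem mem_cov_self (h : Hyp Om) {K : Subgroup G} (hK : K ∈ Om) : K ∈ cov Om (centralizer {zz K}) :=
  mem_cov_of_le hK (h.le_centralizer hK)

/-- every member covered by `H = C(zz K)` is in some `Om(T)` with `K`, `T ≤ H` -/
theorem exists_common (h : Hyp Om) {K J : Subgroup G} (hK : K ∈ Om) (hJ : J ∈ cov Om (centralizer {zz K})) :
    ∃ T : Subgroup G, IsPGroup 2 T ∧ T ≤ centralizer {zz K} ∧ K ∈ OmS Om T ∧ J ∈ OmS Om T := by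
  obtain ⟨Q, hQ⟩ := Hyp.exists_syl (J ⊓ centralizer {zz K})
  obtain ⟨T, hQT, hT⟩ := exists_syl_ge hQ.2.1 (hQ.1.trans inf_le_right)
  exact ⟨T, hT.2.1, hT.1, mem_OmS_of_zz h hK hT, mem_OmS_of_le hJ.1 (syl_of_syl_inf hJ hQ) hQT⟩

/-- the trace of `K` in `C(zz K)` is a piece of its own -/
theorem pc_tr_self (h : Hyp Om) (ty : ∀ K ∈ Om, IsType K) {K : Subgroup G} (hK : K ∈ Om)
    (hc : ∀ J ∈ fam Om (centralizer {zz K}), OO J = ⊥) :
    pc (fam Om (centralizer {zz K})) (tr (centralizer {zz K}) K) = tr (centralizer {zz K}) K := by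
  apply pc_eq_self
  intro J' hJ' hne
  obtain ⟨J, hJ, rfl⟩ := exists_tr hJ'
  obtain ⟨T, hT, hTH, hKT, hJT⟩ := exists_common h hK hJ
  exact comm_tr h ty hc hJ (mem_cov_self h hK) hT hTH hJT hKT (fun e => hne (by rw [e]))

/-- a member of `fam` in a piece generates it -/
theorem pc_eq_of_le (h : Hyp Om) {K J : Subgroup G} (hK : K ∈ Om) (hJ : J ∈ Om) (hle : J ≤ pc Om K) :
    pc Om J = pc Om K := by
  by_contra hne
  have h1 := pc_comm hJ hK hne
  exact h.not_le_centralizer_self hJ ((le_pc.trans h1).trans (centralizer_le hle))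

/-- **`z₁ z₂ z₃ = 1` in the pieces** -/
theorem zz_mul_of_comm (t : TriFact.Pre Om) (ty : ∀ K ∈ Om, IsType K) {K L : Subgroup G} (hK : K ∈ Om)
    (hL : L ∈ cov Om (centralizer {zz K})) (hc : ∀ J ∈ fam Om (centralizer {zz K}), OO J = ⊥)
    (hnm : PP Om K L ∉ fam Om (centralizer {zz K})) {A B : Subgroup (HQ (centralizer {zz K}))}
    (hA : A ∈ fam Om (centralizer {zz K})) (hB : B ∈ fam Om (centralizer {zz K})) (hAP : A ≤ PP Om K L)
    (hBP : B ≤ PP Om K L) (hAB : A ≤ centralizer (B : Set (HQ (centralizer {zz K})))) :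
    zz A * zz B = qm (centralizer {zz K}) ⟨zz K, zz_mem_of_cov t.hyp (mem_cov_self t.hyp hK)⟩ := by
  have h := t.hyp
  have hf := hyp_fam h ty (centralizer {zz K})
  have hLm := tr_mem hL
  have key : ∀ X ∈ cov Om (centralizer {zz K}), tr (centralizer {zz K}) X ≤ PP Om K L → K ≠ X := by
    rintro X hX hle rfl
    have h1 := pc_eq_of_le hf hLm (tr_mem hX) hle
    rw [pc_tr_self h ty hK hc] at h1
    apply hnm
    rw [PP, ← h1]
    exact tr_mem hX
  obtain ⟨X, hX, rfl⟩ := exists_tr hA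
  obtain ⟨Y, hY, rfl⟩ := exists_tr hB
  obtain ⟨x, hx, T, hT, hTH, hXT, hYT, hne⟩ := exists_adj h ty hX hY hAB
  have hqx : qm (centralizer {zz K}) x = 1 := by
    rw [← MonoidHom.mem_ker, ker_qm]; exact hx
  have hX' : cj (x : G) X ∈ cov Om (centralizer {zz K}) := cj_mem_cov' h hX x.2
  have htr : tr (centralizer {zz K}) (cj (x : G) X) = tr (centralizer {zz K}) X := by
    rw [tr_cj ty x hX, hqx, cj_one]
  rw [← htr] at hAP ⊢
  set X' := cj (x : G) X with hX'def
  have hKX := key X' hX' hAP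
  have hKY := key Y hY hBP
  obtain ⟨T₁, hT1, hS1⟩ := exists_syl_ge hT hTH
  have hKT := mem_OmS_of_zz h hK hS1
  obtain ⟨S, hS⟩ := hS1.2.1.exists_le_sylow
  have hKS := OmS_mono hS hKT
  have hXS := OmS_mono hS (OmS_mono hT1 hXT)
  have hYS := OmS_mono hS (OmS_mono hT1 hYT)
  obtain ⟨N, hN, hNX, hNY, hmul⟩ := t.mul S X' hXS Y hYS hne
  obtain ⟨M, hE, -, -⟩ := exists_three t.three S hXS hYS hne
  have hN' : N ∈ ({X', Y, M} : Set (Subgroup G)) := hE ▸ hN
  have hK' : K ∈ ({X', Y, M} : Set (Subgroup G)) := hE ▸ hKS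
  have e1 : N = M := by
    rcases hN' with e | e | e
    · exact absurd e hNX
    · exact absurd e hNY
    · exact e
  have e2 : K = M := by
    rcases hK' with e | e | e
    · exact absurd e hKX
    · exact absurd e hKY
    · exact e
  rw [e1, ← e2] at hmul
  rw [zz_tr h ty hX', zz_tr h ty hY, ← map_mul]
  congr 1
  exact Subtype.ext hmul

/-- `C(zz K)` centralises the image of `zz K` -/
theorem qm_zz_central {K : Subgroup G} (hz : zz K ∈ centralizer {zz K}) (a : HQ (centralizer {zz K})) :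
    qm (centralizer {zz K}) ⟨zz K, hz⟩ * a = a * qm (centralizer {zz K}) ⟨zz K, hz⟩ := by
  obtain ⟨g, rfl⟩ := qm_surjective (centralizer {zz K}) a
  rw [← map_mul, ← map_mul]
  congr 1
  apply Subtype.ext
  exact (mem_centralizer_singleton_iff.1 g.2).symm

variable {p : ℕ}

/-- **`z r * z s` is the image of `zz K`** for orthogonal classical roots `r`, `s` -/
theorem z_mul (t : TriFact.Pre Om) (ty : ∀ K ∈ Om, IsType K) {K L : Subgroup G} (hK : K ∈ Om)
    (hL : L ∈ cov Om (centralizer {zz K})) (hc : ∀ J ∈ fam Om (centralizer {zz K}), OO J = ⊥)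
    (hnm : PP Om K L ∉ fam Om (centralizer {zz K})) (c : Chart (fam Om (centralizer {zz K})) p (PP Om K L))
    {r s : c.I → ℤ} (hr : r ∈ c.R) (hs : s ∈ c.R) (h0 : form c.cs c.h r s = 0) (hr1 : c.z r ≠ 1)
    (hs1 : c.z s ≠ 1) :
    c.z r * c.z s = qm (centralizer {zz K}) ⟨zz K, zz_mem_of_cov t.hyp (mem_cov_self t.hyp hK)⟩ := by
  have hf := hyp_fam t.hyp ty (centralizer {zz K})
  have h1 := X_cm_KK c.cls hs (c.cls.root r hr) h0
  have h2 := X_cm_KK c.cls hs (c.cls.root r hr).neg (by rw [form_neg_left, h0, neg_zero])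
  have h3 : c.Z r ⊔ c.Z (-r) ≤ centralizer ((c.Z s ⊔ c.Z (-s) : Subgroup _) : Set _) := by
    refine sup_le ?_ ?_
    · exact (c.cls.le r hr).trans (TypeDet.cm_iff_le_centralizer.1 h1)
    · exact (c.cls.le _ (Nodes.ClsMap.neg_mem c.cls hr)).trans (TypeDet.cm_iff_le_centralizer.1 h2)
  rw [← Nodes.StdConn.zz_eq hf c hr hr1, ← Nodes.StdConn.zz_eq hf c hs hs1]
  exact zz_mul_of_comm t ty hK hL hc hnm (c.om r hr) (c.om s hs) (Nodes.StdConn.K_le c hr)
    (Nodes.StdConn.K_le c hs) h3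

/-- `X r = Z r` -/
theorem X_eq_Z (t : TriFact.Pre Om) (ty : ∀ K ∈ Om, IsType K) {K L : Subgroup G} (hK : K ∈ Om)
    (hL : L ∈ cov Om (centralizer {zz K})) (hc : ∀ J ∈ fam Om (centralizer {zz K}), OO J = ⊥)
    (hnm : PP Om K L ∉ fam Om (centralizer {zz K})) (c : Chart (fam Om (centralizer {zz K})) p (PP Om K L))
    {r s : c.I → ℤ} (hr : r ∈ c.R) (hs : s ∈ c.R) (h0 : form c.cs c.h r s = 0) (hr1 : c.z r ≠ 1)
    (hs1 : c.z s ≠ 1) : c.Z r = c.X r := by
  refine le_antisymm (c.cls.le r hr) fun a ha => ?_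
  have h1 := z_mul t ty hK hL hc hnm c hr hs h0 hr1 hs1
  have h2 : c.z r * c.z s * a = a * (c.z r * c.z s) := by
    rw [h1]; exact qm_zz_central _ a
  have h3 : a * c.z s = c.z s * a := Nodes.ZRel.z_cent_of_orth c.cls hs (c.cls.root r hr) h0 ha
  have h4 : c.z r * a = a * c.z r := by
    have h5 : c.z r * a * c.z s = a * c.z r * c.z s := by
      rw [mul_assoc, h3, ← mul_assoc, h2, mul_assoc]
    exact mul_right_cancel h5
  have h5 := c.cls.z_inv_self r hr a ha
  have h6 : c.z r * a * c.z r * a = a * a := by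
    rw [h4, mul_assoc a, c.cls.z_sq r hr, mul_one]
  rw [h6] at h5
  exact Nodes.ShortSum.mem_of_sq_mem c.cls c.prime c.odd (c.cls.root r hr) ha h5

/-! ### Type `A₄` -/

/-- in a chart of type `A₄` some product `z r * z s`, `r`, `s` orthogonal, is not central -/
theorem not_central {X : Type*} [Group X] [Finite X] {Om : Set (Subgroup X)} {D : Subgroup X} (c : Chart Om p D)
    (hτ : c.IsTy (.A 4)) : ∃ r ∈ c.R, ∃ s ∈ c.R, form c.cs c.h r s = 0 ∧ c.z r ≠ 1 ∧ c.z s ≠ 1 ∧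
      ∃ a : X, c.z r * c.z s * a ≠ a * (c.z r * c.z s) := by
  obtain ⟨e0, he0, hl0⟩ := hτ
  obtain ⟨e, he, hR⟩ : ∃ e : c.I ≃ Fin 4, (∀ i j, c.A i j = Nodes.RootsA.AA 4 (e i) (e j)) ∧
    ∀ i, sr i ∈ c.R := ⟨e0, he0, fun i => (hl0 i).2 trivial⟩
  set a0 := e.symm (0 : Fin 4) with ha0
  set a2 := e.symm (2 : Fin 4) with ha2
  set a3 := e.symm (3 : Fin 4) with ha3
  have hform : ∀ i j : c.I, 2 * form c.cs c.h (sr j) (sr i) = c.A i j * form c.cs c.h (sr i) (sr i) := by
    intro i j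
    have := two_form c.cs c.h i (sr j)
    rwa [sr, pairing_single, mul_one] at this
  have A02 : c.A a2 a0 = 0 := by
    rw [he, ha0, ha2, Equiv.apply_symm_apply, Equiv.apply_symm_apply]; decide
  have A03 : c.A a0 a3 = 0 := by
    rw [he, ha0, ha3, Equiv.apply_symm_apply, Equiv.apply_symm_apply]; decide
  have A23 : c.A a2 a3 = -1 := by
    rw [he, ha2, ha3, Equiv.apply_symm_apply, Equiv.apply_symm_apply]; decide
  have f02 : form c.cs c.h (sr a0) (sr a2) = 0 := by
    have := hform a2 a0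
    rw [A02, zero_mul] at this
    linarith
  have f30 : form c.cs c.h (sr a3) (sr a0) = 0 := by
    have := hform a0 a3
    rw [A03, zero_mul] at this
    linarith
  have f32 : form c.cs c.h (sr a3) (sr a2) ≠ 0 := by
    have := hform a2 a3
    have h2 := form_pos c.cs c.h (sr_ne_zero a2)
    rw [A23] at this
    intro h3
    rw [h3] at this
    linarith
  have hnt : Nontrivial c.I := ⟨a0, a2, fun h0 => by
    have := e.symm.injective h0
    exact absurd this (by decide)⟩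
  have hz : ∀ r ∈ c.R, c.z r ≠ 1 := by
    intro r hr
    obtain ⟨y, hy, h1, h2, h3⟩ := FrameOfFr.exists_not_orth c hnt (c.cls.root r hr)
    exact Nodes.StdConn.z_ne_one c.cls c.prime c.odd hr hy h1 h2 h3
  refine ⟨sr a0, hR a0, sr a2, hR a2, f02, hz _ (hR a0), hz _ (hR a2), ?_⟩
  have hne : ¬ ∀ a ∈ c.X (sr a3), a = 1 := by
    intro h1
    exact Nodes.StdConn.X_ne_bot c.cls (isRoot_sr c.cs c.h a3) (by rw [eq_bot_iff]; intro a ha; exact h1 a ha)
  push Not at hne
  obtain ⟨a, ha, ha1⟩ := hne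
  refine ⟨a, fun hcen => ha1 ?_⟩
  have h1 : a * c.z (sr a0) = c.z (sr a0) * a :=
    Nodes.ZRel.z_cent_of_orth c.cls (hR a0) (isRoot_sr c.cs c.h a3) f30 ha
  have h2 : c.z (sr a2) * a * c.z (sr a2) = a⁻¹ := by
    refine c.cls.z_inv _ (hR a2) _ (isRoot_sr c.cs c.h a3) ?_ ?_ f32 a ha
    · intro h0
      have h5 := hform a2 a3
      rw [h0, A23] at h5
      have h6 := form_pos c.cs c.h (sr_ne_zero (I := c.I) a2)
      linarith
    · intro h0
      have h5 := hform a2 a3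
      rw [h0, form_neg_left, A23] at h5
      have h6 := form_pos c.cs c.h (sr_ne_zero (I := c.I) a2)
      linarith
  have h3 : a * a = 1 := by
    have h4 : c.z (sr a0) * (c.z (sr a2) * a * c.z (sr a2)) = a * c.z (sr a0) := by
      calc c.z (sr a0) * (c.z (sr a2) * a * c.z (sr a2))
          = (c.z (sr a0) * c.z (sr a2) * a) * c.z (sr a2) := by group
        _ = a * (c.z (sr a0) * c.z (sr a2)) * c.z (sr a2) := by rw [hcen]
        _ = a * c.z (sr a0) * (c.z (sr a2) * c.z (sr a2)) := by group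
        _ = a * c.z (sr a0) := by rw [c.cls.z_sq _ (hR a2), mul_one]
    rw [h2, h1] at h4
    have h5 := mul_left_cancel h4
    nth_rewrite 1 [← h5]
    exact inv_mul_cancel a
  have h4 : a ∈ (⊥ : Subgroup X) :=
    Nodes.ShortSum.mem_of_sq_mem c.cls c.prime c.odd (isRoot_sr c.cs c.h a3) ha (by rw [h3]; exact one_mem _)
  exact mem_bot.1 h4

end

/-- **`AFourStmt`** -/
theorem aFour : AFourStmt.{u} := by
  intro G _ _ Om hm t hT
  obtain ⟨S⟩ : Nonempty (Sylow 2 G) := inferInstance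
  obtain ⟨K, hK, L, hL, hne⟩ := CoreThree.Card.exists_mem t.three S
  obtain ⟨hnm, -, -, p, c, hτ, -⟩ := hT S K hK L hL hne
  have hLc : L ∈ cov Om (centralizer {zz K}) := CoresG.mem_cov t.hyp S.isPGroup' hL (zz_mem_ES hK)
  have hc : ∀ J ∈ fam Om (centralizer {zz K}), OO J = ⊥ :=
    (hm.fam_cent (t.hyp.zz_ne hK.1)).core
  obtain ⟨r, hr, s, hs, h0, hr1, hs1, a, ha⟩ := not_central c hτ
  apply ha
  rw [z_mul t hm.isType hK.1 hLc hc hnm c hr hs h0 hr1 hs1]
  exact qm_zz_central _ a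

end Cfsg.Agent.Cit.ThreeAFour
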