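import Cfsg.Agent.Cit.ThreeA
import Cfsg.Agent.Cit.Branches
import Cfsg.Agent.Cit.TBasic

/-!
# Branch `|Om(S)| = 3`, all members over one involution, for `MinS`
-/

set_option autoImplicit false

namespace Cfsg.Agent.Cit.ThreeAS

open Subgroup Cfsg Branches

variable {G : Type*} [Group G] [Finite G] {Om : Set (Subgroup G)}

/-- `Card Om 3` and `AllEq Om` give `Three Om` -/
theorem three_of (h : Hyp Om) (hc : Card Om 3) (he : AllEq Om) : ThreeA.Three Om := by
  obtain ⟨S⟩ : Nonempty (Sylow 2 G) := inferInstance
  exact ThreeA.Three.of_sylow h S (hc S) (he S)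

/-- case (A) is impossible in simple groups -/
theorem false_of_allEq (h : MinS Om) (hc : Card Om 3) (he : AllEq Om) : False := by
  haveI := h.simple
  exact (three_of h.hyp hc he).false_of_simple (fun K hK => (h.ty K hK).isType) h.ne

end Cfsg.Agent.Cit.ThreeAS
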