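import Cfsg.Agent.Cit.PairComm
import Cfsg.Agent.Cit.ThreeQuat
import Cfsg.Agent.Cit.CorTwo
import Cfsg.Prelude.Def_TwoFusion

/-!
# Three members with `z₁ z₂ z₃ = 1` and disconnected centralisers: `E = ⟨z₁, z₂⟩` is strongly closed

(B) of the case `|Om(S)| = 3` (cores allowed). `Thr Om S K`: `S` is a Sylow 2-subgroup, `Om(S) = {K 0, K 1, K 2}`,
the involutions are distinct with product `1`, and (`T`) the involution of a member of `Om[C(z_i)]` is one
of `z_1`, `z_2`, `z_3` modulo `X_i = O(C(z_i))`.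

`Thr.mem_E` : an involution `z_J ∈ S`, `J ∈ Om`, lies in `E`. `Thr.closed` : `E` is strongly closed in `S`.
Used: `KillQ L` for `L ∈ Om` (a quaternion pair in the commutator subgroup of `N(L)` has square trivial on
`L / O(L)`), and `Q ≤ [L, L]` for the Sylow 2-subgroups `Q` of the members `L`.
-/

set_option autoImplicit false
set_option linter.style.haveILetI false
set_option linter.unusedSectionVars false

namespace Cfsg.Agent.Cit.ThreeB

open Subgroup Cfsg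

variable {G : Type*} [Group G]

/-- (A1): a quaternion pair in the commutator subgroup of `N(L)` has square trivial on `L / O(L)` -/
def KillQ (L : Subgroup G) : Prop :=
  ∀ x ∈ ⁅normalizer (L : Set G), normalizer (L : Set G)⁆,
    ∀ y ∈ ⁅normalizer (L : Set G), normalizer (L : Set G)⁆, x * x = y * y → x * y * x⁻¹ = y⁻¹ →
      ∀ k ∈ L, (x * x) * k * (x * x)⁻¹ * k⁻¹ ∈ OO L

/-- `O(C(a))` -/
def XX (a : G) : Subgroup G := OO (centralizer {a})

theorem XX_cj (g a : G) : XX (g * a * g⁻¹) = cj g (XX a) := by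
  rw [XX, XX, ← cj_centralizer, OO_cj]

theorem XX_le (a : G) : XX a ≤ centralizer {a} := OO_le _

theorem le_normalizer_XX (a : G) : centralizer {a} ≤ normalizer (XX a : Set G) := le_normalizer_OO _

theorem odd_XX [Finite G] (a : G) : ¬ 2 ∣ Nat.card (XX a) := odd_OO _

/-- commuting involutions with the same image modulo a subgroup of odd order -/
theorem eq_of_mul_mem [Finite G] {N : Subgroup G} (hN : ¬ 2 ∣ Nat.card N) {s t : G} (hs : s * s = 1)
    (ht : t * t = 1) (hst : s * t = t * s) (h : s * t ∈ N) : s = t := by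
  have h1 : s * t = 1 := by
    refine eq_one_of_odd hN h (a := 1) ?_
    rw [pow_one, pow_two]
    calc s * t * (s * t) = s * (t * s) * t := by group
      _ = s * (s * t) * t := by rw [hst]
      _ = (s * s) * (t * t) := by group
      _ = 1 := by rw [hs, ht, one_mul]
  rw [← inv_eq_of_mul_eq_one_right hs] at h1
  exact (inv_mul_eq_one.1 h1)

/-- the configuration -/
structure Thr (Om : Set (Subgroup G)) (S : Subgroup G) (K : Fin 3 → Subgroup G) : Prop where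
  hyp : Hyp Om
  syl : ∃ P : Sylow 2 G, (P : Subgroup G) = S
  omS : ∀ L, L ∈ OmS Om S ↔ ∃ i, L = K i
  inj : ∀ i j, zz (K i) = zz (K j) → i = j
  prod : ∀ i j k : Fin 3, i ≠ j → j ≠ k → i ≠ k → zz (K i) * zz (K j) = zz (K k)
  T : ∀ i, ∀ L ∈ SubCent.cov Om (centralizer {zz (K i)}), ∃ j, zz (K j) * zz L ∈ XX (zz (K i))

theorem third : ∀ i j : Fin 3, i ≠ j → ∃ k, i ≠ k ∧ j ≠ k ∧ ∀ l, l = i ∨ l = j ∨ l = k := by decide

theorem others : ∀ i : Fin 3, ∃ j k : Fin 3, i ≠ j ∧ j ≠ k ∧ i ≠ k ∧ ∀ l, l = i ∨ l = j ∨ l = k := by decide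

namespace Thr

variable {Om : Set (Subgroup G)} {S : Subgroup G} {K : Fin 3 → Subgroup G}

theorem isPGroup (h : Thr Om S K) : IsPGroup 2 S := by
  obtain ⟨P, rfl⟩ := h.syl
  exact P.isPGroup'

theorem memS (h : Thr Om S K) (i : Fin 3) : K i ∈ OmS Om S := (h.omS _).2 ⟨i, rfl⟩

theorem mem (h : Thr Om S K) (i : Fin 3) : K i ∈ Om := (h.memS i).1

variable [Finite G]

theorem sq (h : Thr Om S K) (i : Fin 3) : zz (K i) * zz (K i) = 1 := h.hyp.zz_mul (h.mem i)

theorem comm (h : Thr Om S K) (i j : Fin 3) : zz (K i) * zz (K j) = zz (K j) * zz (K i) := by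
  by_cases hij : i = j
  · rw [hij]
  · refine h.hyp.comm h.isPGroup (h.memS i) (h.memS j) ?_ (h.hyp.zz_mem_inf h.isPGroup (h.memS i))
      (h.hyp.zz_mem_inf h.isPGroup (h.memS j))
    intro h1
    exact hij (h.inj i j (by rw [h1]))

theorem ne (h : Thr Om S K) {i j : Fin 3} (hij : i ≠ j) : K i ≠ K j :=
  fun h1 => hij (h.inj i j (by rw [h1]))

theorem zz_mem_S (h : Thr Om S K) (i : Fin 3) : zz (K i) ∈ S :=
  (h.hyp.zz_mem_inf h.isPGroup (h.memS i)).2

/-- conjugation -/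
theorem cj (h : Thr Om S K) (g : G) : Thr Om (Cit.cj g S) (fun i => Cit.cj g (K i)) where
  hyp := h.hyp
  syl := by
    obtain ⟨P, rfl⟩ := h.syl
    refine ⟨g • P, ?_⟩
    rfl
  omS := by
    intro L
    rw [OmS_cj h.hyp.conj]
    constructor
    · rintro ⟨M, hM, rfl⟩
      obtain ⟨i, rfl⟩ := (h.omS M).1 hM
      exact ⟨i, rfl⟩
    · rintro ⟨i, rfl⟩
      exact ⟨_, h.memS i, rfl⟩
  inj := by
    intro i j hij
    rw [h.hyp.zz_cj (h.mem i), h.hyp.zz_cj (h.mem j)] at hij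
    exact h.inj i j (mul_left_cancel (mul_right_cancel hij))
  prod := by
    intro i j k hij hjk hik
    rw [h.hyp.zz_cj (h.mem i), h.hyp.zz_cj (h.mem j), h.hyp.zz_cj (h.mem k), ← h.prod i j k hij hjk hik]
    group
  T := by
    intro i L hL
    rw [h.hyp.zz_cj (h.mem i), ← cj_centralizer] at hL
    have h1 := SubCent.cj_mem_cov h.hyp.conj (g := g⁻¹) hL
    rw [cj_inv_cj] at h1
    obtain ⟨j, hj⟩ := h.T i _ h1
    refine ⟨j, ?_⟩
    rw [h.hyp.zz_cj (h.mem i), XX_cj, h.hyp.zz_cj (h.mem j), mem_cj]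
    rw [h.hyp.zz_cj hL.1] at hj
    convert hj using 1
    group

/-- every member is a conjugate of a `K i` -/
theorem exists_cj (h : Thr Om S K) {R : Subgroup G} (hR : IsPGroup 2 R) : ∃ g, R ≤ Cit.cj g S := by
  obtain ⟨P, rfl⟩ := h.syl
  exact exists_le_cj P hR

/-- the involution determines the member -/
theorem uniq (h : Thr Om S K) {L M : Subgroup G} (hL : L ∈ Om) (hM : M ∈ Om) (hz : zz L = zz M) : L = M := by
  rcases h.hyp.h2 L hL M hM hz with h1 | h1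
  · exact h1
  obtain ⟨Q, hQ⟩ := Hyp.exists_syl L
  have h2 : Q ≤ normalizer (M : Set G) := by
    have h3 : ⁅M, L⁆ ≤ M := by
      rw [commutator_comm]
      exact h1.trans (inf_le_right.trans (OO_le M))
    exact hQ.1.trans (SubCent.le_normalizer_of_comm h3)
  obtain ⟨R, hR, -, hLR, hMR⟩ := PairComm.exists_common hL hM hQ h2
  obtain ⟨g, hg⟩ := h.exists_cj hR
  obtain ⟨i, hi⟩ := ((h.cj g).omS L).1 (OmS_mono hg hLR)
  obtain ⟨j, hj⟩ := ((h.cj g).omS M).1 (OmS_mono hg hMR)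
  rw [hi, hj] at hz
  have := (h.cj g).inj i j hz
  rw [hi, hj, this]

theorem centralizer_le (h : Thr Om S K) {L : Subgroup G} (hL : L ∈ Om) :
    centralizer {zz L} ≤ normalizer (L : Set G) := by
  intro g hg
  rw [mem_normalizer_iff_cj]
  refine h.uniq (h.hyp.conj L hL g) hL ?_
  rw [h.hyp.zz_cj hL, mem_centralizer_singleton_iff.1 hg]
  group

end Thr

/-- `L` is covered by `C(z_M)` iff `M` is covered by `C(z_L)` -/
theorem cov_symm [Finite G] {Om : Set (Subgroup G)} (h : Hyp Om) {L M : Subgroup G}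
    (hL : L ∈ SubCent.cov Om (centralizer {zz M})) (hM : M ∈ Om) :
    M ∈ SubCent.cov Om (centralizer {zz L}) := by
  by_cases hLM : L = M
  · subst hLM
    exact SubCent.mem_cov_of_le hM (h.le_centralizer hM)
  obtain ⟨Q, hQ⟩ := Hyp.exists_syl (L ⊓ centralizer {zz M})
  have h1 := SubCent.syl_of_syl_inf hL hQ
  obtain ⟨R, hR, -, hLR, hMR⟩ := PairComm.exists_common' h hL.1 hM h1 fun a ha =>
    mem_centralizer_singleton_iff.1 (hQ.1 ha).2
  exact PairComm.mem_cov h hR hMR hLR (Ne.symm hLM)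

/-- an element of `N(L)` with `t * t = 1` centralising a Sylow 2-subgroup of `L` -/
theorem cov_of_comm [Finite G] {Om : Set (Subgroup G)} (h : Hyp Om) {L Q : Subgroup G} (hL : L ∈ Om)
    (hQ : Syl Q L) {t : G} (ht : t * t = 1) (htL : t ∈ normalizer (L : Set G))
    (hc : ∀ x ∈ Q, t * x = x * t) : L ∈ SubCent.cov Om (centralizer {t}) := by
  haveI : Fact (Nat.Prime 2) := ⟨Nat.prime_two⟩
  have h2 : IsPGroup 2 (zpowers t) := by
    have h3 : ∀ x ∈ zpowers t, x * x = 1 := by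
      rintro _ ⟨i, rfl⟩
      show t ^ i * t ^ i = 1
      rw [← (Commute.refl t).mul_zpow, ht, one_zpow]
    intro x
    exact ⟨1, Subtype.ext (by
      show (x : G) ^ 2 ^ 1 = 1
      rw [pow_one, pow_two]
      exact h3 x x.2)⟩
  rw [← PairComm.centralizer_zpowers]
  refine SubCent.cov_of_comm hL h2 (Trivial.commutator_le h hL hQ h2 (zpowers_le.2 htL) ?_)
  rintro _ ⟨i, rfl⟩ x hx
  exact (Commute.zpow_left (show Commute t x from hc x hx) i).eq

/-! ### The group `E` -/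

/-- `E = {1, z₀, z₁, z₂}` -/
def EE (K : Fin 3 → Subgroup G) : Subgroup G := closure (Set.range fun i => zz (K i))

theorem EE_cj [Finite G] {Om : Set (Subgroup G)} (h : Hyp Om) {K : Fin 3 → Subgroup G} (hK : ∀ i, K i ∈ Om)
    (g : G) : EE (fun i => cj g (K i)) = cj g (EE K) := by
  rw [EE, EE, cj_def, MonoidHom.map_closure]
  congr 1
  ext x
  constructor
  · rintro ⟨i, rfl⟩
    exact ⟨_, ⟨i, rfl⟩, (h.zz_cj (hK i) g).symm⟩
  · rintro ⟨_, ⟨i, rfl⟩, rfl⟩
    exact ⟨i, h.zz_cj (hK i) g⟩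

namespace Thr

variable {Om : Set (Subgroup G)} {S : Subgroup G} {K : Fin 3 → Subgroup G} [Finite G]

theorem zz_mem_EE (i : Fin 3) : zz (K i) ∈ EE K := subset_closure ⟨i, rfl⟩

theorem mem_EE (h : Thr Om S K) {x : G} : x ∈ EE K ↔ x = 1 ∨ ∃ i, x = zz (K i) := by
  constructor
  · intro hx
    induction hx using closure_induction with
    | mem x hx => obtain ⟨i, rfl⟩ := hx; exact Or.inr ⟨i, rfl⟩
    | one => exact Or.inl rfl
    | mul x y _ _ hx hy =>
      rcases hx with rfl | ⟨i, rfl⟩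
      · rw [one_mul]; exact hy
      rcases hy with rfl | ⟨j, rfl⟩
      · rw [mul_one]; exact Or.inr ⟨i, rfl⟩
      by_cases hij : i = j
      · subst hij
        exact Or.inl (h.sq i)
      · obtain ⟨k, hik, hjk, -⟩ := third i j hij
        exact Or.inr ⟨k, h.prod i j k hij hjk hik⟩
    | inv x _ hx =>
      rcases hx with rfl | ⟨i, rfl⟩
      · left; exact inv_one
      · exact Or.inr ⟨i, h.hyp.zz_inv (h.mem i)⟩
  · rintro (rfl | ⟨i, rfl⟩)
    · exact one_mem _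
    · exact zz_mem_EE i

theorem sq_EE (h : Thr Om S K) {x : G} (hx : x ∈ EE K) : x * x = 1 := by
  rcases h.mem_EE.1 hx with rfl | ⟨i, rfl⟩
  · exact one_mul 1
  · exact h.sq i

theorem isPGroup_EE (h : Thr Om S K) : IsPGroup 2 (EE K) := fun x => ⟨1, Subtype.ext (by
  show (x : G) ^ 2 ^ 1 = 1
  rw [pow_one, pow_two]
  exact h.sq_EE x.2)⟩

theorem comm_EE (h : Thr Om S K) {x y : G} (hx : x ∈ EE K) (hy : y ∈ EE K) : x * y = y * x := by
  rcases h.mem_EE.1 hx with rfl | ⟨i, rfl⟩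
  · rw [one_mul, mul_one]
  rcases h.mem_EE.1 hy with rfl | ⟨j, rfl⟩
  · rw [one_mul, mul_one]
  exact h.comm i j

theorem EE_le_S (h : Thr Om S K) : EE K ≤ S := by
  intro x hx
  rcases h.mem_EE.1 hx with rfl | ⟨i, rfl⟩
  · exact one_mem _
  · exact h.zz_mem_S i

/-- an element commuting with two of the involutions commutes with `E` -/
theorem mem_centralizer_EE (h : Thr Om S K) {c : G} {i j : Fin 3} (hij : i ≠ j)
    (hi : c * zz (K i) = zz (K i) * c) (hj : c * zz (K j) = zz (K j) * c) :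
    c ∈ centralizer (EE K : Set G) := by
  obtain ⟨k, hik, hjk, hall⟩ := third i j hij
  have hk : c * zz (K k) = zz (K k) * c := by
    rw [← h.prod i j k hij hjk hik, ← mul_assoc, hi, mul_assoc, hj, mul_assoc]
  rw [mem_centralizer_iff]
  intro x hx
  rcases h.mem_EE.1 hx with rfl | ⟨l, rfl⟩
  · rw [one_mul, mul_one]
  · rcases hall l with rfl | rfl | rfl
    · exact hi.symm
    · exact hj.symm
    · exact hk.symm

theorem EE_le_centralizer (h : Thr Om S K) (i : Fin 3) : EE K ≤ centralizer {zz (K i)} :=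
  fun _ hx => mem_centralizer_singleton_iff.2 (h.comm_EE hx (zz_mem_EE i))

theorem centralizer_EE_le (h : Thr Om S K) (i : Fin 3) :
    centralizer (EE K : Set G) ≤ centralizer {zz (K i)} :=
  fun _ hx => mem_centralizer_singleton_iff.2 (mem_centralizer_iff.1 hx _ (zz_mem_EE i)).symm

/-! ### `C(z_i) = X_i N(E)` -/

theorem cov (h : Thr Om S K) (i j : Fin 3) : K j ∈ SubCent.cov Om (centralizer {zz (K i)}) := by
  by_cases hij : j = i
  · subst hij
    exact SubCent.mem_cov_of_le (h.mem j) (h.hyp.le_centralizer (h.mem j))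
  · exact PairComm.mem_cov h.hyp h.isPGroup (h.memS j) (h.memS i) (h.ne hij)

/-- `C(z_i)` normalises `E X_i` -/
theorem conj_zz (h : Thr Om S K) {i : Fin 3} {c : G} (hc : c ∈ centralizer {zz (K i)}) (j : Fin 3) :
    ∃ k, zz (K k) * (c * zz (K j) * c⁻¹) ∈ XX (zz (K i)) := by
  obtain ⟨k, hk⟩ := h.T i _ (SubCent.cj_mem_cov_of_mem h.hyp.conj (le_normalizer hc) (h.cov i j))
  refine ⟨k, ?_⟩
  rwa [h.hyp.zz_cj (h.mem j)] at hk

theorem cj_EE_le (h : Thr Om S K) {i : Fin 3} {c : G} (hc : c ∈ centralizer {zz (K i)}) :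
    Cit.cj c (EE K) ≤ XX (zz (K i)) ⊔ EE K := by
  rintro _ ⟨x, hx, rfl⟩
  change c * x * c⁻¹ ∈ _
  rcases h.mem_EE.1 hx with rfl | ⟨j, rfl⟩
  · rw [mul_one, mul_inv_cancel]; exact one_mem _
  · obtain ⟨k, hk⟩ := h.conj_zz hc j
    have h1 := (XX (zz (K i)) ⊔ EE K).mul_mem (mem_sup_right (zz_mem_EE (K := K) k)) (mem_sup_left hk)
    rwa [← mul_assoc, h.sq, one_mul] at h1

/-- a 2-subgroup `A ≤ C(z)` is a Sylow 2-subgroup of `X A` -/
theorem _root_.Cfsg.Agent.Cit.ThreeB.syl_sup {z : G} {A : Subgroup G} (hA : IsPGroup 2 A)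
    (hAz : A ≤ centralizer {z}) : Syl A (XX z ⊔ A) :=
  ⟨le_sup_right, hA, fun h => odd_XX z (h.trans
    (SubCent.relIndex_sup_dvd_card (hAz.trans (le_normalizer_XX z))))⟩

/-- **`C(z_i) = X_i N(E)`** -/
theorem frattini (h : Thr Om S K) {i : Fin 3} {c : G} (hc : c ∈ centralizer {zz (K i)}) :
    ∃ x ∈ XX (zz (K i)), ∃ n ∈ normalizer (EE K : Set G), c = x * n := by
  have h1 := syl_sup h.isPGroup_EE (h.EE_le_centralizer i)
  have h4 : Syl (Cit.cj c (EE K)) (XX (zz (K i)) ⊔ EE K) := by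
    refine ⟨h.cj_EE_le hc, isPGroup_cj h.isPGroup_EE, fun h3 => h1.2.2 ?_⟩
    have h5 : Nat.card (EE K) * (EE K).relIndex (XX (zz (K i)) ⊔ EE K) =
        Nat.card (XX (zz (K i)) ⊔ EE K : Subgroup G) := by
      rw [← relIndex_bot_left (EE K), relIndex_mul_relIndex ⊥ _ _ bot_le h1.1, relIndex_bot_left]
    have h6 : Nat.card (Cit.cj c (EE K)) * (Cit.cj c (EE K)).relIndex (XX (zz (K i)) ⊔ EE K) =
        Nat.card (XX (zz (K i)) ⊔ EE K : Subgroup G) := by
      rw [← relIndex_bot_left (Cit.cj c (EE K)), relIndex_mul_relIndex ⊥ _ _ bot_le (h.cj_EE_le hc),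
        relIndex_bot_left]
    rw [card_cj, ← h5] at h6
    rwa [Nat.eq_of_mul_eq_mul_left Nat.card_pos h6] at h3
  obtain ⟨m, hm, hm2⟩ := h4.exists_conj h1
  obtain ⟨a, ha, b, hb, hab⟩ := LB.exists_mul_of_mem_sup
    ((h.EE_le_centralizer i).trans (le_normalizer_XX _)) (inv_mem hm)
  refine ⟨a, ha, a⁻¹ * c, ?_, by group⟩
  rw [mem_normalizer_iff_cj]
  have h7 : m = b⁻¹ * a⁻¹ := by
    rw [← mul_inv_rev, ← hab, inv_inv]
  rw [← cj_mul, h7, mul_assoc, cj_mul] at hm2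
  have h8 := congrArg (Cit.cj b) hm2
  rwa [cj_cj_inv, mem_normalizer_iff_cj.1 (le_normalizer hb)] at h8

/-- `O(C(E)) ≤ X_i` -/
theorem OO_centralizer_le (h : Thr Om S K) (i : Fin 3) :
    OO (centralizer (EE K : Set G)) ≤ XX (zz (K i)) := by
  have hle : OO (centralizer (EE K : Set G)) ≤ centralizer {zz (K i)} :=
    (OO_le _).trans (h.centralizer_EE_le i)
  have h1 : XX (zz (K i)) ⊔ OO (centralizer (EE K : Set G)) ≤ XX (zz (K i)) := by
    refine le_OO (sup_le (XX_le _) hle) ?_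
      (LB.odd_sup (odd_XX _) (odd_OO _) (hle.trans (le_normalizer_XX _)))
    intro c hc
    obtain ⟨x, hx, n, hn, rfl⟩ := h.frattini hc
    have hnc : n ∈ centralizer {zz (K i)} := by
      have h2 := mul_mem (inv_mem (XX_le _ hx)) hc
      rwa [inv_mul_cancel_left] at h2
    refine mul_mem (le_normalizer (mem_sup_left hx)) ?_
    rw [mem_normalizer_iff_cj, cj_sup, mem_normalizer_iff_cj.1 (le_normalizer_XX _ hnc)]
    congr 1
    rw [← OO_cj]
    congr 1
    ext y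
    rw [mem_cj, mem_centralizer_iff, mem_centralizer_iff]
    have h3 := mem_normalizer_iff.1 hn
    constructor
    · intro h4 e he
      have h5 := h4 (n⁻¹ * e * n) ((h3 _).2 (by
        have e1 : n * (n⁻¹ * e * n) * n⁻¹ = e := by group
        rw [e1]
        exact he))
      calc e * y = n * ((n⁻¹ * e * n) * (n⁻¹ * y * n)) * n⁻¹ := by group
        _ = n * ((n⁻¹ * y * n) * (n⁻¹ * e * n)) * n⁻¹ := by rw [h5]
        _ = y * e := by group
    · intro h4 e he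
      have h5 := h4 (n * e * n⁻¹) ((h3 _).1 he)
      calc e * (n⁻¹ * y * n) = n⁻¹ * ((n * e * n⁻¹) * y) * n := by group
        _ = n⁻¹ * (y * (n * e * n⁻¹)) * n := by rw [h5]
        _ = n⁻¹ * y * n * e := by group
  exact le_sup_right.trans h1

/-- `R = K_j ⊓ C(z_k)` -/
theorem inf_centralizer_le (h : Thr Om S K) {j k : Fin 3} (hjk : j ≠ k) :
    K j ⊓ centralizer {zz (K k)} ≤ centralizer (EE K : Set G) := by
  intro x hx
  refine h.mem_centralizer_EE hjk ?_ (mem_centralizer_singleton_iff.1 hx.2)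
  exact h.hyp.comm_zz (h.mem j) (le_normalizer hx.1)

theorem OO_inf_le (h : Thr Om S K) {j k : Fin 3} (hjk : j ≠ k) (i : Fin 3) :
    OO (K j ⊓ centralizer {zz (K k)}) ≤ XX (zz (K i)) := by
  refine le_trans ?_ (h.OO_centralizer_le i)
  set R := K j ⊓ centralizer {zz (K k)} with hR
  have hRE := h.inf_centralizer_le hjk
  have h1 : (R.subgroupOf (centralizer (EE K : Set G))).IsSubnormal := by
    have h2 := (h.hyp.sub (K j) (h.mem j)).comap
      (Subgroup.inclusion (h.centralizer_EE_le j))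
    convert h2 using 1
    ext x
    change (x : G) ∈ R ↔ (x : G) ∈ K j
    refine ⟨fun h3 => h3.1, fun h3 => ⟨h3, h.centralizer_EE_le k x.2⟩⟩
  have h3 : ((OO R).subgroupOf (centralizer (EE K : Set G))).IsSubnormal := by
    refine Subgroup.IsSubnormal.trans (K := R.subgroupOf (centralizer (EE K : Set G))) ?_ ?_ h1
    · exact fun x hx => OO_le R hx
    · refine Subgroup.Normal.isSubnormal ?_
      refine (normal_subgroupOf_iff_le_normalizer
        (H := (OO R).subgroupOf (centralizer (EE K : Set G)))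
        (K := R.subgroupOf (centralizer (EE K : Set G))) (fun x hx => OO_le R hx)).2 ?_
      intro x hx
      have h4 := mem_normalizer_iff.1 (le_normalizer_OO R (show (x : G) ∈ R from hx))
      rw [mem_normalizer_iff]
      intro y
      exact h4 y
  exact LB.le_OO_of_subnormal ((OO_le R).trans hRE) h3 (odd_OO R)

/-- `K_j`, `K_k` commute modulo `X_i` -/
theorem commutator_le (h : Thr Om S K) {j k : Fin 3} (hjk : j ≠ k) (i : Fin 3) :
    ⁅K j ⊓ centralizer {zz (K k)}, K k ⊓ centralizer {zz (K j)}⁆ ≤ XX (zz (K i)) :=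
  (PairComm.commutator_inf_le h.hyp h.isPGroup (h.memS j) (h.memS k) (h.ne hjk)).trans
    (inf_le_left.trans (h.OO_inf_le hjk i))

end Thr

/-! ### The diagonal subgroup -/

/-- `t * t = 1` : `⟨t⟩` is a 2-group -/
theorem isPGroup_zpowers {t : G} (ht : t * t = 1) : IsPGroup 2 (zpowers t) := by
  have h3 : ∀ x ∈ zpowers t, x * x = 1 := by
    rintro _ ⟨i, rfl⟩
    show t ^ i * t ^ i = 1
    rw [← (Commute.refl t).mul_zpow, ht, one_zpow]
  intro x
  exact ⟨1, Subtype.ext (by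
    show (x : G) ^ 2 ^ 1 = 1
    rw [pow_one, pow_two]
    exact h3 x x.2)⟩

/-- `k ∈ N(N)` with `[k,v] ∈ N`, `v * v = 1`, `N` of odd order: `k o ∈ C(v)` for some `o ∈ N` -/
theorem exists_mul_centralizer [Finite G] {N : Subgroup G} (hN : ¬ 2 ∣ Nat.card N) {v k : G} (hv : v * v = 1)
    (hvN : v ∈ normalizer (N : Set G)) (hkN : k ∈ normalizer (N : Set G)) (hk : k * v * k⁻¹ * v⁻¹ ∈ N) :
    ∃ o ∈ N, k * o ∈ centralizer {v} := by
  obtain ⟨o, ho, h1⟩ := SubCent.exists_mul_mem_centralizer (A := zpowers v) (k := k) (isPGroup_zpowers hv)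
    hN (zpowers_le.2 hvN) hkN (by
      rintro _ ⟨i, rfl⟩
      show k * v ^ i * k⁻¹ * (v ^ i)⁻¹ ∈ N
      have h2 : v ^ (2 : ℤ) = 1 := by rw [zpow_ofNat, pow_two, hv]
      rcases Int.even_or_odd' i with ⟨m, rfl | rfl⟩
      · rw [zpow_mul, h2, one_zpow]
        simp
      · rw [zpow_add, zpow_mul, h2, one_zpow, one_mul, zpow_one]
        exact hk)
  exact ⟨o, ho, by rwa [PairComm.centralizer_zpowers] at h1⟩

namespace Thr

variable {Om : Set (Subgroup G)} {S : Subgroup G} {K : Fin 3 → Subgroup G} [Finite G]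

theorem diag (h : Thr Om S K) {i j k : Fin 3} (hjk : j ≠ k) {v : G}
    (hv : v * v = 1) (hvi : v ∈ centralizer {zz (K i)}) (hvj : Cit.cj v (K j) = K k)
    (hvk : Cit.cj v (K k) = K j) {x : G}
    (hx : x ∈ ⁅K j ⊓ centralizer {zz (K k)}, K j ⊓ centralizer {zz (K k)}⁆) :
    ∃ c ∈ ⁅centralizer {v} ⊓ centralizer {zz (K i)}, centralizer {v} ⊓ centralizer {zz (K i)}⁆,
      ∃ o ∈ XX (zz (K i)), x * (v * x * v⁻¹) = c * o := by
  set C := centralizer {zz (K i)} with hC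
  set R := K j ⊓ centralizer {zz (K k)} with hR
  set H := centralizer {v} ⊓ C with hH
  have hRC : R ≤ C := (h.inf_centralizer_le hjk).trans (h.centralizer_EE_le i)
  have hR' : ∀ r ∈ R, v * r * v⁻¹ ∈ K k ⊓ centralizer {zz (K j)} := by
    intro r hr
    have h1 : v * r * v⁻¹ ∈ Cit.cj v R := conj_mem_cj hr
    rwa [hR, cj_inf, hvj, cj_centralizer, ← h.hyp.zz_cj (h.mem k), hvk] at h1
  have hR'C : ∀ r ∈ R, v * r * v⁻¹ ∈ C := fun r hr => C.mul_mem (C.mul_mem hvi (hRC hr)) (C.inv_mem hvi)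
  have hcomm : ∀ r ∈ R, ∀ s ∈ R, r * (v * s * v⁻¹) * r⁻¹ * (v * s * v⁻¹)⁻¹ ∈ XX (zz (K i)) := by
    intro r hr s hs
    have h1 := h.commutator_le hjk i (commutator_mem_commutator hr (hR' s hs))
    rwa [commutatorElement_def] at h1
  -- the quotient
  haveI hXn : ((XX (zz (K i))).subgroupOf C).Normal :=
    (normal_subgroupOf_iff_le_normalizer (XX_le _)).2 (le_normalizer_XX _)
  let π : C →* C ⧸ (XX (zz (K i))).subgroupOf C := QuotientGroup.mk' _
  have hπ : ∀ a b : C, π a = π b ↔ ((a⁻¹ * b : C) : G) ∈ XX (zz (K i)) := by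
    intro a b
    exact QuotientGroup.eq
  let a₁ : R → C := fun r => ⟨r, hRC r.2⟩
  let a₂ : R → C := fun r => ⟨v * r * v⁻¹, hR'C r r.2⟩
  have hsw : ∀ r s : R, π (a₁ r) * π (a₂ s) = π (a₂ s) * π (a₁ r) := by
    intro r s
    rw [← map_mul, ← map_mul, hπ]
    have h1 := inv_mem (hcomm ((r : G)⁻¹) (R.inv_mem r.2) ((s : G)⁻¹) (R.inv_mem s.2))
    convert h1 using 1
    simp only [a₁, a₂, coe_mul, coe_inv]
    group
  let δ : R →* C ⧸ (XX (zz (K i))).subgroupOf C :=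
    { toFun := fun r => π (a₁ r) * π (a₂ r)
      map_one' := by
        have e1 : a₁ 1 = 1 := rfl
        have e2 : a₂ 1 = 1 := by
          apply Subtype.ext
          simp [a₂]
        rw [e1, e2, map_one, mul_one]
      map_mul' := by
        intro r s
        have e1 : a₁ (r * s) = a₁ r * a₁ s := rfl
        have e2 : a₂ (r * s) = a₂ r * a₂ s := by
          apply Subtype.ext
          simp only [a₂, coe_mul]
          group
        rw [e1, e2, map_mul, map_mul, mul_assoc, ← mul_assoc (π (a₁ s)), hsw s r]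
        simp only [mul_assoc] }
  -- `δ(R)` is covered by `H`
  have hrange : δ.range ≤ (H.subgroupOf C).map π := by
    rintro _ ⟨r, rfl⟩
    obtain ⟨o, ho, h2⟩ := exists_mul_centralizer (N := XX (zz (K i))) (odd_XX _) (k := ((a₁ r * a₂ r : C) : G))
      hv (le_normalizer_XX _ hvi) (le_normalizer_XX _ (a₁ r * a₂ r).2) (by
        have h3 := hcomm r r.2 r r.2
        have hvi' : v⁻¹ = v := inv_eq_of_mul_eq_one_right hv
        convert h3 using 1
        simp only [a₁, a₂, coe_mul]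
        rw [hvi']
        calc (r : G) * (v * r * v) * v * (r * (v * r * v))⁻¹ * v
            = r * (v * r * (v * v)) * v⁻¹ * (r : G)⁻¹ * v⁻¹ * (r : G)⁻¹ * v := by group
          _ = r * (v * r * v) * (r : G)⁻¹ * (v * (r : G)⁻¹ * v) := by rw [hv, hvi']; group
          _ = r * (v * r * v) * (r : G)⁻¹ * (v * r * v)⁻¹ := by
              rw [mul_inv_rev, mul_inv_rev, hvi']; group)
    have h3 : ((a₁ r * a₂ r : C) : G) * o ∈ C := C.mul_mem (a₁ r * a₂ r).2 (XX_le _ ho)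
    refine ⟨⟨_, h3⟩, ⟨h2, h3⟩, ?_⟩
    change _ = π (a₁ r) * π (a₂ r)
    rw [← map_mul, hπ]
    have e1 : (((⟨((a₁ r * a₂ r : C) : G) * o, h3⟩ : C)⁻¹ * (a₁ r * a₂ r) : C) : G) = o⁻¹ := by
      simp only [coe_mul, coe_inv]
      group
    rw [e1]
    exact inv_mem ho
  -- the commutator subgroups
  have hRcomm : ⁅R, R⁆ = (⁅(⊤ : Subgroup R), (⊤ : Subgroup R)⁆ : Subgroup R).map R.subtype := by
    rw [map_commutator, ← MonoidHom.range_eq_map, range_subtype]
  have hHcomm : (⁅H.subgroupOf C, H.subgroupOf C⁆ : Subgroup C).map C.subtype = ⁅H, H⁆ := by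
    rw [map_commutator, subgroupOf_map_subtype, inf_eq_left.2 (inf_le_right : H ≤ C)]
  rw [hRcomm] at hx
  obtain ⟨x', hx', rfl⟩ := hx
  have h4 : δ x' ∈ (⁅H.subgroupOf C, H.subgroupOf C⁆ : Subgroup C).map π := by
    rw [map_commutator]
    refine commutator_mono hrange hrange ?_
    rw [MonoidHom.range_eq_map, ← map_commutator]
    exact mem_map_of_mem δ hx'
  obtain ⟨c, hc, hcx⟩ := h4
  refine ⟨c, by rw [← hHcomm]; exact mem_map_of_mem _ hc, (c : G)⁻¹ * (x' * (v * x' * v⁻¹)), ?_, by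
    change (x' : G) * (v * x' * v⁻¹) = _
    group⟩
  have h5 : π c = π (a₁ x' * a₂ x') := by
    rw [hcx, map_mul]
    rfl
  exact (hπ _ _).1 h5

end Thr

/-! ### No involution `z_J` of `S` moves a `K_j` -/

theorem commutator_self_le (H : Subgroup G) : ⁅H, H⁆ ≤ H := by
  rw [Subgroup.commutator_le]
  intro a ha b hb
  exact H.mul_mem (H.mul_mem (H.mul_mem ha hb) (H.inv_mem ha)) (H.inv_mem hb)

/-- a 2-element of `H` in `[H,H] N`, `N` of odd order -/
theorem mem_commutator_of_two [Finite G] {H N : Subgroup G} (hN : ¬ 2 ∣ Nat.card N) {d c o : G} (hd : d ∈ H)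
    (hc : c ∈ ⁅H, H⁆) (ho : o ∈ N) (hdo : d = c * o) {a : ℕ} (ha : d ^ 2 ^ a = 1) : d ∈ ⁅H, H⁆ := by
  have hH : ⁅H, H⁆ ≤ H := commutator_self_le H
  have hcH : c ∈ H := hH hc
  have hoH : o ∈ H := by
    have h1 := H.mul_mem (H.inv_mem hcH) hd
    rwa [hdo, inv_mul_cancel_left] at h1
  haveI hn : ((⁅H, H⁆ : Subgroup G).subgroupOf H).Normal := by
    refine (normal_subgroupOf_iff_le_normalizer hH).2 ?_
    intro g hg
    rw [mem_normalizer_iff_cj, cj_commutator, mem_normalizer_iff_cj.1 (le_normalizer hg)]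
  let π : H →* H ⧸ (⁅H, H⁆ : Subgroup G).subgroupOf H := QuotientGroup.mk' _
  have h1 : π ⟨d, hd⟩ = π ⟨o, hoH⟩ := by
    have e1 : (⟨d, hd⟩ : H) = ⟨c, hcH⟩ * ⟨o, hoH⟩ := Subtype.ext hdo
    have e2 : π ⟨c, hcH⟩ = 1 := (QuotientGroup.eq_one_iff _).2 hc
    rw [e1, map_mul, e2, one_mul]
  have h2 : orderOf (π ⟨d, hd⟩) ∣ 2 ^ a := by
    apply orderOf_dvd_of_pow_eq_one
    rw [← map_pow]
    have e1 : (⟨d, hd⟩ : H) ^ 2 ^ a = 1 := Subtype.ext ha
    rw [e1, map_one]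
  have h3 : orderOf (π ⟨d, hd⟩) ∣ orderOf o := by
    rw [h1]
    apply orderOf_dvd_of_pow_eq_one
    rw [← map_pow]
    have e1 : (⟨o, hoH⟩ : H) ^ orderOf o = 1 := Subtype.ext (pow_orderOf_eq_one o)
    rw [e1, map_one]
  have h4 := odd_orderOf hN ho
  have h5 : π ⟨d, hd⟩ = 1 := orderOf_eq_one_iff.1 (Nat.eq_one_of_dvd_coprimes
    (Nat.Coprime.pow_left a (Nat.coprime_two_left.mpr h4)) h2 h3)
  exact (QuotientGroup.eq_one_iff (N := (⁅H, H⁆ : Subgroup G).subgroupOf H) ⟨d, hd⟩).1 h5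

/-- `t` is trivial on `L / O(L)` -/
theorem cov_of_triv [Finite G] {Om : Set (Subgroup G)} {L : Subgroup G} (hL : L ∈ Om) {t : G}
    (ht : t * t = 1) (h : ∀ k ∈ L, t * k * t⁻¹ * k⁻¹ ∈ OO L) : L ∈ SubCent.cov Om (centralizer {t}) := by
  rw [← PairComm.centralizer_zpowers]
  refine SubCent.cov_of_comm hL (isPGroup_zpowers ht) ?_
  rw [Subgroup.commutator_le]
  rintro k hk _ ⟨i, rfl⟩
  show k * t ^ i * k⁻¹ * (t ^ i)⁻¹ ∈ OO L
  have h2 : t ^ (2 : ℤ) = 1 := by rw [zpow_ofNat, pow_two, ht]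
  rcases Int.even_or_odd' i with ⟨m, rfl | rfl⟩
  · rw [zpow_mul, h2, one_zpow]
    simp
  · rw [zpow_add, zpow_mul, h2, one_zpow, one_mul, zpow_one]
    have h3 := inv_mem (h k hk)
    convert h3 using 1
    group

/-- the conditions on the types of the members -/
structure Typ (Om : Set (Subgroup G)) : Prop where
  killQ : ∀ L ∈ Om, KillQ L
  perf : ∀ L ∈ Om, ∀ Q, Syl Q L → Q ≤ ⁅L, L⁆

namespace Thr

variable {Om : Set (Subgroup G)} {S : Subgroup G} {K : Fin 3 → Subgroup G} [Finite G]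

/-- elements of `K_j ⊓ S` are in `[R,R] X_i`, `R = K_j ⊓ C(z_k)` -/
theorem mem_comm_sup (h : Thr Om S K) (hT : Typ Om) {j k : Fin 3} (hjk : j ≠ k) (i : Fin 3) {x : G}
    (hx : x ∈ K j ⊓ S) : ∃ r ∈ ⁅K j ⊓ centralizer {zz (K k)}, K j ⊓ centralizer {zz (K k)}⁆,
      ∃ o ∈ XX (zz (K i)), x = r * o := by
  set R := K j ⊓ centralizer {zz (K k)} with hR
  have hcov := h.cov k j
  have h1 : ⁅K j, K j⁆ ≤ OO (K j) ⊔ ⁅R, R⁆ := by
    rw [Subgroup.commutator_le]
    intro a ha b hb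
    obtain ⟨o1, ho1, a', ha', rfl⟩ := SubCent.exists_mul hcov ha
    obtain ⟨o2, ho2, b', hb', rfl⟩ := SubCent.exists_mul hcov hb
    have e0 : a' * b' * a'⁻¹ * b'⁻¹ ∈ ⁅R, R⁆ := by
      have h2 := commutator_mem_commutator ha' hb'
      rwa [commutatorElement_def] at h2
    have e1 : o1 * a' * (o2 * b') * (o1 * a')⁻¹ * (o2 * b')⁻¹ =
        (o1 * (a' * o2 * a'⁻¹)) * (a' * b' * a'⁻¹ * b'⁻¹) * ((b' * o1⁻¹ * b'⁻¹) * o2⁻¹) := by
      group
    rw [commutatorElement_def, e1]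
    refine mul_mem (mul_mem (mem_sup_left (mul_mem ho1 (SubCent.conj_mem_OO ha'.1 ho2)))
      (mem_sup_right e0))
      (mem_sup_left (mul_mem (SubCent.conj_mem_OO hb'.1 (inv_mem ho1)) (inv_mem ho2)))
  have hRK : ⁅R, R⁆ ≤ R := commutator_self_le R
  obtain ⟨n, hn, r, hr, hxn⟩ := LB.exists_mul_of_mem_sup
    (hRK.trans (inf_le_left.trans (le_normalizer_OO (K j)))) (h1 (hT.perf _ (h.mem j) _
      (syl_inf h.isPGroup (h.memS j)) hx))
  have hxR : x ∈ R := by
    refine ⟨hx.1, mem_centralizer_singleton_iff.2 ?_⟩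
    exact h.hyp.comm h.isPGroup (h.memS j) (h.memS k) (h.ne hjk) hx
      (h.hyp.zz_mem_inf h.isPGroup (h.memS k))
  have hnR : n ∈ R := by
    have h2 := R.mul_mem hxR (R.inv_mem (hRK hr))
    rwa [hxn, mul_inv_cancel_right] at h2
  have hnX : n ∈ XX (zz (K i)) := by
    refine h.OO_inf_le hjk i ?_
    rw [SubCent.OO_inf hcov]
    exact ⟨hn, hnR.2⟩
  have hrC : r⁻¹ ∈ centralizer {zz (K i)} :=
    inv_mem (h.centralizer_EE_le i (h.inf_centralizer_le hjk (hRK hr)))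
  refine ⟨r, hr, r⁻¹ * n * r, ?_, by rw [hxn]; group⟩
  have h3 := (mem_normalizer_iff.1 (le_normalizer_XX _ hrC) n).1 hnX
  rwa [inv_inv] at h3

/-- no `z_J ∈ C(z_i) ⊓ S`, `J ∈ Om`, swaps `K_j` and `K_k` -/
theorem no_swap (h : Thr Om S K) (hT : Typ Om) {J : Subgroup G} (hJ : J ∈ Om) (hvS : zz J ∈ S)
    {i j k : Fin 3} (hij : i ≠ j) (hjk : j ≠ k) (hik : i ≠ k) (hvi : zz J ∈ centralizer {zz (K i)})
    (hvj : Cit.cj (zz J) (K j) = K k) (hvk : Cit.cj (zz J) (K k) = K j) : False := by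
  set v := zz J with hvdef
  have hv : v * v = 1 := h.hyp.zz_mul hJ
  have hvinv : v⁻¹ = v := inv_eq_of_mul_eq_one_right hv
  set C := centralizer {zz (K i)} with hC
  set H := centralizer {v} ⊓ C with hH
  have hS := h.isPGroup
  -- the diagonal elements
  have hconj : ∀ x ∈ K j ⊓ S, v * x * v⁻¹ ∈ K k ⊓ S := by
    intro x hx
    refine ⟨?_, S.mul_mem (S.mul_mem hvS hx.2) (S.inv_mem hvS)⟩
    rw [← hvj]
    exact conj_mem_cj hx.1
  have hcm : ∀ x ∈ K j ⊓ S, ∀ y ∈ K j ⊓ S, x * (v * y * v⁻¹) = (v * y * v⁻¹) * x := fun x hx y hy =>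
    h.hyp.comm hS (h.memS j) (h.memS k) (h.ne hjk) hx (hconj y hy)
  have hmul : ∀ x ∈ K j ⊓ S, ∀ y ∈ K j ⊓ S,
      (x * y) * (v * (x * y) * v⁻¹) = (x * (v * x * v⁻¹)) * (y * (v * y * v⁻¹)) := by
    intro x hx y hy
    calc (x * y) * (v * (x * y) * v⁻¹) = x * (y * (v * x * v⁻¹)) * (v * y * v⁻¹) := by group
      _ = x * ((v * x * v⁻¹) * y) * (v * y * v⁻¹) := by rw [hcm y hy x hx]
      _ = _ := by group
  have hdzz : zz (K j) * (v * zz (K j) * v⁻¹) = zz (K i) := by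
    rw [← h.hyp.zz_cj (h.mem j), hvj]
    exact h.prod j k i hjk (Ne.symm hik) (Ne.symm hij)
  have hdC : ∀ x ∈ K j ⊓ S, x * (v * x * v⁻¹) ∈ H := by
    intro x hx
    have hxE : x ∈ centralizer (EE K : Set G) :=
      h.inf_centralizer_le hjk ⟨hx.1, mem_centralizer_singleton_iff.2
        (h.hyp.comm hS (h.memS j) (h.memS k) (h.ne hjk) hx (h.hyp.zz_mem_inf hS (h.memS k)))⟩
    have hxC : x ∈ C := h.centralizer_EE_le i hxE
    refine mem_inf.2 ⟨?_, C.mul_mem hxC (C.mul_mem (C.mul_mem hvi hxC) (C.inv_mem hvi))⟩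
    rw [mem_centralizer_singleton_iff]
    have h1 := hcm x hx x hx
    rw [hvinv] at h1 ⊢
    calc x * (v * x * v) * v = x * v * x * (v * v) := by group
      _ = x * v * x := by rw [hv, mul_one]
      _ = (v * v) * x * v * x := by rw [hv, one_mul]
      _ = v * (v * x * v * x) := by group
      _ = v * (x * (v * x * v)) := by rw [← h1]
  have hdcomm : ∀ x ∈ K j ⊓ S, x * (v * x * v⁻¹) ∈ ⁅H, H⁆ := by
    intro x hx
    obtain ⟨r, hr, o, ho, hxr⟩ := h.mem_comm_sup hT hjk i hx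
    obtain ⟨c, hc, o', ho', hrr⟩ := h.diag hjk hv hvi hvj hvk hr
    have hXn := le_normalizer_XX (zz (K i))
    have hrR : r ∈ K j ⊓ centralizer {zz (K k)} := commutator_self_le _ hr
    have hrC : r ∈ C := h.centralizer_EE_le i (h.inf_centralizer_le hjk hrR)
    have hw : v * r * v⁻¹ ∈ C := C.mul_mem (C.mul_mem hvi hrC) (C.inv_mem hvi)
    have h2 : (v * r * v⁻¹)⁻¹ * o * (v * r * v⁻¹) ∈ XX (zz (K i)) := by
      have h3 := (mem_normalizer_iff.1 (hXn (C.inv_mem hw)) o).1 ho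
      rwa [inv_inv] at h3
    have h3 : v * o * v⁻¹ ∈ XX (zz (K i)) := (mem_normalizer_iff.1 (hXn hvi) o).1 ho
    obtain ⟨a, ha⟩ := hS ⟨x * (v * x * v⁻¹), S.mul_mem hx.2 (hconj x hx).2⟩
    refine mem_commutator_of_two (odd_XX (zz (K i))) (hdC x hx) hc
      (mul_mem ho' (mul_mem h2 h3)) ?_ (a := a) (congrArg Subtype.val ha)
    calc x * (v * x * v⁻¹) = (r * (v * r * v⁻¹)) * ((v * r * v⁻¹)⁻¹ * o * (v * r * v⁻¹) * (v * o * v⁻¹)) := by
          rw [hxr]; group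
      _ = _ := by rw [hrr]; group
  have hHN : ⁅H, H⁆ ≤ ⁅normalizer (J : Set G), normalizer (J : Set G)⁆ :=
    commutator_mono (inf_le_left.trans (h.centralizer_le hJ)) (inf_le_left.trans (h.centralizer_le hJ))
  -- the quaternion pair
  obtain ⟨c, w, n, hq⟩ := h.hyp.exists_gq (h.mem j) (syl_inf hS (h.memS j))
  obtain ⟨q₁, hq₁, q₂, hq₂, ho₁, ho₂, -, hq₁₂⟩ := hq.exists_pair
  have hs₁ := hq.sq_of_four hq₁ ho₁
  have hs₂ := hq.sq_of_four hq₂ ho₂
  have hJcov : J ∈ SubCent.cov Om (centralizer {zz (K i)}) := by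
    refine cov_of_triv hJ (h.sq i) ?_
    have h1 := hT.killQ J hJ _ (hHN (hdcomm q₁ hq₁)) _ (hHN (hdcomm q₂ hq₂))
    rw [← hmul q₁ hq₁ q₁ hq₁, ← hmul q₂ hq₂ q₂ hq₂, hs₁, hs₂, hdzz] at h1
    refine h1 rfl ?_
    have h2 : q₁ * q₂ * q₁⁻¹ = q₂⁻¹ := by
      rw [hq.inv_of_four hq₂ ho₂]
      have h3 := hq.z_comm hq₂
      rw [mul_inv_eq_iff_eq_mul]
      calc q₁ * q₂ = q₁ * q₂ * (zz (K j) * zz (K j)) := by rw [hq.z_mul, mul_one]
        _ = q₂ * q₁ * zz (K j) := by rw [hq₁₂]; group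
        _ = q₂ * (q₁ * zz (K j)) := by group
        _ = q₂ * (zz (K j) * q₁) := by rw [hq.z_comm hq₁]
        _ = q₂ * zz (K j) * q₁ := by group
    have hq₂i : q₂⁻¹ ∈ K j ⊓ S := inv_mem hq₂
    have h4 : q₁ * (v * q₁ * v⁻¹) * (q₂ * (v * q₂ * v⁻¹)) =
        (q₂ * (v * q₂ * v⁻¹))⁻¹ * (q₁ * (v * q₁ * v⁻¹)) := by
      have h5 : (q₂ * (v * q₂ * v⁻¹))⁻¹ = q₂⁻¹ * (v * q₂⁻¹ * v⁻¹) := by
        rw [hcm q₂ hq₂ q₂ hq₂]; group
      rw [h5, ← hmul q₁ hq₁ q₂ hq₂, ← hmul _ hq₂i q₁ hq₁]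
      have h6 : q₁ * q₂ = q₂⁻¹ * q₁ := by rwa [mul_inv_eq_iff_eq_mul] at h2
      rw [h6]
    rw [h4]; group
  -- the action on `{z_j, z_k}` modulo `X_i`
  obtain ⟨Q', hQ'⟩ := Hyp.exists_syl (J ⊓ centralizer {zz (K i)})
  obtain ⟨c', w', n', hq'⟩ := h.hyp.exists_gq hJ (SubCent.syl_of_syl_inf hJcov hQ')
  obtain ⟨p₁, hp₁, p₂, hp₂, -, -, -, hp₁₂⟩ := hq'.exists_pair
  haveI hXn : ((XX (zz (K i))).subgroupOf C).Normal :=
    (normal_subgroupOf_iff_le_normalizer (XX_le _)).2 (le_normalizer_XX _)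
  let π : C →* C ⧸ (XX (zz (K i))).subgroupOf C := QuotientGroup.mk' _
  have hπ : ∀ a b : C, π a = π b ↔ ((a⁻¹ * b : C) : G) ∈ XX (zz (K i)) := by
    intro a b
    exact QuotientGroup.eq
  let zi : C := ⟨zz (K i), h.EE_le_centralizer i (zz_mem_EE i)⟩
  let zj : C := ⟨zz (K j), h.EE_le_centralizer i (zz_mem_EE j)⟩
  have hcen : ∀ y : C, zi * y = y * zi := fun y => Subtype.ext (mem_centralizer_singleton_iff.1 y.2).symm
  have hcen' : ∀ y, π zi * y = y * π zi := by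
    intro y
    obtain ⟨y, rfl⟩ := QuotientGroup.mk_surjective y
    change π zi * π y = π y * π zi
    rw [← map_mul, ← map_mul, hcen]
  have hzi : π zi ≠ 1 := by
    intro h1
    have h2 : zz (K i) ∈ XX (zz (K i)) :=
      (QuotientGroup.eq_one_iff (N := (XX (zz (K i))).subgroupOf C) zi).1 h1
    refine h.hyp.zz_ne (h.mem i) (eq_one_of_odd (odd_XX _) h2 (a := 1) ?_)
    rw [pow_one, pow_two, h.sq]
  have key : ∀ y : C, ∃ e, (∀ u, e * u = u * e) ∧ π y * π zj = e * (π zj * π y) := by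
    intro y
    obtain ⟨l, hl⟩ := h.conj_zz y.2 j
    have hyz : (y : G) * zz (K i) * (y : G)⁻¹ = zz (K i) := by
      rw [mem_centralizer_singleton_iff.1 y.2]; group
    have hli : l ≠ i := by
      rintro rfl
      have h1 : zz (K l) * zz (K j) ∈ XX (zz (K l)) := by
        have h2 := (mem_normalizer_iff.1 (le_normalizer_XX _ (inv_mem y.2)) _).1 hl
        convert h2 using 1
        rw [inv_inv]
        calc zz (K l) * zz (K j) = ((y : G)⁻¹ * zz (K l) * y) * zz (K j) := by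
              congr 1
              nth_rewrite 2 [← hyz]
              group
          _ = _ := by group
      exact hij (h.inj _ _ (eq_of_mul_mem (odd_XX _) (h.sq l) (h.sq j) (h.comm l j) h1))
    by_cases hlj : l = j
    · subst hlj
      refine ⟨1, fun u => by rw [one_mul, mul_one], ?_⟩
      rw [one_mul, ← map_mul, ← map_mul, eq_comm, hπ]
      have h2 := (mem_normalizer_iff.1 (le_normalizer_XX _ (inv_mem y.2)) _).1 hl
      convert h2 using 1
      simp only [zj, coe_mul, coe_inv, mul_inv_rev, inv_inv, h.hyp.zz_inv (h.mem l)]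
      group
    · refine ⟨π zi, hcen', ?_⟩
      rw [← map_mul, ← map_mul, ← map_mul, eq_comm, hπ]
      have h2 := (mem_normalizer_iff.1 (le_normalizer_XX _ (inv_mem y.2)) _).1 hl
      have hlz : zz (K l) = zz (K i) * zz (K j) := (h.prod i j l hij (Ne.symm hlj) (Ne.symm hli)).symm
      convert h2 using 1
      rw [hlz, h.comm i j]
      simp only [zj, zi, coe_mul, coe_inv, mul_inv_rev, inv_inv, h.hyp.zz_inv (h.mem i),
        h.hyp.zz_inv (h.mem j)]
      group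
  obtain ⟨e₁, he₁, hz₁⟩ := key ⟨p₁, (hQ'.1 hp₁).2⟩
  obtain ⟨e₂, he₂, hz₂⟩ := key ⟨p₂, (hQ'.1 hp₂).2⟩
  set P₁ := π ⟨p₁, (hQ'.1 hp₁).2⟩
  set P₂ := π ⟨p₂, (hQ'.1 hp₂).2⟩
  set V := π ⟨v, hvi⟩
  set Z := π zj
  have hPP : P₂ * P₁ = P₁ * P₂ * V := by
    change π _ * π _ = π _ * π _ * π _
    rw [← map_mul, ← map_mul, ← map_mul]
    congr 1
    exact Subtype.ext hp₁₂
  have hVZ : V * Z = π zi * (Z * V) := by
    change π _ * π _ = π _ * (π _ * π _)
    rw [← map_mul, ← map_mul, ← map_mul]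
    congr 1
    apply Subtype.ext
    change v * zz (K j) = zz (K i) * (zz (K j) * v)
    have h1 : v * zz (K j) * v⁻¹ = zz (K i) * zz (K j) := by
      rw [← hdzz]
      have h2 : zz (K j) * (v * zz (K j) * v⁻¹) = (v * zz (K j) * v⁻¹) * zz (K j) := by
        rw [← h.hyp.zz_cj (h.mem j), hvj]
        exact h.comm j k
      rw [h2, mul_assoc (v * zz (K j) * v⁻¹), h.sq, mul_one]
    rw [mul_inv_eq_iff_eq_mul] at h1
    rw [h1, mul_assoc]
  have h1 : P₂ * P₁ * Z = e₁ * e₂ * (Z * (P₂ * P₁)) := by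
    calc P₂ * P₁ * Z = P₂ * (P₁ * Z) := by rw [mul_assoc]
      _ = P₂ * (e₁ * (Z * P₁)) := by rw [hz₁]
      _ = (P₂ * e₁) * Z * P₁ := by simp only [mul_assoc]
      _ = e₁ * (P₂ * Z) * P₁ := by rw [← he₁]; simp only [mul_assoc]
      _ = e₁ * (e₂ * (Z * P₂)) * P₁ := by rw [hz₂]
      _ = e₁ * e₂ * (Z * (P₂ * P₁)) := by simp only [mul_assoc]
  have h2 : P₁ * P₂ * V * Z = π zi * e₂ * e₁ * (Z * (P₁ * P₂ * V)) := by
    calc P₁ * P₂ * V * Z = P₁ * P₂ * (V * Z) := by rw [mul_assoc]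
      _ = (P₁ * P₂ * π zi) * Z * V := by rw [hVZ]; simp only [mul_assoc]
      _ = π zi * P₁ * (P₂ * Z) * V := by rw [← hcen']; simp only [mul_assoc]
      _ = π zi * (P₁ * e₂) * Z * P₂ * V := by rw [hz₂]; simp only [mul_assoc]
      _ = π zi * e₂ * (P₁ * Z) * P₂ * V := by rw [← he₂]; simp only [mul_assoc]
      _ = π zi * e₂ * e₁ * (Z * (P₁ * P₂ * V)) := by rw [hz₁]; simp only [mul_assoc]
  rw [← hPP, h1] at h2
  have h3 := mul_right_cancel h2
  rw [he₁ e₂, mul_assoc (π zi)] at h3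
  exact hzi (mul_eq_right.1 h3.symm)

/-- **`z_J ∈ S`, `J ∈ Om`, centralises `E`** -/
theorem comm_of_mem (h : Thr Om S K) (hT : Typ Om) {J : Subgroup G} (hJ : J ∈ Om) (hvS : zz J ∈ S)
    (j : Fin 3) : zz J * zz (K j) = zz (K j) * zz J := by
  by_contra hne
  have hv : zz J * zz J = 1 := h.hyp.zz_mul hJ
  have hmem : ∀ m, ∃ l, Cit.cj (zz J) (K m) = K l := fun m =>
    (h.omS _).1 (cj_mem_OmS' h.hyp.conj (le_normalizer hvS) (h.memS m))
  have hback : ∀ {A B : Subgroup G}, Cit.cj (zz J) A = B → Cit.cj (zz J) B = A := by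
    rintro A _ rfl
    rw [← cj_mul, hv, cj_one]
  obtain ⟨k, hk⟩ := hmem j
  have hjk : j ≠ k := by
    rintro rfl
    exact hne (h.hyp.comm_zz (h.mem j) (mem_normalizer_iff_cj.2 hk))
  obtain ⟨i, hji, hki, hall⟩ := third j k hjk
  obtain ⟨l, hl⟩ := hmem i
  have hli : l = i := by
    rcases hall l with rfl | rfl | rfl
    · exfalso
      have h1 := hback hl
      rw [hk] at h1
      exact h.ne hki h1
    · exfalso
      have h1 := hback hl
      rw [hback hk] at h1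
      exact h.ne hji h1
    · rfl
  rw [hli] at hl
  exact h.no_swap hT hJ hvS (Ne.symm hji) hjk (Ne.symm hki)
    (mem_centralizer_singleton_iff.2 (h.hyp.comm_zz (h.mem i) (mem_normalizer_iff_cj.2 hl))) hk (hback hk)

end Thr

/-! ### `E` is strongly closed -/

namespace Thr

variable {Om : Set (Subgroup G)} {S : Subgroup G} {K : Fin 3 → Subgroup G} [Finite G]

/-- **an involution `z_J ∈ S`, `J ∈ Om`, lies in `E`** -/
theorem mem_of_zz (h : Thr Om S K) (hT : Typ Om) {J : Subgroup G} (hJ : J ∈ Om) (hvS : zz J ∈ S) :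
    zz J ∈ EE K := by
  by_contra hvE
  have hc := h.comm_of_mem hT hJ hvS
  -- a Sylow 2-subgroup containing `E` and a Sylow 2-subgroup of `J`
  have hEJ : EE K ≤ normalizer (J : Set G) := by
    refine le_trans ?_ (h.centralizer_le hJ)
    intro e he
    rw [mem_centralizer_singleton_iff]
    rcases h.mem_EE.1 he with rfl | ⟨i, rfl⟩
    · rw [one_mul, mul_one]
    · exact (hc i).symm
  obtain ⟨R, hR, hER, hRJ⟩ := LB.exists_two_sup h.isPGroup_EE hEJ
  obtain ⟨g, hg⟩ := h.exists_cj hR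
  have h' := h.cj g
  set K' : Fin 3 → Subgroup G := fun i => Cit.cj g (K i) with hK'
  obtain ⟨i₀, hi₀⟩ := (h'.omS J).1 (OmS_mono hg (mem_OmS_of_le hJ hRJ inf_le_left))
  have hcc : ∀ i k, zz (K i) * zz (K' k) = zz (K' k) * zz (K i) := fun i k =>
    h'.comm_of_mem hT (h.mem i) (hg (hER (zz_mem_EE i))) k
  have hno : ∀ i k, K' k ∉ SubCent.cov Om (centralizer {zz (K i)}) := by
    intro i k hcov
    obtain ⟨j, hj⟩ := h.T i _ hcov
    have h1 := eq_of_mul_mem (odd_XX _) (h.sq j) (h'.sq k) (hcc j k) hj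
    have h2 : J ∈ SubCent.cov Om (centralizer {zz (K j)}) := by
      rw [h1, hi₀]
      exact h'.cov k i₀
    obtain ⟨l, hl⟩ := h.T j _ h2
    have h3 := eq_of_mul_mem (odd_XX _) (h.sq l) (h.hyp.zz_mul hJ) (hc l).symm hl
    apply hvE
    rw [← h3]
    exact zz_mem_EE l
  have hno' : ∀ i k, K i ∉ SubCent.cov Om (centralizer {zz (K' k)}) := fun i k hcov =>
    hno i k (cov_symm h.hyp hcov (h'.mem k))
  -- `E' = EE K'` acts on `K 0`
  have hcE : ∀ e ∈ EE K', e * zz (K 0) = zz (K 0) * e := by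
    intro e he
    rcases h'.mem_EE.1 he with rfl | ⟨k, rfl⟩
    · rw [one_mul, mul_one]
    · exact (hcc 0 k).symm
  have hE'K : EE K' ≤ normalizer (K 0 : Set G) := fun e he =>
    h.centralizer_le (h.mem 0) (mem_centralizer_singleton_iff.2 (hcE e he))
  obtain ⟨R', hR', hER', hRK'⟩ := LB.exists_two_sup h'.isPGroup_EE hE'K
  have hQn : EE K' ≤ normalizer ((R' ⊓ K 0 : Subgroup G) : Set G) := by
    intro e he
    rw [mem_normalizer_iff_cj, cj_inf, mem_normalizer_iff_cj.1 (le_normalizer (hER' he)),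
      mem_normalizer_iff_cj.1 (hE'K he)]
  obtain ⟨c, w', n', hq⟩ := h.hyp.exists_gq (h.mem 0) hRK'
  have hone : ∀ k, zz (K' k) ≠ 1 := fun k => h.hyp.zz_ne (h'.mem k)
  obtain ⟨w, hw, hw4, a, ha, b, hb, ha1, haw, hbw⟩ := hq.exists_fix_inv hRK'.2.1 hQn
    (fun e he => h'.sq_EE he) (zz_mem_EE (K := K') 0) (zz_mem_EE (K := K') 1) (hone 0) (hone 1)
    (fun h1 => absurd (h'.inj 0 1 h1) (by decide)) (by
      intro e he he1 hall
      rcases h'.mem_EE.1 he with h1 | ⟨k, hk⟩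
      · exact he1 h1
      · rw [hk] at hall
        exact hno' 0 k (cov_of_comm h.hyp (h.mem 0) hRK' (h'.sq k) (hE'K (zz_mem_EE k)) hall))
  rcases h'.mem_EE.1 ha with h1 | ⟨k, hk⟩
  · exact ha1 h1
  subst hk
  have hwC : w ∈ centralizer {zz (K' k)} := by
    rw [mem_centralizer_singleton_iff]
    rw [mul_inv_eq_iff_eq_mul] at haw
    exact haw.symm
  obtain ⟨x, hx, n, hn, hxn⟩ := h'.frattini hwC
  have hww := hq.sq_of_four hw hw4
  have hz0 : zz (K 0) = b * w * b⁻¹ * w⁻¹ := by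
    rw [hbw, ← mul_inv_rev, hww, hq.z_inv]
  set b' := n * b⁻¹ * n⁻¹ with hb'
  have hb'E : b' ∈ EE K' := (mem_normalizer_iff.1 hn _).1 (inv_mem hb)
  have hb'C := h'.EE_le_centralizer k hb'E
  have hu : b'⁻¹ * x * b' * x⁻¹ ∈ XX (zz (K' k)) := by
    have h2 := (mem_normalizer_iff.1 (le_normalizer_XX _ (inv_mem hb'C)) x).1 hx
    rw [inv_inv] at h2
    exact mul_mem h2 (inv_mem hx)
  have he : b * b' ∈ EE K' := mul_mem hb hb'E
  have hz : zz (K 0) = (b * b') * (b'⁻¹ * x * b' * x⁻¹) := by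
    rw [hz0, hxn, hb']; group
  have h3 : b * b' = zz (K 0) := by
    refine eq_of_mul_mem (odd_XX (zz (K' k))) (h'.sq_EE he) (h.sq 0) (hcE _ he) ?_
    rw [hz, ← mul_assoc, h'.sq_EE he, one_mul]
    exact hu
  rcases h'.mem_EE.1 he with h4 | ⟨m, hm⟩
  · exact h.hyp.zz_ne (h.mem 0) (h3.symm.trans h4)
  · apply hno 0 m
    rw [← h3, hm]
    exact SubCent.mem_cov_of_le (h'.mem m) (h.hyp.le_centralizer (h'.mem m))

/-- **`E` is strongly closed in `S`** -/
theorem closed (h : Thr Om S K) (hT : Typ Om) : IsStronglyClosed (EE K) S := by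
  refine ⟨h.EE_le_S, ?_⟩
  intro x hx g hg
  rcases h.mem_EE.1 hx with rfl | ⟨i, rfl⟩
  · rw [mul_one, mul_inv_cancel]
    exact one_mem _
  · rw [← h.hyp.zz_cj (h.mem i)] at hg ⊢
    exact h.mem_of_zz hT (h.hyp.conj _ (h.mem i) g) hg

end Thr

end Cfsg.Agent.Cit.ThreeB
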