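import Cfsg.Agent.Cit.ThreeB
import Cfsg.Agent.BenderType.Classify
import Cfsg.Agent.TwoFusion.StronglyEmbeddedBasic

/-!
# Three members with `z₁ z₂ z₃ = 1` and disconnected centralisers: impossible in a simple group

`Thr.false` : Goldschmidt's theorem (S1169) and Bender's theorem (`StrongEmb.Strong.result`) are hypotheses. `E` is strongly closed in the
nonabelian Sylow group `S`, hence `G` is `Sz(q)` or `PSU₃(q)` and all involutions are conjugate, so that
`E` contains all the involutions of `S` and `q = 4`, `|S| = 64`; but `S` contains three commuting quaternion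
groups.
-/

set_option autoImplicit false
set_option linter.style.haveILetI false

namespace Cfsg.Agent.Cit.ThreeB

open Subgroup Cfsg

variable {G : Type*} [Group G]

/-- a generalised quaternion group has at least 8 elements -/
theorem eight_le_card [Finite G] {Q : Subgroup G} {c v z : G} {n : ℕ} (h : GQ Q c v z n) :
    8 ≤ Nat.card Q := by
  have h1 : zpowers c ≤ Q := zpowers_le.2 h.c_mem
  have h2 : Nat.card (zpowers c) = 2 ^ (n + 2) := by rw [Nat.card_zpowers, h.ord]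
  obtain ⟨m, hm⟩ := card_dvd_of_le h1
  have h3 : m ≠ 0 := by
    rintro rfl
    rw [mul_zero] at hm
    exact Nat.card_pos.ne' hm
  have h4 : m ≠ 1 := by
    rintro rfl
    rw [mul_one] at hm
    have h5 : zpowers c = Q := Subgroup.eq_of_le_of_card_ge h1 hm.le
    obtain ⟨i, hi⟩ : v ∈ zpowers c := by rw [h5]; exact h.v_mem
    apply h.not_comm
    have h6 : c ^ i = v := hi
    rw [← h6, ← zpow_add_one, ← zpow_one_add, add_comm]
  have h5 : 4 ≤ 2 ^ (n + 2) := by
    calc 4 = 2 ^ 2 := by norm_num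
      _ ≤ 2 ^ (n + 2) := Nat.pow_le_pow_right (by norm_num) (by omega)
  rw [hm, h2]
  have h6 : 2 ≤ m := by omega
  calc 8 = 4 * 2 := by norm_num
    _ ≤ 2 ^ (n + 2) * m := Nat.mul_le_mul h5 h6

namespace Thr

variable {Om : Set (Subgroup G)} {S : Subgroup G} {K : Fin 3 → Subgroup G} [Finite G]

/-- `|S| ≠ 64` -/
theorem card_ne (h : Thr Om S K) : Nat.card S ≠ 64 := by
  intro hS
  have hp := h.isPGroup
  obtain ⟨c₀, v₀, n₀, h₀⟩ := h.hyp.exists_gq (h.mem 0) (syl_inf hp (h.memS 0))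
  obtain ⟨c₁, v₁, n₁, h₁⟩ := h.hyp.exists_gq (h.mem 1) (syl_inf hp (h.memS 1))
  obtain ⟨c₂, v₂, n₂, h₂⟩ := h.hyp.exists_gq (h.mem 2) (syl_inf hp (h.memS 2))
  have e₀ := eight_le_card h₀
  have e₁ := eight_le_card h₁
  have n01 : (0 : Fin 3) ≠ 1 := by decide
  let f : ↥(K 0 ⊓ S : Subgroup G) × ↥(K 1 ⊓ S : Subgroup G) → S :=
    fun p => ⟨p.1 * p.2, S.mul_mem p.1.2.2 p.2.2.2⟩
  have hf : Function.Injective f := by
    rintro ⟨a, b⟩ ⟨a', b'⟩ hab
    have h3 : (a : G) * b = a' * b' := congrArg Subtype.val hab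
    have h4 : (a' : G)⁻¹ * a = b' * (b : G)⁻¹ := by
      rw [inv_mul_eq_iff_eq_mul, ← mul_assoc, ← h3]; group
    have h5 : (a' : G)⁻¹ * a ∈ K 0 ⊓ S := mul_mem (inv_mem a'.2) a.2
    have h6 : (a' : G)⁻¹ * a ∈ K 1 := by rw [h4]; exact mul_mem b'.2.1 (inv_mem b.2.1)
    have h7 : (a' : G)⁻¹ * a = 1 := by
      rcases inf_inf_le h.hyp hp (h.memS 0) (h.memS 1) (h.ne n01) h5 h6 with h7 | ⟨-, h7⟩
      · exact h7
      · exact absurd (h.inj 0 1 h7) n01
    have h8 : (a : G) = a' := by rw [inv_mul_eq_one] at h7; exact h7.symm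
    have h9 : (b : G) = b' := by
      rw [h8] at h3
      exact mul_left_cancel h3
    exact Prod.ext (Subtype.ext h8) (Subtype.ext h9)
  have hcard : Nat.card (↥(K 0 ⊓ S : Subgroup G) × ↥(K 1 ⊓ S : Subgroup G)) = Nat.card S := by
    refine le_antisymm (Nat.card_le_card_of_injective f hf) ?_
    rw [Nat.card_prod, hS]
    calc 64 = 8 * 8 := by norm_num
      _ ≤ _ := Nat.mul_le_mul e₀ e₁
  have hsurj : Function.Surjective f :=
    ((Nat.bijective_iff_injective_and_card f).2 ⟨hf, hcard⟩).2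
  have hcent : ∀ x ∈ S, ∀ y ∈ K 2 ⊓ S, x * y = y * x := by
    intro x hx y hy
    obtain ⟨⟨a, b⟩, hab⟩ := hsurj ⟨x, hx⟩
    have h3 : (a : G) * b = x := congrArg Subtype.val hab
    have h4 := h.hyp.comm hp (h.memS 0) (h.memS 2) (h.ne (by decide)) a.2 hy
    have h5 := h.hyp.comm hp (h.memS 1) (h.memS 2) (h.ne (by decide)) b.2 hy
    rw [← h3, mul_assoc, h5, ← mul_assoc, h4, mul_assoc]
  exact h₂.not_comm (hcent _ h₂.v_mem.2 _ h₂.c_mem)

/-- `|E| = 4` -/
theorem card_EE (h : Thr Om S K) : Nat.card (EE K) = 4 := by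
  classical
  have h1 : (EE K : Set G) = {1, zz (K 0), zz (K 1), zz (K 2)} := by
    ext x
    rw [SetLike.mem_coe, h.mem_EE]
    simp only [Set.mem_insert_iff, Set.mem_singleton_iff]
    constructor
    · rintro (rfl | ⟨i, rfl⟩)
      · exact Or.inl rfl
      · fin_cases i <;> simp
    · rintro (rfl | rfl | rfl | rfl)
      · exact Or.inl rfl
      · exact Or.inr ⟨0, rfl⟩
      · exact Or.inr ⟨1, rfl⟩
      · exact Or.inr ⟨2, rfl⟩
  have hne : ∀ i, zz (K i) ≠ 1 := fun i => h.hyp.zz_ne (h.mem i)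
  have h01 : zz (K 0) ≠ zz (K 1) := fun h2 => absurd (h.inj _ _ h2) (by decide)
  have h02 : zz (K 0) ≠ zz (K 2) := fun h2 => absurd (h.inj _ _ h2) (by decide)
  have h12 : zz (K 1) ≠ zz (K 2) := fun h2 => absurd (h.inj _ _ h2) (by decide)
  change Nat.card (EE K : Set G) = 4
  rw [h1, Nat.card_coe_set_eq, Set.ncard_insert_of_notMem, Set.ncard_insert_of_notMem, Set.ncard_pair h12]
  · simp [h01, h02]
  · simp [(hne 0).symm, (hne 1).symm, (hne 2).symm]

/-- if all involutions of `G` are conjugate, `E` contains the involutions of `S` -/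
theorem mem_EE_of_sq (h : Thr Om S K) (hT : Typ Om)
    (hc : ∀ a b : G, orderOf a = 2 → orderOf b = 2 → IsConj a b) {x : G} (hx : x ∈ S) (hx2 : x * x = 1) :
    x ∈ EE K := by
  by_cases hx1 : x = 1
  · rw [hx1]; exact one_mem _
  obtain ⟨g, hg⟩ := isConj_iff.1 (hc (zz (K 0)) x (h.hyp.orderOf_zz (h.mem 0))
    (orderOf_eq_prime (by rw [pow_two]; exact hx2) hx1))
  rw [← h.hyp.zz_cj (h.mem 0)] at hg
  rw [← hg] at hx ⊢
  exact h.mem_of_zz hT (h.hyp.conj _ (h.mem 0) g) hx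

/-- **(B)**: the configuration does not occur in a simple group. `gold` : Goldschmidt's theorem
(`S1169.result`), `bender` : Bender's theorem (`StrongEmb.Strong.result`) for the simple group `G` -/
theorem false (h : Thr Om S K) (hT : Typ Om)
    (gold : ∀ (P : Sylow 2 G) (A : Subgroup G), A ≠ ⊥ → IsMulCommutative A →
      IsStronglyClosed A (P : Subgroup G) →
      IsMulCommutative (P : Subgroup G) ∨ ∃ H : Subgroup G, IsStronglyEmbedded H)
    (bender : (∃ a b : G, a * b ≠ b * a) → ∀ H : Subgroup G, IsStronglyEmbedded H →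
      BenderType.Classify.Concl G) : False := by
  obtain ⟨P, hP⟩ := h.syl
  subst hP
  obtain ⟨c, v, n, hq⟩ := h.hyp.exists_gq (h.mem 0) (syl_inf h.isPGroup (h.memS 0))
  have hnc : ¬ IsMulCommutative (P : Subgroup G) := by
    intro h1
    apply hq.not_comm
    exact congrArg Subtype.val (h1.is_comm.comm ⟨v, hq.v_mem.2⟩ ⟨c, hq.c_mem.2⟩)
  rcases gold P (EE K) (by
      intro h1
      have h2 := zz_mem_EE (K := K) 0
      rw [h1, mem_bot] at h2
      exact h.hyp.zz_ne (h.mem 0) h2)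
    ⟨⟨fun a b => Subtype.ext (h.comm_EE a.2 b.2)⟩⟩ (h.closed hT) with h1 | ⟨H, hH⟩
  · exact hnc h1
  have hcj := TwoFusion.StronglyEmbeddedBasic.isConj_of_involutions hH
  have hsq : Nat.card {x : (P : Subgroup G) // x * x = 1} = 4 := by
    rw [← h.card_EE]
    refine Nat.card_congr ⟨fun x => ⟨x.1, h.mem_EE_of_sq hT hcj x.1.2 (congrArg Subtype.val x.2)⟩,
      fun x => ⟨⟨x.1, h.EE_le_S x.2⟩, Subtype.ext (h.sq_EE x.2)⟩, fun x => rfl, fun x => rfl⟩
  rcases bender ⟨v, c, hq.not_comm⟩ H hH with ⟨F, i1, i2, ⟨m, -, hF⟩, ⟨e⟩⟩ |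
    ⟨F, i1, i2, m, hm, hF, ⟨e⟩⟩ | ⟨F, i1, i2, m, hm, hF, ⟨e⟩⟩
  · exact BenderType.Classify.not_psl P hnc hF e
  · have h1 := (BenderType.Classify.ty_sz_of_equiv hm hF e P).inv
    rw [hsq] at h1
    have h2 := BenderType.Classify.two_pow_inj (a := 2) (b := 2 * m + 1) (by rw [← h1]; norm_num)
    omega
  · have h1 := BenderType.Classify.ty_psu_of_equiv (by omega) hF e P
    have h2 := h1.inv
    rw [hsq] at h2
    have h3 := BenderType.Classify.two_pow_inj (a := 2) (b := m) (by rw [← h2]; norm_num)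
    apply h.card_ne
    rw [h1.card, ← h3]
    norm_num

end Thr

end Cfsg.Agent.Cit.ThreeB
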