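import Cfsg.Agent.Cit.CoreThree

/-!
# Transport of the pieces of `C(zz K) / O(C(zz K))` by conjugation

* `pc_map` : `pc` commutes with injective homomorphisms;
* `TyPiece.map` : `TyPiece` is preserved by injective homomorphisms;
* `rd_map` : `rd` commutes with isomorphisms;
* `hqe g H : HQ H ≃* HQ (cj g H)`, `img_fam`, `map_tr`;
* **`TyPiece.cj`** : the type of `PP Om K L` is the type of `PP Om (cj g K) (cj g L)`.
-/

set_option autoImplicit false
set_option linter.style.haveILetI false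
set_option linter.unusedSectionVars false

namespace Cfsg.Agent.Cit.ThreeTrans

open Subgroup Cfsg Cfsg.Agent.Cit SubCent UseT Branches CoreThree Relation
open Cfsg.Agent.Nodes.Chart
open Cfsg.Agent.Cit.TypeDet (cm chn)

section Gen

variable {X Y : Type*} [Group X] [Group Y] {f : X →* Y} {F : Set (Subgroup X)}

theorem cm_map (hf : Function.Injective f) {K L : Subgroup X} : cm (K.map f) (L.map f) ↔ cm K L := by
  rw [TypeDet.cm_iff_le_centralizer, TypeDet.cm_iff_le_centralizer, map_le_centralizer_map hf]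

theorem chn_map (hf : Function.Injective f) {K L : Subgroup X} (h : chn F K L) :
    chn (img f F) (K.map f) (L.map f) := by
  induction h with
  | refl => exact ReflTransGen.refl
  | tail _ h2 ih =>
    exact ih.tail ⟨(mem_img_iff hf).2 h2.1, (mem_img_iff hf).2 h2.2.1, fun h' => h2.2.2 ((cm_map hf).mp h')⟩

theorem exists_of_chn_map (hf : Function.Injective f) {K : Subgroup X} {M : Subgroup Y}
    (h : chn (img f F) (K.map f) M) : ∃ J, J.map f = M ∧ chn F K J := by
  induction h with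
  | refl => exact ⟨K, rfl, ReflTransGen.refl⟩
  | tail _ h2 ih =>
    obtain ⟨J, rfl, hJ⟩ := ih
    obtain ⟨h3, ⟨J', hJ', rfl⟩, h4⟩ := h2
    exact ⟨J', rfl, hJ.tail ⟨(mem_img_iff hf).1 h3, hJ', fun h => h4 ((cm_map hf).mpr h)⟩⟩

/-- `pc` commutes with injective homomorphisms -/
theorem pc_map (hf : Function.Injective f) (K : Subgroup X) : pc (img f F) (K.map f) = (pc F K).map f := by
  apply le_antisymm
  · refine sSup_le fun M hM => ?_
    obtain ⟨J, rfl, hJ⟩ := exists_of_chn_map hf hM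
    exact Subgroup.map_mono (le_pc_of_chn hJ)
  · rw [pc, (Subgroup.gc_map_comap f).l_sSup]
    exact iSup₂_le fun J hJ => le_pc_of_chn (chn_map hf hJ)

/-- `TyPiece` is preserved by injective homomorphisms -/
theorem TyPiece.map (hf : Function.Injective f) {D : Subgroup X} {τ : Nodes.Chart.Ty} (h : TyPiece F D τ) :
    TyPiece (img f F) (D.map f) τ := by
  obtain ⟨nmem, qs, two, p, c, kind, small, sl, zx⟩ := h
  have h1 : ∀ K ≤ D, K ∈ F ↔ K.map f ∈ img f F := fun K _ => (mem_img_iff hf).symm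
  let e : ↥D ≃* ↥(D.map f) := D.equivMapOfInjective f hf
  refine ⟨fun h => nmem ((h1 D le_rfl).2 h), SignalizersComponents.LayerBasic.quasisimple_congr e qs,
    isPGroup_center_congr e two, p, Chart.map' c _ hf h1, kind,
    fun hI => OddHalf.Known.isLieTypeChar_congr (centerQuotEquiv e) (small hI), ?_, ?_⟩
  · obtain ⟨F, i1, i2, i3, h2⟩ := sl
    refine ⟨F, i1, i2, i3, fun r hr => ?_⟩
    obtain ⟨g'⟩ := h2 r hr
    exact ⟨g'.trans (((c.Z r ⊔ c.Z (-r)).equivMapOfInjective f hf).trans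
      (MulEquiv.subgroupCongr (Subgroup.map_sup _ _ _)))⟩
  · rcases zx with h2 | h2
    · exact Or.inl fun r hr => congrArg (Subgroup.map f) (h2 r hr)
    · exact Or.inr h2

theorem pres_map_le (f : X →* Y) (A : Subgroup X) : (pres A).map f ≤ pres (A.map f) := by
  refine le_sSup ⟨Subgroup.map_mono (RdOm.pres_le A), ?_⟩
  rw [← map_commutator, RdOm.pres_perfect]

theorem map_symm_map (e : X ≃* Y) (A : Subgroup X) : (A.map e.toMonoidHom).map e.symm.toMonoidHom = A := by
  ext x
  constructor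
  · rintro ⟨_, ⟨y, hy, rfl⟩, rfl⟩
    change e.symm (e y) ∈ A
    rwa [e.symm_apply_apply]
  · intro hx
    exact ⟨e x, ⟨x, hx, rfl⟩, e.symm_apply_apply x⟩

theorem map_map_symm (e : X ≃* Y) (A : Subgroup Y) : (A.map e.symm.toMonoidHom).map e.toMonoidHom = A :=
  map_symm_map e.symm A

theorem pres_map (e : X ≃* Y) (A : Subgroup X) : pres (A.map e.toMonoidHom) = (pres A).map e.toMonoidHom := by
  apply le_antisymm _ (pres_map_le _ A)
  have h1 := Subgroup.map_mono (f := e.toMonoidHom) (pres_map_le e.symm.toMonoidHom (A.map e.toMonoidHom))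
  rwa [map_map_symm, map_symm_map] at h1

theorem isT_map (e : X ≃* Y) (A : Subgroup X) : SolvTwo.IsT (A.map e.toMonoidHom) ↔ SolvTwo.IsT A :=
  (TyTrans.isT_iff_of_quot (TyTrans.quotOfEquiv (A.equivMapOfInjective e.toMonoidHom e.injective))).symm

/-- `rd` commutes with isomorphisms -/
theorem rd_map (e : X ≃* Y) (A : Subgroup X) : rd (A.map e.toMonoidHom) = (rd A).map e.toMonoidHom := by
  unfold rd
  by_cases hT : SolvTwo.IsT A
  · rw [if_pos hT, if_pos ((isT_map e A).2 hT)]
  · rw [if_neg hT, if_neg fun h => hT ((isT_map e A).1 h), pres_map]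

end Gen

variable {G : Type*} [Group G] {Om : Set (Subgroup G)}

theorem coe_cjEquiv (g : G) (H : Subgroup G) (x : H) : ((cjEquiv g H x : ↥(cj g H)) : G) = g * x * g⁻¹ := rfl

/-- the isomorphism `HQ H ≃* HQ (cj g H)` -/
noncomputable def hqe (g : G) (H : Subgroup G) : HQ H ≃* HQ (cj g H) := TyTrans.quotOfEquiv (cjEquiv g H)

theorem hqe_qm (g : G) (H : Subgroup G) (x : H) : hqe g H (qm H x) = qm (cj g H) (cjEquiv g H x) := rfl

theorem subgroupOf_cj (g : G) (H K : Subgroup G) :
    (cj g K).subgroupOf (cj g H) = (K.subgroupOf H).map (cjEquiv g H).toMonoidHom := by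
  ext x
  constructor
  · intro hx
    obtain ⟨y, hy, hyx⟩ : ∃ y ∈ K, g * y * g⁻¹ = (x : G) := hx
    obtain ⟨z, hz, hzx⟩ : ∃ z ∈ H, g * z * g⁻¹ = (x : G) := x.2
    have e : y = z := by
      have := hyx.trans hzx.symm
      exact mul_left_cancel (mul_right_cancel this)
    subst e
    exact ⟨⟨y, hz⟩, hy, Subtype.ext hzx⟩
  · rintro ⟨y, hy, rfl⟩
    exact ⟨y, hy, rfl⟩

theorem map_tr (g : G) (H K : Subgroup G) : (tr H K).map (hqe g H).toMonoidHom = tr (cj g H) (cj g K) := by
  rw [tr, tr, subgroupOf_cj, rd_map, Subgroup.map_map, Subgroup.map_map]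
  rfl

theorem mem_cov_cj [Finite G] (hOm : Hyp Om) {g : G} {H K : Subgroup G} :
    cj g K ∈ cov Om (cj g H) ↔ K ∈ cov Om H := by
  constructor
  · intro h
    have h1 := cj_mem_cov hOm.conj (g := g⁻¹) h
    rwa [cj_inv_cj, cj_inv_cj] at h1
  · exact fun h => cj_mem_cov hOm.conj h

theorem img_fam [Finite G] (hOm : Hyp Om) (g : G) (H : Subgroup G) :
    img (hqe g H).toMonoidHom (fam Om H) = fam Om (cj g H) := by
  ext J
  constructor
  · rintro ⟨J', hJ', rfl⟩
    obtain ⟨K, hK, rfl⟩ := exists_tr hJ'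
    rw [map_tr]
    exact tr_mem (cj_mem_cov hOm.conj hK)
  · intro hJ
    obtain ⟨K, hK, rfl⟩ := exists_tr hJ
    have e : cj g (cj g⁻¹ K) = K := cj_cj_inv _ _
    rw [← e, ← map_tr]
    rw [← e] at hK
    exact ⟨_, tr_mem ((mem_cov_cj hOm).1 hK), rfl⟩

/-- **the type of the piece of `cj g L` in `cj g H`** -/
theorem TyPiece.cj [Finite G] (hOm : Hyp Om) (g : G) {H L : Subgroup G} {τ : Nodes.Chart.Ty}
    (h : TyPiece (fam Om H) (pc (fam Om H) (tr H L)) τ) :
    TyPiece (fam Om (cj g H)) (pc (fam Om (Cit.cj g H)) (tr (Cit.cj g H) (Cit.cj g L))) τ := by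
  have h1 := TyPiece.map (f := (hqe g H).toMonoidHom) (hqe g H).injective h
  have h2 := pc_map (f := (hqe g H).toMonoidHom) (F := fam Om H) (hqe g H).injective (tr H L)
  rwa [← h2, map_tr, img_fam hOm] at h1

theorem TyPiece.cj_PP [Finite G] (hOm : Hyp Om) (g : G) {K L : Subgroup G} (hK : K ∈ Om) {τ : Nodes.Chart.Ty}
    (h : TyPiece (fam Om (centralizer {zz K})) (PP Om K L) τ) :
    TyPiece (fam Om (centralizer {zz (Cit.cj g K)})) (PP Om (Cit.cj g K) (Cit.cj g L)) τ := by
  have h1 := TyPiece.cj hOm g h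
  have h2 : Cit.cj g (centralizer {zz K}) = centralizer {zz (Cit.cj g K)} := by
    rw [cj_centralizer, hOm.zz_cj hK]
  unfold PP
  rwa [h2] at h1

end Cfsg.Agent.Cit.ThreeTrans
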