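import Cfsg.Agent.Cit.ThreeTy
import Cfsg.Agent.Cit.ThreeTrans
import Cfsg.Agent.Cit.ThreeLift
import Cfsg.Agent.Cit.CovES
import Cfsg.Agent.Cit.Trivial
import Cfsg.Agent.Cit.TypeDet.Trans

/-!
# `TypeStmt` : the type of the piece for `|Om(S)| = 3`

* `typed_pair` : for `Om(S) = {K, L, M}` the piece `PP Om K L = PP Om K M` has type `C 2`, `A 3`, `A 4` or `B 3`;
* `typed_iff` : the type is the same for all `S`, `K`, `L`;
* `not_B_three` : `B 3` is impossible, from `BThreeA`, `BThreeX`;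
* **`typeStmt`** : `CoreThree.TypeStmt`.
-/

set_option autoImplicit false
set_option linter.style.haveILetI false
set_option linter.unusedSectionVars false

namespace Cfsg.Agent.Cit.ThreeC

open Subgroup Cfsg Cfsg.Agent.Cit SubCent UseT Branches CoreThree CovES
open Cfsg.Agent.Nodes.Chart
open Cfsg.Agent.Cit.TypeDet (cm)

universe u

/-- in a group of type `B 3` the product of the involutions of two commuting members is the square of an element
commuting with both -/
def BThreeA : Prop := ∀ (Y : Type u) [Group Y] [Finite Y] (Om : Set (Subgroup Y)) (_ : Hyp Om) (p : ℕ)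
  (D : Subgroup Y) (c : Chart Om p D), c.IsTy (.B 3) → ∀ K ∈ Om, ∀ L ∈ Om, K ≤ D → L ≤ D → K ≠ L → cm K L →
  ∃ a ∈ D, (∀ x ∈ K ⊔ L, a * x = x * a) ∧ a * a = zz K * zz L

/-- in a group of type `B 3` no element of the normaliser centralises two commuting members and has the square of the
involution of one of them -/
def BThreeX : Prop := ∀ (Y : Type u) [Group Y] [Finite Y] (Om : Set (Subgroup Y)) (_ : Hyp Om) (p : ℕ)
  (D : Subgroup Y) (c : Chart Om p D), c.IsTy (.B 3) → ∀ K ∈ Om, ∀ L ∈ Om, K ≤ D → L ≤ D → K ≠ L → cm K L →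
  ∀ g ∈ normalizer (D : Set Y), (∀ x ∈ K ⊔ L, g * x = x * g) →
  (∀ d ∈ D, (g * g) * d * (g * g)⁻¹ = zz L * d * (zz L)⁻¹) → False

/-- a 2-element centralising a Sylow 2-subgroup of a member with trivial core centralises the member -/
theorem comm_two {X : Type*} [Group X] [Finite X] {F : Set (Subgroup X)} (h : Hyp F) {K : Subgroup X} (hK : K ∈ F)
    (hO : OO K = ⊥) {Q : Subgroup X} (hQ : Syl Q K) {b : X} {n : ℕ} (hb : b ^ 2 ^ n = 1)
    (hQb : ∀ q ∈ Q, b * q = q * b) : ∀ k ∈ K, b * k = k * b := by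
  obtain ⟨c, v, m, hq⟩ := h.exists_gq hK hQ
  have hzb : b * zz K = zz K * b := hQb _ hq.z_mem
  have hbK : b ∈ normalizer (K : Set X) := by
    rw [mem_normalizer_iff_cj]
    have h1 : zz (cj b K) = zz K := by
      rw [h.zz_cj hK, hzb, mul_inv_cancel_right]
    rcases h.h2 _ (h.conj K hK b) K hK h1 with h2 | h2
    · exact h2
    · exfalso
      rw [hO, inf_bot_eq, le_bot_iff, commutator_eq_bot_iff_le_centralizer] at h2
      have h3 : ∀ q ∈ Q, q ∈ cj b K := by
        intro q hq'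
        rw [mem_cj]
        have h4 : b⁻¹ * q * b = q := by rw [mul_assoc, ← hQb q hq', inv_mul_cancel_left]
        rw [h4]
        exact hQ.1 hq'
      apply hq.not_comm
      exact (mem_centralizer_iff.1 (h2 (h3 v hq.v_mem)) c (hQ.1 hq.c_mem)).symm
  intro k hk
  have h2 := Trivial.comm_mem_OO h hK hQ hbK hb hQb k hk
  rw [hO, mem_bot, mul_inv_eq_one, mul_inv_eq_iff_eq_mul] at h2
  exact h2

section Pair

variable {G : Type u} [Group G] [Finite G] {Om : Set (Subgroup G)}

theorem qm_inj {H : Subgroup G} {a b : H} (ha : a * a = 1) (hb : b * b = 1) (hc : a * b = b * a)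
    (he : qm H a = qm H b) : a = b := by
  have h1 : a * b ∈ (qm H).ker := by
    rw [MonoidHom.mem_ker, map_mul, he, ← map_mul, hb, map_one]
  have h2 : a * b * (a * b) = 1 := by
    calc a * b * (a * b) = a * (b * a) * b := by group
      _ = a * (a * b) * b := by rw [hc]
      _ = (a * a) * (b * b) := by group
      _ = 1 := by rw [ha, hb, one_mul]
  have h3 : a * b = 1 := by
    by_contra hne
    have h4 : orderOf (a * b) = 2 := orderOf_eq_prime (by rw [pow_two]; exact h2) hne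
    apply not_dvd_ker H
    have h5 := orderOf_dvd_natCard (⟨a * b, h1⟩ : (qm H).ker)
    rwa [Subgroup.orderOf_mk, h4] at h5
  exact mul_right_cancel (h3.trans hb.symm)

/-- `Om(S) = {A, B, C}` -/
structure Tr (Om : Set (Subgroup G)) (S : Sylow 2 G) (A B C : Subgroup G) : Prop where
  eq : OmS Om (S : Subgroup G) = {A, B, C}
  K : A ∈ OmS Om (S : Subgroup G)
  L : B ∈ OmS Om (S : Subgroup G)
  M : C ∈ OmS Om (S : Subgroup G)
  KL : A ≠ B
  KM : A ≠ C
  LM : B ≠ C

theorem Tr.rot {S : Sylow 2 G} {K L M : Subgroup G} (t : Tr Om S K L M) : Tr Om S M K L :=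
  ⟨by rw [t.eq]; ext x; simp only [Set.mem_insert_iff, Set.mem_singleton_iff]; tauto, t.M, t.K, t.L, t.KM.symm,
    t.LM.symm, t.KL⟩

/-- the members of `Om(S)` in `C(zz K)` -/
structure Loc (Om : Set (Subgroup G)) (S : Sylow 2 G) (K L M : Subgroup G) : Prop where
  cov : ∀ {J : Subgroup G}, J ∈ OmS Om (S : Subgroup G) → J ∈ cov Om (centralizer {zz K})
  core : ∀ J ∈ fam Om (centralizer {zz K}), OO J = ⊥
  cc : ∀ {A B : Subgroup G}, A ∈ OmS Om (S : Subgroup G) → B ∈ OmS Om (S : Subgroup G) → A ≠ B →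
    cm (tr (centralizer {zz K}) A) (tr (centralizer {zz K}) B)
  self : pc (fam Om (centralizer {zz K})) (tr (centralizer {zz K}) K) = tr (centralizer {zz K}) K
  ne : ∀ {A : Subgroup G}, A ∈ OmS Om (S : Subgroup G) → A ≠ K → pc (fam Om (centralizer {zz K}))
    (tr (centralizer {zz K}) A) ≠ pc (fam Om (centralizer {zz K})) (tr (centralizer {zz K}) K)

theorem zz_central (m : MinS Om) {S : Sylow 2 G} {K : Subgroup G} (hK : K ∈ OmS Om (S : Subgroup G))
    (x : HQ (centralizer ({zz K} : Set G))) :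
    x * zz (tr (centralizer {zz K}) K) = zz (tr (centralizer {zz K}) K) * x := by
  obtain ⟨y, rfl⟩ := qm_surjective _ x
  rw [zz_tr m.hyp m.isType (mem_cov_of_mem_ES m.hyp S.isPGroup' hK (zz_mem_ES hK)), ← map_mul, ← map_mul]
  congr 1
  exact Subtype.ext (mem_centralizer_singleton_iff.1 y.2)

theorem loc (m : MinS Om) {S : Sylow 2 G} {K L M : Subgroup G} (t : Tr Om S K L M) : Loc Om S K L M := by
  have h := m.hyp
  have hT := m.isType
  have hz : zz K ∈ ES Om (S : Subgroup G) := zz_mem_ES t.K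
  have hp : HasPieces (fam Om (centralizer {zz K})) := m.fam_cent (h.zz_ne t.K.1)
  have cov1 : ∀ {J : Subgroup G}, J ∈ OmS Om (S : Subgroup G) → J ∈ cov Om (centralizer {zz K}) := fun hJ =>
    mem_cov_of_mem_ES h S.isPGroup' hJ hz
  have h2 : IsPGroup 2 (DD Om (S : Subgroup G)) := S.isPGroup'.to_le DD_le
  have hF := hyp_fam h hT (centralizer {zz K})
  have cc : ∀ {A B : Subgroup G}, A ∈ OmS Om (S : Subgroup G) → B ∈ OmS Om (S : Subgroup G) → A ≠ B →
      cm (tr (centralizer {zz K}) A) (tr (centralizer {zz K}) B) := by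
    intro A B hA hB hne
    refine TypeDet.cm_iff_le_centralizer.2 (comm_tr h hT hp.core (cov1 hA) (cov1 hB) h2
      (h.DD_le_centralizer S.isPGroup' t.K) ?_ ?_ hne)
    · rw [OmS_DD S.isPGroup']; exact hA
    · rw [OmS_DD S.isPGroup']; exact hB
  have hs : pc (fam Om (centralizer {zz K})) (tr (centralizer {zz K}) K) = tr (centralizer {zz K}) K :=
    Four.not_central hF hp.core (tr_mem (cov1 t.K)) fun x _ => zz_central m t.K x
  refine ⟨cov1, hp.core, cc, hs, fun {A} hA hne he => ?_⟩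
  have h3 : tr (centralizer {zz K}) A ≤ tr (centralizer {zz K}) K := by
    rw [← hs, ← he]; exact le_pc
  have h4 := hF.eq_of_le (tr_mem (cov1 hA)) (tr_mem (cov1 t.K)) h3
  have h5 := cc hA t.K hne
  rw [h4] at h5
  exact Four.not_cm_self hF (tr_mem (cov1 t.K)) h5

theorem zz_tr_ne (m : MinS Om) (hi : Inj Om) {S : Sylow 2 G} {K L M : Subgroup G} (t : Tr Om S K L M) :
    zz (tr (centralizer {zz K}) L) ≠ zz (tr (centralizer {zz K}) M) := by
  have h := m.hyp
  have hl := loc m t
  intro he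
  rw [zz_tr h m.isType (hl.cov t.L), zz_tr h m.isType (hl.cov t.M)] at he
  have h1 := qm_inj (Subtype.ext (h.zz_mul t.L.1)) (Subtype.ext (h.zz_mul t.M.1))
    (Subtype.ext (ES_comm h S.isPGroup' (zz_mem_ES t.L) (zz_mem_ES t.M))) he
  exact t.LM (hi L t.L.1 M t.M.1 (congrArg Subtype.val h1))

/-- **the possible types** -/
theorem typed_pair (hex : ThreeTy.ExcZZ.{u}) (m : MinS Om) (hc : Card Om 3) (hi : Inj Om) (con : Con Om)
    {S : Sylow 2 G} {K L M : Subgroup G} (t : Tr Om S K L M) :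
    ∃ τ, ((τ = .C 2 ∨ τ = .A 3 ∨ τ = .A 4) ∨ τ = .B 3) ∧
      TyPiece (fam Om (centralizer {zz K})) (PP Om K L) τ := by
  have h := m.hyp
  have hT := m.isType
  have hl := loc m t
  have hF := hyp_fam h hT (centralizer {zz K})
  have mK := tr_mem (hl.cov t.K)
  have mL := tr_mem (hl.cov t.L)
  have mM := tr_mem (hl.cov t.M)
  have hne := hl.ne t.L t.KL.symm
  refine ThreeTy.typed_of_two hex hF (isType_fam hT _) (m.fam_cent (h.zz_ne t.K.1)) mL mM
    (con S K t.K L t.L M t.M t.KL t.KM) (hl.cc t.L t.M t.LM) (zz_tr_ne m hi t) fun J hJ hJD hJL hJM => ?_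
  have hJK : cm J (tr (centralizer {zz K}) K) := by
    rw [TypeDet.cm_iff_le_centralizer]
    exact hJD.trans ((pc_comm mL mK hne).trans (centralizer_le le_pc))
  have cs := fun {A : Subgroup (HQ (centralizer ({zz K} : Set G)))} (hA : A ∈ fam Om (centralizer {zz K})) =>
    Four.not_cm_self hF hA
  have n1 : J ≠ tr (centralizer {zz K}) K := by rintro rfl; exact cs mK hJK
  have n2 : J ≠ tr (centralizer {zz K}) L := by rintro rfl; exact cs mL hJL
  have n3 : J ≠ tr (centralizer {zz K}) M := by rintro rfl; exact cs mM hJM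
  have n4 : tr (centralizer {zz K}) K ≠ tr (centralizer {zz K}) L := by
    intro e; have := hl.cc t.K t.L t.KL; rw [e] at this; exact cs mL this
  have n5 : tr (centralizer {zz K}) K ≠ tr (centralizer {zz K}) M := by
    intro e; have := hl.cc t.K t.M t.KM; rw [e] at this; exact cs mM this
  have n6 : tr (centralizer {zz K}) L ≠ tr (centralizer {zz K}) M := by
    intro e; have := hl.cc t.L t.M t.LM; rw [e] at this; exact cs mM this
  have key := ThreeLift.ncard_le (H := centralizer {zz K}) h hT hc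
    (C := {J, tr (centralizer {zz K}) K, tr (centralizer {zz K}) L, tr (centralizer {zz K}) M}) (by
      rintro A (rfl | rfl | rfl | rfl)
      exacts [hJ, mK, mL, mM]) (by
      rintro A (rfl | rfl | rfl | rfl) B (rfl | rfl | rfl | rfl) hAB
      · exact absurd rfl hAB
      · exact hJK
      · exact hJL
      · exact hJM
      · exact TypeDet.cm_symm hJK
      · exact absurd rfl hAB
      · exact hl.cc t.K t.L t.KL
      · exact hl.cc t.K t.M t.KM
      · exact TypeDet.cm_symm hJL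
      · exact hl.cc t.L t.K t.KL.symm
      · exact absurd rfl hAB
      · exact hl.cc t.L t.M t.LM
      · exact TypeDet.cm_symm hJM
      · exact hl.cc t.M t.K t.KM.symm
      · exact hl.cc t.M t.L t.LM.symm
      · exact absurd rfl hAB)
  rw [Set.ncard_insert_of_notMem, Set.ncard_insert_of_notMem, Set.ncard_pair n6] at key
  · omega
  · simp only [Set.mem_insert_iff, Set.mem_singleton_iff, not_or]
    exact ⟨n4, n5⟩
  · simp only [Set.mem_insert_iff, Set.mem_singleton_iff, not_or]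
    exact ⟨n1, n2, n3⟩

theorem exists_tr (hc : Card Om 3) (S : Sylow 2 G) {K L : Subgroup G} (hK : K ∈ OmS Om (S : Subgroup G))
    (hL : L ∈ OmS Om (S : Subgroup G)) (hne : K ≠ L) : ∃ M, Tr Om S K L M := by
  obtain ⟨M, hE, hKM, hLM⟩ := exists_three hc S hK hL hne
  exact ⟨M, hE, hK, hL, by rw [hE]; simp, hne, hKM, hLM⟩

/-- **the type does not depend on `S`, `K`, `L`** -/
theorem typed_of (m : MinS Om) (con : Con Om) {S S' : Sylow 2 G} {K L K' L' : Subgroup G}
    (hK : K ∈ OmS Om (S : Subgroup G)) (hL : L ∈ OmS Om (S : Subgroup G)) (hne : K ≠ L)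
    (hK' : K' ∈ OmS Om (S' : Subgroup G)) (hL' : L' ∈ OmS Om (S' : Subgroup G)) (hne' : K' ≠ L')
    {τ : Nodes.Chart.Ty} (ht : TyPiece (fam Om (centralizer {zz K})) (PP Om K L) τ) :
    TyPiece (fam Om (centralizer {zz K'})) (PP Om K' L') τ := by
  have h := m.hyp
  obtain ⟨x, hx⟩ := exists_cj_sylow S S'
  have hK1 : cj x K ∈ OmS Om (S' : Subgroup G) := by
    rw [← hx]; exact cj_mem_OmS h.conj x hK
  have hL1 : cj x L ∈ OmS Om (S' : Subgroup G) := by
    rw [← hx]; exact cj_mem_OmS h.conj x hL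
  obtain ⟨g, hg⟩ := m.cls _ hK1.1 _ hK'.1
  obtain ⟨n, hn, hnK⟩ := TypeDet.exists_normalizer_cj h S' hK1 hK' hg.symm
  have hL2 := TypeDet.cj_mem_OmS_of_normalizer h S' hn hL1
  have e1 : cj (n * x) K = K' := by rw [cj_mul, hnK]
  have e2 : cj (n * x) L = cj n (cj x L) := cj_mul _ _ _
  have hne2 : K' ≠ cj (n * x) L := by
    rw [← e1]; exact fun e => hne (cj_inj.1 e)
  have h1 := ThreeTrans.TyPiece.cj_PP h (n * x) hK.1 ht
  rw [e1] at h1
  rw [e2] at h1 hne2
  rwa [con S' K' hK' _ hL2 L' hL' hne2 hne'] at h1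

theorem exists_typed (hex : ThreeTy.ExcZZ.{u}) (m : MinS Om) (hc : Card Om 3) (hi : Inj Om) (con : Con Om) :
    ∃ τ, ((τ = .C 2 ∨ τ = .A 3 ∨ τ = .A 4) ∨ τ = .B 3) ∧ Typed Om τ := by
  obtain ⟨S⟩ : Nonempty (Sylow 2 G) := inferInstance
  obtain ⟨K, hK, L, hL, hne⟩ := Card.exists_mem hc S
  obtain ⟨M, t⟩ := exists_tr hc S hK hL hne
  obtain ⟨τ, hτ, ht⟩ := typed_pair hex m hc hi con t
  exact ⟨τ, hτ, fun S' K' hK' L' hL' hne' => typed_of m con hK hL hne hK' hL' hne' ht⟩

/-- **type `B 3` is impossible** -/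
theorem not_B_three (hA : BThreeA.{u}) (hX : BThreeX.{u}) (m : MinS Om) (hc : Card Om 3) (con : Con Om)
    (ht : Typed Om (.B 3)) : False := by
  have h := m.hyp
  have hT := m.isType
  obtain ⟨S⟩ : Nonempty (Sylow 2 G) := inferInstance
  obtain ⟨K, hK, L, hL, hne⟩ := Card.exists_mem hc S
  obtain ⟨M, t⟩ := exists_tr hc S hK hL hne
  -- the element `a` in the piece `D` of `C(zz K)`
  have hl := loc m t
  have hF := hyp_fam h hT (centralizer {zz K})
  have mK := tr_mem (hl.cov t.K)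
  have mL := tr_mem (hl.cov t.L)
  have mM := tr_mem (hl.cov t.M)
  have hcon := con S K t.K L t.L M t.M t.KL t.KM
  obtain ⟨-, -, -, p, c, hcty, -, -, -⟩ := ht S K t.K L t.L t.KL
  have hML : tr (centralizer {zz K}) M ≤ PP Om K L := by rw [hcon]; exact le_pc
  have hLL : tr (centralizer {zz K}) L ≤ PP Om K L := le_pc
  obtain ⟨a, haD, hac, haa⟩ := hA _ _ hF p _ c hcty _ mL _ mM hLL hML
    (fun e => by have := hl.cc t.L t.M t.LM; rw [e] at this; exact Four.not_cm_self hF mM this) (hl.cc t.L t.M t.LM)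
  have hDD : DD Om (S : Subgroup G) ≤ centralizer {zz K} := h.DD_le_centralizer S.isPGroup' t.K
  have hDp : IsPGroup 2 (DD Om (S : Subgroup G)) := S.isPGroup'.to_le DD_le
  have haK : ∀ x ∈ tr (centralizer {zz K}) K, a * x = x * a := by
    intro x hx
    have h1 := pc_comm mL mK (hl.ne t.L t.KL.symm) haD
    rw [hl.self] at h1
    exact (mem_centralizer_iff.1 h1 x hx).symm
  have hac' : ∀ J ∈ OmS Om (S : Subgroup G), ∀ x ∈ tr (centralizer {zz K}) J, a * x = x * a := by
    intro J hJ x hx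
    rw [t.eq] at hJ
    rcases hJ with rfl | rfl | hJ
    · exact haK x hx
    · exact hac x (mem_sup_left hx)
    · rw [Set.mem_singleton_iff] at hJ
      subst hJ
      exact hac x (mem_sup_right hx)
  have hzL : zz L ∈ DD Om (S : Subgroup G) := inf_le_DD t.L (h.zz_mem_inf S.isPGroup' t.L)
  have hzM : zz M ∈ DD Om (S : Subgroup G) := inf_le_DD t.M (h.zz_mem_inf S.isPGroup' t.M)
  have hzLM : zz L * zz M ∈ DD Om (S : Subgroup G) := mul_mem hzL hzM
  have haa' : a * a = qm (centralizer {zz K}) ⟨zz L * zz M, hDD hzLM⟩ := by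
    rw [haa, zz_tr h hT (hl.cov t.L), zz_tr h hT (hl.cov t.M), ← map_mul]
    rfl
  have sLM : zz L * zz M * (zz L * zz M) = 1 := by
    have hc := ES_comm h S.isPGroup' (zz_mem_ES t.L) (zz_mem_ES t.M)
    calc zz L * zz M * (zz L * zz M) = zz L * (zz M * zz L) * zz M := by group
      _ = zz L * (zz L * zz M) * zz M := by rw [hc]
      _ = (zz L * zz L) * (zz M * zz M) := by group
      _ = 1 := by rw [h.zz_mul t.L.1, h.zz_mul t.M.1, one_mul]
  have ha4 : a ^ 2 ^ 2 = 1 := by
    have h1 : a ^ 2 ^ 2 = a * a * (a * a) := by rw [show 2 ^ 2 = 2 + 2 from rfl, pow_add, pow_two]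
    rw [h1, haa', ← map_mul, ← map_one (qm (centralizer {zz K}))]
    exact congrArg _ (Subtype.ext sLM)
  have haq : ∀ q (hq : q ∈ DD Om (S : Subgroup G)), a * qm (centralizer {zz K}) ⟨q, hDD hq⟩ =
      qm (centralizer {zz K}) ⟨q, hDD hq⟩ * a := by
    have h1 : DD Om (S : Subgroup G) ≤
        ((centralizer ({a} : Set (HQ (centralizer ({zz K} : Set G))))).comap
          (qm (centralizer {zz K}))).map (centralizer {zz K}).subtype := by
      refine iSup₂_le fun J hJ x hx => ?_
      have hxD : x ∈ DD Om (S : Subgroup G) := inf_le_DD hJ hx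
      obtain ⟨n, hn⟩ := hDp ⟨x, hxD⟩
      refine ⟨⟨x, hDD hxD⟩, mem_comap.2 (mem_centralizer_singleton_iff.2 ?_), rfl⟩
      exact (hac' J hJ _ (mem_tr hT (hl.cov hJ) hx.1 (a := n)
        (Subtype.ext (by simpa using congrArg Subtype.val hn)))).symm
    intro q hq
    obtain ⟨y, hy, hyq⟩ := h1 hq
    have h2 : y = ⟨q, hDD hq⟩ := Subtype.ext hyq
    rw [h2] at hy
    exact (mem_centralizer_singleton_iff.1 (mem_comap.1 hy)).symm
  obtain ⟨b, -, hb4, hbq, hbb⟩ := ThreeLift.exists_lift_elt hDp hDD ha4 haq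
  have hbb' : (b : G) * b = zz L * zz M := hbb _ hzLM haa'
  -- the element `b` in `C(zz M)`
  have t' := t.rot
  have hl' := loc m t'
  have hF' := hyp_fam h hT (centralizer {zz M})
  have mK' := tr_mem (hl'.cov t.K)
  have mL' := tr_mem (hl'.cov t.L)
  have hbM : (b : G) ∈ centralizer ({zz M} : Set G) := mem_centralizer_singleton_iff.2 (hbq _ hzM)
  obtain ⟨β, hβ⟩ : ∃ β, β = qm (centralizer {zz M}) ⟨b, hbM⟩ := ⟨_, rfl⟩
  have hDD' : DD Om (S : Subgroup G) ≤ centralizer {zz M} := h.DD_le_centralizer S.isPGroup' t.M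
  have hβ4 : β ^ 2 ^ 2 = 1 := by
    rw [hβ, ← map_pow, ← map_one (qm (centralizer {zz M}))]
    refine congrArg _ (Subtype.ext ?_)
    have := congrArg Subtype.val hb4
    simpa using this
  have hβc : ∀ J ∈ OmS Om (S : Subgroup G), ∀ x ∈ tr (centralizer {zz M}) J, β * x = x * β := by
    intro J hJ
    have hJD : J ⊓ (S : Subgroup G) ≤ centralizer {zz M} := (inf_le_DD hJ).trans hDD'
    refine comm_two hF' (tr_mem (hl'.cov hJ)) (hl'.core _ (tr_mem (hl'.cov hJ)))
      (syl_tr hT (hl'.cov hJ) (syl_inf S.isPGroup' hJ) hJD) hβ4 ?_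
    rintro _ ⟨q, hq, rfl⟩
    rw [hβ, ← map_mul, ← map_mul]
    exact congrArg _ (Subtype.ext (hbq _ (inf_le_DD hJ hq)))
  have hββ : β * β = zz (tr (centralizer {zz M}) L) * zz (tr (centralizer {zz M}) M) := by
    rw [hβ, zz_tr h hT (hl'.cov t.L), zz_tr h hT (hl'.cov t.M), ← map_mul, ← map_mul]
    exact congrArg _ (Subtype.ext hbb')
  obtain ⟨-, -, -, p', c', hcty', -, -, -⟩ := ht S M t.M K t.K t.KM.symm
  have hcon' := con S M t.M K t.K L t.L t.KM.symm t.LM.symm
  have hLL' : tr (centralizer {zz M}) L ≤ PP Om M K := by rw [hcon']; exact le_pc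
  have hKL' : tr (centralizer {zz M}) K ≤ PP Om M K := le_pc
  have hcKL := hl'.cc t.K t.L t.KL
  refine hX _ _ hF' p' _ c' hcty' _ mK' _ mL' hKL' hLL'
    (fun e => by rw [e] at hcKL; exact Four.not_cm_self hF' mL' hcKL) hcKL β ?_ ?_ ?_
  · rw [mem_normalizer_iff_cj, PP, cj_pc hF'.conj]
    congr 1
    ext x
    rw [mem_cj]
    constructor
    · intro hx
      have h1 := hβc K t.K _ hx
      have h2 : x = β⁻¹ * x * β := by
        calc x = β * (β⁻¹ * x * β) * β⁻¹ := by group
          _ = (β⁻¹ * x * β) * β * β⁻¹ := by rw [h1]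
          _ = _ := by group
      rw [h2]; exact hx
    · intro hx
      rwa [mul_assoc, ← hβc K t.K x hx, inv_mul_cancel_left]
  · intro x hx
    have h1 : tr (centralizer {zz M}) K ⊔ tr (centralizer {zz M}) L ≤ centralizer {β} := by
      refine sup_le (fun y hy => mem_centralizer_singleton_iff.2 (hβc K t.K y hy).symm)
        (fun y hy => mem_centralizer_singleton_iff.2 (hβc L t.L y hy).symm)
    exact (mem_centralizer_singleton_iff.1 (h1 hx)).symm
  · intro d hd
    have h1 := zz_central m t.M d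
    rw [hββ]
    calc zz (tr (centralizer {zz M}) L) * zz (tr (centralizer {zz M}) M) * d *
          (zz (tr (centralizer {zz M}) L) * zz (tr (centralizer {zz M}) M))⁻¹
        = zz (tr (centralizer {zz M}) L) * (zz (tr (centralizer {zz M}) M) * d) *
          (zz (tr (centralizer {zz M}) M))⁻¹ * (zz (tr (centralizer {zz M}) L))⁻¹ := by group
      _ = zz (tr (centralizer {zz M}) L) * (d * zz (tr (centralizer {zz M}) M)) *
          (zz (tr (centralizer {zz M}) M))⁻¹ * (zz (tr (centralizer {zz M}) L))⁻¹ := by rw [h1]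
      _ = _ := by group

/-- **`TypeStmt`** -/
theorem typeStmt (hex : ThreeTy.ExcZZ.{u}) (hA : BThreeA.{u}) (hX : BThreeX.{u}) : TypeStmt.{u} := by
  intro G _ _ Om m hc hi con
  obtain ⟨τ, hτ, ht⟩ := exists_typed hex m hc hi con
  rcases hτ with hτ | rfl
  · exact ⟨τ, hτ, ht⟩
  · exact (not_B_three hA hX m hc con ht).elim


end Pair

end Cfsg.Agent.Cit.ThreeC
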