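import Cfsg.Agent.Cit.ThreeConn
import Cfsg.Agent.Cit.AutAct
import Cfsg.Agent.Cit.Swap

/-!
# `|Om(S)| = 3`, `z₁ z₂ z₃ = 1`: adjacency in terms of the action on `K / O(K)`

`Tri.adj_iff` : `K`, `N` are adjacent iff `z_N` commutes with `z_K` and is trivial on `K / O(K)`. Consequences:
products (`Tri.adj_mul`), common Sylow 2-subgroups of several members centralised by a trivial 2-group (`Tri.comm_syl`),
a member adjacent to two adjacent members is the third one (`Tri.third`), lifting of commuting involutions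
(`exists_conj_comm`).
-/

set_option autoImplicit false
set_option linter.style.haveILetI false

namespace Cfsg.Agent.Cit.ThreeCore

open Subgroup Cfsg Relation OneBasic
open Cfsg.Agent.Cit Cfsg.Agent.Cit.AutAct

variable {G : Type*} [Group G]

theorem adj_comm_zz [Finite G] {Om : Set (Subgroup G)} (h : Hyp Om) {K N : Subgroup G} (ha : Adj Om K N) :
    zz N * zz K = zz K * zz N := by
  obtain ⟨S, h1, h2⟩ := ha
  exact ES_comm h S.isPGroup' (zz_mem_ES h2) (zz_mem_ES h1)

theorem triv_mul {a b : G} {K : Subgroup G} (ha : Triv a K) (hb : Triv b K) (haN : a ∈ normalizer (K : Set G))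
    (hbN : b ∈ normalizer (K : Set G)) : Triv (a * b) K := by
  rw [← AutAct.act_eq_one_iff haN] at ha
  rw [← AutAct.act_eq_one_iff hbN] at hb
  rw [← AutAct.act_eq_one_iff (mul_mem haN hbN)]
  have h1 : (⟨a * b, mul_mem haN hbN⟩ : ↥(normalizer (K : Set G))) = ⟨a, haN⟩ * ⟨b, hbN⟩ := rfl
  rw [h1, map_mul, ha, hb, mul_one]

/-- a 2-element of `N(Q) ∩ N(K)` trivial on `K / O(K)` centralises the 2-subgroup `Q` of `K` -/
theorem triv_comm [Finite G] {a : G} {K Q : Subgroup G} (ha : Triv a K) (hQK : Q ≤ K) (hQ : IsPGroup 2 Q)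
    (haQ : a ∈ normalizer (Q : Set G)) {x : G} (hx : x ∈ Q) : a * x = x * a := by
  have h1 : a * x * a⁻¹ * x⁻¹ ∈ Q := Q.mul_mem ((mem_normalizer_iff.1 haQ x).1 hx) (Q.inv_mem hx)
  obtain ⟨n, hn⟩ := hQ ⟨_, h1⟩
  have h2 := AutAct.eq_one_of_OO (ha x (hQK hx)) (n := n) (congrArg Subtype.val hn)
  rw [mul_inv_eq_one, mul_inv_eq_iff_eq_mul] at h2
  exact h2

/-- an involution commuting with `u` modulo a normalised subgroup `X` of odd order has an `X`-conjugate commuting
with `u` -/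
theorem exists_conj_comm [Finite G] {X : Subgroup G} (hX : ¬ 2 ∣ Nat.card X) {u g : G} (hu : u * u = 1)
    (hg : g * g = 1) (huX : u ∈ normalizer (X : Set G)) (hgX : g ∈ normalizer (X : Set G))
    (hc : u * g * u⁻¹ * g⁻¹ ∈ X) : ∃ x ∈ X, (x * g * x⁻¹) * u = u * (x * g * x⁻¹) := by
  have hui : u⁻¹ = u := inv_eq_of_mul_eq_one_right hu
  have hgi : g⁻¹ = g := inv_eq_of_mul_eq_one_right hg
  obtain ⟨n, hn, hun⟩ := exists_fixed_coset hX hu huX (g := g) (by
    have h1 : g⁻¹ * (u * g * u⁻¹) = g⁻¹ * (u * g * u⁻¹ * g⁻¹) * g := by group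
    rw [h1]
    have h2 := (mem_normalizer_iff.1 (inv_mem hgX) (u * g * u⁻¹ * g⁻¹)).1 hc
    rwa [inv_inv] at h2)
  -- an odd power of `g n` is an involution
  set y := g * n with hy
  have hyX : y * y ∈ X := by
    have h1 : y * y = (g * n * g⁻¹) * (g * g) * n := by rw [hy]; group
    rw [h1, hg, mul_one]
    exact X.mul_mem ((mem_normalizer_iff.1 hgX n).1 hn) hn
  have hodd : Odd (orderOf (y * y)) := by
    have h1 := orderOf_dvd_natCard (⟨y * y, hyX⟩ : X)
    rw [Subgroup.orderOf_mk] at h1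
    rw [Nat.odd_iff]
    by_contra h4
    exact hX (Dvd.dvd.trans (Nat.dvd_of_mod_eq_zero (by omega)) h1)
  obtain ⟨m, hm⟩ := hodd
  set t := y ^ (2 * m + 1) with ht
  have htt : t * t = 1 := by
    rw [ht, ← pow_add, show 2 * m + 1 + (2 * m + 1) = 2 * (2 * m + 1) by ring, pow_mul, pow_two, ← hm,
      pow_orderOf_eq_one]
  have htu : t * u = u * t := by
    have h1 : Commute y u := hun.symm
    exact (h1.pow_left _).eq
  have hgt : g * t ∈ X := by
    have h1 : t = g * (n * (y * y) ^ m) := by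
      calc t = y ^ (2 * m) * y := by rw [ht, pow_succ]
        _ = (y * y) ^ m * y := by rw [pow_mul, pow_two]
        _ = y * (y * y) ^ m := by
            have h2 : Commute y (y * y) := (Commute.refl y).mul_right (Commute.refl y)
            exact (h2.pow_right m).eq.symm
        _ = g * (n * (y * y) ^ m) := by rw [hy]; group
    have h2 : g * t = (g * g) * (n * (y * y) ^ m) := by rw [h1]; group
    rw [h2, hg, one_mul]
    exact X.mul_mem hn (X.pow_mem hyX m)
  obtain ⟨x, hx, hxt⟩ := exists_conj_of_mul_mem_odd hX hg htt hgt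
  exact ⟨x, hx, by rw [hxt, htu]⟩

variable [Finite G] {Om : Set (Subgroup G)}

theorem triv_of_adj (t : Tri Om) (hty : ∀ K ∈ Om, IsType K) {K N : Subgroup G} (ha : Adj Om K N) :
    Triv (zz N) K := by
  have hK := ha.left
  have hN := ha.right
  have hc := adj_comm_zz t.hyp ha
  obtain ⟨S, h1, h2⟩ := ha
  by_cases hne : K = N
  · subst hne
    intro k hk
    have h3 := mem_centralizer_singleton_iff.1 (t.hyp.le_centralizer hK hk)
    rw [← h3, mul_inv_cancel_right, mul_inv_cancel]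
    exact one_mem _
  refine AutAct.triv_of_cent (hty K hK) (syl_inf S.isPGroup' h1) (t.mem_normalizer hK hc) (b := 1) ?_ ?_
  · rw [pow_one, pow_two, t.hyp.zz_mul hN]
  · intro x hx
    exact (t.hyp.comm S.isPGroup' h1 h2 hne hx (t.hyp.zz_mem_inf S.isPGroup' h2)).symm

theorem isPGroup_zpowers_zz (t : Tri Om) {N : Subgroup G} (hN : N ∈ Om) : IsPGroup 2 (zpowers (zz N)) :=
  AutAct.isPGroup_zpowers (k := 1) (by rw [pow_one, pow_two, t.hyp.zz_mul hN])

theorem adj_of_triv (t : Tri Om) {K N : Subgroup G} (hK : K ∈ Om) (hN : N ∈ Om)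
    (hc : zz N * zz K = zz K * zz N) (hT : Triv (zz N) K) : Adj Om K N := by
  obtain ⟨Q, hQ, hQN⟩ := exists_syl_normalized (isPGroup_zpowers_zz t hN)
    ((zpowers_le).2 (t.mem_normalizer hK hc))
  exact t.adj_of_cent hK hN hQ fun x hx => triv_comm hT hQ.1 hQ.2.1 (hQN (mem_zpowers _)) hx

theorem adj_iff (t : Tri Om) (hty : ∀ K ∈ Om, IsType K) {K N : Subgroup G} (hK : K ∈ Om) (hN : N ∈ Om) :
    Adj Om K N ↔ zz N * zz K = zz K * zz N ∧ Triv (zz N) K :=
  ⟨fun h => ⟨adj_comm_zz t.hyp h, triv_of_adj t hty h⟩, fun h => adj_of_triv t hK hN h.1 h.2⟩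

/-- products of involutions of members adjacent to `K` -/
theorem adj_mul (t : Tri Om) (hty : ∀ K ∈ Om, IsType K) {K N N' N'' : Subgroup G} (h1 : Adj Om K N)
    (h2 : Adj Om K N') (hN : N'' ∈ Om) (h3 : zz N'' = zz N * zz N') : Adj Om K N'' := by
  have e1 := adj_comm_zz t.hyp h1
  have e2 := adj_comm_zz t.hyp h2
  refine adj_of_triv t h1.left hN ?_ ?_
  · rw [h3]
    calc zz N * zz N' * zz K = zz N * (zz N' * zz K) := by group
      _ = (zz N * zz K) * zz N' := by rw [e2]; group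
      _ = zz K * (zz N * zz N') := by rw [e1]; group
  · rw [h3]
    exact triv_mul (triv_of_adj t hty h1) (triv_of_adj t hty h2) (t.mem_normalizer h1.left e1)
      (t.mem_normalizer h1.left e2)

/-- two adjacent members and a 2-group normalising both: a Sylow 2-subgroup containing it and Sylow 2-subgroups of
both -/
theorem exists_common (t : Tri Om) {K K' B : Subgroup G} (ha : Adj Om K K') (hB : IsPGroup 2 B)
    (h1 : B ≤ normalizer (K : Set G)) (h2 : B ≤ normalizer (K' : Set G)) :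
    ∃ T : Sylow 2 G, B ≤ T ∧ K ∈ OmS Om (T : Subgroup G) ∧ K' ∈ OmS Om (T : Subgroup G) := by
  have hK := ha.left
  have hK' := ha.right
  by_cases hne : K = K'
  · subst hne
    obtain ⟨R, hR, hBR, -, hS⟩ := exists_two_sup hB h1
    obtain ⟨T, hT⟩ := hR.exists_le_sylow
    have h3 : K ∈ OmS Om (T : Subgroup G) := mem_OmS_of_le hK hS (inf_le_right.trans hT)
    exact ⟨T, hBR.trans hT, h3, h3⟩
  obtain ⟨S, k1, k2⟩ := ha
  set C : Subgroup G := normalizer (K : Set G) ⊓ normalizer (K' : Set G) with hC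
  obtain ⟨T, hT, hBT⟩ := Cit.exists_syl_ge hB (le_inf h1 h2)
  have hQC : (K ⊓ S) ⊔ (K' ⊓ S) ≤ C := by
    have key : ∀ K K' : Subgroup G, K ∈ OmS Om (S : Subgroup G) → K' ∈ OmS Om (S : Subgroup G) → K ≠ K' →
        K ⊓ S ≤ normalizer (K' : Set G) := by
      intro K K' k1 k2 hne x hx
      exact t.mem_normalizer k2.1 (t.hyp.comm S.isPGroup' k1 k2 hne hx (t.hyp.zz_mem_inf S.isPGroup' k2))
    exact sup_le (le_inf (inf_le_left.trans le_normalizer) (key K K' k1 k2 hne))
      (le_inf (key K' K k2 k1 (Ne.symm hne)) (inf_le_left.trans le_normalizer))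
  have hQ2 : IsPGroup 2 ((K ⊓ S) ⊔ (K' ⊓ S) : Subgroup G) := S.isPGroup'.to_le (sup_le inf_le_right inf_le_right)
  obtain ⟨T', hT', hQT'⟩ := Cit.exists_syl_ge hQ2 hQC
  obtain ⟨c, hc, hcT⟩ := hT'.exists_conj hT
  have hmem : ∀ K : Subgroup G, K ∈ OmS Om (S : Subgroup G) → K ⊓ S ≤ (K ⊓ S) ⊔ (K' ⊓ S) ⊔ T' →
      c ∈ normalizer (K : Set G) → K ⊓ S ≤ T' → K ∈ OmS Om T := by
    intro K k1 _ hcK hle
    have h3 : Syl (cj c (K ⊓ S)) (cj c K) := (syl_inf S.isPGroup' k1).cj c
    rw [mem_normalizer_iff_cj.1 hcK] at h3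
    exact mem_OmS_of_le k1.1 h3 (by rw [← hcT]; exact cj_mono c hle)
  obtain ⟨T1, hT1⟩ := hT.2.1.exists_le_sylow
  refine ⟨T1, hBT.trans hT1, OmS_mono hT1 (hmem K k1 ?_ hc.1 (le_sup_left.trans hQT')),
    OmS_mono hT1 (hmem K' k2 ?_ hc.2 (le_sup_right.trans hQT'))⟩
  · exact le_sup_left.trans le_sup_left
  · exact le_sup_right.trans le_sup_left

/-- a member adjacent to two adjacent members -/
theorem third (t : Tri Om) (hty : ∀ K ∈ Om, IsType K) {K K' N : Subgroup G} (ha : Adj Om K K') (h1 : Adj Om K N)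
    (h2 : Adj Om K' N) (hne : K ≠ K') (hNK : N ≠ K) (hNK' : N ≠ K') : zz N = zz K * zz K' := by
  have hN := h1.right
  obtain ⟨T, hzT, k1, k2⟩ := exists_common t ha (isPGroup_zpowers_zz t hN)
    ((zpowers_le).2 (t.mem_normalizer h1.left (adj_comm_zz t.hyp h1)))
    ((zpowers_le).2 (t.mem_normalizer h2.left (adj_comm_zz t.hyp h2)))
  have hz : zz N ∈ (T : Subgroup G) := hzT (mem_zpowers _)
  have key : ∀ L : Subgroup G, L ∈ OmS Om (T : Subgroup G) → Adj Om L N → L ⊓ T ≤ normalizer (N : Set G) := by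
    intro L hL hLN x hx
    refine t.mem_normalizer hN ?_
    refine (triv_comm (triv_of_adj t hty hLN) (inf_le_left : L ⊓ T ≤ L) (T.isPGroup'.to_le inf_le_right) ?_ hx).symm
    rw [mem_normalizer_iff_cj, cj_inf, mem_normalizer_iff_cj.1 (t.mem_normalizer hL.1 (adj_comm_zz t.hyp hLN)),
      mem_normalizer_iff_cj.1 (le_normalizer hz)]
  have hW : (K ⊓ T) ⊔ (K' ⊓ T) ≤ normalizer (N : Set G) := sup_le (key K k1 h1) (key K' k2 h2)
  obtain ⟨R, hR, hWR, -, hS⟩ := exists_two_sup (T.isPGroup'.to_le (sup_le inf_le_right inf_le_right)) hW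
  obtain ⟨S, hRS⟩ := hR.exists_le_sylow
  have j1 : K ∈ OmS Om (S : Subgroup G) :=
    mem_OmS_of_le k1.1 (syl_inf T.isPGroup' k1) ((le_sup_left.trans hWR).trans hRS)
  have j2 : K' ∈ OmS Om (S : Subgroup G) :=
    mem_OmS_of_le k2.1 (syl_inf T.isPGroup' k2) ((le_sup_right.trans hWR).trans hRS)
  have j3 : N ∈ OmS Om (S : Subgroup G) := mem_OmS_of_le hN hS (inf_le_right.trans hRS)
  obtain ⟨L2, L3, hE, e1, e2, e3⟩ := t.exists_three S j1
  rw [hE] at j2 j3
  rcases j2 with j2 | j2 | j2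
  · exact absurd j2.symm hne
  · rcases j3 with j3 | j3 | j3
    · exact absurd j3 hNK
    · exact absurd (j3.trans j2.symm) hNK'
    · rw [j2, j3]
      exact (t.mul_eq S hE e1).symm
  · rcases j3 with j3 | j3 | j3
    · exact absurd j3 hNK
    · rw [j2, j3]
      have hE' : OmS Om (S : Subgroup G) = {K, L3, L2} := by
        rw [hE]; ext x; simp only [Set.mem_insert_iff, Set.mem_singleton_iff]; tauto
      exact (t.mul_eq S hE' e2).symm
    · exact absurd (j3.trans j2.symm) hNK'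

end Cfsg.Agent.Cit.ThreeCore
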