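import Cfsg.Agent.Cit.ThreeCoreSL
import Cfsg.Agent.Cit.ThreeCoreAdj
import Cfsg.Agent.Cit.TorFunctor

/-!
# Cores for `|Om(S)| = 3`, `z₁ z₂ z₃ = 1`, type `SL₄^ε(q)`: THEOREM F

`LocSL Om K p D M` : the component `D` of `C(z_K) / O(C(z_K))` and its set `M` of classical subgroups.
`Conf Om K₁ K₂ J` : `K₂`, `J` adjacent to `K₁`, `z_J` commutes with `z₂`, `z_J ≠ z₂, z₁z₂`. `Conf.A = ⟨z₁, z₂, z_J⟩`.

Main result `Conf.tor : Tor A`.
-/

set_option autoImplicit false
set_option linter.style.haveILetI false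

namespace Cfsg.Agent.Cit.ThreeCore

open Subgroup Cfsg Cfsg.Agent.Cit Cfsg.Agent.Cit.Comp Cfsg.Agent.Cit.OneComp Cfsg.Agent.Cit.AutAct
  Cfsg.Agent.Cit.TorFunctor
open Cfsg.Agent.SignalizersComponents.Components

variable {G : Type*} [Group G]

/-! ### The extension of an abelian group by a commuting involution -/

/-- `E ∪ E c` -/
def ext (E : Subgroup G) (c : G) (hc : c * c = 1) (hE : ∀ e ∈ E, e * c = c * e) : Subgroup G where
  carrier := {x | x ∈ E ∨ x * c ∈ E}
  one_mem' := Or.inl E.one_mem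
  mul_mem' := by
    have key : ∀ y, y * c ∈ E → y * c = c * y := by
      intro y hy
      have h1 := hE _ hy
      calc y * c = (y * c * c) * c := by rw [mul_assoc y, hc, mul_one]
        _ = (c * (y * c)) * c := by rw [h1]
        _ = c * y * (c * c) := by group
        _ = c * y := by rw [hc, mul_one]
    rintro x y (hx | hx) (hy | hy)
    · exact Or.inl (E.mul_mem hx hy)
    · exact Or.inr (by rw [mul_assoc]; exact E.mul_mem hx hy)
    · refine Or.inr ?_
      have h1 := E.mul_mem hx hy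
      rwa [mul_assoc, ← hE y hy, ← mul_assoc] at h1
    · refine Or.inl ?_
      have h1 := E.mul_mem hx hy
      have h2 : x * c * (y * c) = x * y := by
        calc x * c * (y * c) = x * (c * y) * c := by group
          _ = x * (y * c) * c := by rw [key y hy]
          _ = x * y * (c * c) := by group
          _ = x * y := by rw [hc, mul_one]
      rwa [h2] at h1
  inv_mem' := by
    rintro x (hx | hx)
    · exact Or.inl (E.inv_mem hx)
    · refine Or.inr ?_
      have h1 := E.inv_mem hx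
      have h3 := hE _ h1
      have hci : c⁻¹ = c := inv_eq_of_mul_eq_one_right hc
      have h2 : x⁻¹ * c = (x * c)⁻¹ := by
        rw [mul_inv_rev, hci]
        have h4 : (x * c)⁻¹ * c = c * (x * c)⁻¹ := h3
        rw [mul_inv_rev, hci] at h4
        calc x⁻¹ * c = (c * c) * x⁻¹ * c := by rw [hc, one_mul]
          _ = c * (c * x⁻¹ * c) := by group
          _ = c * (c * (c * x⁻¹)) := by rw [h4]
          _ = c * ((c * c) * x⁻¹) := by group
          _ = c * x⁻¹ := by rw [hc, one_mul]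
      rw [h2]
      exact h1

theorem mem_ext {E : Subgroup G} {c : G} {hc : c * c = 1} {hE : ∀ e ∈ E, e * c = c * e} {x : G} :
    x ∈ ext E c hc hE ↔ x ∈ E ∨ x * c ∈ E := Iff.rfl

theorem le_ext {E : Subgroup G} {c : G} {hc : c * c = 1} {hE : ∀ e ∈ E, e * c = c * e} :
    E ≤ ext E c hc hE := fun _ hx => Or.inl hx

theorem self_mem_ext {E : Subgroup G} {c : G} {hc : c * c = 1} {hE : ∀ e ∈ E, e * c = c * e} :
    c ∈ ext E c hc hE := Or.inr (by rw [hc]; exact E.one_mem)

theorem card_ext [Finite G] {E : Subgroup G} {c : G} {hc : c * c = 1} {hE : ∀ e ∈ E, e * c = c * e} (hcE : c ∉ E) :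
    Nat.card (ext E c hc hE) = 2 * Nat.card E := by
  have h1 : E.relIndex (ext E c hc hE) = 2 := by
    rw [relIndex, index_eq_two_iff]
    refine ⟨⟨c, self_mem_ext⟩, fun x => ?_⟩
    simp only [mem_subgroupOf, coe_mul]
    rcases mem_ext.1 x.2 with h2 | h2
    · refine Or.inr ⟨h2, fun h3 => hcE ?_⟩
      have := E.mul_mem (E.inv_mem h2) h3
      rwa [inv_mul_cancel_left] at this
    · refine Or.inl ⟨h2, fun h3 => hcE ?_⟩
      have := E.mul_mem (E.inv_mem h3) h2
      rwa [inv_mul_cancel_left] at this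
  have h2 := card_mul_index (E.subgroupOf (ext E c hc hE))
  rw [← relIndex, h1, Nat.card_congr (subgroupOfEquivOfLe le_ext).toEquiv] at h2
  rw [← h2, mul_comm]

/-! ### The quotients `C(z_K) / O(C(z_K))` -/

/-- `C(z_K) / O(C(z_K))` -/
abbrev HQ (K : Subgroup G) : Type _ :=
  ↥(centralizer ({zz K} : Set G)) ⧸ oddCore ↥(centralizer ({zz K} : Set G))

/-- the projection `C(z_K) → C(z_K) / O(C(z_K))` -/
def pr (K : Subgroup G) : ↥(centralizer ({zz K} : Set G)) →* HQ K := QuotientGroup.mk' _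

theorem pr_surjective (K : Subgroup G) : Function.Surjective (pr K) := QuotientGroup.mk'_surjective _

theorem ker_pr (K : Subgroup G) : (pr K).ker = oddCore ↥(centralizer ({zz K} : Set G)) :=
  QuotientGroup.ker_mk' _

open Classical in
/-- the image of `x ∈ C(z_K)` in `C(z_K) / O(C(z_K))` (`1` for other elements) -/
noncomputable def qt (K : Subgroup G) (x : G) : HQ K :=
  if h : x ∈ centralizer ({zz K} : Set G) then pr K ⟨x, h⟩ else 1

theorem qt_eq {K : Subgroup G} {x : G} (h : x ∈ centralizer ({zz K} : Set G)) : qt K x = pr K ⟨x, h⟩ := by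
  rw [qt, dif_pos h]

theorem qt_mul {K : Subgroup G} {x y : G} (hx : x ∈ centralizer ({zz K} : Set G))
    (hy : y ∈ centralizer ({zz K} : Set G)) : qt K (x * y) = qt K x * qt K y := by
  rw [qt_eq hx, qt_eq hy, qt_eq (mul_mem hx hy), ← map_mul]
  rfl

theorem qt_one (K : Subgroup G) : qt K 1 = 1 := by
  rw [qt_eq (one_mem _)]
  exact map_one _

theorem qt_eq_one {K : Subgroup G} {x : G} (hx : x ∈ centralizer ({zz K} : Set G)) :
    qt K x = 1 ↔ x ∈ XX (zz K) := by
  rw [qt_eq hx, ← MonoidHom.mem_ker, ker_pr]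
  exact (CoreTools.mem_XX_iff (x := ⟨x, hx⟩)).symm

/-- involutions (and `1`) commuting with each other with the same image are equal -/
theorem eq_of_qt_eq [Finite G] {K : Subgroup G} {x y : G} (hx : x ∈ centralizer ({zz K} : Set G))
    (hy : y ∈ centralizer ({zz K} : Set G)) (hxx : x * x = 1) (hyy : y * y = 1) (hxy : x * y = y * x)
    (h : qt K x = qt K y) : x = y := by
  have h1 : x * y ∈ XX (zz K) := by
    rw [← qt_eq_one (mul_mem hx hy), qt_mul hx hy, h, ← qt_mul hy hy, hyy, qt_one]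
  have h2 : (x * y) ^ 2 ^ 1 = 1 := by
    rw [pow_one, pow_two]
    calc x * y * (x * y) = x * (y * x) * y := by group
      _ = (x * x) * (y * y) := by rw [← hxy]; group
      _ = 1 := by rw [hxx, hyy, one_mul]
  have h3 := CoreTools.eq_one_of_mem_XX h1 h2
  have h4 : x = y⁻¹ := eq_inv_of_mul_eq_one_left h3
  rw [h4]; exact inv_eq_of_mul_eq_one_right hyy

/-- the local data at `K`, type `SL₄^ε(q)` -/
structure LocSL (Om : Set (Subgroup G)) (K : Subgroup G) (p : ℕ) (D : Subgroup (HQ K))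
    (M : Set (Subgroup (HQ K))) : Prop where
  prime : p.Prime
  core : pPrimeCore 2 (HQ K) = ⊥
  ev : EvQ (HQ K)
  piece : SLPiece p (qt K (zz K)) D M
  nor : ∀ g : HQ K, g ∈ normalizer (D : Set (HQ K))
  third : ∀ L L', Pr (qt K (zz K)) M L L' → ∃ J, Th M L L' J
  mem : ∀ J, Adj Om K J → J ≠ K → ∃ J' ∈ M, zz J' = qt K (zz J) ∧
    (∀ Q, Syl Q J → Q ≤ centralizer {zz K} → ∀ x ∈ Q, qt K x ∈ J') ∧
    (∀ N ∈ Om, zz N * zz K = zz K * zz N → zz N * zz J = zz J * zz N →
      (qt K (zz N) ∈ centralizer (J' : Set (HQ K)) ↔ Adj Om J N))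
  surj : ∀ L ∈ M, ∃ N, Adj Om K N ∧ N ≠ K ∧ zz L = qt K (zz N)
  own : ∀ Q, Syl Q K → ∀ x ∈ Q, qt K x ∈ centralizer (D : Set (HQ K))
  tame : ∀ Q, Syl Q K → ∀ a ∈ D, a * a = 1 → ∀ y ∈ XX a, ∀ x ∈ Q, qt K x * y = y * qt K x

/-! ### The configuration -/

/-- `K₂`, `J` adjacent to `K₁`, `z_J` commutes with `z₂`, `z_J ∉ ⟨z₁, z₂⟩` -/
structure Conf (Om : Set (Subgroup G)) (K1 K2 J : Subgroup G) : Prop where
  a2 : Adj Om K1 K2
  n2 : zz K2 ≠ zz K1
  aJ : Adj Om K1 J
  nJ : zz J ≠ zz K1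
  c : zz J * zz K2 = zz K2 * zz J
  n : zz J ≠ zz K2
  n' : zz J ≠ zz K1 * zz K2

section

variable [Finite G] {Om : Set (Subgroup G)} {K1 K2 J : Subgroup G}

/-- `⟨z₁, z₂⟩` -/
noncomputable def Conf.E (t : Tri Om) (k : Conf Om K1 K2 J) : Subgroup G :=
  four (zz K1) (zz K2) (t.hyp.zz_mul k.a2.left) (t.hyp.zz_mul k.a2.right) (adj_comm_zz t.hyp k.a2).symm

theorem Conf.comm_E (t : Tri Om) (k : Conf Om K1 K2 J) : ∀ e ∈ k.E t, e * zz J = zz J * e := by
  have h1 := adj_comm_zz t.hyp k.aJ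
  have h2 := k.c
  rintro e (rfl | rfl | rfl | rfl)
  · rw [one_mul, mul_one]
  · exact h1.symm
  · exact h2.symm
  · rw [mul_assoc, ← h2, ← mul_assoc, ← h1, mul_assoc]

/-- `A = ⟨z₁, z₂, z_J⟩` -/
noncomputable def Conf.A (t : Tri Om) (k : Conf Om K1 K2 J) : Subgroup G :=
  ext (k.E t) (zz J) (t.hyp.zz_mul k.aJ.right) (k.comm_E t)

theorem Conf.card_A (t : Tri Om) (k : Conf Om K1 K2 J) : Nat.card (k.A t) = 8 := by
  rw [Conf.A, card_ext, Conf.E, card_four]
  · exact t.hyp.zz_ne k.a2.left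
  · exact t.hyp.zz_ne k.a2.right
  · exact k.n2
  · rintro (h | h | h | h)
    · exact t.hyp.zz_ne k.aJ.right h
    · exact k.nJ h
    · exact k.n h
    · exact k.n' h

/-- the elements of `A` are involutions of members adjacent to `K₁` -/
theorem Conf.exists_zz (t : Tri Om) (hty : ∀ K ∈ Om, IsType K) (k : Conf Om K1 K2 J) {a : G} (ha : a ∈ k.A t)
    (h1 : a ≠ 1) : ∃ N, Adj Om K1 N ∧ zz N = a := by
  -- closure under products
  have key : ∀ N N' : Subgroup G, Adj Om K1 N → Adj Om K1 N' → zz N * zz N' = zz N' * zz N →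
      zz N * zz N' = 1 ∨ ∃ N'', Adj Om K1 N'' ∧ zz N'' = zz N * zz N' := by
    intro N N' hN hN' hc
    by_cases hne : N' = N
    · left; rw [hne]; exact t.hyp.zz_mul hN.right
    · right
      obtain ⟨L, hL, hLz⟩ := t.exists_mul hN.right hN'.right hne hc.symm
      exact ⟨L, adj_mul t hty hN hN' hL hLz.symm, hLz.symm⟩
  have hself : Adj Om K1 K1 := by
    obtain ⟨S, h2, -⟩ := k.a2
    exact ⟨S, h2, h2⟩
  have hE : ∀ e ∈ k.E t, e = 1 ∨ ∃ N, Adj Om K1 N ∧ zz N = e := by
    rintro e (rfl | rfl | rfl | rfl)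
    · exact Or.inl rfl
    · exact Or.inr ⟨K1, hself, rfl⟩
    · exact Or.inr ⟨K2, k.a2, rfl⟩
    · exact key K1 K2 hself k.a2 (adj_comm_zz t.hyp k.a2).symm
  have hcc := t.hyp.zz_mul k.aJ.right
  rcases mem_ext.1 ha with h2 | h2
  · exact (hE a h2).resolve_left h1
  · have h3 : a = (a * zz J) * zz J := by rw [mul_assoc, hcc, mul_one]
    rcases hE _ h2 with h4 | ⟨N, hN, hNz⟩
    · rw [h4, one_mul] at h3
      exact ⟨J, k.aJ, h3.symm⟩
    · rw [← hNz] at h3
      have h5 : zz N * zz J = zz J * zz N := by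
        rw [hNz]; exact k.comm_E t _ h2
      rcases key N J hN k.aJ h5 with h6 | ⟨N', hN', h6⟩
      · exact absurd (h3.trans h6) h1
      · exact ⟨N', hN', h6.trans h3.symm⟩

theorem Conf.comm_A (t : Tri Om) (k : Conf Om K1 K2 J) {a b : G} (ha : a ∈ k.A t) (hb : b ∈ k.A t) :
    a * b = b * a := by
  have hE : ∀ e ∈ k.E t, ∀ e' ∈ k.E t, e * e' = e' * e := by
    have h1 := adj_comm_zz t.hyp k.a2
    intro e he e' he'
    have h2 : Commute (zz K1) (zz K2) := h1.symm
    have h3 : ∀ e ∈ k.E t, Commute e (zz K1) ∧ Commute e (zz K2) := by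
      rintro e (rfl | rfl | rfl | rfl)
      · exact ⟨Commute.one_left _, Commute.one_left _⟩
      · exact ⟨Commute.refl _, h2⟩
      · exact ⟨h2.symm, Commute.refl _⟩
      · exact ⟨(Commute.refl _).mul_left h2.symm, h2.mul_left (Commute.refl _)⟩
    obtain ⟨h4, h5⟩ := h3 e he
    rcases he' with rfl | rfl | rfl | rfl
    · exact (Commute.one_right e).eq
    · exact h4.eq
    · exact h5.eq
    · exact (h4.mul_right h5).eq
  have hcc := t.hyp.zz_mul k.aJ.right
  have hc : ∀ a ∈ k.A t, a * zz J = zz J * a := by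
    intro a ha
    rcases mem_ext.1 ha with h2 | h2
    · exact k.comm_E t a h2
    · have h3 := k.comm_E t _ h2
      calc a * zz J = (a * zz J) * zz J * zz J := by rw [mul_assoc _ (zz J) (zz J), hcc, mul_one]
        _ = zz J * (a * zz J) * zz J := by rw [h3]
        _ = zz J * a * (zz J * zz J) := by group
        _ = zz J * a := by rw [hcc, mul_one]
  have h3 : ∀ a ∈ k.A t, ∀ e ∈ k.E t, a * e = e * a := by
    intro a ha e he
    rcases mem_ext.1 ha with h2 | h2
    · exact hE a h2 e he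
    · have h4 := hE _ h2 e he
      have h5 := k.comm_E t e he
      calc a * e = a * e * (zz J * zz J) := by rw [hcc, mul_one]
        _ = a * (e * zz J) * zz J := by group
        _ = a * (zz J * e) * zz J := by rw [h5]
        _ = (a * zz J * e) * zz J := by group
        _ = e * a * (zz J * zz J) := by rw [h4]; group
        _ = e * a := by rw [hcc, mul_one]
  rcases mem_ext.1 hb with h2 | h2
  · exact h3 a ha b h2
  · have h4 := h3 a ha _ h2
    have h5 := hc a ha
    calc a * b = a * (b * zz J) * zz J := by rw [← mul_assoc, mul_assoc, hcc, mul_one]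
      _ = b * (zz J * a) * zz J := by rw [h4]; group
      _ = b * (a * zz J) * zz J := by rw [h5]
      _ = b * a * (zz J * zz J) := by group
      _ = b * a := by rw [hcc, mul_one]

theorem Conf.sq_A (t : Tri Om) (hty : ∀ K ∈ Om, IsType K) (k : Conf Om K1 K2 J) {a : G} (ha : a ∈ k.A t) :
    a * a = 1 := by
  by_cases h1 : a = 1
  · rw [h1, one_mul]
  · obtain ⟨N, hN, rfl⟩ := k.exists_zz t hty ha h1
    exact t.hyp.zz_mul hN.right

theorem Conf.z1_mem (t : Tri Om) (k : Conf Om K1 K2 J) : zz K1 ∈ k.A t :=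
  le_ext (Or.inr (Or.inl rfl))

theorem Conf.z2_mem (t : Tri Om) (k : Conf Om K1 K2 J) : zz K2 ∈ k.A t :=
  le_ext (Or.inr (Or.inr (Or.inl rfl)))

theorem Conf.zJ_mem (t : Tri Om) (k : Conf Om K1 K2 J) : zz J ∈ k.A t := self_mem_ext


omit [Finite G] in
theorem mem_or_mul_mem {E A : Subgroup G} (hE : E ≤ A) (hE4 : Nat.card E = 4) (hA : Nat.card A = 8) {a : G}
    (ha : a ∈ A) (haE : a ∉ E) {x : G} (hx : x ∈ A) : x ∈ E ∨ x * a ∈ E := by
  have h1 : (E.subgroupOf A).index = 2 := by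
    have h2 := card_mul_index (E.subgroupOf A)
    rw [Nat.card_congr (subgroupOfEquivOfLe hE).toEquiv, hE4, hA] at h2
    omega
  have h2 := Subgroup.mul_mem_iff_of_index_two h1 (a := ⟨x, hx⟩) (b := ⟨a, ha⟩)
  by_cases h3 : x ∈ E
  · exact Or.inl h3
  · exact Or.inr (h2.2 ⟨fun h => absurd h h3, fun h => absurd h haE⟩)

theorem Conf.le_centralizer (t : Tri Om) (k : Conf Om K1 K2 J) {b : G} (hb : b ∈ k.A t) :
    k.A t ≤ centralizer {b} := fun _ ha => mem_centralizer_singleton_iff.2 (k.comm_A t ha hb)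

theorem Conf.commutator_self_le (t : Tri Om) (k : Conf Om K1 K2 J) {b : G} (hb : b ∈ k.A t) :
    ⁅XX b ⊓ centralizer {b}, k.A t⁆ ≤ XX b := by
  refine (commutator_mono_left inf_le_left).trans (Lib.CoprimeCommutator.commutator_le_left ?_)
  exact (k.le_centralizer t hb).trans (centralizer_le_normalizer_XX b)

theorem comm_of_comp {H : Type*} [Group H] {L D : Subgroup H} (hL : IsComponent L) (hD : IsComponent D) (hne : L ≠ D) {x : H}
    (hx : x ∈ D) : x ∈ centralizer (L : Set H) := by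
  rw [mem_centralizer_iff]
  exact fun l hl => comm_of_ne hL hD hne hl hx

/-! ### Inner position -/

section Inner

variable {p : ℕ} {D : Subgroup (HQ K1)} {M : Set (Subgroup (HQ K1))}

theorem Conf.inner_mem (t : Tri Om) (hty : ∀ K ∈ Om, IsType K) (k : Conf Om K1 K2 J) (loc : LocSL Om K1 p D M) {a : G}
    (ha : a ∈ k.A t) (h1 : a ≠ 1) (hz : a ≠ zz K1) : ∃ N ∈ M, zz N = qt K1 a := by
  obtain ⟨N, hN, rfl⟩ := k.exists_zz t hty ha h1
  obtain ⟨N', hN', h2, -⟩ := loc.mem N hN (by rintro rfl; exact hz rfl)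
  exact ⟨N', hN', h2⟩

theorem Conf.inner_mem_D (t : Tri Om) (hty : ∀ K ∈ Om, IsType K) (k : Conf Om K1 K2 J) (loc : LocSL Om K1 p D M)
    {a : G} (ha : a ∈ k.A t) : qt K1 a ∈ D := by
  by_cases h1 : a = 1
  · rw [h1, qt_one]; exact D.one_mem
  by_cases hz : a = zz K1
  · rw [hz]; exact loc.piece.bD
  · obtain ⟨N, hN, h2⟩ := k.inner_mem t hty loc ha h1 hz
    rw [← h2]
    exact loc.piece.le N hN (loc.piece.zmem N hN)

theorem Conf.mem_cent (t : Tri Om) (k : Conf Om K1 K2 J) {a b : G} (ha : a ∈ k.A t) (hb : b ∈ k.A t) :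
    a ∈ centralizer ({b} : Set G) := k.le_centralizer t hb ha

/-- images of elements of `A` commute -/
theorem Conf.qt_comm (t : Tri Om) (k : Conf Om K1 K2 J) {K : Subgroup G} (hK : zz K ∈ k.A t) {a b : G}
    (ha : a ∈ k.A t) (hb : b ∈ k.A t) : qt K a * qt K b = qt K b * qt K a := by
  rw [← qt_mul (k.mem_cent t ha hK) (k.mem_cent t hb hK), k.comm_A t ha hb,
    qt_mul (k.mem_cent t hb hK) (k.mem_cent t ha hK)]

/-- **(TOR) for `b = z₁`** -/
theorem Conf.tor_one (t : Tri Om) (hty : ∀ K ∈ Om, IsType K) (k : Conf Om K1 K2 J) (loc : LocSL Om K1 p D M) {a : G}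
    (ha : a ∈ k.A t) (h1 : a ≠ 1) : ⁅XX a ⊓ centralizer {zz K1}, k.A t⁆ ≤ XX (zz K1) := by
  haveI : Fact p.Prime := ⟨loc.prime⟩
  have hz1 := k.z1_mem t
  by_cases hz : a = zz K1
  · rw [hz]; exact k.commutator_self_le t hz1
  have hA := k.le_centralizer t hz1
  refine CoreTools.tor_of_comp (pr_surjective K1) (ker_pr K1) loc.ev (fun x hx y hy => k.comm_A t hx hy)
    (fun x hx => k.sq_A t hty hx) hA ha ?_
  intro 𝓛 h𝓛 _ _ hidx y hy c hc
  obtain ⟨⟨c, hc1⟩, hc2, rfl⟩ := hc
  have hcA : c ∈ k.A t := hc2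
  by_cases hD : 𝓛 = D
  · have hcomm : qt K1 c * y = y * qt K1 c := by
      obtain ⟨N, hN, hNa⟩ := k.inner_mem t hty loc ha h1 hz
      obtain ⟨N', hp⟩ := loc.piece.exists_pr N hN
      rw [← qt_eq (hA ha), ← hNa] at hy
      by_cases e1 : c = 1
      · rw [e1, qt_one, one_mul, mul_one]
      by_cases e2 : c = zz K1
      · rw [e2]; exact loc.piece.bc y
      obtain ⟨N2, hN2, hNc⟩ := k.inner_mem t hty loc hcA e1 e2
      rw [← hNc]
      refine loc.piece.tor_inner loc.core loc.ev hp hN2 ?_ hy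
      rw [hNc, hNa]
      exact k.qt_comm t hz1 hcA ha
    rw [← qt_eq hc1]
    have e : y * qt K1 c * y⁻¹ * (qt K1 c)⁻¹ = 1 := by rw [← hcomm]; group
    rw [e]; exact one_mem _
  · exfalso
    have h2 : ((k.A t).subgroupOf (centralizer {zz K1})).map (pr K1) ≤ centralizer (𝓛 : Set (HQ K1)) := by
      rintro _ ⟨⟨x, hx1⟩, hx2, rfl⟩
      rw [← qt_eq hx1]
      exact comm_of_comp h𝓛 loc.piece.comp hD (k.inner_mem_D t hty loc hx2)
    rw [relIndex_eq_one.2 h2] at hidx
    omega

/-- **(2B) for `s = z₁`** -/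
theorem Conf.two_one (t : Tri Om) (hty : ∀ K ∈ Om, IsType K) (k : Conf Om K1 K2 J) (loc : LocSL Om K1 p D M)
    {B : Subgroup G} (hB : B ≤ k.A t) (h4 : Nat.card B = 4) :
    Del B ⊓ centralizer (k.A t : Set G) ≤ XX (zz K1) := by
  haveI : Fact p.Prime := ⟨loc.prime⟩
  have hz1 := k.z1_mem t
  by_cases hzB : zz K1 ∈ B
  · exact inf_le_left.trans (Del_le hzB (t.hyp.zz_ne k.a2.left))
  have hA := k.le_centralizer t hz1
  have hB1 : B ≠ ⊥ := by rintro rfl; rw [card_bot] at h4; omega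
  refine CoreTools.two_of_comp (pr_surjective K1) (ker_pr K1) loc.ev (fun x hx => k.sq_A t hty hx) hB hB1 hz1 hA ?_
  intro 𝓛 h𝓛 hall u _ hu
  -- two elements of `B`
  obtain ⟨a, haB, ha1⟩ := B.bot_or_exists_ne_one.resolve_left hB1
  obtain ⟨a', haB', ha1', hne⟩ := Tor.exists_ne (B := B) (by omega) (k.sq_A t hty (hB haB))
  by_cases hD : 𝓛 = D
  · rw [hD]
    have hza : a ≠ zz K1 := by rintro rfl; exact hzB haB
    have hza' : a' ≠ zz K1 := by rintro rfl; exact hzB haB'
    obtain ⟨N, hN, hNa⟩ := k.inner_mem t hty loc (hB haB) ha1 hza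
    obtain ⟨N2, hN2, hNa'⟩ := k.inner_mem t hty loc (hB haB') ha1' hza'
    obtain ⟨N', hp⟩ := loc.piece.exists_pr N hN
    have hu1 : u ∈ XX (zz N) := by
      rw [hNa, qt_eq (hA (hB haB))]; exact hu a haB ha1
    have hu2 : u ∈ XX (zz N2) := by
      rw [hNa', qt_eq (hA (hB haB'))]; exact hu a' haB' ha1'
    have hinj : ∀ x ∈ k.A t, ∀ y ∈ k.A t, qt K1 x = qt K1 y → x = y := fun x hx y hy h =>
      eq_of_qt_eq (hA hx) (hA hy) (k.sq_A t hty hx) (k.sq_A t hty hy) (k.comm_A t hx hy) h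
    refine loc.piece.two_inner loc.core loc.ev hp ⟨hN2, ?_, ?_, ?_⟩ hu1 hu2
    · rintro rfl
      exact hne (hinj _ (hB haB') _ (hB haB) (hNa'.symm.trans hNa))
    · rintro rfl
      have h5 := loc.piece.zb hp
      rw [hNa', hNa, ← qt_mul (hA (hB haB)) (hA hz1)] at h5
      have h6 := hinj _ (hB haB') _ ((k.A t).mul_mem (hB haB) hz1) h5
      apply hzB
      have h7 : zz K1 = a⁻¹ * a' := by rw [h6]; group
      rw [h7]
      exact B.mul_mem (B.inv_mem haB) haB'
    · rw [hNa, hNa']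
      exact k.qt_comm t hz1 (hB haB') (hB haB)
  · exfalso
    apply (hall a haB ha1).2
    rw [← qt_eq (hA (hB haB))]
    exact comm_of_comp h𝓛 loc.piece.comp hD (k.inner_mem_D t hty loc (hB haB))

end Inner

/-! ### Reflection position -/

section Refl

variable {K : Subgroup G} {p : ℕ} {D : Subgroup (HQ K)} {M : Set (Subgroup (HQ K))}

/-- the members `L`, `L'` and the reflections -/
theorem Conf.rf (t : Tri Om) (hty : ∀ K ∈ Om, IsType K) (k : Conf Om K1 K2 J) (hK : Adj Om K1 K)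
    (hKA : zz K ∈ k.A t) (hne : zz K ≠ zz K1) (loc : LocSL Om K p D M) :
    ∃ L L', Pr (qt K (zz K)) M L L' ∧ zz L = qt K (zz K1) ∧ zz L' = qt K (zz K1 * zz K) ∧
      ∀ a ∈ k.A t, a ≠ 1 → a ≠ zz K → a ≠ zz K1 → a ≠ zz K1 * zz K → SLPiece.Rf (qt K (zz K)) D M L L' (qt K a) := by
  have hz1 := k.z1_mem t
  have hA := k.le_centralizer t hKA
  have hKK : K1 ≠ K := by rintro rfl; exact hne rfl
  have hself : Adj Om K1 K1 := by
    obtain ⟨S, h2, -⟩ := k.a2
    exact ⟨S, h2, h2⟩
  obtain ⟨L, hL, hLz, -, hLc⟩ := loc.mem K1 hK.symm hKK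
  obtain ⟨L', hp⟩ := loc.piece.exists_pr L hL
  have hLz' : zz L' = qt K (zz K1 * zz K) := by
    rw [loc.piece.zb hp, hLz, ← qt_mul (hA hz1) (hA hKA)]
  refine ⟨L, L', hp, hLz, hLz', ?_⟩
  intro a ha a1 a2 a3 a4
  obtain ⟨N, hN, rfl⟩ := k.exists_zz t hty ha a1
  have c1 : zz N * zz K = zz K * zz N := k.comm_A t ha hKA
  have c2 : zz N * zz K1 = zz K1 * zz N := k.comm_A t ha hz1
  refine ⟨hp, ?_, loc.nor _, ?_, ?_⟩
  · rw [← qt_mul (hA ha) (hA ha), t.hyp.zz_mul hN.right, qt_one]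
  · exact (hLc N hN.right c1 c2).2 hN
  · -- the third member
    have h13 : zz K1 * zz K ≠ 1 := by
      intro h
      apply hne
      have := t.hyp.zz_inv hK.left
      rw [← this]
      exact (inv_eq_of_mul_eq_one_right h).symm
    obtain ⟨K3, hK3, hK3z⟩ := k.exists_zz t hty ((k.A t).mul_mem hz1 hKA) h13
    have hK3K : Adj Om K K3 := by
      have hKs : Adj Om K K := by
        obtain ⟨S, -, h2⟩ := hK
        exact ⟨S, h2, h2⟩
      exact adj_mul t hty hK.symm hKs hK3.right hK3z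
    have hne3 : K3 ≠ K := by
      rintro rfl
      have h5 : zz K1 = 1 := by
        have := mul_eq_right.1 hK3z.symm
        exact this
      exact t.hyp.zz_ne hK.left h5
    obtain ⟨L3, hL3, hL3z, -, hL3c⟩ := loc.mem K3 hK3K hne3
    have h6 : L3 = L' := loc.piece.det L3 hL3 L' hp.right (by rw [hL3z, hLz', hK3z])
    rw [← h6]
    intro hcon
    have c3 : zz N * zz K3 = zz K3 * zz N := by
      rw [hK3z]
      calc zz N * (zz K1 * zz K) = (zz N * zz K1) * zz K := by group
        _ = zz K1 * (zz N * zz K) := by rw [c2]; group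
        _ = zz K1 * zz K * zz N := by rw [c1]; group
    have h7 : Adj Om K3 N := (hL3c N hN.right c1 c3).1 hcon
    have h8 : K1 ≠ K3 := by
      rintro rfl
      have h5 : zz K = 1 := mul_eq_left.1 hK3z.symm
      exact t.hyp.zz_ne hK.right h5
    have h9 := third t hty hK3 hN h7 h8 (by rintro rfl; exact a3 rfl) (by rintro rfl; exact a4 hK3z)
    apply a2
    rw [h9, hK3z, ← mul_assoc, t.hyp.zz_mul hK.left, one_mul]

/-- the four-group `⟨z₁, z_K⟩` -/
noncomputable def Conf.EK (t : Tri Om) (_k : Conf Om K1 K2 J) (hK : Adj Om K1 K) : Subgroup G :=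
  four (zz K1) (zz K) (t.hyp.zz_mul hK.left) (t.hyp.zz_mul hK.right) (adj_comm_zz t.hyp hK).symm

theorem Conf.EK_le (t : Tri Om) (k : Conf Om K1 K2 J) (hK : Adj Om K1 K) (hKA : zz K ∈ k.A t) :
    k.EK t hK ≤ k.A t := by
  rintro x (rfl | rfl | rfl | rfl)
  · exact one_mem _
  · exact k.z1_mem t
  · exact hKA
  · exact mul_mem (k.z1_mem t) hKA

theorem Conf.card_EK (t : Tri Om) (k : Conf Om K1 K2 J) (hK : Adj Om K1 K) (hne : zz K ≠ zz K1) :
    Nat.card (k.EK t hK) = 4 :=
  card_four (t.hyp.zz_ne hK.left) (t.hyp.zz_ne hK.right) hne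

theorem XX_mul_central {H : Type*} [Group H] {a b : H} (hb : ∀ x : H, b * x = x * b) : XX (a * b) = XX a := by
  have h1 : centralizer ({a * b} : Set H) = centralizer {a} := by
    ext x
    rw [mem_centralizer_singleton_iff, mem_centralizer_singleton_iff]
    constructor
    · intro h
      have h2 : x * a * b = a * x * b := by
        calc x * a * b = x * (a * b) := by group
          _ = a * b * x := h
          _ = a * (b * x) := by group
          _ = a * x * b := by rw [hb]; group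
      exact mul_right_cancel h2
    · intro h
      calc x * (a * b) = (x * a) * b := by group
        _ = a * (x * b) := by rw [h]; group
        _ = a * b * x := by rw [← hb]; group
  rw [XX, XX, h1]

theorem exists_not_mem_of_card {E A : Subgroup G} (hE4 : Nat.card E = 4) (hA : Nat.card A = 8) :
    ∃ c ∈ A, c ∉ E := by
  by_contra hcon
  push Not at hcon
  have := card_le_of_le (show A ≤ E from hcon)
  omega

omit [Finite G] in
theorem relIndex_dvd_two [Finite G] {E A : Subgroup G} (hE : E ≤ A) (hE4 : Nat.card E = 4) (hA : Nat.card A = 8)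
    {K : Subgroup G} (hAK : ∀ x ∈ A, x ∈ centralizer ({zz K} : Set G)) {C : Subgroup (HQ K)}
    (hC : ∀ e ∈ E, qt K e ∈ C) : C.relIndex ((A.subgroupOf (centralizer {zz K})).map (pr K)) ∣ 2 := by
  obtain ⟨c, hc, hcE⟩ := exists_not_mem_of_card hE4 hA
  rw [relIndex_dvd_two_iff]
  refine ⟨pr K ⟨c, hAK c hc⟩, ⟨_, hc, rfl⟩, ?_⟩
  rintro _ ⟨⟨x, hx1⟩, hx2, rfl⟩
  have hxA : x ∈ A := hx2
  rw [← qt_eq hx1, ← qt_eq (hAK c hc), ← qt_mul hx1 (hAK c hc)]
  rcases mem_or_mul_mem hE hE4 hA hc hcE hxA with h | h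
  · exact Or.inr (hC _ h)
  · exact Or.inl (hC _ h)

/-- **(TOR) for `b = z_K ≠ z₁`** -/
theorem Conf.tor_ne (t : Tri Om) (hty : ∀ K ∈ Om, IsType K) (k : Conf Om K1 K2 J) (hK : Adj Om K1 K)
    (hKA : zz K ∈ k.A t) (hne : zz K ≠ zz K1) (loc : LocSL Om K p D M) {a : G}
    (ha : a ∈ k.A t) (h1 : a ≠ 1) : ⁅XX a ⊓ centralizer {zz K}, k.A t⁆ ≤ XX (zz K) := by
  haveI : Fact p.Prime := ⟨loc.prime⟩
  have hz1 := k.z1_mem t
  by_cases hz : a = zz K
  · rw [hz]; exact k.commutator_self_le t hKA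
  have hA := k.le_centralizer t hKA
  have hE := k.EK_le t hK hKA
  have hE4 := k.card_EK t hK hne
  obtain ⟨L, L', hp, hLz, hLz', hrf⟩ := k.rf t hty hK hKA hne loc
  have hz1D : qt K (zz K1) ∈ D := by rw [← hLz]; exact loc.piece.le L hp.left (loc.piece.zmem L hp.left)
  have hED : ∀ e ∈ k.EK t hK, qt K e ∈ D := by
    rintro e (rfl | rfl | rfl | rfl)
    · rw [qt_one]; exact one_mem _
    · exact hz1D
    · exact loc.piece.bD
    · rw [qt_mul (hA hz1) (hA hKA)]; exact mul_mem hz1D loc.piece.bD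
  refine CoreTools.tor_of_comp (pr_surjective K) (ker_pr K) loc.ev (fun x hx y hy => k.comm_A t hx hy)
    (fun x hx => k.sq_A t hty hx) hA ha ?_
  intro 𝓛 h𝓛 _ _ hidx y hy c hc
  rw [← qt_eq (hA ha)] at hy
  by_cases hD : 𝓛 = D
  · rw [hD]
    -- an element of `A` outside `⟨z₁, z_K⟩`
    obtain ⟨⟨c, hc1⟩, hc2, rfl⟩ := hc
    have hcA : c ∈ k.A t := hc2
    rw [← qt_eq hc1]
    by_cases haE : a ∈ k.EK t hK
    · -- `a = z₁` or `a = z₁ z_K`
      have hy' : y ∈ XX (zz L) := by
        rcases haE with e | e | e | e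
        · exact absurd e h1
        · rw [hLz, ← e]; exact hy
        · exact absurd e hz
        · rw [hLz, ← XX_mul_central loc.piece.bc, ← qt_mul (hA hz1) (hA hKA), ← e]; exact hy
      obtain ⟨hyL, -⟩ := loc.piece.comm_pair loc.core loc.ev hp hy'
      have hyz : qt K (zz K1) * y = y * qt K (zz K1) := by
        rw [← hLz]; exact mem_centralizer_iff.1 hyL _ (loc.piece.zmem _ hp.left)
      by_cases hcE : c ∈ k.EK t hK
      · have h3 : qt K c * y = y * qt K c := by
          rcases hcE with rfl | rfl | rfl | rfl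
          · rw [qt_one, one_mul, mul_one]
          · exact hyz
          · exact loc.piece.bc y
          · rw [qt_mul (hA hz1) (hA hKA)]
            calc qt K (zz K1) * qt K (zz K) * y = qt K (zz K1) * (qt K (zz K) * y) := by group
              _ = (qt K (zz K1) * y) * qt K (zz K) := by rw [loc.piece.bc]; group
              _ = y * (qt K (zz K1) * qt K (zz K)) := by rw [hyz]; group
        have e : y * qt K c * y⁻¹ * (qt K c)⁻¹ = 1 := by rw [← h3]; group
        rw [e]; exact one_mem _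
      · have r := hrf c hcA (by rintro rfl; exact hcE (one_mem _)) (by rintro rfl; exact hcE (Or.inr (Or.inr (Or.inl rfl))))
          (by rintro rfl; exact hcE (Or.inr (Or.inl rfl))) (by rintro rfl; exact hcE (Or.inr (Or.inr (Or.inr rfl))))
        exact r.tor_z loc.piece loc.core loc.ev hy'
    · have r := hrf a ha h1 hz (by rintro rfl; exact haE (Or.inr (Or.inl rfl)))
        (by rintro rfl; exact haE (Or.inr (Or.inr (Or.inr rfl))))
      have hyz : zz L * y = y * zz L :=
        SLPiece.Rf.tor_c loc.piece loc.core loc.ev hp.left r.cc r.nor r.cL hy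
      rw [hLz] at hyz
      have hya : y * qt K a = qt K a * y := CT.comm_of_mem_XX hy
      have hyE : ∀ e ∈ k.EK t hK, qt K e * y = y * qt K e := by
        rintro e (rfl | rfl | rfl | rfl)
        · rw [qt_one, one_mul, mul_one]
        · exact hyz
        · exact loc.piece.bc y
        · rw [qt_mul (hA hz1) (hA hKA)]
          calc qt K (zz K1) * qt K (zz K) * y = qt K (zz K1) * (qt K (zz K) * y) := by group
            _ = (qt K (zz K1) * y) * qt K (zz K) := by rw [loc.piece.bc]; group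
            _ = y * (qt K (zz K1) * qt K (zz K)) := by rw [hyz]; group
      have h3 : qt K c * y = y * qt K c := by
        rcases mem_or_mul_mem hE hE4 (k.card_A t) ha haE hcA with h4 | h4
        · exact hyE c h4
        · have h5 := hyE _ h4
          rw [qt_mul (hA hcA) (hA ha)] at h5
          have h6 : qt K c * y * qt K a = y * qt K c * qt K a := by
            calc qt K c * y * qt K a = qt K c * (y * qt K a) := by group
              _ = qt K c * qt K a * y := by rw [hya]; group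
              _ = y * (qt K c * qt K a) := h5
              _ = y * qt K c * qt K a := by group
          exact mul_right_cancel h6
      have e : y * qt K c * y⁻¹ * (qt K c)⁻¹ = 1 := by rw [← h3]; group
      rw [e]; exact one_mem _
  · exfalso
    -- the index is at most 2
    have h3 := relIndex_dvd_two hE hE4 (k.card_A t) (fun x hx => hA hx) (C := centralizer (𝓛 : Set (HQ K)))
      (fun e he => comm_of_comp h𝓛 loc.piece.comp hD (hED e he))
    have := Nat.le_of_dvd (by norm_num) h3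
    omega

end Refl

end

end Cfsg.Agent.Cit.ThreeCore
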