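import Cfsg.Agent.Cit.ThreeCoreSLG

/-!
# Cores for `|Om(S)| = 3`, `z₁ z₂ z₃ = 1`, type `SL₄^ε(q)`: end

`Conf.two_ne` : (2B); `exists_conf` : existence of `z_J`; `Conf.isTor` : the hypotheses of THEOREM F; `Conf.cdata`;
`comm_XX` : if the commuting graph is connected, `O(C(z_K))` commutes with the Sylow 2-subgroups of `K` and of the
members adjacent to `K`.
-/

set_option autoImplicit false
set_option linter.style.haveILetI false

namespace Cfsg.Agent.Cit.ThreeCore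

open Subgroup Cfsg Cfsg.Agent.Cit Cfsg.Agent.Cit.Comp Cfsg.Agent.Cit.OneComp Cfsg.Agent.Cit.AutAct
  Cfsg.Agent.Cit.TorFunctor
open Cfsg.Agent.SignalizersComponents.Components

variable {G : Type*} [Group G] [Finite G] {Om : Set (Subgroup G)} {K1 K2 J : Subgroup G}

/-- **(2B) for `s = z_K ≠ z₁`** -/
theorem Conf.two_ne {K : Subgroup G} {p : ℕ} {D : Subgroup (HQ K)} {M : Set (Subgroup (HQ K))} (t : Tri Om)
    (hty : ∀ K ∈ Om, IsType K) (k : Conf Om K1 K2 J) (hK : Adj Om K1 K)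
    (hKA : zz K ∈ k.A t) (hne : zz K ≠ zz K1) (loc : LocSL Om K p D M) {B : Subgroup G} (hB : B ≤ k.A t)
    (h4 : Nat.card B = 4) : Del B ⊓ centralizer (k.A t : Set G) ≤ XX (zz K) := by
  haveI : Fact p.Prime := ⟨loc.prime⟩
  have hz1 := k.z1_mem t
  by_cases hzB : zz K ∈ B
  · exact inf_le_left.trans (Del_le hzB (t.hyp.zz_ne hK.right))
  have hA := k.le_centralizer t hKA
  have hB1 : B ≠ ⊥ := by rintro rfl; rw [card_bot] at h4; omega
  have hE := k.EK_le t hK hKA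
  have hE4 := k.card_EK t hK hne
  obtain ⟨L, L', hp, hLz, hLz', hrf⟩ := k.rf t hty hK hKA hne loc
  have hz1D : qt K (zz K1) ∈ D := by rw [← hLz]; exact loc.piece.le L hp.left (loc.piece.zmem L hp.left)
  have hED : ∀ e ∈ k.EK t hK, qt K e ∈ D := by
    rintro e (rfl | rfl | rfl | rfl)
    · rw [qt_one]; exact one_mem _
    · exact hz1D
    · exact loc.piece.bD
    · rw [qt_mul (hA hz1) (hA hKA)]; exact mul_mem hz1D loc.piece.bD
  -- an element of `B ∩ ⟨z₁, z_K⟩`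
  have hex : ∃ e ∈ B, e ≠ 1 ∧ e ∈ k.EK t hK := by
    obtain ⟨a, haB, ha1⟩ := B.bot_or_exists_ne_one.resolve_left hB1
    obtain ⟨a', haB', ha1', hne'⟩ := Tor.exists_ne (B := B) (by omega) (k.sq_A t hty (hB haB))
    by_cases h1 : a ∈ k.EK t hK
    · exact ⟨a, haB, ha1, h1⟩
    by_cases h2 : a' ∈ k.EK t hK
    · exact ⟨a', haB', ha1', h2⟩
    refine ⟨a * a', B.mul_mem haB haB', ?_, ?_⟩
    · intro h3
      apply hne'
      have h5 : a⁻¹ = a := inv_eq_of_mul_eq_one_right (k.sq_A t hty (hB haB))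
      rw [← h5]
      exact (eq_inv_of_mul_eq_one_right h3)
    · exact (mem_or_mul_mem hE hE4 (k.card_A t) (hB haB') h2 (hB haB)).resolve_left h1
  -- an element of `B` outside `⟨z₁, z_K⟩`
  have hex' : ∃ c ∈ B, c ∉ k.EK t hK := by
    by_contra hcon
    push Not at hcon
    have h1 : B = k.EK t hK := Subgroup.eq_of_le_of_card_ge hcon (by rw [hE4, h4])
    apply hzB
    rw [h1]
    exact Or.inr (Or.inr (Or.inl rfl))
  obtain ⟨e, heB, he1, heE⟩ := hex
  obtain ⟨c, hcB, hcE⟩ := hex'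
  refine CoreTools.two_of_comp (pr_surjective K) (ker_pr K) loc.ev (fun x hx => k.sq_A t hty hx) hB hB1 hKA hA ?_
  intro 𝓛 h𝓛 hall u _ hu
  by_cases hD : 𝓛 = D
  · rw [hD]
    have r := hrf c (hB hcB) (by rintro rfl; exact hcE (one_mem _))
      (by rintro rfl; exact hcE (Or.inr (Or.inr (Or.inl rfl))))
      (by rintro rfl; exact hcE (Or.inr (Or.inl rfl))) (by rintro rfl; exact hcE (Or.inr (Or.inr (Or.inr rfl))))
    have hu1 : u ∈ XX (zz L) := by
      have h5 := hu e heB he1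
      rw [← qt_eq (hA (hB heB))] at h5
      rcases heE with e1 | e1 | e1 | e1
      · exact absurd e1 he1
      · rw [hLz, ← e1]; exact h5
      · exact absurd (e1 ▸ heB) hzB
      · rw [hLz, ← XX_mul_central loc.piece.bc, ← qt_mul (hA hz1) (hA hKA), ← e1]; exact h5
    refine r.two loc.piece loc.core loc.ev hu1 (Or.inl ?_)
    rw [qt_eq (hA (hB hcB))]
    exact hu c hcB (by rintro rfl; exact hcE (one_mem _))
  · exfalso
    apply (hall e heB he1).2
    rw [← qt_eq (hA (hB heB))]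
    exact comm_of_comp h𝓛 loc.piece.comp hD (hED e heE)

/-- all data -/
structure AllSL (Om : Set (Subgroup G)) : Prop where
  tri : Tri Om
  ty : ∀ K ∈ Om, IsType K
  solv : ∀ X : Subgroup G, ¬ 2 ∣ Nat.card X → Group.IsSolvable X
  loc : ∀ K ∈ Om, ∃ (p : ℕ) (D : Subgroup (HQ K)) (M : Set (Subgroup (HQ K))), LocSL Om K p D M

/-- **THEOREM F applies to `A`** -/
theorem Conf.isTor (g : AllSL Om) (k : Conf Om K1 K2 J) : Tor (k.A g.tri) where
  solv := g.solv
  comm a ha b hb := k.comm_A g.tri ha hb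
  sq a ha := by rw [pow_two]; exact k.sq_A g.tri g.ty ha
  card := (k.card_A g.tri).ge
  tor a ha ha1 b hb hb1 := by
    obtain ⟨N, hN, rfl⟩ := k.exists_zz g.tri g.ty hb hb1
    obtain ⟨p, D, M, loc⟩ := g.loc N hN.right
    by_cases hne : zz N = zz K1
    · have := g.tri.inj hN.right hN.left hne
      subst this
      exact k.tor_one g.tri g.ty loc ha ha1
    · exact k.tor_ne g.tri g.ty hN hb hne loc ha ha1
  two B hB h4 s hs hs1 := by
    obtain ⟨N, hN, rfl⟩ := k.exists_zz g.tri g.ty hs hs1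
    obtain ⟨p, D, M, loc⟩ := g.loc N hN.right
    by_cases hne : zz N = zz K1
    · have := g.tri.inj hN.right hN.left hne
      subst this
      exact k.two_one g.tri g.ty loc hB h4
    · exact k.two_ne g.tri g.ty hN hs hne loc hB h4

/-- existence of `z_J` -/
theorem exists_conf (g : AllSL Om) (ha : Adj Om K1 K2) (hne : K2 ≠ K1) : ∃ J, Conf Om K1 K2 J := by
  have t := g.tri
  obtain ⟨p, D, M, loc⟩ := g.loc K1 ha.left
  obtain ⟨L, hL, hLz, -, -⟩ := loc.mem K2 ha hne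
  obtain ⟨L', hp⟩ := loc.piece.exists_pr L hL
  obtain ⟨J', hT⟩ := loc.third L L' hp
  obtain ⟨N, hN, hNK, hNz⟩ := loc.surj J' hT.mem
  have c1 := adj_comm_zz t.hyp hN
  have c2 := adj_comm_zz t.hyp ha
  have m1 : zz N ∈ centralizer ({zz K1} : Set G) := mem_centralizer_singleton_iff.2 c1
  have m2 : zz K2 ∈ centralizer ({zz K1} : Set G) := mem_centralizer_singleton_iff.2 c2
  have m0 : zz K1 ∈ centralizer ({zz K1} : Set G) := mem_centralizer_singleton_iff.2 rfl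
  obtain ⟨x, hx, hxc⟩ := exists_conj_comm (X := XX (zz K1)) (odd_XX _) (t.hyp.zz_mul ha.right) (t.hyp.zz_mul hN.right)
    (centralizer_le_normalizer_XX _ m2) (centralizer_le_normalizer_XX _ m1) (by
      rw [← qt_eq_one (mul_mem (mul_mem (mul_mem m2 m1) (inv_mem m2)) (inv_mem m1)), t.hyp.zz_inv ha.right,
        t.hyp.zz_inv hN.right, qt_mul (mul_mem (mul_mem m2 m1) m2) m1, qt_mul (mul_mem m2 m1) m2, qt_mul m2 m1,
        ← hLz, ← hNz]
      have h3 := hT.comm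
      calc zz L * zz J' * zz L * zz J' = zz L * (zz J' * zz L) * zz J' := by group
        _ = (zz L * zz L) * (zz J' * zz J') := by rw [h3]; group
        _ = 1 := by rw [loc.piece.zsq L hL, loc.piece.zsq J' hT.mem, one_mul])
  have hxm : x ∈ centralizer ({zz K1} : Set G) := XX_le _ hx
  have hxK : cj x K1 = K1 := t.cj_eq ha.left (mem_centralizer_singleton_iff.1 hxm)
  have hJz : zz (cj x N) = x * zz N * x⁻¹ := t.hyp.zz_cj hN.right x
  have hq : qt K1 (zz (cj x N)) = zz J' := by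
    rw [hJz, qt_mul (mul_mem hxm m1) (inv_mem hxm), qt_mul hxm m1, (qt_eq_one hxm).2 hx,
      (qt_eq_one (inv_mem hxm)).2 (inv_mem hx), one_mul, mul_one, hNz]
  refine ⟨cj x N, ha, ?_, ?_, ?_, ?_, ?_, ?_⟩
  · exact fun h => hne (t.inj ha.right ha.left h)
  · have := hN.conj t.hyp.conj x
    rwa [hxK] at this
  · intro h
    have h1 := t.inj (t.hyp.conj _ hN.right x) ha.left h
    rw [← hxK] at h1
    exact hNK (cj_inj.1 h1)
  · rw [hJz]; exact hxc
  · intro h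
    rw [h, ← hLz] at hq
    exact hT.ne (loc.piece.det _ hT.mem _ hL hq.symm)
  · intro h
    rw [h, qt_mul m0 m2, ← hLz] at hq
    apply hT.ne'
    refine loc.piece.det _ hT.mem _ hp.right ?_
    rw [loc.piece.zb hp, ← hq, loc.piece.bc]

/-- `A` contains `E(S)` -/
theorem Conf.ES_le_E (t : Tri Om) (k : Conf Om K1 K2 J) {S : Sylow 2 G} (h1 : K1 ∈ OmS Om (S : Subgroup G))
    (h2 : K2 ∈ OmS Om (S : Subgroup G)) : ES Om (S : Subgroup G) = k.E t := by
  apply le_antisymm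
  · rw [ES_le_iff]
    intro K hK
    obtain ⟨L2, L3, hE, e1, e2, e3⟩ := t.exists_three S h1
    have h12 : K1 ≠ K2 := by rintro rfl; exact k.n2 rfl
    obtain ⟨K3, hE', h13, h23⟩ : ∃ K3, OmS Om (S : Subgroup G) = {K1, K2, K3} ∧ K1 ≠ K3 ∧ K2 ≠ K3 := by
      rw [hE] at h2
      rcases h2 with h2 | h2 | h2
      · exact absurd h2.symm h12
      · subst h2; exact ⟨L3, hE, e2, e3⟩
      · have h2' : K2 = L3 := h2
        subst h2'
        refine ⟨L2, ?_, e1, e3.symm⟩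
        rw [hE]; ext x; simp only [Set.mem_insert_iff, Set.mem_singleton_iff]; tauto
    have h3 := t.mul_eq S hE' h12
    rw [hE'] at hK
    rcases hK with rfl | rfl | hK
    · exact Or.inr (Or.inl rfl)
    · exact Or.inr (Or.inr (Or.inl rfl))
    · have hK' : K = K3 := hK
      subst hK'
      exact Or.inr (Or.inr (Or.inr h3.symm))
  · have m1 := zz_mem_ES (Om := Om) (S := (S : Subgroup G)) h1
    have m2 := zz_mem_ES (Om := Om) (S := (S : Subgroup G)) h2
    rintro x (rfl | rfl | rfl | rfl)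
    exacts [one_mem _, m1, m2, mul_mem m1 m2]

theorem Conf.card_E (t : Tri Om) (k : Conf Om K1 K2 J) : Nat.card (k.E t) = 4 :=
  card_four (t.hyp.zz_ne k.a2.left) (t.hyp.zz_ne k.a2.right) k.n2

/-- the preimage of a subgroup of `C(z_K) / O(C(z_K))` -/
def pre (K : Subgroup G) (R : Subgroup (HQ K)) : Subgroup G :=
  (R.comap (pr K)).map (centralizer ({zz K} : Set G)).subtype

omit [Finite G] in
theorem mem_pre {K : Subgroup G} {R : Subgroup (HQ K)} {x : G} :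
    x ∈ pre K R ↔ x ∈ centralizer ({zz K} : Set G) ∧ qt K x ∈ R := by
  constructor
  · rintro ⟨y, hy, rfl⟩
    refine ⟨y.2, ?_⟩
    have h1 : qt K (y : G) = pr K y := qt_eq y.2
    rw [coe_subtype, h1]
    exact hy
  · rintro ⟨h1, h2⟩
    rw [qt_eq h1] at h2
    exact ⟨⟨x, h1⟩, h2, rfl⟩

/-- preimage of a centraliser -/
theorem pre_centralizer {K : Subgroup G} {a : G} (ha : a ∈ centralizer ({zz K} : Set G)) (haa : a * a = 1) :
    pre K (centralizer {qt K a}) ≤ XX (zz K) ⊔ (centralizer {zz K} ⊓ centralizer {a}) := by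
  intro x hx
  obtain ⟨hx1, hx2⟩ := mem_pre.1 hx
  rw [qt_eq ha, ← centralizer_map (pr_surjective K) (CoreTools.odd_ker (ker_pr K)) (z := ⟨a, ha⟩)
    (Subtype.ext haa)] at hx2
  obtain ⟨y, hy, hyx⟩ := hx2
  have h1 : (y : G) ∈ centralizer ({zz K} : Set G) ⊓ centralizer {a} := by
    refine ⟨y.2, ?_⟩
    have := mem_centralizer_singleton_iff.1 hy
    exact mem_centralizer_singleton_iff.2 (congrArg Subtype.val this)
  have h2 : x * (y : G)⁻¹ ∈ XX (zz K) := by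
    rw [← qt_eq_one (mul_mem hx1 (inv_mem y.2)), qt_mul hx1 (inv_mem y.2), qt_eq (inv_mem y.2)]
    have h3 : pr K ⟨(y : G)⁻¹, inv_mem y.2⟩ = (pr K y)⁻¹ := by rw [← map_inv]; rfl
    rw [h3, hyx, mul_inv_cancel]
  have h3 : x = (x * (y : G)⁻¹) * y := by group
  rw [h3]
  exact mul_mem (mem_sup_left h2) (mem_sup_right h1)

omit [Finite G] in
theorem centralizer_le_normalizer_pre {K : Subgroup G} {R : Subgroup (HQ K)}
    (hR : ∀ g : HQ K, g ∈ normalizer (R : Set (HQ K))) : centralizer {zz K} ≤ normalizer (pre K R : Set G) := by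
  apply SignalizersComponents.GoldschmidtGen.le_normalizer_of_conj_mem
  intro g hg x hx
  obtain ⟨h1, h2⟩ := mem_pre.1 hx
  refine mem_pre.2 ⟨mul_mem (mul_mem hg h1) (inv_mem hg), ?_⟩
  rw [qt_mul (mul_mem hg h1) (inv_mem hg), qt_mul hg h1]
  have h3 : qt K g⁻¹ = (qt K g)⁻¹ := by
    rw [qt_eq hg, qt_eq (inv_mem hg), ← map_inv]; rfl
  rw [h3]
  exact (mem_normalizer_iff.1 (hR _) _).1 h2

/-- generation of `C(z_K)` modulo the normaliser of `D(S)` -/
theorem Conf.gen (g : AllSL Om) (k : Conf Om K1 K2 J) {S : Sylow 2 G} {K : Subgroup G}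
    (hKS : K ∈ OmS Om (S : Subgroup G)) (hK : Adj Om K1 K) (hKA : zz K ∈ k.A g.tri) :
    ∃ L : Subgroup G, centralizer {zz K} ≤ normalizer (L : Set G) ∧ DD Om (S : Subgroup G) ≤ L ∧
      L ≤ XX (zz K) ⊔ ⨆ (b : G) (_ : b ∈ k.A g.tri ∧ b ≠ 1 ∧ b ≠ zz K), centralizer {zz K} ⊓ centralizer {b} := by
  have t := g.tri
  obtain ⟨p, D, M, loc⟩ := g.loc K hK.right
  have hA := k.le_centralizer g.tri hKA
  have hz1 := k.z1_mem g.tri
  -- it is enough to find two elements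
  suffices hsuf : ∃ a ∈ k.A g.tri, ∃ a' ∈ k.A g.tri, a ≠ 1 ∧ a ≠ zz K ∧ a' ≠ 1 ∧ a' ≠ zz K ∧ qt K a ∈ D ∧
      D ≤ centralizer {qt K a} ⊔ centralizer {qt K a'} by
    obtain ⟨a, ha, a', ha', n1, n2, n3, n4, haD, hDle⟩ := hsuf
    refine ⟨pre K (D ⊔ centralizer (D : Set (HQ K))), centralizer_le_normalizer_pre ?_, ?_, ?_⟩
    · intro x
      rw [mem_normalizer_iff_cj, cj_sup, mem_normalizer_iff_cj.1 (loc.nor x), CoreTools.cj_centralizer_set,
        mem_normalizer_iff_cj.1 (loc.nor x)]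
    · rw [DD_le_iff]
      intro N hN x hx
      by_cases hNK : N = K
      · subst hNK
        refine mem_pre.2 ⟨t.hyp.le_centralizer hN.1 hx.1, mem_sup_right ?_⟩
        exact loc.own _ (syl_inf S.isPGroup' hN) x hx
      · have hadj : Adj Om K N := ⟨S, hKS, hN⟩
        obtain ⟨N', hN', -, h1, -⟩ := loc.mem N hadj hNK
        have h2 : N ⊓ S ≤ centralizer {zz K} := fun y hy => mem_centralizer_singleton_iff.2
          (t.hyp.comm S.isPGroup' hN hKS hNK hy (t.hyp.zz_mem_inf S.isPGroup' hKS))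
        exact mem_pre.2 ⟨h2 hx, mem_sup_left (loc.piece.le N' hN' (h1 _ (syl_inf S.isPGroup' hN) h2 x hx))⟩
    · have hb : ∀ b ∈ k.A g.tri, b ≠ 1 → b ≠ zz K → centralizer {zz K} ⊓ centralizer {b} ≤
          XX (zz K) ⊔ ⨆ (b : G) (_ : b ∈ k.A g.tri ∧ b ≠ 1 ∧ b ≠ zz K), centralizer {zz K} ⊓ centralizer {b} := by
        intro b hb h1 h2
        exact le_sup_of_le_right (le_iSup₂ (f := fun (b : G) (_ : b ∈ k.A g.tri ∧ b ≠ 1 ∧ b ≠ zz K) =>
          centralizer {zz K} ⊓ centralizer {b}) b ⟨hb, h1, h2⟩)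
      have hpre : ∀ b ∈ k.A g.tri, b ≠ 1 → b ≠ zz K → pre K (centralizer {qt K b}) ≤
          XX (zz K) ⊔ ⨆ (b : G) (_ : b ∈ k.A g.tri ∧ b ≠ 1 ∧ b ≠ zz K), centralizer {zz K} ⊓ centralizer {b} :=
        fun b hbA h1 h2 => (pre_centralizer (hA hbA) (k.sq_A g.tri g.ty hbA)).trans
          (sup_le le_sup_left (hb b hbA h1 h2))
      -- `D ⊔ C(D) ≤ C(a) ⊔ C(a')`
      have h3 : D ⊔ centralizer (D : Set (HQ K)) ≤ centralizer {qt K a} ⊔ centralizer {qt K a'} := by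
        refine sup_le hDle (le_sup_of_le_left ?_)
        exact centralizer_le (Set.singleton_subset_iff.2 haD)
      intro x hx
      obtain ⟨hx1, hx2⟩ := mem_pre.1 hx
      have h4 := h3 hx2
      rw [qt_eq hx1] at h4
      set R := XX (zz K) ⊔ ⨆ (b : G) (_ : b ∈ k.A g.tri ∧ b ≠ 1 ∧ b ≠ zz K), centralizer {zz K} ⊓ centralizer {b}
        with hR
      have h5 : centralizer {qt K a} ⊔ centralizer {qt K a'} ≤
          (R.subgroupOf (centralizer ({zz K} : Set G))).map (pr K) := by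
        refine sup_le ?_ ?_
        · intro y hy
          obtain ⟨⟨y, hy1⟩, rfl⟩ := pr_surjective K y
          rw [← qt_eq hy1] at hy
          exact ⟨⟨y, hy1⟩, hpre a ha n1 n2 (mem_pre.2 ⟨hy1, hy⟩), rfl⟩
        · intro y hy
          obtain ⟨⟨y, hy1⟩, rfl⟩ := pr_surjective K y
          rw [← qt_eq hy1] at hy
          exact ⟨⟨y, hy1⟩, hpre a' ha' n3 n4 (mem_pre.2 ⟨hy1, hy⟩), rfl⟩
      obtain ⟨⟨y, hy1⟩, hy2, hyx⟩ := h5 h4
      have h6 : x * y⁻¹ ∈ XX (zz K) := by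
        rw [← qt_eq_one (mul_mem hx1 (inv_mem hy1)), qt_eq (mul_mem hx1 (inv_mem hy1))]
        have h7 : (⟨x * y⁻¹, mul_mem hx1 (inv_mem hy1)⟩ : centralizer ({zz K} : Set G)) = ⟨x, hx1⟩ * ⟨y, hy1⟩⁻¹ := rfl
        rw [h7, map_mul, map_inv, hyx, mul_inv_cancel]
      have h8 : x = (x * y⁻¹) * y := by group
      rw [h8]
      exact mul_mem (mem_sup_left h6) hy2
  by_cases hne : zz K = zz K1
  · have := g.tri.inj hK.right hK.left hne
    subst this
    have hz2 := k.z2_mem g.tri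
    have hzJ := k.zJ_mem g.tri
    obtain ⟨L, hL, hLz, -, -⟩ := loc.mem K2 k.a2 (by rintro rfl; exact k.n2 rfl)
    obtain ⟨N, hN, hNz, -, -⟩ := loc.mem J k.aJ (by rintro rfl; exact k.nJ rfl)
    obtain ⟨L', hp⟩ := loc.piece.exists_pr L hL
    have hinj : ∀ x ∈ k.A g.tri, ∀ y ∈ k.A g.tri, qt K x = qt K y → x = y := fun x hx y hy h =>
      eq_of_qt_eq (hA hx) (hA hy) (k.sq_A g.tri g.ty hx) (k.sq_A g.tri g.ty hy) (k.comm_A g.tri hx hy) h
    have hT : Th M L L' N := by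
      refine ⟨hN, ?_, ?_, ?_⟩
      · rintro rfl
        exact k.n (hinj _ hzJ _ hz2 (hNz.symm.trans hLz))
      · rintro rfl
        have h5 := loc.piece.zb hp
        rw [hNz, hLz, ← loc.piece.bc, ← qt_mul (hA hz1) (hA hz2)] at h5
        exact k.n' (hinj _ hzJ _ (mul_mem hz1 hz2) h5)
      · rw [hNz, hLz]; exact k.qt_comm g.tri hKA hzJ hz2
    refine ⟨zz K2, hz2, zz J, hzJ, t.hyp.zz_ne k.a2.right, k.n2, t.hyp.zz_ne k.aJ.right, k.nJ, ?_, ?_⟩
    · rw [← hLz]; exact loc.piece.le L hL (loc.piece.zmem L hL)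
    · rw [← hLz, ← hNz]; exact loc.piece.le_inner hp hT
  · obtain ⟨L, L', hp, hLz, hLz', hrf⟩ := k.rf g.tri g.ty hK hKA hne loc
    obtain ⟨c, hc, hcE⟩ := exists_not_mem_of_card (k.card_EK g.tri hK hne) (k.card_A g.tri)
    have n1 : c ≠ 1 := by rintro rfl; exact hcE (one_mem _)
    have n2 : c ≠ zz K := by rintro rfl; exact hcE (Or.inr (Or.inr (Or.inl rfl)))
    have r := hrf c hc n1 n2
      (by rintro rfl; exact hcE (Or.inr (Or.inl rfl))) (by rintro rfl; exact hcE (Or.inr (Or.inr (Or.inr rfl))))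
    refine ⟨zz K1, hz1, c, hc, t.hyp.zz_ne hK.left, Ne.symm hne, n1, n2, ?_, ?_⟩
    · rw [← hLz]; exact loc.piece.le L hp.left (loc.piece.zmem L hp.left)
    · rw [← hLz]; exact r.le loc.piece

/-- the data of COROLLARY E -/
theorem Conf.cdata (g : AllSL Om) (k : Conf Om K1 K2 J) {S : Sylow 2 G} (h1 : K1 ∈ OmS Om (S : Subgroup G))
    (h2 : K2 ∈ OmS Om (S : Subgroup G)) : CData Om (S : Subgroup G) (k.A g.tri) (DF (k.A g.tri)) where
  out := (k.isTor g).fout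
  sq a ha := k.sq_A g.tri g.ty ha
  comm a ha b hb := k.comm_A g.tri ha hb
  le := by rw [k.ES_le_E g.tri h1 h2]; exact le_ext
  four := ⟨k.E g.tri, (k.ES_le_E g.tri h1 h2).ge, k.card_E g.tri⟩
  gen K hK := by
    refine k.gen g hK ⟨S, h1, hK⟩ ?_
    have h3 := zz_mem_ES hK
    rw [k.ES_le_E g.tri h1 h2] at h3
    exact le_ext h3

/-- `D(A) = 1` -/
theorem Conf.DF_eq_bot (g : AllSL Om) (k : Conf Om K1 K2 J)
    (hcon : ∀ K ∈ Om, ∀ L ∈ Om, Relation.ReflTransGen (Adj Om) K L)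
    (hO : ∀ N : Subgroup G, N.Normal → ¬ 2 ∣ Nat.card N → N = ⊥) : DF (k.A g.tri) = ⊥ := by
  have hex : ∀ S : Sylow 2 G, ∃ A : Subgroup G, CData Om (S : Subgroup G) A (DF A) := by
    intro S
    obtain ⟨K, hK⟩ := g.tri.hyp.OmS_nonempty S ⟨_, k.a2.left⟩
    obtain ⟨L2, L3, hE, e1, e2, e3⟩ := g.tri.exists_three S hK
    have hL2 : L2 ∈ OmS Om (S : Subgroup G) := by rw [hE]; simp
    obtain ⟨J', k'⟩ := exists_conf g (K1 := K) (K2 := L2) ⟨S, hK, hL2⟩ (Ne.symm e1)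
    exact ⟨_, k'.cdata g hK hL2⟩
  choose A hA using hex
  obtain ⟨S, h1, h2⟩ := k.a2
  have h3 := CData.eq_bot g.tri.hyp ⟨_, k.a2.left⟩ hcon hO A (fun S => DF (A S)) hA S
  rw [(k.cdata g h1 h2).eq_DE, ← (hA S).eq_DE]
  exact h3

end Cfsg.Agent.Cit.ThreeCore
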