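import Cfsg.Agent.Cit.SpFin
import Cfsg.Agent.Cit.SL4Cores

/-!
# `|Om(S)| = 3`, `z₁ z₂ z₃ = 1`: the cores

* `LinCase` : the pieces are of type `SL₄(q)`, `SU₄(q)` (`Sp4.SpCase`, helper511: of type `Sp₄(q)`);
  `DichStmt` : the dichotomy;
* `coreE_of`, `coresFour`, `coresC`, `coresA` : the cores (`CoreThree.CoresFourStmt`, `CoresCStmt`, `CoresAStmt`).
-/

set_option autoImplicit false
set_option linter.style.haveILetI false

namespace Cfsg.Agent.Cit.ThreeCores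

open Subgroup Cfsg Cfsg.Agent.Cit Cfsg.Agent.Cit.UseT Cfsg.Agent.Cit.SubCent Cfsg.Agent.Cit.CoreThree
open Cfsg.Agent.Cit.Branches Cfsg.Agent.Cit.CoresG Cfsg.Agent.Cit.CoreOne

universe u

/-- the pieces are of type `SL₄(q)`, `SU₄(q)` -/
def LinCase {G : Type*} [Group G] (Om : Set (Subgroup G)) : Prop :=
  ∀ S : Sylow 2 G, ∀ K ∈ OmS Om (S : Subgroup G), ∀ L ∈ OmS Om (S : Subgroup G), K ≠ L →
    SL4Loc.Lin4 (fam Om (centralizer {zz K})) (PP Om K L)

/-- **the dichotomy** -/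
def DichStmt : Prop := ∀ (G : Type u) [Group G] [Finite G] (Om : Set (Subgroup G)), MinS Om → TriFact.Pre Om →
  Con Om → ∀ τ : Nodes.Chart.Ty, Typed Om τ → Sp4.SpCase Om ∨ LinCase Om

/-- **the cores** -/
theorem coreE_of (i : Sp4.In.{u}) (hct : CTStmt.{u}) (hD : DichStmt.{u}) {G : Type u} [Group G] [Finite G]
    {Om : Set (Subgroup G)} (hm : MinS Om) (hp : TriFact.Pre Om) (hco : Conn Om) (hcon : Con Om)
    {τ : Nodes.Chart.Ty} (ht : Typed Om τ) : CoreE Om := by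
  rcases hD G Om hm hp hcon τ ht with h | h
  · exact Sp4.coreE_of_sp i hm hp hco hcon h
  · exact SL4Loc.coreE hm hp hco hcon i.odd i.fix hct ht h

/-- **the cores for `z₁ z₂ z₃ = 1`** -/
theorem coresFour (i : Sp4.In.{u}) (hct : CTStmt.{u}) (hD : DichStmt.{u}) (hT : TypeStmt.{u}) :
    CoresFourStmt.{u} := by
  intro G _ _ Om hm hp hco hcon
  obtain ⟨τ, -, ht⟩ := hT G Om hm hp.three (fun K hK L hL e => hp.inj hK hL e) hcon
  exact coreE_of i hct hD hm hp hco hcon ht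

/-- the cores for `z₁ z₂ z₃ = 1`, every type -/
theorem coresTyped (i : Sp4.In.{u}) (hct : CTStmt.{u}) (hD : DichStmt.{u}) (hd4 : DisFourStmt.{u}) (G : Type u)
    [Group G] [Finite G] (Om : Set (Subgroup G)) (hm : MinS Om) (hp : TriFact.Pre Om) (hco : Conn Om)
    (τ : Nodes.Chart.Ty) (ht : Typed Om τ) : CoreE Om :=
  coreE_of i hct hD hm hp hco (con_or_dis.resolve_right fun h => hd4 G Om hm hp hco h) ht

/-- **the cores for `z₁ z₂ z₃ = 1`, type `C₂`** -/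
theorem coresC (i : Sp4.In.{u}) (hct : CTStmt.{u}) (hD : DichStmt.{u}) (hd4 : DisFourStmt.{u}) : CoresCStmt.{u} :=
  fun G _ _ Om hm hp hco ht => coresTyped i hct hD hd4 G Om hm hp hco _ ht

/-- **the cores for `z₁ z₂ z₃ = 1`, type `A₃`** -/
theorem coresA (i : Sp4.In.{u}) (hct : CTStmt.{u}) (hD : DichStmt.{u}) (hd4 : DisFourStmt.{u}) : CoresAStmt.{u} :=
  fun G _ _ Om hm hp hco ht => coresTyped i hct hD hd4 G Om hm hp hco _ ht

end Cfsg.Agent.Cit.ThreeCores
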