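import Cfsg.Agent.Cit.ThreeIdA
import Cfsg.Agent.Cit.SpLift3
import Cfsg.Agent.Cit.LongLeafEnd

/-!
# Pieces `D` with `D / Z(D) ≅ PSp₄(q)`: the facts `SpFacts`
-/

set_option autoImplicit false
set_option linter.style.haveILetI false
set_option linter.unusedSectionVars false

namespace Cfsg.Agent.Cit.ThreeIdA

open Subgroup Cfsg Matrix Cfsg.Agent.Cit OneBasic Cfsg.Agent.Cit.LongAbs Cfsg.Agent.Cit.LongBlock
  Cfsg.Agent.Cit.LongQuot Cfsg.Agent.Cit.LongMain Cfsg.Agent.Cit.LongModel Cfsg.Agent.Cit.LongInst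
  Cfsg.Agent.Cit.LongTwo Cfsg.Agent.Cit.LongConj Cfsg.Agent.Cit.LongLeaf Cfsg.Agent.Cit.LongLeafEnd
  Cfsg.Agent.Cit.LongSp Cfsg.Agent.Cit.SpLift Cfsg.Agent.SignalizersComponents.Components

variable {X : Type*} [Group X] [Finite X] {F : Set (Subgroup X)} {D A B : Subgroup X}

namespace Blk2

/-- two commuting members are in one `F(S)` -/
theorem exists_common (_b : Blk2 F D) (hA : A ∈ F) (hB : B ∈ F) (hAD : A ≤ D) (hBD : B ≤ D)
    (hc : ∀ x ∈ A, ∀ y ∈ B, x * y = y * x) : ∃ S : Subgroup D, IsPGroup 2 S ∧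
      A.subgroupOf D ∈ OmS (restr F D) S ∧ B.subgroupOf D ∈ OmS (restr F D) S := by
  haveI : Fact (Nat.Prime 2) := ⟨Nat.prime_two⟩
  obtain ⟨Q, hQ⟩ := Hyp.exists_syl (A.subgroupOf D)
  obtain ⟨Q', hQ'⟩ := Hyp.exists_syl (B.subgroupOf D)
  have hcQ : Q ≤ normalizer (Q' : Set D) := by
    intro x hx
    refine mem_normalizer_of_cent fun y hy => ?_
    exact Subtype.ext (hc x (hQ.1 hx) y (hQ'.1 hy))
  exact ⟨Q ⊔ Q', hQ.2.1.to_sup_of_normal_right' hQ'.2.1 hcQ, mem_OmS_of_le (sub_mem hA hAD) hQ le_sup_left,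
    mem_OmS_of_le (sub_mem hB hBD) hQ' le_sup_right⟩

theorem mul' (b : Blk2 F D) (hA : A ∈ F) (hB : B ∈ F) (hAD : A ≤ D) (hBD : B ≤ D) (hne : A ≠ B)
    (hc : ∀ x ∈ A, ∀ y ∈ B, x * y = y * x) : ∀ x ∈ D, x * (zz A * zz B) = zz A * zz B * x := by
  obtain ⟨S, hS, h1, h2⟩ := b.exists_common hA hB hAD hBD hc
  rw [mem_OmS_restr, map_subgroupOf_eq_of_le hAD] at h1
  rw [mem_OmS_restr, map_subgroupOf_eq_of_le hBD] at h2
  exact b.mul (hS.map _) h1 h2 hAD hBD hne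

theorem base (b : Blk2 F D) (qs : IsQuasisimple D) : Base (img (pi D) (restr F D)) where
  hyp := b.hypX
  ty := b.tyX
  ne := b.neX
  cls := by
    intro K hK J hJ
    obtain ⟨g, hg⟩ := b.twoEq.cls K hK J hJ
    exact ⟨g, hg.symm⟩
  simple := qs.2

theorem twoCen (b : Blk2 F D) : TwoCen (img (pi D) (restr F D)) := by
  obtain ⟨K, hK⟩ := b.neX
  obtain ⟨S, hKS, -⟩ := b.hypX.exists_sylow hK
  exact twoCen_of_eq b.hypX S hKS fun J hJ => b.twoEq.same S J hJ K hKS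

/-- **the cover** -/
theorem exists_cov (b : Blk2 F D) (qs : IsQuasisimple D) {F0 : Type} [Field F0] [Fintype F0]
    (ho : Odd (Fintype.card F0)) (e : (D ⧸ center D) ≃* PSp 2 F0) (hA : A ∈ F) (hB : B ∈ F) (hAD : A ≤ D)
    (hBD : B ≤ D) (hne : A ≠ B) (hc : ∀ x ∈ A, ∀ y ∈ B, x * y = y * x) (hzz : zz A ≠ zz B) :
    ∃ φ : D →* QQ F0, Cov φ (A.subgroupOf D) (B.subgroupOf D) ⟨zz A, hAD (b.hyp.zz_mem hA)⟩
      ⟨zz B, hBD (b.hyp.zz_mem hB)⟩ := by
  have h2 : (2 : F0) ≠ 0 := SignalizersComponents.SLQuasisimple.two_ne_zero_of_odd ho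
  have B0 := b.base qs
  have B' := B0.map e
  obtain ⟨K', hK', S, hS⟩ := b.twoCen.map B0 e
  obtain ⟨g1, hg1⟩ := sp4_two_central ho S (B'.hyp.zz_mul hK') (B'.hyp.zz_ne hK') hS
  have mA : (A.subgroupOf D).map (pi D) ∈ img (pi D) (restr F D) := ⟨_, sub_mem hA hAD, rfl⟩
  have mB : (B.subgroupOf D).map (pi D) ∈ img (pi D) (restr F D) := ⟨_, sub_mem hB hBD, rfl⟩
  have mA' : ((A.subgroupOf D).map (pi D)).map e.toMonoidHom ∈ img e.toMonoidHom (img (pi D) (restr F D)) :=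
    ⟨_, mA, rfl⟩
  have mB' : ((B.subgroupOf D).map (pi D)).map e.toMonoidHom ∈ img e.toMonoidHom (img (pi D) (restr F D)) :=
    ⟨_, mB, rfl⟩
  obtain ⟨g2, hg2⟩ := B'.cls _ mA' _ hK'
  have hg3 : (g1 * g2) * zz (((A.subgroupOf D).map (pi D)).map e.toMonoidHom) * (g1 * g2)⁻¹ = z0 (spRep F0) := by
    rw [hg2, B'.hyp.zz_cj mA'] at hg1
    rw [← hg1]
    group
  obtain ⟨g, hg⟩ := (sp_leaf ho).exists_cj B'.hyp mA' (B'.ty _ mA') hg3
  let ψ : D →* QQ F0 := (MulAut.conj g).toMonoidHom.comp (e.toMonoidHom.comp (pi D))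
  have hψ : ∀ x, ψ x = g * e (pi D x) * g⁻¹ := fun x => rfl
  have hψmap : ∀ J : Subgroup D, J.map ψ = cj g ((J.map (pi D)).map e.toMonoidHom) := by
    intro J
    rw [Subgroup.map_map, cj, Subgroup.map_map]
  have hsurj : Function.Surjective ψ :=
    (MulAut.conj g).surjective.comp (e.surjective.comp (QuotientGroup.mk'_surjective _))
  have hker : ψ.ker = center D := by
    ext x
    rw [MonoidHom.mem_ker, hψ, ← QuotientGroup.eq_one_iff (N := center D)]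
    constructor
    · intro h
      have h3 : e (pi D x) = 1 := by
        calc e (pi D x) = g⁻¹ * (g * e (pi D x) * g⁻¹) * g := by group
          _ = 1 := by rw [h]; group
      exact (e.map_eq_one_iff).1 h3
    · intro h
      have h3 : pi D x = 1 := h
      rw [h3, map_one]
      group
  have hinf : ∀ J ∈ restr F D, J ⊓ ψ.ker = ⊥ := fun J hJ => by rw [hker]; exact b.inf_center hJ
  have hmA : (A.subgroupOf D).map ψ = D1 (spRep F0) := by rw [hψmap, hg]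
  obtain ⟨eD⟩ := eD1 F0
  have hD1 : D1 (spRep F0) ∈ img e.toMonoidHom (img (pi D) (restr F D)) := by
    rw [← hg]; exact B'.hyp.conj _ mA' g
  have mB'' : (B.subgroupOf D).map ψ ∈ img e.toMonoidHom (img (pi D) (restr F D)) := by
    rw [hψmap]; exact B'.hyp.conj _ mB' g
  have hzA : zz A * zz A = 1 := b.hyp.zz_mul hA
  have hzB : zz B * zz B = 1 := b.hyp.zz_mul hB
  have hzA1 : zz A ≠ 1 := b.hyp.zz_ne hA
  have hzB1 : zz B ≠ 1 := b.hyp.zz_ne hB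
  -- `ψ z_A = z₀`
  have hz0 : ψ ⟨zz A, hAD (b.hyp.zz_mem hA)⟩ = z0 (spRep F0) := by
    refine sl_unique h2 eD z0_mem z0_mul ?_ ?_ ?_ ?_
    · intro h
      have h5 : (spRep F0).t ∈ center (SpGen.Γ F0) := pr_eq_one.1 h
      have h6 := congrArg (spRep F0).ρ (E1_center (spRep F0) (spRep F0).t_mem h5)
      rw [(spRep F0).t_eq, map_one, ← fromBlocks_one, fromBlocks_inj] at h6
      have h7 := congrFun (congrFun h6.1 0) 0
      simp at h7
      apply h2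
      have : (1 : F0) + 1 = 0 := by nth_rewrite 1 [← h7]; ring
      rw [← this]; norm_num
    · rw [← hmA]
      exact mem_map_of_mem ψ (mem_subgroupOf.2 (b.hyp.zz_mem hA))
    · rw [← map_mul]
      have : (⟨zz A, hAD (b.hyp.zz_mem hA)⟩ : D) * ⟨zz A, hAD (b.hyp.zz_mem hA)⟩ = 1 := Subtype.ext hzA
      rw [this, map_one]
    · intro h
      apply hzA1
      have h3 : (⟨zz A, hAD (b.hyp.zz_mem hA)⟩ : D) ∈ A.subgroupOf D ⊓ ψ.ker :=
        ⟨mem_subgroupOf.2 (b.hyp.zz_mem hA), h⟩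
      rw [hinf _ (sub_mem hA hAD), mem_bot] at h3
      exact congrArg Subtype.val h3
  have hz0' : ψ ⟨zz B, hBD (b.hyp.zz_mem hB)⟩ = z0 (spRep F0) := by
    have h3 : (⟨zz A, hAD (b.hyp.zz_mem hA)⟩ : D) * ⟨zz B, hBD (b.hyp.zz_mem hB)⟩ ∈ ψ.ker := by
      rw [hker, mem_center_iff]
      intro x
      exact Subtype.ext (b.mul' hA hB hAD hBD hne hc x x.2)
    rw [MonoidHom.mem_ker, map_mul, hz0] at h3
    calc ψ ⟨zz B, hBD (b.hyp.zz_mem hB)⟩
        = z0 (spRep F0) * (z0 (spRep F0) * ψ ⟨zz B, hBD (b.hyp.zz_mem hB)⟩) := by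
          rw [← mul_assoc, z0_mul, one_mul]
      _ = z0 (spRep F0) := by rw [h3, mul_one]
  have hz0B : z0 (spRep F0) ∈ (B.subgroupOf D).map ψ := by
    rw [← hz0']
    exact mem_map_of_mem ψ (mem_subgroupOf.2 (b.hyp.zz_mem hB))
  have hzne : z0 (spRep F0) ≠ 1 := by
    intro h
    apply hzA1
    have h3 : (⟨zz A, hAD (b.hyp.zz_mem hA)⟩ : D) ∈ A.subgroupOf D ⊓ ψ.ker :=
      ⟨mem_subgroupOf.2 (b.hyp.zz_mem hA), hz0.trans h⟩
    rw [hinf _ (sub_mem hA hAD), mem_bot] at h3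
    exact congrArg Subtype.val h3
  have hord : orderOf (z0 (spRep F0)) = 2 := by
    rw [orderOf_eq_prime_iff]
    exact ⟨by rw [pow_two, z0_mul], hzne⟩
  have hzB' : zz ((B.subgroupOf D).map ψ) = z0 (spRep F0) := (B'.hyp.uniq _ mB'' _ hz0B hord).symm
  have hBC : (B.subgroupOf D).map ψ ≤ CC (spRep F0) := by
    have := B'.hyp.le_centralizer mB''
    rwa [hzB'] at this
  have hsn : (((B.subgroupOf D).map ψ).subgroupOf (CC (spRep F0))).IsSubnormal := by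
    have := B'.hyp.sub _ mB''
    rwa [hzB'] at this
  obtain ⟨k, hk⟩ := B'.cls _ hD1 _ mB''
  have eB : (B.subgroupOf D).map ψ ≃* SL F0 := by
    rw [hk]
    exact ((eD.trans (cjEquiv k (D1 (spRep F0))))).symm
  have hmB : (B.subgroupOf D).map ψ = D2 (spRep F0) := by
    rcases (sp_leaf ho).good.main_exact hBC hsn hz0B ho ⟨eB⟩ with h3 | ⟨-, h3⟩
    · exfalso
      apply hne
      obtain ⟨T, hT, h4, h5⟩ := b.exists_common hA hB hAD hBD hc
      have h6 : A.subgroupOf D = B.subgroupOf D :=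
        inj_OmS (b.hyp.restr D) hker.le hinf hT h4 h5 (hmA.trans h3.symm)
      rw [← map_subgroupOf_eq_of_le hAD, ← map_subgroupOf_eq_of_le hBD, h6]
    · exact h3
  refine ⟨ψ, ⟨ho, hsurj, hker, ?_, b.two, ?_, ?_, hmA, hmB, ?_, ?_, Subtype.ext hzA, ?_, ?_, Subtype.ext hzB, ?_, ?_,
    ?_⟩⟩
  · exact qs.1.commutator_eq_top
  · have e1 := QuoCen.equivMap (hinf _ (sub_mem hA hAD))
    rw [hmA] at e1
    exact ⟨eD.trans e1.symm⟩
  · have e1 := QuoCen.equivMap (hinf _ (sub_mem hB hBD))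
    exact ⟨(e1.trans eB).symm⟩
  · intro x hx y hy
    exact Subtype.ext (hc x (mem_subgroupOf.1 hx) y (mem_subgroupOf.1 hy))
  · exact mem_subgroupOf.2 (b.hyp.zz_mem hA)
  · exact fun h => hzA1 (congrArg Subtype.val h)
  · exact mem_subgroupOf.2 (b.hyp.zz_mem hB)
  · exact fun h => hzB1 (congrArg Subtype.val h)
  · exact fun h => hzz (congrArg Subtype.val h)
  · refine ⟨g1 • S, fun s hs => ?_⟩
    rw [Sylow.coe_subgroup_smul, mem_pointwise_smul_iff_inv_smul_mem] at hs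
    have h3 : g1⁻¹ * s * g1 ∈ (S : Subgroup (QQ F0)) := by
      have h4 : (MulAut.conj g1)⁻¹ • s = g1⁻¹ * s * g1 := by
        rw [MulAut.smul_def, ← map_inv, MulAut.conj_apply, inv_inv]
      rwa [h4] at hs
    have h4 := hS _ h3
    rw [← hg1]
    calc s * (g1 * zz K' * g1⁻¹) = g1 * ((g1⁻¹ * s * g1) * zz K') * g1⁻¹ := by group
      _ = g1 * (zz K' * (g1⁻¹ * s * g1)) * g1⁻¹ := by rw [h4]
      _ = g1 * zz K' * g1⁻¹ * s := by group

/-- **(P3)** -/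
theorem exists_spFacts (b : Blk2 F D) (qs : IsQuasisimple D) (comp : IsComponent D) {F0 : Type} [Field F0]
    [Fintype F0] (ho : Odd (Fintype.card F0)) (e : (D ⧸ center D) ≃* PSp 2 F0) (hA : A ∈ F) (hB : B ∈ F)
    (hAD : A ≤ D) (hBD : B ≤ D) (hne : A ≠ B) (hc : ∀ x ∈ A, ∀ y ∈ B, x * y = y * x) (hzz : zz A ≠ zz B) {p : ℕ}
    [Fact p.Prime] [CharP F0 p] : Sp4.SpFacts p F0 D A B := by
  obtain ⟨φ, c⟩ := b.exists_cov qs ho e hA hB hAD hBD hne hc hzz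
  exact spFacts comp hAD hBD (b.hyp.zz_mem hA) (b.hyp.zz_mem hB) c

end Blk2

end Cfsg.Agent.Cit.ThreeIdA
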