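import Cfsg.Agent.Cit.QuoCen
import Cfsg.Agent.Cit.TBasic
import Cfsg.Agent.Cit.TwoFK.Base
import Cfsg.Agent.Cit.TwoW

/-!
# `D / Z(D)` for a piece `D` with two commuting members `K`, `L`, `z_K z_L ∈ Z(D)`

`Blk2 F D` : the data; `Blk2.twoEq` : `TwoEq` for the images of the members in `D / Z(D)`.
-/

set_option autoImplicit false
set_option linter.style.haveILetI false
set_option linter.unusedSectionVars false

namespace Cfsg.Agent.Cit.ThreeIdA

open Subgroup Cfsg Cfsg.Agent.Cit OneBasic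
open Cfsg.Agent.Cit.TwoFK (TwoEq)

/-! ### central quotients -/

section Cen

variable {Y X : Type*} [Group Y] [Group X] [Finite Y] {Om : Set (Subgroup Y)} {f : Y →* X} {K L : Subgroup Y}

theorem mem_OmS_img {S : Subgroup X} {J : Subgroup X} :
    J ∈ OmS (img f Om) S ↔ ∃ K ∈ OmS Om (S.comap f), K.map f = J := by
  constructor
  · rintro ⟨⟨K, hK, rfl⟩, h2⟩
    exact ⟨K, ⟨hK, by rwa [relIndex_comap]⟩, rfl⟩
  · rintro ⟨K, ⟨hK, h2⟩, rfl⟩
    exact ⟨⟨K, hK, rfl⟩, by rwa [relIndex_comap] at h2⟩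

/-- `f` is injective on `Om(T)` -/
theorem inj_OmS (hyp : Hyp Om) (cen : f.ker ≤ center Y) (inf : ∀ K ∈ Om, K ⊓ f.ker = ⊥) {T : Subgroup Y}
    (hT : IsPGroup 2 T) (hK : K ∈ OmS Om T) (hL : L ∈ OmS Om T) (h : K.map f = L.map f) : K = L := by
  have ccomm : ∀ {a : Y}, a ∈ f.ker → ∀ g : Y, g * a = a * g := fun ha g => mem_center_iff.1 (cen ha) g
  by_contra hne
  obtain ⟨y, hy, hyT, hy4⟩ : ∃ y ∈ L, y ∈ T ∧ orderOf y = 4 := by
    obtain ⟨a, b, n, gq⟩ := hyp.exists_gq hL.1 (syl_inf hT hL)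
    exact ⟨b, gq.v_mem.1, gq.v_mem.2, gq.orderOf_v⟩
  have h1 : f y ∈ K.map f := by rw [h]; exact ⟨y, hy, rfl⟩
  obtain ⟨k, hk, hky⟩ := h1
  have hζ : k * y⁻¹ ∈ f.ker := by rw [MonoidHom.mem_ker, map_mul, map_inv, hky, mul_inv_cancel]
  have hcen : ∀ q ∈ K ⊓ T, y * q = q * y := fun q hq =>
    (hyp.comm hT hK hL hne hq ⟨hy, hyT⟩).symm
  have hkq : ∀ q ∈ K ⊓ T, k * q = q * k := by
    intro q hq
    have e1 : k = k * y⁻¹ * y := by group
    calc k * q = k * y⁻¹ * (y * q) := by group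
      _ = k * y⁻¹ * (q * y) := by rw [hcen q hq]
      _ = (k * y⁻¹ * q) * y := by group
      _ = q * (k * y⁻¹) * y := by rw [← ccomm hζ q]
      _ = q * k := by group
  have hk4 : orderOf k = 4 := by
    have e1 := QuoCen.orderOf_map (inf K hK.1) hk
    rw [← e1, hky, QuoCen.orderOf_map (inf L hL.1) hy, hy4]
  have hk2 : IsPGroup 2 (zpowers k) := by
    rw [IsPGroup.iff_card]
    exact ⟨2, by rw [Nat.card_zpowers, hk4]; norm_num⟩
  have hkN : zpowers k ≤ normalizer ((K ⊓ T : Subgroup Y) : Set Y) := by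
    rw [zpowers_le]
    exact mem_normalizer_of_cent hkq
  have hkT : k ∈ K ⊓ T := OneBasic.syl_le_of_normalizes' (syl_inf hT hK) hk2 (zpowers_le.2 hk) hkN (mem_zpowers k)
  exact hyp.not_cent_of_four hK.1 (syl_inf hT hK) hkT hk4 hkq

theorem exists_sylow_comap (surj : Function.Surjective f) (pg : IsPGroup 2 f.ker) (S : Sylow 2 X) :
    ∃ T : Sylow 2 Y, (T : Subgroup Y) = (S : Subgroup X).comap f :=
  ⟨S.comapOfKerIsPGroup f pg (by rw [MonoidHom.range_eq_top.2 surj]; exact le_top), rfl⟩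

theorem ncard_img (hyp : Hyp Om) (surj : Function.Surjective f) (pg : IsPGroup 2 f.ker) (cen : f.ker ≤ center Y)
    (inf : ∀ K ∈ Om, K ⊓ f.ker = ⊥) {n : ℕ} (h : ∀ T : Sylow 2 Y, (OmS Om (T : Subgroup Y)).ncard = n)
    (S : Sylow 2 X) : (OmS (img f Om) (S : Subgroup X)).ncard = n := by
  obtain ⟨T, hT⟩ := exists_sylow_comap surj pg S
  have h1 : OmS (img f Om) (S : Subgroup X) = (Subgroup.map f) '' OmS Om (T : Subgroup Y) := by
    ext J
    rw [mem_OmS_img, ← hT]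
    rfl
  rw [h1, Set.InjOn.ncard_image (fun K hK L hL h => inj_OmS hyp cen inf T.isPGroup' hK hL h), h T]

end Cen

/-! ### the piece -/

/-- a piece with two commuting members -/
structure Blk2 {X : Type*} [Group X] (F : Set (Subgroup X)) (D : Subgroup X) : Prop where
  hyp : Hyp F
  ty : ∀ J ∈ F, Ty J
  two : IsPGroup 2 (center D)
  znc : ∀ A ∈ F, A ≤ D → zz A ∉ centralizer (D : Set X)
  le2 : ∀ {S : Subgroup X}, IsPGroup 2 S → ∀ {A B C : Subgroup X}, A ∈ OmS F S → B ∈ OmS F S → C ∈ OmS F S →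
    A ≤ D → B ≤ D → C ≤ D → A ≠ B → C = A ∨ C = B
  pair : ∃ A ∈ F, ∃ B ∈ F, A ≤ D ∧ B ≤ D ∧ A ≠ B ∧ ∀ x ∈ A, ∀ y ∈ B, x * y = y * x
  mul : ∀ {S : Subgroup X}, IsPGroup 2 S → ∀ {A B : Subgroup X}, A ∈ OmS F S → B ∈ OmS F S → A ≤ D → B ≤ D →
    A ≠ B → ∀ x ∈ D, x * (zz A * zz B) = zz A * zz B * x
  cls : ∀ A ∈ F, A ≤ D → ∀ B ∈ F, B ≤ D → ∃ d ∈ D, cj d A = B

namespace Blk2

variable {X : Type*} [Group X] [Finite X] {F : Set (Subgroup X)} {D : Subgroup X}

/-- `D → D / Z(D)` -/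
abbrev pi (D : Subgroup X) : D →* (D ⧸ center D) := QuotientGroup.mk' (center D)

theorem inf_center (b : Blk2 F D) {J : Subgroup D} (hJ : J ∈ restr F D) : J ⊓ center D = ⊥ := by
  haveI : Fact (Nat.Prime 2) := ⟨Nat.prime_two⟩
  by_contra hne
  have hp : IsPGroup 2 (J ⊓ center D : Subgroup D) := b.two.to_le inf_le_right
  haveI : Nontrivial (J ⊓ center D : Subgroup D) := (nontrivial_iff_ne_bot _).2 hne
  have h2 : 2 ∣ Nat.card (J ⊓ center D : Subgroup D) := by
    obtain ⟨n, hn⟩ := (IsPGroup.iff_card (p := 2)).1 hp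
    have h3 : n ≠ 0 := by
      rintro rfl
      rw [pow_zero] at hn
      exact hne (Subgroup.card_eq_one.1 hn)
    rw [hn]
    exact dvd_pow_self 2 h3
  obtain ⟨t, ht⟩ := exists_prime_orderOf_dvd_card' 2 h2
  have ht' : orderOf (t : D) = 2 := by rw [orderOf_coe]; exact ht
  have e1 : (t : D) = zz J := (b.hyp.restr D).uniq J hJ _ t.2.1 ht'
  refine b.znc _ hJ (map_subtype_le J) (mem_centralizer_iff.2 fun x hx => ?_)
  rw [← zz_map b.hyp hJ, ← e1]
  exact congrArg Subtype.val (mem_center_iff.1 t.2.2 ⟨x, hx⟩)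

theorem inf_ker (b : Blk2 F D) : ∀ J ∈ restr F D, J ⊓ (pi D).ker = ⊥ := fun J hJ => by
  rw [QuotientGroup.ker_mk']; exact b.inf_center hJ

theorem hypX (b : Blk2 F D) : Hyp (img (pi D) (restr F D)) :=
  QuoCen.hyp_img_central (b.hyp.restr D) (QuotientGroup.mk'_surjective _) (QuotientGroup.ker_mk' _).le b.inf_ker

theorem zz_map' (b : Blk2 F D) {J : Subgroup D} (hJ : J ∈ restr F D) : zz (J.map (pi D)) = pi D (zz J) :=
  QuoCen.zz_map_of_inf (b.hyp.restr D) hJ (b.inf_ker J hJ)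

theorem sub_mem {K : Subgroup X} (hJ : K ∈ F) (hJD : K ≤ D) : K.subgroupOf D ∈ restr F D :=
  subgroupOf_mem_restr hJ hJD

theorem card_restr (b : Blk2 F D) (S : Sylow 2 D) : (OmS (restr F D) (S : Subgroup D)).ncard = 2 := by
  haveI : Fact (Nat.Prime 2) := ⟨Nat.prime_two⟩
  obtain ⟨A, hA, B, hB, hAD, hBD, hne, hc⟩ := b.pair
  obtain ⟨Q, hQ⟩ := Hyp.exists_syl (A.subgroupOf D)
  obtain ⟨Q', hQ'⟩ := Hyp.exists_syl (B.subgroupOf D)
  have hcQ : Q ≤ normalizer (Q' : Set D) := by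
    intro x hx
    refine mem_normalizer_of_cent fun y hy => ?_
    exact Subtype.ext (hc x (hQ.1 hx) y (hQ'.1 hy))
  have hS₀ : IsPGroup 2 (Q ⊔ Q' : Subgroup D) := hQ.2.1.to_sup_of_normal_right' hQ'.2.1 hcQ
  obtain ⟨S₁, hS₁⟩ := hS₀.exists_le_sylow
  have h1' : A.subgroupOf D ∈ OmS (restr F D) (S₁ : Subgroup D) :=
    OmS_mono hS₁ (mem_OmS_of_le (sub_mem hA hAD) hQ le_sup_left)
  have h2' : B.subgroupOf D ∈ OmS (restr F D) (S₁ : Subgroup D) :=
    OmS_mono hS₁ (mem_OmS_of_le (sub_mem hB hBD) hQ' le_sup_right)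
  have hne' : A.subgroupOf D ≠ B.subgroupOf D := by
    intro h
    apply hne
    rw [← map_subgroupOf_eq_of_le hAD, ← map_subgroupOf_eq_of_le hBD, h]
  have hset : OmS (restr F D) (S₁ : Subgroup D) = {A.subgroupOf D, B.subgroupOf D} := by
    ext J
    constructor
    · intro hJ
      have e1 := mem_OmS_restr.1 hJ
      have e2 := mem_OmS_restr.1 h1'
      have e3 := mem_OmS_restr.1 h2'
      have hne2 : (A.subgroupOf D).map D.subtype ≠ (B.subgroupOf D).map D.subtype := fun h =>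
        hne' (map_injective D.subtype_injective h)
      rcases b.le2 (S₁.isPGroup'.map _) e2 e3 e1 (map_subtype_le _) (map_subtype_le _) (map_subtype_le _) hne2
        with h | h
      · exact Or.inl (map_injective D.subtype_injective h)
      · exact Or.inr (map_injective D.subtype_injective h)
    · rintro (rfl | rfl)
      · exact h1'
      · exact h2'
  obtain ⟨g, hg⟩ := exists_cj_sylow S₁ S
  rw [← hg, ncard_OmS_cj (b.hyp.restr D).conj, hset, Set.ncard_pair hne']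

/-- **`TwoEq` for `D / Z(D)`** -/
theorem twoEq (b : Blk2 F D) : TwoEq (img (pi D) (restr F D)) where
  hyp := b.hypX
  cls := by
    rintro _ ⟨J, hJ, rfl⟩ _ ⟨J', hJ', rfl⟩
    obtain ⟨d, hd, hdJ⟩ := b.cls _ hJ (map_subtype_le J) _ hJ' (map_subtype_le J')
    refine ⟨pi D ⟨d, hd⟩, ?_⟩
    rw [← cj_map]
    congr 1
    apply map_injective D.subtype_injective
    rw [← hdJ, cj_map]
    rfl
  two := ncard_img (b.hyp.restr D) (QuotientGroup.mk'_surjective _) (by rw [QuotientGroup.ker_mk']; exact b.two)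
    (QuotientGroup.ker_mk' _).le b.inf_ker b.card_restr
  same := by
    intro S K hK L hL
    obtain ⟨T, hT⟩ := exists_sylow_comap (f := pi D) (QuotientGroup.mk'_surjective _)
      (by rw [QuotientGroup.ker_mk']; exact b.two) S
    obtain ⟨A, hA, rfl⟩ := mem_OmS_img.1 hK
    obtain ⟨B, hB, rfl⟩ := mem_OmS_img.1 hL
    rw [← hT] at hA hB
    by_cases hne : A = B
    · rw [hne]
    have e1 := mem_OmS_restr.1 hA
    have e2 := mem_OmS_restr.1 hB
    have h1 := b.mul (T.isPGroup'.map _) e1 e2 (map_subtype_le _) (map_subtype_le _)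
      (fun h => hne (map_injective D.subtype_injective h))
    have h2 : zz A * zz B ∈ center D := by
      rw [mem_center_iff]
      intro x
      apply Subtype.ext
      have := h1 x x.2
      rw [← zz_map b.hyp hA.1, ← zz_map b.hyp hB.1] at this
      exact this
    have h3 : pi D (zz A) * pi D (zz B) = 1 := by
      rw [← map_mul]
      exact (QuotientGroup.eq_one_iff _).2 h2
    have h4 : pi D (zz B) * pi D (zz B) = 1 := by
      rw [← map_mul, (b.hyp.restr D).zz_mul hB.1, map_one]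
    rw [b.zz_map' hA.1, b.zz_map' hB.1]
    exact mul_right_cancel (h3.trans h4.symm)

theorem tyX (b : Blk2 F D) : ∀ J ∈ img (pi D) (restr F D), Ty J := by
  rintro _ ⟨J, hJ, rfl⟩
  refine (Ty.restr b.ty D J hJ).map _ ?_
  have h1 : ((pi D).subgroupMap J).ker = ⊥ := by
    rw [MonoidHom.ker_eq_bot_iff]
    intro x y hxy
    exact QuoCen.injOn_of_inf (b.inf_ker J hJ) (congrArg Subtype.val hxy)
  rw [h1, card_bot]
  omega

theorem neX (b : Blk2 F D) : (img (pi D) (restr F D)).Nonempty := by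
  obtain ⟨A, hA, B, hB, hAD, -⟩ := b.pair
  exact ⟨_, _, sub_mem hA hAD, rfl⟩

end Blk2

end Cfsg.Agent.Cit.ThreeIdA
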