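import Cfsg.Agent.Cit.TriLoc
import Cfsg.Agent.Cit.ThreeIdA
import Cfsg.Agent.Cit.CorOf

/-!
# `Loc3` with a chart: the data `Blk2` for `D = PP Om K L`

`blk2` : the piece `D` of `C(z_K) / O(C(z_K))` contains at most two members of every `F(S)`, the product of their
involutions is central (the image of `z_K`), the members in `D` are conjugate in `D`.
-/

set_option autoImplicit false
set_option linter.style.haveILetI false
set_option linter.unusedSectionVars false

namespace Cfsg.Agent.Cit.ThreeIdL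

open Subgroup Cfsg Cfsg.Agent.Cit Cfsg.Agent.Cit.UseT Cfsg.Agent.Cit.SubCent Cfsg.Agent.Cit.CoreThree
open Cfsg.Agent.Cit.TriLoc
open Cfsg.Agent.Cit.TypeDet (cm cm_iff_le_centralizer cm_symm exists_sylow_of_comm)

universe u

variable {G : Type u} [Group G] [Finite G] {Om : Set (Subgroup G)} {K L : Subgroup G}

/-- the members of `F(S)` commute -/
theorem cm_of_OmS (l : Loc3 Om K L) {S : Subgroup (HQ (centralizer {zz K}))} (hS : IsPGroup 2 S)
    {A B : Subgroup (HQ (centralizer {zz K}))} (hA : A ∈ OmS (fam Om (centralizer {zz K})) S)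
    (hB : B ∈ OmS (fam Om (centralizer {zz K})) S) (hne : A ≠ B) : cm A B :=
  cm_iff_le_centralizer.2 (comm_of_core l.hf l.core hS hA hB hne)

theorem cm_self (l : Loc3 Om K L) {A : Subgroup (HQ (centralizer {zz K}))} (hA : A ≤ PP Om K L) :
    cm (tr (centralizer {zz K}) K) A := cm_iff_le_centralizer.2 (l.comm_self.trans (centralizer_le hA))

theorem self_ne (l : Loc3 Om K L) {A : Subgroup (HQ (centralizer {zz K}))} (hA : A ≤ PP Om K L) :
    tr (centralizer {zz K}) K ≠ A := by
  rintro rfl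
  exact l.not_le hA

theorem le2 (l : Loc3 Om K L) {S : Subgroup (HQ (centralizer {zz K}))} (hS : IsPGroup 2 S)
    {A B C : Subgroup (HQ (centralizer {zz K}))} (hA : A ∈ OmS (fam Om (centralizer {zz K})) S)
    (hB : B ∈ OmS (fam Om (centralizer {zz K})) S) (hC : C ∈ OmS (fam Om (centralizer {zz K})) S)
    (hAD : A ≤ PP Om K L) (hBD : B ≤ PP Om K L) (hCD : C ≤ PP Om K L) (hne : A ≠ B) : C = A ∨ C = B := by
  by_contra hcon
  rw [not_or] at hcon
  obtain ⟨hCA, hCB⟩ := hcon
  have hAB := cm_of_OmS l hS hA hB hne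
  have hAC := cm_of_OmS l hS hA hC (Ne.symm hCA)
  have hBC := cm_of_OmS l hS hB hC (Ne.symm hCB)
  have h4 : ({tr (centralizer {zz K}) K, A, B, C} : Set (Subgroup (HQ (centralizer {zz K})))).ncard ≤ 3 := by
    refine ThreeLift.ncard_le l.hyp l.ty l.pre.three ?_ ?_
    · rintro X (rfl | rfl | rfl | rfl)
      · exact tr_mem l.cov_self
      · exact hA.1
      · exact hB.1
      · exact hC.1
    · rintro X (rfl | rfl | rfl | rfl) Y (rfl | rfl | rfl | rfl) hXY
      · exact absurd rfl hXY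
      · exact cm_self l hAD
      · exact cm_self l hBD
      · exact cm_self l hCD
      · exact cm_symm (cm_self l hAD)
      · exact absurd rfl hXY
      · exact hAB
      · exact hAC
      · exact cm_symm (cm_self l hBD)
      · exact cm_symm hAB
      · exact absurd rfl hXY
      · exact hBC
      · exact cm_symm (cm_self l hCD)
      · exact cm_symm hAC
      · exact cm_symm hBC
      · exact absurd rfl hXY
  classical
  have h5 : ({tr (centralizer {zz K}) K, A, B, C} : Set (Subgroup (HQ (centralizer {zz K})))).ncard = 4 := by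
    rw [Set.ncard_insert_of_notMem, Set.ncard_insert_of_notMem, Set.ncard_insert_of_notMem, Set.ncard_singleton]
    · rw [Set.mem_singleton_iff]; exact Ne.symm hCB
    · simp only [Set.mem_insert_iff, Set.mem_singleton_iff, not_or]; exact ⟨hne, Ne.symm hCA⟩
    · simp only [Set.mem_insert_iff, Set.mem_singleton_iff, not_or]
      exact ⟨self_ne l hAD, self_ne l hBD, self_ne l hCD⟩
  omega

theorem eq_of_three {X : Type*} [Finite X] {s : Set X} (h3 : s.ncard = 3) {a b c d : X} (ha : a ∈ s) (hb : b ∈ s)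
    (hc : c ∈ s) (hd : d ∈ s) (hab : a ≠ b) (hac : a ≠ c) (hbc : b ≠ c) (had : a ≠ d) (hbd : b ≠ d) : c = d := by
  by_contra hcd
  classical
  have h1 : ({a, b, c, d} : Set X) ⊆ s := by
    rintro x (rfl | rfl | rfl | rfl) <;> assumption
  have h2 := Set.ncard_le_ncard h1 (Set.toFinite _)
  rw [Set.ncard_insert_of_notMem, Set.ncard_insert_of_notMem, Set.ncard_insert_of_notMem, Set.ncard_singleton] at h2
  · omega
  · rw [Set.mem_singleton_iff]; exact hcd
  · simp only [Set.mem_insert_iff, Set.mem_singleton_iff, not_or]; exact ⟨hbc, hbd⟩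
  · simp only [Set.mem_insert_iff, Set.mem_singleton_iff, not_or]; exact ⟨hab, hac, had⟩

/-- the product of the involutions of two commuting members is the image of `z_K` -/
theorem mul_eq (l : Loc3 Om K L) {A B : Subgroup (HQ (centralizer {zz K}))}
    (hA : A ∈ fam Om (centralizer {zz K})) (hB : B ∈ fam Om (centralizer {zz K}))
    (hAD : A ≤ PP Om K L) (hBD : B ≤ PP Om K L) (hne : A ≠ B) (hc : cm A B) :
    zz A * zz B = ThreeCore.qt K (zz K) := by
  haveI : Fact (Nat.Prime 2) := ⟨Nat.prime_two⟩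
  obtain ⟨S', hS'⟩ := exists_sylow_of_comm (Om := fam Om (centralizer {zz K}))
    (C := {tr (centralizer {zz K}) K, A, B}) (by
      rintro X (rfl | rfl | rfl)
      · exact tr_mem l.cov_self
      · exact hA
      · exact hB) (by
      rintro X (rfl | rfl | rfl) Y (rfl | rfl | rfl) hXY
      · exact absurd rfl hXY
      · exact cm_self l hAD
      · exact cm_self l hBD
      · exact cm_symm (cm_self l hAD)
      · exact absurd rfl hXY
      · exact hc
      · exact cm_symm (cm_self l hBD)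
      · exact cm_symm hc
      · exact absurd rfl hXY)
  obtain ⟨T, hT, hTS⟩ := exists_lift (qm_surjective (centralizer {zz K})) S'.isPGroup'
  obtain ⟨S, hS⟩ := (hT.map (centralizer {zz K}).subtype).exists_le_sylow
  have key : ∀ J ∈ ({tr (centralizer {zz K}) K, A, B} : Set (Subgroup (HQ (centralizer {zz K})))),
      ∃ M ∈ cov Om (centralizer {zz K}), M ∈ OmS Om (S : Subgroup G) ∧ tr (centralizer {zz K}) M = J := by
    intro J hJ
    have h1 : J ∈ OmS (fam Om (centralizer {zz K})) (T.map (qm (centralizer {zz K}))) := by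
      rw [hTS]; exact hS' hJ
    obtain ⟨M, hM, h2, h3⟩ := ThreeLift.exists_of_mem_OmS l.hyp l.ty hT h1
    exact ⟨M, hM, OmS_mono hS h2, h3⟩
  obtain ⟨K', k1, k2, k3⟩ := key _ (Or.inl rfl)
  obtain ⟨N, n1, n2, n3⟩ := key A (Or.inr (Or.inl rfl))
  obtain ⟨M, m1, m2, m3⟩ := key B (Or.inr (Or.inr rfl))
  have hKN : K' ≠ N := fun e => self_ne l hAD (by rw [← k3, ← n3, e])
  have hKM : K' ≠ M := fun e => self_ne l hBD (by rw [← k3, ← m3, e])
  have hNM : N ≠ M := fun e => hne (by rw [← n3, ← m3, e])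
  obtain ⟨P, hP, p1, p2, p3⟩ := l.pre.mul S K' k2 N n2 hKN
  have hPM : P = M := eq_of_three (l.pre.three S) k2 n2 hP m2 hKN (Ne.symm p1) (Ne.symm p2) hKM hNM
  rw [hPM] at p3
  have h1 := l.hyp.zz_mul k1.1
  have h2 : zz N * zz M = zz K' := by
    have h3 : zz K' * (zz N * (zz K' * zz N)) = 1 := by
      calc zz K' * (zz N * (zz K' * zz N)) = (zz K' * zz N) * (zz K' * zz N) := by group
        _ = 1 := by rw [p3, l.hyp.zz_mul m1.1]
    rw [← p3]
    exact mul_left_cancel (h3.trans h1.symm)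
  have aK := (cov_iff l.hyp l.hK).1 k1
  have aN := (cov_iff l.hyp l.hK).1 n1
  have aM := (cov_iff l.hyp l.hK).1 m1
  have aS := (cov_iff l.hyp l.hK).1 l.cov_self
  rw [← n3, ← m3, l.zz_tr' aN, l.zz_tr' aM,
    ← ThreeCore.qt_mul (zz_mem_of_cov l.hyp n1) (zz_mem_of_cov l.hyp m1), h2, ← l.zz_tr' aK, k3, l.zz_tr' aS]

/-- **`Blk2` for `PP Om K L`** -/
theorem blk2_of (l : Loc3 Om K L) {p : ℕ} (c : Nodes.Chart.Chart (fam Om (centralizer {zz K})) p (PP Om K L)) :
    ThreeIdA.Blk2 (fam Om (centralizer {zz K})) (PP Om K L) where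
  hyp := l.hf
  ty := ty_fam l.ty _
  two := l.two
  znc := fun _ hA hAD => l.znc ⟨hA, hAD⟩
  le2 := fun hS _ _ _ hA hB hC hAD hBD hCD hne => le2 l hS hA hB hC hAD hBD hCD hne
  pair := by
    obtain ⟨N, h1, h2, -, -, -, -, h3, h4⟩ := l.exists_third l.adj l.ne
    exact ⟨_, tr_mem (l.cov_adj l.adj), _, tr_mem (l.cov_adj h1), l.tr_le l.adj l.ne, l.tr_le h1 h2, Ne.symm h3,
      cm_symm (cm_iff_le_centralizer.2 h4)⟩
  mul := by
    intro S hS A B hA hB hAD hBD hne x _
    rw [mul_eq l hA.1 hB.1 hAD hBD hne (cm_of_OmS l hS hA hB hne)]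
    exact (l.self_central x).symm
  cls := fun _ hA hAD _ hB hBD => CorOf.chart_exists_cj c hA hB hAD hBD

theorem blk2 (_m : MinS Om) (l : Loc3 Om K L) {p : ℕ}
    (c : Nodes.Chart.Chart (fam Om (centralizer {zz K})) p (PP Om K L)) :
    ThreeIdA.Blk2 (fam Om (centralizer {zz K})) (PP Om K L) := blk2_of l c

end Cfsg.Agent.Cit.ThreeIdL
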