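import Cfsg.Agent.Cit.LongLeafEnd
import Cfsg.Agent.Cit.SL4Cores
import Cfsg.Agent.Cit.CoreTwoEq
import Cfsg.Agent.Cit.ThreeIdA

/-!
# The members of `D`, `D / Z(D)` isomorphic with `PSL₄(F)` or `PSU₄(q)`

`lin4_of` : `Lin4 F D` if the images of the members in `D / Z(D)` satisfy `TwoEq`.
-/

set_option autoImplicit false
set_option linter.unusedSectionVars false

namespace Cfsg.Agent.Cit.ThreeIdN

open Subgroup Cfsg Matrix Cfsg.Agent.Cit Cfsg.Agent.Cit.LongAbs Cfsg.Agent.Cit.LongBlock Cfsg.Agent.Cit.LongQuot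
  Cfsg.Agent.Cit.LongMain Cfsg.Agent.Cit.LongModel Cfsg.Agent.Cit.LongInst Cfsg.Agent.Cit.LongTwo
  Cfsg.Agent.Cit.LongLeaf Cfsg.Agent.Cit.LongLeafEnd Cfsg.Agent.Cit.SL4Loc
open Cfsg.Agent.Cit.ThreeIdA (Blk2)
open Cfsg.Agent.Cit.ThreeIdA.Blk2 (pi)

variable {X : Type*} [Group X]

theorem onto_of [Finite X] {M : Set (Subgroup X)} {D : Subgroup X} (h : TwoFK.TwoEq (img (pi D) (restr M D)))
    {Γ : Type*} [Group Γ] [Finite Γ] {F : Type*} [Field F] {R : Rep Γ F (Fin 2)} (e : (↥D ⧸ center ↥D) ≃* (Γ ⧸ center Γ))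
    (h1 : ∃ J ∈ img e.toMonoidHom (img (pi D) (restr M D)), ∃ g, cj g J = D1 R) : Onto M D R := by
  refine ⟨e.toMonoidHom.comp (pi D), ?_, ?_, ?_⟩
  · exact e.surjective.comp (QuotientGroup.mk'_surjective _)
  · ext x
    rw [MonoidHom.mem_ker, MonoidHom.comp_apply]
    constructor
    · intro hx
      have h3 : pi D x = 1 := e.injective (hx.trans (map_one e).symm)
      exact (QuotientGroup.eq_one_iff x).1 h3
    · intro hx
      have h3 : pi D x = 1 := (QuotientGroup.eq_one_iff x).2 hx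
      rw [h3, map_one]
  · intro J hJ hJD
    obtain ⟨_, ⟨_, ⟨K, hK, rfl⟩, rfl⟩, g, hg⟩ := h1
    have hJ' : (J.subgroupOf D).map (pi D) ∈ img (pi D) (restr M D) :=
      ⟨_, subgroupOf_mem_restr hJ hJD, rfl⟩
    obtain ⟨x, hx⟩ := h.cls _ hJ' _ ⟨K, hK, rfl⟩
    refine ⟨g * e x, ?_⟩
    rw [← hg, ← hx, cj_mul, cj_map, Subgroup.map_map]
    rfl

variable [Finite X] {M : Set (Subgroup X)} {D : Subgroup X}

/-- **`Lin4` for `PSL₄(F)`, `PSU₄(q)`** -/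
theorem lin4_of (h : TwoFK.TwoEq (img (pi D) (restr M D)))
    (hty : ∀ J ∈ img (pi D) (restr M D), Cit.Ty J) (hne : (img (pi D) (restr M D)).Nonempty)
    (hs : IsSimpleGroup (↥D ⧸ center ↥D))
    (hd : CoreTwoEq.L4 (↥D ⧸ center ↥D) ∨ CoreTwoEq.U4 (↥D ⧸ center ↥D)) : Lin4 M D := by
  set Om := img (pi D) (restr M D) with hOm
  have B : Base Om := ⟨h.hyp, hty, hne, fun K hK J hJ => by
    obtain ⟨g, hg⟩ := h.cls K hK J hJ
    exact ⟨g, hg.symm⟩, hs⟩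
  have hc : TwoCen Om := by
    obtain ⟨K, hK⟩ := hne
    obtain ⟨S, hS, -⟩ := h.hyp.exists_sylow hK
    exact twoCen_of_eq h.hyp S hS fun J hJ => h.same S J hJ K hS
  rcases hd with ⟨F, _, _, ho, ⟨e⟩⟩ | ⟨F, _, _, q, hF, hq, ⟨e⟩⟩
  · left
    refine ⟨F, inferInstance, inferInstance, ho, ?_⟩
    have B' := B.map e
    obtain ⟨K, hK, S, hS⟩ := hc.map B e
    obtain ⟨g, hg⟩ := sl4_two_central ho S (B'.hyp.zz_mul hK) (B'.hyp.zz_ne hK) hS
    refine onto_of (Γ := SpecialLinearGroup (Fin (2 + 2)) F) h e ⟨K, hK, ?_⟩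
    exact (sl_leaf2 ho).exists_cj B'.hyp hK (B'.ty K hK) hg
  · right
    have ho : Odd (Fintype.card F) := by rw [hF]; exact hq.pow
    refine ⟨F, inferInstance, inferInstance, q, hF, ho, ?_⟩
    have B' := B.map e
    obtain ⟨K, hK, S, hS⟩ := hc.map B e
    obtain ⟨g, hg⟩ := su4_two_central ho hF S (B'.hyp.zz_mul hK) (B'.hyp.zz_ne hK) hS
    refine onto_of (Γ := SU (2 + 2) F q) h e ⟨K, hK, ?_⟩
    exact (su_leaf2 ho hF).exists_cj B'.hyp hK (B'.ty K hK) hg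

/-- **`Lin4` for a piece with two commuting members** -/
theorem lin4 (b : Blk2 M D) (qs : IsQuasisimple D)
    (hd : CoreTwoEq.L4 (↥D ⧸ center ↥D) ∨ CoreTwoEq.U4 (↥D ⧸ center ↥D)) : Lin4 M D :=
  lin4_of b.twoEq b.tyX b.neX qs.2 hd

end Cfsg.Agent.Cit.ThreeIdN
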