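import Cfsg.Agent.Cit.TriLoc
import Cfsg.Agent.Cit.ThreeTrans
import Cfsg.Agent.Cit.SpFacts
import Cfsg.Agent.ClassicalGeometry.PSL2Basic

/-!
# `|Om(S)| = 3`, `z₁ z₂ z₃ = 1`: uniformity

* `iso_cj`, `iso_PP` : the pieces `PP Om K L` are isomorphic; `card_tr` : the traces have the same order;
* `SpFacts.congr` : `SpFacts p F D K L` depends on the isomorphism type of `F` only;
* `ringEquiv_of_sl2` : `|SL₂(F)| = |SL₂(F')|` implies `F ≃+* F'`.
-/

set_option autoImplicit false
set_option linter.style.haveILetI false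
set_option linter.unusedSectionVars false

namespace Cfsg.Agent.Cit.ThreeIdU

open Subgroup Cfsg Cfsg.Agent.Cit Cfsg.Agent.Cit.UseT Cfsg.Agent.Cit.SubCent Cfsg.Agent.Cit.CoreThree
open Cfsg.Agent.Cit.Branches Cfsg.Agent.Cit.CoresG Cfsg.Agent.Cit.TriLoc

/-! ### Fields -/

section Fields

variable {F F' : Type} [Field F] [Fintype F] [Field F'] [Fintype F']

theorem mul_sq_inj {a b : ℕ} (ha : 1 < a) (hb : 1 < b) (h : a * (a ^ 2 - 1) = b * (b ^ 2 - 1)) : a = b := by
  have key : ∀ {x y : ℕ}, 1 < x → x < y → x * (x ^ 2 - 1) < y * (y ^ 2 - 1) := by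
    intro x y hx hxy
    have h1 : x ^ 2 < y ^ 2 := Nat.pow_lt_pow_left hxy (by norm_num)
    have h2 : 1 < x ^ 2 := Nat.one_lt_pow (by norm_num) hx
    have h3 : x ^ 2 - 1 ≤ y ^ 2 - 1 := by omega
    calc x * (x ^ 2 - 1) < y * (x ^ 2 - 1) := Nat.mul_lt_mul_of_pos_right hxy (by omega)
      _ ≤ y * (y ^ 2 - 1) := Nat.mul_le_mul_left _ h3
  rcases lt_trichotomy a b with h1 | h1 | h1
  · exact absurd h (key ha h1).ne
  · exact h1
  · exact absurd h.symm (key hb h1).ne

theorem card_eq_of_sl2 (h : Nat.card (Matrix.SpecialLinearGroup (Fin 2) F) =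
    Nat.card (Matrix.SpecialLinearGroup (Fin 2) F')) : Fintype.card F = Fintype.card F' := by
  rw [ClassicalGeometry.PSL2Basic.card_SL2, ClassicalGeometry.PSL2Basic.card_SL2] at h
  exact mul_sq_inj Fintype.one_lt_card Fintype.one_lt_card h

/-- `F ≃+* F'` if `|SL₂(F)| = |SL₂(F')|` -/
theorem ringEquiv_of_sl2 (h : Nat.card (Matrix.SpecialLinearGroup (Fin 2) F) =
    Nat.card (Matrix.SpecialLinearGroup (Fin 2) F')) : Nonempty (F ≃+* F') :=
  ⟨FiniteField.ringEquivOfCardEq (card_eq_of_sl2 h)⟩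

/-- `SL₂(F) ≃* SL₂(F')` -/
def slEquiv (e : F ≃+* F') : Matrix.SpecialLinearGroup (Fin 2) F ≃* Matrix.SpecialLinearGroup (Fin 2) F' where
  toFun := Matrix.SpecialLinearGroup.map e.toRingHom
  invFun := Matrix.SpecialLinearGroup.map e.symm.toRingHom
  left_inv := by
    intro x
    ext i j
    simp
  right_inv := by
    intro x
    ext i j
    simp
  map_mul' := map_mul _

theorem charP_of_equiv (e : F ≃+* F') {p : ℕ} (h : CharP F p) : CharP F' p :=
  charP_of_injective_ringHom e.toRingHom.injective p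

end Fields

/-! ### `SpFacts` -/

/-- `SpFacts p F D K L` depends on the isomorphism type of `SL₂(F)` only -/
theorem spFacts_congr {H : Type*} [Group H] {p : ℕ} {F F' : Type} [Field F] [Field F']
    (e : Matrix.SpecialLinearGroup (Fin 2) F ≃* Matrix.SpecialLinearGroup (Fin 2) F') {D K L : Subgroup H}
    (h : Sp4.SpFacts p F D K L) : Sp4.SpFacts p F' D K L where
  comp := h.comp
  left := h.left
  right := h.right
  eK := h.eK.map fun f => e.symm.trans f
  eL := h.eL.map fun f => e.symm.trans f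
  comm := h.comm
  ne := h.ne
  zcen := h.zcen
  cen := h.cen
  cent := h.cent
  iso := fun v hv w hw h1 h2 => (h.iso v hv w hw h1 h2).map fun f => e.symm.trans f
  zmem := h.zmem
  hmem := h.hmem
  gen := h.gen

/-! ### Conjugation -/

section Conj

variable {G : Type*} [Group G] [Finite G] {Om : Set (Subgroup G)} {K L K' L' : Subgroup G}

/-- conjugation by `g` -/
theorem iso_cj (hOm : Hyp Om) (g : G) (hK : K ∈ Om) (L : Subgroup G) :
    ∃ e : HQ (centralizer {zz K}) ≃* HQ (centralizer {zz (cj g K)}),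
      (PP Om K L).map e.toMonoidHom = PP Om (cj g K) (cj g L) ∧
      ∀ J, (tr (centralizer {zz K}) J).map e.toMonoidHom = tr (centralizer {zz (cj g K)}) (cj g J) := by
  have h2 : cj g (centralizer {zz K}) = centralizer {zz (cj g K)} := by
    rw [cj_centralizer, hOm.zz_cj hK]
  have h1 : ∃ e : HQ (centralizer {zz K}) ≃* HQ (cj g (centralizer {zz K})),
      (pc (fam Om (centralizer {zz K})) (tr (centralizer {zz K}) L)).map e.toMonoidHom =
        pc (fam Om (cj g (centralizer {zz K}))) (tr (cj g (centralizer {zz K})) (cj g L)) ∧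
      ∀ J, (tr (centralizer {zz K}) J).map e.toMonoidHom = tr (cj g (centralizer {zz K})) (cj g J) := by
    refine ⟨ThreeTrans.hqe g _, ?_, fun J => ThreeTrans.map_tr g _ J⟩
    rw [← ThreeTrans.map_tr, ← ThreeTrans.img_fam hOm]
    exact (ThreeTrans.pc_map (f := (ThreeTrans.hqe g (centralizer {zz K})).toMonoidHom)
      (ThreeTrans.hqe g (centralizer {zz K})).injective _).symm
  rw [h2] at h1
  exact h1

/-- **uniformity** of the pieces and of the orders of the members -/
theorem uniform (l : Loc3 Om K L) (l' : Loc3 Om K' L') (hc : ∃ g, K' = cj g K) :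
    Nonempty (PP Om K L ≃* PP Om K' L') ∧ ∃ A ∈ MM Om K L, ∃ A' ∈ MM Om K' L', Nat.card A = Nat.card A' := by
  obtain ⟨g, rfl⟩ := hc
  obtain ⟨e, h1, h2⟩ := iso_cj l.hyp g l.hK L
  have hadj : Adj Om (cj g K) (cj g L) := l.adj.conj l.hyp.conj g
  have hne : cj g L ≠ cj g K := fun h => l.ne (cj_inj.1 h)
  rw [l'.PP_eq hadj hne] at h1
  refine ⟨⟨((PP Om K L).equivMapOfInjective e.toMonoidHom e.injective).trans (MulEquiv.subgroupCongr h1)⟩,
    tr (centralizer {zz K}) L, l.mem_MM.2 ⟨L, l.adj, l.ne, rfl⟩, tr (centralizer {zz (cj g K)}) (cj g L),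
    l'.mem_MM.2 ⟨_, hadj, hne, rfl⟩, ?_⟩
  rw [← h2]
  exact Nat.card_congr (Subgroup.equivMapOfInjective _ e.toMonoidHom e.injective).toEquiv

/-- the field of the chart -/
theorem exists_field {τ : Nodes.Chart.Ty}
    (h : TyPiece (fam Om (centralizer {zz K})) (PP Om K L) τ) :
    ∃ (p : ℕ) (F : Type) (_ : Field F) (_ : Fintype F),
      Nonempty (Nodes.Chart.Chart (fam Om (centralizer {zz K})) p (PP Om K L)) ∧ CharP F p ∧
      ∀ A ∈ MM Om K L, Nonempty (Matrix.SpecialLinearGroup (Fin 2) F ≃* A) := by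
  obtain ⟨p, c, -, -, ⟨F, i1, i2, hp, hF⟩, -⟩ := h.ex
  refine ⟨p, F, i1, i2, ⟨c⟩, hp, fun A hA => ?_⟩
  obtain ⟨r, hr, g, -, rfl⟩ := c.om_conj A hA.1 hA.2
  obtain ⟨e⟩ := hF r hr
  exact ⟨e.trans (cjEquiv g _)⟩

end Conj

end Cfsg.Agent.Cit.ThreeIdU
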