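import Cfsg.Agent.Cit.ThreeCores
import Cfsg.Agent.Cit.CoreTwoEqId
import Cfsg.Agent.Cit.ThreeIdC
import Cfsg.Agent.Cit.ThreeIdL
import Cfsg.Agent.Cit.ThreeIdN
import Cfsg.Agent.Cit.ThreeIdU

/-!
# `|Om(S)| = 3`, `z₁ z₂ z₃ = 1`: the dichotomy

* `LocIn Om` : the local inputs: `D / Z(D)` is `PSL₄(q)`, `PSU₄(q)` or `PSp₄(q)`, and the facts in the two cases;
* `sp_or_lin` : `Sp4.SpCase Om ∨ LinCase Om` (uniformity);
* `locIn`, `dich` : `DichStmt` from `IdentTwo`, `NoBStmt` (helper373); `linStmt` (helper193).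
-/

set_option autoImplicit false
set_option linter.style.haveILetI false
set_option linter.unusedSectionVars false

namespace Cfsg.Agent.Cit.ThreeDich

open Subgroup Cfsg Cfsg.Agent.Cit Cfsg.Agent.Cit.UseT Cfsg.Agent.Cit.SubCent Cfsg.Agent.Cit.CoreThree
open Cfsg.Agent.Cit.Branches Cfsg.Agent.Cit.CoresG Cfsg.Agent.Cit.TriLoc Cfsg.Agent.Cit.ThreeIdU
open Cfsg.Agent.Cit.CoreTwoEq (L4 U4)
open Cfsg.Agent.Cit.SL4Loc (Lin4)
open Cfsg.Agent.Cit.ThreeCores (LinCase DichStmt)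
open Cfsg.Agent.Cit.ThreeIdA (Blk2)

universe u

section Defs

variable {G : Type u} [Group G]

/-- the local inputs -/
structure LocIn [Finite G] (Om : Set (Subgroup G)) : Prop where
  id : ∀ K L : Subgroup G, Loc3 Om K L → L4 (↥(PP Om K L) ⧸ center ↥(PP Om K L)) ∨
    U4 (↥(PP Om K L) ⧸ center ↥(PP Om K L)) ∨ CoreTwoEq.Sp4 (↥(PP Om K L) ⧸ center ↥(PP Om K L))
  sp : ∀ K L : Subgroup G, Loc3 Om K L → CoreTwoEq.Sp4 (↥(PP Om K L) ⧸ center ↥(PP Om K L)) →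
    ∀ A ∈ MM Om K L, ∀ B ∈ MM Om K L, zz A ≠ zz B → (∀ x ∈ A, ∀ y ∈ B, x * y = y * x) →
      ∃ (p : ℕ) (F : Type) (_ : Field F) (_ : Fintype F), p.Prime ∧ CharP F p ∧ p ≠ 2 ∧
        Sp4.SpFacts p F (PP Om K L) A B
  lin : ∀ K L : Subgroup G, Loc3 Om K L →
    L4 (↥(PP Om K L) ⧸ center ↥(PP Om K L)) ∨ U4 (↥(PP Om K L) ⧸ center ↥(PP Om K L)) →
      Lin4 (fam Om (centralizer {zz K})) (PP Om K L)

end Defs

/-! ### The alternative -/

/-- isomorphic groups have isomorphic central quotients -/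
noncomputable def quotCenter {X Y : Type*} [Group X] [Group Y] (e : X ≃* Y) : X ⧸ center X ≃* Y ⧸ center Y :=
  QuotientGroup.congr (center X) (center Y) e (by
    ext y
    constructor
    · rintro ⟨x, hx, rfl⟩
      have hx' : x ∈ center X := hx
      rw [mem_center_iff] at hx' ⊢
      intro z
      obtain ⟨w, rfl⟩ := e.surjective z
      have := congrArg e (hx' w)
      rw [map_mul, map_mul] at this
      exact this
    · intro hy
      refine ⟨e.symm y, ?_, e.apply_symm_apply y⟩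
      have : e.symm y ∈ center X := by
        rw [mem_center_iff] at hy ⊢
        intro w
        have := congrArg e.symm (hy (e w))
        rw [map_mul, map_mul, e.symm_apply_apply] at this
        exact this
      exact this)

theorem sp4_congr {X Y : Type*} [Group X] [Group Y] (e : X ≃* Y) (h : CoreTwoEq.Sp4 X) : CoreTwoEq.Sp4 Y := by
  obtain ⟨F, _, _, ho, ⟨f⟩⟩ := h
  exact ⟨F, _, _, ho, ⟨e.symm.trans f⟩⟩

variable {G : Type u} [Group G] [Finite G] {Om : Set (Subgroup G)} {K L M : Subgroup G}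

theorem mk3 (hm : MinS Om) (hp : TriFact.Pre Om) (hcon : Con Om) {S : Sylow 2 G} (hK : K ∈ OmS Om (S : Subgroup G))
    (hL : L ∈ OmS Om (S : Subgroup G)) (hne : K ≠ L) : Loc3 Om K L :=
  ⟨hp, hm.isType, hm.fam_cent (hp.hyp.zz_ne hK.1), hcon, ⟨S, hK, hL⟩, Ne.symm hne⟩

/-- the traces of the two other members of `Om(S)` -/
theorem pair (l : Loc3 Om K L) {S : Sylow 2 G} (hK : K ∈ OmS Om (S : Subgroup G))
    (hL : L ∈ OmS Om (S : Subgroup G)) (hM : M ∈ OmS Om (S : Subgroup G)) (n1 : K ≠ L) (n2 : K ≠ M) (n3 : L ≠ M) :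
    tr (centralizer {zz K}) L ∈ MM Om K L ∧ tr (centralizer {zz K}) M ∈ MM Om K L ∧
      zz (tr (centralizer {zz K}) L) ≠ zz (tr (centralizer {zz K}) M) ∧
      ∀ x ∈ tr (centralizer {zz K}) L, ∀ y ∈ tr (centralizer {zz K}) M, x * y = y * x := by
  have hS := S.isPGroup'
  have aL : Adj Om K L := ⟨S, hK, hL⟩
  have aM : Adj Om K M := ⟨S, hK, hM⟩
  have cL := l.cov_adj aL
  have cM := l.cov_adj aM
  have hT : IsPGroup 2 (DD Om (S : Subgroup G)) := hS.to_le DD_le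
  have hTH := DD_le_cent l.hyp hS (zz_mem_ES hK)
  have hL' : L ∈ OmS Om (DD Om (S : Subgroup G)) := by rw [OmS_DD hS]; exact hL
  have hM' : M ∈ OmS Om (DD Om (S : Subgroup G)) := by rw [OmS_DD hS]; exact hM
  have h1 : tr (centralizer {zz K}) L ∈ MM Om K L := l.mem_MM.2 ⟨L, aL, Ne.symm n1, rfl⟩
  have h2 : tr (centralizer {zz K}) M ∈ MM Om K L := l.mem_MM.2 ⟨M, aM, Ne.symm n2, rfl⟩
  refine ⟨h1, h2, fun hz => ?_, fun x hx y hy => ?_⟩
  · exact tr_ne l.hyp l.ty cL cM hT hTH hL' hM' n3 (l.det h1.1 h2.1 hz)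
  · have h3 := comm_tr l.hyp l.ty l.core cL cM hT hTH hL' hM' n3
    exact (mem_centralizer_iff.1 (h3 hx) y hy).symm

/-- **the alternative** -/
theorem sp_or_lin (hm : MinS Om) (hp : TriFact.Pre Om) (hcon : Con Om) {τ : Nodes.Chart.Ty} (ht : Typed Om τ)
    (hl : LocIn Om) : Sp4.SpCase Om ∨ LinCase Om := by
  by_cases h : ∀ K L : Subgroup G, Loc3 Om K L → CoreTwoEq.Sp4 (↥(PP Om K L) ⧸ center ↥(PP Om K L))
  · left
    obtain ⟨S0⟩ : Nonempty (Sylow 2 G) := inferInstance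
    obtain ⟨K0, hK0, L0, hL0, n0⟩ := Card.exists_mem (Om := Om) hp.three S0
    obtain ⟨M0, hM0, n1, n2, -⟩ := hp.mul S0 K0 hK0 L0 hL0 n0
    have l0 := mk3 hm hp hcon hK0 hL0 n0
    obtain ⟨q1, q2, q3, q4⟩ := pair l0 hK0 hL0 hM0 n0 (Ne.symm n1) (Ne.symm n2)
    obtain ⟨p, F, _, _, hpp, hF, hp2, h0⟩ := hl.sp K0 L0 l0 (h K0 L0 l0) _ q1 _ q2 q3 q4
    refine ⟨p, F, _, hpp, hp2, inferInstance, hF, ?_⟩
    intro S K hK L hL M hM m1 m2 m3
    have l := mk3 hm hp hcon hK hL m1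
    obtain ⟨r1, r2, r3, r4⟩ := pair l hK hL hM m1 m2 m3
    obtain ⟨p', F', _, _, -, hF', -, h'⟩ := hl.sp K L l (h K L l) _ r1 _ r2 r3 r4
    obtain ⟨pc, Fc, _, _, ⟨c⟩, hFc, hAc⟩ := exists_field (ht S K hK L hL m1)
    obtain ⟨pd, Fd, _, _, -, hFd, hAd⟩ := exists_field (ht S0 K0 hK0 L0 hL0 n0)
    obtain ⟨-, A, hA, A', hA', hcard⟩ := uniform l0 l (hm.cls K0 l0.hK K l.hK)
    obtain ⟨e1⟩ := hAc A' hA'
    obtain ⟨e2⟩ := hAd A hA
    obtain ⟨e3⟩ := hAc _ r1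
    obtain ⟨e4⟩ := hAd _ q1
    obtain ⟨e5⟩ := h'.eK
    obtain ⟨e6⟩ := h0.eK
    have c1 := Nat.card_congr e1.toEquiv
    have c2 := Nat.card_congr e2.toEquiv
    have c3 := Nat.card_congr e3.toEquiv
    have c4 := Nat.card_congr e4.toEquiv
    have c5 := Nat.card_congr e5.toEquiv
    have c6 := Nat.card_congr e6.toEquiv
    obtain ⟨f1⟩ : Nonempty (F' ≃+* F) := ringEquiv_of_sl2 (by omega)
    obtain ⟨f2⟩ : Nonempty (Fc ≃+* F) := ringEquiv_of_sl2 (by omega)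
    have hp' : p' = p := by
      haveI := charP_of_equiv f1 hF'
      exact CharP.eq F inferInstance hF
    have hpc : pc = p := by
      haveI := charP_of_equiv f2 hFc
      exact CharP.eq F inferInstance hF
    subst hp'
    subst hpc
    exact ⟨spFacts_congr (slEquiv f1) h', ⟨c⟩⟩
  · right
    push Not at h
    obtain ⟨K0, L0, l0, h0⟩ := h
    intro S K hK L hL hne
    have l := mk3 hm hp hcon hK hL hne
    apply hl.lin K L l
    rcases hl.id K L l with h1 | h1 | h1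
    · exact Or.inl h1
    · exact Or.inr h1
    · exfalso
      obtain ⟨⟨e⟩, -⟩ := uniform l l0 (hm.cls K l.hK K0 l0.hK)
      exact h0 (sp4_congr (quotCenter e) h1)

/-! ### The local inputs -/

/-- `D / Z(D)` is `PSL₄(q)` or `PSU₄(q)`: the members are standard -/
def LinStmt : Prop := ∀ (X : Type u) [Group X] [Finite X] (F : Set (Subgroup X)) (D : Subgroup X), Blk2 F D →
  IsQuasisimple D → L4 (D ⧸ center D) ∨ U4 (D ⧸ center D) → Lin4 F D

theorem linStmt : LinStmt.{u} := fun _ _ _ _ _ b qs h => ThreeIdN.lin4 b qs h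

/-- the case (B) does not occur in `D / Z(D)` -/
def NoBStmt : Prop := ∀ (G : Type u) [Group G] [Finite G] (Om : Set (Subgroup G)), MinS Om → TriFact.Pre Om →
  Con Om → ∀ τ : Nodes.Chart.Ty, Typed Om τ → ∀ K L : Subgroup G, Loc3 Om K L →
    ¬ CoreTwoEq.CaseB (img (Blk2.pi (PP Om K L)) (restr (fam Om (centralizer {zz K})) (PP Om K L)))

/-- the data of `D` -/
theorem exists_blk2 (hm : MinS Om) {τ : Nodes.Chart.Ty} (ht : Typed Om τ) (l : Loc3 Om K L) :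
    Blk2 (fam Om (centralizer {zz K})) (PP Om K L) := by
  obtain ⟨S, hK, hL⟩ := l.adj
  obtain ⟨p, c, -⟩ := (ht S K hK L hL (Ne.symm l.ne)).ex
  exact ThreeIdL.blk2 hm l c

theorem locIn (hI : CoreTwoEqId.IdentTwo.{u}) (hB : NoBStmt.{u}) (hm : MinS Om)
    (hp : TriFact.Pre Om) (hcon : Con Om) {τ : Nodes.Chart.Ty} (ht : Typed Om τ) : LocIn Om where
  id := by
    intro K L l
    have b := exists_blk2 hm ht l
    haveI := l.qs.2
    exact hI _ _ b.twoEq b.neX (fun J hJ => (b.tyX J hJ).isType.tyTwo) (hB G Om hm hp hcon τ ht K L l)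
  sp := by
    rintro K L l ⟨F, i1, i2, ho, ⟨e⟩⟩ A hA B hB' hzz hc
    have b := exists_blk2 hm ht l
    obtain ⟨p, hp⟩ := CharP.exists F
    have hpp : p.Prime := (CharP.char_is_prime_or_zero F p).resolve_right (CharP.char_ne_zero_of_finite F p)
    haveI := Fact.mk hpp
    refine ⟨p, F, i1, i2, hpp, hp, ?_, b.exists_spFacts l.qs l.isComponent ho e hA.1 hB'.1 hA.2 hB'.2
      (fun h => hzz (by rw [h])) hc hzz⟩
    rintro rfl
    exact SignalizersComponents.SLQuasisimple.two_ne_zero_of_odd ho (CharP.cast_eq_zero F 2)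
  lin := fun K L l h => linStmt _ _ _ (exists_blk2 hm ht l) l.qs h

/-- **the dichotomy** -/
theorem dich (hI : CoreTwoEqId.IdentTwo.{u}) (hB : NoBStmt.{u}) : DichStmt.{u} :=
  fun _ _ _ _ hm hp hcon _ ht => sp_or_lin hm hp hcon ht (locIn hI hB hm hp hcon ht)

end Cfsg.Agent.Cit.ThreeDich
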