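import Cfsg.Agent.Cit.CoreThree
import Cfsg.Agent.Cit.UseT2
import Cfsg.Agent.Cit.ThreeLift
import Cfsg.Agent.Nodes.BThreeChart

/-!
# `|Om(S)| = 3`: the pieces are not of type `B 3`

`K₁`, `K₂`, `K₃ ∈ Om(S)`, `z_i = zz K_i`, the involution `z_i` determines `K_i`, `D₁` the piece of `K₂`, `K₃` in
`C(z₁) / O(C(z₁))`, `D₂` the piece of `K₁`, `K₃` in `C(z₂) / O(C(z₂))`, both with a chart of type `B 3`: impossible.

There is `a ∈ D₁` centralising `K₂ K₃` with `a² = z₂ z₃` (`BThreeChart.exists_sq`); it lifts to an element of `G` acting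
on `D₂`, centralising `K₁` and `K₃`, whose square acts on `D₂` as `z₃`: this contradicts `BThreeChart.false_of_sq`.
-/

set_option autoImplicit false
set_option linter.style.haveILetI false
set_option linter.unusedSectionVars false

namespace Cfsg.Agent.Cit.ThreeKillB

open Subgroup Cfsg Cfsg.Agent.Nodes.Chart Cfsg.Agent.Cit.UseT Cfsg.Agent.Cit.Branches Cfsg.Agent.Cit.CoreThree
  Cfsg.Agent.Cit.SubCent

universe u

variable {G : Type*} [Group G] [Finite G] {Om : Set (Subgroup G)} {H K : Subgroup G}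

/-- odd normal subgroups of `K ⊓ H` are in `O(K)` -/
theorem inf_OO_le (hK : K ∈ cov Om H) : K ⊓ OO H ≤ OO K := by
  have h1 : K ⊓ OO H ≤ OO (K ⊓ H) := by
    refine le_OO (inf_le_inf_left _ (OO_le H)) ?_ ?_
    · intro x hx
      rw [mem_normalizer_iff_cj, cj_inf, mem_normalizer_iff_cj.1 (le_normalizer hx.1),
        mem_normalizer_iff_cj.1 (le_normalizer_OO H hx.2)]
    · exact fun h => odd_OO H (h.trans (card_dvd_of_le inf_le_right))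
  rw [OO_inf hK] at h1
  exact h1.trans inf_le_left

/-- an element of `H` normalising `K` normalises `rg H K` -/
theorem mem_normalizer_rg (h : ∀ K ∈ Om, IsType K) (hK : K ∈ cov Om H) {a : G} (ha : a ∈ H)
    (haK : a ∈ normalizer (K : Set G)) : a ∈ normalizer (rg H K : Set G) := by
  have h1 : cj (⟨a, ha⟩ : H) (K.subgroupOf H) = K.subgroupOf H := by
    rw [← cj_subgroupOf]
    congr 1
    exact mem_normalizer_iff_cj.1 haK
  have h2 : rd (K.subgroupOf H) = cj (⟨a, ha⟩ : H) (rd (K.subgroupOf H)) := by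
    have := (isRd h H).cj _ (RdOm.mem_OmIn hK) (⟨a, ha⟩ : H)
    rwa [h1] at this
  rw [mem_normalizer_iff_cj]
  unfold rg
  have h3 : cj a ((rd (K.subgroupOf H)).map H.subtype) = (cj (⟨a, ha⟩ : H) (rd (K.subgroupOf H))).map H.subtype := by
    ext x
    constructor
    · rintro ⟨_, ⟨y, hy, rfl⟩, rfl⟩
      exact ⟨⟨a, ha⟩ * y * ⟨a, ha⟩⁻¹, ⟨y, hy, rfl⟩, rfl⟩
    · rintro ⟨_, ⟨y, hy, rfl⟩, rfl⟩
      exact ⟨y, ⟨y, hy, rfl⟩, rfl⟩
  rw [h3, ← h2]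

/-- an element of `H ⊓ H'` normalising `K` whose image in `H / O(H)` centralises the trace of `K` centralises
the trace of `K` in `H' / O(H')` -/
theorem comm_tr' {H' : Subgroup G} (h : ∀ K ∈ Om, IsType K) (hc : ∀ J ∈ fam Om H', OO J = ⊥)
    (hK : K ∈ cov Om H) (hK' : K ∈ cov Om H') {a : G} (ha : a ∈ H) (ha' : a ∈ H')
    (haK : a ∈ normalizer (K : Set G)) (hcomm : ∀ x ∈ tr H K, qm H ⟨a, ha⟩ * x = x * qm H ⟨a, ha⟩) :
    ∀ x ∈ tr H' K, qm H' ⟨a, ha'⟩ * x = x * qm H' ⟨a, ha'⟩ := by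
  have haO : a ∈ normalizer (OO K : Set G) := by
    rw [mem_normalizer_iff_cj, ← OO_cj, mem_normalizer_iff_cj.1 haK]
  have key : ∀ y ∈ K, a * y * a⁻¹ * y⁻¹ ∈ OO K := by
    intro y hy
    obtain ⟨o, ho, x, hx, rfl⟩ := exists_mul (mem_cov_rg h hK) hy
    -- `[a, x] ∈ O(H) ⊓ K`
    have h1 : a * x * a⁻¹ * x⁻¹ ∈ OO K := by
      apply inf_OO_le hK
      have hxK : x ∈ K := hx.1
      refine ⟨K.mul_mem ((mem_normalizer_iff.1 haK x).1 hxK) (K.inv_mem hxK), ?_⟩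
      obtain ⟨x', hx', rfl⟩ := hx.2
      have h2 := hcomm _ (mem_map_of_mem (qm H) hx')
      have h3 : (⟨a, ha⟩ * x' * ⟨a, ha⟩⁻¹ * x'⁻¹ : H) ∈ (qm H).ker := by
        rw [MonoidHom.mem_ker, map_mul, map_mul, map_mul, map_inv, map_inv, h2]
        group
      rw [ker_qm] at h3
      exact ⟨_, h3, rfl⟩
    have h4 : a * (o * x) * a⁻¹ * (o * x)⁻¹ = (a * o * a⁻¹) * (a * x * a⁻¹ * x⁻¹) * o⁻¹ := by group
    rw [h4]
    exact (OO K).mul_mem ((OO K).mul_mem ((mem_normalizer_iff.1 haO o).1 ho) h1) ((OO K).inv_mem ho)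
  rintro _ ⟨y, hy, rfl⟩
  have hy' : (y : G) ∈ rg H' K := ⟨y, hy, rfl⟩
  have h1 : a * y * a⁻¹ * (y : G)⁻¹ ∈ rg H' K ⊓ OO K :=
    ⟨(rg H' K).mul_mem ((mem_normalizer_iff.1 (mem_normalizer_rg h hK' ha' haK) _).1 hy') ((rg H' K).inv_mem hy'),
      key y (rg_le h hK' hy').1⟩
  obtain ⟨n, hn, hn'⟩ := rg_inf_OO_le h hc hK' h1
  have h2 : (⟨a, ha'⟩ * y * ⟨a, ha'⟩⁻¹ * y⁻¹ : H') = n := Subtype.ext hn'.symm
  have h3 : (⟨a, ha'⟩ * y * ⟨a, ha'⟩⁻¹ * y⁻¹ : H') ∈ (qm H').ker := by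
    rw [ker_qm, h2]; exact hn
  rw [MonoidHom.mem_ker, map_mul, map_mul, map_mul, map_inv, map_inv, mul_inv_eq_one, mul_inv_eq_iff_eq_mul] at h3
  exact h3

/-- **two adjacent pieces of type `B 3`** -/
theorem false_of_three (h : Hyp Om) (ty : ∀ K ∈ Om, IsType K) (hi : Inj Om) {S K₁ K₂ K₃ : Subgroup G}
    (hS : IsPGroup 2 S) (h1 : K₁ ∈ OmS Om S) (h2 : K₂ ∈ OmS Om S) (h3 : K₃ ∈ OmS Om S) (h12 : K₁ ≠ K₂)
    (h13 : K₁ ≠ K₃) (h23 : K₂ ≠ K₃) (hp1 : HasPieces (fam Om (centralizer {zz K₁})))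
    (hp2 : HasPieces (fam Om (centralizer {zz K₂})))
    (t1 : TyPiece (fam Om (centralizer {zz K₁})) (px Om (centralizer {zz K₁}) K₂) (.B 3))
    (e1 : px Om (centralizer {zz K₁}) K₂ = px Om (centralizer {zz K₁}) K₃)
    (t2 : TyPiece (fam Om (centralizer {zz K₂})) (px Om (centralizer {zz K₂}) K₁) (.B 3))
    (e2 : px Om (centralizer {zz K₂}) K₁ = px Om (centralizer {zz K₂}) K₃) : False := by
  set H₁ := centralizer {zz K₁} with hH₁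
  set H₂ := centralizer {zz K₂} with hH₂
  -- the 2-subgroup
  set Q : Subgroup G := ((K₁ ⊓ S) ⊔ (K₂ ⊓ S)) ⊔ (K₃ ⊓ S) with hQ
  have hQS : Q ≤ S := sup_le (sup_le inf_le_right inf_le_right) inf_le_right
  have hQ2 : IsPGroup 2 Q := hS.to_le hQS
  have q1 : K₁ ∈ OmS Om Q := mem_OmS_of_le h1.1 (syl_inf hS h1) (le_sup_left.trans le_sup_left)
  have q2 : K₂ ∈ OmS Om Q := mem_OmS_of_le h2.1 (syl_inf hS h2) (le_sup_right.trans le_sup_left)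
  have q3 : K₃ ∈ OmS Om Q := mem_OmS_of_le h3.1 (syl_inf hS h3) le_sup_right
  have hz : ∀ {K L : Subgroup G}, K ∈ OmS Om S → L ∈ OmS Om S → K ⊓ S ≤ centralizer {zz L} := by
    intro K L hK hL
    by_cases hne : K = L
    · subst hne
      exact inf_le_left.trans (h.le_centralizer hK.1)
    · intro x hx
      rw [mem_centralizer_singleton_iff]
      exact h.comm hS hK hL hne hx (h.zz_mem_inf hS hL)
  have hQH : ∀ {L : Subgroup G}, L ∈ OmS Om S → Q ≤ centralizer {zz L} := fun hL =>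
    sup_le (sup_le (hz h1 hL) (hz h2 hL)) (hz h3 hL)
  have c21 : K₂ ∈ cov Om H₁ := PairComm.mem_cov h hS h2 h1 (Ne.symm h12)
  have c31 : K₃ ∈ cov Om H₁ := PairComm.mem_cov h hS h3 h1 (Ne.symm h13)
  have c11 : K₁ ∈ cov Om H₁ := mem_cov_of_le h1.1 (h.le_centralizer h1.1)
  have c12 : K₁ ∈ cov Om H₂ := PairComm.mem_cov h hS h1 h2 h12
  have c32 : K₃ ∈ cov Om H₂ := PairComm.mem_cov h hS h3 h2 (Ne.symm h23)
  have c22 : K₂ ∈ cov Om H₂ := mem_cov_of_le h2.1 (h.le_centralizer h2.1)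
  have hQ1 : Q ≤ H₁ := hQH h1
  have hQ2' : Q ≤ H₂ := hQH h2
  have hz1Q : zz K₁ ∈ Q := mem_sup_left (mem_sup_left (h.zz_mem_inf hS h1))
  have hz2Q : zz K₂ ∈ Q := mem_sup_left (mem_sup_right (h.zz_mem_inf hS h2))
  have hz3Q : zz K₃ ∈ Q := mem_sup_right (h.zz_mem_inf hS h3)
  -- the element of `D₁`
  obtain ⟨hn1, -, -, p, c, hty, -⟩ := t1
  obtain ⟨hn2, -, -, p', c', hty', -⟩ := t2
  have ne1 : tr H₁ K₂ ≠ tr H₁ K₃ := tr_ne h ty c21 c31 hQ2 hQ1 q2 q3 h23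
  have cm1 : tr H₁ K₂ ≤ centralizer (tr H₁ K₃ : Set (HQ H₁)) := comm_tr h ty hp1.core c21 c31 hQ2 hQ1 q2 q3 h23
  obtain ⟨b, hbD, hbc, hbb⟩ := Nodes.BThreeChart.exists_sq (hyp_fam h ty H₁) c hty (tr_mem c21) (tr_mem c31)
    tr_le_px (e1 ▸ tr_le_px) ne1 fun x hx y hy => (mem_centralizer_iff.1 (cm1 hx) y hy).symm
  -- `b` centralises the trace of `K₁`
  have hpx : px Om H₁ K₁ = tr H₁ K₁ := px_eq_tr_of_central h ty hp1.core c11 le_rfl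
  have hb1 : ∀ x ∈ tr H₁ K₁, b * x = x * b := by
    have h4 : px Om H₁ K₁ ≠ px Om H₁ K₂ := by
      intro e
      apply hn1
      rw [← e, hpx]
      exact tr_mem c11
    have h5 := px_comm c11 c21 h4
    intro x hx
    exact mem_centralizer_iff.1 (h5 (tr_le_px hx)) b hbD
  have hb2 : ∀ x ∈ tr H₁ K₂, b * x = x * b := fun x hx => hbc x (mem_sup_left hx)
  have hb3 : ∀ x ∈ tr H₁ K₃, b * x = x * b := fun x hx => hbc x (mem_sup_right hx)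
  have hbQ : ∀ q (hq : q ∈ Q), b * qm H₁ ⟨q, hQ1 hq⟩ = qm H₁ ⟨q, hQ1 hq⟩ * b := by
    have key : ∀ {K : Subgroup G}, K ∈ OmS Om S → K ∈ cov Om H₁ → (∀ x ∈ tr H₁ K, b * x = x * b) →
        K ⊓ S ≤ pre H₁ (centralizer {b}) := by
      intro K hK hKc hbK x hx
      refine mem_pre.2 ⟨hz hK h1 hx, ?_⟩
      rw [mem_centralizer_singleton_iff]
      obtain ⟨j, hj⟩ := hS ⟨x, hx.2⟩
      exact (hbK _ (mem_tr ty hKc (x := ⟨x, hz hK h1 hx⟩) hx.1 (a := j)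
        (Subtype.ext (by simpa using congrArg Subtype.val hj)))).symm
    have h6 : Q ≤ pre H₁ (centralizer {b}) :=
      sup_le (sup_le (key h1 c11 hb1) (key h2 c21 hb2)) (key h3 c31 hb3)
    intro q hq
    obtain ⟨hqH, hq'⟩ := mem_pre.1 (h6 hq)
    exact (mem_centralizer_singleton_iff.1 hq').symm
  have hbb' : b * b = qm H₁ ⟨zz K₂ * zz K₃, hQ1 (Q.mul_mem hz2Q hz3Q)⟩ := by
    rw [hbb, zz_tr h ty c21, zz_tr h ty c31, ← map_mul]
    rfl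
  have hz23 : zz K₂ * zz K₃ = zz K₃ * zz K₂ :=
    h.comm hS h2 h3 h23 (h.zz_mem_inf hS h2) (h.zz_mem_inf hS h3)
  have hb4 : b ^ 2 ^ 2 = 1 := by
    have h4 : (zz K₂ * zz K₃) * (zz K₂ * zz K₃) = 1 := by
      calc (zz K₂ * zz K₃) * (zz K₂ * zz K₃) = zz K₂ * (zz K₃ * zz K₂) * zz K₃ := by group
        _ = (zz K₂ * zz K₂) * (zz K₃ * zz K₃) := by rw [← hz23]; group
        _ = 1 := by rw [h.zz_mul h2.1, h.zz_mul h3.1, one_mul]
    have h5 : b ^ 2 ^ 2 = (b * b) * (b * b) := by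
      rw [show 2 ^ 2 = 4 from rfl, pow_succ, pow_succ, pow_two]; group
    rw [h5, hbb', ← map_mul]
    have h6 : (⟨zz K₂ * zz K₃, hQ1 (Q.mul_mem hz2Q hz3Q)⟩ * ⟨zz K₂ * zz K₃, hQ1 (Q.mul_mem hz2Q hz3Q)⟩ : H₁) = 1 :=
      Subtype.ext h4
    rw [h6, map_one]
  -- the lift
  obtain ⟨⟨a, haH1⟩, hab, -, haQ, haa⟩ := ThreeLift.exists_lift_elt hQ2 hQ1 hb4 hbQ
  have haa' : a * a = zz K₂ * zz K₃ := haa _ (Q.mul_mem hz2Q hz3Q) hbb'
  have haH2 : a ∈ H₂ := by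
    rw [hH₂, mem_centralizer_singleton_iff]
    exact haQ _ hz2Q
  have hnorm : ∀ {K : Subgroup G}, K ∈ Om → a * zz K = zz K * a → a ∈ normalizer (K : Set G) := by
    intro K hK hc
    rw [mem_normalizer_iff_cj]
    apply hi _ (h.conj K hK a) K hK
    rw [h.zz_cj hK, hc, mul_inv_cancel_right]
  have n1 := hnorm h1.1 (haQ _ hz1Q)
  have n3 := hnorm h3.1 (haQ _ hz3Q)
  -- the image of `a` in `C(z₂) / O(C(z₂))`
  have g1 : ∀ x ∈ tr H₂ K₁, qm H₂ ⟨a, haH2⟩ * x = x * qm H₂ ⟨a, haH2⟩ :=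
    comm_tr' ty hp2.core c11 c12 haH1 haH2 n1 (by rw [hab]; exact hb1)
  have g3 : ∀ x ∈ tr H₂ K₃, qm H₂ ⟨a, haH2⟩ * x = x * qm H₂ ⟨a, haH2⟩ :=
    comm_tr' ty hp2.core c31 c32 haH1 haH2 n3 (by rw [hab]; exact hb3)
  have ne2 : tr H₂ K₁ ≠ tr H₂ K₃ := tr_ne h ty c12 c32 hQ2 hQ2' q1 q3 h13
  have cm2 : tr H₂ K₁ ≤ centralizer (tr H₂ K₃ : Set (HQ H₂)) := comm_tr h ty hp2.core c12 c32 hQ2 hQ2' q1 q3 h13
  refine Nodes.BThreeChart.false_of_sq (hyp_fam h ty H₂) c' hty' (tr_mem c12) (tr_mem c32) tr_le_px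
    (e2 ▸ tr_le_px) ne2 (fun x hx y hy => (mem_centralizer_iff.1 (cm2 hx) y hy).symm)
    (g := qm H₂ ⟨a, haH2⟩) ?_ g1 g3 ?_
  · rw [mem_normalizer_iff_cj]
    have h4 := px_cj h ty ⟨a, haH2⟩ c12
    rw [← h4]
    congr 1
    exact mem_normalizer_iff_cj.1 n1
  · intro x hx
    have h4 : qm H₂ ⟨a, haH2⟩ * qm H₂ ⟨a, haH2⟩ = zz (tr H₂ K₂) * zz (tr H₂ K₃) := by
      rw [zz_tr h ty c22, zz_tr h ty c32, ← map_mul, ← map_mul]
      congr 1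
      exact Subtype.ext haa'
    -- `zz (tr H₂ K₂)` is central
    have h5 : ∀ y : HQ H₂, y * zz (tr H₂ K₂) = zz (tr H₂ K₂) * y := by
      intro y
      obtain ⟨y, rfl⟩ := qm_surjective H₂ y
      rw [zz_tr h ty c22, ← map_mul, ← map_mul]
      congr 1
      exact Subtype.ext (mem_centralizer_singleton_iff.1 y.2)
    rw [h4]
    calc zz (tr H₂ K₂) * zz (tr H₂ K₃) * x * (zz (tr H₂ K₂) * zz (tr H₂ K₃))⁻¹
        = zz (tr H₂ K₂) * (zz (tr H₂ K₃) * x * (zz (tr H₂ K₃))⁻¹) * (zz (tr H₂ K₂))⁻¹ := by group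
      _ = (zz (tr H₂ K₃) * x * (zz (tr H₂ K₃))⁻¹) * zz (tr H₂ K₂) * (zz (tr H₂ K₂))⁻¹ := by rw [h5]
      _ = zz (tr H₂ K₃) * x * (zz (tr H₂ K₃))⁻¹ := by rw [mul_inv_cancel_right]

/-- **the pieces are not of type `B 3`** -/
theorem false_of_typed {G : Type u} [Group G] [Finite G] {Om : Set (Subgroup G)} (hm : MinS Om) (hc : Card Om 3)
    (hi : Inj Om) (hcon : Con Om) (ht : Typed Om (.B 3)) : False := by
  obtain ⟨S⟩ : Nonempty (Sylow 2 G) := inferInstance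
  obtain ⟨K₁, h1, K₂, h2, h12⟩ := CoreThree.Card.exists_mem hc S
  obtain ⟨K₃, hE, h13, h23⟩ := exists_three hc S h1 h2 h12
  have h3 : K₃ ∈ OmS Om (S : Subgroup G) := by rw [hE]; simp
  exact false_of_three hm.hyp hm.isType hi S.isPGroup' h1 h2 h3 h12 h13 h23 (hm.fam_cent (hm.hyp.zz_ne h1.1))
    (hm.fam_cent (hm.hyp.zz_ne h2.1)) (ht S K₁ h1 K₂ h2 h12) (hcon S K₁ h1 K₂ h2 K₃ h3 h12 h13)
    (ht S K₂ h2 K₁ h1 (Ne.symm h12)) (hcon S K₂ h2 K₁ h1 K₃ h3 (Ne.symm h12) h23)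

end Cfsg.Agent.Cit.ThreeKillB
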