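import Cfsg.Agent.Cit.ThreeAFour
import Cfsg.Agent.Cit.ThreeLift
import Cfsg.Agent.Cit.ThreeCoreSLH

/-!
# `|Om(S)| = 3`, `z₁ z₂ z₃ = 1`: the piece of the other members in `C(z_K) / O(C(z_K))`

`Loc3 Om K L` : HYP, `z₁ z₂ z₃ = 1`, `Con`, pieces for `C(z_K)`, `L ≠ K` adjacent to `K`. With `C = C(z_K)`,
`D = PP Om K L` (the piece of the trace of `L`), `F = fam Om C`:

* `cov_iff` : the members covered by `C` are the members adjacent to `K`;
* `PP_eq`, `tr_le` : the traces of all of them, except `K`, are in `D`; `normal`, `isComponent`;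
* `comm_self` : the trace of `K` centralises `D`; `not_le`;
* `MM Om K L` : the members of `F` in `D`; `mem_MM`, `det`, `znc`, `exists_pr`, `mem_loc`, ...
-/

set_option autoImplicit false
set_option linter.style.haveILetI false
set_option linter.unusedSectionVars false

namespace Cfsg.Agent.Cit.TriLoc

open Subgroup Cfsg Cfsg.Agent.Cit Cfsg.Agent.Cit.UseT Cfsg.Agent.Cit.SubCent Cfsg.Agent.Cit.CoreThree
open Cfsg.Agent.Cit.Branches Cfsg.Agent.Cit.CoresG
open Cfsg.Agent.Cit.TypeDet (cm cm_iff_le_centralizer cm_symm)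
open Cfsg.Agent.SignalizersComponents.Components

variable {G : Type*} [Group G] [Finite G] {Om : Set (Subgroup G)} {K L J : Subgroup G}

/-- the members covered by `C(z_K)` are the members adjacent to `K` -/
theorem cov_iff (h : Hyp Om) (hK : K ∈ Om) : J ∈ cov Om (centralizer {zz K}) ↔ Adj Om K J := by
  constructor
  · intro hJ
    obtain ⟨T, hT, -, h1, h2⟩ := ThreeAFour.exists_common h hK hJ
    obtain ⟨S, hS⟩ := hT.exists_le_sylow
    exact ⟨S, OmS_mono hS h1, OmS_mono hS h2⟩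
  · rintro ⟨S, h1, h2⟩
    exact CoresG.mem_cov h S.isPGroup' h2 (zz_mem_ES h1)

/-- data -/
structure Loc3 (Om : Set (Subgroup G)) (K L : Subgroup G) : Prop where
  pre : TriFact.Pre Om
  ty : ∀ K ∈ Om, IsType K
  hp : HasPieces (fam Om (centralizer {zz K}))
  con : Con Om
  adj : Adj Om K L
  ne : L ≠ K

namespace Loc3

variable (l : Loc3 Om K L)

include l

theorem hK : K ∈ Om := l.adj.left

theorem hyp : Hyp Om := l.pre.hyp

theorem hf : Hyp (fam Om (centralizer {zz K})) := hyp_fam l.hyp l.ty _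

theorem core : ∀ J ∈ fam Om (centralizer {zz K}), OO J = ⊥ := l.hp.core

theorem cov_adj (hJ : Adj Om K J) : J ∈ cov Om (centralizer {zz K}) := (cov_iff l.hyp l.hK).2 hJ

theorem cov_self : K ∈ cov Om (centralizer {zz K}) := ThreeAFour.mem_cov_self l.hyp l.hK

theorem congr (hJ : Adj Om K J) (hne : J ≠ K) : Loc3 Om K J := ⟨l.pre, l.ty, l.hp, l.con, hJ, hne⟩

/-- equal involutions of traces -/
theorem tr_eq_of_zz {N N' : Subgroup G} (hN : N ∈ cov Om (centralizer {zz K}))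
    (hN' : N' ∈ cov Om (centralizer {zz K}))
    (hz : zz (tr (centralizer {zz K}) N) = zz (tr (centralizer {zz K}) N')) :
    tr (centralizer {zz K}) N = tr (centralizer {zz K}) N' := by
  have hOm := l.hyp
  rw [zz_tr hOm l.ty hN, zz_tr hOm l.ty hN'] at hz
  obtain ⟨n, hn, hn2⟩ := exists_ker_conj (not_dvd_ker (centralizer {zz K}))
    (z := ⟨zz N, zz_mem_of_cov hOm hN⟩) (t := ⟨zz N', zz_mem_of_cov hOm hN'⟩)
    (Subtype.ext (hOm.zz_mul hN.1)) (Subtype.ext (hOm.zz_mul hN'.1)) hz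
  rw [ker_qm] at hn
  refine (tr_eq_iff hOm l.ty hN hN').2 ⟨n, hn, ?_⟩
  apply l.pre.inj (hOm.conj N hN.1 _) hN'.1
  rw [hOm.zz_cj hN.1]
  exact congrArg Subtype.val hn2

/-- `det` -/
theorem det {A B : Subgroup (HQ (centralizer {zz K}))} (hA : A ∈ fam Om (centralizer {zz K}))
    (hB : B ∈ fam Om (centralizer {zz K})) (hz : zz A = zz B) : A = B := by
  obtain ⟨N, hN, rfl⟩ := exists_tr hA
  obtain ⟨N', hN', rfl⟩ := exists_tr hB
  exact l.tr_eq_of_zz hN hN' hz

/-- the trace of a member `≠ K` is not the trace of `K` -/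
theorem tr_ne_self (hJ : Adj Om K J) (hne : J ≠ K) : tr (centralizer {zz K}) K ≠ tr (centralizer {zz K}) J := by
  intro he
  obtain ⟨x, -, hx⟩ := (tr_eq_iff l.hyp l.ty l.cov_self (l.cov_adj hJ)).1 he
  apply hne
  rw [← hx]
  exact l.pre.cj_eq l.hK (mem_centralizer_singleton_iff.1 x.2)

theorem comm_tr_self (hJ : Adj Om K J) (hne : J ≠ K) :
    tr (centralizer {zz K}) K ≤ centralizer (tr (centralizer {zz K}) J : Set (HQ (centralizer {zz K}))) := by
  obtain ⟨T, hT, hTH, h1, h2⟩ := ThreeAFour.exists_common l.hyp l.hK (l.cov_adj hJ)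
  exact comm_tr l.hyp l.ty l.core l.cov_self (l.cov_adj hJ) hT hTH h1 h2 (Ne.symm hne)

/-- the third member -/
theorem exists_third (hJ : Adj Om K J) (hne : J ≠ K) : ∃ N, Adj Om K N ∧ N ≠ K ∧ N ≠ J ∧ Adj Om J N ∧
    zz K * zz J = zz N ∧ PP Om K N = PP Om K J ∧ tr (centralizer {zz K}) N ≠ tr (centralizer {zz K}) J ∧
    tr (centralizer {zz K}) N ≤ centralizer (tr (centralizer {zz K}) J : Set (HQ (centralizer {zz K}))) := by
  have hc := l.cov_adj hJ
  obtain ⟨S, h1, h2⟩ := hJ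
  obtain ⟨N, hN, h3, h4, h5⟩ := l.pre.mul S K h1 J h2 (Ne.symm hne)
  have hS := S.isPGroup'
  have hNK : Adj Om K N := ⟨S, h1, hN⟩
  have hcN := l.cov_adj hNK
  have hT : IsPGroup 2 (DD Om (S : Subgroup G)) := hS.to_le DD_le
  have hTH := DD_le_cent l.hyp hS (zz_mem_ES h1)
  have h2' : J ∈ OmS Om (DD Om (S : Subgroup G)) := by rw [OmS_DD hS]; exact h2
  have hN' : N ∈ OmS Om (DD Om (S : Subgroup G)) := by rw [OmS_DD hS]; exact hN
  exact ⟨N, hNK, h3, h4, ⟨S, h2, hN⟩, h5, l.con S K h1 N hN J h2 (Ne.symm h3) (Ne.symm hne),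
    tr_ne l.hyp l.ty hcN hc hT hTH hN' h2' h4, comm_tr l.hyp l.ty l.core hcN hc hT hTH hN' h2' h4⟩

/-- all members adjacent to `K` have traces in the same piece -/
theorem PP_eq (hJ : Adj Om K J) (hne : J ≠ K) : PP Om K J = PP Om K L := by
  by_contra hP
  obtain ⟨N, hN1, hN2, -, -, -, hN3, hN4, hN5⟩ := l.exists_third l.adj l.ne
  have hcL := l.cov_adj l.adj
  have hcN := l.cov_adj hN1
  have hcJ := l.cov_adj hJ
  set C := centralizer ({zz K} : Set G) with hC
  have h1 : tr C J ≤ centralizer (tr C L : Set (HQ C)) :=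
    (le_pc.trans (pc_comm (tr_mem hcJ) (tr_mem hcL) hP)).trans (centralizer_le le_pc)
  have h2 : tr C J ≤ centralizer (tr C N : Set (HQ C)) :=
    (le_pc.trans (pc_comm (tr_mem hcJ) (tr_mem hcN) (by rw [← hN3] at hP; exact hP))).trans (centralizer_le le_pc)
  have e1 : tr C J ≠ tr C L := fun e => hP (congrArg (pc (fam Om C)) e)
  have e2 : tr C J ≠ tr C N := fun e => hP ((congrArg (pc (fam Om C)) e).trans hN3)
  have e3 := l.tr_ne_self hJ hne
  have e4 := l.tr_ne_self l.adj l.ne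
  have e5 := l.tr_ne_self hN1 hN2
  have c3 := l.comm_tr_self hJ hne
  have c4 := l.comm_tr_self l.adj l.ne
  have c5 := l.comm_tr_self hN1 hN2
  have h4 : ({tr C K, tr C J, tr C L, tr C N} : Set (Subgroup (HQ C))).ncard ≤ 3 := by
    refine ThreeLift.ncard_le l.hyp l.ty l.pre.three ?_ ?_
    · rintro X (rfl | rfl | rfl | rfl)
      · exact tr_mem l.cov_self
      · exact tr_mem hcJ
      · exact tr_mem hcL
      · exact tr_mem hcN
    · rintro X (rfl | rfl | rfl | rfl) Y (rfl | rfl | rfl | rfl) hXY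
      · exact absurd rfl hXY
      · exact cm_iff_le_centralizer.2 c3
      · exact cm_iff_le_centralizer.2 c4
      · exact cm_iff_le_centralizer.2 c5
      · exact cm_symm (cm_iff_le_centralizer.2 c3)
      · exact absurd rfl hXY
      · exact cm_iff_le_centralizer.2 h1
      · exact cm_iff_le_centralizer.2 h2
      · exact cm_symm (cm_iff_le_centralizer.2 c4)
      · exact cm_symm (cm_iff_le_centralizer.2 h1)
      · exact absurd rfl hXY
      · exact cm_symm (cm_iff_le_centralizer.2 hN5)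
      · exact cm_symm (cm_iff_le_centralizer.2 c5)
      · exact cm_symm (cm_iff_le_centralizer.2 h2)
      · exact cm_iff_le_centralizer.2 hN5
      · exact absurd rfl hXY
  classical
  have h5 : ({tr C K, tr C J, tr C L, tr C N} : Set (Subgroup (HQ C))).ncard = 4 := by
    rw [Set.ncard_insert_of_notMem, Set.ncard_insert_of_notMem, Set.ncard_insert_of_notMem, Set.ncard_singleton]
    · rw [Set.mem_singleton_iff]; exact Ne.symm hN4
    · simp only [Set.mem_insert_iff, Set.mem_singleton_iff, not_or]; exact ⟨e1, e2⟩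
    · simp only [Set.mem_insert_iff, Set.mem_singleton_iff, not_or]; exact ⟨e3, e4, e5⟩
  omega

theorem tr_le (hJ : Adj Om K J) (hne : J ≠ K) : tr (centralizer {zz K}) J ≤ PP Om K L := by
  rw [← l.PP_eq hJ hne]
  exact le_pc

/-- `D` is normal -/
theorem normal : (PP Om K L).Normal := by
  have key : ∀ g : HQ (centralizer {zz K}), cj g (PP Om K L) = PP Om K L := by
    intro g
    obtain ⟨x, rfl⟩ := qm_surjective (centralizer {zz K}) g
    rw [PP, cj_pc l.hf.conj, ← tr_cj l.ty x (l.cov_adj l.adj)]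
    have h1 : cj (x : G) K = K := l.pre.cj_eq l.hK (mem_centralizer_singleton_iff.1 x.2)
    have h2 : Adj Om K (cj (x : G) L) := by
      have := l.adj.conj l.hyp.conj (x : G)
      rwa [h1] at this
    have h3 : cj (x : G) L ≠ K := fun e => l.ne (cj_inj.1 (e.trans h1.symm))
    exact l.PP_eq h2 h3
  refine ⟨fun n hn g => ?_⟩
  rw [← key g]
  exact ⟨n, hn, rfl⟩

/-- the trace of `K` is a piece of its own -/
theorem pc_self : pc (fam Om (centralizer {zz K})) (tr (centralizer {zz K}) K) = tr (centralizer {zz K}) K :=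
  ThreeAFour.pc_tr_self l.hyp l.ty l.hK l.core

/-- the trace of `K` is not contained in `D` -/
theorem not_le : ¬ tr (centralizer {zz K}) K ≤ PP Om K L := by
  intro h1
  have h2 := ThreeAFour.pc_eq_of_le l.hf (tr_mem (l.cov_adj l.adj)) (tr_mem l.cov_self) h1
  rw [l.pc_self] at h2
  have h3 : tr (centralizer {zz K}) L ≤ tr (centralizer {zz K}) K := by
    rw [h2]; exact le_pc
  exact l.tr_ne_self l.adj l.ne (l.hf.eq_of_le (tr_mem (l.cov_adj l.adj)) (tr_mem l.cov_self) h3).symm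

/-- the trace of `K` centralises `D` -/
theorem comm_self : tr (centralizer {zz K}) K ≤ centralizer (PP Om K L : Set (HQ (centralizer {zz K}))) := by
  have h1 : pc (fam Om (centralizer {zz K})) (tr (centralizer {zz K}) K) ≠ PP Om K L := by
    intro e
    apply l.not_le
    rw [← e]
    exact le_pc
  exact le_pc.trans (pc_comm (tr_mem l.cov_self) (tr_mem (l.cov_adj l.adj)) h1)

/-- the trace of `K` is normal -/
theorem normal_self : (tr (centralizer {zz K}) K).Normal := by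
  have key : ∀ g : HQ (centralizer {zz K}), cj g (tr (centralizer {zz K}) K) = tr (centralizer {zz K}) K := by
    intro g
    obtain ⟨x, rfl⟩ := qm_surjective (centralizer {zz K}) g
    rw [← tr_cj l.ty x l.cov_self, l.pre.cj_eq l.hK (mem_centralizer_singleton_iff.1 x.2)]
  refine ⟨fun n hn g => ?_⟩
  rw [← key g]
  exact ⟨n, hn, rfl⟩

/-- `D` is not a single member -/
theorem notMem : PP Om K L ∉ fam Om (centralizer {zz K}) := by
  intro hm
  obtain ⟨N, hN1, hN2, -, -, -, hN3, hN4, hN5⟩ := l.exists_third l.adj l.ne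
  have h1 := l.hf.eq_of_le (tr_mem (l.cov_adj l.adj)) hm le_pc
  have h2 := l.hf.eq_of_le (tr_mem (l.cov_adj hN1)) hm (l.tr_le hN1 hN2)
  exact hN4 (h2.trans h1.symm)

theorem qs : IsQuasisimple (PP Om K L) :=
  ((l.hp.piece l.hf (tr_mem (l.cov_adj l.adj))).quasisimple l.notMem).1

theorem two : IsPGroup 2 (center (PP Om K L)) :=
  ((l.hp.piece l.hf (tr_mem (l.cov_adj l.adj))).quasisimple l.notMem).2

theorem isComponent : IsComponent (PP Om K L) := ⟨l.normal.isSubnormal, l.qs⟩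

theorem mem_normalizer (g : HQ (centralizer {zz K})) : g ∈ normalizer (PP Om K L : Set (HQ (centralizer {zz K}))) := by
  have h1 := l.normal
  rw [normalizer_eq_top_iff.2 h1]
  trivial

end Loc3

/-- the members of `fam` in `D` -/
def MM (Om : Set (Subgroup G)) (K L : Subgroup G) : Set (Subgroup (HQ (centralizer {zz K}))) :=
  {A | A ∈ fam Om (centralizer {zz K}) ∧ A ≤ PP Om K L}

namespace Loc3

variable (l : Loc3 Om K L)

include l

theorem mem_MM {A : Subgroup (HQ (centralizer {zz K}))} :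
    A ∈ MM Om K L ↔ ∃ N, Adj Om K N ∧ N ≠ K ∧ tr (centralizer {zz K}) N = A := by
  constructor
  · rintro ⟨hA, hle⟩
    obtain ⟨N, hN, rfl⟩ := exists_tr hA
    refine ⟨N, (cov_iff l.hyp l.hK).1 hN, ?_, rfl⟩
    rintro rfl
    exact l.not_le hle
  · rintro ⟨N, hN, hne, rfl⟩
    exact ⟨tr_mem (l.cov_adj hN), l.tr_le hN hne⟩

theorem conj_MM {A : Subgroup (HQ (centralizer {zz K}))} (hA : A ∈ MM Om K L) (g : HQ (centralizer {zz K})) :
    cj g A ∈ MM Om K L := by
  refine ⟨l.hf.conj A hA.1 g, ?_⟩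
  have h1 := cj_mono g hA.2
  rwa [mem_normalizer_iff_cj.1 (l.mem_normalizer g)] at h1

/-- involutions of members are not central in `D` -/
theorem znc {A : Subgroup (HQ (centralizer {zz K}))} (hA : A ∈ MM Om K L) :
    zz A ∉ centralizer (PP Om K L : Set (HQ (centralizer {zz K}))) := by
  intro hz
  have hn : PP Om K L ≤ normalizer (A : Set (HQ (centralizer {zz K}))) := by
    intro d hd
    rw [mem_normalizer_iff_cj]
    refine l.det (l.hf.conj A hA.1 d) hA.1 ?_
    rw [l.hf.zz_cj hA.1, mem_centralizer_iff.1 hz d hd, mul_inv_cancel_right]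
  have hN : (A.subgroupOf (PP Om K L)).Normal := (normal_subgroupOf_iff_le_normalizer hA.2).2 hn
  rcases SignalizersComponents.LayerBasic.quasisimple_normal l.qs _ hN with h1 | h1
  · exact l.notMem ((le_antisymm hA.2 (subgroupOf_eq_top.1 h1)) ▸ hA.1)
  · refine l.hf.not_le_centralizer_self hA.1 fun x hx y hy => ?_
    have h2 : (⟨x, hA.2 hx⟩ : PP Om K L) ∈ center (PP Om K L) := h1 hx
    exact congrArg Subtype.val ((mem_center_iff.1 h2) ⟨y, hA.2 hy⟩)

theorem zz_tr' {N : Subgroup G} (hN : Adj Om K N) :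
    zz (tr (centralizer {zz K}) N) = ThreeCore.qt K (zz N) := by
  have h1 := l.cov_adj hN
  rw [zz_tr l.hyp l.ty h1, ThreeCore.qt_eq (zz_mem_of_cov l.hyp h1)]
  rfl

/-- partners -/
theorem exists_pr {A : Subgroup (HQ (centralizer {zz K}))} (hA : A ∈ MM Om K L) :
    ∃ B, ThreeCore.Pr (ThreeCore.qt K (zz K)) (MM Om K L) A B := by
  obtain ⟨N, hN, hne, rfl⟩ := l.mem_MM.1 hA
  obtain ⟨N', h1, h2, -, -, h3, -, -, h4⟩ := l.exists_third hN hne
  refine ⟨tr (centralizer {zz K}) N', hA, l.mem_MM.2 ⟨N', h1, h2, rfl⟩, h4, ?_⟩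
  have hself : Adj Om K K := by
    obtain ⟨S, hS, -⟩ := hN
    exact ⟨S, hS, hS⟩
  rw [l.zz_tr' hN, l.zz_tr' h1, ← h3]
  have e1 := zz_mem_of_cov l.hyp (l.cov_adj hN)
  have e2 := zz_mem_of_cov l.hyp l.cov_self
  have hc : zz K * zz N = zz N * zz K := (mem_centralizer_singleton_iff.1 e1).symm
  rw [← ThreeCore.qt_mul e1 (mul_mem e2 e1), hc, ← mul_assoc, l.hyp.zz_mul hN.right, one_mul]

theorem self_central (x : ThreeCore.HQ K) : ThreeCore.qt K (zz K) * x = x * ThreeCore.qt K (zz K) := by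
  have h1 := zz_mem_of_cov l.hyp l.cov_self
  rw [ThreeCore.qt_eq h1]
  exact ThreeAFour.qm_zz_central h1 x

theorem surj {A : Subgroup (HQ (centralizer {zz K}))} (hA : A ∈ MM Om K L) :
    ∃ N, Adj Om K N ∧ N ≠ K ∧ zz A = ThreeCore.qt K (zz N) := by
  obtain ⟨N, hN, hne, rfl⟩ := l.mem_MM.1 hA
  exact ⟨N, hN, hne, l.zz_tr' hN⟩

/-- 2-elements of `N ⊓ C(z_K)` are in the trace of `N` -/
theorem syl_mem {N Q : Subgroup G} (hN : Adj Om K N) (hQ : Syl Q N) (hQK : Q ≤ centralizer {zz K}) {x : G}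
    (hx : x ∈ Q) : ThreeCore.qt K x ∈ tr (centralizer {zz K}) N := by
  rw [ThreeCore.qt_eq (hQK hx)]
  obtain ⟨a, ha⟩ := hQ.2.1 ⟨x, hx⟩
  have ha' : x ^ 2 ^ a = 1 := congrArg Subtype.val ha
  exact mem_tr l.ty (l.cov_adj hN) (x := ⟨x, hQK hx⟩) (hQ.1 hx) (a := a) (Subtype.ext ha')

/-- the image of `z_N` centralises the trace of `J` iff `J`, `N` are adjacent -/
theorem cent_iff (hJ : Adj Om K J) {N : Subgroup G} (hN : N ∈ Om) (hNK : zz N * zz K = zz K * zz N)
    (hNJ : zz N * zz J = zz J * zz N) :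
    ThreeCore.qt K (zz N) ∈ centralizer (tr (centralizer {zz K}) J : Set (ThreeCore.HQ K)) ↔ Adj Om J N := by
  have hJc := l.cov_adj hJ
  have t := l.pre.tri l.ty
  have hNC : zz N ∈ centralizer ({zz K} : Set G) := mem_centralizer_singleton_iff.2 hNK
  set C := centralizer ({zz K} : Set G) with hC
  rw [ThreeCore.qt_eq hNC]
  constructor
  · intro hcen
    have h1 : zz N ∈ normalizer ((J ⊓ C : Subgroup G) : Set G) := by
      rw [mem_normalizer_iff_cj, cj_inf, mem_normalizer_iff_cj.1 (l.pre.mem_normalizer hJ.right hNJ),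
        mem_normalizer_iff_cj.1 (le_normalizer hNC)]
    obtain ⟨Q, hQ, hQN⟩ := OneBasic.exists_syl_normalized (ThreeCore.isPGroup_zpowers_zz t hN)
      ((zpowers_le).2 h1)
    refine t.adj_of_cent hJ.right hN (syl_of_syl_inf hJc hQ) fun x hx => ?_
    have hxC : x ∈ C := (hQ.1 hx).2
    have h2 : zz N * x * (zz N)⁻¹ * x⁻¹ ∈ Q :=
      Q.mul_mem ((mem_normalizer_iff.1 (hQN (mem_zpowers _)) x).1 hx) (Q.inv_mem hx)
    obtain ⟨a, ha⟩ := hQ.2.1 ⟨_, h2⟩
    have h3 : ThreeCore.pr K ⟨x, hxC⟩ ∈ tr C J := by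
      have := l.syl_mem hJ (syl_of_syl_inf hJc hQ) (hQ.1.trans inf_le_right) hx
      rwa [ThreeCore.qt_eq hxC] at this
    have h4 := mem_centralizer_iff.1 hcen _ h3
    have h5 : qm C (⟨zz N, hNC⟩ * ⟨x, hxC⟩ * ⟨zz N, hNC⟩⁻¹ * ⟨x, hxC⟩⁻¹) = 1 := by
      rw [map_mul, map_mul, map_mul, map_inv, map_inv, mul_inv_eq_one, mul_inv_eq_iff_eq_mul]
      exact h4.symm
    have h6 : zz N * x * (zz N)⁻¹ * x⁻¹ ∈ XX (zz K) := (mem_ker_iff C).1 h5
    have h7 := CoreTools.eq_one_of_mem_XX h6 (n := a) (congrArg Subtype.val ha)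
    rw [mul_inv_eq_one, mul_inv_eq_iff_eq_mul] at h7
    exact h7
  · intro hadj
    have htr := ThreeCore.triv_of_adj t l.ty hadj
    rw [mem_centralizer_iff]
    rintro _ ⟨y, hy, rfl⟩
    have hr := isRd l.ty C
    have hm := RdOm.mem_OmIn hJc
    have hyJ : y ∈ J.subgroupOf C := hr.le _ hm hy
    -- the commutator
    set a : C := ⟨zz N, hNC⟩ with ha
    have hNJn : zz N ∈ normalizer (J : Set G) := l.pre.mem_normalizer hJ.right hNJ
    have haJ : a ∈ normalizer (J.subgroupOf C : Set C) := by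
      rw [mem_normalizer_iff_cj, ← cj_subgroupOf, mem_normalizer_iff_cj.1 hNJn]
    have har : a ∈ normalizer (rd (J.subgroupOf C) : Set C) := hr.normalizer_le hm haJ
    have hw : a * y * a⁻¹ * y⁻¹ ∈ (OO J).subgroupOf C ⊓ rd (J.subgroupOf C) := by
      refine ⟨htr y hyJ, ?_⟩
      exact (rd (J.subgroupOf C)).mul_mem ((mem_normalizer_iff.1 har y).1 hy) ((rd (J.subgroupOf C)).inv_mem hy)
    have h1 : (((OO J).subgroupOf C ⊓ rd (J.subgroupOf C)).map (qm C)) ≤ OO (tr C J) := by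
      refine le_OO (Subgroup.map_mono inf_le_right) ?_ ?_
      · rintro _ ⟨c, hc, rfl⟩
        rw [mem_normalizer_iff_cj, ← cj_map, cj_inf, mem_normalizer_iff_cj.1 (le_normalizer hc)]
        congr 2
        have h2 : (c : G) ∈ normalizer (J : Set G) := le_normalizer (hr.le _ hm hc)
        rw [← cj_subgroupOf, ← OO_cj, mem_normalizer_iff_cj.1 h2]
      · intro h2
        have h3 := h2.trans (card_map_dvd _ _)
        have h4 : Nat.card (((OO J).subgroupOf C ⊓ rd (J.subgroupOf C) : Subgroup C)) ∣ Nat.card (OO J) := by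
          refine (card_dvd_of_le inf_le_left).trans ?_
          rw [← card_map_of_injective C.subtype_injective, subgroupOf_map_subtype]
          exact card_dvd_of_le inf_le_left
        exact odd_OO J (h3.trans h4)
    rw [l.core _ (tr_mem hJc)] at h1
    have h2 : qm C (a * y * a⁻¹ * y⁻¹) = 1 := mem_bot.1 (h1 ⟨_, hw, rfl⟩)
    rw [map_mul, map_mul, map_mul, map_inv, map_inv, mul_inv_eq_one, mul_inv_eq_iff_eq_mul] at h2
    exact h2.symm

/-- the field `mem` of `LocSL` -/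
theorem mem_loc (hJ : Adj Om K J) (hne : J ≠ K) : ∃ J' ∈ MM Om K L, zz J' = ThreeCore.qt K (zz J) ∧
    (∀ Q, Syl Q J → Q ≤ centralizer {zz K} → ∀ x ∈ Q, ThreeCore.qt K x ∈ J') ∧
    (∀ N ∈ Om, zz N * zz K = zz K * zz N → zz N * zz J = zz J * zz N →
      (ThreeCore.qt K (zz N) ∈ centralizer (J' : Set (ThreeCore.HQ K)) ↔ Adj Om J N)) :=
  ⟨tr (centralizer {zz K}) J, l.mem_MM.2 ⟨J, hJ, hne, rfl⟩, l.zz_tr' hJ, fun _ hQ hQK _ hx => l.syl_mem hJ hQ hQK hx,
    fun _ hN h1 h2 => l.cent_iff hJ hN h1 h2⟩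

theorem adj_self : Adj Om K K := by
  obtain ⟨S, hS, -⟩ := l.adj
  exact ⟨S, hS, hS⟩

/-- the field `own` of `LocSL` -/
theorem own {Q : Subgroup G} (hQ : Syl Q K) {x : G} (hx : x ∈ Q) :
    ThreeCore.qt K x ∈ centralizer (PP Om K L : Set (ThreeCore.HQ K)) :=
  l.comm_self (l.syl_mem l.adj_self hQ (hQ.1.trans (l.hyp.le_centralizer l.hK)) hx)

/-- a chart: the members are generated by `p`-elements -/
theorem pgen {p : ℕ} (c : Nodes.Chart.Chart (fam Om (centralizer {zz K})) p (PP Om K L))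
    {A : Subgroup (HQ (centralizer {zz K}))} (hA : A ∈ MM Om K L) : ThreeCore.PGen p A := by
  obtain ⟨r, hr, g, -, rfl⟩ := c.om_conj A hA.1 hA.2
  have key : ∀ s ∈ c.R, ∀ Y : Subgroup (HQ (centralizer {zz K})), (∀ v ∈ c.Z s, ∀ w, w = g * v * g⁻¹ →
      IsPGroup p (zpowers w) → w ∈ Y) → cj g (c.Z s) ≤ Y := by
    rintro s hs Y hY _ ⟨v, hv, rfl⟩
    refine hY v hv _ rfl ?_
    have h1 : IsPGroup p (cj g (c.Z s)) := (Nodes.ClsMap.isPGroup_Z c.cls hs).map _
    exact h1.to_le (zpowers_le.2 ⟨v, hv, rfl⟩)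
  intro Y hY
  change cj g (c.Z r ⊔ c.Z (-r)) ≤ Y
  rw [cj_sup]
  refine sup_le (key r hr Y ?_) (key (-r) (Nodes.ClsMap.neg_mem c.cls hr) Y ?_)
  · rintro v hv _ rfl hw
    exact hY _ ⟨v, mem_sup_left hv, rfl⟩ hw
  · rintro v hv _ rfl hw
    exact hY _ ⟨v, mem_sup_right hv, rfl⟩ hw

/-- elements of `Z(D)` are 2-elements -/
theorem two_elt {x : HQ (centralizer {zz K})} (hx : x ∈ PP Om K L)
    (hc : x ∈ centralizer (PP Om K L : Set (HQ (centralizer {zz K})))) : ∃ k : ℕ, x ^ 2 ^ k = 1 := by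
  have h1 : (⟨x, hx⟩ : PP Om K L) ∈ center (PP Om K L) := by
    rw [mem_center_iff]
    intro y
    exact Subtype.ext (mem_centralizer_iff.1 hc y y.2)
  obtain ⟨k, hk⟩ := l.two ⟨_, h1⟩
  exact ⟨k, congrArg (fun y : center (PP Om K L) => ((y : PP Om K L) : HQ (centralizer {zz K}))) hk⟩

end Loc3

/-! ### The fields using the statements `OddStmt`, `FixStmt`, `CTStmt` -/

section

universe u

variable {G : Type u} [Group G] [Finite G] {Om : Set (Subgroup G)} {K L : Subgroup G}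

theorem Loc3.fix (l : Loc3 Om K L) (hfix : FixStmt.{u}) {p : ℕ}
    (c : Nodes.Chart.Chart (fam Om (centralizer {zz K})) p (PP Om K L)) : CT.FixP p (PP Om K L) :=
  hfix _ _ l.hf (core_HQ _) p _ l.isComponent ⟨c⟩

/-- the field `tame` of `LocSL` -/
theorem Loc3.tame (l : Loc3 Om K L) (hct : CTStmt.{u}) {Q : Subgroup G} (hQ : Syl Q K)
    {a : ThreeCore.HQ K} (ha : a ∈ PP Om K L) (haa : a * a = 1) {y : ThreeCore.HQ K} (hy : y ∈ XX a) {x : G}
    (hx : x ∈ Q) : ThreeCore.qt K x * y = y * ThreeCore.qt K x := by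
  have hQK : Q ≤ centralizer {zz K} := hQ.1.trans (l.hyp.le_centralizer l.hK)
  have h1 := hct (HQ (centralizer {zz K})) (fam Om (centralizer {zz K})) l.hf (ty_fam l.ty _) l.hp (core_HQ _)
    (tr (centralizer {zz K}) K) (tr_mem l.cov_self) _ (syl_tr l.ty l.cov_self hQ hQK) a haa (by
      rintro _ ⟨q, hq, rfl⟩
      have h2 : qm (centralizer {zz K}) q ∈ centralizer (PP Om K L : Set (HQ (centralizer {zz K}))) := by
        have h3 := l.own hQ (x := (q : G)) hq
        rw [ThreeCore.qt_eq q.2] at h3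
        exact h3
      exact (mem_centralizer_iff.1 h2 a ha).symm) y hy (qm (centralizer {zz K}) ⟨x, hQK hx⟩)
    ⟨⟨x, hQK hx⟩, hx, rfl⟩
  rw [ThreeCore.qt_eq (hQK hx)]
  exact h1

end

end Cfsg.Agent.Cit.TriLoc
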