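import Cfsg.Agent.Cit.TwoBasic

/-!
# Classical involutions, `|Om(S)| = 2`, `z_K ≠ z_L`: THEOREM A (bb R18 #6419)

If commuting partners of a member are equal, then `w = zz K * zz L` (`K`, `L` partners) is isolated in `G`:
it commutes with no other element of `ZZ Om = w^G`.
-/

set_option autoImplicit false
set_option linter.style.haveILetI false
set_option linter.unusedSectionVars false

namespace Cfsg.Agent.Cit

open Subgroup Cfsg

variable {G : Type*} [Group G]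

/-- commuting partners of a member are equal -/
def Iso (Om : Set (Subgroup G)) : Prop :=
  ∀ K L M, Pt Om K L → Pt Om K M → zz L * zz M = zz M * zz L → L = M

namespace Two

variable [Finite G] {Om : Set (Subgroup G)}

theorem swap_absurd (h : Two Om) (iso : Iso Om) {A B K L : Subgroup G} (hP : Pt Om A B) (hKL : Pt Om K L)
    (hA : cj (zz A) K = L) (hB : zz B * zz K = zz K * zz B)
    (hw : (zz K * zz L) * zz A = zz A * (zz K * zz L)) : False := by
  have e1 : zz L = zz A * zz K * (zz A)⁻¹ := by rw [← hA, h.hyp.zz_cj hKL.left]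
  have e2 : cj (zz K) B = B := (h.cj_eq_iff hP.right).2 hB.symm
  have e3 : Pt Om B (cj (zz K) A) := by
    have := hP.symm.cj h.hyp.conj (zz K)
    rwa [e2] at this
  have hAA := h.hyp.zz_mul hP.left
  have hAi := h.hyp.zz_inv hP.left
  have hKi := h.hyp.zz_inv hKL.left
  -- `z_K z_A z_K⁻¹ = z_A (z_L z_K)`
  have e4 : zz K * zz A * (zz K)⁻¹ = zz A * (zz K * zz L) := by
    have h1 : zz A * zz K = zz L * zz A := by rw [e1]; group
    have h2 : zz K * zz A = zz A * zz L := by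
      rw [e1, hAi]
      calc zz K * zz A = 1 * zz K * zz A := by rw [one_mul]
        _ = (zz A * zz A) * zz K * zz A := by rw [hAA]
        _ = _ := by group
    rw [h2, hKi, mul_assoc, ← hKL.comm h.hyp]
  have e5 : zz A * zz (cj (zz K) A) = zz (cj (zz K) A) * zz A := by
    rw [h.hyp.zz_cj hP.left, e4, mul_assoc, hw]
  have e6 := iso B A (cj (zz K) A) hP.symm e3 e5
  have e7 : zz K * zz A = zz A * zz K := (h.cj_eq_iff hP.left).1 e6.symm
  apply hKL.1
  rw [← hA]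
  exact ((h.cj_eq_iff hKL.left).2 e7.symm).symm

/-- (A1) -/
theorem exists_fix (h : Two Om) (iso : Iso Om) {w y : G} (hw : w ∈ ZZ Om) (hy : y ∈ ZZ Om)
    (hc : w * y = y * w) : ∃ S : Sylow 2 G, ∃ K L, y ∈ (S : Subgroup G) ∧ K ∈ OmS Om (S : Subgroup G) ∧
      L ∈ OmS Om (S : Subgroup G) ∧ K ≠ L ∧ w = zz K * zz L ∧ y * zz K = zz K * y ∧ y * zz L = zz L * y := by
  haveI : Fact (Nat.Prime 2) := ⟨Nat.prime_two⟩
  obtain ⟨S, U, V, hyS, hU, hV, hUV, hwUV⟩ := h.sylow_of_comm hw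
    (isPGroup_zpowers_of_sq (h.ZZ_mul_self hy)) (by
      rintro a ⟨k, rfl⟩
      exact ((show Commute y w from hc.symm).zpow_left k).eq)
  have hy' : y ∈ (S : Subgroup G) := hyS (mem_zpowers y)
  have hyy := h.ZZ_mul_self hy
  have hyi : y⁻¹ = y := inv_eq_of_mul_eq_one_right hyy
  rcases h.cj_or S.isPGroup' hU hV hUV (le_normalizer hy') with ⟨h1, h2⟩ | ⟨h1, h2⟩
  · exact ⟨S, U, V, hy', hU, hV, hUV, hwUV, (h.cj_eq_iff hU.1).1 h1, (h.cj_eq_iff hV.1).1 h2⟩
  -- `y` swaps `U`, `V`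
  obtain ⟨q, hq, hq4⟩ := h.hyp.exists_four S.isPGroup' hU
  have hqz : q * q = zz U := h.hyp.sq_eq_zz hU.1 hq.1 hq4
  have hqV : y * q * y⁻¹ ∈ V ⊓ (S : Subgroup G) := by
    refine ⟨?_, (S : Subgroup G).mul_mem ((S : Subgroup G).mul_mem hy' hq.2) ((S : Subgroup G).inv_mem hy')⟩
    have := conj_mem_cj (g := y) hq.1
    rwa [h1] at this
  have hqq : q * (y * q * y⁻¹) = (y * q * y⁻¹) * q := h.hyp.comm S.isPGroup' hU hV hUV hq hqV
  have hzV : zz V = y * zz U * y⁻¹ := by rw [← h1, h.hyp.zz_cj hU.1]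
  obtain ⟨v, hv⟩ : ∃ v, v = q * (y * q * y⁻¹) := ⟨_, rfl⟩
  have hvw : v * v = w := by
    rw [hv]
    calc q * (y * q * y⁻¹) * (q * (y * q * y⁻¹)) = q * ((y * q * y⁻¹) * q) * (y * q * y⁻¹) := by group
      _ = q * (q * (y * q * y⁻¹)) * (y * q * y⁻¹) := by rw [hqq]
      _ = (q * q) * (y * (q * q) * y⁻¹) := by group
      _ = w := by rw [hqz, ← hzV, hwUV]
  have hvy : v * y = y * v := by
    rw [hv]
    calc q * (y * q * y⁻¹) * y = (y * q * y⁻¹) * q * y := by rw [hqq]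
      _ = y * q * (y⁻¹ * q * y) := by group
      _ = y * q * (y * q * y⁻¹) := by rw [show y⁻¹ * q * y = y * q * y⁻¹ by rw [hyi]]
      _ = y * (q * (y * q * y⁻¹)) := by group
  have hvS : v ∈ (S : Subgroup G) := by rw [hv]; exact (S : Subgroup G).mul_mem hq.2 hqV.2
  obtain ⟨S', K', L', hvS', hK', hL', hKL', hyKL⟩ := h.sylow_of_comm hy (A := zpowers v)
    (S.isPGroup'.to_le (zpowers_le.2 hvS)) (by
      rintro a ⟨k, rfl⟩
      exact ((show Commute v y from hvy).zpow_left k).eq)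
  have hv' : v ∈ (S' : Subgroup G) := hvS' (mem_zpowers v)
  have hP' : Pt Om K' L' := ⟨hKL', S', S'.isPGroup', hK', hL'⟩
  have hwK : cj w K' = K' ∧ cj w L' = L' := by
    rw [← hvw, cj_mul, cj_mul]
    rcases h.cj_or S'.isPGroup' hK' hL' hKL' (le_normalizer hv') with ⟨h3, h4⟩ | ⟨h3, h4⟩
    · rw [h3, h3, h4, h4]; exact ⟨rfl, rfl⟩
    · rw [h3, h4, h3]; exact ⟨rfl, rfl⟩
  have hwK' := (h.cj_eq_iff hK'.1).1 hwK.1
  have hwL' := (h.cj_eq_iff hL'.1).1 hwK.2
  -- a Sylow 2-subgroup of `C(w)` containing `zz K'`, `zz L'`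
  obtain ⟨T, K, L, hT, hK, hL, hKL, hwKL⟩ := h.sylow_of_comm hw
    (A := (S' : Subgroup G) ⊓ centralizer {w}) (S'.isPGroup'.to_le inf_le_left)
    (fun a ha => mem_centralizer_singleton_iff.1 ha.2)
  have hPKL : Pt Om K L := ⟨hKL, T, T.isPGroup', hK, hL⟩
  have huT : zz K' ∈ (T : Subgroup G) := hT ⟨(h.hyp.zz_mem_inf S'.isPGroup' hK').2,
    mem_centralizer_singleton_iff.2 hwK'.symm⟩
  have huT' : zz L' ∈ (T : Subgroup G) := hT ⟨(h.hyp.zz_mem_inf S'.isPGroup' hL').2,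
    mem_centralizer_singleton_iff.2 hwL'.symm⟩
  have hyT : y ∈ (T : Subgroup G) := by rw [hyKL]; exact (T : Subgroup G).mul_mem huT huT'
  rcases h.cj_or T.isPGroup' hK hL hKL (le_normalizer hyT) with ⟨h3, h4⟩ | ⟨h3, h4⟩
  · exact ⟨T, K, L, hyT, hK, hL, hKL, hwKL, (h.cj_eq_iff hK.1).1 h3, (h.cj_eq_iff hL.1).1 h4⟩
  exfalso
  rcases h.cj_or T.isPGroup' hK hL hKL (le_normalizer huT) with ⟨h5, h6⟩ | ⟨h5, h6⟩ <;>
    rcases h.cj_or T.isPGroup' hK hL hKL (le_normalizer huT') with ⟨h7, h8⟩ | ⟨h7, h8⟩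
  · apply hKL
    rw [← h3, hyKL, cj_mul, h7, h5]
  · refine h.swap_absurd iso hP'.symm hPKL h7 ((h.cj_eq_iff hK.1).1 h5) ?_
    rw [← hwKL]; exact hwL'
  · refine h.swap_absurd iso hP' hPKL h5 ((h.cj_eq_iff hK.1).1 h7) ?_
    rw [← hwKL]; exact hwK'
  · apply hKL
    rw [← h3, hyKL, cj_mul, h7, h6]

/-- (A2) -/
theorem fix_absurd (h : Two Om) (iso : Iso Om) {y : G} (hy : y ∈ ZZ Om) (S : Sylow 2 G) {K L : Subgroup G}
    (hyS : y ∈ (S : Subgroup G)) (hK : K ∈ OmS Om (S : Subgroup G)) (hL : L ∈ OmS Om (S : Subgroup G))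
    (hKL : K ≠ L) (hyK : y * zz K = zz K * y) (hyL : y * zz L = zz L * y) : y = zz K * zz L := by
  haveI : Fact (Nat.Prime 2) := ⟨Nat.prime_two⟩
  by_contra hne
  have hP : Pt Om K L := ⟨hKL, S, S.isPGroup', hK, hL⟩
  have hyy := h.ZZ_mul_self hy
  have hQ : Syl (K ⊓ S) K := syl_inf S.isPGroup' hK
  have hn : y ∈ normalizer ((K ⊓ S : Subgroup G) : Set G) := by
    rw [mem_normalizer_iff_cj, cj_inf, (h.cj_eq_iff hK.1).2 hyK, mem_normalizer_iff_cj.1 (le_normalizer hyS)]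
  have hzy : zz K * y ∈ ZZ Om := by
    rcases h.ZZ_or hK.1 hQ hy hn with ⟨M, hM, hyM⟩ | ⟨b, hb, hby⟩
    · exfalso
      apply hne
      rw [iso K L M hP hM ?_]
      · exact hyM
      · have h1 : zz M = zz K * y := by rw [hyM, ← mul_assoc, h.hyp.zz_mul hK.1, one_mul]
        rw [h1]
        calc zz L * (zz K * y) = (zz L * zz K) * y := by group
          _ = (zz K * zz L) * y := by rw [hP.comm h.hyp]
          _ = zz K * (zz L * y) := by group
          _ = zz K * (y * zz L) := by rw [hyL]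
          _ = _ := by group
    · rw [← hby]
      exact h.ZZ_cj hy b
  obtain ⟨T, U, V, hT, hU, hV, hUV, hyUV⟩ := h.sylow_of_comm hy
    (A := (S : Subgroup G) ⊓ centralizer {y}) (S.isPGroup'.to_le inf_le_left)
    (fun a ha => mem_centralizer_singleton_iff.1 ha.2)
  have hPUV : Pt Om U V := ⟨hUV, T, T.isPGroup', hU, hV⟩
  have hKT : zz K ∈ (T : Subgroup G) := hT ⟨(h.hyp.zz_mem_inf S.isPGroup' hK).2,
    mem_centralizer_singleton_iff.2 hyK.symm⟩
  have hLT : zz L ∈ (T : Subgroup G) := hT ⟨(h.hyp.zz_mem_inf S.isPGroup' hL).2,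
    mem_centralizer_singleton_iff.2 hyL.symm⟩
  -- `zz K` fixes `U`, `V`
  have swp : ∀ {x : G}, x * x = 1 → cj x U = V → zz U * x * (zz U)⁻¹ = x * y := by
    intro x hx hxU
    have e1 : zz V = x * zz U * x⁻¹ := by rw [← hxU, h.hyp.zz_cj hU.1]
    have hxi : x⁻¹ = x := inv_eq_of_mul_eq_one_right hx
    rw [hyUV, hPUV.comm h.hyp, e1, hxi, h.hyp.zz_inv hU.1]
    calc zz U * x * zz U = 1 * zz U * x * zz U := by rw [one_mul]
      _ = (x * x) * zz U * x * zz U := by rw [hx]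
      _ = _ := by group
  rcases h.cj_or T.isPGroup' hU hV hUV (le_normalizer hKT) with ⟨h1, h2⟩ | ⟨h1, h2⟩
  swap
  · have h3 := swp (h.hyp.zz_mul hK.1) h1
    rw [← h3, ← h.hyp.zz_cj hK.1] at hzy
    exact h.disj (h.hyp.conj K hK.1 _) hzy
  have cKU := (h.cj_eq_iff hU.1).1 h1
  have cKV := (h.cj_eq_iff hV.1).1 h2
  rcases h.cj_or T.isPGroup' hU hV hUV (le_normalizer hLT) with ⟨h3, h4⟩ | ⟨h3, h4⟩
  swap
  · have h5 := swp (h.hyp.zz_mul hL.1) h3
    have h6 : Pt Om K (cj (zz U) L) := by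
      have := hP.cj h.hyp.conj (zz U)
      rwa [(h.cj_eq_iff hK.1).2 cKU.symm] at this
    have h7 := iso K L _ hP h6 (by
      rw [h.hyp.zz_cj hL.1, h5]
      calc zz L * (zz L * y) = zz L * (y * zz L) := by rw [hyL]
        _ = _ := by group)
    have h8 : zz L = zz L * y := by
      rw [← h5, ← h.hyp.zz_cj hL.1, ← h7]
    exact h.ZZ_ne_one hy (by simpa using h8.symm)
  have cLU := (h.cj_eq_iff hU.1).1 h3
  have cLV := (h.cj_eq_iff hV.1).1 h4
  have hKU : K ≠ U := by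
    intro h5
    apply h.disj hV.1
    have : zz V = zz K * y := by rw [hyUV, ← h5, ← mul_assoc, h.hyp.zz_mul hK.1, one_mul]
    rw [this]; exact hzy
  have hKV : K ≠ V := by
    intro h5
    apply h.disj hU.1
    have : zz U = zz K * y := by
      rw [hyUV, hPUV.comm h.hyp, ← h5, ← mul_assoc, h.hyp.zz_mul hK.1, one_mul]
    rw [this]; exact hzy
  have key : ∀ {A B : Subgroup G}, Pt Om A B → A ∈ OmS Om (T : Subgroup G) → K ≠ A → K ≠ B →
      zz K * zz A = zz A * zz K → zz K * zz B = zz B * zz K → zz L * zz A = zz A * zz L → cj (zz K) A = A →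
      ∃ b ∈ A ⊓ (T : Subgroup G), b * zz K * b⁻¹ = zz A * zz K := by
    intro A B hAB hA hKA hKB cKA cKB cLA h5
    have h6 : zz K ∈ normalizer ((A ⊓ T : Subgroup G) : Set G) := by
      rw [mem_normalizer_iff_cj, cj_inf, h5, mem_normalizer_iff_cj.1 (le_normalizer hKT)]
    rcases h.zz_or hA.1 hK.1 hKA.symm (syl_inf T.isPGroup' hA) h6 with h7 | h7
    · exfalso
      have h8 : L = A := iso K L A hP h7.symm cLA
      rw [← h8] at hAB
      exact hKB (iso L K B hP.symm hAB cKB)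
    · exact h7
  obtain ⟨b, hb, hbK⟩ := key hPUV hU hKU hKV cKU cKV cLU h1
  obtain ⟨c, hc, hcK⟩ := key hPUV.symm hV hKV hKU cKV cKU cLV h2
  have hcU : c * zz U = zz U * c :=
    (h.hyp.comm T.isPGroup' hU hV hUV (h.hyp.zz_mem_inf T.isPGroup' hU) hc).symm
  have h9 : (c * b) * zz K * (c * b)⁻¹ = zz K * y := by
    calc (c * b) * zz K * (c * b)⁻¹ = c * (b * zz K * b⁻¹) * c⁻¹ := by group
      _ = c * (zz U * zz K) * c⁻¹ := by rw [hbK]
      _ = (c * zz U) * zz K * c⁻¹ := by group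
      _ = zz U * (c * zz K * c⁻¹) := by rw [hcU]; group
      _ = zz U * (zz V * zz K) := by rw [hcK]
      _ = (zz U * zz V) * zz K := by group
      _ = zz K * y := by rw [← hyUV, hyK]
  rw [← h9, ← h.hyp.zz_cj hK.1] at hzy
  exact h.disj (h.hyp.conj K hK.1 _) hzy

/-- **THEOREM A**: if commuting partners are equal, then commuting elements of `ZZ Om` are equal -/
theorem theoremA (h : Two Om) (iso : Iso Om) {w y : G} (hw : w ∈ ZZ Om) (hy : y ∈ ZZ Om)
    (hc : w * y = y * w) : y = w := by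
  obtain ⟨S, K, L, hyS, hK, hL, hKL, hwKL, hyK, hyL⟩ := h.exists_fix iso hw hy hc
  rw [hwKL]
  exact h.fix_absurd iso hy S hyS hK hL hKL hyK hyL

end Two

end Cfsg.Agent.Cit
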