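import Cfsg.Agent.Cit.TwoA
import Cfsg.Agent.S0215

/-!
# Classical involutions, `|Om(S)| = 2`, `z_K ≠ z_L`: in a simple group some member has two commuting partners
-/

set_option autoImplicit false
set_option linter.style.haveILetI false
set_option linter.unusedSectionVars false

namespace Cfsg.Agent.Cit

open Subgroup Cfsg

variable {G : Type*} [Group G]

namespace Two

variable [Finite G] {Om : Set (Subgroup G)}

theorem exists_OmS (h : Two Om) (S : Sylow 2 G) : ∃ K L, K ∈ OmS Om (S : Subgroup G) ∧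
    L ∈ OmS Om (S : Subgroup G) ∧ K ≠ L := by
  obtain ⟨K, L, hne, hKL⟩ := Set.ncard_eq_two.1 (h.two S)
  exact ⟨K, L, by rw [hKL]; simp, by rw [hKL]; simp, hne⟩

/-- members are not abelian -/
theorem not_comm (h : Two Om) {K : Subgroup G} (hK : K ∈ Om) : ∃ x ∈ K, ∃ y ∈ K, x * y ≠ y * x := by
  obtain ⟨Q, hQ⟩ := Hyp.exists_syl K
  obtain ⟨c, v, n, hq⟩ := h.hyp.exists_gq hK hQ
  exact ⟨v, hQ.1 hq.v_mem, c, hQ.1 hq.c_mem, hq.not_comm⟩

/-- if an element of `ZZ Om` is isolated, then `G` is not simple -/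
theorem not_isolated (h : Two Om) [IsSimpleGroup G]
    (hiso : ∀ w ∈ ZZ Om, ∀ y ∈ ZZ Om, w * y = y * w → y = w) : False := by
  haveI : Fact (Nat.Prime 2) := ⟨Nat.prime_two⟩
  obtain ⟨S⟩ : Nonempty (Sylow 2 G) := inferInstance
  obtain ⟨K, L, hK, hL, hne⟩ := h.exists_OmS S
  have hP : Pt Om K L := ⟨hne, S, S.isPGroup', hK, hL⟩
  obtain ⟨w, hw⟩ : ∃ w, w = zz K * zz L := ⟨_, rfl⟩
  have hwZ : w ∈ ZZ Om := ⟨K, L, hP, hw⟩
  have hwS : w ∈ (S : Subgroup G) := by
    rw [hw]
    exact (S : Subgroup G).mul_mem (h.hyp.zz_mem_inf S.isPGroup' hK).2 (h.hyp.zz_mem_inf S.isPGroup' hL).2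
  have hw2 : orderOf w = 2 :=
    orderOf_eq_prime (by rw [pow_two]; exact h.ZZ_mul_self hwZ) (h.ZZ_ne_one hwZ)
  obtain ⟨N, hN, hodd, hcomm⟩ := Cfsg.Agent.S0215.result S w hw2 hwS (by
    intro g hg
    apply hiso w hwZ _ (h.ZZ_cj hwZ g)
    have := h.comm_mul S.isPGroup' hK hL hne (le_normalizer hg)
    rw [← hw] at this
    exact this.symm)
  rcases hN.eq_bot_or_eq_top with h1 | h1
  · -- `w` is central
    have h2 : w ∈ center G := by
      rw [mem_center_iff]
      intro g
      have h3 := hcomm g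
      rw [h1, mem_bot] at h3
      calc g * w = (w * g * w⁻¹ * g⁻¹) * (g * w) := by rw [h3, one_mul]
        _ = w * g := by group
    rcases (inferInstance : (center G).Normal).eq_bot_or_eq_top with h3 | h3
    · rw [h3, mem_bot] at h2
      exact h.ZZ_ne_one hwZ h2
    · obtain ⟨x, -, y, -, hxy⟩ := h.not_comm hK.1
      apply hxy
      have h4 : y ∈ center G := by rw [h3]; trivial
      exact (mem_center_iff.1 h4 x)
  · rw [h1, card_top, Nat.odd_iff] at hodd
    have h2 : 2 ∣ Nat.card G := by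
      rw [← hw2]
      exact orderOf_dvd_natCard w
    omega

/-- in a simple group commuting partners need not be equal -/
theorem not_iso (h : Two Om) [IsSimpleGroup G] : ¬ Iso Om := fun iso =>
  h.not_isolated fun _ hw _ hy hc => h.theoremA iso hw hy hc

end Two

end Cfsg.Agent.Cit
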