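import Mathlib
import Cfsg.Agent.Nodes.KindA
import Cfsg.Agent.Nodes.KindB
import Cfsg.Agent.Nodes.KindC

/-!
# Roots of the types with two members in a frame (project CIT, `TwoAlt`)

* `c2_V`, `c2_exists` : type `C 2`;
* `a4_link` : type `A 4` : any two roots are linked by a root orthogonal to both;
* `a3_pair`, `b3_pair`, `c2_pair` : the roots different from the frame are orthogonal to none of the two frame roots or to
  both.
-/

set_option autoImplicit false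
set_option linter.unusedSectionVars false

namespace Cfsg.Agent.Cit.TwoAltRoots

open CoxeterSystem Cfsg.Agent.ChevalleyStructure.CoxeterGeom Cfsg.Agent.Tits.Roots Cfsg.Agent.Tits.Core
  Cfsg.Agent.Nodes.Coroot Cfsg.Agent.Nodes.Reps

section BC

open Nodes.TypeC Nodes.TypeCForm Nodes.KindBC

/-! ### Type `C 2` -/

theorem c2_aux : ∀ a b u v : Fin 2 × Bool, a.1 ≠ b.1 → 0 < (wt u + wt v) b.1 * sn b →
    (∀ k, (wt u + wt v) k = (wt b + wt b) k) ∨ (wt u + wt v) a.1 * sn a ≠ 0 := by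
  decide

theorem c2_aux2 : ∀ a b c d : Fin 2 × Bool, a.1 ≠ b.1 → (wt c + wt d) a.1 = 0 ∨ (wt c + wt d) b.1 = 0 ∨
    (wt c + wt d) a.1 = (wt c + wt d) b.1 ∨ (wt c + wt d) a.1 = -(wt c + wt d) b.1 := by
  decide

variable {W : Type*} [Group W] [Fintype W] {cs : CoxeterSystem (CoxeterMatrix.B 2) W}

theorem c2_ne {r s : Fin 2 → ℤ} {a b : Fin 2 × Bool} (ea : r = rt a a) (eb : s = rt b b)
    (ho : form cs (isCartan 2) r s = 0) : a.1 ≠ b.1 := by
  intro he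
  have hs : IsRoot cs (isCartan 2) s := by rw [eb]; exact isRoot_rt cs (Or.inr rfl)
  have o := (cpr_zero_iff cs (isCartan 2) r hs).2 ho
  rw [ea, eb, cpr_rt_self, ee_rt, Pi.add_apply, ← he, wt_apply_self] at o
  rcases sn_eq_one_or a with e1 | e1 <;> rcases sn_eq_one_or b with e2 | e2 <;> rw [e1, e2] at o <;>
    norm_num at o

/-- the roots positive on `s` are `s` and roots not orthogonal to `r` -/
theorem c2_V {r s y : Fin 2 → ℤ} (hr : r ∈ RC 2) (hs : s ∈ RC 2) (ho : form cs (isCartan 2) r s = 0)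
    (hy : IsRoot cs (isCartan 2) y) (h0 : 0 < form cs (isCartan 2) y s) :
    y = s ∨ (y ≠ r ∧ y ≠ -r ∧ form cs (isCartan 2) y r ≠ 0) := by
  obtain ⟨a, ea⟩ := mem_RC.1 hr
  obtain ⟨b, eb⟩ := mem_RC.1 hs
  have hab := c2_ne ea eb ho
  obtain ⟨u, v, -, e⟩ := exists_rt hy
  have h1 := (cpr_pos_iff cs (isCartan 2) y (root_RC cs hs)).2 h0
  rw [eb, cpr_rt_self, e, ee_rt] at h1
  rcases c2_aux a b u v hab h1 with h2 | h2
  · left
    rw [eb]
    apply eq_rt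
    rw [e, ee_rt]
    exact funext h2
  · right
    refine ⟨?_, ?_, ?_⟩
    · rintro rfl
      omega
    · rintro rfl
      rw [form_neg_left] at h0
      omega
    · rw [Ne, ← cpr_zero_iff cs (isCartan 2) y (root_RC cs hr), ea, cpr_rt_self, e, ee_rt]
      exact h2

/-- the short roots -/
theorem c2_exists {γ : Fin 2 → ℤ} (hγ : IsRoot cs (isCartan 2) γ) (hn : γ ∉ RC 2) :
    ∃ r ∈ RC 2, ∃ s ∈ RC 2, form cs (isCartan 2) r s = 0 ∧ 0 < form cs (isCartan 2) γ r ∧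
      0 < form cs (isCartan 2) γ s ∧
      ∀ w, ¬ Btwn cs (isCartan 2) (-r) (γ - cpr cs (isCartan 2) γ r • r) w := by
  obtain ⟨u, v, huv, rfl⟩ := exists_rt hγ
  have huv' : u.1 ≠ v.1 := by
    rcases huv with h | rfl
    · exact h
    · exact absurd (rt_mem_RC u) hn
  have hu : ∀ a : Fin 2 × Bool, sn a * sn a = 1 := by decide
  have hr : IsRoot cs (isCartan 2) (rt u u) := root_RC cs (rt_mem_RC u)
  have hs : IsRoot cs (isCartan 2) (rt v v) := root_RC cs (rt_mem_RC v)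
  have c1 : cpr cs (isCartan 2) (rt u v) (rt u u) = 1 := by
    rw [cpr_rt_self, ee_rt, Pi.add_apply, wt_apply_self, wt_apply_ne huv', add_zero, hu]
  have c2 : cpr cs (isCartan 2) (rt u v) (rt v v) = 1 := by
    rw [cpr_rt_self, ee_rt, Pi.add_apply, wt_apply_self, wt_apply_ne huv'.symm, zero_add, hu]
  refine ⟨rt u u, rt_mem_RC u, rt v v, rt_mem_RC v, ?_, ?_, ?_, ?_⟩
  · rw [← cpr_zero_iff cs (isCartan 2) _ hs, cpr_rt_self, ee_rt, Pi.add_apply, wt_apply_ne huv'.symm]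
    norm_num
  · rw [← cpr_pos_iff cs (isCartan 2) _ hr, c1]
    norm_num
  · rw [← cpr_pos_iff cs (isCartan 2) _ hs, c2]
    norm_num
  · rintro w ⟨hw, m, a, b, hm, ha, hb, e⟩
    obtain ⟨c, d, -, rfl⟩ := exists_rt hw
    have e1 := congrArg ee e
    rw [c1, one_smul, sub_eq_add_neg, ee_smul, ee_add, ee_smul, ee_smul, ee_add, ee_neg, ee_rt, ee_rt, ee_rt] at e1
    have e2 := congrFun e1 u.1
    have e3 := congrFun e1 v.1
    have k1 := c2_aux2 u v c d huv'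
    set x := (wt c + wt d) u.1 with hx
    set y := (wt c + wt d) v.1 with hy
    simp only [Pi.smul_apply, Pi.add_apply, Pi.neg_apply, smul_eq_mul, wt_apply_self, wt_apply_ne huv',
      wt_apply_ne huv'.symm] at e2 e3
    have e2' : m * x = a * (-(sn u + sn u)) + b * (sn u + 0 + -(sn u + sn u)) := e2
    have e3' : m * y = a * (-(0 + 0)) + b * (0 + sn v + -(0 + 0)) := e3
    have k2 : m * x = 0 ∨ m * y = 0 ∨ m * x = m * y ∨ m * x = -(m * y) := by
      rcases k1 with k | k | k | k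
      · exact Or.inl (by rw [k, mul_zero])
      · exact Or.inr (Or.inl (by rw [k, mul_zero]))
      · exact Or.inr (Or.inr (Or.inl (by rw [k])))
      · exact Or.inr (Or.inr (Or.inr (by rw [k, mul_neg])))
    clear_value x y
    generalize m * x = P at e2' k2
    generalize m * y = Q at e3' k2
    rcases sn_eq_one_or u with s1 | s1 <;> rcases sn_eq_one_or v with s2 | s2 <;> rw [s1] at e2' <;>
      rw [s2] at e3' <;> rcases k2 with k1 | k1 | k1 | k1 <;> omega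

theorem c2_pair {x : Fin 2 → ℤ} (hx : IsRoot cs (isCartan 2) x) {k l : Fin 2} (hkl : k ≠ l)
    (h1 : x ≠ Nodes.KindC.fr 2 k) (h2 : x ≠ -Nodes.KindC.fr 2 k) :
    form cs (isCartan 2) x (Nodes.KindC.fr 2 l) ≠ 0 := by
  have key : ∀ (k l : Fin 2) (u v : Fin 2 × Bool), k ≠ l → Ok u v → (wt u + wt v) l = 0 →
      (∀ i, (wt u + wt v) i = (wt (k, true) + wt (k, true)) i) ∨
      (∀ i, (wt u + wt v) i = (wt (k, false) + wt (k, false)) i) := by
    unfold Ok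
    decide
  obtain ⟨u, v, huv, rfl⟩ := exists_rt hx
  rw [Ne, ← cpr_zero_iff cs (isCartan 2) _ (Nodes.KindC.isRoot_fr cs l), Nodes.KindC.cpr_fr, ee_rt]
  intro h3
  rcases key k l u v hkl huv h3 with h4 | h4
  · apply h1
    unfold Nodes.KindC.fr rt
    rw [funext h4]
  · apply h2
    unfold Nodes.KindC.fr
    rw [← rt_ng]
    unfold rt
    rw [funext h4]
    rfl

/-! ### Type `B 3` -/

open Nodes.KindB in
theorem b3_pair {W : Type*} [Group W] [Fintype W] {cs : CoxeterSystem (CoxeterMatrix.B 3) W} {x : Fin 3 → ℤ}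
    (hx : IsRoot cs (isCartan 3) x) {k l : Fin (2 * (3 / 2))} (hkl : k ≠ l) (h1 : x ≠ fr 3 k) (h2 : x ≠ -fr 3 k)
    (h3 : x ≠ fr 3 l) (h4 : x ≠ -fr 3 l) :
    form cs (isCartan 3) x (fr 3 k) = 0 ↔ form cs (isCartan 3) x (fr 3 l) = 0 := by
  have key : ∀ (k l : Fin (2 * (3 / 2))) (u v : Fin 3 × Bool), k ≠ l → Ok u v →
      ((wt u + wt v) (i0 k) + sgn k * (wt u + wt v) (i1 k) = 0) →
      ((wt u + wt v) (i0 l) + sgn l * (wt u + wt v) (i1 l) = 0) ∨
      (∀ i, (wt u + wt v) i = (wt (i0 l, true) + wt (i1 l, decide ((l : ℕ) % 2 = 0))) i) ∨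
      (∀ i, (wt u + wt v) i = (wt (i0 l, false) + wt (i1 l, !decide ((l : ℕ) % 2 = 0))) i) := by
    unfold Ok
    decide
  obtain ⟨u, v, huv, rfl⟩ := exists_rt hx
  have aux : ∀ k l : Fin (2 * (3 / 2)), k ≠ l → rt u v ≠ fr 3 l → rt u v ≠ -fr 3 l →
      form cs (isCartan 3) (rt u v) (fr 3 k) = 0 → form cs (isCartan 3) (rt u v) (fr 3 l) = 0 := by
    intro k l hkl h1 h2 h3
    rw [← cpr_zero_iff cs (isCartan 3) _ (isRoot_fr cs _), cpr_fr, ee_rt] at h3 ⊢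
    rcases key k l u v hkl huv h3 with h4 | h4 | h4
    · exact h4
    · refine absurd ?_ h1
      unfold fr rt
      rw [funext h4]
    · refine absurd ?_ h2
      unfold fr
      rw [← rt_ng]
      unfold rt
      rw [funext h4]
      rfl
  exact ⟨aux k l hkl h3 h4, aux l k hkl.symm h1 h2⟩

end BC

/-! ### Types `A 3`, `A 4` -/

section A

open Nodes.RootsA Nodes.KindA
open Cfsg.Agent.LieRecognition.BNCox (cA cA_apply)

theorem a3_pair {W : Type*} [Group W] [Fintype W] {cs : CoxeterSystem (cA 3) W} {A : Fin 3 → Fin 3 → ℤ}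
    {h : IsCartan (cA 3) A} {x : Fin 3 → ℤ} (hx : IsRoot cs h x) {k l : Fin ((3 + 1) / 2)} (hkl : k ≠ l)
    (h1 : x ≠ g 3 k) (h2 : x ≠ -g 3 k) : form cs h x (g 3 l) ≠ 0 := by
  have key : ∀ (k l : Fin ((3 + 1) / 2)) (a b : Fin (3 + 1)), a ≠ b → k ≠ l →
      (a ≠ fi 3 l 0 ∧ a ≠ fi 3 l 1 ∧ b ≠ fi 3 l 0 ∧ b ≠ fi 3 l 1) →
      (a = fi 3 k 0 ∧ b = fi 3 k 1) ∨ (a = fi 3 k 1 ∧ b = fi 3 k 0) := by
    decide
  obtain ⟨a, b, hab, rfl⟩ := exists_of_isRoot cs h hx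
  rw [Ne, ← cpr_zero_iff cs h _ (isRoot_g cs h l)]
  intro h3
  have h4 := (cpr_eq_zero_iff cs h hab (fi_ne l)).1 h3
  rcases key k l a b hab hkl h4 with ⟨rfl, rfl⟩ | ⟨rfl, rfl⟩
  · exact h1 rfl
  · exact h2 (rtA_neg _ _).symm

theorem a4_link {W : Type*} [Group W] [Fintype W] {cs : CoxeterSystem (cA 4) W} {A : Fin 4 → Fin 4 → ℤ}
    {h : IsCartan (cA 4) A} {x y : Fin 4 → ℤ} (hx : IsRoot cs h x) (hy : IsRoot cs h y) :
    form cs h x y = 0 ∨ ∃ w, IsRoot cs h w ∧ form cs h x w = 0 ∧ form cs h w y = 0 := by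
  have key : ∀ a b c d : Fin (4 + 1), a ≠ b → c ≠ d → (a ≠ c ∧ a ≠ d ∧ b ≠ c ∧ b ≠ d) ∨
      ∃ e f : Fin (4 + 1), e ≠ f ∧ (a ≠ e ∧ a ≠ f ∧ b ≠ e ∧ b ≠ f) ∧ (e ≠ c ∧ e ≠ d ∧ f ≠ c ∧ f ≠ d) := by
    decide
  obtain ⟨a, b, hab, rfl⟩ := exists_of_isRoot cs h hx
  obtain ⟨c, d, hcd, rfl⟩ := exists_of_isRoot cs h hy
  rcases key a b c d hab hcd with h1 | ⟨e, f, hef, h1, h2⟩
  · left
    rw [← cpr_zero_iff cs h _ hy]
    exact (cpr_eq_zero_iff cs h hab hcd).2 h1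
  · right
    refine ⟨rtA e f, isRoot_rtA cs h hef, ?_, ?_⟩
    · rw [← cpr_zero_iff cs h _ (isRoot_rtA cs h hef)]
      exact (cpr_eq_zero_iff cs h hab hef).2 h1
    · rw [← cpr_zero_iff cs h _ hy]
      exact (cpr_eq_zero_iff cs h hef hcd).2 h2

end A

end Cfsg.Agent.Cit.TwoAltRoots
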