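import Mathlib
import Cfsg.Agent.Nodes.CenVV
import Cfsg.Agent.Nodes.MuSq
import Cfsg.Agent.Nodes.KindA
import Cfsg.Agent.Nodes.KindB
import Cfsg.Agent.Nodes.KindC
import Cfsg.Agent.Nodes.TyStd
import Cfsg.Agent.Cit.TypeDet.StdFrame
import Cfsg.Agent.Cit.TypeDet.KindsAll
import Cfsg.Agent.Cit.TypeDet.FourRed
import Cfsg.Agent.Cit.TypeESixEnd
import Cfsg.Agent.Cit.FrameGood
import Cfsg.Agent.Cit.TwoAltRoots
import Cfsg.Agent.Cit.TDef

/-!
# Charts with two members in a frame (project CIT, `TwoAlt`)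

`D` with a chart of type `A 3`, `A 4`, `B 3`, `C 2`; `K i`, `K j` a maximal commuting family of `OmIn Om D`:
`z_i z_j` is central in `D` (types `A 3`, `B 3`, and `C 2` with `Z = X`), or the commuting graph of `OmIn Om D` is
connected (types `A 4`, and `C 2` with `Z ≠ X`).
-/

set_option autoImplicit false
set_option linter.unusedSectionVars false
set_option linter.dupNamespace false

namespace Cfsg.Agent.Cit.TwoAltCh

open Subgroup Relation Cfsg.Agent.Cit.TypeDet Cfsg.Agent.Cit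
open scoped commutatorElement

/-! ### Chains of commuting members -/

section Cn

variable {G : Type*} [Group G] {T : Set (Subgroup G)} {D : Subgroup G}

/-- chains of commuting members -/
def Cn (T : Set (Subgroup G)) : Subgroup G → Subgroup G → Prop :=
  ReflTransGen fun X Y => X ∈ T ∧ Y ∈ T ∧ cm X Y

theorem Cn.symm {X Y : Subgroup G} (h : Cn T X Y) : Cn T Y X := by
  induction h with
  | refl => exact ReflTransGen.refl
  | tail _ h ih => exact (ReflTransGen.single ⟨h.2.1, h.1, cm_symm h.2.2⟩).trans ih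

theorem Cn.trans {X Y Z : Subgroup G} (h : Cn T X Y) (h' : Cn T Y Z) : Cn T X Z := ReflTransGen.trans h h'

theorem Cn.single {X Y : Subgroup G} (hX : X ∈ T) (hY : Y ∈ T) (h : cm X Y) : Cn T X Y :=
  ReflTransGen.single ⟨hX, hY, h⟩

theorem Cn.cj (hT : ∀ d ∈ D, ∀ X ∈ T, cj d X ∈ T) {d : G} (hd : d ∈ D) {X Y : Subgroup G} (h : Cn T X Y) :
    Cn T (cj d X) (cj d Y) := by
  induction h with
  | refl => exact ReflTransGen.refl
  | tail _ h ih => exact ih.trans (Cn.single (hT d hd _ h.1) (hT d hd _ h.2.1) (cm_cj.2 h.2.2))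

theorem conG_of_cn {X₀ : Subgroup G} (h : ∀ X ∈ T, Cn T X₀ X) : Red.ConG T := by
  rintro C hC ⟨X, hX⟩ hcl
  apply Set.Subset.antisymm hC
  intro Y hY
  have h1 : Cn T X Y := (h X (hC hX)).symm.trans (h Y hY)
  clear hY
  induction h1 with
  | refl => exact hX
  | tail _ h ih => exact hcl _ ih _ h.2.1 h.2.2

/-- the elements of `D` mapping `X₀` to a member connected with `X₀` -/
def St (hT : ∀ d ∈ D, ∀ X ∈ T, cj d X ∈ T) (X₀ : Subgroup G) : Subgroup G where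
  carrier := {g | g ∈ D ∧ Cn T X₀ (cj g X₀)}
  one_mem' := ⟨one_mem _, by rw [cj_one]; exact ReflTransGen.refl⟩
  mul_mem' := by
    rintro a b ⟨ha, ha'⟩ ⟨hb, hb'⟩
    refine ⟨mul_mem ha hb, ?_⟩
    rw [cj_mul]
    exact ha'.trans (hb'.cj hT ha)
  inv_mem' := by
    rintro a ⟨ha, ha'⟩
    refine ⟨inv_mem ha, ?_⟩
    have h1 := (ha'.cj hT (inv_mem ha)).symm
    rwa [cj_inv_cj] at h1

theorem mem_St {hT : ∀ d ∈ D, ∀ X ∈ T, cj d X ∈ T} {X₀ : Subgroup G} {g : G} :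
    g ∈ St hT X₀ ↔ g ∈ D ∧ Cn T X₀ (cj g X₀) := Iff.rfl

/-- the normaliser of a member connected with `X₀` is contained in `St` -/
theorem mem_St_of_cj_eq {hT : ∀ d ∈ D, ∀ X ∈ T, cj d X ∈ T} {X₀ Y : Subgroup G} (hY : Cn T X₀ Y) {g : G}
    (hg : g ∈ D) (e : cj g Y = Y) : g ∈ St hT X₀ := by
  refine ⟨hg, hY.trans ?_⟩
  have h1 := (hY.cj hT hg).symm
  rwa [e] at h1

end Cn

/-! ### An abstract lemma -/

section Abs

variable {G : Type*} [Group G]

/-- `z` inverts `Q / P`, `c` centralises it, `m` exchanges `U` and `V` ... then `z` centralises it -/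
theorem sq_mem {Q P U V ZA ZB : Subgroup G} {A B : Subgroup G} {z x m : G} (hP : P ≤ Q)
    (hcomm : ∀ a ∈ Q, ∀ b ∈ Q, ⁅a, b⁆ ∈ P) (hzz : z * z = 1)
    (AQ : A ≤ normalizer (Q : Set G)) (AP : A ≤ normalizer (P : Set G))
    (BP : B ≤ normalizer (P : Set G)) (zP : z ∈ normalizer (P : Set G))
    (hz : ∀ w ∈ Q, z * w * z * w ∈ P) (hUQ : U ≤ Q) (hVQ : V ≤ Q) (hx : x ∈ A)
    {a b : G} (ha : a ∈ B) (hb : b ∈ B) (hm : a * (z * x * z * x⁻¹) * b = m)
    (hmV : ∀ u ∈ U, m⁻¹ * u * m ∈ V) (hBV : ∀ b ∈ B, ∀ v ∈ V, b * v = v * b)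
    (hZA : ZA ≤ A) (hZB : ZB ≤ B) (hZU : ∀ a ∈ ZA, ∀ u ∈ U, a * u = u * a) (hzm : z ∈ ZA ⊔ ZB)
    {u : G} (hu : u ∈ U) : u * u ∈ P := by
  have hzi : z⁻¹ = z := inv_eq_of_mul_eq_one_right hzz
  have nrm : ∀ {g : G} {S : Subgroup G}, g ∈ normalizer (S : Set G) → ∀ {y : G}, y ∈ S → g * y * g⁻¹ ∈ S :=
    fun {g S} hg {y} hy => (mem_normalizer_iff.1 hg y).1 hy
  have nrm' : ∀ {g : G} {S : Subgroup G}, g ∈ normalizer (S : Set G) → ∀ {y : G}, y ∈ S → g⁻¹ * y * g ∈ S := by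
    intro g S hg y hy
    have := nrm (inv_mem hg) hy
    rwa [inv_inv] at this
  -- `P` is normal in `Q`
  have hPQ : ∀ q ∈ Q, ∀ y ∈ P, q * y * q⁻¹ ∈ P := by
    intro q hq y hy
    have h1 := hcomm q hq y (hP hy)
    have e : q * y * q⁻¹ = ⁅q, y⁆ * y := by rw [commutatorElement_def]; group
    rw [e]
    exact mul_mem h1 hy
  -- congruence modulo `P` : `a * b⁻¹ ∈ P`
  have tr : ∀ {a b c : G}, a * b⁻¹ ∈ P → b * c⁻¹ ∈ P → a * c⁻¹ ∈ P := by
    intro a b c h1 h2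
    have : a * c⁻¹ = a * b⁻¹ * (b * c⁻¹) := by group
    rw [this]
    exact mul_mem h1 h2
  have sy : ∀ {a b : G}, a * b⁻¹ ∈ P → b * a⁻¹ ∈ P := by
    intro a b h1
    have : b * a⁻¹ = (a * b⁻¹)⁻¹ := by group
    rw [this]
    exact inv_mem h1
  have cg : ∀ {g : G}, g ∈ normalizer (P : Set G) → ∀ {a b : G}, a * b⁻¹ ∈ P →
      g * a * g⁻¹ * (g * b * g⁻¹)⁻¹ ∈ P := by
    intro g hg a b h1
    have : g * a * g⁻¹ * (g * b * g⁻¹)⁻¹ = g * (a * b⁻¹) * g⁻¹ := by group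
    rw [this]
    exact nrm hg h1
  -- inversion modulo `P`
  have hz' : ∀ w ∈ Q, z * w * z⁻¹ * (w⁻¹)⁻¹ ∈ P := by
    intro w hw
    rw [inv_inv, hzi]
    exact hz w hw
  have iv : ∀ {a b : G}, a ∈ Q → b ∈ Q → a * b⁻¹ ∈ P → a⁻¹ * (b⁻¹)⁻¹ ∈ P := by
    intro a b ha hb h1
    have h2 := hPQ a⁻¹ (inv_mem ha) _ h1
    have : a⁻¹ * (b⁻¹)⁻¹ = (a⁻¹ * (a * b⁻¹) * a⁻¹⁻¹)⁻¹ := by group
    rw [this]
    exact inv_mem h2
  -- `c = z x z x⁻¹` centralises `Q / P`
  have hc : ∀ v ∈ Q, (z * x * z * x⁻¹) * v * (z * x * z * x⁻¹)⁻¹ * v⁻¹ ∈ P := by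
    intro v hv
    have hxP := AP hx
    have hxQ := AQ hx
    set w := x⁻¹ * v * x with hw
    have hwQ : w ∈ Q := nrm' hxQ hv
    have h1 := hz' w hwQ
    have h2 := cg hxP h1
    have h3 := cg zP h2
    have h4 : z * (x * w⁻¹ * x⁻¹) * z⁻¹ * v⁻¹ ∈ P := by
      have e1 : x * w⁻¹ * x⁻¹ = v⁻¹ := by rw [hw]; group
      rw [e1]
      have := hz' v⁻¹ (inv_mem hv)
      rwa [inv_inv] at this
    have h5 := tr h3 h4
    have e2 : z * (x * (z * w * z⁻¹) * x⁻¹) * z⁻¹ = (z * x * z * x⁻¹) * v * (z * x * z * x⁻¹)⁻¹ := by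
      rw [hw]
      group
    rwa [e2] at h5
  -- `m` exchanges `U` and `V` modulo `P`
  have hUV : ∀ u ∈ U, ∃ v ∈ V, u * v⁻¹ ∈ P := by
    intro u hu
    refine ⟨m⁻¹ * u * m, hmV u hu, ?_⟩
    set v := m⁻¹ * u * m with hv
    have hvV : v ∈ V := hmV u hu
    have h1 := hc v (hVQ hvV)
    have h2 := cg (BP ha) h1
    have e1 : a * v * a⁻¹ = v := by rw [hBV a ha v hvV]; group
    have e2 : a * ((z * x * z * x⁻¹) * v * (z * x * z * x⁻¹)⁻¹) * a⁻¹ = u := by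
      have e3 : z * x * z * x⁻¹ = a⁻¹ * m * b⁻¹ := by rw [← hm]; group
      have e4 : b⁻¹ * v * b = v := by
        have := hBV b hb v hvV
        calc b⁻¹ * v * b = b⁻¹ * (v * b) := by group
          _ = b⁻¹ * (b * v) := by rw [this]
          _ = v := by group
      rw [e3]
      calc a * (a⁻¹ * m * b⁻¹ * v * (a⁻¹ * m * b⁻¹)⁻¹) * a⁻¹ = m * (b⁻¹ * v * b) * m⁻¹ := by group
        _ = u := by rw [e4, hv]; group
    rwa [e1, e2] at h2
  -- the elements centralising `U` modulo `P`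
  let S : Subgroup G :=
    { carrier := {g | g ∈ normalizer (P : Set G) ∧ ∀ u ∈ U, g * u * g⁻¹ * u⁻¹ ∈ P}
      one_mem' := ⟨one_mem _, fun u _ => by simp⟩
      mul_mem' := by
        rintro g k ⟨hg, hg'⟩ ⟨hk, hk'⟩
        refine ⟨mul_mem hg hk, fun u hu => ?_⟩
        have h1 := tr (cg hg (hk' u hu)) (hg' u hu)
        have e : g * (k * u * k⁻¹) * g⁻¹ = g * k * u * (g * k)⁻¹ := by group
        rwa [e] at h1
      inv_mem' := by
        rintro g ⟨hg, hg'⟩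
        refine ⟨inv_mem hg, fun u hu => ?_⟩
        have h1 := sy (cg (inv_mem hg) (hg' u hu))
        have e : g⁻¹ * (g * u * g⁻¹) * g⁻¹⁻¹ = u := by group
        rwa [e] at h1 }
  have hA : ZA ≤ S := by
    intro g hg
    refine ⟨AP (hZA hg), fun u hu => ?_⟩
    rw [hZU g hg u hu, mul_inv_cancel_right, mul_inv_cancel]
    exact one_mem _
  have hB : ZB ≤ S := by
    intro g hg
    refine ⟨BP (hZB hg), fun u hu => ?_⟩
    obtain ⟨v, hv, huv⟩ := hUV u hu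
    have h1 := cg (BP (hZB hg)) huv
    rw [hBV g (hZB hg) v hv, mul_inv_cancel_right] at h1
    exact tr h1 (sy huv)
  have hzS : z ∈ S := (sup_le hA hB) hzm
  have h1 := hzS.2 u hu
  have h2 := hz' u (hUQ hu)
  have h3 := tr (sy h1) h2
  rwa [inv_inv] at h3

end Abs

/-! ### Short root groups of type `C 2`, `Z ≠ X` -/

section Cls

open CoxeterSystem Cfsg.Agent.ChevalleyStructure.CoxeterGeom Cfsg.Agent.Tits.Roots Cfsg.Agent.Tits.Core
  Cfsg.Agent.Tits.RootComb Cfsg.Agent.Nodes.Comb Cfsg.Agent.Nodes.Reps Cfsg.Agent.Nodes.BNOf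
  Cfsg.Agent.Nodes.Coroot Cfsg.Agent.Nodes.Chart Cfsg.Agent.Nodes.RGDLib Cfsg.Agent.Nodes.ChartLoc

variable {I W Y : Type*} [Fintype I] [DecidableEq I] [Group W] [Fintype W] [Group Y] {M : CoxeterMatrix I}
  {cs : CoxeterSystem M W} {A : I → I → ℤ} {h : IsCartan M A} {p : ℕ} {T : Subgroup Y} {n : I → Y}
  {X : (I → ℤ) → Subgroup Y} {R : Set (I → ℤ)} {Z : (I → ℤ) → Subgroup Y} {z : (I → ℤ) → Y}
  (C : Cls cs h p T n X R Z z)

include C

/-- the short root groups are generated by the long ones -/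
theorem X_le_of (hp2 : p ≠ 2) [Fact p.Prime] [Finite Y] {S : Subgroup Y} {r s γ : I → ℤ} (hr : r ∈ R) (hs : s ∈ R)
    (ho : form cs h r s = 0) (hXr : X r ≤ S) (hXr' : X (-r) ≤ S) (hXs : X s ≤ S) (hne : Z r ≠ X r)
    (hVs : ∀ y, IsRoot cs h y → 0 < form cs h y s → y = s ∨ (y ≠ r ∧ y ≠ -r ∧ form cs h y r ≠ 0))
    (hγ : IsRoot cs h γ) (h1 : 0 < form cs h γ r) (h2 : 0 < form cs h γ s)
    (hno : ∀ w, ¬ Btwn cs h (-r) (γ - cpr cs h γ r • r) w) : X γ ≤ S := by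
  have hrr := C.root r hr
  have hrr' : IsRoot cs h (-r) := hrr.neg
  have hγ' : IsRoot cs h (γ - cpr cs h γ r • r) := isRoot_refl cs h hγ hrr
  have hf' : form cs h (γ - cpr cs h γ r • r) s = form cs h γ s := by
    rw [sub_eq_add_neg, form_add_left, form_neg_left, form_smul_left, ho]
    ring
  have ho' : form cs h (-r) s = 0 := by rw [form_neg_left, ho, neg_zero]
  have hzz := C.z_sq r hr
  have hzX : z r ∈ X r ⊔ X (-r) :=
    (sup_le_sup (C.le r hr) (C.le _ (Cfsg.Agent.Nodes.ClsNorm.neg_mem C hr))) (C.z_mem r hr)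
  have hzS : z r ∈ S := (sup_le hXr hXr') hzX
  set Q := VV cs h X s with hQ
  set P := S ⊓ Q with hP
  have hA := Cfsg.Agent.Nodes.CenVV.X_le_normalizer_VV C hrr ho
  have hB := Cfsg.Agent.Nodes.CenVV.X_le_normalizer_VV C hrr' ho'
  have hzQ : z r ∈ normalizer (Q : Set Y) := (sup_le hA hB) hzX
  have hPn : ∀ g ∈ S, g ∈ normalizer (Q : Set Y) → g ∈ normalizer (P : Set Y) := by
    intro g hg hgQ
    rw [mem_normalizer_iff]
    intro y
    rw [hP, Subgroup.mem_inf, Subgroup.mem_inf]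
    refine and_congr ⟨fun hy => mul_mem (mul_mem hg hy) (inv_mem hg), fun hy => ?_⟩ (mem_normalizer_iff.1 hgQ y)
    have e : y = g⁻¹ * (g * y * g⁻¹) * g := by group
    rw [e]
    exact mul_mem (mul_mem (inv_mem hg) hy) hg
  have hcomm : ∀ a ∈ Q, ∀ b ∈ Q, ⁅a, b⁆ ∈ P := by
    intro a ha b hb
    refine ⟨hXs (C.le s hs (commutator_VV_le C hp2 hs (Subgroup.commutator_mem_commutator ha hb))), ?_⟩
    change ⁅a, b⁆ ∈ Q
    rw [commutatorElement_def]
    exact mul_mem (mul_mem (mul_mem ha hb) (inv_mem ha)) (inv_mem hb)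
  have hPQ : ∀ q ∈ Q, ∀ y ∈ P, q * y * q⁻¹ ∈ P := by
    intro q hq y hy
    have h1 := hcomm q hq y hy.2
    have e : q * y * q⁻¹ = ⁅q, y⁆ * y := by rw [commutatorElement_def]; group
    rw [e]
    exact mul_mem h1 hy
  have hzc : ∀ w ∈ Q, z r * w * z r ∈ Q := by
    intro w hw
    have := (mem_normalizer_iff.1 hzQ w).1 hw
    rwa [inv_eq_of_mul_eq_one_right hzz] at this
  -- `z r` inverts `Q / P`
  let N : Subgroup Y :=
    { carrier := {w | w ∈ Q ∧ z r * w * z r * w ∈ P}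
      one_mem' := ⟨one_mem _, by rw [mul_one, mul_one, hzz]; exact one_mem _⟩
      mul_mem' := by
        rintro a b ⟨ha, ha'⟩ ⟨hb, hb'⟩
        refine ⟨mul_mem ha hb, ?_⟩
        have h3 := hcomm a⁻¹ (inv_mem ha) (z r * b * z r) (hzc b hb)
        have e : z r * (a * b) * z r * (a * b) =
            (z r * a * z r * a) * ⁅a⁻¹, z r * b * z r⁆ * (z r * b * z r * b) := by
          rw [commutatorElement_def]
          calc z r * (a * b) * z r * (a * b) = z r * a * 1 * b * z r * a * b := by group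
            _ = z r * a * (z r * z r) * b * z r * a * b := by rw [hzz]
            _ = _ := by group
        rw [e]
        exact mul_mem (mul_mem ha' h3) hb'
      inv_mem' := by
        rintro a ⟨ha, ha'⟩
        refine ⟨inv_mem ha, ?_⟩
        have e : z r * a⁻¹ * z r * a⁻¹ = (a * (z r * a * z r * a) * a⁻¹)⁻¹ := by
          have hzi : (z r)⁻¹ = z r := inv_eq_of_mul_eq_one_right hzz
          calc z r * a⁻¹ * z r * a⁻¹ = (z r)⁻¹ * a⁻¹ * (z r)⁻¹ * a⁻¹ := by rw [hzi]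
            _ = _ := by group
        rw [e]
        exact inv_mem (hPQ a ha _ ha') }
  have hN : Q ≤ N := by
    refine RGD.Sup_le ?_
    rintro y ⟨hy, hy0⟩ w hw
    have hwQ : w ∈ Q := RGD.le_Sup (S := {y | IsRoot cs h y ∧ 0 < form cs h y s}) ⟨hy, hy0⟩ hw
    refine ⟨hwQ, ?_⟩
    rcases hVs y hy hy0 with rfl | ⟨a1, a2, a3⟩
    · have h3 : w * z r = z r * w := Cfsg.Agent.Nodes.ZRel.z_cent_of_orth C hr hy
        (by rw [form_comm]; exact ho) hw
      have e : z r * w * z r * w = w * w := by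
        rw [← h3, mul_assoc w, hzz, mul_one]
      rw [e]
      exact ⟨mul_mem (hXs hw) (hXs hw), mul_mem hwQ hwQ⟩
    · rw [C.z_inv r hr y hy a1 a2 a3 w hw, inv_mul_cancel]
      exact one_mem _
  -- an element of `X r` outside `Z r`
  obtain ⟨x, hx, hxZ⟩ : ∃ x ∈ X r, x ∉ Z r := by
    by_contra hcon
    push Not at hcon
    exact hne (le_antisymm (C.le r hr) hcon)
  have hzx : z r * x * z r ∈ X r := by
    have h3 := C.rgd.tor r hrr (z r) (C.z_torus r hr)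
    have h4 : z r * x * (z r)⁻¹ ∈ Cfsg.Agent.Nodes.Reps.cj (z r) (X r) :=
      Cfsg.Agent.Nodes.Reps.conj_mem_cj.2 hx
    rwa [h3, inv_eq_of_mul_eq_one_right hzz] at h4
  have hc : z r * x * z r * x⁻¹ ∈ X r := mul_mem hzx (inv_mem hx)
  have hc1 : z r * x * z r * x⁻¹ ≠ 1 := by
    intro h3
    have h4 := C.z_inv_self r hr x hx
    rw [mul_inv_eq_one.1 h3] at h4
    exact hxZ (mem_of_odd_sq C hp2 (odd_of_mem_X C hp2 hrr hx) h4)
  obtain ⟨u, hu, v, hv, w, hw, hwi, he⟩ := Cfsg.Agent.Nodes.MuSq.exists_mu' C.rgd hrr hc hc1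
  intro g hg
  refine mem_of_odd_sq C hp2 (odd_of_mem_X C hp2 hγ hg) ?_
  have key := sq_mem (Q := Q) (P := P) (U := X γ) (V := X (γ - cpr cs h γ r • r)) (ZA := Z r) (ZB := Z (-r))
    (A := X r) (B := X (-r)) (z := z r) (x := x) (m := u * (z r * x * z r * x⁻¹) * v) inf_le_right hcomm hzz
    hA (fun g hg => hPn g (hXr hg) (hA hg)) (fun g hg => hPn g (hXr' hg) (hB hg)) (hPn _ hzS hzQ)
    (fun w hw => (hN hw).2)
    (RGD.le_Sup (S := {y | IsRoot cs h y ∧ 0 < form cs h y s}) ⟨hγ, h2⟩)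
    (RGD.le_Sup (S := {y | IsRoot cs h y ∧ 0 < form cs h y s}) ⟨hγ', by rw [hf']; exact h2⟩) hx hu hv rfl
    (fun g hg => by
      have := C.rgd.conj_mem' hw hγ hg
      rwa [hwi, he] at this)
    (fun b hb g hg => Cfsg.Agent.Nodes.MuSq.comm_one C.rgd hrr' hγ' (fun e => by
        rw [← e, ho'] at hf'
        omega) (fun e => by
        have e2 : γ - cpr cs h γ r • r = r := by rw [← neg_neg (γ - _), ← e, neg_neg]
        rw [e2, ho] at hf'
        omega) hno hb hg)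
    (C.le r hr) (C.le _ (Cfsg.Agent.Nodes.ClsNorm.neg_mem C hr))
    (fun a ha g hg => (C.cent r hr γ hγ h1.le g hg a ha).symm) (C.z_mem r hr) hg
  exact key.1

/-- `Z ≠ X` for all classical roots -/
theorem Z_ne_X {r : I → ℤ} (hr : r ∈ R) (hne : Z r ≠ X r) (w : W) : Z (rep cs h w r) ≠ X (rep cs h w r) := by
  obtain ⟨g, hg⟩ := exists_rp cs C.rgd.nsys w
  rw [← Cfsg.Agent.Nodes.ClsNorm.conj_Z C hg hr, ← C.rgd.conj_rp hg (C.root r hr)]
  intro e
  apply hne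
  have h1 := congrArg (Cfsg.Agent.Nodes.Reps.cj g⁻¹) e
  rwa [Cfsg.Agent.Nodes.Reps.cj_inv_cj, Cfsg.Agent.Nodes.Reps.cj_inv_cj] at h1

end Cls

/-! ### Charts -/

section Ch

open CoxeterSystem Cfsg.Agent.ChevalleyStructure.CoxeterGeom Cfsg.Agent.Tits.Roots Cfsg.Agent.Tits.Core
  Cfsg.Agent.Nodes.Chart Cfsg.Agent.Nodes.TyStd Cfsg.Agent.Nodes Cfsg.Agent.Nodes.Coroot
  Cfsg.Agent.Nodes.RGDLib

variable {G : Type*} [Group G] [Finite G] {Om : Set (Subgroup G)} {p : ℕ} {D : Subgroup G}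

theorem conjIn (hyp : Hyp Om) : ∀ d ∈ D, ∀ X ∈ TypeDet.OmIn Om D, cj d X ∈ TypeDet.OmIn Om D := by
  intro d hd L hL
  refine ⟨hyp.conj L hL.1 d, ?_⟩
  have h2 := cj_mono d hL.2
  rwa [Parab.cj_eq_of_mem hd] at h2

theorem conG_of_le (hyp : Hyp Om) (c : Chart Om p D) {r₀ : c.I → ℤ}
    (hcn : ∀ r ∈ c.R, Cn (TypeDet.OmIn Om D) (kz c.Z r₀) (kz c.Z r))
    (hX : ∀ x, IsRoot c.cs c.h x → c.X x ≤ St (conjIn (D := D) hyp) (kz c.Z r₀)) : Red.ConG (TypeDet.OmIn Om D) := by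
  have hD : D ≤ St (conjIn (D := D) hyp) (kz c.Z r₀) := by
    intro d hd
    rw [← c.gen] at hd
    exact Cfsg.Agent.Nodes.BNOf.RGD.Sup_le (fun x hx => hX x hx) hd
  refine conG_of_cn (X₀ := kz c.Z r₀) fun L hL => ?_
  obtain ⟨r, hr, g, hg, e⟩ := c.om_conj L hL.1 hL.2
  rw [e]
  exact (hD hg).2.trans ((hcn r hr).cj (conjIn hyp) hg)

theorem cn_orth (c : Chart Om p D) {r s : c.I → ℤ} (hr : r ∈ c.R) (hs : s ∈ c.R)
    (ho : form c.cs c.h r s = 0) : Cn (TypeDet.OmIn Om D) (kz c.Z r) (kz c.Z s) :=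
  Cn.single (kz_mem c hr) (kz_mem c hs) (cm_kz c.cls hr hs ho)

theorem kz_le_St (hyp : Hyp Om) (c : Chart Om p D) {r₀ s : c.I → ℤ} (hs : s ∈ c.R)
    (hcn : Cn (TypeDet.OmIn Om D) (kz c.Z r₀) (kz c.Z s)) : kz c.Z s ≤ St (conjIn (D := D) hyp) (kz c.Z r₀) :=
  fun _ hg => mem_St_of_cj_eq hcn ((kz_mem c hs).2 hg) (Parab.cj_eq_of_mem hg)

theorem X_le_St (hyp : Hyp Om) (c : Chart Om p D) {r₀ s x : c.I → ℤ} (hs : s ∈ c.R)
    (hcn : Cn (TypeDet.OmIn Om D) (kz c.Z r₀) (kz c.Z s)) (hx : IsRoot c.cs c.h x)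
    (ho : form c.cs c.h x s = 0) : c.X x ≤ St (conjIn (D := D) hyp) (kz c.Z r₀) := by
  intro g hg
  refine mem_St_of_cj_eq hcn (StdConn.X_le c hx hg) ?_
  have h1 : kz c.Z s ≤ centralizer {g} := by
    refine sup_le (fun b hb => ?_) fun b hb => ?_
    · exact mem_centralizer_singleton_iff.2 (c.cls.cent s hs x hx ho.ge g hg b hb).symm
    · exact mem_centralizer_singleton_iff.2 (c.cls.cent (-s) (ClsNorm.neg_mem c.cls hs) x hx
        (by rw [form_neg_right, ho, neg_zero]) g hg b hb).symm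
  apply le_antisymm
  · intro y hy
    rw [Cit.mem_cj] at hy
    have h2 := mem_centralizer_singleton_iff.1 (h1 hy)
    have e : g⁻¹ * y * g = y := by
      calc g⁻¹ * y * g = g * (g⁻¹ * y * g) * g⁻¹ := by rw [← h2]; group
        _ = y := by group
    rwa [e] at hy
  · intro y hy
    rw [Cit.mem_cj]
    have h2 := mem_centralizer_singleton_iff.1 (h1 hy)
    have e : g⁻¹ * y * g = y := by rw [mul_assoc, h2]; group
    rwa [e]

/-- **type `A 4`** -/
theorem conG_A4 (hyp : Hyp Om) (c : Chart Om p D) (h : c.IsTy (.A 4)) (zx : ∀ r ∈ c.R, c.Z r = c.X r) :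
    Red.ConG (TypeDet.OmIn Om D) := by
  let cs' : CoxeterSystem (Chart.Ty.A 4).M (Chart.Ty.A 4).M.Group := (Chart.Ty.A 4).M.toCoxeterSystem
  have hf : Finite (Chart.Ty.A 4).M.Group := finite_of_isTy c h cs'
  let _ : Fintype (Chart.Ty.A 4).M.Group := Fintype.ofFinite _
  have F : KindBase.FrameSys cs' (Chart.Ty.A 4).isCartan {x | IsRoot cs' (Chart.Ty.A 4).isCartan x} (KindA.g 4) :=
    KindA.frameSys cs' (Chart.Ty.A 4).isCartan
  have T : ∀ r ∈ {x | IsRoot cs' (Chart.Ty.A 4).isCartan x}, ∀ s ∈ {x | IsRoot cs' (Chart.Ty.A 4).isCartan x},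
      ∃ w, s = rep cs' (Chart.Ty.A 4).isCartan w r := by
    intro r hr s hs
    obtain ⟨w, hw⟩ := KindA.trans cs' (Chart.Ty.A 4).isCartan hr hs
    exact ⟨w, hw.symm⟩
  obtain ⟨e, hM, hA, hR, h1⟩ := exists_chart_of_isTy c h (W' := (Chart.Ty.A 4).M.Group) cs'
    (R' := {x | IsRoot cs' (Chart.Ty.A 4).isCartan x}) F.root F.act
    (fun i => ⟨fun _ => trivial, fun _ => isRoot_sr _ _ i⟩) T
  let c' := reindex c e hM hA cs' (Chart.Ty.A 4).isCartan F.root F.act hR T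
  have zx' : ∀ r ∈ c'.R, c'.Z r = c'.X r := fun r hr =>
    zx _ ((mem_R_iff (cs := c.cs) (h := c.h) e hM hA cs' (Chart.Ty.A 4).isCartan c.cls.act F.act hR
      (F.root r hr)).2 hr)
  have hcn : ∀ r ∈ c'.R, ∀ s ∈ c'.R, Cn (TypeDet.OmIn Om D) (kz c'.Z r) (kz c'.Z s) := by
    intro r hr s hs
    rcases TwoAltRoots.a4_link (cs := cs') (h := (Chart.Ty.A 4).isCartan) hr hs with h2 | ⟨w, hw, h2, h3⟩
    · exact cn_orth c' hr hs h2
    · exact (cn_orth c' hr hw h2).trans (cn_orth c' hw hs h3)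
  obtain ⟨r₀, hr₀⟩ := c'.Rne
  refine conG_of_le hyp c' (hcn r₀ hr₀) fun x hx => ?_
  have h2 := kz_le_St hyp c' (r₀ := r₀) hx (hcn r₀ hr₀ x hx)
  rw [← zx' x hx]
  exact le_sup_left.trans h2

/-- `z r * z s` is central if the roots different from `± r`, `± s` are orthogonal to both or to none of `r`, `s` -/
theorem central_of_pair (c : Chart Om p D) {r s : c.I → ℤ} (hr : r ∈ c.R) (hs : s ∈ c.R)
    (ho : form c.cs c.h r s = 0) (zx : ∀ r ∈ c.R, c.Z r = c.X r)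
    (H : ∀ x, IsRoot c.cs c.h x → x ≠ r → x ≠ -r → x ≠ s → x ≠ -s →
      (form c.cs c.h x r = 0 ↔ form c.cs c.h x s = 0)) :
    ∀ d ∈ D, d * (c.z r * c.z s) = c.z r * c.z s * d := by
  have C := c.cls
  -- the long root groups
  have k1 : ∀ r ∈ c.R, ∀ a ∈ c.X r, a * c.z r = c.z r * a := by
    intro r hr a ha
    rw [← zx r hr] at ha
    exact (C.z_cent r hr a ha).symm
  have k2 : ∀ r ∈ c.R, ∀ a ∈ c.X (-r), a * c.z r = c.z r * a := by
    intro r hr a ha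
    have := k1 (-r) (ClsNorm.neg_mem C hr) a ha
    rwa [C.z_neg r hr] at this
  have ho' : form c.cs c.h s r = 0 := by rw [form_comm]; exact ho
  have key : ∀ x, IsRoot c.cs c.h x → c.X x ≤ centralizer {c.z r * c.z s} := by
    intro x hx a ha
    refine mem_centralizer_singleton_iff.2 ?_
    have fin : a * c.z r = c.z r * a → a * c.z s = c.z s * a → a * (c.z r * c.z s) = c.z r * c.z s * a := by
      intro h1 h2
      rw [← mul_assoc, h1, mul_assoc, h2, mul_assoc]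
    by_cases e1 : x = r
    · subst e1
      exact fin (k1 _ hr a ha) (ZRel.z_cent_of_orth C hs hx ho ha)
    by_cases e2 : x = -r
    · subst e2
      exact fin (k2 _ hr a ha) (ZRel.z_cent_of_orth C hs hx (by rw [form_neg_left, ho, neg_zero]) ha)
    by_cases e3 : x = s
    · subst e3
      exact fin (ZRel.z_cent_of_orth C hr hx ho' ha) (k1 _ hs a ha)
    by_cases e4 : x = -s
    · subst e4
      exact fin (ZRel.z_cent_of_orth C hr hx (by rw [form_neg_left, ho', neg_zero]) ha) (k2 _ hs a ha)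
    have h1 := H x hx e1 e2 e3 e4
    by_cases h2 : form c.cs c.h x r = 0
    · exact fin (ZRel.z_cent_of_orth C hr hx h2 ha) (ZRel.z_cent_of_orth C hs hx (h1.1 h2) ha)
    · have i1 := C.z_inv r hr x hx e1 e2 h2
      have i2 := C.z_inv s hs x hx e3 e4 (fun h => h2 (h1.2 h))
      have s1 := C.z_sq r hr
      have s2 := C.z_sq s hs
      have i3 := i1 a⁻¹ (inv_mem ha)
      rw [inv_inv] at i3
      have i4 := i2 a ha
      calc a * (c.z r * c.z s) = c.z r * a⁻¹ * c.z r * (c.z r * c.z s) := by rw [i3]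
        _ = c.z r * a⁻¹ * (c.z r * c.z r) * c.z s := by group
        _ = c.z r * (c.z s * a * c.z s) * c.z s := by rw [s1, i4, mul_one]
        _ = c.z r * c.z s * a * (c.z s * c.z s) := by group
        _ = c.z r * c.z s * a := by rw [s2, mul_one]
  intro d hd
  rw [← c.gen] at hd
  exact mem_centralizer_singleton_iff.1 (Cfsg.Agent.Nodes.BNOf.RGD.Sup_le (fun x hx => key x hx) hd)

/-- transport to a frame -/
theorem central_K (hyp : Hyp Om) (c : Chart Om p D) {ι κ : Type*} [Finite ι] [Finite κ] {g : ι → c.I → ℤ}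
    (F : KindBase.FrameSys c.cs c.h c.R g) (hz : ∀ r ∈ c.R, c.z r ≠ 1) {K : κ → Subgroup G}
    (hK : ∀ i, K i ∈ TypeDet.OmIn Om D) (hc : ∀ i j, i ≠ j → cm (K i) (K j))
    (hmax : ∀ L' ∈ TypeDet.OmIn Om D, ∃ k, ¬ cm L' (K k))
    (H : ∀ k l, k ≠ l → ∀ d ∈ D, d * (c.z (g k) * c.z (g l)) = c.z (g k) * c.z (g l) * d) {i j : κ} (hij : i ≠ j) :
    ∀ d ∈ D, d * (zz (K i) * zz (K j)) = zz (K i) * zz (K j) * d := by
  obtain ⟨d, hd, σ, hσ⟩ := exists_std c F (fun L hL d _ => hyp.conj L hL d) K hK hc hmax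
  have hzz : ∀ i, zz (K i) = d⁻¹ * c.z (g (σ i)) * d := by
    intro i
    have e1 : zz (kz c.Z (g (σ i))) = c.z (g (σ i)) := StdConn.zz_eq hyp c (F.mem _) (hz _ (F.mem _))
    rw [← e1, ← hσ i, hyp.zz_cj (hK i).1]
    group
  intro x hx
  have h1 := H (σ i) (σ j) (fun e => hij (σ.injective e)) (d * x * d⁻¹) (mul_mem (mul_mem hd hx) (inv_mem hd))
  rw [hzz i, hzz j]
  calc x * (d⁻¹ * c.z (g (σ i)) * d * (d⁻¹ * c.z (g (σ j)) * d)) =
        d⁻¹ * (d * x * d⁻¹ * (c.z (g (σ i)) * c.z (g (σ j)))) * d := by group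
    _ = d⁻¹ * (c.z (g (σ i)) * c.z (g (σ j)) * (d * x * d⁻¹)) * d := by rw [h1]
    _ = _ := by group

/-- **type `A 3`** -/
theorem central_A3 (hyp : Hyp Om) (c : Chart Om p D) (h : c.IsTy (.A 3)) (zx : ∀ r ∈ c.R, c.Z r = c.X r)
    {κ : Type*} [Fintype κ] {K : κ → Subgroup G}
    (hK : ∀ i, K i ∈ TypeDet.OmIn Om D) (hc : ∀ i j, i ≠ j → cm (K i) (K j))
    (hmax : ∀ L' ∈ TypeDet.OmIn Om D, ∃ k, ¬ cm L' (K k)) {i j : κ} (hij : i ≠ j) :
    ∀ d ∈ D, d * (zz (K i) * zz (K j)) = zz (K i) * zz (K j) * d := by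
  let cs' : CoxeterSystem (Chart.Ty.A 3).M (Chart.Ty.A 3).M.Group := (Chart.Ty.A 3).M.toCoxeterSystem
  have hf : Finite (Chart.Ty.A 3).M.Group := finite_of_isTy c h cs'
  let _ : Fintype (Chart.Ty.A 3).M.Group := Fintype.ofFinite _
  have F : KindBase.FrameSys cs' (Chart.Ty.A 3).isCartan {x | IsRoot cs' (Chart.Ty.A 3).isCartan x} (KindA.g 3) :=
    KindA.frameSys cs' (Chart.Ty.A 3).isCartan
  have T : ∀ r ∈ {x | IsRoot cs' (Chart.Ty.A 3).isCartan x}, ∀ s ∈ {x | IsRoot cs' (Chart.Ty.A 3).isCartan x},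
      ∃ w, s = rep cs' (Chart.Ty.A 3).isCartan w r := by
    intro r hr s hs
    obtain ⟨w, hw⟩ := KindA.trans cs' (Chart.Ty.A 3).isCartan hr hs
    exact ⟨w, hw.symm⟩
  obtain ⟨e, hM, hA, hR, h1⟩ := exists_chart_of_isTy c h (W' := (Chart.Ty.A 3).M.Group) cs'
    (R' := {x | IsRoot cs' (Chart.Ty.A 3).isCartan x}) F.root F.act
    (fun i => ⟨fun _ => trivial, fun _ => isRoot_sr _ _ i⟩) T
  let c' := reindex c e hM hA cs' (Chart.Ty.A 3).isCartan F.root F.act hR T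
  have zx' : ∀ r ∈ c'.R, c'.Z r = c'.X r := fun r hr =>
    zx _ ((mem_R_iff (cs := c.cs) (h := c.h) e hM hA cs' (Chart.Ty.A 3).isCartan c.cls.act F.act hR
      (F.root r hr)).2 hr)
  have FS : KindBase.FrameSys c'.cs c'.h c'.R (KindA.g 3) := F
  have hz : ∀ r ∈ c'.R, c'.z r ≠ 1 := FrameGood.z_ne_one_of_ne c' (i₀ := (0 : Fin 3)) (j₀ := (1 : Fin 3)) (by
    intro h2
    exact absurd h2 (show ¬ (0 : Fin 3) = 1 by decide))
  refine central_K hyp c' FS hz hK hc hmax (fun k l hkl => ?_) hij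
  refine central_of_pair c' (FS.mem k) (FS.mem l)
    ((cpr_zero_iff c'.cs c'.h _ (c'.cls.root _ (FS.mem l))).1 (FS.orth k l hkl)) zx' fun x hx h1 h2 h3 h4 => ?_
  have a1 := TwoAltRoots.a3_pair (cs := cs') (h := (Chart.Ty.A 3).isCartan) hx hkl h1 h2
  have a2 := TwoAltRoots.a3_pair (cs := cs') (h := (Chart.Ty.A 3).isCartan) hx hkl.symm h3 h4
  exact ⟨fun h => absurd h a2, fun h => absurd h a1⟩

/-- **type `B 3`** -/
theorem central_B3 (hyp : Hyp Om) (c : Chart Om p D) (h : c.IsTy (.B 3)) (zx : ∀ r ∈ c.R, c.Z r = c.X r)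
    {κ : Type*} [Fintype κ] {K : κ → Subgroup G}
    (hK : ∀ i, K i ∈ TypeDet.OmIn Om D) (hc : ∀ i j, i ≠ j → cm (K i) (K j))
    (hmax : ∀ L' ∈ TypeDet.OmIn Om D, ∃ k, ¬ cm L' (K k)) {i j : κ} (hij : i ≠ j) :
    ∀ d ∈ D, d * (zz (K i) * zz (K j)) = zz (K i) * zz (K j) * d := by
  let cs' : CoxeterSystem (CoxeterMatrix.B 3) (CoxeterMatrix.B 3).Group := (CoxeterMatrix.B 3).toCoxeterSystem
  have hf : Finite (CoxeterMatrix.B 3).Group := finite_of_isTy c h cs'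
  let _ : Fintype (CoxeterMatrix.B 3).Group := Fintype.ofFinite _
  obtain ⟨e, hM, hA, hR, h1⟩ := exists_chart_of_isTy c h (W' := (CoxeterMatrix.B 3).Group) cs' (R' := KindBC.RB 3)
    (fun r hr => KindBC.root_RB cs' hr) (fun r hr w => KindBC.act_RB cs' hr w) (fun i => RKindsBC.sr_mem_RB)
    (KindBC.trans_RB cs')
  let c' := reindex c e hM hA cs' (Ty.B 3).isCartan (fun r hr => KindBC.root_RB cs' hr)
    (fun r hr w => KindBC.act_RB cs' hr w) hR (KindBC.trans_RB cs')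
  have zx' : ∀ r ∈ c'.R, c'.Z r = c'.X r := fun r hr =>
    zx _ ((mem_R_iff (cs := c.cs) (h := c.h) e hM hA cs' (Ty.B 3).isCartan c.cls.act
      (fun r hr w => KindBC.act_RB cs' hr w) hR (KindBC.root_RB cs' hr)).2 hr)
  have FS : KindBase.FrameSys c'.cs c'.h c'.R (KindB.fr 3) := KindB.frameSys cs'
  have hz : ∀ r ∈ c'.R, c'.z r ≠ 1 := FrameGood.z_ne_one_of_ne c' (i₀ := (0 : Fin 3)) (j₀ := (1 : Fin 3)) (by
    intro h2
    exact absurd h2 (show ¬ (0 : Fin 3) = 1 by decide))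
  refine central_K hyp c' FS hz hK hc hmax (fun k l hkl => ?_) hij
  refine central_of_pair c' (FS.mem k) (FS.mem l)
    ((cpr_zero_iff c'.cs c'.h _ (c'.cls.root _ (FS.mem l))).1 (FS.orth k l hkl)) zx' fun x hx h1 h2 h3 h4 => ?_
  exact TwoAltRoots.b3_pair (cs := cs') hx hkl h1 h2 h3 h4

/-- **type `C 2`** -/
theorem two_C2 (hyp : Hyp Om) (c : Chart Om p D) (h : c.IsTy (.C 2)) {κ : Type*} [Fintype κ] {K : κ → Subgroup G}
    (hK : ∀ i, K i ∈ TypeDet.OmIn Om D) (hc : ∀ i j, i ≠ j → cm (K i) (K j))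
    (hmax : ∀ L' ∈ TypeDet.OmIn Om D, ∃ k, ¬ cm L' (K k)) {i j : κ} (hij : i ≠ j) :
    (∀ d ∈ D, d * (zz (K i) * zz (K j)) = zz (K i) * zz (K j) * d) ∨ Red.ConG (TypeDet.OmIn Om D) := by
  let cs' : CoxeterSystem (CoxeterMatrix.B 2) (CoxeterMatrix.B 2).Group := (CoxeterMatrix.B 2).toCoxeterSystem
  have hf : Finite (CoxeterMatrix.B 2).Group := finite_of_isTy c h cs'
  let _ : Fintype (CoxeterMatrix.B 2).Group := Fintype.ofFinite _
  obtain ⟨e, hM, hA, hR, h1⟩ := exists_chart_of_isTy c h (W' := (CoxeterMatrix.B 2).Group) cs' (R' := KindBC.RC 2)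
    (fun r hr => KindBC.root_RC cs' hr) (fun r hr w => KindBC.act_RC cs' hr w) (fun i => RKindsBC.sr_mem_RC)
    (KindBC.trans_RC cs')
  let c' := reindex c e hM hA cs' (Ty.C 2).isCartan (fun r hr => KindBC.root_RC cs' hr)
    (fun r hr w => KindBC.act_RC cs' hr w) hR (KindBC.trans_RC cs')
  have FS : KindBase.FrameSys c'.cs c'.h c'.R (KindC.fr 2) := KindC.frameSys cs'
  have hz : ∀ r ∈ c'.R, c'.z r ≠ 1 := FrameGood.z_ne_one_of_ne c' (i₀ := (0 : Fin 2)) (j₀ := (1 : Fin 2)) (by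
    intro h2
    exact absurd h2 (show ¬ (0 : Fin 2) = 1 by decide))
  by_cases zx : ∀ r ∈ c'.R, c'.Z r = c'.X r
  · left
    refine central_K hyp c' FS hz hK hc hmax (fun k l hkl => ?_) hij
    refine central_of_pair c' (FS.mem k) (FS.mem l)
      ((cpr_zero_iff c'.cs c'.h _ (c'.cls.root _ (FS.mem l))).1 (FS.orth k l hkl)) zx fun x hx h1 h2 h3 h4 => ?_
    have a1 := TwoAltRoots.c2_pair (cs := cs') hx hkl h1 h2
    have a2 := TwoAltRoots.c2_pair (cs := cs') hx hkl.symm h3 h4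
    exact ⟨fun h => absurd h a2, fun h => absurd h a1⟩
  · right
    push Not at zx
    obtain ⟨r₁, hr₁, hne⟩ := zx
    have hne' : ∀ r ∈ c'.R, c'.Z r ≠ c'.X r := by
      intro r hr
      obtain ⟨w, rfl⟩ := KindBC.trans_RC cs' r₁ hr₁ r hr
      exact Z_ne_X c'.cls hr₁ hne w
    -- orthogonal roots
    have hor : ∀ r ∈ c'.R, ∃ s ∈ c'.R, form c'.cs c'.h r s = 0 := by
      intro r hr
      obtain ⟨k, hk⟩ := KindC.eq_fr_or hr
      obtain ⟨l, hkl⟩ := (show ∀ k : Fin 2, ∃ l, k ≠ l by decide) k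
      have ho : form c'.cs c'.h (KindC.fr 2 k) (KindC.fr 2 l) = 0 :=
        (cpr_zero_iff c'.cs c'.h _ (c'.cls.root _ (FS.mem l))).1 (FS.orth k l hkl)
      refine ⟨KindC.fr 2 l, FS.mem l, ?_⟩
      rcases hk with rfl | rfl
      · exact ho
      · exact (form_neg_left c'.cs c'.h (KindC.fr 2 k) (KindC.fr 2 l)).trans (by rw [ho, neg_zero])
    have hcn : ∀ r ∈ c'.R, ∀ s ∈ c'.R, Cn (TypeDet.OmIn Om D) (kz c'.Z r) (kz c'.Z s) := by
      intro r hr s hs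
      have hk : ∀ r ∈ c'.R, ∃ k, kz c'.Z r = kz c'.Z (KindC.fr 2 k) := by
        intro r hr
        obtain ⟨k, hk⟩ := KindC.eq_fr_or hr
        refine ⟨k, ?_⟩
        rcases hk with rfl | rfl
        · rfl
        · exact kz_neg c'.Z _
      obtain ⟨k, ek⟩ := hk r hr
      obtain ⟨l, el⟩ := hk s hs
      rw [ek, el]
      by_cases hkl : k = l
      · rw [hkl]
        exact ReflTransGen.refl
      · exact cn_orth c' (FS.mem k) (FS.mem l)
          ((cpr_zero_iff c'.cs c'.h _ (c'.cls.root _ (FS.mem l))).1 (FS.orth k l hkl))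
    have hr₀ : KindC.fr 2 0 ∈ c'.R := FS.mem 0
    refine conG_of_le hyp c' (hcn _ hr₀) ?_
    have hXR : ∀ x ∈ c'.R, c'.X x ≤ St (conjIn (D := D) hyp) (kz c'.Z (KindC.fr 2 0)) := by
      intro x hx
      obtain ⟨s, hs, ho⟩ := hor x hx
      exact X_le_St hyp c' hs (hcn _ hr₀ s hs) (c'.cls.root x hx) ho
    intro x hx
    by_cases hxR : x ∈ c'.R
    · exact hXR x hxR
    · obtain ⟨r, hr, s, hs, ho, h2, h3, h4⟩ := TwoAltRoots.c2_exists (cs := cs') hx hxR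
      have : Fact p.Prime := ⟨c'.prime⟩
      exact X_le_of c'.cls c'.odd hr hs ho (hXR r hr) (hXR _ (ClsNorm.neg_mem c'.cls hr)) (hXR s hs) (hne' r hr)
        (fun y hy h0 => TwoAltRoots.c2_V (cs := cs') hr hs ho hy h0) hx h2 h3 h4

/-- **Charts whose frames have two members** -/
theorem two_alt (hyp : Hyp Om) (c : Chart Om p D) {τ : Nodes.Chart.Ty} (h : c.IsTy τ) (ok : KindOk τ)
    (zx : (∀ r ∈ c.R, c.Z r = c.X r) ∨ ∃ n, τ = .C n) {κ : Type*} [Fintype κ] (h2 : Fintype.card κ = 2)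
    {K : κ → Subgroup G} (hK : ∀ i, K i ∈ TypeDet.OmIn Om D) (hc : ∀ i j, i ≠ j → cm (K i) (K j))
    (hmax : ∀ L' ∈ TypeDet.OmIn Om D, ∃ k, ¬ cm L' (K k)) {i j : κ} (hij : i ≠ j) :
    (∀ d ∈ D, d * (zz (K i) * zz (K j)) = zz (K i) * zz (K j) * d) ∨ Red.ConG (TypeDet.OmIn Om D) := by
  have hkt := KindsAll.kt hyp c h hK hc hmax
  have hcard : (Finset.univ : Finset κ).card = 2 := h2
  cases τ with
  | A n =>
    have zx' := zx.resolve_right (by rintro ⟨m, hm⟩; exact absurd hm (by simp))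
    have h5 : (Finset.univ : Finset κ).card = (n + 1) / 2 := hkt.1
    have h6 : n = 3 ∨ n = 4 := by omega
    rcases h6 with rfl | rfl
    · exact Or.inl (central_A3 hyp c h zx' hK hc hmax hij)
    · exact Or.inr (conG_A4 hyp c h zx')
  | B n =>
    have zx' := zx.resolve_right (by rintro ⟨m, hm⟩; exact absurd hm (by simp))
    have h5 : (Finset.univ : Finset κ).card = 2 * (n / 2) := hkt.1
    have h7 : 3 ≤ n := ok
    have h6 : n = 3 := by omega
    subst h6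
    exact Or.inl (central_B3 hyp c h zx' hK hc hmax hij)
  | C n =>
    have h5 : (Finset.univ : Finset κ).card = n := hkt.1
    have h6 : n = 2 := by omega
    subst h6
    exact two_C2 hyp c h hK hc hmax hij
  | D n =>
    exfalso
    have h5 : (Finset.univ : Finset κ).card = 2 * (n / 2) := hkt.1
    have h7 : 4 ≤ n := ok
    omega
  | E6 =>
    exfalso
    have h5 : (Finset.univ : Finset κ).card = 4 := hkt.1
    omega
  | E7 =>
    exfalso
    have h5 : (Finset.univ : Finset κ).card = 7 := hkt.1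
    omega
  | E8 =>
    exfalso
    have h5 : (Finset.univ : Finset κ).card = 8 := hkt.1
    omega
  | F4 =>
    exfalso
    have h5 : (Finset.univ : Finset κ).card = 4 := hkt.1
    omega
  | G2 =>
    exfalso
    have h5 : (Finset.univ : Finset κ).card = 1 := hkt
    omega

end Ch

end Cfsg.Agent.Cit.TwoAltCh
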