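import Cfsg.Agent.Cit.TwoConn
import Cfsg.Agent.SylowLFive.Frame

/-!
# Classical involutions, `|Om(S)| = 2`, twisted case: CLOSING (bb R18 #6419)

`Link Om`: commuting non-partners have a common partner.  Then the partner graph is connected, and a subgroup
containing `C(zz K)` and an element moving `K` to a partner of `K` is normal.
-/

set_option autoImplicit false
set_option linter.style.haveILetI false
set_option linter.unusedSectionVars false

namespace Cfsg.Agent.Cit

open Subgroup Cfsg Cfsg.Agent.SylowLFive.Frame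

variable {G : Type*} [Group G]

/-- commuting members are partners or have a common partner -/
def Link (Om : Set (Subgroup G)) : Prop :=
  ∀ K ∈ Om, ∀ L ∈ Om, K ≠ L → zz K * zz L = zz L * zz K → Pt Om K L ∨ ∃ M, Pt Om K M ∧ Pt Om L M

/-- the connected components of the partner graph -/
def PtCn (Om : Set (Subgroup G)) : Subgroup G → Subgroup G → Prop := Relation.EqvGen (Pt Om)

namespace Tw

variable [Finite G] {Om : Set (Subgroup G)}

/-- the partner graph is connected -/
theorem ptCn (t : Tw Om) (hl : Link Om) {K L : Subgroup G} (hK : K ∈ Om) (hL : L ∈ Om) : PtCn Om K L := by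
  have h : Cn Om K L := t.conn hK hL
  induction h with
  | rel x y hxy =>
    by_cases hne : x = y
    · rw [hne]; exact Relation.EqvGen.refl _
    rcases hl x hxy.1 y hxy.2.1 hne hxy.2.2 with h1 | ⟨M, h1, h2⟩
    · exact Relation.EqvGen.rel _ _ h1
    · exact Relation.EqvGen.trans _ _ _ (Relation.EqvGen.rel _ _ h1)
        (Relation.EqvGen.symm _ _ (Relation.EqvGen.rel _ _ h2))
  | refl x => exact Relation.EqvGen.refl _
  | symm x y hxy ih => exact Relation.EqvGen.symm _ _ (ih hL hK)
  | trans x y z hxy hyz ih1 ih2 =>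
    by_cases hy : y ∈ Om
    · exact Relation.EqvGen.trans _ _ _ (ih1 hK hy) (ih2 hy hL)
    · exfalso
      have key : ∀ {A B : Subgroup G}, Relation.EqvGen (Adj Om) A B → (A ∈ Om ↔ B ∈ Om) := by
        intro A B hAB
        induction hAB with
        | rel x y hxy => exact ⟨fun _ => hxy.2.1, fun _ => hxy.1⟩
        | refl x => exact Iff.rfl
        | symm x y _ ih => exact ih.symm
        | trans x y z _ _ ih1 ih2 => exact ih1.trans ih2
      exact hy ((key hxy).1 hK)

end Tw

namespace Two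

variable [Finite G] {Om : Set (Subgroup G)}

/-- a subgroup containing `C(zz K)` and an element moving `K` to a partner is normal, if the partner graph is
connected -/
theorem normal_of_closed (h : Two Om) (hcn : ∀ K ∈ Om, ∀ L ∈ Om, PtCn Om K L) {K : Subgroup G} (hK : K ∈ Om)
    {M : Subgroup G} (hM : centralizer {zz K} ≤ M) {n : G} (hn : n ∈ M) (hP : Pt Om K (cj n K)) : M.Normal := by
  have fix : ∀ {m : G}, m ∈ M → cj m M = M := fun hm => mem_normalizer_iff_cj.1 (le_normalizer hm)
  -- well defined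
  have wd : ∀ {a b : G}, cj a K = cj b K → cj a M = cj b M := by
    intro a b hab
    have h1 : cj (a⁻¹ * b) K = K := by rw [cj_mul, ← hab, cj_inv_cj]
    have h2 : a⁻¹ * b ∈ M := hM (mem_centralizer_singleton_iff.2 ((h.cj_eq_iff hK).1 h1))
    have h3 : cj (a⁻¹ * b) M = M := fix h2
    calc cj a M = cj a (cj (a⁻¹ * b) M) := by rw [h3]
      _ = cj b M := by rw [← cj_mul, mul_inv_cancel_left]
  have key : ∀ {A B : Subgroup G}, PtCn Om A B → (A ∈ Om ↔ B ∈ Om) ∧
      ∀ a b, cj a K = A → cj b K = B → cj a M = cj b M := by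
    intro A B hAB
    induction hAB with
    | rel x y hxy =>
      refine ⟨⟨fun _ => hxy.right, fun _ => hxy.left⟩, ?_⟩
      intro a b ha hb
      obtain ⟨g, hg1, hg2⟩ := h.pt_trans hP hxy
      have h1 : cj g M = cj a M := wd (by rw [hg1, ha])
      have h2 : cj (g * n) M = cj b M := wd (by rw [cj_mul, hg2, hb])
      rw [cj_mul, fix hn] at h2
      rw [← h1, h2]
    | refl x => exact ⟨Iff.rfl, fun a b ha hb => wd (by rw [ha, hb])⟩
    | symm x y _ ih => exact ⟨ih.1.symm, fun a b ha hb => (ih.2 b a hb ha).symm⟩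
    | trans x y z _ _ ih1 ih2 =>
      refine ⟨ih1.1.trans ih2.1, ?_⟩
      intro a b ha hb
      have hz : z ∈ Om := by rw [← hb]; exact h.hyp.conj K hK b
      obtain ⟨c, hc⟩ := h.cls K hK y (ih2.1.2 hz)
      exact (ih1.2 a c ha hc).trans (ih2.2 c b hc hb)
  have h4 : ∀ g : G, cj g M = M := by
    intro g
    have h5 := (key (hcn K hK (cj g K) (h.hyp.conj K hK g))).2 1 g (by rw [cj_one]) rfl
    rw [← h5, cj_one]
  refine ⟨fun x hx g => ?_⟩
  have := conj_mem_cj (g := g) hx
  rwa [h4] at this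

/-- in a simple group such a subgroup is `G` -/
theorem eq_top_of_closed' (h : Two Om) [IsSimpleGroup G] (hcn : ∀ K ∈ Om, ∀ L ∈ Om, PtCn Om K L)
    {K : Subgroup G} (hK : K ∈ Om) {M : Subgroup G} (hM : centralizer {zz K} ≤ M) {n : G} (hn : n ∈ M)
    (hP : Pt Om K (cj n K)) : M = ⊤ := by
  rcases (h.normal_of_closed hcn hK hM hn hP).eq_bot_or_eq_top with h2 | h2
  · exfalso
    apply h.hyp.zz_ne hK
    have h1 : zz K ∈ M := hM (mem_centralizer_singleton_iff.2 rfl)
    rw [h2] at h1
    exact mem_bot.1 h1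
  · exact h2

/-- the closing theorem for a frame -/
theorem frame_close (h : Two Om) [IsSimpleGroup G] (hcn : ∀ K ∈ Om, ∀ L ∈ Om, PtCn Om K L) (F : SylowLFive.Frame.Fr G)
    {K L : Subgroup G} (hP : Pt Om K L) (hK : zz K = F.T 0 1) (hL : zz L = F.T 2 3) (M : Subgroup G)
    (hC : ∀ c, c * F.T 0 1 = F.T 0 1 * c → c ∈ M) (hI : ∀ n, F.Ind n → n ∈ M) : M = ⊤ := by
  obtain ⟨n, hn⟩ := F.perm (Equiv.swap 0 2 * Equiv.swap 1 3)
  have h1 : n * F.T 0 1 * n⁻¹ = F.T 2 3 := by
    rw [hn]
    have e0 : (Equiv.swap 0 2 * Equiv.swap 1 3 : Equiv.Perm (Fin 5)) 0 = 2 := by decide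
    have e1 : (Equiv.swap 0 2 * Equiv.swap 1 3 : Equiv.Perm (Fin 5)) 1 = 3 := by decide
    rw [e0, e1]
  have h2 : cj n K = L := h.cj_eq hP.left hP.right (by rw [hK, hL, h1])
  refine h.eq_top_of_closed' hcn hP.left (n := n) ?_ (hI n ⟨_, hn⟩) (by rw [h2]; exact hP)
  intro c hc
  rw [hK] at hc
  exact hC c (mem_centralizer_singleton_iff.1 hc)

end Two

end Cfsg.Agent.Cit
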