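import Cfsg.Agent.Cit.TwoGen
import Cfsg.Agent.Cit.TwoTy.Side

/-!
# Branch (B): a subgroup containing `C(z)`, `C(s)`, `O(C(t))`, `O(C(v))` is `G`

`z = zz K`, `s = zz J`, `t = x y`, `v = s t` as in `WD`.

* `cent_v_le`, `cent_t_le` : `C(v)`, `C(t) ≤ M`;
* `vgood` : the hypothesis `VGood` of `Big.false_of_big_two`;
* `eq_top` : `M = G`.
-/

set_option autoImplicit false
set_option linter.style.haveILetI false
set_option linter.unusedSectionVars false

namespace Cfsg.Agent.Cit.TwoBG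

open Subgroup Cfsg OneBasic SubCent UseT TwoWT TwoBlk TwoTy

universe u

variable {G : Type u} [Group G] [Finite G] {Om : Set (Subgroup G)}

section img

variable {H M : Subgroup G}

/-- the image of `M ⊓ H` in `H / O(H)` -/
def im (H M : Subgroup G) : Subgroup (HQ H) := (M.subgroupOf H).map (qm H)

theorem cent_le_im {a : G} (ha : a ∈ H) (haa : a * a = 1) (hM : H ⊓ centralizer {a} ≤ M) :
    centralizer {qm H ⟨a, ha⟩} ≤ im H M := by
  rw [← Cit.centralizer_map (qm_surjective H) (not_dvd_ker H) (z := ⟨a, ha⟩) (Subtype.ext haa)]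
  refine Subgroup.map_mono fun g hg => ?_
  rw [mem_subgroupOf]
  refine hM ⟨g.2, mem_centralizer_singleton_iff.2 ?_⟩
  exact congrArg Subtype.val (mem_centralizer_singleton_iff.1 hg)

theorem le_of_im (hO : OO H ≤ M) (h : ∀ g : HQ H, g ∈ im H M) : H ≤ M := by
  intro g hg
  obtain ⟨m, hm, hmg⟩ := h (qm H ⟨g, hg⟩)
  have h2 : qm H (⟨g, hg⟩ * m⁻¹) = 1 := by rw [map_mul, map_inv, hmg, mul_inv_cancel]
  have h3 := hO (qm_eq_one_iff.1 h2)
  have hm' : (m : G) ∈ M := hm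
  have h4 := M.mul_mem h3 hm'
  have h5 : ((⟨g, hg⟩ * m⁻¹ : H) : G) * (m : G) = g := by simp
  rwa [h5] at h4

/-- the image of `u` in `C(u) / O(C(u))` is central -/
theorem central {u : G} {a : G} (ha : a ∈ centralizer {u}) (hau : a = u) (g : HQ (centralizer {u})) :
    g * qm _ ⟨a, ha⟩ = qm _ ⟨a, ha⟩ * g := by
  obtain ⟨g, rfl⟩ := qm_surjective _ g
  rw [← map_mul, ← map_mul]
  congr 1
  subst hau
  exact Subtype.ext (mem_centralizer_singleton_iff.1 g.2)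

end img

/-! ### `C(u) ≤ M` from the piece -/

theorem cent_le_of_px {u x y : G} {J J' : Subgroup G} (s : Pre Om u J J' x y) (h : TwoE Om)
    (hty : ∀ K ∈ Om, IsType K) (hp : HasPieces (fam Om (centralizer {u})))
    (hnm : px Om (centralizer {u}) J ∉ fam Om (centralizer {u}))
    (hall : ∀ M ∈ cov Om (centralizer {u}), px Om (centralizer {u}) M = px Om (centralizer {u}) J) {M : Subgroup G}
    (hO : XX u ≤ M) (hz : centralizer {u} ⊓ centralizer {zz J} ≤ M)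
    (hD : px Om (centralizer {u}) J ≤ im (centralizer {u}) M) : centralizer {u} ≤ M := by
  have b := s.blk h hty hp hnm hall
  have hJ := s.covJ h hty
  refine le_of_im hO fun g => ?_
  obtain ⟨d, hd, hdg⟩ := b.exists_mul (fun M' hM' => by
    obtain ⟨M₀, hM₀, rfl⟩ := exists_tr hM'
    rw [← hall M₀ hM₀]; exact tr_le_px) g
  rw [zz_tr h.hyp hty hJ] at hdg
  have h1 := cent_le_im (zz_mem_of_cov h.hyp hJ) (h.hyp.zz_mul hJ.1) hz (mem_centralizer_singleton_iff.2 hdg)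
  have h2 := mul_mem (inv_mem (hD hd)) h1
  rwa [inv_mul_cancel_left] at h2

section conf

variable {K K' J Q Q' QJ M : Subgroup G} {x y b c : G}

/-- **`C(v) ≤ M`** -/
theorem cent_v_le (h : TwoE Om) (hty : ∀ K ∈ Om, IsType K)
    (hB : ∀ (X : Type u) [Group X] [Finite X] [IsSimpleGroup X], CloEnd.Bend X)
    (hC : ∀ (X : Type u) [Group X] [Finite X] [IsSimpleGroup X], CloEnd.Crit1175 X)
    (w : WD Om K K' J Q Q' QJ x y b c) (hp : HasPieces (fam Om (centralizer {zz J * (x * y)})))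
    (hz : centralizer {zz K} ≤ M) (hs : centralizer {zz J} ≤ M) (hv : XX (zz J * (x * y)) ≤ M) :
    centralizer {zz J * (x * y)} ≤ M := by
  have s := pre_v h w
  have hnm := px_v_not_mem h hty w
  have hall : ∀ M ∈ cov Om (centralizer {zz J * (x * y)}), px Om (centralizer {zz J * (x * y)}) M =
      px Om (centralizer {zz J * (x * y)}) K := fun M hM => all_v h hty w hM
  have bl := s.blk h hty hp hnm hall
  have hK := s.covJ h hty
  have hJ := cov_v_J h hty w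
  refine cent_le_of_px s h hty hp hnm hall hv (inf_le_right.trans hz) ?_
  haveI : IsSimpleGroup (px Om (centralizer {zz J * (x * y)}) K ⧸ center (px Om (centralizer {zz J * (x * y)}) K)) :=
    bl.qs.2
  have hJD : tr (centralizer {zz J * (x * y)}) J ≤ px Om (centralizer {zz J * (x * y)}) K := by
    rw [← hall J hJ]; exact tr_le_px
  refine bl.le_of_tt (hB _) (hC _) (s.ttp h hty) (tr_mem hJ) hJD ?_ ?_ ?_
  · intro d _
    rw [zz_tr h.hyp hty hJ, ← map_mul, ← map_inv, ← map_mul]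
    refine central _ ?_ d
    change (x * y)⁻¹ * zz J = zz J * (x * y)
    rw [inv_eq_of_mul_eq_one_right (w.tt.sq h.hyp), w.st]
  · rw [zz_tr h.hyp hty hK]
    exact inf_le_right.trans (cent_le_im _ (h.hyp.zz_mul hK.1) (inf_le_right.trans hz))
  · rw [zz_tr h.hyp hty hJ]
    exact inf_le_right.trans (cent_le_im _ (h.hyp.zz_mul hJ.1) (inf_le_right.trans hs))

/-- **`C(t) ≤ M`** -/
theorem cent_t_le (h : TwoE Om) (hty : ∀ K ∈ Om, IsType K)
    (hB : ∀ (X : Type u) [Group X] [Finite X] [IsSimpleGroup X], CloEnd.Bend X)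
    (hC : ∀ (X : Type u) [Group X] [Finite X] [IsSimpleGroup X], CloEnd.Crit1175 X)
    (w : WD Om K K' J Q Q' QJ x y b c) (hp : HasPieces (fam Om (centralizer {x * y})))
    (hz : centralizer {zz K} ≤ M) (hs : centralizer {zz J} ≤ M) (ht : XX (x * y) ≤ M) :
    centralizer {x * y} ≤ M := by
  obtain ⟨J₁, J₁', x₁, y₁, s, hz1, hp1⟩ := side_t h hty w
  have hJ := s.covJ h hty
  have hJ' := s.covJ' h hty
  rcases dich h hty hp hJ hJ' s.tt.ne s.tt.hz with ⟨hc, -, -⟩ | ⟨-, hnm, hall⟩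
  · refine le_of_im ht fun g => ?_
    refine cent_le_im (zz_mem_of_cov h.hyp hJ) (h.hyp.zz_mul hJ.1) (by rw [hz1]; exact inf_le_right.trans hs)
      (mem_centralizer_singleton_iff.2 ?_)
    exact (cen_iff_qm _).1 hc g
  · have bl := s.blk h hty hp hnm hall
    refine cent_le_of_px s.toPre h hty hp hnm hall ht (by rw [hz1]; exact inf_le_right.trans hs) ?_
    haveI : IsSimpleGroup (px Om (centralizer {x * y}) J₁ ⧸ center (px Om (centralizer {x * y}) J₁)) := bl.qs.2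
    refine bl.le_of_noperp (hB _) (hC _) (s.ttp h hty) (fun M' hM' _ => s.noperp h hty M' hM') ?_ ?_
    · rw [zz_tr h.hyp hty hJ]
      exact inf_le_right.trans (cent_le_im _ (h.hyp.zz_mul hJ.1) (by rw [hz1]; exact inf_le_right.trans hs))
    · have hzH : zz K ∈ centralizer {x * y} := mem_centralizer_singleton_iff.2 (w.zt h.hyp)
      have htH : x * y ∈ centralizer {x * y} := mem_centralizer_singleton_iff.2 rfl
      have e : qm (centralizer {x * y}) ⟨x₁, s.ux⟩ * qm (centralizer {x * y}) ⟨y₁, s.uy⟩ =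
          qm (centralizer {x * y}) ⟨x * y, htH⟩ * qm (centralizer {x * y}) ⟨zz K, hzH⟩ := by
        rw [← map_mul, ← map_mul]
        congr 1
        exact Subtype.ext hp1
      rw [e]
      refine inf_le_right.trans (fun a ha => cent_le_im hzH (h.hyp.zz_mul w.tt.hK) (inf_le_right.trans hz) ?_)
      rw [mem_centralizer_singleton_iff] at ha ⊢
      have h1 := central htH rfl a
      have h2 : qm (centralizer {x * y}) ⟨x * y, htH⟩ * (a * qm (centralizer {x * y}) ⟨zz K, hzH⟩) =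
          qm (centralizer {x * y}) ⟨x * y, htH⟩ * (qm (centralizer {x * y}) ⟨zz K, hzH⟩ * a) := by
        rw [← mul_assoc, ← h1, mul_assoc, ha, mul_assoc]
      exact mul_left_cancel h2

/-- `VGood` -/
theorem vgood (h : TwoE Om) (hty : ∀ K ∈ Om, IsType K) (w : WD Om K K' J Q Q' QJ x y b c)
    (hz : centralizer {zz K} ≤ M) (ht : centralizer {x * y} ≤ M) (hv : centralizer {zz J * (x * y)} ≤ M) :
    EqClose.VGood Om M := by
  have ty2 : ∀ K ∈ Om, TyTwo K := fun K hK => (hty K hK).tyTwo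
  intro S hSM A hA A' hA' hne a ha a' ha' oa oa' L hL R hR hRc _
  have q : TTp Om A A' a a' := ⟨hA.1, hA'.1, hne, h.zz_eq S.isPGroup' hA' hA, ha.1, ha'.1, oa, oa',
    (S : Subgroup G), S.isPGroup', ha.2, ha'.2⟩
  obtain ⟨S₀, hS₀C, hKS₀, -, -, -⟩ := h.exists_sylow_pair w.tt
  have hKM : K ≤ M := (h.hyp.le_centralizer w.tt.hK).trans hz
  have hKM' : K' ≤ M := by
    refine le_trans ?_ hz
    rw [← w.tt.hz]; exact h.hyp.le_centralizer w.tt.hK'
  obtain ⟨g, hg, hgt, -, -⟩ := h.conj_any ty2 q w.tt hA hKS₀ hSM (hS₀C.trans hz) hKM hKM'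
  have hp1 : TwoE.Perp (a * a') L := ⟨R, hR, fun r hr => (hRc r hr).symm⟩
  have hp2 := hp1.cj g
  rw [hgt] at hp2
  have hcov : cj g L ∈ cov Om (centralizer {x * y}) :=
    cov_of_perp h.hyp hty (h.hyp.conj L hL g) (w.tt.sq h.hyp) hp2
  have hcovJ := cov_t h hty w w.hJ rfl
  obtain ⟨T, hT⟩ := Hyp.exists_syl (centralizer {x * y})
  obtain ⟨a₁, ha₁, h1⟩ := exists_cj_mem h.hyp hT hcov
  obtain ⟨a₂, ha₂, h2⟩ := exists_cj_mem h.hyp hT hcovJ
  have h3 := h.zz_eq hT.2.1 h1 h2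
  rw [h.hyp.zz_cj hcov.1, h.hyp.zz_cj hL, h.hyp.zz_cj w.hJ] at h3
  -- `r = a₂⁻¹ a₁ g`
  have e1 : (a₂⁻¹ * a₁ * g) * zz L * (a₂⁻¹ * a₁ * g)⁻¹ = zz J := by
    calc (a₂⁻¹ * a₁ * g) * zz L * (a₂⁻¹ * a₁ * g)⁻¹ = a₂⁻¹ * (a₁ * (g * zz L * g⁻¹) * a₁⁻¹) * a₂ := by group
      _ = a₂⁻¹ * (a₂ * zz J * a₂⁻¹) * a₂ := by rw [h3]
      _ = zz J := by group
  have ha : a₂⁻¹ * a₁ ∈ centralizer {x * y} := mul_mem (inv_mem ha₂) ha₁
  have e2 : (a₂⁻¹ * a₁ * g) * (a * a') * (a₂⁻¹ * a₁ * g)⁻¹ = x * y := by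
    calc (a₂⁻¹ * a₁ * g) * (a * a') * (a₂⁻¹ * a₁ * g)⁻¹ = (a₂⁻¹ * a₁) * (g * (a * a') * g⁻¹) * (a₂⁻¹ * a₁)⁻¹ := by
          group
      _ = x * y := by rw [hgt, mem_centralizer_singleton_iff.1 ha, mul_inv_cancel_right]
  have e3 : (a₂⁻¹ * a₁ * g) * (a * a' * zz L) * (a₂⁻¹ * a₁ * g)⁻¹ = zz J * (x * y) := by
    calc (a₂⁻¹ * a₁ * g) * (a * a' * zz L) * (a₂⁻¹ * a₁ * g)⁻¹ =
          ((a₂⁻¹ * a₁ * g) * (a * a') * (a₂⁻¹ * a₁ * g)⁻¹) * ((a₂⁻¹ * a₁ * g) * zz L * (a₂⁻¹ * a₁ * g)⁻¹) := by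
          group
      _ = zz J * (x * y) := by rw [e1, e2, w.st]
  have hr : a₂⁻¹ * a₁ * g ∈ M := M.mul_mem (ht ha) hg
  rw [← e3, ← cj_centralizer] at hv
  intro f hf
  have h4 := hv (conj_mem_cj (g := a₂⁻¹ * a₁ * g) hf)
  have h5 : f = (a₂⁻¹ * a₁ * g)⁻¹ * ((a₂⁻¹ * a₁ * g) * f * (a₂⁻¹ * a₁ * g)⁻¹) * (a₂⁻¹ * a₁ * g) := by group
  rw [h5]
  exact M.mul_mem (M.mul_mem (M.inv_mem hr) h4) hr

/-- **a subgroup containing `C(z)`, `C(s)`, `O(C(t))`, `O(C(v))` is `G`** -/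
theorem eq_top [IsSimpleGroup G] (h : TwoE Om) (hty : ∀ K ∈ Om, IsType K)
    (hB : ∀ (X : Type u) [Group X] [Finite X] [IsSimpleGroup X], CloEnd.Bend X)
    (hC : ∀ (X : Type u) [Group X] [Finite X] [IsSimpleGroup X], CloEnd.Crit1175 X)
    (w : WD Om K K' J Q Q' QJ x y b c) (hpv : HasPieces (fam Om (centralizer {zz J * (x * y)})))
    (hpt : HasPieces (fam Om (centralizer {x * y})))
    (hz : centralizer {zz K} ≤ M) (hs : centralizer {zz J} ≤ M) (ht : XX (x * y) ≤ M)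
    (hv : XX (zz J * (x * y)) ≤ M) : M = ⊤ := by
  have hv' := cent_v_le h hty hB hC w hpv hz hs hv
  have ht' := cent_t_le h hty hB hC w hpt hz hs ht
  have ty2 : ∀ K ∈ Om, TyTwo K := fun K hK => (hty K hK).tyTwo
  by_contra hM
  exact (h.big ty2 w.tt hz ht').false_of_big_two (h.eqZ ⟨K, w.tt.hK⟩ ty2) h.two (vgood h hty w hz ht' hv') hM
    (hB G) (hC G)

end conf

end Cfsg.Agent.Cit.TwoBG
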