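import Cfsg.Agent.Cit.TwoCen
import Cfsg.Agent.Cit.UseT3
import Cfsg.Agent.Cit.Four.TypesX
import Cfsg.Agent.Cit.CoreTwoEq

/-!
# `|Om(S)| = 2`, equal involutions: quasisimple pieces with two commuting members

`LeTwo F` : `F(S)` has at most two members, with the same involution (`leTwo_fam` : this passes to `fam Om H`).

`Blk F D K K'` : `D` quasisimple, `Z(D)` a 2-group, `K, K' ≤ D` different commuting members. `Blk.cen` : central quotient
`D → D / Z(D)` in the sense of `Cen`; `Blk.twoEq` : `TwoEq` for `D / Z(D)` if the members in `D` are `D`-conjugate.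
-/

set_option autoImplicit false
set_option linter.style.haveILetI false
set_option linter.unusedSectionVars false

namespace Cfsg.Agent.Cit.TwoBlk

open Subgroup Cfsg OneBasic UseT SubCent
open Cfsg.Agent.Cit.TypeDet (cm)
open Cfsg.Agent.Cit.TwoFK (TwoEq)

/-! ### At most two members -/

/-- at most two members in `F(S)`, with the same involution -/
structure LeTwo {X : Type*} [Group X] (F : Set (Subgroup X)) : Prop where
  hyp : Hyp F
  eqz : ∀ {S : Subgroup X}, IsPGroup 2 S → ∀ {K L : Subgroup X}, K ∈ OmS F S → L ∈ OmS F S → zz K = zz L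
  pair : ∀ {S : Subgroup X}, IsPGroup 2 S → ∀ {K L M : Subgroup X}, K ∈ OmS F S → L ∈ OmS F S → M ∈ OmS F S →
    K ≠ L → M = K ∨ M = L

theorem leTwo_of_twoE {G : Type*} [Group G] [Finite G] {Om : Set (Subgroup G)} (h : TwoE Om) : LeTwo Om :=
  ⟨h.hyp, fun hS _ _ hK hL => h.zz_eq hS hK hL, fun hS _ _ _ hK hL hM hne => h.pair hS hK hL hM hne⟩

/-- the traces in `H / O(H)` -/
theorem leTwo_fam {G : Type*} [Group G] [Finite G] {Om : Set (Subgroup G)} (h : TwoE Om)
    (ty : ∀ K ∈ Om, IsType K) (H : Subgroup G) : LeTwo (fam Om H) where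
  hyp := hyp_fam h.hyp ty H
  eqz := by
    intro S hS J J' hJ hJ'
    obtain ⟨T, hT, rfl⟩ := exists_lift (qm_surjective H) hS
    have hT' : IsPGroup 2 (T.map H.subtype) := hT.map _
    have e : T = (T.map H.subtype).subgroupOf H := by
      rw [subgroupOf, comap_map_eq_self_of_injective H.subtype_injective]
    rw [e, OmS_fam h.hyp ty hT' (map_subtype_le T)] at hJ hJ'
    obtain ⟨K, ⟨hK, hKc⟩, rfl⟩ := hJ
    obtain ⟨L, ⟨hL, hLc⟩, rfl⟩ := hJ'
    rw [zz_tr h.hyp ty hKc, zz_tr h.hyp ty hLc]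
    congr 1
    exact Subtype.ext (h.zz_eq hT' hK hL)
  pair := by
    intro S hS J J' J'' hJ hJ' hJ'' hne
    obtain ⟨T, hT, rfl⟩ := exists_lift (qm_surjective H) hS
    have hT' : IsPGroup 2 (T.map H.subtype) := hT.map _
    have e : T = (T.map H.subtype).subgroupOf H := by
      rw [subgroupOf, comap_map_eq_self_of_injective H.subtype_injective]
    rw [e, OmS_fam h.hyp ty hT' (map_subtype_le T)] at hJ hJ' hJ''
    obtain ⟨K, ⟨hK, hKc⟩, rfl⟩ := hJ
    obtain ⟨L, ⟨hL, hLc⟩, rfl⟩ := hJ'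
    obtain ⟨M, ⟨hM, hMc⟩, rfl⟩ := hJ''
    have hKL : K ≠ L := fun e1 => hne (by rw [e1])
    rcases h.pair hT' hK hL hM hKL with e1 | e1
    · exact Or.inl (by rw [e1])
    · exact Or.inr (by rw [e1])

/-! ### Blocks -/

/-- a quasisimple subgroup with two commuting members -/
structure Blk {X : Type*} [Group X] (F : Set (Subgroup X)) (D K K' : Subgroup X) : Prop where
  le : LeTwo F
  ty : ∀ J ∈ F, Ty J
  core : ∀ J ∈ F, OO J = ⊥
  qs : IsQuasisimple D
  cen : IsPGroup 2 (center D)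
  hK : K ∈ F
  hK' : K' ∈ F
  ne : K ≠ K'
  comm : cm K K'
  KD : K ≤ D
  KD' : K' ≤ D
  nz : ∀ J ∈ F, J ≤ D → ¬ ∀ x ∈ D, x * zz J = zz J * x

namespace Blk

variable {X : Type*} [Group X] [Finite X] {F : Set (Subgroup X)} {D K K' : Subgroup X}

/-- `D → D / Z(D)` -/
abbrev pi (D : Subgroup X) : D →* (D ⧸ center D) := QuotientGroup.mk' (center D)

/-- the members in `D` -/
abbrev mem (F : Set (Subgroup X)) (D : Subgroup X) : Set (Subgroup D) := restr F D

theorem sub_mem (hJ : K ∈ F) (hJD : K ≤ D) : K.subgroupOf D ∈ restr F D := subgroupOf_mem_restr hJ hJD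

/-- two commuting members are in one `F(S)` -/
theorem exists_S (b : Blk F D K K') : ∃ S : Subgroup D, IsPGroup 2 S ∧ K.subgroupOf D ∈ OmS (restr F D) S ∧
    K'.subgroupOf D ∈ OmS (restr F D) S := by
  haveI : Fact (Nat.Prime 2) := ⟨Nat.prime_two⟩
  obtain ⟨Q, hQ⟩ := Hyp.exists_syl (K.subgroupOf D)
  obtain ⟨Q', hQ'⟩ := Hyp.exists_syl (K'.subgroupOf D)
  have hc : Q ≤ normalizer (Q' : Set D) := by
    intro x hx
    refine mem_normalizer_of_cent fun y hy => ?_
    have h1 := b.comm x (hQ.1 hx) y (hQ'.1 hy)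
    exact Subtype.ext h1
  refine ⟨Q ⊔ Q', hQ.2.1.to_sup_of_normal_right' hQ'.2.1 hc, ?_, ?_⟩
  · exact mem_OmS_of_le (sub_mem b.hK b.KD) hQ le_sup_left
  · exact mem_OmS_of_le (sub_mem b.hK' b.KD') hQ' le_sup_right

theorem sub_ne (b : Blk F D K K') : K.subgroupOf D ≠ K'.subgroupOf D := by
  intro h
  apply b.ne
  rw [← map_subgroupOf_eq_of_le b.KD, ← map_subgroupOf_eq_of_le b.KD', h]

theorem zz_eq (b : Blk F D K K') : zz K = zz K' := by
  obtain ⟨S, hS, h1, h2⟩ := b.exists_S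
  rw [mem_OmS_restr, map_subgroupOf_eq_of_le b.KD] at h1
  rw [mem_OmS_restr, map_subgroupOf_eq_of_le b.KD'] at h2
  exact b.le.eqz (hS.map _) h1 h2

theorem twoE (b : Blk F D K K') : TwoE (restr F D) where
  hyp := b.le.hyp.restr D
  two := by
    intro S
    haveI : Fact (Nat.Prime 2) := ⟨Nat.prime_two⟩
    obtain ⟨S₀, hS₀, h1, h2⟩ := b.exists_S
    obtain ⟨S₁, hS₁⟩ := hS₀.exists_le_sylow
    have h1' := OmS_mono hS₁ h1
    have h2' := OmS_mono hS₁ h2
    have hset : OmS (restr F D) (S₁ : Subgroup D) = {K.subgroupOf D, K'.subgroupOf D} := by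
      ext J
      constructor
      · intro hJ
        have e1 := mem_OmS_restr.1 hJ
        have e2 := mem_OmS_restr.1 h1'
        have e3 := mem_OmS_restr.1 h2'
        rcases b.le.pair (S₁.isPGroup'.map _) e2 e3 e1 (fun h => b.sub_ne (map_injective D.subtype_injective h))
          with h | h
        · exact Or.inl (map_injective D.subtype_injective h)
        · exact Or.inr (map_injective D.subtype_injective h)
      · rintro (rfl | rfl)
        · exact h1'
        · exact h2'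
    obtain ⟨g, hg⟩ := exists_cj_sylow S₁ S
    rw [← hg, ncard_OmS_cj (b.le.hyp.restr D).conj, hset, Set.ncard_pair b.sub_ne]
  eqz := by
    intro S J hJ J' hJ'
    apply Subtype.ext
    rw [zz_map b.le.hyp hJ.1, zz_map b.le.hyp hJ'.1]
    exact b.le.eqz (S.isPGroup'.map _) (mem_OmS_restr.1 hJ) (mem_OmS_restr.1 hJ')

theorem inf_center (b : Blk F D K K') {J : Subgroup D} (hJ : J ∈ restr F D) : J ⊓ center D = ⊥ := by
  haveI : Fact (Nat.Prime 2) := ⟨Nat.prime_two⟩
  by_contra hne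
  have hp : IsPGroup 2 (J ⊓ center D : Subgroup D) := b.cen.to_le inf_le_right
  haveI : Nontrivial (J ⊓ center D : Subgroup D) := (nontrivial_iff_ne_bot _).2 hne
  have h2 : 2 ∣ Nat.card (J ⊓ center D : Subgroup D) := by
    obtain ⟨n, hn⟩ := (IsPGroup.iff_card (p := 2)).1 hp
    have h3 : n ≠ 0 := by
      rintro rfl
      rw [pow_zero] at hn
      exact hne (Subgroup.card_eq_one.1 hn)
    rw [hn]
    exact dvd_pow_self 2 h3
  obtain ⟨t, ht⟩ := exists_prime_orderOf_dvd_card' 2 h2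
  have ht' : orderOf (t : D) = 2 := by rw [orderOf_coe]; exact ht
  have e1 : (t : D) = zz J := (b.le.hyp.restr D).uniq J hJ _ t.2.1 ht'
  refine b.nz _ hJ (map_subtype_le J) fun x hx => ?_
  rw [← zz_map b.le.hyp hJ, ← e1]
  exact congrArg Subtype.val (mem_center_iff.1 t.2.2 ⟨x, hx⟩)

/-- **the central quotient** -/
theorem cenC (b : Blk F D K K') : Cen (restr F D) (pi D) where
  two := b.twoE
  ne := ⟨_, sub_mem b.hK b.KD⟩
  ty := fun J hJ => (Ty.restr b.ty D J hJ).isType.tyTwo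
  surj := QuotientGroup.mk'_surjective _
  cen := (QuotientGroup.ker_mk' _).le
  pg := by rw [QuotientGroup.ker_mk']; exact b.cen
  inf := fun J hJ => by rw [QuotientGroup.ker_mk']; exact b.inf_center hJ

/-- the members of `D / Z(D)` -/
def Fq (F : Set (Subgroup X)) (D : Subgroup X) : Set (Subgroup (D ⧸ center D)) := img (pi D) (restr F D)

theorem nonempty_Fq (b : Blk F D K K') : (Fq F D).Nonempty := ⟨_, _, sub_mem b.hK b.KD, rfl⟩

theorem tyTwo_Fq (b : Blk F D K K') : ∀ J ∈ Fq F D, TyTwo J := b.cenC.ty_img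

/-- **`TwoEq` for `D / Z(D)`** -/
theorem twoEq (b : Blk F D K K') (hcls : ∀ J ∈ F, J ≤ D → ∃ d ∈ D, cj d K = J) : TwoEq (Fq F D) := by
  have h := b.cenC.twoE
  have key : ∀ J ∈ Fq F D, ∃ g, cj g ((K.subgroupOf D).map (pi D)) = J := by
    rintro _ ⟨J, hJ, rfl⟩
    obtain ⟨d, hd, hdJ⟩ := hcls _ hJ (map_subtype_le J)
    refine ⟨pi D ⟨d, hd⟩, ?_⟩
    rw [← cj_map]
    congr 1
    rw [← cj_subgroupOf, hdJ]
    rw [subgroupOf, comap_map_eq_self_of_injective D.subtype_injective]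
  refine ⟨h.hyp, ?_, h.two, h.eqz⟩
  intro A hA B hB
  obtain ⟨g, rfl⟩ := key A hA
  obtain ⟨g', rfl⟩ := key B hB
  refine ⟨g' * g⁻¹, ?_⟩
  rw [cj_mul, cj_inv_cj]

end Blk

/-! ### The cases (A), (B) in central quotients -/

section CenCases

open CoreTwoEq (CaseA CaseB)

variable {Y X : Type*} [Group Y] [Group X] [Finite Y] {Om : Set (Subgroup Y)} {f : Y →* X} {K K' J : Subgroup Y}
  {x y : Y}

/-- case (A) for the quotient: `x y = z_J` modulo the kernel -/
theorem caseA_of (c : Cen Om f) (p : TTp Om K K' x y) (hJ : J ∈ Om) (hxy : f (x * y) = f (zz J)) :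
    CaseA (img f Om) :=
  ⟨_, _, _, _, c.map_pair p, _, ⟨J, hJ, rfl⟩, by rw [← map_mul, hxy, c.zz_map hJ]⟩

/-- not case (B): no member is perpendicular to `x y` -/
theorem not_caseB_of (c : Cen Om f) (p : TTp Om K K' x y) (hno : ∀ J ∈ Om, ¬ TwoE.Perp (x * y) J) :
    ¬ CaseB (img f Om) := by
  rintro ⟨-, A, A', a, b, q, L, hL, Q, hQ, hQc⟩
  haveI : Finite X := Finite.of_surjective f c.surj
  obtain ⟨g, hg, -, -⟩ := c.twoE.conj_any_top c.ty_img q (c.map_pair p)
  obtain ⟨L0, hL0, rfl⟩ := hL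
  obtain ⟨g0, rfl⟩ := c.surj g
  refine hno (cj g0 L0) (c.two.hyp.conj _ hL0 g0) (c.perp_of_map (c.two.hyp.conj _ hL0 g0) (Q := cj (f g0) Q) ?_ ?_)
  · rw [cj_map]; exact hQ.cj (f g0)
  · rintro _ ⟨r, hr, rfl⟩
    simp only [MulEquiv.coe_toMonoidHom, MulAut.conj_apply]
    rw [map_mul, ← hg]
    calc f g0 * (a * b) * (f g0)⁻¹ * (f g0 * r * (f g0)⁻¹) = f g0 * ((a * b) * r) * (f g0)⁻¹ := by group
      _ = f g0 * (r * (a * b)) * (f g0)⁻¹ := by rw [hQc r hr]
      _ = f g0 * r * (f g0)⁻¹ * (f g0 * (a * b) * (f g0)⁻¹) := by group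

/-- not case (A): `x y` is not the involution of a member modulo the kernel -/
theorem not_caseA_of (c : Cen Om f) (p : TTp Om K K' x y) (hno : ∀ J ∈ Om, f (x * y) ≠ f (zz J)) :
    ¬ CaseA (img f Om) := by
  rintro ⟨A, A', a, b, q, L, hL, hab⟩
  haveI : Finite X := Finite.of_surjective f c.surj
  obtain ⟨g, hg, -, -⟩ := c.twoE.conj_any_top c.ty_img q (c.map_pair p)
  obtain ⟨L0, hL0, rfl⟩ := hL
  obtain ⟨g0, rfl⟩ := c.surj g
  refine hno (cj g0 L0) (c.two.hyp.conj _ hL0 g0) ?_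
  rw [map_mul, ← hg, hab, c.zz_map hL0, c.two.hyp.zz_cj hL0, map_mul, map_mul, map_inv]

end CenCases

end Cfsg.Agent.Cit.TwoBlk
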