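import Cfsg.Agent.Cit.TwoBig
import Cfsg.Agent.Cit.QuoCen
import Cfsg.Agent.Cit.CoreTools

/-!
# `|Om(S)| = 2`, equal involutions: central quotients, generation

`Cen Om f` : `TwoE Om` for `Y`, `f : Y → X` surjective with central kernel, a 2-group which meets the members
trivially. Then `TwoE (img f Om)`.

* `Cen.eq_top_of_tt` : if some `x y` (`x ∈ K`, `y ∈ K'` of order four) is the involution of a member modulo the kernel,
  a subgroup containing `C(z_K)` and `C(z_J)` is `Y`;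
* `Cen.eq_top_of_noperp` : if `x y` centralises no Sylow 2-subgroup of a member, a subgroup containing `C(z_K)`,
  `C(x y)` is `Y`.
-/

set_option autoImplicit false
set_option linter.style.haveILetI false
set_option linter.unusedSectionVars false

namespace Cfsg.Agent.Cit

open Subgroup Cfsg OneBasic

namespace TwoE

variable {G : Type*} [Group G] [Finite G] {Om : Set (Subgroup G)} {K K' L L' : Subgroup G} {x y x' y' : G}

/-- a pair `(w, w')` such that `C_S(w w')` has index at most two in `S` -/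
theorem exists_pair_index (h : TwoE Om) (S : Sylow 2 G) : ∃ K K' w w', TTp Om K K' w w' ∧
    (S : Subgroup G) ≤ centralizer {zz K} ∧ w ∈ (S : Subgroup G) ∧ w' ∈ (S : Subgroup G) ∧
    ∀ s ∈ (S : Subgroup G), s * (w * w') * s⁻¹ = w * w' ∨ s * (w * w') * s⁻¹ = w * w' * zz K := by
  obtain ⟨K, K', hne, hO⟩ := Set.ncard_eq_two.1 (h.two S)
  have hK : K ∈ OmS Om (S : Subgroup G) := by rw [hO]; exact Set.mem_insert _ _
  have hK' : K' ∈ OmS Om (S : Subgroup G) := by rw [hO]; exact Set.mem_insert_of_mem _ rfl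
  have hS := S.isPGroup'
  have hz : zz K' = zz K := h.zz_eq hS hK' hK
  have hSz : ∀ s ∈ (S : Subgroup G), s * zz K = zz K * s := fun s hs => h.comm_of_mem hS hK hs
  -- normalised elements of order four
  have key : ∀ L ∈ OmS Om (S : Subgroup G), ∃ w ∈ L ⊓ (S : Subgroup G), orderOf w = 4 ∧
      ∀ g ∈ (S : Subgroup G), cj g L = L → g * w * g⁻¹ = w ∨ g * w * g⁻¹ = w⁻¹ := by
    intro L hL
    obtain ⟨c, v, n, gq⟩ := h.hyp.exists_gq hL.1 (syl_inf hS hL)
    obtain ⟨w, hw, hw4, hwA, -⟩ := gq.exists_normal_four (hS.to_le inf_le_right)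
      (A := (S : Subgroup G) ⊓ normalizer (L : Set G)) (hS.to_le inf_le_left) (by
        rintro a ⟨ha, haL⟩
        rw [mem_normalizer_iff_cj, cj_inf, mem_normalizer_iff_cj.1 haL, mem_normalizer_iff_cj.1 (le_normalizer ha)])
    exact ⟨w, hw, hw4, fun g hg hgL => hwA g ⟨hg, mem_normalizer_iff_cj.2 hgL⟩⟩
  obtain ⟨w, hw, hw4, hwS⟩ := key K hK
  have hww : w * w = zz K := h.hyp.sq_eq_zz hK.1 hw.1 hw4
  have hzz : zz K * zz K = 1 := h.hyp.zz_mul hK.1
  have hinv : ∀ a : G, a * a = zz K → a⁻¹ = a * zz K := by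
    intro a ha
    apply inv_eq_of_mul_eq_one_right
    calc a * (a * zz K) = (a * a) * zz K := by group
      _ = 1 := by rw [ha, hzz]
  -- the second element
  obtain ⟨w', hw', hw'4, hfin⟩ : ∃ w' ∈ K' ⊓ (S : Subgroup G), orderOf w' = 4 ∧
      ∀ s ∈ (S : Subgroup G), (∃ a b, (a = w ∨ a = w⁻¹) ∧ (b = w' ∨ b = w'⁻¹) ∧
        ((s * w * s⁻¹ = a ∧ s * w' * s⁻¹ = b) ∨ (s * w * s⁻¹ = b ∧ s * w' * s⁻¹ = a))) := by
    by_cases hsw : ∃ σ ∈ (S : Subgroup G), cj σ K = K'
    · obtain ⟨σ, hσ, hσK⟩ := hsw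
      have hσ' : cj σ K' = K := by
        rcases h.cj_or hK.1 hK'.1 hne hz (hSz σ hσ) with ⟨h1, -⟩ | ⟨-, h1⟩
        · exact absurd (h1.symm.trans hσK) hne
        · exact h1
      have ho : orderOf (σ * w * σ⁻¹) = 4 := by rw [← hw4]; exact (MulAut.conj σ).orderOf_eq w
      refine ⟨σ * w * σ⁻¹, ⟨by rw [← hσK]; exact conj_mem_cj hw.1, mul_mem (mul_mem hσ hw.2) ((S : Subgroup G).inv_mem hσ)⟩, ho, ?_⟩
      intro s hs
      rcases h.cj_or hK.1 hK'.1 hne hz (hSz s hs) with ⟨h1, h2⟩ | ⟨h1, h2⟩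
      · -- `s` fixes `K`, `K'`
        have h3 := hwS s hs h1
        have h4 := hwS (σ⁻¹ * s * σ) (mul_mem (mul_mem (inv_mem hσ) hs) hσ) (by
          rw [cj_mul, cj_mul, hσK, h2, ← hσK, cj_inv_cj])
        have e1 : s * (σ * w * σ⁻¹) * s⁻¹ = σ * ((σ⁻¹ * s * σ) * w * (σ⁻¹ * s * σ)⁻¹) * σ⁻¹ := by group
        refine ⟨s * w * s⁻¹, s * (σ * w * σ⁻¹) * s⁻¹, h3, ?_, Or.inl ⟨rfl, rfl⟩⟩
        rw [e1]
        rcases h4 with h4 | h4
        · left; rw [h4]
        · right; rw [h4]; group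
      · -- `s` interchanges `K` and `K'`
        have h3 := hwS (σ⁻¹ * s) (mul_mem (inv_mem hσ) hs) (by rw [cj_mul, h1, ← hσK, cj_inv_cj])
        have h4 := hwS (s * σ) (mul_mem hs hσ) (by rw [cj_mul, hσK, h2])
        have e1 : s * (σ * w * σ⁻¹) * s⁻¹ = (s * σ) * w * (s * σ)⁻¹ := by group
        have e2 : s * w * s⁻¹ = σ * ((σ⁻¹ * s) * w * (σ⁻¹ * s)⁻¹) * σ⁻¹ := by group
        refine ⟨s * (σ * w * σ⁻¹) * s⁻¹, s * w * s⁻¹, ?_, ?_, Or.inr ⟨rfl, rfl⟩⟩
        · rw [e1]; exact h4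
        · rw [e2]
          rcases h3 with h3 | h3
          · left; rw [h3]
          · right; rw [h3]; group
    · obtain ⟨w', hw', hw'4, hwS'⟩ := key K' hK'
      refine ⟨w', hw', hw'4, ?_⟩
      intro s hs
      rcases h.cj_or hK.1 hK'.1 hne hz (hSz s hs) with ⟨h1, h2⟩ | ⟨h1, -⟩
      · exact ⟨s * w * s⁻¹, s * w' * s⁻¹, hwS s hs h1, hwS' s hs h2, Or.inl ⟨rfl, rfl⟩⟩
      · exact absurd ⟨s, hs, h1⟩ hsw
  have hww' : w' * w' = zz K := by rw [h.hyp.sq_eq_zz hK'.1 hw'.1 hw'4, hz]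
  have hcomm : w * w' = w' * w := h.hyp.comm hS hK hK' hne hw hw'
  have hwz : w * zz K = zz K * w := hSz w hw.2
  have hwz' : w' * zz K = zz K * w' := hSz w' hw'.2
  refine ⟨K, K', w, w', ⟨hK.1, hK'.1, hne, hz, hw.1, hw'.1, hw4, hw'4, (S : Subgroup G), hS, hw.2, hw'.2⟩,
    fun s hs => mem_centralizer_singleton_iff.2 (hSz s hs), hw.2, hw'.2, ?_⟩
  intro s hs
  obtain ⟨a, b, ha, hb, hab⟩ := hfin s hs
  have hprod : s * (w * w') * s⁻¹ = a * b := by
    have e1 : s * (w * w') * s⁻¹ = (s * w * s⁻¹) * (s * w' * s⁻¹) := by group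
    rw [e1]
    rcases hab with ⟨h1, h2⟩ | ⟨h1, h2⟩
    · rw [h1, h2]
    · rw [h1, h2]
      rcases ha with rfl | rfl <;> rcases hb with rfl | rfl
      · exact hcomm.symm
      · rw [hinv w' hww', mul_assoc, ← hwz, ← mul_assoc, ← hcomm, mul_assoc]
      · rw [hinv w hww, ← mul_assoc, ← hcomm, mul_assoc, hwz', ← mul_assoc]
      · rw [hinv w hww, hinv w' hww']
        calc w' * zz K * (w * zz K) = w' * (zz K * w) * zz K := by group
          _ = w' * w * (zz K * zz K) := by rw [← hwz]; group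
          _ = w * w' * (zz K * zz K) := by rw [hcomm]
          _ = w * (w' * zz K) * zz K := by group
          _ = w * (zz K * w') * zz K := by rw [hwz']
          _ = w * zz K * (w' * zz K) := by group
  rw [hprod]
  rcases ha with rfl | rfl <;> rcases hb with rfl | rfl
  · exact Or.inl rfl
  · right; rw [hinv w' hww', ← mul_assoc]
  · right; rw [hinv w hww, mul_assoc, ← hwz', ← mul_assoc]
  · left
    rw [hinv w hww, hinv w' hww']
    calc w * zz K * (w' * zz K) = w * (zz K * w') * zz K := by group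
      _ = w * w' * (zz K * zz K) := by rw [← hwz']; group
      _ = w * w' := by rw [hzz, mul_one]

end TwoE

/-- **central quotients** -/
structure Cen {Y X : Type*} [Group Y] [Group X] (Om : Set (Subgroup Y)) (f : Y →* X) : Prop where
  two : TwoE Om
  ne : Om.Nonempty
  ty : ∀ K ∈ Om, TyTwo K
  surj : Function.Surjective f
  cen : f.ker ≤ center Y
  pg : IsPGroup 2 f.ker
  inf : ∀ K ∈ Om, K ⊓ f.ker = ⊥

namespace Cen

variable {Y X : Type*} [Group Y] [Group X] [Finite Y] {Om : Set (Subgroup Y)} {f : Y →* X} {K K' L J : Subgroup Y}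
  {x y : Y}

theorem hyp (c : Cen Om f) : Hyp (img f Om) := QuoCen.hyp_img_central c.two.hyp c.surj c.cen c.inf

theorem zz_map (c : Cen Om f) (hK : K ∈ Om) : zz (K.map f) = f (zz K) :=
  QuoCen.zz_map_of_inf c.two.hyp hK (c.inf K hK)

theorem comm (c : Cen Om f) {a : Y} (ha : a ∈ f.ker) (g : Y) : g * a = a * g := mem_center_iff.1 (c.cen ha) g

theorem ker_le (c : Cen Om f) (t : Y) : f.ker ≤ centralizer {t} := fun a ha =>
  mem_centralizer_singleton_iff.2 (c.comm ha t).symm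

theorem mem_ker_of (_c : Cen Om f) {g t : Y} (h : f g * f t = f t * f g) : g * t * g⁻¹ * t⁻¹ ∈ f.ker := by
  rw [MonoidHom.mem_ker, map_mul, map_mul, map_mul, map_inv, map_inv, h]
  group

/-- `C_X(z_K) = f(C_Y(z_K))` -/
theorem cent_zz (c : Cen Om f) (hK : K ∈ Om) {g : Y} (hg : f g * f (zz K) = f (zz K) * f g) :
    g * zz K = zz K * g := by
  have h1 := c.mem_ker_of hg
  obtain ⟨Q, hQ⟩ := Hyp.exists_syl K
  have h2 : zz (cj g K) = zz K := by
    refine c.two.zz_eq_of_cent hK (c.two.hyp.conj K hK g) hQ ?_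
    intro q hq
    have hqz : q * zz K = zz K * q := mem_centralizer_singleton_iff.1 (c.two.hyp.le_centralizer hK (hQ.1 hq))
    rw [c.two.hyp.zz_cj hK]
    have h3 : g * zz K * g⁻¹ = g * zz K * g⁻¹ * (zz K)⁻¹ * zz K := by group
    rw [h3, mul_assoc, ← hqz, ← mul_assoc, ← c.comm h1 q, mul_assoc, mul_assoc]
  rw [c.two.hyp.zz_cj hK, mul_inv_eq_iff_eq_mul] at h2
  exact h2

theorem sylow (c : Cen Om f) (S : Sylow 2 X) : ∃ T : Sylow 2 Y, (T : Subgroup Y) = (S : Subgroup X).comap f :=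
  ⟨S.comapOfKerIsPGroup f c.pg (by rw [MonoidHom.range_eq_top.2 c.surj]; exact le_top), rfl⟩

theorem mem_OmS (_c : Cen Om f) {S : Subgroup X} {J : Subgroup X} :
    J ∈ OmS (img f Om) S ↔ ∃ K ∈ OmS Om (S.comap f), K.map f = J := by
  constructor
  · rintro ⟨⟨K, hK, rfl⟩, h2⟩
    exact ⟨K, ⟨hK, by rwa [relIndex_comap]⟩, rfl⟩
  · rintro ⟨K, ⟨hK, h2⟩, rfl⟩
    exact ⟨⟨K, hK, rfl⟩, by rwa [relIndex_comap] at h2⟩

/-- `f` is injective on `Om(T)` -/
theorem inj (c : Cen Om f) {T : Subgroup Y} (hT : IsPGroup 2 T) (hK : K ∈ OmS Om T) (hL : L ∈ OmS Om T)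
    (h : K.map f = L.map f) : K = L := by
  by_contra hne
  obtain ⟨y, hy, hyT, hy4⟩ : ∃ y ∈ L, y ∈ T ∧ orderOf y = 4 := by
    obtain ⟨a, b, n, gq⟩ := c.two.hyp.exists_gq hL.1 (syl_inf hT hL)
    exact ⟨b, gq.v_mem.1, gq.v_mem.2, gq.orderOf_v⟩
  have h1 : f y ∈ K.map f := by rw [h]; exact ⟨y, hy, rfl⟩
  obtain ⟨k, hk, hky⟩ := h1
  have hζ : k * y⁻¹ ∈ f.ker := by rw [MonoidHom.mem_ker, map_mul, map_inv, hky, mul_inv_cancel]
  have hcen : ∀ q ∈ K ⊓ T, y * q = q * y := fun q hq =>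
    (c.two.hyp.comm hT hK hL hne hq ⟨hy, hyT⟩).symm
  -- `k` centralises `K ⊓ T`
  have hkq : ∀ q ∈ K ⊓ T, k * q = q * k := by
    intro q hq
    have e1 : k = k * y⁻¹ * y := by group
    calc k * q = k * y⁻¹ * (y * q) := by group
      _ = k * y⁻¹ * (q * y) := by rw [hcen q hq]
      _ = (k * y⁻¹ * q) * y := by group
      _ = q * (k * y⁻¹) * y := by rw [← c.comm hζ q]
      _ = q * k := by group
  have hk4 : orderOf k = 4 := by
    have e1 := QuoCen.orderOf_map (c.inf K hK.1) hk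
    rw [← e1, hky, QuoCen.orderOf_map (c.inf L hL.1) hy, hy4]
  -- `k` in a Sylow subgroup with `K ⊓ T`
  have hk2 : IsPGroup 2 (zpowers k) := by
    rw [IsPGroup.iff_card]
    exact ⟨2, by rw [Nat.card_zpowers, hk4]; norm_num⟩
  have hkN : zpowers k ≤ normalizer ((K ⊓ T : Subgroup Y) : Set Y) := by
    rw [zpowers_le]
    exact mem_normalizer_of_cent hkq
  have hkT : k ∈ K ⊓ T := OneBasic.syl_le_of_normalizes' (syl_inf hT hK) hk2 (zpowers_le.2 hk) hkN (mem_zpowers k)
  exact c.two.hyp.not_cent_of_four hK.1 (syl_inf hT hK) hkT hk4 hkq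

theorem twoE (c : Cen Om f) : TwoE (img f Om) where
  hyp := c.hyp
  two := by
    intro S
    obtain ⟨T, hT⟩ := c.sylow S
    have h1 : OmS (img f Om) (S : Subgroup X) = (Subgroup.map f) '' OmS Om (T : Subgroup Y) := by
      ext J
      rw [c.mem_OmS, ← hT]
      rfl
    rw [h1, Set.InjOn.ncard_image (fun K hK L hL h => c.inj T.isPGroup' hK hL h), c.two.two T]
  eqz := by
    intro S J hJ J' hJ'
    obtain ⟨T, hT⟩ := c.sylow S
    obtain ⟨K, hK, rfl⟩ := c.mem_OmS.1 hJ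
    obtain ⟨L, hL, rfl⟩ := c.mem_OmS.1 hJ'
    rw [← hT] at hK hL
    rw [c.zz_map hK.1, c.zz_map hL.1, c.two.zz_eq T.isPGroup' hK hL]

theorem ty_img (c : Cen Om f) : ∀ J ∈ img f Om, TyTwo J := by
  rintro _ ⟨K, hK, rfl⟩
  have h1 := Subgroup.map_mono (f := f) (c.ty K hK)
  rw [TyTwo]
  refine h1.trans ?_
  rw [MonoidHom.map_closure]
  apply Subgroup.closure_mono
  rintro _ ⟨a, ⟨ha, hao⟩, rfl⟩
  exact ⟨⟨a, ha, rfl⟩, Odd.of_dvd_nat hao (orderOf_map_dvd f a)⟩

theorem ne_img (c : Cen Om f) : (img f Om).Nonempty := by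
  obtain ⟨K, hK⟩ := c.ne
  exact ⟨_, K, hK, rfl⟩

/-- an element centralising `Q f` centralises `Q` -/
theorem comm_of_map (c : Cen Om f) (hJ : J ∈ Om) {Q : Subgroup Y} (hQ : Syl Q J) {t : Y}
    (ht : ∀ q ∈ Q, f t * f q = f q * f t) : ∀ q ∈ Q, t * q = q * t := by
  obtain ⟨c0, v, n, gq⟩ := c.two.hyp.exists_gq hJ hQ
  have h4 : ∀ q ∈ Q, orderOf q = 4 → q ∈ centralizer {t} := by
    intro q hq hq4
    have hqq := c.two.hyp.sq_eq_zz hJ (hQ.1 hq) hq4
    have htz : t * zz J = zz J * t := c.cent_zz hJ (by rw [← hqq]; exact ht _ (mul_mem hq hq))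
    have hζ := c.mem_ker_of (ht q hq)
    obtain ⟨ζ, hζe⟩ : ∃ ζ, ζ = t * q * t⁻¹ * q⁻¹ := ⟨_, rfl⟩
    rw [← hζe] at hζ
    have htq : t * q * t⁻¹ = ζ * q := by rw [hζe]; group
    have hzz : zz (cj t J) = zz J := by
      rw [c.two.hyp.zz_cj hJ, htz, mul_inv_cancel_right]
    have hmem : ζ * q ∈ cj t J := by rw [← htq]; exact conj_mem_cj (hQ.1 hq)
    by_cases hJt : cj t J = J
    · rw [hJt] at hmem
      have h1 : ζ ∈ J ⊓ f.ker := ⟨by
        have := J.mul_mem hmem (J.inv_mem (hQ.1 hq)); rwa [mul_inv_cancel_right] at this, hζ⟩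
      rw [c.inf J hJ, mem_bot] at h1
      rw [h1, one_mul, mul_inv_eq_iff_eq_mul] at htq
      exact mem_centralizer_singleton_iff.2 htq.symm
    · exfalso
      have hR : IsPGroup 2 (Q ⊔ f.ker : Subgroup Y) := isPGroup_sup_of_normalizes hQ.2.1 c.pg (fun a _ =>
        mem_normalizer_of_cent fun b hb => c.comm hb a)
      refine c.two.hyp.not_cent_of_four hJ hQ hq hq4 fun a ha => ?_
      have h1 := c.two.hyp.comm_of_zz_eq hR hJ (c.two.hyp.conj J hJ t) hzz.symm (Ne.symm hJt) (hQ.1 ha)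
        ((le_sup_left : Q ≤ Q ⊔ f.ker) ha) hmem (mul_mem ((le_sup_right : f.ker ≤ Q ⊔ f.ker) hζ)
          ((le_sup_left : Q ≤ Q ⊔ f.ker) hq))
      rw [← mul_assoc, c.comm hζ a, mul_assoc, mul_assoc] at h1
      exact (mul_left_cancel h1).symm
  intro q hq
  exact (mem_centralizer_singleton_iff.1 (gq.le_of_four h4 hq)).symm

/-- an element centralising a Sylow 2-subgroup of `J f` centralises one of `J` -/
theorem perp_of_map (c : Cen Om f) (hJ : J ∈ Om) {t : Y} {Q : Subgroup X} (hQ : Syl Q (J.map f))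
    (ht : ∀ q ∈ Q, f t * q = q * f t) : TwoE.Perp t J := by
  haveI : Finite X := Finite.of_surjective f c.surj
  obtain ⟨Q0, hQ0⟩ := Hyp.exists_syl J
  obtain ⟨_, ⟨j, hj, rfl⟩, hjQ⟩ := (hQ0.map (f := f)).exists_conj hQ
  rw [← cj_map] at hjQ
  have hQj : Syl (cj j Q0) J := by
    have h1 := hQ0.cj j
    rwa [mem_normalizer_iff_cj.1 (le_normalizer hj)] at h1
  refine ⟨cj j Q0, hQj, c.comm_of_map hJ hQj fun q hq => ht _ ?_⟩
  rw [← hjQ]
  exact ⟨q, hq, rfl⟩

/-- `C_X(x y) = f(C_Y(x y))` if `x y` centralises no Sylow 2-subgroup of a member -/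
theorem cent_tt (c : Cen Om f) (p : TTp Om K K' x y) (hno : ∀ J ∈ Om, ¬ TwoE.Perp (x * y) J) {g : Y}
    (hg : f g * f (x * y) = f (x * y) * f g) : g * (x * y) = (x * y) * g := by
  haveI : Fact (Nat.Prime 2) := ⟨Nat.prime_two⟩
  set t := x * y with ht
  set N : Subgroup Y := (centralizer {f t}).comap f with hN
  have hmemN : ∀ a, a ∈ N ↔ f a * f t = f t * f a := fun a => by
    rw [hN, mem_comap, mem_centralizer_singleton_iff]
  have hCN : centralizer {t} ≤ N := by
    intro a ha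
    rw [hmemN, ← map_mul, ← map_mul, mem_centralizer_singleton_iff.1 ha]
  -- the commutator homomorphism
  let φ : N →* f.ker :=
    { toFun := fun a => ⟨(a : Y) * t * (a : Y)⁻¹ * t⁻¹, c.mem_ker_of ((hmemN a).1 a.2)⟩
      map_one' := by apply Subtype.ext; simp
      map_mul' := by
        intro a b
        apply Subtype.ext
        change (a : Y) * b * t * ((a : Y) * b)⁻¹ * t⁻¹ = (a : Y) * t * (a : Y)⁻¹ * t⁻¹ * ((b : Y) * t * (b : Y)⁻¹ * t⁻¹)
        have h1 := c.comm (c.mem_ker_of ((hmemN b).1 b.2)) ((a : Y) * t * (a : Y)⁻¹ * t⁻¹)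
        have h2 := c.comm (c.mem_ker_of ((hmemN b).1 b.2)) (a : Y)
        calc (a : Y) * b * t * ((a : Y) * b)⁻¹ * t⁻¹
            = (a : Y) * ((b : Y) * t * (b : Y)⁻¹ * t⁻¹) * t * (a : Y)⁻¹ * t⁻¹ := by group
          _ = ((b : Y) * t * (b : Y)⁻¹ * t⁻¹) * ((a : Y) * t * (a : Y)⁻¹ * t⁻¹) := by rw [h2]; group
          _ = _ := h1.symm }
  have hφ : φ.ker = (centralizer {t}).subgroupOf N := by
    ext a
    rw [MonoidHom.mem_ker, mem_subgroupOf, mem_centralizer_singleton_iff]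
    constructor
    · intro h1
      have h2 : (a : Y) * t * (a : Y)⁻¹ * t⁻¹ = 1 := congrArg Subtype.val h1
      rw [mul_inv_eq_one, mul_inv_eq_iff_eq_mul] at h2
      exact h2
    · intro h1
      apply Subtype.ext
      change (a : Y) * t * (a : Y)⁻¹ * t⁻¹ = 1
      rw [h1]; group
  -- the index of `C(t)` in `N` is a power of two
  obtain ⟨k, hk⟩ : ∃ k, (centralizer {t}).relIndex N = 2 ^ k := by
    have h1 : (centralizer {t}).relIndex N ∣ Nat.card f.ker := by
      rw [relIndex, ← hφ, index_ker]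
      exact Subgroup.card_subgroup_dvd_card _
    obtain ⟨m, hm⟩ := IsPGroup.iff_card.1 c.pg
    rw [hm] at h1
    obtain ⟨k, -, hk⟩ := (Nat.dvd_prime_pow Nat.prime_two).1 h1
    exact ⟨k, hk⟩
  have hnorm : N ≤ normalizer ((centralizer {t} : Subgroup Y) : Set Y) := by
    rw [← normal_subgroupOf_iff_le_normalizer hCN, ← hφ]
    infer_instance
  obtain ⟨P, hP⟩ := Hyp.exists_syl N
  have hPC : Syl (P ⊓ centralizer {t}) (centralizer {t}) := CoreTools.syl_inf_normal hP hCN hnorm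
  by_cases hPt : P ≤ centralizer {t}
  · -- then `C(t) = N`
    have h1 : ¬ 2 ∣ (centralizer {t}).relIndex N := by
      intro h2
      refine hP.2.2 (h2.trans ?_)
      rw [← relIndex_mul_relIndex P (centralizer {t}) N hPt hCN]
      exact dvd_mul_left _ _
    rw [hk] at h1
    have h2 : k = 0 := by
      by_contra h3
      exact h1 (dvd_pow_self 2 h3)
    rw [h2, pow_zero, relIndex_eq_one] at hk
    exact mem_centralizer_singleton_iff.1 (hk ((hmemN g).2 hg))
  · exfalso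
    obtain ⟨S⟩ : Nonempty (Sylow 2 Y) := inferInstance
    obtain ⟨L, L', w, w', q, hSL, hwS, hwS', hSw⟩ := c.two.exists_pair_index S
    obtain ⟨a, ha, -, -⟩ := c.two.conj_any_top c.ty q p
    rw [← ht] at ha
    -- `C_S(w w')` has index at most two in `S`
    have hidx : ((S : Subgroup Y) ⊓ centralizer {w * w'}).relIndex S ≤ 2 := by
      rw [inf_relIndex_left]
      have h1 : ∀ s ∈ (S : Subgroup Y), ∀ s' ∈ (S : Subgroup Y), s ∉ centralizer {w * w'} →
          s' ∉ centralizer {w * w'} → s⁻¹ * s' ∈ centralizer {w * w'} := by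
        intro s hs s' hs' h2 h3
        have e1 := (hSw s hs).resolve_left fun h4 => h2 (mem_centralizer_singleton_iff.2
          (mul_inv_eq_iff_eq_mul.1 h4))
        have e2 := (hSw s' hs').resolve_left fun h4 => h3 (mem_centralizer_singleton_iff.2
          (mul_inv_eq_iff_eq_mul.1 h4))
        rw [mem_centralizer_singleton_iff]
        have e3 : s' * (w * w') * s'⁻¹ = s * (w * w') * s⁻¹ := by rw [e1, e2]
        calc s⁻¹ * s' * (w * w') = s⁻¹ * (s' * (w * w') * s'⁻¹) * s' := by group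
          _ = s⁻¹ * (s * (w * w') * s⁻¹) * s' := by rw [e3]
          _ = w * w' * (s⁻¹ * s') := by group
      by_contra hlt
      have h2 : 2 < ((centralizer {w * w'}).subgroupOf (S : Subgroup Y)).index := not_le.1 hlt
      -- three different cosets
      rw [Subgroup.index, ← Nat.card_congr (Equiv.refl _)] at h2
      haveI : Fintype (↥(S : Subgroup Y) ⧸ (centralizer {w * w'}).subgroupOf (S : Subgroup Y)) := Fintype.ofFinite _
      rw [Nat.card_eq_fintype_card, Fintype.two_lt_card_iff] at h2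
      obtain ⟨A, B, D, hAB, hAD, hBD⟩ := h2
      revert hAB hAD hBD
      refine QuotientGroup.induction_on A fun A => QuotientGroup.induction_on B fun B =>
        QuotientGroup.induction_on D fun D => ?_
      intro hAB hAD hBD
      have hcos : ∀ E F : ↥(S : Subgroup Y), (E : Y) ∈ centralizer {w * w'} → (F : Y) ∈ centralizer {w * w'} →
          ((E : ↥(S : Subgroup Y) ⧸ (centralizer {w * w'}).subgroupOf (S : Subgroup Y)) = F) := by
        intro E F hE hF
        rw [QuotientGroup.eq, mem_subgroupOf]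
        exact mul_mem (inv_mem hE) hF
      have hcos' : ∀ E F : ↥(S : Subgroup Y), (E : Y) ∉ centralizer {w * w'} → (F : Y) ∉ centralizer {w * w'} →
          ((E : ↥(S : Subgroup Y) ⧸ (centralizer {w * w'}).subgroupOf (S : Subgroup Y)) = F) := by
        intro E F hE hF
        rw [QuotientGroup.eq, mem_subgroupOf]
        exact h1 E E.2 F F.2 hE hF
      by_cases cA : (A : Y) ∈ centralizer {w * w'} <;> by_cases cB : (B : Y) ∈ centralizer {w * w'} <;>
        by_cases cD : (D : Y) ∈ centralizer {w * w'}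
      all_goals first
        | exact hAB (hcos _ _ cA cB)
        | exact hAD (hcos _ _ cA cD)
        | exact hBD (hcos _ _ cB cD)
        | exact hAB (hcos' _ _ cA cB)
        | exact hAD (hcos' _ _ cA cD)
        | exact hBD (hcos' _ _ cB cD)
    -- orders
    have hcardS : Nat.card (S : Subgroup Y) ≤ 2 * Nat.card (P ⊓ centralizer {t} : Subgroup Y) := by
      have h1 : Nat.card ((S : Subgroup Y) ⊓ centralizer {w * w'} : Subgroup Y) *
          ((S : Subgroup Y) ⊓ centralizer {w * w'}).relIndex S = Nat.card (S : Subgroup Y) := by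
        have h4 := relIndex_mul_relIndex (⊥ : Subgroup Y) ((S : Subgroup Y) ⊓ centralizer {w * w'}) S bot_le inf_le_left
        rwa [relIndex_bot_left, relIndex_bot_left] at h4
      have h2 : Nat.card ((S : Subgroup Y) ⊓ centralizer {w * w'} : Subgroup Y) ≤
          Nat.card (P ⊓ centralizer {t} : Subgroup Y) := by
        have h3 : cj a ((S : Subgroup Y) ⊓ centralizer {w * w'}) ≤ centralizer {t} := by
          rw [cj_inf, cj_centralizer, ha]
          exact inf_le_right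
        obtain ⟨R, hR, hle⟩ := OneBasic.exists_syl_ge (isPGroup_cj (g := a) (S.isPGroup'.to_le inf_le_left)) h3
        obtain ⟨b, -, hb⟩ := hR.exists_conj hPC
        rw [← hb, card_cj, ← card_cj a]
        exact Nat.card_le_card_of_injective _ (Subgroup.inclusion_injective hle)
      calc Nat.card (S : Subgroup Y) = Nat.card ((S : Subgroup Y) ⊓ centralizer {w * w'} : Subgroup Y) *
          ((S : Subgroup Y) ⊓ centralizer {w * w'}).relIndex S := h1.symm
        _ ≤ Nat.card (P ⊓ centralizer {t} : Subgroup Y) * 2 := Nat.mul_le_mul h2 hidx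
        _ = 2 * Nat.card (P ⊓ centralizer {t} : Subgroup Y) := by ring
    have hcardP : 2 * Nat.card (P ⊓ centralizer {t} : Subgroup Y) ≤ Nat.card P := by
      have h4 := relIndex_mul_relIndex (⊥ : Subgroup Y) (P ⊓ centralizer {t}) P bot_le inf_le_left
      rw [relIndex_bot_left, relIndex_bot_left] at h4
      rw [← h4, mul_comm]
      apply Nat.mul_le_mul_left
      by_contra h5
      have h6 : (P ⊓ centralizer {t}).relIndex P ≠ 0 := by
        intro h7
        rw [h7, mul_zero] at h4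
        exact Nat.card_pos.ne h4
      have h7 : (P ⊓ centralizer {t}).relIndex P = 1 := by omega
      rw [relIndex_eq_one] at h7
      exact hPt (h7.trans inf_le_right)
    -- `P` is a Sylow subgroup of `Y`
    obtain ⟨T, hT⟩ := hP.2.1.exists_le_sylow
    have hPT : P = T := by
      apply SetLike.coe_injective
      apply Set.eq_of_subset_of_ncard_le hT
      have h1 : Nat.card (T : Subgroup Y) = Nat.card (S : Subgroup Y) := by
        rw [T.card_eq_multiplicity, S.card_eq_multiplicity]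
      change Nat.card (T : Subgroup Y) ≤ Nat.card P
      rw [h1]
      exact hcardS.trans hcardP
    obtain ⟨J1, J2, hJne, hO⟩ := Set.ncard_eq_two.1 (c.two.two T)
    have hJ1 : J1 ∈ OmS Om (T : Subgroup Y) := by rw [hO]; exact Set.mem_insert _ _
    refine hno J1 hJ1.1 ⟨_, syl_inf T.isPGroup' hJ1, c.comm_of_map hJ1.1 (syl_inf T.isPGroup' hJ1) fun q hq => ?_⟩
    have h1 : q ∈ N := hP.1 (by rw [hPT]; exact hq.2)
    exact ((hmemN q).1 h1).symm

theorem map_pair (c : Cen Om f) (p : TTp Om K K' x y) : TTp (img f Om) (K.map f) (K'.map f) (f x) (f y) := by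
  obtain ⟨S, -, hKS, hKS', hx, hy⟩ := c.two.exists_sylow_pair p
  refine ⟨⟨K, p.hK, rfl⟩, ⟨K', p.hK', rfl⟩, fun h => p.ne (c.inj S.isPGroup' hKS hKS' h), ?_, ⟨x, p.hx, rfl⟩,
    ⟨y, p.hy, rfl⟩, ?_, ?_, (S : Subgroup Y).map f, S.isPGroup'.map f, ⟨x, hx, rfl⟩, ⟨y, hy, rfl⟩⟩
  · rw [c.zz_map p.hK, c.zz_map p.hK', p.hz]
  · rw [QuoCen.orderOf_map (c.inf K p.hK) p.hx, p.ox]
  · rw [QuoCen.orderOf_map (c.inf K' p.hK') p.hy, p.oy]

theorem big (c : Cen Om f) (p : TTp Om K K' x y) {M : Subgroup Y} (hz : centralizer {zz K} ≤ M)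
    (ht : centralizer {f (x * y)} ≤ M.map f) : EqClose.Big (img f Om) (M.map f) := by
  haveI : Finite X := Finite.of_surjective f c.surj
  refine c.twoE.big c.ty_img (c.map_pair p) ?_ (by rwa [← map_mul])
  intro a ha
  obtain ⟨g, rfl⟩ := c.surj a
  rw [c.zz_map p.hK, mem_centralizer_singleton_iff] at ha
  exact ⟨g, hz (mem_centralizer_singleton_iff.2 (c.cent_zz p.hK ha)), rfl⟩

theorem eq_top (_c : Cen Om f) {M : Subgroup Y} (hker : f.ker ≤ M) (h : M.map f = ⊤) : M = ⊤ := by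
  rw [← comap_map_eq_self hker, h, comap_top]

/-- **generation, case `x y = z_J` modulo the kernel** -/
theorem eq_top_of_tt (c : Cen Om f) (hI : EqClose.Inner (img f Om)) (hB : CloEnd.Bend X) (hC : CloEnd.Crit1175 X)
    (p : TTp Om K K' x y) (hJ : J ∈ Om) (hxy : f (x * y) = f (zz J)) {M : Subgroup Y}
    (hz : centralizer {zz K} ≤ M) (hzJ : centralizer {zz J} ≤ M) : M = ⊤ := by
  haveI : Finite X := Finite.of_surjective f c.surj
  refine c.eq_top ((c.ker_le _).trans hz) ?_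
  have hbig : EqClose.Big (img f Om) (M.map f) := by
    refine c.big p hz ?_
    intro a ha
    obtain ⟨g, rfl⟩ := c.surj a
    rw [hxy, mem_centralizer_singleton_iff] at ha
    exact ⟨g, hzJ (mem_centralizer_singleton_iff.2 (c.cent_zz hJ ha)), rfl⟩
  have e : EqClose.EqTT (img f Om) :=
    { toEqZ := c.twoE.eqZ c.ne_img c.ty_img
      card := c.twoE.two
      tt := by
        intro S A hA B hB hne a ha b hb oa ob
        have q : TTp (img f Om) A B a b := ⟨hA.1, hB.1, hne, c.twoE.zz_eq S.isPGroup' hB hA, ha.1, hb.1, oa, ob,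
          (S : Subgroup X), S.isPGroup', ha.2, hb.2⟩
        obtain ⟨g, hg, -, -⟩ := c.twoE.conj_any_top c.ty_img (c.map_pair p) q
        refine ⟨cj g (J.map f), c.twoE.hyp.conj _ ⟨J, hJ, rfl⟩ g, ?_⟩
        rw [c.twoE.hyp.zz_cj ⟨J, hJ, rfl⟩, c.zz_map hJ, ← hxy, map_mul, hg] }
  exact hbig.eq_top_of_tt e hI hB hC

/-- **generation, case no member perpendicular to `x y`** -/
theorem eq_top_of_noperp (c : Cen Om f) (hB : CloEnd.Bend X) (hC : CloEnd.Crit1175 X)
    (p : TTp Om K K' x y) (hno : ∀ J ∈ Om, ¬ TwoE.Perp (x * y) J) {M : Subgroup Y}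
    (hz : centralizer {zz K} ≤ M) (ht : centralizer {x * y} ≤ M) : M = ⊤ := by
  haveI : Finite X := Finite.of_surjective f c.surj
  refine c.eq_top ((c.ker_le _).trans hz) ?_
  have hbig : EqClose.Big (img f Om) (M.map f) := by
    refine c.big p hz ?_
    intro a ha
    obtain ⟨g, rfl⟩ := c.surj a
    rw [mem_centralizer_singleton_iff] at ha
    exact ⟨g, ht (mem_centralizer_singleton_iff.2 (c.cent_tt p hno ha)), rfl⟩
  by_contra hM
  refine hbig.false_of_big_two (c.twoE.eqZ c.ne_img c.ty_img) c.twoE.two ?_ hM hB hC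
  intro S _ A hA B hB' hne a ha b hb oa ob L hL Q hQ hQc _
  exfalso
  have q : TTp (img f Om) A B a b := ⟨hA.1, hB'.1, hne, c.twoE.zz_eq S.isPGroup' hB' hA, ha.1, hb.1, oa, ob,
    (S : Subgroup X), S.isPGroup', ha.2, hb.2⟩
  obtain ⟨g, hg, -, -⟩ := c.twoE.conj_any_top c.ty_img q (c.map_pair p)
  obtain ⟨L0, hL0, rfl⟩ := hL
  obtain ⟨g0, rfl⟩ := c.surj g
  refine hno (cj g0 L0) (c.two.hyp.conj _ hL0 g0) (c.perp_of_map (c.two.hyp.conj _ hL0 g0) (Q := cj (f g0) Q) ?_ ?_)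
  · rw [cj_map]; exact hQ.cj (f g0)
  · rintro _ ⟨r, hr, rfl⟩
    simp only [MulEquiv.coe_toMonoidHom, MulAut.conj_apply]
    rw [map_mul, ← hg]
    calc f g0 * (a * b) * (f g0)⁻¹ * (f g0 * r * (f g0)⁻¹) = f g0 * ((a * b) * r) * (f g0)⁻¹ := by group
      _ = f g0 * (r * (a * b)) * (f g0)⁻¹ := by rw [hQc r hr]
      _ = f g0 * r * (f g0)⁻¹ * (f g0 * (a * b) * (f g0)⁻¹) := by group

end Cen

end Cfsg.Agent.Cit
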