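import Cfsg.Agent.Cit.TwoA

/-!
# Classical involutions, `|Om(S)| = 2`, `z_K ≠ z_L`: the twisted case, CONNECTIVITY (bb R18 #6419)

`Tw Om`: the facts of the twisted case (`Tw1`) in class free form.  Then distinct commuting elements of
`ZZ Om` have their product in `D = {zz K}`, and the commuting graph of `D` is connected.  So a subgroup `M`
with `zz K ∈ M → C(zz K) ≤ M` for all `K ∈ Om` and `zz K ∈ M` for one `K` contains all of `D`.
-/

set_option autoImplicit false
set_option linter.style.haveILetI false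
set_option linter.unusedSectionVars false

namespace Cfsg.Agent.Cit

open Subgroup Cfsg

variable {G : Type*} [Group G]

/-! ### Two involutions -/

/-- an element inverting `r` -/
theorem conj_zpow_of_inv {r x : G} (h : x * r * x⁻¹ = r⁻¹) (j : ℤ) : r ^ j * x * (r ^ j)⁻¹ = r ^ (2 * j) * x := by
  have h1 : x * r ^ j * x⁻¹ = r ^ (-j) := by
    rw [← conj_zpow, h, inv_zpow', ]
  have h2 : x * (r ^ j)⁻¹ = r ^ j * x := by
    have h3 : x * r ^ (-j) * x⁻¹ = r ^ j := by
      rw [← conj_zpow, h, inv_zpow', neg_neg]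
    calc x * (r ^ j)⁻¹ = (x * r ^ (-j) * x⁻¹) * x := by rw [zpow_neg]; group
      _ = r ^ j * x := by rw [h3]
  rw [mul_assoc, h2, ← mul_assoc, ← zpow_add, two_mul]

/-- two involutions are conjugate by an element of `⟨xy⟩`, or the involution `f` of `⟨xy⟩` commutes with
both and `f x` is conjugate to `x` or `y` -/
theorem dihedral_cases [Finite G] {x y : G} (hx : x * x = 1) (hy : y * y = 1) :
    (∃ g ∈ zpowers (x * y), g * y * g⁻¹ = x) ∨
    ∃ f, f ≠ 1 ∧ f * f = 1 ∧ f * x = x * f ∧ f * y = y * f ∧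
      ∃ g, (g * x * g⁻¹ = f * x ∨ g * y * g⁻¹ = f * x) ∧ f ∈ zpowers (x * y) ∧ g ∈ closure {x, y} := by
  have hxi : x⁻¹ = x := inv_eq_of_mul_eq_one_right hx
  have hyi : y⁻¹ = y := inv_eq_of_mul_eq_one_right hy
  obtain ⟨r, hr⟩ : ∃ r, r = x * y := ⟨_, rfl⟩
  have hxr : x * r * x⁻¹ = r⁻¹ := by
    rw [hr, mul_inv_rev, hxi, hyi]
    calc x * (x * y) * x = (x * x) * y * x := by group
      _ = y * x := by rw [hx, one_mul]
  have hyr : y * r * y⁻¹ = r⁻¹ := by
    rw [hr, mul_inv_rev, hxi, hyi]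
    calc y * (x * y) * y = y * x * (y * y) := by group
      _ = y * x := by rw [hy, mul_one]
  have hrx : r ∈ closure {x, y} := by
    rw [hr]
    exact mul_mem (subset_closure (by simp)) (subset_closure (by simp))
  rw [← hr]
  rcases Nat.even_or_odd' (orderOf r) with ⟨k, hk | hk⟩
  · right
    have hk0 : 0 < k := by have := orderOf_pos r; omega
    have hf : (r ^ k) * (r ^ k) = 1 := by rw [← pow_add, ← two_mul, ← hk, pow_orderOf_eq_one]
    have hfi : (r ^ k)⁻¹ = r ^ k := inv_eq_of_mul_eq_one_right hf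
    have cx : r ^ k * x = x * r ^ k := by
      have h1 : x * r ^ k * x⁻¹ = (r ^ k)⁻¹ := by rw [← conj_pow, hxr, inv_pow]
      rw [hfi] at h1
      calc r ^ k * x = (x * r ^ k * x⁻¹) * x := by rw [h1]
        _ = _ := by group
    have cy : r ^ k * y = y * r ^ k := by
      have h1 : y * r ^ k * y⁻¹ = (r ^ k)⁻¹ := by rw [← conj_pow, hyr, inv_pow]
      rw [hfi] at h1
      calc r ^ k * y = (y * r ^ k * y⁻¹) * y := by rw [h1]
        _ = _ := by group
    refine ⟨r ^ k, ?_, hf, cx, cy, ?_⟩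
    · intro h1
      have h2 := Nat.le_of_dvd hk0 (orderOf_dvd_of_pow_eq_one h1)
      omega
    rcases Nat.even_or_odd' k with ⟨j, hj | hj⟩
    · refine ⟨r ^ (j : ℤ), Or.inl ?_, pow_mem (mem_zpowers r) k, zpow_mem hrx _⟩
      rw [conj_zpow_of_inv hxr, show (2 * (j : ℤ)) = ((2 * j : ℕ) : ℤ) by push_cast; ring, zpow_natCast, ← hj]
    · refine ⟨r ^ (j : ℤ) * x, Or.inr ?_, pow_mem (mem_zpowers r) k,
        mul_mem (zpow_mem hrx _) (subset_closure (by simp))⟩
      have hxyx : (x * y * x⁻¹) * r * (x * y * x⁻¹)⁻¹ = r⁻¹ := by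
        calc (x * y * x⁻¹) * r * (x * y * x⁻¹)⁻¹ = x * (y * (x⁻¹ * r * x) * y⁻¹) * x⁻¹ := by group
          _ = x * (y * (x * r * x⁻¹) * y⁻¹) * x⁻¹ := by rw [hxi]
          _ = x * (y * r⁻¹ * y⁻¹) * x⁻¹ := by rw [hxr]
          _ = x * (y * r * y⁻¹)⁻¹ * x⁻¹ := by group
          _ = x * r * x⁻¹ := by rw [hyr, inv_inv]
          _ = _ := hxr
      calc (r ^ (j : ℤ) * x) * y * (r ^ (j : ℤ) * x)⁻¹ = r ^ (j : ℤ) * (x * y * x⁻¹) * (r ^ (j : ℤ))⁻¹ := by group
        _ = r ^ (2 * (j : ℤ)) * (x * y * x⁻¹) := conj_zpow_of_inv hxyx _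
        _ = r ^ (2 * j) * (r * x) := by
          rw [show (2 * (j : ℤ)) = ((2 * j : ℕ) : ℤ) by push_cast; ring, zpow_natCast, hr, hxi]
        _ = r ^ k * x := by rw [hj, pow_succ]; group
  · left
    refine ⟨r ^ ((k : ℤ) + 1), zpow_mem (mem_zpowers r) _, ?_⟩
    rw [conj_zpow_of_inv hyr, show (2 * ((k : ℤ) + 1)) = ((orderOf r + 1 : ℕ) : ℤ) by rw [hk]; push_cast; ring,
      zpow_natCast, pow_succ, pow_orderOf_eq_one, one_mul, hr, mul_assoc, hy, mul_one]

/-! ### The twisted case -/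

/-- the facts of the twisted case -/
structure Tw (Om : Set (Subgroup G)) : Prop where
  two : Two Om
  niso : ¬ Iso Om
  /-- the involutions of the partners of `K` together with `1` are closed under commuting products -/
  mul : ∀ K L M, Pt Om K L → Pt Om K M → L ≠ M → zz L * zz M = zz M * zz L →
    ∃ N, Pt Om K N ∧ zz L * zz M = zz N
  /-- twisted -/
  tw : ∀ K L A B, Pt Om K L → Pt Om K A → Pt Om L B → A ≠ L → B ≠ K → zz A * zz L = zz L * zz A →
    zz B * zz K = zz K * zz B → zz A * zz B = zz B * zz A → ∃ N ∈ Om, zz A * zz B = zz N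

namespace Tw

variable [Finite G] {Om : Set (Subgroup G)}

/-- an involution swapping `W`, `W'` is conjugate to its product with `zz W * zz W'` -/
theorem swap_conj (h : Two Om) {W W' : Subgroup G} (hP : Pt Om W W') {x : G} (hx : x * x = 1)
    (hxW : cj x W = W') : zz W * x * (zz W)⁻¹ = x * (zz W * zz W') := by
  have e1 : zz W' = x * zz W * x⁻¹ := by rw [← hxW, h.hyp.zz_cj hP.left]
  have hxi : x⁻¹ = x := inv_eq_of_mul_eq_one_right hx
  rw [hP.comm h.hyp, e1, hxi, h.hyp.zz_inv hP.left]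
  calc zz W * x * zz W = 1 * zz W * x * zz W := by rw [one_mul]
    _ = (x * x) * zz W * x * zz W := by rw [hx]
    _ = _ := by group

/-- `X ∈ Om` with `zz X ∈ S`, `Om(S) = {W, W'}`, `zz X * z ∈ ZZ` for `z = zz W * zz W'`: then `X` is a partner
of `W` or `W'` -/
theorem pt_or (h : Two Om) (S : Sylow 2 G) {W W' X : Subgroup G} (hW : W ∈ OmS Om (S : Subgroup G))
    (hW' : W' ∈ OmS Om (S : Subgroup G)) (hne : W ≠ W') (hX : X ∈ Om) (hXS : zz X ∈ (S : Subgroup G))
    (hXz : zz X * (zz W * zz W') ∈ ZZ Om) :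
    X ≠ W ∧ X ≠ W' ∧ zz X * zz W = zz W * zz X ∧ zz X * zz W' = zz W' * zz X ∧ (Pt Om W X ∨ Pt Om W' X) := by
  haveI : Fact (Nat.Prime 2) := ⟨Nat.prime_two⟩
  have hP : Pt Om W W' := ⟨hne, S, S.isPGroup', hW, hW'⟩
  have hc := hP.comm h.hyp
  have n1 : X ≠ W := by
    rintro rfl
    rw [← mul_assoc, h.hyp.zz_mul hX, one_mul] at hXz
    exact h.disj hW'.1 hXz
  have n2 : X ≠ W' := by
    rintro rfl
    rw [hc, ← mul_assoc, h.hyp.zz_mul hX, one_mul] at hXz
    exact h.disj hW.1 hXz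
  rcases h.cj_or S.isPGroup' hW hW' hne (le_normalizer hXS) with ⟨h1, h2⟩ | ⟨h1, h2⟩
  swap
  · exfalso
    have h3 := swap_conj h hP (h.hyp.zz_mul hX) h1
    rw [← h3, ← h.hyp.zz_cj hX] at hXz
    exact h.disj (h.hyp.conj X hX _) hXz
  have c1 := (h.cj_eq_iff hW.1).1 h1
  have c2 := (h.cj_eq_iff hW'.1).1 h2
  refine ⟨n1, n2, c1, c2, ?_⟩
  have m1 : zz X ∈ normalizer ((W ⊓ S : Subgroup G) : Set G) := by
    rw [mem_normalizer_iff_cj, cj_inf, h1, mem_normalizer_iff_cj.1 (le_normalizer hXS)]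
  have m2 : zz X ∈ normalizer ((W' ⊓ S : Subgroup G) : Set G) := by
    rw [mem_normalizer_iff_cj, cj_inf, h2, mem_normalizer_iff_cj.1 (le_normalizer hXS)]
  rcases h.zz_or hW.1 hX n1.symm (syl_inf S.isPGroup' hW) m1 with h3 | ⟨b, hb, hbX⟩
  · exact Or.inl h3
  rcases h.zz_or hW'.1 hX n2.symm (syl_inf S.isPGroup' hW') m2 with h3 | ⟨b', hb', hbX'⟩
  · exact Or.inr h3
  exfalso
  have hbW : b' * zz W = zz W * b' :=
    (h.hyp.comm S.isPGroup' hW hW' hne (h.hyp.zz_mem_inf S.isPGroup' hW) hb').symm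
  have h9 : (b' * b) * zz X * (b' * b)⁻¹ = zz X * (zz W * zz W') := by
    calc (b' * b) * zz X * (b' * b)⁻¹ = b' * (b * zz X * b⁻¹) * b'⁻¹ := by group
      _ = b' * (zz W * zz X) * b'⁻¹ := by rw [hbX]
      _ = (b' * zz W) * zz X * b'⁻¹ := by group
      _ = zz W * (b' * zz X * b'⁻¹) := by rw [hbW]; group
      _ = zz W * (zz W' * zz X) := by rw [hbX']
      _ = zz W * (zz X * zz W') := by rw [c2]
      _ = (zz W * zz X) * zz W' := by group
      _ = (zz X * zz W) * zz W' := by rw [c1]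
      _ = _ := by group
  rw [← h9, ← h.hyp.zz_cj hX] at hXz
  exact h.disj (h.hyp.conj X hX _) hXz

/-- for `y = zz U * zz U'` and `z ∈ ZZ` commuting with `zz U`, `zz U'`: not both `zz U * z`, `zz U' * z` are
in `ZZ` -/
theorem not_both (t : Tw Om) {U U' : Subgroup G} (hP : Pt Om U U') {z : G} (hz : z ∈ ZZ Om)
    (c1 : z * zz U = zz U * z) (c2 : z * zz U' = zz U' * z) (h1 : zz U * z ∈ ZZ Om)
    (h2 : zz U' * z ∈ ZZ Om) : False := by
  have h := t.two
  haveI : Fact (Nat.Prime 2) := ⟨Nat.prime_two⟩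
  have c3 := hP.comm h.hyp
  -- a Sylow 2-subgroup containing `zz U`, `zz U'` in `C(z)`
  have hn : zz U ∈ normalizer ((zpowers (zz U') : Subgroup G) : Set G) := by
    rw [mem_normalizer_iff_cj, cj, MonoidHom.map_zpowers]
    congr 1
    show zz U * zz U' * (zz U)⁻¹ = zz U'
    rw [c3, mul_inv_cancel_right]
  have hUU : IsPGroup 2 (zpowers (zz U) ⊔ zpowers (zz U') : Subgroup G) :=
    OneBasic.isPGroup_sup_of_normalizes (Two.isPGroup_zpowers_of_sq (h.hyp.zz_mul hP.left))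
      (Two.isPGroup_zpowers_of_sq (h.hyp.zz_mul hP.right)) (zpowers_le.2 hn)
  have hle : (zpowers (zz U) ⊔ zpowers (zz U') : Subgroup G) ≤ centralizer {z} :=
    sup_le (zpowers_le.2 (mem_centralizer_singleton_iff.2 c1.symm))
      (zpowers_le.2 (mem_centralizer_singleton_iff.2 c2.symm))
  obtain ⟨S, W, W', hS, hW, hW', hne, hzW⟩ := h.sylow_of_comm hz hUU
    (fun a ha => mem_centralizer_singleton_iff.1 (hle ha))
  have hUS : zz U ∈ (S : Subgroup G) := hS (mem_sup_left (mem_zpowers _))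
  have hUS' : zz U' ∈ (S : Subgroup G) := hS (mem_sup_right (mem_zpowers _))
  rw [hzW] at h1 h2
  obtain ⟨n1, n2, d1, d2, hp⟩ := pt_or h S hW hW' hne hP.left hUS h1
  obtain ⟨n1', n2', d1', d2', hp'⟩ := pt_or h S hW hW' hne hP.right hUS' h2
  have hPW : Pt Om W W' := ⟨hne, S, S.isPGroup', hW, hW'⟩
  have key : ∀ N ∈ Om, zz U * zz U' ≠ zz N := fun N hN hc => h.not_zz_mul hP hN hc.symm
  rcases hp with hp | hp <;> rcases hp' with hp' | hp'
  · obtain ⟨N, hN, hN'⟩ := t.mul W U U' hp hp' hP.1 c3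
    exact key N hN.right hN'
  · obtain ⟨N, hN, hN'⟩ := t.tw W W' U U' hPW hp hp' n2 n1' d2 d1' c3
    exact key N hN hN'
  · obtain ⟨N, hN, hN'⟩ := t.tw W' W U U' hPW.symm hp hp' n1 n2' d1 d2' c3
    exact key N hN hN'
  · obtain ⟨N, hN, hN'⟩ := t.mul W' U U' hp hp' hP.1 c3
    exact key N hN.right hN'

theorem mul_aux (t : Tw Om) {U U' : Subgroup G} (hP : Pt Om U U') {z : G} (hz : z ∈ ZZ Om)
    (c1 : z * zz U = zz U * z) (c2 : z * zz U' = zz U' * z) (hne : z ≠ zz U * zz U') :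
    (∃ N ∈ Om, z * (zz U * zz U') = zz N) ∨ zz U * z ∈ ZZ Om := by
  have h := t.two
  obtain ⟨Q, hQ, hn⟩ := h.exists_syl_norm hP.left (h.ZZ_mul_self hz) c1
  rcases h.ZZ_or hP.left hQ hz hn with ⟨M, hM, hzM⟩ | ⟨b, hb, hbz⟩
  swap
  · right
    rw [← hbz]
    exact h.ZZ_cj hz b
  left
  have c4 := hM.comm h.hyp
  have c3 := hP.comm h.hyp
  have e1 : zz M = zz U * z := by rw [hzM, ← mul_assoc, h.hyp.zz_mul hP.left, one_mul]
  have c5 : zz M * zz U' = zz U' * zz M := by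
    rw [e1]
    calc zz U * z * zz U' = zz U * (z * zz U') := by group
      _ = (zz U * zz U') * z := by rw [c2]; group
      _ = (zz U' * zz U) * z := by rw [c3]
      _ = _ := by group
  have hMU : M ≠ U' := by
    rintro rfl
    exact hne hzM
  obtain ⟨N, hN, hN'⟩ := t.mul U M U' hM hP hMU c5
  refine ⟨N, hN.right, ?_⟩
  rw [← hN', hzM]
  calc zz U * zz M * (zz U * zz U') = (zz U * zz M) * zz U * zz U' := by group
    _ = (zz M * zz U) * zz U * zz U' := by rw [c4]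
    _ = zz M * (zz U * zz U) * zz U' := by group
    _ = zz M * zz U' := by rw [h.hyp.zz_mul hP.left, mul_one]

/-- `z ∈ ZZ` fixing the two members of a decomposition of `y ∈ ZZ` -/
theorem mul_of_fix (t : Tw Om) {U U' : Subgroup G} (hP : Pt Om U U') {z : G} (hz : z ∈ ZZ Om)
    (c1 : z * zz U = zz U * z) (c2 : z * zz U' = zz U' * z) (hne : z ≠ zz U * zz U') :
    ∃ N ∈ Om, z * (zz U * zz U') = zz N := by
  have h := t.two
  rcases t.mul_aux hP hz c1 c2 hne with h1 | h1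
  · exact h1
  have c3 := hP.comm h.hyp
  rcases t.mul_aux hP.symm hz c2 c1 (by rwa [← c3]) with h2 | h2
  · rwa [← c3] at h2
  · exact absurd (t.not_both hP hz c1 c2 h1 h2) id

/-- **(Z)** distinct commuting elements of `ZZ` have their product in `D` -/
theorem ZZ_mul (t : Tw Om) {y z : G} (hy : y ∈ ZZ Om) (hz : z ∈ ZZ Om) (hc : y * z = z * y) (hne : y ≠ z) :
    ∃ N ∈ Om, y * z = zz N := by
  have h := t.two
  haveI : Fact (Nat.Prime 2) := ⟨Nat.prime_two⟩
  have hyy := h.ZZ_mul_self hy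
  have hyi : y⁻¹ = y := inv_eq_of_mul_eq_one_right hyy
  obtain ⟨S, U, V, hyS, hU, hV, hUV, hzUV⟩ := h.sylow_of_comm hz
    (Two.isPGroup_zpowers_of_sq hyy) (by
      rintro a ⟨k, rfl⟩
      exact ((show Commute y z from hc).zpow_left k).eq)
  have hP : Pt Om U V := ⟨hUV, S, S.isPGroup', hU, hV⟩
  have hy' : y ∈ (S : Subgroup G) := hyS (mem_zpowers y)
  rcases h.cj_or S.isPGroup' hU hV hUV (le_normalizer hy') with ⟨h1, h2⟩ | ⟨h1, h2⟩
  · have := t.mul_of_fix hP hy ((h.cj_eq_iff hU.1).1 h1) ((h.cj_eq_iff hV.1).1 h2) (by rwa [← hzUV])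
    rwa [← hzUV] at this
  -- `y` swaps `U`, `V`
  obtain ⟨q, hq, hq4⟩ := h.hyp.exists_four S.isPGroup' hU
  have hqz : q * q = zz U := h.hyp.sq_eq_zz hU.1 hq.1 hq4
  have hqV : y * q * y⁻¹ ∈ V ⊓ (S : Subgroup G) := by
    refine ⟨?_, (S : Subgroup G).mul_mem ((S : Subgroup G).mul_mem hy' hq.2) ((S : Subgroup G).inv_mem hy')⟩
    have := conj_mem_cj (g := y) hq.1
    rwa [h1] at this
  have hqq : q * (y * q * y⁻¹) = (y * q * y⁻¹) * q := h.hyp.comm S.isPGroup' hU hV hUV hq hqV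
  have hzV : zz V = y * zz U * y⁻¹ := by rw [← h1, h.hyp.zz_cj hU.1]
  obtain ⟨v, hv⟩ : ∃ v, v = q * (y * q * y⁻¹) := ⟨_, rfl⟩
  have hvw : v * v = z := by
    rw [hv]
    calc q * (y * q * y⁻¹) * (q * (y * q * y⁻¹)) = q * ((y * q * y⁻¹) * q) * (y * q * y⁻¹) := by group
      _ = q * (q * (y * q * y⁻¹)) * (y * q * y⁻¹) := by rw [hqq]
      _ = (q * q) * (y * (q * q) * y⁻¹) := by group
      _ = z := by rw [hqz, ← hzV, hzUV]
  have hvy : v * y = y * v := by
    rw [hv]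
    calc q * (y * q * y⁻¹) * y = (y * q * y⁻¹) * q * y := by rw [hqq]
      _ = y * q * (y⁻¹ * q * y) := by group
      _ = y * q * (y * q * y⁻¹) := by rw [show y⁻¹ * q * y = y * q * y⁻¹ by rw [hyi]]
      _ = y * (q * (y * q * y⁻¹)) := by group
  have hvS : v ∈ (S : Subgroup G) := by rw [hv]; exact (S : Subgroup G).mul_mem hq.2 hqV.2
  obtain ⟨S', K', L', hvS', hK', hL', hKL', hyKL⟩ := h.sylow_of_comm hy (A := zpowers v)
    (S.isPGroup'.to_le (zpowers_le.2 hvS)) (by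
      rintro a ⟨k, rfl⟩
      exact ((show Commute v y from hvy).zpow_left k).eq)
  have hv' : v ∈ (S' : Subgroup G) := hvS' (mem_zpowers v)
  have hP' : Pt Om K' L' := ⟨hKL', S', S'.isPGroup', hK', hL'⟩
  have hwK : cj z K' = K' ∧ cj z L' = L' := by
    rw [← hvw, cj_mul, cj_mul]
    rcases h.cj_or S'.isPGroup' hK' hL' hKL' (le_normalizer hv') with ⟨h3, h4⟩ | ⟨h3, h4⟩
    · rw [h3, h3, h4, h4]; exact ⟨rfl, rfl⟩
    · rw [h3, h4, h3]; exact ⟨rfl, rfl⟩
  have := t.mul_of_fix hP' hz ((h.cj_eq_iff hK'.1).1 hwK.1) ((h.cj_eq_iff hL'.1).1 hwK.2)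
    (by rw [← hyKL]; exact hne.symm)
  rwa [← hyKL, ← hc] at this

/-! ### Connectivity -/

/-- adjacency: commuting involutions `zz K`, `zz L` -/
def Adj (Om : Set (Subgroup G)) (K L : Subgroup G) : Prop := K ∈ Om ∧ L ∈ Om ∧ zz K * zz L = zz L * zz K

/-- the connected components of the commuting graph of `D` -/
def Cn (Om : Set (Subgroup G)) : Subgroup G → Subgroup G → Prop := Relation.EqvGen (Adj Om)

theorem Adj.cn {K L : Subgroup G} (h : Adj Om K L) : Cn Om K L := Relation.EqvGen.rel _ _ h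

theorem Cn.symm {K L : Subgroup G} (h : Cn Om K L) : Cn Om L K := Relation.EqvGen.symm _ _ h

theorem Cn.trans {K L M : Subgroup G} (h : Cn Om K L) (h' : Cn Om L M) : Cn Om K M :=
  Relation.EqvGen.trans _ _ _ h h'

/-- for every `w ∈ ZZ` there is `K` with `zz K`, `w` commuting and `zz K * w ∈ ZZ` -/
theorem exists_one (t : Tw Om) {w : G} (hw : w ∈ ZZ Om) :
    ∃ K ∈ Om, zz K * w = w * zz K ∧ zz K * w ∈ ZZ Om := by
  have h := t.two
  have hn := t.niso
  unfold Iso at hn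
  push Not at hn
  obtain ⟨K, L, M, hL, hM, hc, hne⟩ := hn
  obtain ⟨N, hN, hN'⟩ := t.mul K L M hL hM hne hc
  have c1 := hL.comm h.hyp
  have c2 := hM.comm h.hyp
  have e1 : zz M * (zz K * zz L) = zz K * zz N := by
    rw [← hN']
    calc zz M * (zz K * zz L) = (zz M * zz K) * zz L := by group
      _ = (zz K * zz M) * zz L := by rw [c2]
      _ = zz K * (zz M * zz L) := by group
      _ = _ := by rw [hc]
  have e2 : zz M * (zz K * zz L) = (zz K * zz L) * zz M := by
    rw [e1, ← hN']; group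
  obtain ⟨g, hg⟩ := h.ZZ_conj ⟨K, L, hL, rfl⟩ hw
  refine ⟨cj g M, h.hyp.conj M hM.right g, ?_, ?_⟩
  · rw [h.hyp.zz_cj hM.right, ← hg]
    calc g * zz M * g⁻¹ * (g * (zz K * zz L) * g⁻¹) = g * (zz M * (zz K * zz L)) * g⁻¹ := by group
      _ = g * ((zz K * zz L) * zz M) * g⁻¹ := by rw [e2]
      _ = _ := by group
  · have h3 := h.ZZ_cj ⟨K, N, hN, rfl⟩ g
    rw [h.hyp.zz_cj hM.right, ← hg]
    have h4 : g * zz M * g⁻¹ * (g * (zz K * zz L) * g⁻¹) = g * (zz K * zz N) * g⁻¹ := by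
      rw [← e1]; group
    rw [h4]
    exact h3

theorem exists_two (t : Tw Om) {w : G} (hw : w ∈ ZZ Om) :
    ∃ K ∈ Om, ∃ L ∈ Om, zz K * w = w * zz K ∧ zz K * w = zz L := by
  have h := t.two
  obtain ⟨K, L, hP, rfl⟩ := hw
  have hc := hP.comm h.hyp
  refine ⟨K, hP.left, L, hP.right, ?_, ?_⟩
  · calc zz K * (zz K * zz L) = zz K * (zz L * zz K) := by rw [hc]
      _ = _ := by group
  · rw [← mul_assoc, h.hyp.zz_mul hP.left, one_mul]

theorem comm_zpowers {w f x : G} (hf : f ∈ zpowers x) (hx : x * w = w * x) : f * w = w * f := by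
  obtain ⟨k, rfl⟩ := hf
  exact ((show Commute x w from hx).zpow_left k).eq

theorem cn_one_two (t : Tw Om) {w : G} (hw : w ∈ ZZ Om) {K L L' : Subgroup G} (hK : K ∈ Om) (hL : L ∈ Om)
    (hL' : L' ∈ Om) (cK : zz K * w = w * zz K) (cL : zz L * w = w * zz L) (h1 : zz K * w ∈ ZZ Om)
    (h2 : zz L * w = zz L') : Cn Om K L := by
  have h := t.two
  have cKL : (zz K * zz L) * w = w * (zz K * zz L) := by
    calc (zz K * zz L) * w = zz K * (zz L * w) := by group
      _ = (zz K * w) * zz L := by rw [cL]; group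
      _ = _ := by rw [cK]; group
  rcases dihedral_cases (h.hyp.zz_mul hK) (h.hyp.zz_mul hL) with ⟨g, hg, hgc⟩ | ⟨f, hf1, hff, cfK, cfL, g, hg, hfz, -⟩
  · exfalso
    have cg := comm_zpowers hg cKL
    have h3 : g * zz L' * g⁻¹ = zz K * w := by
      rw [← h2]
      calc g * (zz L * w) * g⁻¹ = (g * zz L * g⁻¹) * (g * w * g⁻¹) := by group
        _ = zz K * w := by rw [hgc, cg, mul_inv_cancel_right]
    rw [← h3, ← h.hyp.zz_cj hL'] at h1
    exact h.disj (h.hyp.conj L' hL' g) h1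
  · have cfw := comm_zpowers hfz cKL
    obtain ⟨P, hP, hPf⟩ : ∃ P ∈ Om, zz P = f * zz K := by
      rcases hg with hg | hg
      · exact ⟨cj g K, h.hyp.conj K hK g, by rw [h.hyp.zz_cj hK, hg]⟩
      · exact ⟨cj g L, h.hyp.conj L hL g, by rw [h.hyp.zz_cj hL, hg]⟩
    have hfw : f ≠ w := by
      rintro rfl
      rw [← cfK, ] at cK
      rw [← cfK, ← hPf] at h1
      exact h.disj hP h1
    have hfI : f ∈ II Om := by
      have h3 : zz P * zz K ∈ II Om := by
        apply h.mul_mem (Or.inl ⟨P, hP, rfl⟩) (Or.inl ⟨K, hK, rfl⟩)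
        · rw [hPf]
          calc f * zz K * zz K = (zz K * f) * zz K := by rw [cfK]
            _ = _ := by group
        · rw [hPf]
          intro h4
          exact hf1 (by simpa using h4)
      rwa [hPf, mul_assoc, h.hyp.zz_mul hK, mul_one] at h3
    rcases hfI with ⟨R, hR, rfl⟩ | hfZ
    · exact (Adj.cn ⟨hK, hR, cfK.symm⟩).trans (Adj.cn ⟨hR, hL, cfL⟩)
    · obtain ⟨R, hR, hfR⟩ := t.ZZ_mul hfZ hw cfw hfw
      refine (Adj.cn ⟨hK, hR, ?_⟩).trans (Adj.cn ⟨hR, hL, ?_⟩)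
      · rw [← hfR]
        calc zz K * (f * w) = (zz K * f) * w := by group
          _ = f * (zz K * w) := by rw [← cfK]; group
          _ = _ := by rw [cK]; group
      · rw [← hfR]
        calc (f * w) * zz L = f * (w * zz L) := by group
          _ = (f * zz L) * w := by rw [← cL]; group
          _ = _ := by rw [cfL]; group

/-- for `w ∈ ZZ` all of `D ∩ C(w)` lies in one component -/
theorem cn_of_comm (t : Tw Om) {w : G} (hw : w ∈ ZZ Om) {K L : Subgroup G} (hK : K ∈ Om) (hL : L ∈ Om)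
    (cK : zz K * w = w * zz K) (cL : zz L * w = w * zz L) : Cn Om K L := by
  have h := t.two
  obtain ⟨A, hA, cA, hAw⟩ := t.exists_one hw
  obtain ⟨B, hB, B', hB', cB, hBw⟩ := t.exists_two hw
  have hAB : Cn Om A B := t.cn_one_two hw hA hB hB' cA cB hAw hBw
  have key : ∀ {X : Subgroup G}, X ∈ Om → zz X * w = w * zz X → Cn Om X A := by
    intro X hX cX
    have h1 : zz X * w ∈ II Om := h.mul_mem (Or.inl ⟨X, hX, rfl⟩) (Or.inr hw) cX
      (fun h2 => h.disj hX (by rw [h2]; exact hw))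
    rcases h1 with ⟨X', hX', hXw⟩ | h1
    · exact (t.cn_one_two hw hA hX hX' cA cX hAw hXw).symm
    · exact (t.cn_one_two hw hX hB hB' cX cB h1 hBw).trans hAB.symm
  exact (key hK cK).trans (key hL cL).symm

/-- any member is connected with the members commuting with `w ∈ ZZ` -/
theorem cn_of_ZZ (t : Tw Om) {w : G} (hw : w ∈ ZZ Om) {K L : Subgroup G} (hK : K ∈ Om) (hL : L ∈ Om)
    (cL : zz L * w = w * zz L) : Cn Om K L := by
  have h := t.two
  rcases dihedral_cases (h.hyp.zz_mul hK) (h.ZZ_mul_self hw) with ⟨g, hg, hgc⟩ | ⟨f, hf1, hff, cfK, cfw, g, hg, hfz, -⟩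
  · exfalso
    apply h.disj hK
    rw [← hgc]
    exact h.ZZ_cj hw g
  · have h1 : f * zz K ∈ II Om := by
      rcases hg with hg | hg
      · rw [← hg]; exact h.II_cj (Or.inl ⟨K, hK, rfl⟩) g
      · rw [← hg]; exact h.II_cj (Or.inr hw) g
    have hfI : f ∈ II Om := by
      have h3 : (f * zz K) * zz K ∈ II Om := by
        apply h.mul_mem h1 (Or.inl ⟨K, hK, rfl⟩)
        · calc f * zz K * zz K = (zz K * f) * zz K := by rw [cfK]
            _ = _ := by group
        · intro h4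
          exact hf1 (by simpa using h4)
      rwa [mul_assoc, h.hyp.zz_mul hK, mul_one] at h3
    rcases hfI with ⟨R, hR, rfl⟩ | hfZ
    · exact (Adj.cn ⟨hK, hR, cfK.symm⟩).trans (t.cn_of_comm hw hR hL cfw cL)
    · by_cases hfw : f = w
      · subst hfw
        exact t.cn_of_comm hw hK hL cfK.symm cL
      · obtain ⟨R, hR, hfR⟩ := t.ZZ_mul hfZ hw cfw hfw
        have cR : zz R * w = w * zz R := by
          rw [← hfR]
          calc f * w * w = (w * f) * w := by rw [cfw]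
            _ = _ := by group
        have cR' : zz R * f = f * zz R := by
          rw [← hfR]
          calc f * w * f = f * (w * f) := by group
            _ = _ := by rw [cfw]
        exact (t.cn_of_comm hfZ hK hR cfK.symm cR').trans (t.cn_of_comm hw hR hL cR cL)

/-- **CONNECTIVITY** of the commuting graph of `D` -/
theorem conn (t : Tw Om) {K L : Subgroup G} (hK : K ∈ Om) (hL : L ∈ Om) : Cn Om K L := by
  have h := t.two
  obtain ⟨S⟩ : Nonempty (Sylow 2 G) := inferInstance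
  obtain ⟨A, B, hAB, hS⟩ := Set.ncard_eq_two.1 (h.two S)
  have hA : A ∈ OmS Om (S : Subgroup G) := by rw [hS]; simp
  have hB : B ∈ OmS Om (S : Subgroup G) := by rw [hS]; simp
  have hP : Pt Om A B := ⟨hAB, S, S.isPGroup', hA, hB⟩
  have hw : zz A * zz B ∈ ZZ Om := ⟨A, B, hP, rfl⟩
  have cA : zz A * (zz A * zz B) = (zz A * zz B) * zz A := by
    have hc := hP.comm h.hyp
    calc zz A * (zz A * zz B) = zz A * (zz B * zz A) := by rw [hc]
      _ = _ := by group
  exact (t.cn_of_ZZ hw hK hA.1 cA).trans (t.cn_of_ZZ hw hL hA.1 cA).symm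

/-- **CLOSING**: a subgroup containing the centralisers of its members of `D` and meeting `D` contains `D` -/
theorem mem_of_closed (t : Tw Om) {M : Subgroup G} (hM : ∀ K ∈ Om, zz K ∈ M → centralizer {zz K} ≤ M)
    {K : Subgroup G} (hK : K ∈ Om) (hKM : zz K ∈ M) {L : Subgroup G} (hL : L ∈ Om) : zz L ∈ M := by
  have h : Cn Om K L := t.conn hK hL
  have key : ∀ {A B : Subgroup G}, Cn Om A B → (zz A ∈ M ↔ zz B ∈ M) := by
    intro A B hAB
    induction hAB with
    | rel x y hxy =>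
      obtain ⟨hx, hy, hc⟩ := hxy
      constructor
      · intro h1
        exact hM x hx h1 (mem_centralizer_singleton_iff.2 hc.symm)
      · intro h1
        exact hM y hy h1 (mem_centralizer_singleton_iff.2 hc)
    | refl x => exact Iff.rfl
    | symm x y _ ih => exact ih.symm
    | trans x y z _ _ ih1 ih2 => exact ih1.trans ih2
  exact (key h).1 hKM

/-- in a simple group `M = G` -/
theorem eq_top_of_closed (t : Tw Om) [IsSimpleGroup G] {M : Subgroup G}
    (hM : ∀ K ∈ Om, zz K ∈ M → centralizer {zz K} ≤ M) {K : Subgroup G} (hK : K ∈ Om) (hKM : zz K ∈ M) :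
    M = ⊤ := by
  have h := t.two
  have h1 : Subgroup.normalClosure {zz K} ≤ M := by
    rw [normalClosure, closure_le]
    intro x hx
    rw [Group.conjugatesOfSet, Set.mem_iUnion₂] at hx
    obtain ⟨y, hy, hx⟩ := hx
    rw [Set.mem_singleton_iff.1 hy] at hx
    obtain ⟨g, rfl⟩ := isConj_iff.1 hx
    rw [← h.hyp.zz_cj hK]
    exact t.mem_of_closed hM hK hKM (h.hyp.conj K hK g)
  rcases (inferInstance : (normalClosure {zz K}).Normal).eq_bot_or_eq_top with h2 | h2
  · exfalso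
    apply h.hyp.zz_ne hK
    have : zz K ∈ normalClosure {zz K} := subset_normalClosure (Set.mem_singleton _)
    rw [h2] at this
    exact mem_bot.1 this
  · rw [h2] at h1
    exact top_le_iff.1 h1

end Tw

end Cfsg.Agent.Cit
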