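import Cfsg.Agent.Cit.TwoBG
import Cfsg.Agent.Cit.TwoTor
import Cfsg.Agent.Cit.CoresCore

/-!
# Branch (B), cores: `D(A) = 1` for `A = ⟨z, t, s⟩`

`M = N(D(A))` contains `C(B)` for the four-subgroups `B` of `A`, `N(A)` and `O(C(a))`, `a ∈ A`; so `K`, `K' ≤ M`,
`C(z) = K K' C(⟨z, t⟩) ≤ M`, `C(s) = C(z)^g ≤ M`, and `M = G` by THEOREM BG.
-/

set_option autoImplicit false
set_option linter.style.haveILetI false
set_option linter.unusedSectionVars false

namespace Cfsg.Agent.Cit.TwoDA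

open Subgroup Cfsg OneBasic SubCent UseT TwoWT EqCfg
open scoped commutatorElement

universe u

variable {G : Type u} [Group G] [Finite G] {Om : Set (Subgroup G)} {K K' J Q Q' QJ : Subgroup G} {x y b c : G}

theorem mem_of_comm {A : Subgroup G} (tor : TorFunctor.Tor A) {a b : G} (ha : a ∈ A) (hb : b ∈ A) (ha1 : a ≠ 1)
    (hb1 : b ≠ 1) (hab : a ≠ b) {g : G} (h1 : g * a = a * g) (h2 : g * b = b * g) :
    g ∈ normalizer (TorFunctor.DF A : Set G) := by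
  have hs := tor.mul_self ha
  have ht := tor.mul_self hb
  have hst := tor.comm a ha b hb
  have hle : TorFunctor.kl a b hs ht hst ≤ A := by
    rintro x (rfl | rfl | rfl | rfl)
    exacts [A.one_mem, ha, hb, A.mul_mem ha hb]
  refine tor.centralizer_le hle (TorFunctor.card_kl hs ht hst ha1 hb1 hab).ge ?_
  rw [mem_centralizer_iff]
  have c1 : Commute g a := h1
  have c2 : Commute g b := h2
  rintro x (rfl | rfl | rfl | rfl)
  · rw [one_mul, mul_one]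
  · exact c1.eq.symm
  · exact c2.eq.symm
  · exact (c1.mul_right c2).eq.symm

theorem le_normalizer (h : TwoE Om) (hty : ∀ K ∈ Om, IsType K) (w : WD Om K K' J Q Q' QJ x y b c)
    (tor : TorFunctor.Tor (AA (zz K) (x * y) (zz J))) (hv1 : zz J * (x * y) ≠ 1) (hzv : zz K ≠ zz J * (x * y))
    {L : Subgroup G} (hL : L ∈ Om) (hz : zz L = zz K) :
    L ≤ normalizer (TorFunctor.DF (AA (zz K) (x * y) (zz J)) : Set G) := by
  refine (mem_cov_iff.1 (cov_v h hty w hL (Or.inl hz))).2.trans (sup_le ?_ ?_)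
  · rintro g ⟨hgL, hgv⟩
    have h1 := h.hyp.le_centralizer hL hgL
    rw [hz] at h1
    exact mem_of_comm tor (z_mem _ _ _) (mul_mem (s_mem _ _ _) (t_mem _ _ _)) (h.hyp.zz_ne w.tt.hK) hv1 hzv
      (mem_centralizer_singleton_iff.1 h1) (mem_centralizer_singleton_iff.1 hgv)
  · refine (CoresCore.OO_le_XX h.hyp hL).trans ?_
    rw [hz]
    exact tor.XX_le_normalizer_DF (z_mem _ _ _) (h.hyp.zz_ne w.tt.hK)

/-- `C(z) ≤ N(D(A))` -/
theorem cent_z (h : TwoE Om) (hty : ∀ K ∈ Om, IsType K) (w : WD Om K K' J Q Q' QJ x y b c)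
    (tor : TorFunctor.Tor (AA (zz K) (x * y) (zz J))) (hv1 : zz J * (x * y) ≠ 1) (hzv : zz K ≠ zz J * (x * y))
    (ht1 : x * y ≠ 1) (hzt : zz K ≠ x * y) :
    centralizer {zz K} ≤ normalizer (TorFunctor.DF (AA (zz K) (x * y) (zz J)) : Set G) := by
  refine h.centralizer_le_of (fun K hK => (hty K hK).tyTwo) w.tt (le_normalizer h hty w tor hv1 hzv w.tt.hK rfl)
    (le_normalizer h hty w tor hv1 hzv w.tt.hK' w.tt.hz) ?_
  intro g h1 h2
  exact mem_of_comm tor (z_mem _ _ _) (t_mem _ _ _) (h.hyp.zz_ne w.tt.hK) ht1 hzt h1 h2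

/-- `C(s) ≤ N(D(A))` -/
theorem cent_s (h : TwoE Om) (w : WD Om K K' J Q Q' QJ x y b c)
    (tor : TorFunctor.Tor (AA (zz K) (x * y) (zz J)))
    (hz : centralizer {zz K} ≤ normalizer (TorFunctor.DF (AA (zz K) (x * y) (zz J)) : Set G)) :
    centralizer {zz J} ≤ normalizer (TorFunctor.DF (AA (zz K) (x * y) (zz J)) : Set G) := by
  have hg : c⁻¹ * b ∈ normalizer (TorFunctor.DF (AA (zz K) (x * y) (zz J)) : Set G) :=
    tor.normalizer_le le_rfl ((by norm_num : 4 ≤ 8).trans tor.card) (TwoTor.g_mem h w)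
  have h1 := cj_mono (c⁻¹ * b)⁻¹ hz
  rw [cj_centralizer, mem_normalizer_iff_cj.1 (Subgroup.le_normalizer (inv_mem hg))] at h1
  have e1 : (c⁻¹ * b)⁻¹ * zz K * (c⁻¹ * b)⁻¹⁻¹ = zz J := by
    rw [← w.gs h.hyp]; group
  rwa [e1] at h1

theorem t_ne (h : TwoE Om) (hZ : ∀ K K' x y, TTp Om K K' x y → ∀ M ∈ Om, x * y ≠ zz M)
    (w : WD Om K K' J Q Q' QJ x y b c) : x * y ≠ 1 := by
  intro h1
  apply hZ K K' x y⁻¹ w.tt.inv K w.tt.hK
  rw [w.tt.inv_eq h.hyp, h1, one_mul]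

/-- **`D(A) = 1`** -/
theorem DF_eq_bot [IsSimpleGroup G] (h : TwoE Om) (hty : ∀ K ∈ Om, IsType K)
    (hZ : ∀ K K' x y, TTp Om K K' x y → ∀ M ∈ Om, x * y ≠ zz M)
    (w : WD Om K K' J Q Q' QJ x y b c) (tor : TorFunctor.Tor (AA (zz K) (x * y) (zz J)))
    (bg : ∀ M : Subgroup G, centralizer {zz K} ≤ M → centralizer {zz J} ≤ M → XX (x * y) ≤ M →
      XX (zz J * (x * y)) ≤ M → M = ⊤) : TorFunctor.DF (AA (zz K) (x * y) (zz J)) = ⊥ := by
  have hv1 := w.v_ne h hZ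
  have hzv : zz K ≠ zz J * (x * y) := (w.v_ne_zz h hZ w.tt.hK).symm
  have ht1 := t_ne h hZ w
  have hzt : zz K ≠ x * y := (hZ K K' x y w.tt K w.tt.hK).symm
  have hz := cent_z h hty w tor hv1 hzv ht1 hzt
  have htop := bg _ hz (cent_s h w tor hz) (tor.XX_le_normalizer_DF (t_mem _ _ _) ht1)
    (tor.XX_le_normalizer_DF (mul_mem (s_mem _ _ _) (t_mem _ _ _)) hv1)
  have hn : (TorFunctor.DF (AA (zz K) (x * y) (zz J))).Normal := normalizer_eq_top_iff.1 htop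
  rcases IsSimpleGroup.eq_bot_or_eq_top_of_normal _ hn with h1 | h1
  · exact h1
  · exfalso
    apply tor.odd
    rw [h1, card_top]
    have h2 : orderOf (zz K) = 2 := orderOf_eq_prime (by rw [pow_two, h.hyp.zz_mul w.tt.hK]) (h.hyp.zz_ne w.tt.hK)
    rw [← h2]
    exact orderOf_dvd_natCard _

/-- `⁅O(C(a)), A⁆ = 1` -/
theorem comm [IsSimpleGroup G] (h : TwoE Om) (hty : ∀ K ∈ Om, IsType K)
    (hZ : ∀ K K' x y, TTp Om K K' x y → ∀ M ∈ Om, x * y ≠ zz M)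
    (w : WD Om K K' J Q Q' QJ x y b c) (tor : TorFunctor.Tor (AA (zz K) (x * y) (zz J)))
    (bg : ∀ M : Subgroup G, centralizer {zz K} ≤ M → centralizer {zz J} ≤ M → XX (x * y) ≤ M →
      XX (zz J * (x * y)) ≤ M → M = ⊤) :
    ∀ a ∈ AA (zz K) (x * y) (zz J), a ≠ 1 → ∀ o ∈ XX a, ∀ e ∈ AA (zz K) (x * y) (zz J), o * e = e * o := by
  intro a ha ha1 o ho e he
  have h1 := tor.commutator_XX_le ha ha1
  rw [DF_eq_bot h hty hZ w tor bg] at h1
  have h2 := h1 (commutator_mem_commutator ho he)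
  rw [mem_bot] at h2
  exact commutatorElement_eq_one_iff_mul_comm.1 h2

end Cfsg.Agent.Cit.TwoDA
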