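import Cfsg.Agent.Cit.TwoBG

/-!
# Branch (B), trivial cores: `s` is not central in `C(t) / O(C(t))`

`ncen` : otherwise `C(t) ≤ C(s)`, so `C(z) = K K' C(⟨z, t⟩)` and `C(s)` centralise `v`, and `C(v) = G` by THEOREM BG.
-/

set_option autoImplicit false
set_option linter.style.haveILetI false
set_option linter.unusedSectionVars false

namespace Cfsg.Agent.Cit.TwoBG

open Subgroup Cfsg OneBasic SubCent UseT TwoWT TwoBlk TwoTy

universe u

variable {G : Type u} [Group G] [Finite G] {Om : Set (Subgroup G)} {K K' J Q Q' QJ M : Subgroup G} {x y b c : G}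

/-- members with trivial core covered by `H` are in `H` -/
theorem le_of_cov {H : Subgroup G} (hM : M ∈ cov Om H) (hO : OO M = ⊥) : M ≤ H := by
  have h1 := (mem_cov_iff.1 hM).2
  rw [hO, sup_bot_eq] at h1
  exact h1.trans inf_le_right

theorem centralizer_le_of_cen {u s : G} (hs : s * s = 1) (hc : TwoWT.Cen u s) (ho : ∀ o ∈ XX u, o * s = s * o) :
    ∀ g, g * u = u * g → g * s = s * g := by
  intro g hg
  have h1 := hc g hg
  obtain ⟨o, hoe⟩ : ∃ o, o = g * s * g⁻¹ * s⁻¹ := ⟨_, rfl⟩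
  rw [← hoe] at h1
  have h2 : o * s = s * o := ho o h1
  have hsi : s⁻¹ = s := inv_eq_of_mul_eq_one_right hs
  have h3 : o * o = 1 := by
    have h4 : g * s * g⁻¹ = o * s := by rw [hoe]; group
    have h5 : (g * s * g⁻¹) * (g * s * g⁻¹) = 1 := by
      calc (g * s * g⁻¹) * (g * s * g⁻¹) = g * (s * s) * g⁻¹ := by group
        _ = 1 := by rw [hs]; group
    rw [h4] at h5
    calc o * o = o * o * (s * s) := by rw [hs, mul_one]
      _ = o * (o * s) * s := by group
      _ = o * (s * o) * s := by rw [h2]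
      _ = (o * s) * (o * s) := by group
      _ = 1 := h5
  have h6 : o = 1 := eq_one_of_odd (odd_OO _) h1 (a := 1) (by rw [pow_one, pow_two, h3])
  rw [h6, eq_comm, mul_inv_eq_one, mul_inv_eq_iff_eq_mul] at hoe
  exact hoe

/-- **(B') does not occur** -/
theorem ncen (h : TwoE Om) (hty : ∀ K ∈ Om, IsType K) (w : WD Om K K' J Q Q' QJ x y b c)
    (hO : ∀ K ∈ Om, OO K = ⊥) (hs : ∀ o ∈ XX (x * y), o * zz J = zz J * o)
    (bg : ∀ M : Subgroup G, centralizer {zz K} ≤ M → centralizer {zz J} ≤ M → XX (x * y) ≤ M →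
      XX (zz J * (x * y)) ≤ M → M = ⊤) (hZ : center G = ⊥) (hv1 : zz J * (x * y) ≠ 1) :
    ¬ TwoWT.Cen (x * y) (zz J) := by
  intro hc
  have hts := centralizer_le_of_cen (h.hyp.zz_mul w.hJ) hc hs
  have ty2 : ∀ K ∈ Om, TyTwo K := fun K hK => (hty K hK).tyTwo
  have hKv : K ≤ centralizer {zz J * (x * y)} := le_of_cov (cov_v h hty w w.tt.hK (Or.inl rfl)) (hO K w.tt.hK)
  have hKv' : K' ≤ centralizer {zz J * (x * y)} :=
    le_of_cov (cov_v h hty w w.tt.hK' (Or.inl w.tt.hz)) (hO K' w.tt.hK')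
  have hz : centralizer {zz K} ≤ centralizer {zz J * (x * y)} := by
    refine h.centralizer_le_of ty2 w.tt hKv hKv' ?_
    intro g _ hgt
    have h1 : Commute g (zz J) := hts g hgt
    have h2 : Commute g (x * y) := hgt
    exact mem_centralizer_singleton_iff.2 (h1.mul_right h2).eq
  have hsv : centralizer {zz J} ≤ centralizer {zz J * (x * y)} := by
    have h1 := cj_mono (c⁻¹ * b)⁻¹ hz
    rw [cj_centralizer, cj_centralizer] at h1
    have e1 : (c⁻¹ * b)⁻¹ * zz K * (c⁻¹ * b)⁻¹⁻¹ = zz J := by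
      rw [← w.gs h.hyp]; group
    have e2 : (c⁻¹ * b)⁻¹ * (zz J * (x * y)) * (c⁻¹ * b)⁻¹⁻¹ = zz J * (x * y) := by
      conv_lhs => rw [← w.gv]
      group
    rwa [e1, e2] at h1
  have htop := bg _ hz hsv (fun o ho => ?_) (XX_le _)
  · have h2 : zz J * (x * y) ∈ center G := by
      rw [mem_center_iff]
      intro g
      have h3 : g ∈ centralizer ({zz J * (x * y)} : Set G) := by rw [htop]; trivial
      exact mem_centralizer_singleton_iff.1 h3
    rw [hZ, mem_bot] at h2
    exact hv1 h2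
  · have h1 : Commute o (zz J) := hs o ho
    have h2 : Commute o (x * y) := CoreTools.comm_of_mem_XX ho
    exact mem_centralizer_singleton_iff.2 (h1.mul_right h2).eq

end Cfsg.Agent.Cit.TwoBG
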