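import Cfsg.Agent.Cit.TwoBig
import Cfsg.Agent.Cit.CoreTools

/-!
# `|Om(S)| = 2`, equal involutions, trivial cores: `O(C(z))` and the members over `z`

* `TwoE.XX_comm` : `K` commutes with `O(C(zz K))` if `O(K) = 1`;
* `TwoE.centralizer_le_normalizer_of` : a subgroup `Θ ≤ O(C(zz K))` normalised by `C(⟨zz K, x y⟩)` is normalised by
  `C(zz K)`.
* `TwoE.centralizer_le_of` : the same for a subgroup `M` containing `K`, `K'`.
-/

set_option autoImplicit false
set_option linter.style.haveILetI false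
set_option linter.unusedSectionVars false

namespace Cfsg.Agent.Cit

open Subgroup Cfsg OneBasic

variable {G : Type*} [Group G]

namespace TwoE

variable [Finite G] {Om : Set (Subgroup G)} {K K' L L' : Subgroup G} {x y x' y' : G}

/-- an element of `C(zz K)` which is a power of its square normalises `K` -/
theorem cj_eq_of_sq (h : TwoE Om) (p : TTp Om K K' x y) {u : G} (hu : u * zz K = zz K * u)
    (hsq : u ∈ zpowers (u * u)) : cj u K = K ∧ cj u K' = K' := by
  rcases h.cj_or p.hK p.hK' p.ne p.hz hu with h1 | ⟨h1, h2⟩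
  · exact h1
  · exfalso
    apply p.ne
    have h3 : cj (u * u) K = K := by rw [cj_mul, h1, h2]
    have h4 : u * u ∈ normalizer (K : Set G) := mem_normalizer_iff_cj.2 h3
    have h5 : u ∈ normalizer (K : Set G) := (zpowers_le.2 h4) hsq
    rw [mem_normalizer_iff_cj, h1] at h5
    exact h5.symm

/-- `K` centralises `O(C(zz K))` -/
theorem XX_comm (h : TwoE Om) (hc : OO K = ⊥) (p : TTp Om K K' x y) {u k : G} (hu : u ∈ XX (zz K)) (hk : k ∈ K) :
    k * u = u * k := by
  have huz : u * zz K = zz K * u := CoreTools.comm_of_mem_XX hu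
  have hKz : K ≤ centralizer {zz K} := h.hyp.le_centralizer p.hK
  obtain ⟨h1, -⟩ := h.cj_eq_of_sq p huz (CoreTools.mem_zpowers_sq hu)
  have h2 : k * u * k⁻¹ * u⁻¹ ∈ XX (zz K) := (XX _).mul_mem
    (CoreTools.conj_mem_XX (mem_centralizer_singleton_iff.1 (hKz hk)) hu) ((XX _).inv_mem hu)
  have h3 : k * u * k⁻¹ * u⁻¹ ∈ K := by
    have h4 : u * k⁻¹ * u⁻¹ ∈ K := (mem_normalizer_iff.1 (mem_normalizer_iff_cj.2 h1) _).1 (K.inv_mem hk)
    have h5 : k * u * k⁻¹ * u⁻¹ = k * (u * k⁻¹ * u⁻¹) := by group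
    rw [h5]
    exact K.mul_mem hk h4
  have h4 : K ⊓ XX (zz K) ≤ OO K := by
    refine le_OO inf_le_left ?_ ?_
    · intro g hg
      have e1 := mem_normalizer_iff_cj.1 (centralizer_le_normalizer_XX (zz K) (hKz hg))
      rw [mem_normalizer_iff_cj, cj_inf, e1, mem_normalizer_iff_cj.1 (le_normalizer hg)]
    · intro h2
      exact odd_XX (zz K) (h2.trans (card_dvd_of_le inf_le_right))
  have h5 := h4 ⟨h3, h2⟩
  rw [hc, mem_bot, mul_inv_eq_one, mul_inv_eq_iff_eq_mul] at h5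
  exact h5

/-- `C(zz K) = ⟨K, K'⟩ C(⟨zz K, x y⟩)` -/
theorem exists_mul (h : TwoE Om) (ty : ∀ K ∈ Om, TyTwo K) (p : TTp Om K K' x y) {g : G}
    (hg : g * zz K = zz K * g) : ∃ k ∈ K ⊔ K', (k * g) * zz K = zz K * (k * g) ∧ (k * g) * (x * y) = (x * y) * (k * g) := by
  have fin : ∀ k ∈ K ⊔ K', (k * g) * zz K = zz K * (k * g) := by
    intro k hk
    have h1 := mem_centralizer_singleton_iff.1 (h.sup_le_centralizer p hk)
    rw [mul_assoc, hg, ← mul_assoc, h1, mul_assoc]
  have q := p.cj h.hyp g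
  rcases h.cj_or p.hK p.hK' p.ne p.hz hg with ⟨h1, h2⟩ | ⟨h1, h2⟩
  · rw [h1, h2] at q
    obtain ⟨k, hk, hkx, hky⟩ := h.conj_pair ty q p
    refine ⟨k, hk, fin k hk, ?_⟩
    have e : (k * g) * (x * y) * (k * g)⁻¹ = x * y := by
      calc (k * g) * (x * y) * (k * g)⁻¹ = (k * (g * x * g⁻¹) * k⁻¹) * (k * (g * y * g⁻¹) * k⁻¹) := by group
        _ = x * y := by rw [hkx, hky]
    exact mul_inv_eq_iff_eq_mul.1 e
  · rw [h1, h2] at q
    obtain ⟨k, hk, hkx, hky⟩ := h.conj_pair ty q p.symm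
    rw [sup_comm] at hk
    refine ⟨k, hk, fin k hk, ?_⟩
    have e : (k * g) * (x * y) * (k * g)⁻¹ = x * y := by
      calc (k * g) * (x * y) * (k * g)⁻¹ = (k * (g * x * g⁻¹) * k⁻¹) * (k * (g * y * g⁻¹) * k⁻¹) := by group
        _ = y * x := by rw [hkx, hky]
        _ = x * y := (p.comm h.hyp).symm
    exact mul_inv_eq_iff_eq_mul.1 e

/-- a subgroup containing `K`, `K'`, `C(⟨zz K, x y⟩)` contains `C(zz K)` -/
theorem centralizer_le_of (h : TwoE Om) (ty : ∀ K ∈ Om, TyTwo K) (p : TTp Om K K' x y) {M : Subgroup G}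
    (hK : K ≤ M) (hK' : K' ≤ M) (hM : ∀ g, g * zz K = zz K * g → g * (x * y) = (x * y) * g → g ∈ M) :
    centralizer {zz K} ≤ M := by
  intro g hg
  obtain ⟨k, hk, h1, h2⟩ := h.exists_mul ty p (mem_centralizer_singleton_iff.1 hg)
  have h3 := hM _ h1 h2
  have h4 : g = k⁻¹ * (k * g) := by group
  rw [h4]
  exact M.mul_mem (M.inv_mem ((sup_le hK hK') hk)) h3

/-- a subgroup of `O(C(zz K))` normalised by `C(⟨zz K, x y⟩)` is normalised by `C(zz K)` -/
theorem centralizer_le_normalizer_of (h : TwoE Om) (ty : ∀ K ∈ Om, TyTwo K) (hc : ∀ K ∈ Om, OO K = ⊥)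
    (p : TTp Om K K' x y) {T : Subgroup G} (hT : T ≤ XX (zz K))
    (hM : ∀ g, g * zz K = zz K * g → g * (x * y) = (x * y) * g → g ∈ normalizer (T : Set G)) :
    centralizer {zz K} ≤ normalizer (T : Set G) := by
  refine h.centralizer_le_of ty p ?_ ?_ hM
  · refine le_trans ?_ (centralizer_le_normalizer (T : Set G))
    intro k hk
    rw [mem_centralizer_iff]
    exact fun u hu => (h.XX_comm (hc K p.hK) p (hT hu) hk).symm
  · refine le_trans ?_ (centralizer_le_normalizer (T : Set G))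
    intro k hk
    rw [mem_centralizer_iff]
    exact fun u hu => (h.XX_comm (hc K' p.hK') p.symm (by rw [p.hz]; exact hT hu) hk).symm

end TwoE

end Cfsg.Agent.Cit
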