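import Cfsg.Agent.Cit.TwoBlk
import Cfsg.Agent.Cit.TwoThe
import Cfsg.Agent.Cit.EqInner

/-!
# Generation of quasisimple blocks

`Blk F D K K'` (bb R18, `TwoBlk.lean`), `x ∈ K`, `y ∈ K'` of order four.

* `Blk.le_of_tt` : if `x y = zz J` modulo `Z(D)`, a subgroup containing `C_D(zz K)` and `C_D(zz J)` contains `D`;
* `Blk.le_of_noperp` : if `x y` centralises no Sylow 2-subgroup of a member in `D`, a subgroup containing `C_D(zz K)`,
  `C_D(x y)` contains `D`;
* `comm_of_normal` : a subgroup of `O(C(a))` normalised by the component `D` centralises `D`.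
-/

set_option autoImplicit false
set_option linter.style.haveILetI false
set_option linter.unusedSectionVars false

namespace Cfsg.Agent.Cit.TwoBlk

open Subgroup Cfsg OneBasic UseT SubCent
open Cfsg.Agent.SignalizersComponents.Components Cfsg.Agent.Cit.Comp
open Cfsg.Agent.Cit.TypeDet (cm)

namespace Blk

variable {X : Type*} [Group X] [Finite X] {F : Set (Subgroup X)} {D K K' J M : Subgroup X} {x y : X}

theorem zz_sub (b : Blk F D K K') (hJ : J ∈ F) (hJD : J ≤ D) : ((zz (J.subgroupOf D) : D) : X) = zz J := by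
  rw [zz_map b.le.hyp (sub_mem hJ hJD), map_subgroupOf_eq_of_le hJD]

/-- a pair in `D` -/
theorem ttp (b : Blk F D K K') (p : TTp F K K' x y) : TTp (restr F D) (K.subgroupOf D) (K'.subgroupOf D)
    ⟨x, b.KD p.hx⟩ ⟨y, b.KD' p.hy⟩ := by
  obtain ⟨R, hR, hxR, hyR⟩ := p.two
  refine ⟨sub_mem p.hK b.KD, sub_mem p.hK' b.KD', b.sub_ne, ?_, mem_subgroupOf.2 p.hx, mem_subgroupOf.2 p.hy, ?_, ?_,
    R.subgroupOf D, hR.comap_subtype, mem_subgroupOf.2 hxR, mem_subgroupOf.2 hyR⟩
  · apply Subtype.ext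
    rw [b.zz_sub p.hK b.KD, b.zz_sub p.hK' b.KD', p.hz]
  · rw [← orderOf_coe]; exact p.ox
  · rw [← orderOf_coe]; exact p.oy

theorem centralizer_le (_b : Blk F D K K') {a : D} (h : D ⊓ centralizer {(a : X)} ≤ M) :
    centralizer {a} ≤ M.subgroupOf D := by
  intro g hg
  rw [mem_subgroupOf]
  refine h ⟨g.2, mem_centralizer_singleton_iff.2 ?_⟩
  exact congrArg Subtype.val (mem_centralizer_singleton_iff.1 hg)

/-- **generation of `D`, case `x y = zz J` modulo `Z(D)`** -/
theorem le_of_tt (b : Blk F D K K') (hB : CloEnd.Bend (D ⧸ center D)) (hC : CloEnd.Crit1175 (D ⧸ center D))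
    (p : TTp F K K' x y) (hJ : J ∈ F) (hJD : J ≤ D)
    (hxy : ∀ d ∈ D, d * ((x * y)⁻¹ * zz J) = ((x * y)⁻¹ * zz J) * d)
    (hz : D ⊓ centralizer {zz K} ≤ M) (hzJ : D ⊓ centralizer {zz J} ≤ M) : D ≤ M := by
  have c := b.cenC
  haveI : Finite (D ⧸ center D) := Finite.of_surjective _ c.surj
  have hI : EqClose.Inner (img (pi D) (restr F D)) := (c.twoE.eqZ c.ne_img c.ty_img).inner
  have h1 := c.eq_top_of_tt hI hB hC (b.ttp p) (J := J.subgroupOf D) (sub_mem hJ hJD) (M := M.subgroupOf D) ?_ ?_ ?_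
  · exact subgroupOf_eq_top.1 h1
  · rw [← inv_mul_eq_one, ← map_inv, ← map_mul, ← MonoidHom.mem_ker]
    have h2 : (((⟨x, b.KD p.hx⟩ : D) * ⟨y, b.KD' p.hy⟩)⁻¹ * zz (J.subgroupOf D) : D) ∈ center D := by
      rw [mem_center_iff]
      intro d
      apply Subtype.ext
      have h3 := hxy d d.2
      rw [← b.zz_sub hJ hJD] at h3
      exact h3
    rw [pi, QuotientGroup.ker_mk']
    exact h2
  · apply b.centralizer_le
    rw [b.zz_sub b.hK b.KD]
    exact hz
  · apply b.centralizer_le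
    rw [b.zz_sub hJ hJD]
    exact hzJ

/-- **generation of `D`, case no member perpendicular to `x y`** -/
theorem le_of_noperp (b : Blk F D K K') (hB : CloEnd.Bend (D ⧸ center D)) (hC : CloEnd.Crit1175 (D ⧸ center D))
    (p : TTp F K K' x y) (hno : ∀ J ∈ F, J ≤ D → ¬ TwoE.Perp (x * y) J)
    (hz : D ⊓ centralizer {zz K} ≤ M) (ht : D ⊓ centralizer {x * y} ≤ M) : D ≤ M := by
  have c := b.cenC
  haveI : Finite (D ⧸ center D) := Finite.of_surjective _ c.surj
  have h1 := c.eq_top_of_noperp hB hC (b.ttp p) ?_ (M := M.subgroupOf D) ?_ ?_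
  · exact subgroupOf_eq_top.1 h1
  · rintro J hJ ⟨Q, hQ, hc⟩
    refine hno (J.map D.subtype) hJ (map_subtype_le J) ⟨Q.map D.subtype, hQ.map, ?_⟩
    rintro _ ⟨q, hq, rfl⟩
    exact congrArg Subtype.val (hc q hq)
  · apply b.centralizer_le
    rw [b.zz_sub b.hK b.KD]
    exact hz
  · apply b.centralizer_le
    exact ht

/-- the members are `D`-conjugate up to `K ↔ K'` -/
theorem exists_conj (b : Blk F D K K') (hJ : J ∈ F) (hJD : J ≤ D) : ∃ d ∈ D, cj d J = K ∨ cj d J = K' := by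
  haveI : Fact (Nat.Prime 2) := ⟨Nat.prime_two⟩
  have h := b.twoE
  obtain ⟨S, hS, -⟩ := h.hyp.exists_sylow (sub_mem hJ hJD)
  obtain ⟨T, hT, -⟩ := h.hyp.exists_sylow (sub_mem b.hK b.KD)
  have hT' : K'.subgroupOf D ∈ OmS (restr F D) (T : Subgroup D) :=
    h.hyp.mem_OmS_of_zz_eq T hT (sub_mem b.hK' b.KD') (by
      apply Subtype.ext
      rw [b.zz_sub b.hK b.KD, b.zz_sub b.hK' b.KD', b.zz_eq])
  obtain ⟨d, hd⟩ := exists_cj_sylow S T
  have h1 : cj d (J.subgroupOf D) ∈ OmS (restr F D) (T : Subgroup D) := by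
    rw [← hd]; exact cj_mem_OmS h.hyp.conj d hS
  have h2 : (cj d (J.subgroupOf D)).map D.subtype = cj (d : X) J := by
    rw [← cj_subgroupOf, map_subgroupOf_eq_of_le]
    have h3 := cj_mono (d : X) hJD
    rwa [mem_normalizer_iff_cj.1 (le_normalizer d.2)] at h3
  refine ⟨d, d.2, ?_⟩
  rcases h.pair T.isPGroup' hT hT' h1 b.sub_ne with h3 | h3
  · left
    rw [← h2, h3, map_subgroupOf_eq_of_le b.KD]
  · right
    rw [← h2, h3, map_subgroupOf_eq_of_le b.KD']

/-- **Frattini**: if `D` contains all members, `X = D C(zz K)` -/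
theorem exists_mul (b : Blk F D K K') (hall : ∀ J ∈ F, J ≤ D) (g : X) :
    ∃ d ∈ D, (d * g) * zz K = zz K * (d * g) := by
  have h := b.le.hyp
  obtain ⟨d, hd, h1⟩ := b.exists_conj (h.conj K b.hK g) (hall _ (h.conj K b.hK g))
  refine ⟨d, hd, ?_⟩
  have h2 : zz (cj (d * g) K) = zz K := by
    rw [cj_mul]
    rcases h1 with h1 | h1
    · rw [h1]
    · rw [h1, b.zz_eq]
  rw [h.zz_cj b.hK, mul_inv_eq_iff_eq_mul] at h2
  exact h2

end Blk

/-- a subgroup of `O(C(a))` normalised by the component `D` centralises `D` -/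
theorem comm_of_normal {X : Type*} [Group X] [Finite X] (hO : pPrimeCore 2 X = ⊥) (hev : EvQ X)
    {D T : Subgroup X} (hD : IsComponent D) (hZ : IsPGroup 2 (center D)) (h2D : 2 ∣ Nat.card D) {a : X}
    (ha : a * a = 1) (hT : T ≤ XX a) (hn : D ≤ normalizer (T : Set X)) : T ≤ centralizer (D : Set X) := by
  have hTD : T ≤ normalizer (D : Set X) := hT.trans (CoreTools.XX_le_normalizer hO hev ha hD)
  have hodd : ¬ 2 ∣ Nat.card (D ⊓ T : Subgroup X) := by
    intro h2
    exact odd_XX a (h2.trans (card_dvd_of_le (inf_le_right.trans hT)))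
  have h1 : D ⊓ T = ⊥ := by
    have hN : ((D ⊓ T).subgroupOf D).Normal := by
      refine (normal_subgroupOf_iff_le_normalizer inf_le_left).2 ?_
      intro d hd
      rw [mem_normalizer_iff_cj, cj_inf, mem_normalizer_iff_cj.1 (le_normalizer hd), mem_normalizer_iff_cj.1 (hn hd)]
    rcases Cfsg.Agent.SignalizersComponents.LayerBasic.quasisimple_normal hD.2 _ hN with h2 | h2
    · exfalso
      have h3 : D ≤ D ⊓ T := subgroupOf_eq_top.1 h2
      exact hodd (h2D.trans (card_dvd_of_le h3))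
    · have hp : IsPGroup 2 (D ⊓ T : Subgroup X) := by
        have h3 : IsPGroup 2 ((D ⊓ T).subgroupOf D) := hZ.to_le h2
        have h4 := h3.map D.subtype
        rwa [map_subgroupOf_eq_of_le inf_le_left] at h4
      haveI : Fact (Nat.Prime 2) := ⟨Nat.prime_two⟩
      obtain ⟨n, hn'⟩ := IsPGroup.iff_card.1 hp
      have h3 : n = 0 := by
        by_contra h4
        apply hodd
        rw [hn']
        exact dvd_pow_self 2 h4
      rw [h3, pow_zero] at hn'
      exact Subgroup.eq_bot_of_card_eq _ hn'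
  intro t ht
  rw [mem_centralizer_iff]
  intro d hd
  have h2 : d * t * d⁻¹ * t⁻¹ ∈ D ⊓ T := by
    constructor
    · have e : d * t * d⁻¹ * t⁻¹ = d * (t * d⁻¹ * t⁻¹) := by group
      rw [e]
      exact D.mul_mem hd ((mem_normalizer_iff.1 (hTD ht) _).1 (D.inv_mem hd))
    · exact T.mul_mem ((mem_normalizer_iff.1 (hn hd) _).1 ht) (T.inv_mem ht)
  rw [h1, mem_bot, mul_inv_eq_one, mul_inv_eq_iff_eq_mul] at h2
  exact h2

/-- a subgroup of `O(C(a))`, `a ∈ D`, normalised by the component `D` is trivial -/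
theorem eq_bot_of_normal {X : Type*} [Group X] [Finite X] (hO : pPrimeCore 2 X = ⊥) (hev : EvQ X)
    {D T : Subgroup X} (hD : IsComponent D) (hZ : IsPGroup 2 (center D)) {a : X}
    (ha : a * a = 1) (ha1 : a ≠ 1) (haD : a ∈ D) (hT : T ≤ XX a) (hn : D ≤ normalizer (T : Set X)) : T = ⊥ := by
  have h2D : 2 ∣ Nat.card D := by
    have h1 : orderOf a = 2 := orderOf_eq_prime (by rw [pow_two, ha]) ha1
    rw [← h1, ← Nat.card_zpowers]
    exact card_dvd_of_le (by rwa [zpowers_le])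
  rw [eq_bot_iff]
  intro t ht
  rw [mem_bot]
  refine CoreTools.eq_one_of_comp hO ha (hT ht) fun L hL => ?_
  by_cases hLD : L = D
  · rw [hLD]; exact comm_of_normal hO hev hD hZ h2D ha hT hn ht
  · refine CoreTools.XX_le_centralizer_of_cent hev hL ?_ (hT ht)
    intro l hl
    rw [mem_centralizer_singleton_iff]
    exact comm_of_ne hL hD hLD hl haD

/-- `TwoE` from `LeTwo` and a pair -/
theorem LeTwo.twoE {X : Type*} [Group X] [Finite X] {F : Set (Subgroup X)} (le : LeTwo F) {K K' : Subgroup X}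
    {x y : X} (p : TTp F K K' x y) : TwoE F where
  hyp := le.hyp
  two := by
    intro S
    haveI : Fact (Nat.Prime 2) := ⟨Nat.prime_two⟩
    obtain ⟨S₀, hS₀, -⟩ := le.hyp.exists_sylow p.hK
    have hS₀' : K' ∈ OmS F (S₀ : Subgroup X) := le.hyp.mem_OmS_of_zz_eq S₀ hS₀ p.hK' p.hz
    have hset : OmS F (S₀ : Subgroup X) = {K, K'} := by
      ext J
      constructor
      · intro hJ
        exact le.pair S₀.isPGroup' hS₀ hS₀' hJ p.ne
      · rintro (rfl | rfl)
        · exact hS₀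
        · exact hS₀'
    obtain ⟨g, hg⟩ := exists_cj_sylow S₀ S
    rw [← hg, ncard_OmS_cj le.hyp.conj, hset, Set.ncard_pair p.ne]
  eqz := by
    intro S J hJ J' hJ'
    exact le.eqz S.isPGroup' hJ hJ'

end Cfsg.Agent.Cit.TwoBlk
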