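import Cfsg.Agent.Cit.TwoTy.Side
import Cfsg.Agent.Cit.TwoGen
import Cfsg.Agent.Cit.EqTorZ
import Cfsg.Agent.Cit.ThreeSpCore

/-!
# Branch (B), cores: THEOREM F for `A = ⟨z, t, s⟩` at `b = v`

`t = x y`, `z = zz K`, `s = zz J`, `v = s t` as in `WD`.  `VIn` : the situation in `C(v) / O(C(v))`; `VIn.theta_eq_bot` :
`O(C(z)) ∩ O(C(s)) ∩ O(C(z s)) = 1`; `pp_v` : (TOR) and (2B) at `v`.
-/

set_option autoImplicit false
set_option linter.style.haveILetI false
set_option linter.unusedSectionVars false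

namespace Cfsg.Agent.Cit.TwoPP

open Subgroup Cfsg OneBasic SubCent UseT TwoWT TwoBlk TwoTy CoresG Cfsg.Agent.Cit.Comp EqCfg
open Cfsg.Agent.SignalizersComponents.Components
open scoped commutatorElement

universe u

section Abstract

variable {X : Type u} [Group X] [Finite X] {F : Set (Subgroup X)} {D K K' J : Subgroup X}

theorem comm_conj {a b : X} (h : Commute a b) (g : X) : Commute (g * a * g⁻¹) (g * b * g⁻¹) := by
  have h1 : g * a * g⁻¹ * (g * b * g⁻¹) = g * (a * b) * g⁻¹ := by group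
  have h2 : g * b * g⁻¹ * (g * a * g⁻¹) = g * (b * a) * g⁻¹ := by group
  have h3 : a * b = b * a := h
  change g * a * g⁻¹ * (g * b * g⁻¹) = g * b * g⁻¹ * (g * a * g⁻¹)
  rw [h1, h2, h3]

theorem twoE_of_blk (b : Blk F D K K') : TwoE F where
  hyp := b.le.hyp
  two := by
    intro S
    haveI : Fact (Nat.Prime 2) := ⟨Nat.prime_two⟩
    obtain ⟨S₀, hS₀, h1, h2⟩ := b.exists_S
    rw [mem_OmS_restr, map_subgroupOf_eq_of_le b.KD] at h1
    rw [mem_OmS_restr, map_subgroupOf_eq_of_le b.KD'] at h2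
    obtain ⟨S₁, hS₁⟩ := (hS₀.map D.subtype).exists_le_sylow
    have h1' := OmS_mono hS₁ h1
    have h2' := OmS_mono hS₁ h2
    have hset : OmS F (S₁ : Subgroup X) = {K, K'} := by
      ext J
      constructor
      · intro hJ
        rcases b.le.pair S₁.isPGroup' h1' h2' hJ b.ne with h | h
        · exact Or.inl h
        · exact Or.inr h
      · rintro (rfl | rfl)
        · exact h1'
        · exact h2'
    obtain ⟨g, hg⟩ := exists_cj_sylow S₁ S
    rw [← hg, ncard_OmS_cj b.le.hyp.conj, hset, Set.ncard_pair b.ne]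
  eqz := by
    intro S J hJ J' hJ'
    exact b.le.eqz S.isPGroup' hJ hJ'

/-- an odd subgroup normalised by a component `D` and contained in `O(C(a))` centralises `D` -/
theorem le_centralizer_of_norm (hO : pPrimeCore 2 X = ⊥) (hev : EvQ X) (hD : IsComponent D)
    (hZ : IsPGroup 2 (center D)) (h2D : 2 ∣ Nat.card D) {a : X} (ha : a * a = 1) {T : Subgroup X} (hT : T ≤ XX a)
    (hn : D ≤ normalizer (T : Set X)) : T ≤ centralizer (D : Set X) := by
  have hodd : ¬ 2 ∣ Nat.card (D ⊓ T : Subgroup X) := fun h =>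
    odd_XX a (h.trans (card_dvd_of_le (inf_le_right.trans hT)))
  have hTD : T ≤ normalizer (D : Set X) := hT.trans (CoreTools.XX_le_normalizer hO hev ha hD)
  have hbot : D ⊓ T = ⊥ := by
    have hN : ((D ⊓ T).subgroupOf D).Normal := by
      refine (normal_subgroupOf_iff_le_normalizer inf_le_left).2 ?_
      intro g hg
      rw [mem_normalizer_iff_cj, cj_inf, mem_normalizer_iff_cj.1 (le_normalizer hg),
        mem_normalizer_iff_cj.1 (hn hg)]
    rcases SignalizersComponents.LayerBasic.quasisimple_normal hD.2 _ hN with h1 | h1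
    · exfalso
      have h2 : D ≤ D ⊓ T := subgroupOf_eq_top.1 h1
      exact hodd (h2D.trans (card_dvd_of_le h2))
    · have h3 : IsPGroup 2 ((D ⊓ T).subgroupOf D) := hZ.to_le h1
      have h4 : IsPGroup 2 (D ⊓ T : Subgroup X) := by
        have h5 := h3.map D.subtype
        rwa [map_subgroupOf_eq_of_le inf_le_left] at h5
      haveI : Fact (Nat.Prime 2) := ⟨Nat.prime_two⟩
      obtain ⟨n, hn⟩ := IsPGroup.iff_card.1 h4
      have h6 : n = 0 := by
        by_contra h7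
        exact hodd (by rw [hn]; exact dvd_pow_self 2 h7)
      rw [h6, pow_zero] at hn
      exact card_eq_one.1 hn
  intro u hu
  rw [mem_centralizer_iff]
  intro d hd
  have h1 : d * u * d⁻¹ * u⁻¹ ∈ D ⊓ T := by
    refine ⟨?_, T.mul_mem ((mem_normalizer_iff.1 (hn hd) _).1 hu) (T.inv_mem hu)⟩
    have e : d * u * d⁻¹ * u⁻¹ = d * (u * d⁻¹ * u⁻¹) := by group
    rw [e]
    exact D.mul_mem hd ((mem_normalizer_iff.1 (hTD hu) _).1 (D.inv_mem hd))
  rw [hbot, mem_bot, mul_inv_eq_one, mul_inv_eq_iff_eq_mul] at h1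
  exact h1

/-- the data in `C(v) / O(C(v))` -/
structure VIn (F : Set (Subgroup X)) (D K K' J : Subgroup X) (x y v g : X) : Prop where
  blk : Blk F D K K'
  hO : pPrimeCore 2 X = ⊥
  ev : EvQ X
  comp : IsComponent D
  tt : TTp F K K' x y
  hJ : J ∈ F
  JD : J ≤ D
  vc : ∀ a, a * v = v * a
  xy : x * y = zz J * v
  gs : g * zz J * g⁻¹ = zz K
  gz : g * zz K * g⁻¹ = zz J * zz K

namespace VIn

variable {x y v g : X}

theorem sz (h : VIn F D K K' J x y v g) : zz J * zz K = zz K * zz J := by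
  have h1 : Commute (zz K) x := (h.blk.le.hyp.comm_zz h.tt.hK (le_normalizer h.tt.hx)).symm
  have h2 : Commute (zz K) y := by
    have := h.blk.le.hyp.comm_zz h.tt.hK' (le_normalizer h.tt.hy)
    rw [h.tt.hz] at this
    exact this.symm
  have h3 : Commute (zz K) v := h.vc _
  have h4 : zz J = x * y * v⁻¹ := by rw [h.xy]; group
  have h5 : Commute (zz K) (zz J) := by rw [h4]; exact (h1.mul_right h2).mul_right h3.inv_right
  exact h5.symm.eq

theorem zz_sq (h : VIn F D K K' J x y v g) : zz K * zz K = 1 := h.blk.le.hyp.zz_mul h.tt.hK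

theorem ss_sq (h : VIn F D K K' J x y v g) : zz J * zz J = 1 := h.blk.le.hyp.zz_mul h.hJ

/-- `Θ` -/
def Th (s z : X) : Subgroup X := XX z ⊓ XX s ⊓ XX (z * s)

theorem norm_Th {s z a : X} (hz : a * z = z * a) (hs : a * s = s * a) : a ∈ normalizer (Th s z : Set X) := by
  have hzs : a * (z * s) = z * s * a := by rw [← mul_assoc, hz, mul_assoc, hs, ← mul_assoc]
  have key : ∀ {c : X}, a * c = c * a → cj a (XX c) = XX c := fun {c} hc =>
    mem_normalizer_iff_cj.1 (centralizer_le_normalizer_XX c (mem_centralizer_singleton_iff.2 hc))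
  rw [mem_normalizer_iff_cj, Th, cj_inf, cj_inf, key hz, key hs, key hzs]

/-- `O(C(z))` centralises `s` -/
theorem comm_s (h : VIn F D K K' J x y v g) {u : X} (hu : u ∈ XX (zz K)) : u * zz J = zz J * u := by
  have hT := twoE_of_blk h.blk
  have h1 : Commute x u := hT.XX_comm (h.blk.core K h.tt.hK) h.tt hu h.tt.hx
  have h2 : Commute y u := hT.XX_comm (h.blk.core K' h.tt.hK') h.tt.symm (by rw [h.tt.hz]; exact hu) h.tt.hy
  have h3 : Commute u v := h.vc u
  have h4 : zz J = x * y * v⁻¹ := by rw [h.xy]; group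
  rw [h4]
  exact ((h1.symm.mul_right h2.symm).mul_right h3.inv_right).eq

theorem gs' (h : VIn F D K K' J x y v g) : g⁻¹ * zz K * g⁻¹⁻¹ = zz J := by
  rw [← h.gs]; group

theorem gsz (h : VIn F D K K' J x y v g) : g⁻¹ * zz J * g⁻¹⁻¹ = zz J * zz K := by
  have h1 : g * (zz J * zz K) * g⁻¹ = zz J := by
    calc g * (zz J * zz K) * g⁻¹ = (g * zz J * g⁻¹) * (g * zz K * g⁻¹) := by group
      _ = zz K * (zz J * zz K) := by rw [h.gs, h.gz]
      _ = zz J * (zz K * zz K) := by rw [← mul_assoc, ← h.sz, mul_assoc]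
      _ = zz J := by rw [h.zz_sq, mul_one]
  conv_lhs => rw [← h1]
  group

/-- `C(z) ≤ N(Θ)` -/
theorem cz (h : VIn F D K K' J x y v g) : centralizer {zz K} ≤ normalizer (Th (zz J) (zz K) : Set X) := by
  have hT := twoE_of_blk h.blk
  refine hT.centralizer_le_normalizer_of (fun M hM => (h.blk.ty M hM).isType.tyTwo) h.blk.core h.tt
    (inf_le_left.trans inf_le_left) ?_
  intro a ha1 ha2
  refine norm_Th ha1 ?_
  have h1 : Commute a (x * y) := ha2
  have h3 : Commute a v := h.vc a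
  have h4 : zz J = x * y * v⁻¹ := by rw [h.xy]; group
  rw [h4]
  exact (h1.mul_right h3.inv_right).eq

/-- `C(s) ≤ N(Θ)` -/
theorem cs (h : VIn F D K K' J x y v g) : centralizer {zz J} ≤ normalizer (Th (zz J) (zz K) : Set X) := by
  have hT := twoE_of_blk h.blk
  have p := h.tt.cj h.blk.le.hyp g⁻¹
  have hz : zz (cj g⁻¹ K) = zz J := by rw [h.blk.le.hyp.zz_cj h.tt.hK, h.gs']
  have hxy : (g⁻¹ * x * g⁻¹⁻¹) * (g⁻¹ * y * g⁻¹⁻¹) = zz J * zz K * v := by
    calc (g⁻¹ * x * g⁻¹⁻¹) * (g⁻¹ * y * g⁻¹⁻¹) = g⁻¹ * (x * y) * g⁻¹⁻¹ := by group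
      _ = (g⁻¹ * zz J * g⁻¹⁻¹) * (g⁻¹ * v * g⁻¹⁻¹) := by rw [h.xy]; group
      _ = zz J * zz K * v := by
        rw [h.gsz, h.vc g⁻¹]
        group
  have h1 := hT.centralizer_le_normalizer_of (fun M hM => (h.blk.ty M hM).isType.tyTwo) h.blk.core p
    (T := Th (zz J) (zz K)) (by rw [hz]; exact inf_le_left.trans inf_le_right) (by
      rw [hz, hxy]
      intro a ha1 ha2
      refine norm_Th ?_ ha1
      have h1 : Commute a (zz J * zz K * v) := ha2
      have h2 : Commute a (zz J) := ha1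
      have h3 : Commute a v := h.vc a
      have h4 : zz K = (zz J)⁻¹ * (zz J * zz K * v) * v⁻¹ := by group
      rw [h4]
      exact ((h2.inv_right.mul_right h1).mul_right h3.inv_right).eq)
  rwa [hz] at h1

theorem two_dvd (h : VIn F D K K' J x y v g) : 2 ∣ Nat.card D := by
  have h1 := orderOf_dvd_natCard (⟨zz K, h.blk.KD (h.blk.le.hyp.zz_mem h.tt.hK)⟩ : D)
  rwa [Subgroup.orderOf_mk, h.blk.le.hyp.orderOf_zz h.tt.hK] at h1

/-- **`Θ = 1`** -/
theorem theta_eq_bot (h : VIn F D K K' J x y v g) (hD : D ≤ normalizer (Th (zz J) (zz K) : Set X)) :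
    Th (zz J) (zz K) = ⊥ := by
  have hTz : Th (zz J) (zz K) ≤ XX (zz K) := inf_le_left.trans inf_le_left
  have h1 := le_centralizer_of_norm h.hO h.ev h.comp h.blk.cen h.two_dvd h.zz_sq hTz hD
  rw [eq_bot_iff]
  intro u hu
  rw [mem_bot]
  refine CoreTools.eq_one_of_comp h.hO h.zz_sq (hTz hu) fun L hL => ?_
  by_cases hLD : L = D
  · rw [hLD]; exact h1 hu
  · refine CoreTools.XX_le_centralizer_of_cent h.ev hL ?_ (hTz hu)
    intro l hl
    rw [mem_centralizer_singleton_iff]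
    exact comm_of_ne hL h.comp hLD hl (h.blk.KD (h.blk.le.hyp.zz_mem h.tt.hK))

/-- `O(C(s))` centralises `z` -/
theorem comm_z (h : VIn F D K K' J x y v g) {u : X} (hu : u ∈ XX (zz J)) : u * zz K = zz K * u := by
  have h1 : g * u * g⁻¹ ∈ XX (zz K) := by
    rw [← h.gs, ← cj_XX]
    exact conj_mem_cj hu
  have h2 : Commute (g * u * g⁻¹) (zz J) := h.comm_s h1
  have h3 : Commute (g⁻¹ * (g * u * g⁻¹) * g⁻¹⁻¹) (g⁻¹ * zz J * g⁻¹⁻¹) := comm_conj h2 g⁻¹
  have h4 : g⁻¹ * (g * u * g⁻¹) * g⁻¹⁻¹ = u := by group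
  rw [h4, h.gsz] at h3
  have h5 : Commute u (zz J) := CoreTools.comm_of_mem_XX hu
  have h6 : zz K = (zz J)⁻¹ * (zz J * zz K) := by group
  rw [h6]
  exact (h5.inv_right.mul_right h3).eq

/-- `O(C(z s))` centralises `z`, `s` -/
theorem comm_zs (h : VIn F D K K' J x y v g) {u : X} (hu : u ∈ XX (zz K * zz J)) :
    u * zz K = zz K * u ∧ u * zz J = zz J * u := by
  have h0 : g⁻¹ * (zz K * zz J) * g⁻¹⁻¹ = zz K := by
    calc g⁻¹ * (zz K * zz J) * g⁻¹⁻¹ = (g⁻¹ * zz K * g⁻¹⁻¹) * (g⁻¹ * zz J * g⁻¹⁻¹) := by group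
      _ = zz J * (zz J * zz K) := by rw [h.gs', h.gsz]
      _ = zz K := by rw [← mul_assoc, h.ss_sq, one_mul]
  have h1 : g⁻¹ * u * g⁻¹⁻¹ ∈ XX (zz K) := by
    rw [← h0, ← cj_XX]
    exact conj_mem_cj hu
  have h2 : Commute (g⁻¹ * u * g⁻¹⁻¹) (zz J) := h.comm_s h1
  have h3 : Commute (g * (g⁻¹ * u * g⁻¹⁻¹) * g⁻¹) (g * zz J * g⁻¹) := comm_conj h2 g
  have h4 : g * (g⁻¹ * u * g⁻¹⁻¹) * g⁻¹ = u := by group
  rw [h4, h.gs] at h3
  have h5 : Commute u (zz K * zz J) := CoreTools.comm_of_mem_XX hu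
  have h6 : zz J = (zz K)⁻¹ * (zz K * zz J) := by group
  refine ⟨h3.eq, ?_⟩
  rw [h6]
  exact (h3.inv_right.mul_right h5).eq

end VIn

end Abstract

/-! ### `⟨z, t, s⟩` -/

section Grp

variable {G : Type u} [Group G] [Finite G]

theorem card_AA_le {z t s : G} (h : E3 z t s) : Nat.card (AA z t s) ≤ 8 := by
  classical
  have h1 : (AA z t s : Set G) ⊆ (({1, z, t, z * t, s, z * s, t * s, z * t * s} : Finset G) : Set G) := by
    intro a ha
    simp only [Finset.coe_insert, Finset.coe_singleton, Set.mem_insert_iff, Set.mem_singleton_iff]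
    rcases h.cases ha with (h1 | h1 | h1 | h1) | (h1 | h1 | h1 | h1) <;> simp [h1]
  have h2 := Set.ncard_le_ncard h1 (Set.toFinite _)
  rw [Set.ncard_coe_finset] at h2
  refine h2.trans ((Finset.card_insert_le _ _).trans ?_)
  have h3 := Finset.card_insert_le z ({t, z * t, s, z * s, t * s, z * t * s} : Finset G)
  have h4 := Finset.card_le_six (a := t) (b := z * t) (c := s) (d := z * s) (e := t * s) (f := z * t * s)
  omega

theorem relIndex_le_two {B A : Subgroup G} (hB : B ≤ A) (h4 : Nat.card B = 4) (h8 : Nat.card A ≤ 8) :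
    B.relIndex A ≤ 2 := by
  have h1 := (B.subgroupOf A).card_mul_index
  rw [Nat.card_congr (subgroupOfEquivOfLe hB).toEquiv, h4] at h1
  change (B.subgroupOf A).index ≤ 2
  omega

/-- `B ≤ A` of order 4, `v ∉ B`: for `e ∈ A` one of `e`, `e v` is in `B` -/
theorem mem_or_mul_mem {z t s : G} (h : E3 z t s) {B : Subgroup G} (hB : B ≤ AA z t s) (h4 : Nat.card B = 4)
    (hvB : s * t ∉ B ∨ s * t = 1) {e : G} (he : e ∈ AA z t s) : e ∈ B ∨ e * (s * t) ∈ B := by
  have hv : s * t ∈ AA z t s := mul_mem (s_mem _ _ _) (t_mem _ _ _)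
  by_cases heB : e ∈ B
  · exact Or.inl heB
  rcases hvB with hvB | hv1
  · exact Or.inr (mul_mem_of_relIndex (relIndex_le_two hB h4 (card_AA_le h)) he hv heB hvB)
  · -- `s = t`
    exfalso
    have hst : t = s := by
      have h1 : t = s⁻¹ := eq_inv_of_mul_eq_one_right hv1
      rw [h1]
      exact inv_eq_of_mul_eq_one_right h.ss
    subst hst
    have h1 : (AA z t t : Set G) ⊆ {1, z, t, z * t} := by
      intro a ha
      simp only [Set.mem_insert_iff, Set.mem_singleton_iff]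
      rcases h.cases ha with (h1 | h1 | h1 | h1) | (h1 | h1 | h1 | h1)
      · exact Or.inl h1
      · exact Or.inr (Or.inl h1)
      · exact Or.inr (Or.inr (Or.inl h1))
      · exact Or.inr (Or.inr (Or.inr h1))
      · exact Or.inr (Or.inr (Or.inl h1))
      · exact Or.inr (Or.inr (Or.inr h1))
      · rw [h.tt] at h1
        exact Or.inl h1
      · rw [mul_assoc, h.tt, mul_one] at h1
        exact Or.inr (Or.inl h1)
    have h2 := Set.ncard_le_ncard h1 (Set.toFinite _)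
    have h3 : ({1, z, t, z * t} : Set G).ncard ≤ 4 := by
      have k1 := Set.ncard_insert_le (1 : G) {z, t, z * t}
      have k2 := Set.ncard_insert_le z {t, z * t}
      have k3 := Set.ncard_insert_le t {z * t}
      rw [Set.ncard_singleton] at k3
      omega
    have h5 : Nat.card (AA z t t) ≤ 4 := h2.trans h3
    have h6 : B = AA z t t := eq_of_le_of_card_ge hB (by rw [h4]; exact h5)
    exact heB (h6 ▸ he)

end Grp

/-! ### `C(v)` -/

section Main

variable {G : Type u} [Group G] [Finite G] {Om : Set (Subgroup G)} {K K' J Q Q' QJ : Subgroup G} {x y b c : G}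

theorem e3_wd (h : TwoE Om) (w : WD Om K K' J Q Q' QJ x y b c) : E3 (zz K) (x * y) (zz J) where
  zz := h.hyp.zz_mul w.tt.hK
  tt := w.tt.sq h.hyp
  ss := h.hyp.zz_mul w.hJ
  zt := w.zt h.hyp
  zs := (w.sz h.hyp).symm
  ts := w.st.symm

theorem v_mem_AA (_w : WD Om K K' J Q Q' QJ x y b c) : zz J * (x * y) ∈ AA (zz K) (x * y) (zz J) :=
  mul_mem (s_mem _ _ _) (t_mem _ _ _)

theorem z_ne_v (h : TwoE Om) (w : WD Om K K' J Q Q' QJ x y b c) : zz K ≠ zz J * (x * y) := by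
  intro he
  have h1 := w.cv
  rw [← he, w.hc] at h1
  exact h.hyp.zz_ne w.hJ (mul_eq_right.1 h1)

theorem s_ne_v (h : TwoE Om) (w : WD Om K K' J Q Q' QJ x y b c) : zz J ≠ zz J * (x * y) := by
  intro he
  have h1 := w.bv
  rw [← he, w.hb] at h1
  exact h.hyp.zz_ne w.tt.hK (mul_eq_right.1 h1)

theorem zs_ne_v (h : TwoE Om) (w : WD Om K K' J Q Q' QJ x y b c) : zz K * zz J ≠ zz J * (x * y) := by
  intro he
  have h1 := w.bv
  have h2 : b * (zz K * zz J) * b⁻¹ = zz J := by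
    calc b * (zz K * zz J) * b⁻¹ = (b * zz K * b⁻¹) * (b * zz J * b⁻¹) := by group
      _ = zz K * (zz K * zz J) := by rw [w.bz h.hyp, w.hb]
      _ = zz J := by rw [← mul_assoc, h.hyp.zz_mul w.tt.hK, one_mul]
  rw [← he, h2] at h1
  exact h.hyp.zz_ne w.tt.hK (mul_eq_right.1 h1.symm)

theorem vin (h : TwoE Om) (hty : ∀ K ∈ Om, IsType K) (hodd : CoresG.OddStmt.{u})
    (hp : HasPieces (fam Om (centralizer {zz J * (x * y)}))) (w : WD Om K K' J Q Q' QJ x y b c)
    (hv : zz J * (x * y) ∈ centralizer {zz J * (x * y)}) (hg : c⁻¹ * b ∈ centralizer {zz J * (x * y)}) :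
    VIn (fam Om (centralizer {zz J * (x * y)})) (px Om (centralizer {zz J * (x * y)}) K)
      (tr (centralizer {zz J * (x * y)}) K) (tr (centralizer {zz J * (x * y)}) K')
      (tr (centralizer {zz J * (x * y)}) J) (qm _ ⟨x, (pre_v h w).ux⟩) (qm _ ⟨y, (pre_v h w).uy⟩)
      (qm _ ⟨zz J * (x * y), hv⟩) (qm _ ⟨c⁻¹ * b, hg⟩) := by
  have bl := (pre_v h w).blk h hty hp (px_v_not_mem h hty w) (fun M hM => all_v h hty w hM)
  have cJ := cov_v_J h hty w
  have cK := cov_v_K h hty w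
  have eJ := zz_tr h.hyp hty cJ
  have eK := zz_tr h.hyp hty cK
  refine ⟨bl, core_HQ _, hodd.evQ _, ⟨CoresH.pc_isSubnormal (hyp_fam h.hyp hty _) (tr_mem cK), bl.qs⟩,
    (pre_v h w).ttp h hty, tr_mem cJ, ?_, ?_, ?_, ?_, ?_⟩
  · rw [← px_v h hty w w.hJ (Or.inr (Or.inl rfl))]
    exact tr_le_px
  · intro a
    obtain ⟨a, rfl⟩ := qm_surjective _ a
    rw [← map_mul, ← map_mul]
    congr 1
    exact Subtype.ext (mem_centralizer_singleton_iff.1 a.2)
  · rw [eJ, ← map_mul, ← map_mul]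
    congr 1
    exact Subtype.ext (w.t_eq h.hyp).symm
  · rw [eJ, eK, ← map_inv, ← map_mul, ← map_mul]
    congr 1
    exact Subtype.ext (w.gs h.hyp)
  · rw [eJ, eK, ← map_inv, ← map_mul, ← map_mul, ← map_mul]
    congr 1
    exact Subtype.ext (w.gz h.hyp)

/-- **(TOR) and (2B) at `v`**, from `Θ = 1` -/
theorem pp_of (h : TwoE Om) (hty : ∀ K ∈ Om, IsType K) (hodd : CoresG.OddStmt.{u})
    (hp : HasPieces (fam Om (centralizer {zz J * (x * y)}))) (w : WD Om K K' J Q Q' QJ x y b c)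
    (hD : ∀ hv hg, ∀ _ : VIn (fam Om (centralizer {zz J * (x * y)})) (px Om (centralizer {zz J * (x * y)}) K)
      (tr (centralizer {zz J * (x * y)}) K) (tr (centralizer {zz J * (x * y)}) K')
      (tr (centralizer {zz J * (x * y)}) J) (qm _ ⟨x, (pre_v h w).ux⟩) (qm _ ⟨y, (pre_v h w).uy⟩)
      (qm _ ⟨zz J * (x * y), hv⟩) (qm _ ⟨c⁻¹ * b, hg⟩),
      VIn.Th (zz (tr (centralizer {zz J * (x * y)}) J)) (zz (tr (centralizer {zz J * (x * y)}) K)) = ⊥) :
    PP (AA (zz K) (x * y) (zz J)) (zz J * (x * y)) := by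
  have e3 := e3_wd h w
  have hAH : AA (zz K) (x * y) (zz J) ≤ centralizer {zz J * (x * y)} := fun a ha =>
    mem_centralizer_singleton_iff.2 (e3.comm ha (v_mem_AA w))
  have hv := hAH (v_mem_AA w)
  have hg : c⁻¹ * b ∈ centralizer {zz J * (x * y)} :=
    mem_centralizer_singleton_iff.2 (mul_inv_eq_iff_eq_mul.1 w.gv)
  have vi := vin h hty hodd hp w hv hg
  have hTh := hD hv hg vi
  have hz := hAH (z_mem (zz K) (x * y) (zz J))
  have hs := hAH (s_mem (zz K) (x * y) (zz J))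
  have ht := hAH (t_mem (zz K) (x * y) (zz J))
  have eJ := zz_tr h.hyp hty (cov_v_J h hty w)
  have eK := zz_tr h.hyp hty (cov_v_K h hty w)
  have cz : ∀ {u}, u ∈ XX (zz (tr (centralizer {zz J * (x * y)}) K)) → _ := fun {u} hu => vi.comm_s hu
  have cs : ∀ {u}, u ∈ XX (zz (tr (centralizer {zz J * (x * y)}) J)) → _ := fun {u} hu => vi.comm_z hu
  have czs : ∀ {u}, u ∈ XX (zz (tr (centralizer {zz J * (x * y)}) K) * zz (tr (centralizer {zz J * (x * y)}) J)) → _ :=
    fun {u} hu => vi.comm_zs hu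
  rw [eJ, eK] at hTh
  rw [eK, eJ] at cz
  rw [eK, eJ] at cs
  rw [eK, eJ] at czs
  set H := centralizer ({zz J * (x * y)} : Set G) with hH
  have hvc : ∀ a : HQ H, a * qm H ⟨zz J * (x * y), hv⟩ = qm H ⟨zz J * (x * y), hv⟩ * a := vi.vc
  -- the classes of elements of `A` modulo `v`
  have key : ∀ a (ha : a ∈ AA (zz K) (x * y) (zz J)), a = 1 ∨ a = zz J * (x * y) ∨
      (XX (qm H ⟨a, hAH ha⟩) = XX (qm H ⟨zz K, hz⟩) ∨ XX (qm H ⟨a, hAH ha⟩) = XX (qm H ⟨zz J, hs⟩) ∨
        XX (qm H ⟨a, hAH ha⟩) = XX (qm H ⟨zz K, hz⟩ * qm H ⟨zz J, hs⟩)) := by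
    intro a ha
    have k0 : ∀ {e : HQ H}, qm H ⟨a, hAH ha⟩ = qm H ⟨zz J * (x * y), hv⟩ * e → XX (qm H ⟨a, hAH ha⟩) = XX e := by
      intro e he
      rw [he]
      exact ThreeSp.XX_mul_central hvc
    have e1 : zz J * (x * y) * zz J = x * y := by rw [w.st, mul_assoc, h.hyp.zz_mul w.hJ, mul_one]
    rcases e3.cases ha with (h1 | h1 | h1 | h1) | (h1 | h1 | h1 | h1)
    · exact Or.inl h1
    · subst h1
      exact Or.inr (Or.inr (Or.inl rfl))
    · refine Or.inr (Or.inr (Or.inr (Or.inl (k0 ?_))))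
      rw [← map_mul]
      congr 1
      exact Subtype.ext (h1.trans e1.symm)
    · refine Or.inr (Or.inr (Or.inr (Or.inr (k0 ?_))))
      rw [← map_mul, ← map_mul]
      congr 1
      refine Subtype.ext ?_
      change a = zz J * (x * y) * (zz K * zz J)
      calc a = zz K * (x * y) := h1
        _ = zz K * (zz J * (x * y) * zz J) := by rw [e1]
        _ = (zz K * (zz J * (x * y))) * zz J := by group
        _ = zz J * (x * y) * (zz K * zz J) := by rw [w.zv h.hyp]; group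
    · subst h1
      exact Or.inr (Or.inr (Or.inr (Or.inl rfl)))
    · refine Or.inr (Or.inr (Or.inr (Or.inr ?_)))
      rw [← map_mul]
      congr 2
      exact Subtype.ext h1
    · refine Or.inr (Or.inl ?_)
      rw [h1, w.st]
    · refine Or.inr (Or.inr (Or.inl (k0 ?_)))
      rw [← map_mul]
      congr 1
      refine Subtype.ext ?_
      change a = zz J * (x * y) * zz K
      rw [h1, mul_assoc, ← w.st, w.zv h.hyp]
  -- commuting with `A` modulo `O(H)`
  have hcomm : ∀ {u : HQ H}, u * qm H ⟨zz K, hz⟩ = qm H ⟨zz K, hz⟩ * u → u * qm H ⟨zz J, hs⟩ = qm H ⟨zz J, hs⟩ * u →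
      ∀ c (hc : c ∈ AA (zz K) (x * y) (zz J)), u * qm H ⟨c, hAH hc⟩ = qm H ⟨c, hAH hc⟩ * u := by
    intro u h1 h2 c hc
    have h3 : AA (zz K) (x * y) (zz J) ≤ pre H (centralizer {u}) := by
      refine AA_le_iff.2 ⟨mem_pre.2 ⟨hz, mem_centralizer_singleton_iff.2 h1.symm⟩, mem_pre.2 ⟨ht, ?_⟩,
        mem_pre.2 ⟨hs, mem_centralizer_singleton_iff.2 h2.symm⟩⟩
      have e : (⟨x * y, ht⟩ : H) = ⟨zz J, hs⟩ * ⟨zz J * (x * y), hv⟩ := Subtype.ext (w.t_eq h.hyp).symm
      rw [mem_centralizer_singleton_iff, e, map_mul]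
      have c1 : Commute u (qm H ⟨zz J, hs⟩) := h2
      have c2 : Commute u (qm H ⟨zz J * (x * y), hv⟩) := hvc u
      exact (c1.mul_right c2).symm.eq
    obtain ⟨_, h4⟩ := mem_pre.1 (h3 hc)
    exact (mem_centralizer_singleton_iff.1 h4).symm
  constructor
  · intro a ha ha1
    rcases key a ha with h1 | h1 | h1
    · exact absurd h1 ha1
    · rw [h1]
      exact (commutator_mono inf_le_left le_rfl).trans
        (ThreeSp.commutator_le_of_norm (hAH.trans (centralizer_le_normalizer_XX _)))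
    · rw [commutator_le]
      rintro u ⟨hu, huH⟩ c hc
      have h2 : qm H ⟨u, huH⟩ ∈ XX (qm H ⟨a, hAH ha⟩) := qm_mem_XX (Subtype.ext (e3.sq ha)) hu
      have h3 : qm H ⟨u, huH⟩ * qm H ⟨zz K, hz⟩ = qm H ⟨zz K, hz⟩ * qm H ⟨u, huH⟩ ∧
          qm H ⟨u, huH⟩ * qm H ⟨zz J, hs⟩ = qm H ⟨zz J, hs⟩ * qm H ⟨u, huH⟩ := by
        rcases h1 with h1 | h1 | h1
        · rw [h1] at h2
          exact ⟨CoreTools.comm_of_mem_XX h2, cz h2⟩
        · rw [h1] at h2
          exact ⟨cs h2, CoreTools.comm_of_mem_XX h2⟩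
        · rw [h1] at h2
          exact czs h2
      have h4 := hcomm h3.1 h3.2 c hc
      have h5 : qm H (⟨u, huH⟩ * ⟨c, hAH hc⟩ * (⟨u, huH⟩ : H)⁻¹ * (⟨c, hAH hc⟩ : H)⁻¹) = 1 := by
        rw [map_mul, map_mul, map_mul, h4, map_inv, map_inv]
        group
      exact (mem_ker_iff H).1 h5
  · intro B hB h4
    by_cases hvB : zz J * (x * y) ∈ B ∧ zz J * (x * y) ≠ 1
    · exact inf_le_left.trans (Del_le hvB.1 hvB.2)
    · have hvB' : zz J * (x * y) ∉ B ∨ zz J * (x * y) = 1 := by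
        by_contra hcon
        push Not at hcon
        exact hvB hcon
      rintro u ⟨hu, huA⟩
      have huH : u ∈ H := mem_centralizer_singleton_iff.2 (mem_centralizer_iff.1 huA _ (v_mem_AA w)).symm
      have k1 : ∀ e (he : e ∈ AA (zz K) (x * y) (zz J)), e ≠ 1 → e ≠ zz J * (x * y) →
          qm H ⟨u, huH⟩ ∈ XX (qm H ⟨e, hAH he⟩) := by
        intro e he he1 hev
        rcases mem_or_mul_mem e3 hB h4 hvB' he with h1 | h1
        · exact qm_mem_XX (Subtype.ext (e3.sq he)) (Del_le h1 he1 hu)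
        · have he2 : e * (zz J * (x * y)) ≠ 1 := by
            intro h0
            apply hev
            have h2 : e = (zz J * (x * y))⁻¹ := eq_inv_of_mul_eq_one_left h0
            rw [h2]
            exact inv_eq_of_mul_eq_one_right (w.vv h.hyp)
          have h2 : qm H ⟨u, huH⟩ ∈ XX (qm H ⟨e * (zz J * (x * y)), hAH (hB h1)⟩) :=
            qm_mem_XX (Subtype.ext (e3.sq (hB h1))) (Del_le h1 he2 hu)
          have h3 : qm H ⟨e * (zz J * (x * y)), hAH (hB h1)⟩ =
              qm H ⟨zz J * (x * y), hv⟩ * qm H ⟨e, hAH he⟩ := by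
            rw [← hvc, ← map_mul]
            rfl
          rwa [h3, ThreeSp.XX_mul_central hvc] at h2
      have hz1 := h.hyp.zz_ne w.tt.hK
      have hs1 := h.hyp.zz_ne w.hJ
      have hzs1 : zz K * zz J ≠ 1 := by
        intro h0
        apply w.ne
        have h2 : zz K = (zz J)⁻¹ := eq_inv_of_mul_eq_one_left h0
        rw [h2, inv_eq_of_mul_eq_one_right (h.hyp.zz_mul w.hJ)]
      have h1 := k1 _ (z_mem _ _ _) hz1 (z_ne_v h w)
      have h2 := k1 _ (s_mem _ _ _) hs1 (s_ne_v h w)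
      have h3 := k1 _ (mul_mem (z_mem _ _ _) (s_mem _ _ _)) hzs1 (zs_ne_v h w)
      have h5 : qm H ⟨u, huH⟩ ∈ VIn.Th (qm H ⟨zz J, hs⟩) (qm H ⟨zz K, hz⟩) := by
        refine ⟨⟨h1, h2⟩, ?_⟩
        rw [← map_mul]
        exact h3
      have h6 : qm H ⟨u, huH⟩ = 1 := by
        have h7 := hTh.le h5
        exact mem_bot.1 h7
      exact (mem_ker_iff H).1 h6

/-- **(TOR) and (2B) at `v`** -/
theorem pp_v (h : TwoE Om) (hty : ∀ K ∈ Om, IsType K) (hodd : CoresG.OddStmt.{u})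
    (hB : ∀ (X : Type u) [Group X] [Finite X] [IsSimpleGroup X], CloEnd.Bend X)
    (hC : ∀ (X : Type u) [Group X] [Finite X] [IsSimpleGroup X], CloEnd.Crit1175 X)
    (hp : HasPieces (fam Om (centralizer {zz J * (x * y)}))) (w : WD Om K K' J Q Q' QJ x y b c) :
    PP (AA (zz K) (x * y) (zz J)) (zz J * (x * y)) := by
  refine pp_of h hty hodd hp w fun hv hg vi => vi.theta_eq_bot ?_
  haveI : IsSimpleGroup (px Om (centralizer {zz J * (x * y)}) K ⧸ center (px Om (centralizer {zz J * (x * y)}) K)) :=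
    vi.blk.qs.2
  refine vi.blk.le_of_tt (hB _) (hC _) vi.tt vi.hJ vi.JD ?_ (inf_le_right.trans vi.cz)
    (inf_le_right.trans vi.cs)
  intro d _
  have e : (qm (centralizer {zz J * (x * y)}) ⟨x, (pre_v h w).ux⟩ * qm _ ⟨y, (pre_v h w).uy⟩)⁻¹ *
      zz (tr (centralizer {zz J * (x * y)}) J) = (qm _ ⟨zz J * (x * y), hv⟩)⁻¹ := by
    rw [vi.xy]
    set s := zz (tr (centralizer {zz J * (x * y)}) J) with hs
    set v := qm (centralizer {zz J * (x * y)}) ⟨zz J * (x * y), hv⟩ with hv'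
    rw [mul_inv_rev, inv_mul_cancel_right]
  rw [e]
  have h1 : Commute d (qm (centralizer {zz J * (x * y)}) ⟨zz J * (x * y), hv⟩) := vi.vc d
  exact h1.inv_right.eq

end Main

end Cfsg.Agent.Cit.TwoPP
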