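import Cfsg.Agent.Cit.TwoX
import Cfsg.Agent.Cit.CoresClose

/-!
# `O(C(z₀))` and the involutions `s` with `z₀ = x y` over `s` (R18, Z3, (8c): (T1), (T2))

`C0 z = C(z) ∩ C(O(C(z)))`, `ELem F` = the E-LEMMA.

* `mem_C0`, `exists_conj_C0`: (X3) and the E-LEMMA;
* `exists_syl`: a Sylow 2-subgroup of `C(z)` centralises `s` (`ZP F s z`);
* `T1`, `T2`: if there is a commuting pair `s₁ ≠ s₂` with `ZP F s₁ z`, `ZP F s₂ z`, then for all `ZP F s z`: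
  `s ∈ C0 z` and `C(z) = C0 z * (C(z) ∩ C(s))`.
-/

set_option autoImplicit false
set_option linter.style.haveILetI false
set_option linter.unusedSectionVars false

namespace Cfsg.Agent.Cit.TwoX

open Subgroup Cfsg OneBasic

variable {X : Type*} [Group X] {F : Set (Subgroup X)}

/-- `C(z) ∩ C(O(C(z)))` -/
def C0 (z : X) : Subgroup X := centralizer {z} ⊓ centralizer (XX z : Set X)

theorem mem_C0 {z g : X} : g ∈ C0 z ↔ g * z = z * g ∧ ∀ o ∈ XX z, o * g = g * o := by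
  rw [C0, mem_inf, mem_centralizer_singleton_iff, mem_centralizer_iff]
  rfl

theorem cj_C0 (g z : X) : cj g (C0 z) = C0 (g * z * g⁻¹) := by
  rw [C0, C0, cj_inf, cj_centralizer, ← cj_XX]
  congr 1
  ext a
  rw [mem_cj, mem_centralizer_iff, mem_centralizer_iff]
  constructor
  · rintro h _ ⟨o, ho, rfl⟩
    have h1 := h o ho
    simp only [MulEquiv.coe_toMonoidHom, MulAut.conj_apply]
    calc g * o * g⁻¹ * a = g * (o * (g⁻¹ * a * g)) * g⁻¹ := by group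
      _ = g * (g⁻¹ * a * g * o) * g⁻¹ := by rw [h1]
      _ = a * (g * o * g⁻¹) := by group
  · intro h o ho
    have h1 := h (g * o * g⁻¹) (conj_mem_cj ho)
    calc o * (g⁻¹ * a * g) = g⁻¹ * (g * o * g⁻¹ * a) * g := by group
      _ = g⁻¹ * (a * (g * o * g⁻¹)) * g := by rw [h1]
      _ = g⁻¹ * a * g * o := by group

/-- the E-LEMMA -/
def ELem (F : Set (Subgroup X)) : Prop := ∀ M b, Mv F M b → ∀ k ∈ M, ∀ o ∈ XX b, o * ee b k = ee b k * o

variable [Finite X]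

namespace TX

variable {s s₁ s₂ z : X}

/-- (X3) and the E-LEMMA -/
theorem mem_C0_and_conj (t : TX F) (hE : ELem F) (p1 : ZP F s₁ z) (p2 : ZP F s₂ z) (hc : s₁ * s₂ = s₂ * s₁)
    (hne : s₁ ≠ s₂) : s₁ ∈ C0 z ∧ ∃ e ∈ C0 z, e * s₁ * e⁻¹ = s₂ := by
  obtain ⟨M, m, k, hk, l, hl, ok, ol, hks, hls⟩ := t.pairX p1 p2 hc hne
  have hC : ∀ a ∈ M, ee z a ∈ C0 z := fun a ha => mem_C0.2 ⟨m.ee_comm t ha, fun o ho => hE M z m a ha o ho⟩
  have hz : z ∈ C0 z := mem_C0.2 ⟨rfl, fun o ho => mem_centralizer_singleton_iff.1 (XX_le z ho)⟩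
  refine ⟨by rw [hks]; exact mul_mem hz (hC k hk), ?_⟩
  obtain ⟨j, hj, hjk⟩ := t.hyp.conj_four m.mem (t.ty2 M m.mem) hk hl ok ol
  refine ⟨ee z j, hC j hj, ?_⟩
  have h1 : ee z j * z = z * ee z j := m.ee_comm t hj
  calc ee z j * s₁ * (ee z j)⁻¹ = (ee z j * z) * ee z k * (ee z j)⁻¹ := by rw [hks]; group
    _ = z * (ee z j * ee z k * (ee z j)⁻¹) := by rw [h1]; group
    _ = z * ee z (j * k * j⁻¹) := by
      rw [m.ee_mul t (M.mul_mem hj hk) (M.inv_mem hj), m.ee_mul t hj hk, m.ee_inv t hj]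
    _ = s₂ := by rw [hjk, ← hls]

/-- a Sylow 2-subgroup of `C(z)` centralises `s` -/
theorem exists_syl (t : TX F) (p : ZP F s z) : ∃ P, Syl P (centralizer {z}) ∧ P ≤ centralizer {s} := by
  have p0 := p
  obtain ⟨J, J', x, y, q, hs, hz⟩ := p0
  have hsz := p.comm t.hyp
  have hxz : x * z = z * x := by
    rw [← hz]; exact ((Commute.refl x).mul_right (q.comm t.hyp)).eq
  have hxs : x * s = s * x := by rw [← hs]; exact t.hyp.comm_zz q.hK (le_normalizer q.hx)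
  obtain ⟨P1, hP1, hxP⟩ := exists_syl_ge (isPGroup_four q.ox)
    (zpowers_le.2 (mem_inf.2 ⟨mem_centralizer_singleton_iff.2 hxz, mem_centralizer_singleton_iff.2 hxs⟩) :
      zpowers x ≤ centralizer {z} ⊓ centralizer {s})
  have hx1 : x ∈ P1 := hxP (mem_zpowers x)
  obtain ⟨P, hP, hPP⟩ := exists_syl_ge hP1.2.1 (hP1.1.trans inf_le_left)
  by_cases hPe : P1 = P
  · exact ⟨P1, by rw [hPe]; exact hP, hP1.1.trans inf_le_right⟩
  exfalso
  obtain ⟨g, hgP, hg1, hgn⟩ := exists_normalizing hP.2.1 hPP hPe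
  have hgz : g * z = z * g := mem_centralizer_singleton_iff.1 (hP.1 hgP)
  have hgs : g * s * g⁻¹ ≠ s := by
    intro h1
    apply hg1
    rw [mul_inv_eq_iff_eq_mul] at h1
    refine syl_le_of_normalizes' hP1 (hP.2.1.to_le (zpowers_le.2 hgP)) ?_ ?_ (mem_zpowers g)
    · exact zpowers_le.2 (mem_inf.2 ⟨mem_centralizer_singleton_iff.2 hgz, mem_centralizer_singleton_iff.2 h1⟩)
    · exact zpowers_le.2 (mem_normalizer_iff_cj.2 hgn)
  have hs1 : s ∈ P1 := by rw [← hs, ← q.sqx t.hyp]; exact P1.mul_mem hx1 hx1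
  have hs' : g * s * g⁻¹ ∈ P1 := by rw [← hgn]; exact conj_mem_cj hs1
  have hx' : g * x * g⁻¹ ∈ P1 := by rw [← hgn]; exact conj_mem_cj hx1
  have hcs : ∀ a ∈ P1, a * s = s * a := fun a ha => mem_centralizer_singleton_iff.1 (hP1.1 ha).2
  have p' : ZP F (g * s * g⁻¹) z := by
    have h1 := p.cj t.hyp g
    rwa [hgz, mul_inv_cancel_right] at h1
  have ox' : orderOf (g * x * g⁻¹) = 4 := by rw [← q.ox]; exact (MulAut.conj g).orderOf_eq x
  have hn : g * x * g⁻¹ ∈ normalizer (J : Set X) :=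
    t.hyp.norm_four hP1.2.1 (t.hyp.conj J q.hK g) q.hK (conj_mem_cj q.hx) hx' (by rw [ox'])
      (by rw [hs]; exact hcs _ hx')
  have hn2 : g * s * g⁻¹ ∈ normalizer (J : Set X) := by
    have h1 : g * s * g⁻¹ = (g * x * g⁻¹) * (g * x * g⁻¹) := by
      calc g * s * g⁻¹ = g * (x * x) * g⁻¹ := by rw [q.sqx t.hyp, hs]
        _ = _ := by group
    rw [h1]
    exact mul_mem hn hn
  exact t.swap p p' (hcs _ hs').symm hgs.symm q.hK hs (mem_normalizer_iff_cj.1 hn2)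

/-- all `(s, z)` are conjugate -/
theorem conj_zp (t : TX F) {s' z' : X} (p : ZP F s z) (p' : ZP F s' z') : ∃ g, g * s * g⁻¹ = s' ∧ g * z * g⁻¹ = z' := by
  obtain ⟨J, J', x, y, q, rfl, rfl⟩ := p
  obtain ⟨L, L', x', y', q', rfl, rfl⟩ := p'
  obtain ⟨g, h1, h2, -⟩ := t.two.conj_any_top t.ty2 q q'
  exact ⟨g, h2, h1⟩

/-- **(T1)** -/
theorem T1 (t : TX F) (hE : ELem F) (hex : ∃ s₁ s₂ z₁, ZP F s₁ z₁ ∧ ZP F s₂ z₁ ∧ s₁ * s₂ = s₂ * s₁ ∧ s₁ ≠ s₂)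
    (p : ZP F s z) : s ∈ C0 z := by
  obtain ⟨s₁, s₂, z₁, p1, p2, hc, hne⟩ := hex
  obtain ⟨h1, -⟩ := t.mem_C0_and_conj hE p1 p2 hc hne
  obtain ⟨g, hgs, hgz⟩ := t.conj_zp p1 p
  rw [← hgs, ← hgz, ← cj_C0]
  exact conj_mem_cj h1

/-- **(T2)** -/
theorem T2 (t : TX F) (hE : ELem F) (hex : ∃ s₁ s₂ z₁, ZP F s₁ z₁ ∧ ZP F s₂ z₁ ∧ s₁ * s₂ = s₂ * s₁ ∧ s₁ ≠ s₂)
    (p : ZP F s z) {g : X} (hg : g * z = z * g) :
    ∃ e ∈ C0 z, ∃ c, c * z = z * c ∧ c * s = s * c ∧ g = e * c := by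
  haveI : Fact (Nat.Prime 2) := ⟨Nat.prime_two⟩
  obtain ⟨P, hP, hPs⟩ := t.exists_syl p
  have hsz := p.comm t.hyp
  have hs0 : s ∈ C0 z := t.T1 hE hex p
  have hCle : C0 z ≤ centralizer {z} := inf_le_left
  have hCn : ∀ a, a * z = z * a → cj a (C0 z) = C0 z := by
    intro a ha
    rw [cj_C0, ha, mul_inv_cancel_right]
  have hcent : ∀ a ∈ centralizer {z}, a * z = z * a := fun a ha => mem_centralizer_singleton_iff.1 ha
  -- `P ∩ C0` is a Sylow subgroup of `C0`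
  have hPC : Syl (C0 z ⊓ P) (C0 z) := by
    rw [inf_comm]
    refine LB.syl_inf_normal hP hCle ?_
    intro a ha
    exact mem_normalizer_iff_cj.2 (hCn a (hcent a ha))
  -- `s' = g s g⁻¹`
  have p' : ZP F (g * s * g⁻¹) z := by
    have h1 := p.cj t.hyp g
    rwa [hg, mul_inv_cancel_right] at h1
  have hs' : g * s * g⁻¹ ∈ C0 z := by rw [← hCn g hg]; exact conj_mem_cj hs0
  have hs'p : IsPGroup 2 (zpowers (g * s * g⁻¹)) := by
    have h1 : (g * s * g⁻¹) * (g * s * g⁻¹) = 1 := p'.zsq t.hyp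
    have h3 : orderOf (g * s * g⁻¹) ∣ 2 ^ 1 := orderOf_dvd_of_pow_eq_one (by rw [pow_one, pow_two, h1])
    obtain ⟨i, -, hi⟩ := (Nat.dvd_prime_pow Nat.prime_two).1 h3
    rw [IsPGroup.iff_card]
    exact ⟨i, by rw [Nat.card_zpowers, hi]⟩
  obtain ⟨R, hR, hRs⟩ := exists_syl_ge hs'p (zpowers_le.2 hs')
  obtain ⟨a, ha, haR⟩ := hR.exists_conj hPC
  have haz : a * z = z * a := hcent a (hCle ha)
  have hs2 : a * (g * s * g⁻¹) * a⁻¹ ∈ C0 z ⊓ P := by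
    rw [← haR]; exact conj_mem_cj (hRs (mem_zpowers _))
  have p2 : ZP F (a * (g * s * g⁻¹) * a⁻¹) z := by
    have h1 := p'.cj t.hyp a
    rwa [haz, mul_inv_cancel_right] at h1
  have hcomm : s * (a * (g * s * g⁻¹) * a⁻¹) = (a * (g * s * g⁻¹) * a⁻¹) * s :=
    (mem_centralizer_singleton_iff.1 (hPs hs2.2)).symm
  obtain ⟨e, he, hes⟩ : ∃ e ∈ C0 z, e * s * e⁻¹ = a * (g * s * g⁻¹) * a⁻¹ := by
    by_cases h1 : s = a * (g * s * g⁻¹) * a⁻¹
    · exact ⟨1, one_mem _, by rw [← h1]; group⟩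
    · exact (t.mem_C0_and_conj hE p p2 hcomm h1).2
  have hez : e * z = z * e := hcent e (hCle he)
  refine ⟨a⁻¹ * e, mul_mem (inv_mem ha) he, e⁻¹ * a * g, ?_, ?_, by group⟩
  · have h1 : Commute e z := hez
    have h2 : Commute a z := haz
    have h3 : Commute g z := hg
    exact ((h1.inv_left.mul_left h2).mul_left h3).eq
  · have h1 : (e⁻¹ * a * g) * s * (e⁻¹ * a * g)⁻¹ = s := by
      calc (e⁻¹ * a * g) * s * (e⁻¹ * a * g)⁻¹ = e⁻¹ * (a * (g * s * g⁻¹) * a⁻¹) * e := by group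
        _ = s := by rw [← hes]; group
    rw [mul_inv_eq_iff_eq_mul] at h1
    exact h1

end TX

end Cfsg.Agent.Cit.TwoX
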