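import Cfsg.Agent.Cit.TwoPU
import Cfsg.Agent.Cit.TwoPPv
import Cfsg.Agent.Cit.TwoXConj

/-!
# Branch (B), cores: THEOREM F for `A = ⟨z, t, s⟩` at `b = t`

`t = x y`, `z = zz K`, `s = zz J` as in `WD`; `X = C(t) / O(C(t))`. If `s` is central in `X` everything is trivial.
Otherwise all members of `X` are in one block `D`, no member is perpendicular to `z`, and THEOREM X
(`TX.T1`, `TX.T2` of `TwoXConj.lean`) applies to `s` and `z t`.
-/

set_option autoImplicit false
set_option linter.style.haveILetI false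
set_option linter.unusedSectionVars false

namespace Cfsg.Agent.Cit.TwoPPt

open Subgroup Cfsg OneBasic SubCent UseT TwoWT TwoBlk TwoTy EqCfg TwoPU TwoBG TwoX
open Cfsg.Agent.Cit.Comp
open Cfsg.Agent.SignalizersComponents.Components

universe u

/-! ### In `X` -/

/-- the situation in `X = C(t) / O(C(t))` : `w` is the image of `t` -/
structure TIn {X : Type*} [Group X] [Finite X] (F : Set (Subgroup X)) (D J J' : Subgroup X) (x y z w c : X) :
    Prop where
  blk : Blk F D J J'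
  comp : IsComponent D
  hO : pPrimeCore 2 X = ⊥
  hev : EvQ X
  tt : TTp F J J' x y
  wc : ∀ g, g * w = w * g
  xy : x * y = w * z
  cs : c * zz J = zz J * c
  cz : c * z * c⁻¹ = zz J * z
  t : TX F
  lem : ELem F
  ex : ∃ s₁ s₂ z₁, ZP F s₁ z₁ ∧ ZP F s₂ z₁ ∧ s₁ * s₂ = s₂ * s₁ ∧ s₁ ≠ s₂

namespace TIn

variable {X : Type*} [Group X] [Finite X] {F : Set (Subgroup X)} {D J J' : Subgroup X} {x y z w c : X}

theorem zp (h : TIn F D J J' x y z w c) : ZP F (zz J) (x * y) := ⟨J, J', x, y, h.tt, rfl, rfl⟩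

theorem XXz (h : TIn F D J J' x y z w c) : XX (x * y) = XX z := by rw [h.xy, XX_mul_central h.wc]

theorem comm_z_iff (h : TIn F D J J' x y z w c) {g : X} : g * (x * y) = (x * y) * g ↔ g * z = z * g := by
  rw [h.xy]
  constructor
  · intro h1
    have h2 : w * (g * z) = w * (z * g) := by rw [← mul_assoc, ← h.wc g, mul_assoc, h1, mul_assoc]
    exact mul_left_cancel h2
  · intro h1
    rw [← mul_assoc, h.wc g, mul_assoc, h1, mul_assoc]

theorem sz (h : TIn F D J J' x y z w c) : zz J * z = z * zz J :=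
  h.comm_z_iff.1 (h.zp.comm h.t.hyp)

/-- (T1) -/
theorem z_s (h : TIn F D J J' x y z w c) {o : X} (ho : o ∈ XX z) : o * zz J = zz J * o := by
  rw [← h.XXz] at ho
  exact (mem_C0.1 (h.t.T1 h.lem h.ex h.zp)).2 o ho

theorem s_z (h : TIn F D J J' x y z w c) {o : X} (ho : o ∈ XX (zz J)) : o * z = z * o := by
  refine h.comm_z_iff.1 ?_
  have h1 := h.t.two.XX_comm (h.t.core J h.tt.hK) h.tt ho h.tt.hx
  have h2 := h.t.two.XX_comm (h.t.core J' h.tt.hK') h.tt.symm (u := o) (by rw [h.tt.hz]; exact ho) h.tt.hy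
  rw [← mul_assoc, ← h1, mul_assoc, ← h2, mul_assoc]

theorem zs_z (h : TIn F D J J' x y z w c) {o : X} (ho : o ∈ XX (z * zz J)) : o * z = z * o := by
  have e : z * zz J = c * z * c⁻¹ := by rw [h.cz, h.sz]
  have ho' := ho
  rw [e, ← cj_XX] at ho
  obtain ⟨r, hr, rfl⟩ := ho
  simp only [MulEquiv.coe_toMonoidHom, MulAut.conj_apply] at ho' ⊢
  -- `c r c⁻¹` commutes with `s`
  have h1 : (c * r * c⁻¹) * zz J = zz J * (c * r * c⁻¹) := by
    have h2 : c⁻¹ * zz J = zz J * c⁻¹ := by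
      rw [inv_mul_eq_iff_eq_mul, ← mul_assoc, h.cs, mul_inv_cancel_right]
    calc (c * r * c⁻¹) * zz J = c * r * (c⁻¹ * zz J) := by group
      _ = c * (r * zz J) * c⁻¹ := by rw [h2]; group
      _ = c * zz J * r * c⁻¹ := by rw [h.z_s hr]; group
      _ = _ := by rw [h.cs]; group
  have h2 := CoreTools.comm_of_mem_XX ho'
  have h3 : (c * r * c⁻¹ * z) * zz J = (z * (c * r * c⁻¹)) * zz J := by
    rw [mul_assoc, h2, mul_assoc, ← h1, ← mul_assoc]
  exact mul_right_cancel h3

/-- `Θ` -/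
def Th (z s : X) : Subgroup X := XX z ⊓ XX s ⊓ XX (z * s)

theorem norm_Th {s z a : X} (hz : a * z = z * a) (hs : a * s = s * a) : a ∈ normalizer (Th z s : Set X) := by
  rw [mem_normalizer_iff_cj, Th, cj_inf, cj_inf, cj_XX, cj_XX, cj_XX]
  have h1 : a * (z * s) = (z * s) * a := by rw [← mul_assoc, hz, mul_assoc, hs, mul_assoc]
  rw [hz, hs, h1, mul_inv_cancel_right, mul_inv_cancel_right, mul_inv_cancel_right]

theorem cent_s (h : TIn F D J J' x y z w c) : centralizer {zz J} ≤ normalizer (Th z (zz J) : Set X) := by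
  refine h.t.two.centralizer_le_normalizer_of h.t.ty2 h.t.core h.tt (inf_le_left.trans inf_le_right) ?_
  intro g hg hgt
  exact norm_Th (h.comm_z_iff.1 hgt) hg

/-- (T2) -/
theorem cent_t (h : TIn F D J J' x y z w c) : centralizer {x * y} ≤ normalizer (Th z (zz J) : Set X) := by
  intro g hg
  obtain ⟨e, he, f, hf1, hf2, rfl⟩ := h.t.T2 h.lem h.ex h.zp (mem_centralizer_singleton_iff.1 hg)
  refine mul_mem ?_ (norm_Th (h.comm_z_iff.1 hf1) hf2)
  refine centralizer_le_normalizer (Th z (zz J) : Set X) ?_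
  rw [mem_centralizer_iff]
  intro o ho
  exact (mem_C0.1 he).2 o (by rw [h.XXz]; exact ho.1.1)

/-- **`Θ = 1`** -/
theorem theta (h : TIn F D J J' x y z w c) (hB : CloEnd.Bend (D ⧸ center D)) (hC : CloEnd.Crit1175 (D ⧸ center D)) :
    Th z (zz J) = ⊥ := by
  have hD : D ≤ normalizer (Th z (zz J) : Set X) :=
    h.blk.le_of_noperp hB hC h.tt (fun M hM _ => h.t.noperp _ _ _ _ h.tt M hM) (inf_le_right.trans h.cent_s)
      (inf_le_right.trans h.cent_t)
  refine eq_bot_of_normal h.hO h.hev h.comp h.blk.cen (a := zz J) (h.t.hyp.zz_mul h.tt.hK) (h.t.hyp.zz_ne h.tt.hK)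
    (h.blk.KD (h.t.hyp.zz_mem h.tt.hK)) (inf_le_left.trans inf_le_right) hD

end TIn

/-! ### `C(t)` -/

section conf

variable {G : Type u} [Group G] [Finite G] {Om : Set (Subgroup G)} {K K' J Q Q' QJ : Subgroup G} {x y b c : G}

theorem t_ne_one (h : TwoE Om) (w : WD Om K K' J Q Q' QJ x y b c) : x * y ≠ 1 := by
  intro h1
  apply TwoPP.s_ne_v h w
  rw [h1, mul_one]

theorem z_ne_t (h : TwoE Om) (w : WD Om K K' J Q Q' QJ x y b c) : zz K ≠ x * y := by
  intro h1
  apply TwoPP.zs_ne_v h w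
  rw [← h1, w.sz h.hyp]

theorem zs_ne_one (h : TwoE Om) (w : WD Om K K' J Q Q' QJ x y b c) : zz K * zz J ≠ 1 := by
  intro h1
  apply w.ne
  rw [← inv_eq_of_mul_eq_one_right h1, h.hyp.zz_inv w.tt.hK]

theorem zs_ne_t (h : TwoE Om) (w : WD Om K K' J Q Q' QJ x y b c) : zz K * zz J ≠ x * y := by
  intro h1
  apply TwoPP.z_ne_v h w
  rw [← h1, ← mul_assoc, w.sz h.hyp, mul_assoc, h.hyp.zz_mul w.hJ, mul_one]

/-- `XX a` is trivial for central `a` in a group with trivial odd core -/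
theorem XX_of_central {X : Type*} [Group X] [Finite X] (hO : pPrimeCore 2 X = ⊥) {a : X} (ha : ∀ g, g * a = a * g) :
    XX a = ⊥ := by
  have h5 : centralizer ({a} : Set X) = ⊤ := by
    rw [eq_top_iff]; intro q _; rw [mem_centralizer_singleton_iff]; exact ha q
  rw [eq_bot_iff, XX, h5, ← hO]
  rintro _ ⟨r', hr', rfl⟩
  have h6 := Lib.Cores.map_equiv_pPrimeCore (Subgroup.topEquiv (G := X)) 2
  rw [← h6]
  exact ⟨r', hr', rfl⟩

/-- **THEOREM F at `t`** -/
theorem pp_t (h : TwoE Om) (hty : ∀ K ∈ Om, IsType K) (hodd : CoresG.OddStmt.{u})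
    (hB : ∀ (X : Type u) [Group X] [Finite X] [IsSimpleGroup X], CloEnd.Bend X)
    (hC : ∀ (X : Type u) [Group X] [Finite X] [IsSimpleGroup X], CloEnd.Crit1175 X)
    (hp : HasPieces (fam Om (centralizer {x * y}))) (w : WD Om K K' J Q Q' QJ x y b c)
    (hst : zz J ≠ x * y)
    (hX : ¬ TwoWT.Cen (x * y) (zz J) → TX (fam Om (centralizer {x * y})) → ELem (fam Om (centralizer {x * y})) ∧
      ∃ s₁ s₂ z₁, ZP (fam Om (centralizer {x * y})) s₁ z₁ ∧ ZP (fam Om (centralizer {x * y})) s₂ z₁ ∧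
        s₁ * s₂ = s₂ * s₁ ∧ s₁ ≠ s₂) :
    PP (AA (zz K) (x * y) (zz J)) (x * y) := by
  have hzH : zz K ∈ centralizer {x * y} := mem_centralizer_singleton_iff.2 (w.zt h.hyp)
  have hsH : zz J ∈ centralizer {x * y} := mem_centralizer_singleton_iff.2 w.st
  have htH : x * y ∈ centralizer {x * y} := mem_centralizer_singleton_iff.2 rfl
  have hcH : c ∈ centralizer {x * y} := by
    rw [mem_centralizer_singleton_iff]
    have h1 : c * zz J = zz J * c := mul_inv_eq_iff_eq_mul.1 (w.cs h.hyp)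
    have h2 : c * (zz J * (x * y)) = (zz J * (x * y)) * c := mul_inv_eq_iff_eq_mul.1 w.cv
    rw [← mul_assoc, h1, mul_assoc, mul_assoc (zz J)] at h2
    exact mul_left_cancel h2
  obtain ⟨J₁, J₁', x₁, y₁, s, hz1, hp1⟩ := side_t h hty w
  have hJ := s.covJ h hty
  have hJ' := s.covJ' h hty
  have eS : zz (tr (centralizer {x * y}) J₁) = qm (centralizer {x * y}) ⟨zz J, hsH⟩ := by
    rw [zz_tr h.hyp hty hJ]
    congr 1
    exact Subtype.ext hz1
  rcases dich h hty hp hJ hJ' s.tt.ne s.tt.hz with ⟨hc, -, -⟩ | ⟨hnc, hnm, hall⟩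
  · -- `s` is central
    rw [hz1] at hc
    have hc' := (cen_iff_qm hsH).1 hc
    have hbot := XX_of_central (CoresG.core_HQ (centralizer {x * y})) hc'
    refine pp_of' (TwoPP.e3_wd h w) (t_ne_one h w) (h.hyp.zz_ne w.tt.hK) (z_ne_t h w) (h.hyp.zz_ne w.hJ) hst
      (zs_ne_one h w) (zs_ne_t h w) hzH hsH (fun o _ => hc' o) ?_ ?_ ?_
    · intro o ho
      rw [hbot, mem_bot] at ho
      rw [ho, one_mul, mul_one]
    · intro o ho
      rw [hc', XX_mul_central hc'] at ho
      exact CoreTools.comm_of_mem_XX ho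
    · intro o _ ho _
      rwa [hbot, mem_bot] at ho
  · rw [hz1] at hnc
    have bl := s.blk h hty hp hnm hall
    have p := s.ttp h hty
    have two := (leTwo_fam h hty (centralizer {x * y})).twoE p
    have t : TX (fam Om (centralizer {x * y})) :=
      { two := two
        ty := isType_fam hty _
        core := hp.core
        noperp := by
          intro L L' a d q M hM hper
          obtain ⟨g, hg, -, -⟩ := two.conj_any_top (fun K hK => (isType_fam hty _ K hK).tyTwo) q p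
          have h1 := hper.cj g
          rw [hg] at h1
          exact s.noperp h hty _ (two.hyp.conj M hM g) h1 }
    obtain ⟨lem, ex⟩ := hX hnc t
    have ti : TIn (fam Om (centralizer {x * y})) (px Om (centralizer {x * y}) J₁) (tr (centralizer {x * y}) J₁)
        (tr (centralizer {x * y}) J₁') (qm _ ⟨x₁, s.ux⟩) (qm _ ⟨y₁, s.uy⟩) (qm _ ⟨zz K, hzH⟩) (qm _ ⟨x * y, htH⟩)
        (qm _ ⟨c, hcH⟩) :=
      { blk := bl
        comp := ⟨CoresH.pc_isSubnormal (hyp_fam h.hyp hty _) (tr_mem hJ), bl.qs⟩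
        hO := CoresG.core_HQ _
        hev := hodd.evQ _
        tt := p
        wc := central htH rfl
        xy := by
          rw [← map_mul, ← map_mul]
          congr 1
          exact Subtype.ext hp1
        cs := by
          rw [eS, ← map_mul, ← map_mul]
          congr 1
          exact Subtype.ext (mul_inv_eq_iff_eq_mul.1 (w.cs h.hyp))
        cz := by
          rw [eS, ← map_inv, ← map_mul, ← map_mul, ← map_mul]
          congr 1
          exact Subtype.ext w.hc
        t := t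
        lem := lem
        ex := ex }
    haveI : IsSimpleGroup (px Om (centralizer {x * y}) J₁ ⧸ center (px Om (centralizer {x * y}) J₁)) := bl.qs.2
    have th := ti.theta (hB _) (hC _)
    have e1 := fun (o : HQ (centralizer {x * y})) => ti.z_s (o := o)
    have e2 := fun (o : HQ (centralizer {x * y})) => ti.s_z (o := o)
    have e3 := fun (o : HQ (centralizer {x * y})) => ti.zs_z (o := o)
    rw [eS] at th e1 e2 e3
    refine pp_of' (TwoPP.e3_wd h w) (t_ne_one h w) (h.hyp.zz_ne w.tt.hK) (z_ne_t h w) (h.hyp.zz_ne w.hJ) hst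
      (zs_ne_one h w) (zs_ne_t h w) hzH hsH (fun o ho => e1 o ho) (fun o ho => e2 o ho) (fun o ho => e3 o ho) ?_
    intro o h1 h2 h3
    have h4 : o ∈ TIn.Th (qm (centralizer {x * y}) ⟨zz K, hzH⟩) (qm (centralizer {x * y}) ⟨zz J, hsH⟩) :=
      ⟨⟨h1, h2⟩, h3⟩
    rwa [th, mem_bot] at h4

end conf

end Cfsg.Agent.Cit.TwoPPt
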