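import Cfsg.Agent.Cit.TwoPPz
import Cfsg.Agent.Cit.TwoPPt
import Cfsg.Agent.Cit.TwoDA
import Cfsg.Agent.Cit.TwoNcen
import Cfsg.Agent.Cit.CoreTwoEq

/-!
# Branch (B), cores: THEOREM F for all configurations

`XStmt` : THEOREM X (the E-LEMMA, and two commuting involutions over one product); `tor`, `bg`, `comA` : the hypotheses of
THEOREM F, THEOREM BG, and `⁅O(C(a)), A⁆ = 1` for every configuration `WD`.
-/

set_option autoImplicit false
set_option linter.style.haveILetI false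
set_option linter.unusedSectionVars false

namespace Cfsg.Agent.Cit.TwoCores

open Subgroup Cfsg OneBasic SubCent UseT TwoWT EqCfg TwoX
open Cfsg.Agent.Cit.Comp
open Cfsg.Agent.Cit.TwoFK (TwoEq)
open Cfsg.Agent.Cit.CoreTwoEq (CaseA CaseB)

universe u

/-- THEOREM X -/
def XStmt : Prop := ∀ (X : Type u) [Group X] [Finite X] (F : Set (Subgroup X)), TX F → (∀ K ∈ F, Ty K) →
  HasPieces F → pPrimeCore 2 X = ⊥ → EvQ X → (∃ K ∈ F, ¬ ∀ g, g * zz K = zz K * g) →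
    ELem F ∧ ∃ s₁ s₂ z₁, ZP F s₁ z₁ ∧ ZP F s₂ z₁ ∧ s₁ * s₂ = s₂ * s₁ ∧ s₁ ≠ s₂

variable {G : Type u} [Group G] [Finite G] {Om : Set (Subgroup G)} {K K' J Q Q' QJ : Subgroup G} {x y b c : G}

theorem hZ_of (hA : ¬ CaseA Om) : ∀ K K' x y, TTp Om K K' x y → ∀ M ∈ Om, x * y ≠ zz M :=
  fun K K' x y p M hM he => hA ⟨K, K', x, y, p, M, hM, he⟩

theorem pp_t (ms : MinS Om) (h2 : TwoEq Om) (hA : ¬ CaseA Om) (hodd : CoresG.OddStmt.{u})
    (hB : ∀ (X : Type u) [Group X] [Finite X] [IsSimpleGroup X], CloEnd.Bend X)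
    (hC : ∀ (X : Type u) [Group X] [Finite X] [IsSimpleGroup X], CloEnd.Crit1175 X)
    (hX : XStmt.{u}) (w : WD Om K K' J Q Q' QJ x y b c) : PP (AA (zz K) (x * y) (zz J)) (x * y) := by
  have h := h2.twoE
  have hty := ms.isType
  have ht1 := TwoDA.t_ne h (hZ_of hA) w
  have hp := ms.fam_cent ht1
  have hsH : zz J ∈ centralizer {x * y} := mem_centralizer_singleton_iff.2 w.st
  refine TwoPPt.pp_t h hty hodd hB hC hp w (hZ_of hA K K' x y w.tt J w.hJ).symm fun hnc t => ?_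
  refine hX _ _ t (ty_fam hty _) hp (CoresG.core_HQ _) (hodd.evQ _) ?_
  refine ⟨_, tr_mem (cov_t h hty w w.hJ rfl), fun hc => hnc ?_⟩
  rw [zz_tr h.hyp hty (cov_t h hty w w.hJ rfl)] at hc
  exact (cen_iff_qm hsH).2 hc

theorem bg (ms : MinS Om) (h2 : TwoEq Om) (hA : ¬ CaseA Om)
    (hB : ∀ (X : Type u) [Group X] [Finite X] [IsSimpleGroup X], CloEnd.Bend X)
    (hC : ∀ (X : Type u) [Group X] [Finite X] [IsSimpleGroup X], CloEnd.Crit1175 X)
    (w : WD Om K K' J Q Q' QJ x y b c) :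
    ∀ M : Subgroup G, centralizer {zz K} ≤ M → centralizer {zz J} ≤ M → XX (x * y) ≤ M →
      XX (zz J * (x * y)) ≤ M → M = ⊤ := by
  haveI := ms.simple
  intro M hz hs ht hv
  exact TwoBG.eq_top h2.twoE ms.isType hB hC w (ms.fam_cent (w.v_ne h2.twoE (hZ_of hA)))
    (ms.fam_cent (TwoDA.t_ne h2.twoE (hZ_of hA) w)) hz hs ht hv

theorem tor (ms : MinS Om) (h2 : TwoEq Om) (hA : ¬ CaseA Om) (hodd : CoresG.OddStmt.{u})
    (hB : ∀ (X : Type u) [Group X] [Finite X] [IsSimpleGroup X], CloEnd.Bend X)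
    (hC : ∀ (X : Type u) [Group X] [Finite X] [IsSimpleGroup X], CloEnd.Crit1175 X)
    (hX : XStmt.{u}) (w : WD Om K K' J Q Q' QJ x y b c) :
    TorFunctor.Tor (AA (zz K) (x * y) (zz J)) :=
  TwoTor.tor h2.twoE (hZ_of hA) (fun X hX => hodd X hX) w
    (TwoPPz.PPz h2.twoE hodd ms.isType (ms.fam_cent (h2.hyp.zz_ne w.tt.hK)).core w)
    (pp_t ms h2 hA hodd hB hC hX w)
    (TwoPP.pp_v h2.twoE ms.isType hodd hB hC (ms.fam_cent (w.v_ne h2.twoE (hZ_of hA))) w)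

/-- **`⁅O(C(a)), A⁆ = 1`** for `a ∈ A = ⟨z, t, s⟩`, `a ≠ 1`, for every configuration -/
theorem comA (ms : MinS Om) (h2 : TwoEq Om) (hA : ¬ CaseA Om) (hodd : CoresG.OddStmt.{u})
    (hB : ∀ (X : Type u) [Group X] [Finite X] [IsSimpleGroup X], CloEnd.Bend X)
    (hC : ∀ (X : Type u) [Group X] [Finite X] [IsSimpleGroup X], CloEnd.Crit1175 X)
    (hX : XStmt.{u}) (w : WD Om K K' J Q Q' QJ x y b c) :
    ∀ a ∈ AA (zz K) (x * y) (zz J), a ≠ 1 → ∀ o ∈ XX a, ∀ e ∈ AA (zz K) (x * y) (zz J), o * e = e * o := by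
  haveI := ms.simple
  exact TwoDA.comm h2.twoE ms.isType (hZ_of hA) w (tor ms h2 hA hodd hB hC hX w) (bg ms h2 hA hB hC w)

end Cfsg.Agent.Cit.TwoCores
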