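import Cfsg.Agent.Cit.CoreTwoEq
import Cfsg.Agent.Cit.TwoCen
import Cfsg.Agent.Cit.LongLeafEnd

/-!
# `PSp₄(q)` does not occur in case (A)

`not_sp4` : if `x y = z_M` for some `x ∈ K`, `y ∈ K'` of order four, then the group is not `PSp₄(q)`: in `Sp₄(q)` the square
of `x y` is `-1`, the squares of the preimages of `z_M` are `1`.
-/

set_option autoImplicit false
set_option linter.style.haveILetI false
set_option linter.unusedSectionVars false

namespace Cfsg.Agent.Cit.TwoNoSp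

open Subgroup Cfsg Matrix Cfsg.Agent.Cit.LongAbs Cfsg.Agent.Cit.LongBlock Cfsg.Agent.Cit.LongQuot
  Cfsg.Agent.Cit.LongMain Cfsg.Agent.Cit.LongModel Cfsg.Agent.Cit.LongInst Cfsg.Agent.Cit.LongSp
  Cfsg.Agent.Cit.LongConj
open Cfsg.Agent.Cit.TwoFK (TwoEq)
open Cfsg.Agent.Cit.CoreTwoEq (CaseA Sp4)

/-! ### In `PSp₄(F)` -/

section Matrices

variable {F : Type*} [Field F]

theorem sq_of_center {d : symplecticGroup (Fin 2) F} (hd : d ∈ center (symplecticGroup (Fin 2) F)) :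
    d * d = 1 := by
  rw [LieClassical.SympCenter.mem_center_iff] at hd
  obtain ⟨δ, hδ⟩ := hd
  have h1 := LieClassical.SympCenter.sq_eq_one_of_smul_mem (m := 2) (by norm_num) (a := δ) (by rw [← hδ]; exact d.2)
  apply Subtype.ext
  change d.1 * d.1 = 1
  rw [hδ, smul_mul_smul_comm, h1, one_smul, Matrix.mul_one]

theorem neg_one_ne (h2 : (2 : F) ≠ 0) : (-1 : Matrix (Fin 2) (Fin 2) F) ≠ 1 := by
  intro h
  have h1 := congrFun (congrFun h 0) 0
  simp only [Matrix.neg_apply, Matrix.one_apply_eq] at h1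
  apply h2
  have h3 : (1 : F) + 1 = 0 := by
    nth_rewrite 1 [← h1]
    exact neg_add_cancel 1
  rw [← one_add_one_eq_two]
  exact h3

theorem false_of_mul (h2 : (2 : F) ≠ 0) {x y g : symplecticGroup (Fin 2) F ⧸ center (symplecticGroup (Fin 2) F)}
    (hx : x ∈ D1 (spRep F)) (hy : y ∈ D2 (spRep F)) (hxx : x * x = z0 (spRep F)) (hyy : y * y = z0 (spRep F))
    (h : x * y = g * z0 (spRep F) * g⁻¹) : False := by
  obtain ⟨a, ⟨P, hP⟩, rfl⟩ := hx
  obtain ⟨b, ⟨S, hS⟩, rfl⟩ := hy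
  obtain ⟨c, rfl⟩ := pr_surjective g
  have htt : (spRep F).t * (spRep F).t = 1 := (spRep F).t_sq
  have hti : (spRep F).t⁻¹ = (spRep F).t := inv_eq_of_mul_eq_one_right htt
  -- `P * P = -1`
  have hPP : P * P = -1 := by
    have h3 : a * a * (spRep F).t⁻¹ ∈ center (symplecticGroup (Fin 2) F) := by
      rw [← pr_eq_one, map_mul, map_mul, map_inv, hxx, z0, mul_inv_cancel]
    obtain ⟨k, hk⟩ := (spRep F).cen _ h3
    rw [hti, map_mul, map_mul, hP, (spRep F).t_eq, fromBlocks_multiply, fromBlocks_multiply,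
      ← fromBlocks_one, fromBlocks_smul, fromBlocks_inj] at hk
    obtain ⟨e1, -, -, e2⟩ := hk
    simp only [Matrix.mul_zero, Matrix.zero_mul, Matrix.mul_one, add_zero, zero_add, mul_neg] at e1 e2
    have e3 : k = 1 := by
      have := congrFun (congrFun e2 0) 0
      simpa using this.symm
    rw [e3, one_smul] at e1
    rw [← e1, neg_neg]
  have hSS : S * S = -1 := by
    have h3 : b * b * (spRep F).t⁻¹ ∈ center (symplecticGroup (Fin 2) F) := by
      rw [← pr_eq_one, map_mul, map_mul, map_inv, hyy, z0, mul_inv_cancel]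
    obtain ⟨k, hk⟩ := (spRep F).cen _ h3
    rw [hti, map_mul, map_mul, hS, (spRep F).t_eq, fromBlocks_multiply, fromBlocks_multiply,
      ← fromBlocks_one, fromBlocks_smul, fromBlocks_inj] at hk
    obtain ⟨e1, -, -, e2⟩ := hk
    simp only [Matrix.mul_zero, Matrix.zero_mul, Matrix.mul_one, Matrix.one_mul, add_zero, zero_add] at e1 e2
    have e3 : k = -1 := by
      have := congrFun (congrFun e1 0) 0
      simpa using this.symm
    rw [e3] at e2
    rw [e2, neg_smul, one_smul]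
  -- the product
  have h4 : a * b * (c * (spRep F).t * c⁻¹)⁻¹ ∈ center (symplecticGroup (Fin 2) F) := by
    have e := h
    rw [z0, ← map_mul, ← map_mul, ← map_inv, ← map_mul] at e
    rw [← pr_eq_one, map_mul, map_inv, e, mul_inv_cancel]
  obtain ⟨d, hd⟩ : ∃ d, d = a * b * (c * (spRep F).t * c⁻¹)⁻¹ := ⟨_, rfl⟩
  rw [← hd] at h4
  have h5 : a * b = d * (c * (spRep F).t * c⁻¹) := by rw [hd]; group
  have h6 : (a * b) * (a * b) = 1 := by
    rw [h5]
    have e1 : (c * (spRep F).t * c⁻¹) * d = d * (c * (spRep F).t * c⁻¹) := mem_center_iff.1 h4 _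
    calc d * (c * (spRep F).t * c⁻¹) * (d * (c * (spRep F).t * c⁻¹))
        = d * ((c * (spRep F).t * c⁻¹) * d) * (c * (spRep F).t * c⁻¹) := by group
      _ = (d * d) * (c * ((spRep F).t * (spRep F).t) * c⁻¹) := by rw [e1]; group
      _ = 1 := by rw [sq_of_center h4, htt]; group
  have h7 := congrArg (spRep F).ρ h6
  rw [map_mul, map_mul, map_one, hP, hS, fromBlocks_multiply, fromBlocks_multiply, ← fromBlocks_one,
    fromBlocks_inj] at h7
  have h8 := h7.1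
  simp only [Matrix.mul_zero, Matrix.zero_mul, Matrix.mul_one, add_zero] at h8
  rw [hPP] at h8
  exact neg_one_ne h2 h8

end Matrices

/-! ### Members -/

variable {G : Type*} [Group G] [Finite G] {Om : Set (Subgroup G)}

/-- **case (A) excludes `PSp₄(q)`** -/
theorem not_sp4 [IsSimpleGroup G] (h : TwoEq Om) (ty : ∀ K ∈ Om, Cit.Ty K) (hne : Om.Nonempty) (hA : CaseA Om) :
    ¬ Sp4 G := by
  rintro ⟨F, i1, i2, ho, ⟨e⟩⟩
  haveI : Fact (Nat.Prime 2) := ⟨Nat.prime_two⟩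
  have h2 : (2 : F) ≠ 0 := SignalizersComponents.SLQuasisimple.two_ne_zero_of_odd ho
  have htw : TwoE Om := h.twoE
  have B : LongLeafEnd.Base Om := ⟨h.hyp, ty, hne, fun K hK J hJ => by
    obtain ⟨g, hg⟩ := h.cls K hK J hJ
    exact ⟨g, hg.symm⟩, inferInstance⟩
  obtain ⟨K0, hK0⟩ := id hne
  obtain ⟨S0, -, hS0⟩ := CoreTwoEq.exists_sylow_central h hK0
  have hc : LongLeafEnd.TwoCen Om := ⟨K0, hK0, S0, hS0⟩
  have B' := B.map e
  obtain ⟨K, hK, S, hS⟩ := hc.map B e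
  obtain ⟨g, hg⟩ := LongTwo.sp4_two_central ho S (B'.hyp.zz_mul hK) (B'.hyp.zz_ne hK) hS
  obtain ⟨g, hg⟩ := (LongLeafEnd.sp_leaf ho).exists_cj B'.hyp hK (B'.ty K hK) hg
  have hD1 : D1 (spRep F) ∈ Cit.img e.toMonoidHom Om := by rw [← hg]; exact B'.hyp.conj K hK g
  obtain ⟨s, hs, hsD⟩ : ∃ s, s * z0 (spRep F) * s⁻¹ = z0 (spRep F) ∧
      (D2 (spRep F)).map (MulAut.conj s).toMonoidHom = D1 (spRep F) := by
    apply sp_swap'
    obtain ⟨f⟩ := (spRep_model F).equiv2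
    obtain ⟨f'⟩ := un_empty_equiv (F := F) (Fin 2)
    exact ⟨f.trans f'⟩
  have hsD' : D2 (spRep F) = Cit.cj s⁻¹ (D1 (spRep F)) := by
    rw [← hsD]
    change _ = Cit.cj s⁻¹ (Cit.cj s (D2 (spRep F)))
    rw [Cit.cj_inv_cj]
  have hD2 : D2 (spRep F) ∈ Cit.img e.toMonoidHom Om := by rw [hsD']; exact B'.hyp.conj _ hD1 _
  -- the involutions
  have hcomm12 : ∀ x ∈ D1 (spRep F), ∀ y ∈ D2 (spRep F), x * y = y * x := by
    rintro _ ⟨a, ha, rfl⟩ _ ⟨b, hb, rfl⟩
    rw [← map_mul, ← map_mul, (spRep F).comm_E1_E2 ha hb]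
  have hz1 : zz (D1 (spRep F)) = z0 (spRep F) := by
    symm
    refine B'.hyp.uniq _ hD1 _ ⟨_, (spRep F).t_mem, rfl⟩ (orderOf_eq_prime (by rw [pow_two]; exact z0_mul) ?_)
    intro h3
    have h4 := E1_center _ (spRep F).t_mem (pr_eq_one.1 h3)
    have h5 := congrArg (spRep F).ρ h4
    rw [(spRep F).t_eq, map_one, ← fromBlocks_one, fromBlocks_inj] at h5
    exact neg_one_ne h2 h5.1
  have hz2 : zz (D2 (spRep F)) = z0 (spRep F) := by
    rw [hsD', B'.hyp.zz_cj hD1, hz1]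
    nth_rewrite 1 [← hs]
    group
  have hne12 : D1 (spRep F) ≠ D2 (spRep F) := by
    intro h3
    refine B'.hyp.not_le_centralizer_self hD1 fun x hx => mem_centralizer_iff.2 fun y hy => ?_
    exact (hcomm12 x hx y (h3 ▸ hy)).symm
  -- the isomorphism as a central quotient
  have c : Cen Om e.toMonoidHom :=
    { two := htw
      ne := hne
      ty := fun K hK => (ty K hK).isType.tyTwo
      surj := e.surjective
      cen := by rw [(MonoidHom.ker_eq_bot_iff _).2 e.injective]; exact bot_le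
      pg := by rw [(MonoidHom.ker_eq_bot_iff _).2 e.injective]; exact IsPGroup.of_bot
      inf := fun K _ => by rw [(MonoidHom.ker_eq_bot_iff _).2 e.injective, inf_bot_eq] }
  obtain ⟨A, A', x, y, p, M, hM, hxy⟩ := hA
  obtain ⟨x0, hx0, ox0⟩ : ∃ x ∈ D1 (spRep F), orderOf x = 4 := by
    obtain ⟨Q, hQ⟩ := Hyp.exists_syl (D1 (spRep F))
    obtain ⟨u, v, n, gq⟩ := B'.hyp.exists_gq hD1 hQ
    exact ⟨v, hQ.1 gq.v_mem, gq.orderOf_v⟩
  obtain ⟨y0, hy0, oy0⟩ : ∃ x ∈ D2 (spRep F), orderOf x = 4 := by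
    obtain ⟨Q, hQ⟩ := Hyp.exists_syl (D2 (spRep F))
    obtain ⟨u, v, n, gq⟩ := B'.hyp.exists_gq hD2 hQ
    exact ⟨v, hQ.1 gq.v_mem, gq.orderOf_v⟩
  have hcomm : x0 * y0 = y0 * x0 := hcomm12 x0 hx0 y0 hy0
  have hp2 : IsPGroup 2 (zpowers x0) := by
    rw [IsPGroup.iff_card]; exact ⟨2, by rw [Nat.card_zpowers, ox0]; norm_num⟩
  have hp2' : IsPGroup 2 (zpowers y0) := by
    rw [IsPGroup.iff_card]; exact ⟨2, by rw [Nat.card_zpowers, oy0]; norm_num⟩
  have p0 : TTp (Cit.img e.toMonoidHom Om) (D1 (spRep F)) (D2 (spRep F)) x0 y0 := by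
    refine ⟨hD1, hD2, hne12, by rw [hz1, hz2], hx0, hy0, ox0, oy0, zpowers x0 ⊔ zpowers y0,
      hp2.to_sup_of_normal_right' hp2' ?_, mem_sup_left (mem_zpowers _), mem_sup_right (mem_zpowers _)⟩
    rw [zpowers_le]
    refine OneBasic.mem_normalizer_of_cent fun w hw => ?_
    obtain ⟨k, rfl⟩ := hw
    exact (Commute.zpow_right hcomm k)
  obtain ⟨a, ha, -, -⟩ := c.twoE.conj_any_top c.ty_img (c.map_pair p) p0
  have h5 : x0 * y0 = a * zz (M.map e.toMonoidHom) * a⁻¹ := by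
    rw [← ha, c.zz_map hM, ← map_mul, hxy]
  obtain ⟨b, hb⟩ := B'.cls _ ⟨M, hM, rfl⟩ _ hD1
  have h6 : zz (M.map e.toMonoidHom) = b⁻¹ * z0 (spRep F) * b := by
    have e1 : M.map e.toMonoidHom = Cit.cj b⁻¹ (D1 (spRep F)) := by rw [hb, Cit.cj_inv_cj]
    rw [e1, B'.hyp.zz_cj hD1, hz1, inv_inv]
  have hxx := B'.hyp.sq_eq_zz hD1 hx0 ox0
  have hyy := B'.hyp.sq_eq_zz hD2 hy0 oy0
  rw [hz1] at hxx
  rw [hz2] at hyy
  refine false_of_mul h2 hx0 hy0 hxx hyy (g := a * b⁻¹) ?_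
  rw [h5, h6]
  group

end Cfsg.Agent.Cit.TwoNoSp
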