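import Cfsg.Agent.Cit.EqTorZ
import Cfsg.Agent.Cit.TwoWT
import Cfsg.Agent.Cit.CTEnd

/-!
# Branch (B), R18, Z3: (TOR) and (2B) of THEOREM F for `A = ⟨z, t, s⟩` at `b = z`

`t = x y`, `z = zz K`, `s = zz J`, `v = s t` as in `WD`. Every component `L` of `C(z) / O(C(z))` is contained in `K̄` or
`K̄'` and centralised by `v̄`, or centralised by `K̄` and `K̄'`, hence by `t̄`: always `|A : C_A(L)| ≤ 2`.
-/

set_option autoImplicit false
set_option linter.style.haveILetI false
set_option linter.unusedSectionVars false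

namespace Cfsg.Agent.Cit.TwoPPz

open Subgroup Cfsg Cfsg.Agent.Cit SubCent UseT Cfsg.Agent.Cit.Comp
open Cfsg.Agent.Cit.EqCfg (AA E3 PP)
open Cfsg.Agent.SignalizersComponents.Components
open scoped commutatorElement

universe u

variable {G : Type u} [Group G] [Finite G] {Om : Set (Subgroup G)} {K K' J Q Q' QJ : Subgroup G} {x y b c : G}

/-- the involutions `z`, `t`, `s` commute -/
theorem e3 (h : TwoE Om) (w : WD Om K K' J Q Q' QJ x y b c) : E3 (zz K) (x * y) (zz J) where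
  zz := h.hyp.zz_mul w.tt.hK
  tt := w.tt.sq h.hyp
  ss := h.hyp.zz_mul w.hJ
  zt := w.zt h.hyp
  zs := (w.sz h.hyp).symm
  ts := w.st.symm

theorem AA_le (h : TwoE Om) (w : WD Om K K' J Q Q' QJ x y b c) :
    AA (zz K) (x * y) (zz J) ≤ centralizer {zz K} :=
  EqCfg.AA_le_iff.2 ⟨mem_centralizer_singleton_iff.2 rfl, mem_centralizer_singleton_iff.2 (w.zt h.hyp).symm,
    mem_centralizer_singleton_iff.2 (w.sz h.hyp)⟩

/-- an element centralising a Sylow 2-subgroup of `L` centralises the trace of `L` -/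
theorem comm_tr_of_syl (h : TwoE Om) (ty : ∀ K ∈ Om, IsType K) {H : Subgroup G} (hc : ∀ J ∈ fam Om H, OO J = ⊥)
    {L R : Subgroup G} (hL : L ∈ cov Om H) (hR : Syl R L) (hRH : R ≤ H) {v : G} (hv : v ∈ H) (hvv : v * v = 1)
    (hvR : ∀ q ∈ R, v * q = q * v) : qm H ⟨v, hv⟩ ∈ centralizer (tr H L : Set (HQ H)) := by
  rw [mem_centralizer_iff]
  intro k hk
  refine (CTEnd.comm_K (hyp_fam h.hyp ty H) (tr_mem hL) (ty_fam ty H _ (tr_mem hL)).isType (hc _ (tr_mem hL))
    (syl_tr ty hL hR hRH) ?_ ?_ k hk).symm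
  · rw [← map_mul]
    have : (⟨v, hv⟩ : H) * ⟨v, hv⟩ = 1 := Subtype.ext hvv
    rw [this, map_one]
  · rintro _ ⟨q, hq, rfl⟩
    rw [← map_mul, ← map_mul]
    congr 1
    exact Subtype.ext (hvR q hq).symm

/-- a component is contained in the trace of a member with involution `z` or centralised by it -/
theorem comp_or (h : TwoE Om) (ty : ∀ K ∈ Om, IsType K) {H L : Subgroup G} (hH : H ≤ centralizer {zz L})
    (hc : ∀ J ∈ fam Om H, OO J = ⊥) (hL : L ∈ cov Om H) {E : Subgroup (HQ H)} (hE : IsComponent E) :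
    E ≤ tr H L ∨ tr H L ≤ centralizer (E : Set (HQ H)) := by
  have h1 := px_eq_tr_of_central h.hyp ty hc hL hH
  have h2 := CoresH.pc_isSubnormal (hyp_fam h.hyp ty H) (tr_mem hL)
  rw [← px, h1] at h2
  rcases component_le_or_commutator_eq_bot hE h2 with h3 | h3
  · exact Or.inl h3
  · right
    rw [commutator_comm, commutator_eq_bot_iff_le_centralizer] at h3
    exact h3

theorem relIndex_comp (h : TwoE Om) (ty : ∀ K ∈ Om, IsType K) (w : WD Om K K' J Q Q' QJ x y b c)
    {H : Subgroup G} (hH : H = centralizer {zz K}) (hc : ∀ J ∈ fam Om H, OO J = ⊥) {E : Subgroup (HQ H)}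
    (hE : IsComponent E) : (centralizer (E : Set (HQ H))).relIndex
      (((AA (zz K) (x * y) (zz J)).subgroupOf H).map (qm H)) ≤ 2 := by
  have hA : AA (zz K) (x * y) (zz J) ≤ H := by rw [hH]; exact AA_le h w
  have hzH : zz K ∈ H := hA (EqCfg.z_mem _ _ _)
  have htH : x * y ∈ H := hA (EqCfg.t_mem _ _ _)
  have hsH : zz J ∈ H := hA (EqCfg.s_mem _ _ _)
  have hKH : K ≤ H := by rw [hH]; exact h.hyp.le_centralizer w.tt.hK
  have hKH' : K' ≤ H := by
    have := h.hyp.le_centralizer w.tt.hK'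
    rwa [w.tt.hz, ← hH] at this
  have hK : K ∈ cov Om H := mem_cov_of_le w.tt.hK hKH
  have hK' : K' ∈ cov Om H := mem_cov_of_le w.tt.hK' hKH'
  rw [EqCfg.subgroupOf_AA hzH htH hsH, EqCfg.map_AA]
  have h3 := ((e3 h w).sub hzH htH hsH).map (qm H)
  have hzC : qm H ⟨zz K, hzH⟩ ∈ centralizer (E : Set (HQ H)) := by
    rw [mem_centralizer_iff]
    intro l _
    obtain ⟨y, rfl⟩ := qm_surjective H l
    rw [← map_mul, ← map_mul]
    congr 1
    refine Subtype.ext (mem_centralizer_singleton_iff.1 ?_)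
    rw [← hH]; exact y.2
  have hvH : zz J * (x * y) ∈ H := mul_mem hsH htH
  have hts : qm H ⟨x * y, htH⟩ * qm H ⟨zz J, hsH⟩ = qm H ⟨zz J * (x * y), hvH⟩ := by
    rw [← map_mul]
    congr 1
    exact Subtype.ext w.st.symm
  refine h3.relIndex_le hzC ?_
  rcases comp_or h ty (H := H) (L := K) hH.le hc hK hE with h1 | h1
  · right; right
    rw [hts]
    exact centralizer_le (s := (E : Set (HQ H))) (t := (tr H K : Set (HQ H))) h1
      (comm_tr_of_syl h ty hc hK w.hQ (w.hQ.1.trans hKH) hvH (w.vv h.hyp) w.vQ)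
  · rcases comp_or h ty (H := H) (L := K') (by rw [w.tt.hz, hH]) hc hK' hE with h2 | h2
    · right; right
      rw [hts]
      exact centralizer_le (s := (E : Set (HQ H))) (t := (tr H K' : Set (HQ H))) h2
        (comm_tr_of_syl h ty hc hK' w.hQ' (w.hQ'.1.trans hKH') hvH (w.vv h.hyp) w.vQ')
    · left
      have hx : qm H ⟨x, hKH w.tt.hx⟩ ∈ tr H K := by
        refine mem_tr ty hK w.tt.hx (a := 2) (Subtype.ext ?_)
        change x ^ 2 ^ 2 = 1
        have := pow_orderOf_eq_one x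
        rwa [w.tt.ox] at this
      have hy : qm H ⟨y, hKH' w.tt.hy⟩ ∈ tr H K' := by
        refine mem_tr ty hK' w.tt.hy (a := 2) (Subtype.ext ?_)
        change y ^ 2 ^ 2 = 1
        have := pow_orderOf_eq_one y
        rwa [w.tt.oy] at this
      have e1 : qm H ⟨x * y, htH⟩ = qm H ⟨x, hKH w.tt.hx⟩ * qm H ⟨y, hKH' w.tt.hy⟩ := by
        rw [← map_mul]; rfl
      rw [e1]
      exact mul_mem (h1 hx) (h2 hy)

/-- **THEOREM F at `z`** -/
theorem PPz (h : TwoE Om) (hodd : CoresG.OddStmt.{u}) (ty : ∀ K ∈ Om, IsType K)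
    (hc : ∀ J ∈ fam Om (centralizer {zz K}), OO J = ⊥) (w : WD Om K K' J Q Q' QJ x y b c) :
    PP (AA (zz K) (x * y) (zz J)) (zz K) := by
  have h3 := e3 h w
  have hA := AA_le h w
  have hev : EvQ (HQ (centralizer ({zz K} : Set G))) := hodd.evQ _
  constructor
  · intro a ha _
    refine CoreTools.tor_of_comp (qm_surjective _) (ker_qm _) hev (fun x hx y hy => h3.comm hx hy)
      (fun x hx => h3.sq hx) hA ha ?_
    intro L hL _ _ h4
    exact absurd (relIndex_comp h ty w rfl hc hL) (by omega)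
  · intro B hB h4
    refine CoreTools.two_of_comp (qm_surjective _) (ker_qm _) hev (fun x hx => h3.sq hx) hB ?_
      (EqCfg.z_mem _ _ _) hA ?_
    · rintro rfl
      rw [card_bot] at h4; omega
    · intro L hL hall
      exfalso
      obtain ⟨a, ha, b, hb, ha1, hb1, hab⟩ := EqCfg.exists_two_ne h4
      have hab1 : a * b ≠ 1 := by
        intro h5
        apply hab
        have h6 := h3.sq (hB ha)
        exact (mul_left_cancel (h6.trans h5.symm))
      have h5 := EqCfg.mul_mem_of_relIndex (relIndex_comp h ty w rfl hc hL)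
        (a := qm (centralizer {zz K}) ⟨a, hA (hB ha)⟩) (b := qm (centralizer {zz K}) ⟨b, hA (hB hb)⟩)
        ⟨⟨a, hA (hB ha)⟩, hB ha, rfl⟩ ⟨⟨b, hA (hB hb)⟩, hB hb, rfl⟩ (hall a ha ha1).2 (hall b hb hb1).2
      rw [← map_mul] at h5
      exact (hall (a * b) (mul_mem ha hb) hab1).2 h5

end Cfsg.Agent.Cit.TwoPPz
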