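import Cfsg.Agent.Cit.TwoBG
import Cfsg.Agent.Cit.EqTorZ

/-!
# `PP A u` from `C(u) / O(C(u))`, `A = ⟨z, u, s⟩`

`pp_of` : THEOREM F's conditions (TOR), (2B) at `u` for the eight-group `A = ⟨z, u, s⟩`: in `X = C(u) / O(C(u))`, where
`u` is central, it is enough that `XX z`, `XX s`, `XX (z s)` commute with `z`, `s` and have trivial intersection.
-/

set_option autoImplicit false
set_option linter.style.haveILetI false
set_option linter.unusedSectionVars false

namespace Cfsg.Agent.Cit.TwoPU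

open Subgroup Cfsg UseT EqCfg TwoBG
open scoped commutatorElement

universe u

section

variable {X : Type*} [Group X]

/-- the centralisers of `a` and `u a` are equal if `u` is central -/
theorem XX_mul_central {u a : X} (hu : ∀ g, g * u = u * g) : XX (u * a) = XX a := by
  have h : centralizer ({u * a} : Set X) = centralizer {a} := by
    ext g
    rw [mem_centralizer_singleton_iff, mem_centralizer_singleton_iff]
    constructor
    · intro h1
      have h2 : u * (g * a) = u * (a * g) := by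
        rw [← mul_assoc, ← hu g, mul_assoc, h1, mul_assoc]
      exact mul_left_cancel h2
    · intro h1
      rw [← mul_assoc, hu g, mul_assoc, h1, mul_assoc]
  rw [XX, XX, h]

theorem card_AA_le [Finite X] {z t s : X} (e : E3 z t s) : Nat.card (AA z t s) ≤ 8 := by
  have h1 : ((AA z t s : Subgroup X) : Set X) ⊆ {1, z, t, z * t, s, z * s, t * s, z * t * s} := by
    intro a ha
    rcases e.cases ha with (rfl | rfl | rfl | rfl) | (rfl | rfl | rfl | rfl) <;> simp
  have h2 := Set.ncard_le_ncard h1 (Set.toFinite _)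
  have h3 : ({1, z, t, z * t, s, z * s, t * s, z * t * s} : Set X).ncard ≤ 8 := by
    refine (Set.ncard_insert_le _ _).trans (Nat.succ_le_succ ?_)
    refine (Set.ncard_insert_le _ _).trans (Nat.succ_le_succ ?_)
    refine (Set.ncard_insert_le _ _).trans (Nat.succ_le_succ ?_)
    refine (Set.ncard_insert_le _ _).trans (Nat.succ_le_succ ?_)
    refine (Set.ncard_insert_le _ _).trans (Nat.succ_le_succ ?_)
    refine (Set.ncard_insert_le _ _).trans (Nat.succ_le_succ ?_)
    refine (Set.ncard_insert_le _ _).trans (Nat.succ_le_succ ?_)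
    rw [Set.ncard_singleton]
  exact h2.trans h3

/-- a four-group of `⟨z, t, s⟩` has index at most two -/
theorem relIndex_le_two [Finite X] {z t s : X} (e : E3 z t s) {B : Subgroup X} (hB : B ≤ AA z t s)
    (h4 : Nat.card B = 4) : B.relIndex (AA z t s) ≤ 2 := by
  have h1 := relIndex_mul_relIndex (⊥ : Subgroup X) B (AA z t s) bot_le hB
  rw [relIndex_bot_left, relIndex_bot_left, h4] at h1
  have h2 := card_AA_le e
  omega

end

variable {G : Type u} [Group G] [Finite G]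

theorem pp_of {z t s w : G} (e : E3 z t s) (hw : w ∈ AA z t s) (hw1 : w ≠ 1)
    (hA : AA z t s ≤ centralizer {w})
    (htor : ∀ a (ha : a ∈ AA z t s), a ≠ 1 → a ≠ w → ∀ o ∈ XX (qm (centralizer {w}) ⟨a, hA ha⟩),
      ∀ b (hb : b ∈ AA z t s), o * qm _ ⟨b, hA hb⟩ = qm _ ⟨b, hA hb⟩ * o)
    (htwo : ∀ o : HQ (centralizer {w}), (∀ a (ha : a ∈ AA z t s), a ≠ 1 → a ≠ w →
      o ∈ XX (qm (centralizer {w}) ⟨a, hA ha⟩)) → o = 1) : PP (AA z t s) w := by
  constructor
  · intro a ha ha1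
    rw [commutator_le]
    intro x hx c hc
    by_cases haw : a = w
    · subst haw
      have h1 := CoreTools.conj_mem_XX (c := c) (a := a) (mem_centralizer_singleton_iff.1 (hA hc))
        ((XX a).inv_mem hx.1)
      have h2 : ⁅x, c⁆ = x * (c * x⁻¹ * c⁻¹) := by rw [commutatorElement_def]; group
      rw [h2]
      exact (XX a).mul_mem hx.1 h1
    · have h1 := CoresG.qm_mem_XX (H := centralizer {w}) (b := ⟨a, hA ha⟩) (x := ⟨x, hx.2⟩)
        (Subtype.ext (e.sq ha)) hx.1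
      have h2 := htor a ha ha1 haw _ h1 c hc
      have h3 : qm (centralizer {w}) (⁅(⟨x, hx.2⟩ : centralizer ({w} : Set G)), ⟨c, hA hc⟩⁆) = 1 := by
        rw [map_commutatorElement]
        exact commutatorElement_eq_one_iff_mul_comm.2 h2
      exact (CoresG.mem_ker_iff _).1 h3
  · intro B hB h4
    by_cases hwB : w ∈ B
    · exact inf_le_left.trans (Del_le hwB hw1)
    · rintro g ⟨hg, hgA⟩
      have hgw : g ∈ centralizer ({w} : Set G) :=
        mem_centralizer_singleton_iff.2 (mem_centralizer_iff.1 hgA w hw).symm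
      have hidx : ∀ a ∈ AA z t s, a ∈ B ∨ w * a ∈ B := by
        intro a ha
        by_cases haB : a ∈ B
        · exact Or.inl haB
        · exact Or.inr (mul_mem_of_relIndex (relIndex_le_two e hB h4) hw ha hwB haB)
      refine (CoresG.mem_ker_iff _).1 (htwo (qm _ ⟨g, hgw⟩) (fun a ha ha1 haw => ?_))
      rcases hidx a ha with h2 | h2
      · exact CoresG.qm_mem_XX (b := ⟨a, hA ha⟩) (x := ⟨g, hgw⟩) (Subtype.ext (e.sq ha)) (Del_le h2 ha1 hg)
      · have hwa : w * a ≠ 1 := by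
          intro h5
          apply haw
          rw [eq_comm, eq_inv_of_mul_eq_one_left h5]
          exact inv_eq_of_mul_eq_one_right (e.sq ha)
        have h3 := CoresG.qm_mem_XX (b := ⟨w * a, hA (mul_mem hw ha)⟩) (x := ⟨g, hgw⟩)
          (Subtype.ext (e.sq (mul_mem hw ha))) (Del_le h2 hwa hg)
        have h6 : qm (centralizer {w}) ⟨w * a, hA (mul_mem hw ha)⟩ =
            qm (centralizer {w}) ⟨w, hA hw⟩ * qm (centralizer {w}) ⟨a, hA ha⟩ := by
          rw [← map_mul]; rfl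
        rwa [h6, XX_mul_central (central (hA hw) rfl)] at h3

/-- **`PP A u`, `A = ⟨z, u, s⟩`**, from `XX z`, `XX s`, `XX (z s)` in `C(u) / O(C(u))` -/
theorem pp_of' {z w s : G} (e : E3 z w s) (hw1 : w ≠ 1) (hz1 : z ≠ 1) (hzw : z ≠ w) (hs1 : s ≠ 1) (hsw : s ≠ w)
    (hzs1 : z * s ≠ 1) (hzsw : z * s ≠ w) (hz : z ∈ centralizer {w}) (hs : s ∈ centralizer {w})
    (hzX : ∀ o ∈ XX (qm (centralizer {w}) ⟨z, hz⟩), o * qm _ ⟨s, hs⟩ = qm _ ⟨s, hs⟩ * o)
    (hsX : ∀ o ∈ XX (qm (centralizer {w}) ⟨s, hs⟩), o * qm _ ⟨z, hz⟩ = qm _ ⟨z, hz⟩ * o)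
    (hzsX : ∀ o ∈ XX (qm (centralizer {w}) ⟨z, hz⟩ * qm (centralizer {w}) ⟨s, hs⟩),
      o * qm _ ⟨z, hz⟩ = qm _ ⟨z, hz⟩ * o)
    (hth : ∀ o ∈ XX (qm (centralizer {w}) ⟨z, hz⟩), o ∈ XX (qm (centralizer {w}) ⟨s, hs⟩) →
      o ∈ XX (qm (centralizer {w}) ⟨z, hz⟩ * qm (centralizer {w}) ⟨s, hs⟩) → o = 1) : PP (AA z w s) w := by
  have hwH : w ∈ centralizer ({w} : Set G) := mem_centralizer_singleton_iff.2 rfl
  have hA : AA z w s ≤ centralizer {w} := AA_le_iff.2 ⟨hz, hwH, hs⟩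
  obtain ⟨Z, hZ⟩ : ∃ Z, Z = qm (centralizer {w}) ⟨z, hz⟩ := ⟨_, rfl⟩
  obtain ⟨S, hS⟩ : ∃ S, S = qm (centralizer {w}) ⟨s, hs⟩ := ⟨_, rfl⟩
  obtain ⟨W, hW⟩ : ∃ W, W = qm (centralizer {w}) ⟨w, hwH⟩ := ⟨_, rfl⟩
  have hWc : ∀ g, g * W = W * g := by rw [hW]; exact central hwH rfl
  rw [← hZ, ← hS] at hzX hsX hzsX hth
  have eq1 : ∀ a (ha : a ∈ AA z w s), qm (centralizer {w}) ⟨a, hA ha⟩ = 1 ∨
      (a ≠ 1 → a ≠ w → ∃ Y, (Y = Z ∨ Y = S ∨ Y = Z * S) ∧
        XX (qm (centralizer {w}) ⟨a, hA ha⟩) = XX Y) := by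
    intro a ha
    rcases e.cases ha with (rfl | rfl | rfl | rfl) | (rfl | rfl | rfl | rfl)
    · left; rw [← map_one (qm _)]; rfl
    · right; intro _ _; exact ⟨Z, Or.inl rfl, by rw [hZ]⟩
    · right; intro _ h; exact absurd rfl h
    · right; intro _ _
      refine ⟨Z, Or.inl rfl, ?_⟩
      have h1 : qm (centralizer {w}) ⟨z * w, hA ha⟩ = W * Z := by
        rw [← hWc, hZ, hW, ← map_mul]; rfl
      rw [h1, XX_mul_central hWc]
    · right; intro _ _; exact ⟨S, Or.inr (Or.inl rfl), by rw [hS]⟩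
    · right; intro _ _
      refine ⟨Z * S, Or.inr (Or.inr rfl), ?_⟩
      have h1 : qm (centralizer {w}) ⟨z * s, hA ha⟩ = Z * S := by
        rw [hZ, hS, ← map_mul]; rfl
      rw [h1]
    · right; intro _ _
      refine ⟨S, Or.inr (Or.inl rfl), ?_⟩
      have h1 : qm (centralizer {w}) ⟨w * s, hA ha⟩ = W * S := by
        rw [hS, hW, ← map_mul]; rfl
      rw [h1, XX_mul_central hWc]
    · right; intro _ _
      refine ⟨Z * S, Or.inr (Or.inr rfl), ?_⟩
      have h1 : qm (centralizer {w}) ⟨z * w * s, hA ha⟩ = W * (Z * S) := by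
        rw [← mul_assoc, ← hWc Z, hZ, hS, hW, ← map_mul, ← map_mul]; rfl
      rw [h1, XX_mul_central hWc]
  have hself : ∀ (Y o : HQ (centralizer {w})), o ∈ XX Y → o * Y = Y * o := fun Y o ho =>
    CoreTools.comm_of_mem_XX ho
  have key : ∀ Y o : HQ (centralizer {w}), (Y = Z ∨ Y = S ∨ Y = Z * S) → o ∈ XX Y → o * Z = Z * o ∧ o * S = S * o := by
    rintro Y o (rfl | rfl | rfl) ho
    · exact ⟨hself _ _ ho, hzX _ ho⟩
    · exact ⟨hsX _ ho, hself _ _ ho⟩
    · have h1 := hzsX _ ho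
      refine ⟨h1, ?_⟩
      have h2 := hself _ _ ho
      have h3 : Z * (o * S) = Z * (S * o) := by
        rw [← mul_assoc, ← h1, mul_assoc, h2, mul_assoc]
      exact mul_left_cancel h3
  refine pp_of e (t_mem z w s) hw1 hA ?_ ?_
  · intro a ha ha1 haw o ho b hb
    rcases eq1 a ha with h1 | h1
    · -- the image of `a` is trivial
      rw [h1] at ho
      have h2 : XX (1 : HQ (centralizer {w})) ≤ ⊥ := by
        rw [← CoresG.core_HQ (centralizer {w})]
        intro r hr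
        have h5 : centralizer ({1} : Set (HQ (centralizer {w}))) = ⊤ := by
          rw [eq_top_iff]; intro q _; rw [mem_centralizer_singleton_iff]; simp
        rw [XX, h5] at hr
        obtain ⟨r', hr', rfl⟩ := hr
        have h6 := Lib.Cores.map_equiv_pPrimeCore (Subgroup.topEquiv (G := HQ (centralizer {w}))) 2
        rw [← h6]
        exact ⟨r', hr', rfl⟩
      rw [(mem_bot.1 (h2 ho))]
      simp
    · obtain ⟨Y, hY, hYe⟩ := h1 ha1 haw
      rw [hYe] at ho
      obtain ⟨h2, h3⟩ := key Y o hY ho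
      have h4 : AA Z W S ≤ centralizer {o} := AA_le_iff.2 ⟨mem_centralizer_singleton_iff.2 h2.symm,
        mem_centralizer_singleton_iff.2 (hWc o).symm, mem_centralizer_singleton_iff.2 h3.symm⟩
      have h5 : qm (centralizer {w}) ⟨b, hA hb⟩ ∈ AA Z W S := by
        rw [hZ, hW, hS, ← map_AA, ← subgroupOf_AA]
        exact ⟨⟨b, hA hb⟩, hb, rfl⟩
      exact (mem_centralizer_singleton_iff.1 (h4 h5)).symm
  · intro o ho
    have h1 := ho z (z_mem z w s) hz1 hzw
    have h2 := ho s (s_mem z w s) hs1 hsw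
    have h3 := ho (z * s) (mul_mem (z_mem z w s) (s_mem z w s)) hzs1 hzsw
    have h4 : qm (centralizer {w}) ⟨z * s, hA (mul_mem (z_mem z w s) (s_mem z w s))⟩ = Z * S := by
      rw [hZ, hS, ← map_mul]; rfl
    rw [h4] at h3
    rw [← hZ] at h1
    rw [← hS] at h2
    exact hth o h1 h2 h3

end Cfsg.Agent.Cit.TwoPU
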