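import Cfsg.Agent.Cit.OneQuat

/-!
# An involution acting on a generalized quaternion group and centralising no element of order four

`exists_conj_of_quat`: if `s` inverts `x ∈ Q` of order four, `s` is `Q`-conjugate to `s x`.
-/

set_option autoImplicit false
set_option linter.style.haveILetI false
set_option linter.unusedSectionVars false

namespace Cfsg.Agent.Cit.TwoX

open Subgroup Cfsg

variable {X : Type*} [Group X]

/-- **(X1), semidihedral case** -/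
theorem exists_conj_of_quat {Q : Subgroup X} {c v z : X} {n : ℕ} (g : GQ Q c v z n) {s x : X} (hss : s * s = 1)
    (hsQ : s ∈ normalizer (Q : Set X)) (hsc : s * c * s⁻¹ ∈ zpowers c)
    (hno : ∀ k ∈ Q, k * k = z → k * s ≠ s * k) (hx : x ∈ Q) (hxx : x * x = z) (hinv : s * x * s⁻¹ = x⁻¹) :
    ∃ a ∈ Q, a * s * a⁻¹ = s * x := by
  have hsi : s⁻¹ = s := inv_eq_of_mul_eq_one_right hss
  obtain ⟨k, hk⟩ : ∃ k : ℤ, s * c * s⁻¹ = c ^ k := by
    obtain ⟨k, hk⟩ := hsc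
    exact ⟨k, hk.symm⟩
  obtain ⟨j, hj⟩ := g.exists_act hsQ (by rw [hsi]; rw [hsi] at hsc; exact hsc)
  have hcp : ∀ i : ℤ, s * c ^ i * s⁻¹ = c ^ (k * i) := by
    intro i
    rw [← conj_zpow, hk, ← zpow_mul]
  -- `k * k = 1`
  have h1 : (2 : ℤ) ^ (n + 2) ∣ k * k - 1 := by
    rw [← g.zpow_eq_one_iff, zpow_sub, zpow_one, mul_inv_eq_one]
    calc c ^ (k * k) = s * c ^ k * s⁻¹ := (hcp k).symm
      _ = s * (s * c * s⁻¹) * s⁻¹ := by rw [hk]
      _ = (s * s) * c * (s * s)⁻¹ := by group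
      _ = c := by rw [hss]; group
  -- `j (1 + k) = 0`
  have h2 : (2 : ℤ) ^ (n + 2) ∣ j * (1 + k) := by
    rw [← g.zpow_eq_one_iff]
    have h3 : v = v * (c ^ j * c ^ (k * j)) := by
      calc v = (s * s) * v * (s * s)⁻¹ := by rw [hss]; group
        _ = s * (s * v * s⁻¹) * s⁻¹ := by group
        _ = s * (v * c ^ j) * s⁻¹ := by rw [hj]
        _ = (s * v * s⁻¹) * (s * c ^ j * s⁻¹) := by group
        _ = v * (c ^ j * c ^ (k * j)) := by rw [hj, hcp, mul_assoc]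
    have h4 : c ^ j * c ^ (k * j) = 1 := mul_left_cancel (h3.symm.trans (mul_one v).symm)
    rw [← zpow_add] at h4
    rw [← h4]
    congr 1
    ring
  have h4dvd : (4 : ℤ) ∣ (2 : ℤ) ^ (n + 2) := ⟨2 ^ n, by rw [pow_add]; ring⟩
  have hkodd : ¬ (2 : ℤ) ∣ k := by
    rintro ⟨m, rfl⟩
    have h3 := h4dvd.trans h1
    obtain ⟨d, hd⟩ := h3
    have : (2 : ℤ) ∣ 1 := ⟨m * (2 * m) - 2 * d, by linarith⟩
    omega
  -- the element of order four of `⟨c⟩`
  have hw : ¬ (4 : ℤ) ∣ k - 1 := by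
    rintro ⟨m, hm⟩
    apply hno (c ^ 2 ^ n) (Q.pow_mem g.c_mem _) g.w_sq
    have h3 : s * c ^ 2 ^ n * s⁻¹ = c ^ 2 ^ n := by
      have h5 := hcp (2 ^ n : ℤ)
      have h6 : c ^ ((2 : ℤ) ^ n) = c ^ 2 ^ n := by rw [← zpow_natCast c (2 ^ n)]; push_cast; rfl
      rw [h6] at h5
      rw [h5]
      have h7 : k * (2 : ℤ) ^ n = 2 ^ n + 2 ^ (n + 2) * m := by
        have : k = 4 * m + 1 := by linarith
        rw [this, pow_add]; ring
      rw [h7, zpow_add, h6, zpow_mul, (g.zpow_eq_one_iff _).2 (dvd_refl _), one_zpow, mul_one]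
    rw [mul_inv_eq_iff_eq_mul] at h3
    exact h3.symm
  obtain ⟨m, hm⟩ : ∃ m : ℤ, k - 1 = 2 * (2 * m + 1) := ⟨(k - 3) / 4, by omega⟩
  -- `j` is odd
  have hjodd : ¬ (2 : ℤ) ∣ j := by
    rintro ⟨i, rfl⟩
    have hcop : IsCoprime (2 * m + 1 : ℤ) ((2 : ℤ) ^ (n + 1)) := by
      apply IsCoprime.pow_right
      exact ⟨1, -m, by ring⟩
    obtain ⟨r, t, hrt⟩ := hcop
    apply hno (v * c ^ (-(i * r))) (Q.mul_mem g.v_mem (Q.zpow_mem g.c_mem _))
    · calc (v * c ^ (-(i * r))) * (v * c ^ (-(i * r))) = v * (c ^ (-(i * r)) * v) * c ^ (-(i * r)) := by group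
        _ = v * (v * c ^ (i * r)) * c ^ (-(i * r)) := by rw [g.zpow_v, neg_neg]
        _ = v * v := by group
        _ = z := g.v_sq
    · have h3 : s * (v * c ^ (-(i * r))) * s⁻¹ = v * c ^ (-(i * r)) := by
        calc s * (v * c ^ (-(i * r))) * s⁻¹ = (s * v * s⁻¹) * (s * c ^ (-(i * r)) * s⁻¹) := by group
          _ = v * (c ^ (2 * i) * c ^ (k * (-(i * r)))) := by rw [hj, hcp, mul_assoc]
          _ = v * c ^ (-(i * r)) := by
            congr 1
            rw [← zpow_add, ← mul_inv_eq_one, ← zpow_neg, ← zpow_add, g.zpow_eq_one_iff]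
            refine ⟨i * t, ?_⟩
            have e1 : 2 * i + k * (-(i * r)) + -(-(i * r)) = 2 * i - (k - 1) * (i * r) := by ring
            rw [e1, hm]
            have e2 : 2 * i - 2 * (2 * m + 1) * (i * r) = 2 * i * (1 - r * (2 * m + 1)) := by ring
            rw [e2]
            have e3 : 1 - r * (2 * m + 1) = t * 2 ^ (n + 1) := by linarith
            rw [e3, pow_succ (2 : ℤ) (n + 1)]
            ring
      rw [mul_inv_eq_iff_eq_mul] at h3
      exact h3.symm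
  -- `s` inverts `c`
  have hkc : ∀ i : ℤ, s * c ^ i * s⁻¹ = c ^ (-i) := by
    have h3 : (2 : ℤ) ^ (n + 2) ∣ 1 + k := by
      have hcop : IsCoprime ((2 : ℤ) ^ (n + 2)) j := by
        apply IsCoprime.pow_left
        obtain ⟨i, hi⟩ : ∃ i : ℤ, j = 2 * i + 1 := ⟨(j - 1) / 2, by omega⟩
        exact ⟨-i, 1, by rw [hi]; ring⟩
      exact hcop.dvd_of_dvd_mul_left h2
    intro i
    rw [hcp, ← mul_inv_eq_one, ← zpow_neg, ← zpow_add, g.zpow_eq_one_iff, neg_neg]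
    obtain ⟨d, hd⟩ := h3
    exact ⟨d * i, by rw [← mul_assoc, ← hd]; ring⟩
  have hkc' : ∀ i : ℤ, c ^ i * s = s * c ^ (-i) := by
    intro i
    have h3 := hkc (-i)
    rw [neg_neg, mul_inv_eq_iff_eq_mul] at h3
    exact h3.symm
  have hxi : x⁻¹ = x * z := by
    rw [inv_eq_iff_mul_eq_one]
    calc x * (x * z) = (x * x) * z := by group
      _ = 1 := by rw [hxx, g.z_mul]
  rcases g.covZ hx with ⟨b, hb⟩ | ⟨b, rfl⟩
  · have hb' : c ^ b = x := hb
    rcases Int.even_or_odd b with ⟨i, hi⟩ | ⟨i, hi⟩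
    · refine ⟨c ^ (-i), Q.zpow_mem g.c_mem _, ?_⟩
      rw [hkc' (-i), neg_neg, ← hb', hi, mul_assoc, ← zpow_neg, neg_neg, ← zpow_add]
    · obtain ⟨d, hd⟩ : ∃ d : ℤ, b + j = d + d := by
        refine ⟨(b + j) / 2, by omega⟩
      refine ⟨(v * c ^ d)⁻¹, Q.inv_mem (Q.mul_mem g.v_mem (Q.zpow_mem g.c_mem _)), ?_⟩
      have h3 : v⁻¹ * s * v = s * c ^ (-j) := by
        calc v⁻¹ * s * v = v⁻¹ * (s * v * s⁻¹) * s := by group
          _ = c ^ j * s := by rw [hj]; group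
          _ = s * c ^ (-j) := hkc' j
      calc (v * c ^ d)⁻¹ * s * (v * c ^ d)⁻¹⁻¹ = c ^ (-d) * (v⁻¹ * s * v) * c ^ d := by group
        _ = (c ^ (-d) * s) * c ^ (-j) * c ^ d := by rw [h3]; group
        _ = s * (c ^ d * c ^ (-j) * c ^ d) := by rw [hkc' (-d), neg_neg]; group
        _ = s * c ^ b := by rw [← zpow_add, ← zpow_add]; congr 2; linarith
        _ = s * x := by rw [hb']
  · exfalso
    have h3 : s * (v * c ^ b) * s⁻¹ = v * (c ^ j * c ^ (-b)) := by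
      calc s * (v * c ^ b) * s⁻¹ = (s * v * s⁻¹) * (s * c ^ b * s⁻¹) := by group
        _ = v * (c ^ j * c ^ (-b)) := by rw [hj, hkc, mul_assoc]
    rw [hinv, hxi, ← g.z_zpow, mul_assoc] at h3
    have h4 := mul_left_cancel h3
    rw [← zpow_add, ← zpow_add, eq_comm, ← mul_inv_eq_one, ← zpow_neg, ← zpow_add, g.zpow_eq_one_iff] at h4
    apply hjodd
    have h5 : (2 : ℤ) ∣ (2 : ℤ) ^ (n + 2) := dvd_pow_self 2 (by omega)
    have h6 : (2 : ℤ) ∣ (2 : ℤ) ^ (n + 1) := dvd_pow_self 2 (by omega)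
    obtain ⟨d, hd⟩ := h5.trans h4
    obtain ⟨e, he⟩ := h6
    exact ⟨d + b + e, by linarith⟩

end Cfsg.Agent.Cit.TwoX
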