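import Cfsg.Agent.Cit.TwoBig
import Cfsg.Agent.Cit.TwoXQuat
import Cfsg.Agent.Cit.AutAct

/-!
# Commuting involutions of members with a common product of two elements of order four (R18, Z3, (8c))

`TX F`: `TwoE F`, types, trivial cores, no product `x y` (`TTp F K K' x y`) centralises a Sylow 2-subgroup of a member.
`ZP F s z₀`: `z₀ = x y` with `x`, `y` of order four in the two members over `s`.

* `inv_conj` (X1): `zz N` normalises `J`, inverts `x ∈ J` of order four ⇒ `zz N` is `J`-conjugate to `zz N * x`;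
* `swap` (X2): `s₁ ≠ s₂` commuting, `ZP F s₁ z₀`, `ZP F s₂ z₀` ⇒ `s₂` moves the members over `s₁`;
* `pairX` (X3): then there are `M ∈ F`, moved by `z₀` and `k, l ∈ M` with `s₁ = z₀ k k^z₀`, `s₂ = z₀ l l^z₀`.
-/

set_option autoImplicit false
set_option linter.style.haveILetI false
set_option linter.unusedSectionVars false

namespace Cfsg.Agent.Cit.TwoX

open Subgroup Cfsg OneBasic

variable {X : Type*} [Group X] {F : Set (Subgroup X)}

/-- `z₀ = x y`, `x ∈ J`, `y ∈ J'` of order four, `J ≠ J'` the members over `s` -/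
def ZP (F : Set (Subgroup X)) (s z₀ : X) : Prop := ∃ J J' x y, TTp F J J' x y ∧ zz J = s ∧ x * y = z₀

/-- the setting -/
structure TX [Finite X] (F : Set (Subgroup X)) : Prop where
  two : TwoE F
  ty : ∀ K ∈ F, IsType K
  core : ∀ K ∈ F, OO K = ⊥
  noperp : ∀ K K' x y, TTp F K K' x y → ∀ J ∈ F, ¬ TwoE.Perp (x * y) J

variable [Finite X]

namespace TX

variable {J J' K L M N : Subgroup X} {x y s z₀ : X}

theorem hyp (t : TX F) : Hyp F := t.two.hyp

theorem ty2 (t : TX F) : ∀ K ∈ F, TyTwo K := fun K hK => (t.ty K hK).tyTwo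

/-- members with the same involution commute -/
theorem comm (t : TX F) (hK : K ∈ F) (hL : L ∈ F) (hne : K ≠ L) (hz : zz K = zz L) {a b : X} (ha : a ∈ K)
    (hb : b ∈ L) : a * b = b * a := by
  rcases t.hyp.h2 K hK L hL hz with h1 | h1
  · exact absurd h1 hne
  · have h2 := (h1.trans inf_le_left) (commutator_mem_commutator ha hb)
    rw [t.core K hK, mem_bot] at h2
    exact commutatorElement_eq_one_iff_mul_comm.1 h2

theorem perp_zz (t : TX F) (hM : M ∈ F) : TwoE.Perp (zz M) M := by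
  obtain ⟨Q, hQ⟩ := Hyp.exists_syl M
  exact ⟨Q, hQ, fun q hq => (t.hyp.comm_zz hM (le_normalizer (hQ.1 hq))).symm⟩

/-- no `x y` is the involution of a member -/
theorem not_zz (t : TX F) (p : TTp F J J' x y) (hM : M ∈ F) : x * y ≠ zz M := by
  intro h
  apply t.noperp J J' x y p M hM
  rw [h]
  exact t.perp_zz hM

end TX

theorem _root_.Cfsg.Agent.Cit.TTp.inv' {J J' : Subgroup X} {x y : X} (p : TTp F J J' x y) : TTp F J J' x⁻¹ y :=
  p.symm.inv.symm

namespace ZP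

variable {s z₀ : X}

theorem cj (h : Hyp F) (p : ZP F s z₀) (g : X) : ZP F (g * s * g⁻¹) (g * z₀ * g⁻¹) := by
  obtain ⟨J, J', x, y, p, rfl, rfl⟩ := p
  exact ⟨_, _, _, _, p.cj h g, h.zz_cj p.hK g, by group⟩

theorem zsq (h : Hyp F) (p : ZP F s z₀) : s * s = 1 := by
  obtain ⟨J, J', x, y, p, rfl, rfl⟩ := p
  exact h.zz_mul p.hK

theorem sq (h : Hyp F) (p : ZP F s z₀) : z₀ * z₀ = 1 := by
  obtain ⟨J, J', x, y, p, rfl, rfl⟩ := p
  exact p.sq h

theorem comm (h : Hyp F) (p : ZP F s z₀) : s * z₀ = z₀ * s := by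
  obtain ⟨J, J', x, y, p, rfl, rfl⟩ := p
  rw [← p.sqx h]
  have hc : Commute x (x * y) := (Commute.refl x).mul_right (p.comm h)
  exact (hc.mul_left hc).eq

/-- `s z₀` is of the same form -/
theorem mul (h : Hyp F) (p : ZP F s z₀) : ZP F s (s * z₀) := by
  obtain ⟨J, J', x, y, p, rfl, rfl⟩ := p
  refine ⟨J, J', x⁻¹, y, p.inv', rfl, ?_⟩
  have h1 : x⁻¹ = zz J * x := by
    rw [← p.sqx h, inv_eq_iff_mul_eq_one]
    have h2 : (x * x) * (x * x) = 1 := by rw [p.sqx h, h.zz_mul p.hK]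
    calc x * (x * x * x) = (x * x) * (x * x) := by group
      _ = 1 := h2
  rw [h1, mul_assoc]

theorem not_zz (t : TX F) (p : ZP F s z₀) {M : Subgroup X} (hM : M ∈ F) : z₀ ≠ zz M := by
  obtain ⟨J, J', x, y, p, rfl, rfl⟩ := p
  exact t.not_zz p hM

theorem not_perp (t : TX F) (p : ZP F s z₀) {M : Subgroup X} (hM : M ∈ F) : ¬ TwoE.Perp z₀ M := by
  obtain ⟨J, J', x, y, p, rfl, rfl⟩ := p
  exact t.noperp J J' x y p M hM

end ZP

namespace TX

variable {J J' K L M N : Subgroup X} {x y s z₀ : X}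

/-- **(X1)** `zz N` normalises `J` and inverts `x ∈ J` of order four ⇒ `zz N` is `J`-conjugate to `zz N * x` -/
theorem inv_conj (t : TX F) (hJ : J ∈ F) (hN : N ∈ F) (hne : zz N ≠ zz J) (hNJ : zz N ∈ normalizer (J : Set X))
    (hx : x ∈ J) (ox : orderOf x = 4) (hinv : zz N * x * (zz N)⁻¹ = x⁻¹) :
    ∃ g ∈ J, g * zz N * g⁻¹ = zz N * x := by
  set s := zz N with hs
  have hss : s * s = 1 := t.hyp.zz_mul hN
  have hsi : s⁻¹ = s := inv_eq_of_mul_eq_one_right hss
  have hxx : x * x = zz J := t.hyp.sq_eq_zz hJ hx ox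
  -- a 2-group containing `s` and `x`
  have hxp : IsPGroup 2 (zpowers x) := by
    rw [IsPGroup.iff_card]
    exact ⟨2, by rw [Nat.card_zpowers, ox]; norm_num⟩
  have hsp : IsPGroup 2 (zpowers s) := by
    rw [IsPGroup.iff_card]
    exact ⟨1, by rw [Nat.card_zpowers, hs, t.hyp.orderOf_zz hN, pow_one]⟩
  have hsx : s ∈ normalizer (zpowers x : Set X) := by
    rw [mem_normalizer_iff_cj]
    rw [cj_def, MonoidHom.map_zpowers]
    change zpowers (s * x * s⁻¹) = zpowers x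
    rw [hinv, zpowers_inv]
  have hA : IsPGroup 2 (zpowers s ⊔ zpowers x : Subgroup X) :=
    isPGroup_sup_of_normalizes hsp hxp (zpowers_le.2 hsx)
  have hAJ : (zpowers s ⊔ zpowers x : Subgroup X) ≤ normalizer (J : Set X) :=
    sup_le (zpowers_le.2 hNJ) (zpowers_le.2 (le_normalizer hx))
  obtain ⟨Q, hQ, hAQ⟩ := exists_syl_normalized hA hAJ
  have hsA : s ∈ (zpowers s ⊔ zpowers x : Subgroup X) := mem_sup_left (mem_zpowers s)
  have hsQ : s ∈ normalizer (Q : Set X) := hAQ hsA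
  have hxQ : x ∈ Q := syl_le_of_normalizes' hQ hxp (zpowers_le.2 hx)
    (le_sup_right.trans hAQ) (mem_zpowers x)
  by_cases hk : ∃ k ∈ Q, k * k = zz J ∧ k * s = s * k
  · -- type W
    obtain ⟨k, hkQ, hkk, hks⟩ := hk
    have hkJ : k ∈ J := hQ.1 hkQ
    have ok : orderOf k = 4 := GQ.orderOf_of_sq hkk (t.hyp.zz_mul hJ) (t.hyp.zz_ne hJ)
    have hkN : k ∈ normalizer (N : Set X) := t.hyp.norm_four hQ.2.1 hJ hN hkJ hkQ (by rw [ok]) hks
    have hzN : zz J ∈ normalizer (N : Set X) := by rw [← hkk]; exact mul_mem hkN hkN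
    have hkp : IsPGroup 2 (zpowers k) := hQ.2.1.to_le (zpowers_le.2 hkQ)
    obtain ⟨T, Q1, Q2, hAT, p⟩ := exists_nPair hJ hN hne.symm hNJ hzN hkp
      (zpowers_le.2 (le_normalizer hkJ)) (zpowers_le.2 hkN)
    have hkT : k ∈ T := hAT (mem_zpowers k)
    have hkQ1 : k ∈ Q1 := by
      have h1 : T ⊓ J ≤ Q1 := syl_le_of_normalizes' p.hQ (p.hT.2.1.to_le inf_le_left) inf_le_right
        (inf_le_left.trans p.hTQ)
      exact h1 ⟨hkT, hkJ⟩
    have hact := p.act t.two hkQ1 hkk hks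
    obtain ⟨b, hb⟩ : ∃ b, b = s * k := ⟨_, rfl⟩
    have hbJ : b ∈ normalizer (J : Set X) := by rw [hb]; exact mul_mem hNJ (le_normalizer hkJ)
    have hbQ : b ∈ normalizer (Q : Set X) := by rw [hb]; exact mul_mem hsQ (le_normalizer hkQ)
    have hsT : s ∈ T := p.zL_mem t.two
    have hbp : IsPGroup 2 (zpowers b) := by
      rw [hb]; exact p.hT.2.1.to_le (zpowers_le.2 (T.mul_mem hsT hkT))
    have hbc : ∀ q ∈ Q, b * q = q * b :=
      t.hyp.rigid hJ p.hQ hQ hbJ hbp (by rw [hb]; exact hact) hbQ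
    have hsb : s = b * k⁻¹ := by rw [hb]; group
    -- `k` inverts `x`
    have hkx : k⁻¹ * x * k = x⁻¹ := by
      have h1 := hinv
      rw [hsb] at h1
      calc k⁻¹ * x * k = b⁻¹ * (b * (k⁻¹ * x * k)) := by group
        _ = b⁻¹ * ((k⁻¹ * x * k) * b) := by
          rw [hbc _ (Q.mul_mem (Q.mul_mem (Q.inv_mem hkQ) hxQ) hkQ)]
        _ = b⁻¹ * (k⁻¹ * x * k) * b := by group
        _ = x⁻¹ := by
          have h2 : b * k⁻¹ * x * (b * k⁻¹)⁻¹ = b * (k⁻¹ * x * k) * b⁻¹ := by group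
          rw [h2] at h1
          have h3 : b * (k⁻¹ * x * k) * b⁻¹ = k⁻¹ * x * k := by
            rw [hbc _ (Q.mul_mem (Q.mul_mem (Q.inv_mem hkQ) hxQ) hkQ), mul_inv_cancel_right]
          rw [h3] at h1
          rw [h1]
          rw [mul_assoc, ← hbc _ (Q.inv_mem hxQ), inv_mul_cancel_left]
    have hki : k⁻¹ * k⁻¹ = zz J := by
      rw [← mul_inv_rev, hkk, t.hyp.zz_inv hJ]
    have hkxx : (k⁻¹ * x) * (k⁻¹ * x) = zz J := by
      calc (k⁻¹ * x) * (k⁻¹ * x) = (k⁻¹ * x * k) * (k⁻¹ * k⁻¹) * x := by group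
        _ = x⁻¹ * zz J * x := by rw [hkx, hki]
        _ = x⁻¹ * (x * zz J) := by rw [t.hyp.comm_zz hJ (le_normalizer hx), mul_assoc]
        _ = zz J := by group
    have hA' : ∀ a ∈ zpowers b, ∀ q ∈ Q, a * q = q * a := by
      rintro _ ⟨m, rfl⟩ q hq
      exact ((show Commute b q from hbc q hq).zpow_left m).eq
    obtain ⟨g, hg, hga, hgk⟩ := t.hyp.conj_four_rel hJ
      (fun x hx y hy ox oy => t.hyp.conj_four hJ (t.ty2 J hJ) hx hy ox oy) hQ hbp (zpowers_le.2 hbJ) hA'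
      (x := k⁻¹) (y := k⁻¹ * x) (Q.inv_mem hkQ) (Q.mul_mem (Q.inv_mem hkQ) hxQ)
      (by rw [orderOf_inv, ok]) (GQ.orderOf_of_sq hkxx (t.hyp.zz_mul hJ) (t.hyp.zz_ne hJ))
    refine ⟨g, hg, ?_⟩
    calc g * s * g⁻¹ = (g * b) * k⁻¹ * g⁻¹ := by rw [hsb]; group
      _ = b * (g * k⁻¹ * g⁻¹) := by rw [hga b (mem_zpowers b)]; group
      _ = (b * k⁻¹) * x := by rw [hgk]; group
      _ = s * x := by rw [← hsb]
  · -- semidihedral
    push Not at hk
    obtain ⟨c, v, n, gq, hinvc⟩ := t.hyp.exists_gq_cyclic hJ hQ hA hAQ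
    obtain ⟨a, ha, hax⟩ := exists_conj_of_quat gq hss hsQ (hinvc s hsA) hk hxQ hxx hinv
    exact ⟨a, hQ.1 ha, hax⟩

/-- a central element of a member is `1` or its involution -/
theorem center (t : TX F) (hM : M ∈ F) {k : X} (hk : k ∈ M) (hc : ∀ m ∈ M, k * m = m * k) : k = 1 ∨ k = zz M := by
  haveI : Fact (Nat.Prime 2) := ⟨Nat.prime_two⟩
  obtain ⟨a, b, hb, hab⟩ := Nat.exists_eq_two_pow_mul_odd (orderOf_pos k).ne'
  have hcz : ∀ i : ℕ, ∀ m ∈ M, m * k ^ i * m⁻¹ = k ^ i := by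
    intro i m hm
    rw [((show Commute m k from (hc m hm).symm).pow_right i).eq, mul_inv_cancel_right]
  -- `k` is a 2-element
  have h1 : k ^ 2 ^ a = 1 := by
    have h2 : zpowers (k ^ 2 ^ a) ≤ OO M := by
      refine le_OO (zpowers_le.2 (M.pow_mem hk _)) ?_ ?_
      · intro m hm
        rw [mem_normalizer_iff_cj, cj_def, MonoidHom.map_zpowers]
        change zpowers (m * k ^ 2 ^ a * m⁻¹) = _
        rw [hcz _ m hm]
      · rw [Nat.card_zpowers, orderOf_pow_of_dvd (by positivity) ⟨b, hab⟩, hab, Nat.mul_div_cancel_left _ (by positivity)]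
        exact hb.not_two_dvd_nat
    rw [t.core M hM] at h2
    exact mem_bot.1 (h2 (mem_zpowers _))
  have hkp : IsPGroup 2 (zpowers k) := by
    rw [IsPGroup.iff_card]
    obtain ⟨i, -, hi⟩ := (Nat.dvd_prime_pow Nat.prime_two).1 (orderOf_dvd_of_pow_eq_one h1)
    exact ⟨i, by rw [Nat.card_zpowers, hi]⟩
  obtain ⟨Q, hQ⟩ := Hyp.exists_syl M
  have hkQ : k ∈ Q := syl_le_of_normalizes' hQ hkp (zpowers_le.2 hk) (by
    rw [zpowers_le]
    refine mem_normalizer_of_cent fun q hq => hc q (hQ.1 hq)) (mem_zpowers k)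
  obtain ⟨c, v, n, gq⟩ := t.hyp.exists_gq hM hQ
  by_contra hcon
  push Not at hcon
  have hkk : k * k ≠ 1 := fun h => hcon.2 (gq.eq_z hkQ h hcon.1)
  -- a power of order four
  obtain ⟨i, hi⟩ := (Nat.dvd_prime_pow Nat.prime_two).1 (orderOf_dvd_of_pow_eq_one h1)
  have hi2 : 2 ≤ i := by
    by_contra hlt
    apply hkk
    rw [← pow_two, ← orderOf_dvd_iff_pow_eq_one, hi.2]
    exact (pow_dvd_pow 2 (show i ≤ 1 by omega)).trans (by norm_num)
  have h8 : orderOf (k ^ 2 ^ (i - 2)) = 4 := by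
    rw [orderOf_pow_of_dvd (by positivity) (by rw [hi.2]; exact pow_dvd_pow 2 (by omega)), hi.2,
      Nat.pow_div (by omega) (by omega), show i - (i - 2) = 2 by omega]
  refine t.hyp.not_cent_of_four hM hQ (x := k ^ 2 ^ (i - 2)) (pow_mem hkQ _) h8 ?_
  intro q hq
  have := hcz (2 ^ (i - 2)) q (hQ.1 hq)
  rw [mul_inv_eq_iff_eq_mul] at this
  exact this.symm

end TX

/-! ### The products `k k^b` -/

/-- `k k^b` -/
def ee (b k : X) : X := k * (b * k * b)

theorem ee_def (b k : X) : ee b k = k * (b * k * b) := rfl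

theorem ee_cj (g b k : X) : ee (g * b * g⁻¹) (g * k * g⁻¹) = g * ee b k * g⁻¹ := by
  rw [ee, ee]; group

theorem ee_one {b : X} (hb : b * b = 1) : ee b 1 = 1 := by rw [ee, one_mul, mul_one, hb]

/-- `M ∈ F` is moved by the involution `b`, which commutes with `zz M` -/
structure Mv (F : Set (Subgroup X)) (M : Subgroup X) (b : X) : Prop where
  mem : M ∈ F
  sq : b * b = 1
  comm : b * zz M = zz M * b
  ne : cj b M ≠ M

namespace Mv

variable {M N : Subgroup X} {b k l : X}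

theorem inv (m : Mv F M b) : b⁻¹ = b := inv_eq_of_mul_eq_one_right m.sq

theorem conj_mem (m : Mv F M b) (hk : k ∈ M) : b * k * b ∈ cj b M := by
  have := conj_mem_cj (g := b) hk
  rwa [m.inv] at this

theorem zz_eq (t : TX F) (m : Mv F M b) : zz (cj b M) = zz M := by
  rw [t.hyp.zz_cj m.mem, m.comm, mul_inv_cancel_right]

theorem comm_conj (t : TX F) (m : Mv F M b) (hk : k ∈ M) (hl : l ∈ M) : k * (b * l * b) = (b * l * b) * k :=
  t.comm m.mem (t.hyp.conj M m.mem b) m.ne.symm (m.zz_eq t).symm hk (m.conj_mem hl)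

theorem ee_mul (t : TX F) (m : Mv F M b) (hk : k ∈ M) (hl : l ∈ M) : ee b (k * l) = ee b k * ee b l := by
  rw [ee, ee, ee]
  calc k * l * (b * (k * l) * b) = k * l * ((b * k * b⁻¹) * (b * l * b)) := by group
    _ = k * (l * (b * k * b)) * (b * l * b) := by rw [m.inv]; group
    _ = k * ((b * k * b) * l) * (b * l * b) := by rw [m.comm_conj t hl hk]
    _ = k * (b * k * b) * (l * (b * l * b)) := by group

theorem ee_inv (t : TX F) (m : Mv F M b) (hk : k ∈ M) : ee b k⁻¹ = (ee b k)⁻¹ := by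
  rw [eq_inv_iff_mul_eq_one, ← m.ee_mul t (M.inv_mem hk) hk, inv_mul_cancel, ee_one m.sq]

theorem ee_pow (t : TX F) (m : Mv F M b) (hk : k ∈ M) (n : ℕ) : ee b (k ^ n) = ee b k ^ n := by
  induction n with
  | zero => rw [pow_zero, pow_zero, ee_one m.sq]
  | succ n ih => rw [pow_succ, pow_succ, m.ee_mul t (M.pow_mem hk n) hk, ih]

theorem ee_comm (t : TX F) (m : Mv F M b) (hk : k ∈ M) : ee b k * b = b * ee b k := by
  rw [ee]
  calc k * (b * k * b) * b = (b * k * b) * k * b := by rw [m.comm_conj t hk hk]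
    _ = b * (k * (b * k * b)) := by group

theorem ee_comm_zz (t : TX F) (m : Mv F M b) (hk : k ∈ M) : ee b k * zz M = zz M * ee b k := by
  have h1 : Commute k (zz M) := t.hyp.comm_zz m.mem (le_normalizer hk)
  have h2 : Commute b (zz M) := m.comm
  exact (h1.mul_left ((h2.mul_left h1).mul_left h2)).eq

theorem ee_zz (t : TX F) (m : Mv F M b) : ee b (zz M) = 1 := by
  rw [ee, m.comm, mul_assoc, m.sq, mul_one, t.hyp.zz_mul m.mem]

/-- the kernel -/
theorem eq_of_ee (t : TX F) (m : Mv F M b) (hk : k ∈ M) (h1 : ee b k = 1) : k = 1 ∨ k = zz M := by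
  apply t.center m.mem hk
  intro l hl
  have h2 : k = (b * k * b)⁻¹ := by rw [ee] at h1; exact eq_inv_of_mul_eq_one_left h1
  have h3 := m.comm_conj t hl hk
  rw [h2]
  exact ((show Commute l (b * k * b) from h3).inv_right.symm).eq

/-- for `k` of order four `k k^b` is an involution -/
theorem ee_ne (t : TX F) (m : Mv F M b) (hk : k ∈ M) (hk4 : orderOf k = 4) : ee b k ≠ 1 := by
  intro h1
  have h2 : ∀ u : X, u * u = 1 → orderOf u ≠ 4 := by
    intro u hu h4
    have h5 := orderOf_dvd_of_pow_eq_one (show u ^ 2 = 1 by rw [pow_two, hu])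
    rw [h4] at h5
    exact absurd (Nat.le_of_dvd (by norm_num) h5) (by norm_num)
  rcases m.eq_of_ee t hk h1 with h3 | h3
  · exact h2 k (by rw [h3, one_mul]) hk4
  · exact h2 k (by rw [h3, t.hyp.zz_mul m.mem]) hk4

theorem ee_sq (t : TX F) (m : Mv F M b) (hk : k ∈ M) (hk4 : orderOf k = 4) : ee b k * ee b k = 1 := by
  rw [← m.ee_mul t hk hk, t.hyp.sq_eq_zz m.mem hk hk4, m.ee_zz t]

/-- `k k^b` is a product of two elements of order four -/
theorem zp (t : TX F) (m : Mv F M b) (hk : k ∈ M) (hk4 : orderOf k = 4) : ZP F (zz M) (ee b k) := by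
  refine ⟨M, cj b M, k, b * k * b, ⟨m.mem, t.hyp.conj M m.mem b, m.ne.symm, m.zz_eq t, hk, m.conj_mem hk, hk4, ?_,
    zpowers k ⊔ zpowers (b * k * b), ?_, mem_sup_left (mem_zpowers _), mem_sup_right (mem_zpowers _)⟩, rfl, rfl⟩
  · have h1 := (MulAut.conj b).orderOf_eq k
    rw [MulAut.conj_apply, m.inv] at h1
    rw [h1, hk4]
  · have h4 : IsPGroup 2 (zpowers k) := by
      rw [IsPGroup.iff_card]; exact ⟨2, by rw [Nat.card_zpowers, hk4]; norm_num⟩
    have h5 : IsPGroup 2 (zpowers (b * k * b)) := by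
      rw [IsPGroup.iff_card]
      have h1 := (MulAut.conj b).orderOf_eq k
      rw [MulAut.conj_apply, m.inv] at h1
      exact ⟨2, by rw [Nat.card_zpowers, h1, hk4]; norm_num⟩
    refine isPGroup_sup_of_normalizes h4 h5 (zpowers_le.2 (mem_normalizer_of_cent ?_))
    rintro _ ⟨i, rfl⟩
    exact ((show Commute k (b * k * b) from m.comm_conj t hk hk).zpow_right i).eq

/-- if all `k k^b` commute with `zz N` they normalise `N` -/
theorem ee_norm (t : TX F) (m : Mv F M b) (hN : N ∈ F) (hc : ∀ k ∈ M, ee b k * zz N = zz N * ee b k) (hk : k ∈ M) :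
    ee b k ∈ normalizer (N : Set X) := by
  obtain ⟨S, hS, -⟩ := t.hyp.exists_sylow hN
  obtain ⟨N', hN', hne⟩ : ∃ N' ∈ OmS F (S : Subgroup X), N' ≠ N := by
    have h1 : 1 < (OmS F (S : Subgroup X)).ncard := by rw [t.two.two S]; norm_num
    obtain ⟨a, ha, b, hb, hab⟩ := (Set.one_lt_ncard (Set.toFinite _)).1 h1
    by_cases h2 : a = N
    · exact ⟨b, hb, fun h3 => hab (h2.trans h3.symm)⟩
    · exact ⟨a, ha, h2⟩
  have hz : zz N' = zz N := t.two.eqz S N' hN' N hS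
  -- elements of odd order
  have hodd : ∀ c ∈ M, Odd (orderOf c) → ee b c ∈ normalizer (N : Set X) := by
    intro c hcM ho
    rcases t.two.cj_or hN hN'.1 hne.symm hz (hc c hcM) with ⟨h1, -⟩ | ⟨h1, h2⟩
    · exact mem_normalizer_iff_cj.2 h1
    · exfalso
      obtain ⟨i, hi⟩ := ho
      have h3 : ee b c ^ (2 * i + 1) = 1 := by
        rw [← m.ee_pow t hcM, ← hi, pow_orderOf_eq_one, ee_one m.sq]
      have h4 : ee b c * ee b c ∈ normalizer (N : Set X) := by
        rw [mem_normalizer_iff_cj, cj_mul, h1, h2]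
      have h5 : ee b c ∈ normalizer (N : Set X) := by
        have h6 : ee b c = ((ee b c * ee b c) ^ i)⁻¹ := by
          rw [eq_inv_iff_mul_eq_one, ← pow_two, ← pow_mul, ← pow_succ', h3]
        rw [h6]
        exact inv_mem (pow_mem h4 i)
      exact hne (h1.symm.trans (mem_normalizer_iff_cj.1 h5))
  -- generation
  have hk' : k ∈ closure {c | c ∈ M ∧ Odd (orderOf c)} := t.ty2 M m.mem hk
  have key : k ∈ M ∧ ee b k ∈ normalizer (N : Set X) := by
    clear hk
    induction hk' using Subgroup.closure_induction with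
    | mem c hc => exact ⟨hc.1, hodd c hc.1 hc.2⟩
    | one => exact ⟨one_mem _, by rw [ee_one m.sq]; exact one_mem _⟩
    | mul c d _ _ hc hd => exact ⟨M.mul_mem hc.1 hd.1, by rw [m.ee_mul t hc.1 hd.1]; exact mul_mem hc.2 hd.2⟩
    | inv c _ hc => exact ⟨M.inv_mem hc.1, by rw [m.ee_inv t hc.1]; exact inv_mem hc.2⟩
  exact key.2

end Mv

/-! ### (X2) -/

theorem isPGroup_four {x : X} (hx : orderOf x = 4) : IsPGroup 2 (zpowers x) := by
  rw [IsPGroup.iff_card]; exact ⟨2, by rw [Nat.card_zpowers, hx]; norm_num⟩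

/-- two elements of order four of a member whose quotient is central: `u = 1` or `u = zz J` -/
theorem TX.eq_or_of_mul (t : TX F) {J J' : Subgroup X} {x u : X} (hJ : J ∈ F) (hJ' : J' ∈ F) (hne : J ≠ J')
    (hz : zz J = zz J') (hx : x ∈ J) (ox : orderOf x = 4) (hu : u ∈ J) (hu' : u ∈ J')
    (oxu : (x * u) * (x * u) = zz J) : u = 1 ∨ u = zz J := by
  have h1 : x * u = u * x := t.comm hJ hJ' hne hz hx hu'
  by_cases h2 : u = 1
  · exact Or.inl h2
  · right
    apply t.hyp.eq_zz hJ hu _ h2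
    have h3 : x * x = zz J := t.hyp.sq_eq_zz hJ hx ox
    have h4 : zz J * (u * u) = zz J := by
      calc zz J * (u * u) = (x * x) * (u * u) := by rw [h3]
        _ = x * (x * u) * u := by group
        _ = x * (u * x) * u := by rw [h1]
        _ = (x * u) * (x * u) := by group
        _ = zz J := oxu
    exact mul_left_cancel (h4.trans (mul_one _).symm)

/-- **(X2)**, with data -/
theorem TX.swap' (t : TX F) {J J' L L' : Subgroup X} {x y x₂ y₂ : X} (p : TTp F J J' x y) (q : TTp F L L' x₂ y₂)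
    (he : x * y = x₂ * y₂) (hc : zz J * zz L = zz L * zz J) (hne : zz J ≠ zz L) : cj (zz L) J ≠ J := by
  intro hN
  have hsJ : zz L ∈ normalizer (J : Set X) := mem_normalizer_iff_cj.2 hN
  have hsJ' : zz L ∈ normalizer (J' : Set X) := t.two.normalizer_le p.hK p.hK' p.ne p.hz hsJ
  have pz : ZP F (zz L) (x * y) := ⟨L, L', x₂, y₂, q, rfl, he.symm⟩
  have pz' := pz.mul t.hyp
  set s := zz L with hs
  have hss : s * s = 1 := t.hyp.zz_mul q.hK
  have hz0 : s * (x * y) = (x * y) * s := pz.comm t.hyp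
  have hxy : x * y = y * x := p.comm t.hyp
  have hx' : s * x * s⁻¹ ∈ J := (mem_normalizer_iff.1 hsJ x).1 p.hx
  have hy' : s * y * s⁻¹ ∈ J' := (mem_normalizer_iff.1 hsJ' y).1 p.hy
  have hzJ : s * zz J * s⁻¹ = zz J := by rw [← hc, mul_inv_cancel_right]
  obtain ⟨u, hu⟩ : ∃ u, u = x⁻¹ * (s * x * s⁻¹) := ⟨_, rfl⟩
  have hu2 : u = y * (s * y * s⁻¹)⁻¹ := by
    rw [eq_mul_inv_iff_mul_eq, hu]
    calc x⁻¹ * (s * x * s⁻¹) * (s * y * s⁻¹) = x⁻¹ * (s * (x * y)) * s⁻¹ := by group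
      _ = x⁻¹ * ((x * y) * s) * s⁻¹ := by rw [hz0]
      _ = y := by group
  have huJ : u ∈ J := by rw [hu]; exact J.mul_mem (J.inv_mem p.hx) hx'
  have huJ' : u ∈ J' := by rw [hu2]; exact J'.mul_mem p.hy (J'.inv_mem hy')
  have hxu : s * x * s⁻¹ = x * u := by rw [hu]; group
  have hyu : s * y * s⁻¹ = u⁻¹ * y := by rw [hu2]; group
  have hu4 : u = 1 ∨ u = zz J := by
    refine t.eq_or_of_mul p.hK p.hK' p.ne p.hz.symm p.hx p.ox huJ huJ' ?_
    rw [← hxu]
    calc s * x * s⁻¹ * (s * x * s⁻¹) = s * (x * x) * s⁻¹ := by group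
      _ = zz J := by rw [p.sqx t.hyp, hzJ]
  rcases hu4 with h1 | h1
  · -- `s` centralises `x` and `y`
    rw [h1, mul_one] at hxu
    rw [h1, inv_one, one_mul] at hyu
    rw [mul_inv_eq_iff_eq_mul] at hxu hyu
    have hxL : x ∈ normalizer (L : Set X) :=
      t.hyp.norm_four (isPGroup_four p.ox) p.hK q.hK p.hx (mem_zpowers x) (by rw [p.ox]) hxu.symm
    have hzL : zz J ∈ normalizer (L : Set X) := by rw [← p.sqx t.hyp]; exact mul_mem hxL hxL
    obtain ⟨T, Q1, Q2, hAT, pn⟩ := exists_nPair p.hK q.hK hne hsJ hzL (isPGroup_four p.ox)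
      (zpowers_le.2 (le_normalizer p.hx)) (zpowers_le.2 hxL)
    have hxT : x ∈ T := hAT (mem_zpowers x)
    have hxQ1 : x ∈ Q1 := by
      have h2 : T ⊓ J ≤ Q1 := syl_le_of_normalizes' pn.hQ (pn.hT.2.1.to_le inf_le_left) inf_le_right
        (inf_le_left.trans pn.hTQ)
      exact h2 ⟨hxT, p.hx⟩
    have hact := pn.act t.two hxQ1 (p.sqx t.hyp) hxu.symm
    apply pz'.not_perp t p.hK
    refine ⟨Q1, pn.hQ, fun a ha => ?_⟩
    have h3 : a * y = y * a := t.comm p.hK p.hK' p.ne p.hz.symm (pn.hQ.1 ha) p.hy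
    calc s * (x * y) * a = (s * x) * (y * a) := by group
      _ = (s * x * a) * y := by rw [← h3]; group
      _ = a * (s * x) * y := by rw [hact a ha]
      _ = a * (s * (x * y)) := by group
  · -- `s` inverts `x` and `y`
    have hxi : x⁻¹ = x * zz J := by
      rw [inv_eq_iff_mul_eq_one]
      calc x * (x * zz J) = (x * x) * zz J := by group
        _ = 1 := by rw [p.sqx t.hyp, t.hyp.zz_mul p.hK]
    have hyi : y⁻¹ = zz J * y := by
      rw [inv_eq_iff_mul_eq_one]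
      have h2 : y * zz J = zz J * y := by
        rw [← p.hz]; exact t.hyp.comm_zz p.hK' (le_normalizer p.hy)
      calc y * (zz J * y) = (y * zz J) * y := by group
        _ = zz J * (y * y) := by rw [h2]; group
        _ = 1 := by rw [p.sqy t.hyp, t.hyp.zz_mul p.hK]
    rw [h1, ← hxi] at hxu
    rw [h1, t.hyp.zz_inv p.hK, ← hyi] at hyu
    obtain ⟨g, hg, hgs⟩ := t.inv_conj p.hK q.hK hne.symm hsJ p.hx p.ox hxu
    obtain ⟨g', hg', hgs'⟩ := t.inv_conj p.hK' q.hK (by rw [p.hz]; exact hne.symm) hsJ' p.hy p.oy hyu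
    rw [← hs] at hgs hgs'
    have h2 : x * g' = g' * x := t.comm p.hK p.hK' p.ne p.hz.symm p.hx hg'
    have h3 : (g' * g) * s * (g' * g)⁻¹ = s * (x * y) := by
      calc (g' * g) * s * (g' * g)⁻¹ = g' * (g * s * g⁻¹) * g'⁻¹ := by group
        _ = g' * s * (x * g'⁻¹) := by rw [hgs]; group
        _ = g' * s * (g'⁻¹ * x) := by
          rw [((show Commute x g' from h2).inv_right).eq]
        _ = (g' * s * g'⁻¹) * x := by group
        _ = s * (y * x) := by rw [hgs']; group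
        _ = s * (x * y) := by rw [hxy]
    apply pz'.not_zz t (t.hyp.conj L q.hK (g' * g))
    rw [t.hyp.zz_cj q.hK, h3]

/-- **(X2)** -/
theorem TX.swap (t : TX F) {s₁ s₂ z₀ : X} (p1 : ZP F s₁ z₀) (p2 : ZP F s₂ z₀) (hc : s₁ * s₂ = s₂ * s₁)
    (hne : s₁ ≠ s₂) {J : Subgroup X} (hJ : J ∈ F) (hz : zz J = s₁) : cj s₂ J ≠ J := by
  obtain ⟨J₁, J₁', x, y, p, rfl, rfl⟩ := p1
  obtain ⟨L, L', x₂, y₂, q, rfl, he⟩ := p2
  rcases t.two.eq_or p.hK p.hK' hJ p.ne p.hz hz with rfl | rfl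
  · exact t.swap' p q he.symm hc hne
  · exact t.swap' p.symm q (by rw [← p.comm t.hyp, he]) (by rw [p.hz]; exact hc) (by rw [p.hz]; exact hne)

/-! ### (X3) -/

/-- in the situation of (X2): `y = x^s₂` -/
theorem TX.mate (t : TX F) {J J' L L' : Subgroup X} {x y x₂ y₂ : X} (p : TTp F J J' x y) (q : TTp F L L' x₂ y₂)
    (he : x * y = x₂ * y₂) (hc : zz J * zz L = zz L * zz J) (hne : zz J ≠ zz L) :
    Mv F J (zz L) ∧ cj (zz L) J = J' ∧ y = zz L * x * zz L := by
  have hsw := t.swap' p q he hc hne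
  set s := zz L with hs
  have hss : s * s = 1 := t.hyp.zz_mul q.hK
  have hsi : s⁻¹ = s := inv_eq_of_mul_eq_one_right hss
  have m : Mv F J s := ⟨p.hK, hss, hc.symm, hsw⟩
  have hJ' : cj s J = J' := by
    rcases t.two.cj_or p.hK p.hK' p.ne p.hz (g := s) hc.symm with ⟨h1, -⟩ | ⟨h1, -⟩
    · exact absurd h1 hsw
    · exact h1
  have hJ : cj s J' = J := by rw [← hJ', ← cj_mul, hss, cj_one]
  refine ⟨m, hJ', ?_⟩
  have pz : ZP F s (x * y) := ⟨L, L', x₂, y₂, q, rfl, he.symm⟩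
  have hz0 : s * (x * y) = (x * y) * s := pz.comm t.hyp
  have hxy : x * y = y * x := p.comm t.hyp
  have hxs : s * x * s ∈ J' := by rw [← hJ']; exact m.conj_mem p.hx
  have hys : s * y * s ∈ J := by
    have := conj_mem_cj (g := s) p.hy
    rwa [hsi, hJ] at this
  obtain ⟨u, hu⟩ : ∃ u, u = x⁻¹ * (s * y * s) := ⟨_, rfl⟩
  -- `(s x s) (s y s) = x y`
  have h1 : (s * y * s) * (s * x * s) = x * y := by
    calc (s * y * s) * (s * x * s) = s * y * (s * s) * x * s := by group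
      _ = s * (x * y) * s := by rw [hss, mul_one, hxy]; group
      _ = x * y := by rw [hz0, mul_assoc, hss, mul_one]
  have hu2 : u = y * (s * x * s)⁻¹ := by
    rw [eq_mul_inv_iff_mul_eq, hu, mul_assoc, h1, inv_mul_cancel_left]
  have huJ : u ∈ J := by rw [hu]; exact J.mul_mem (J.inv_mem p.hx) hys
  have huJ' : u ∈ J' := by rw [hu2]; exact J'.mul_mem p.hy (J'.inv_mem hxs)
  have hxu : s * y * s = x * u := by rw [hu]; group
  have hyu : y = u * (s * x * s) := by rw [hu2]; group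
  have hu4 : u = 1 ∨ u = zz J := by
    refine t.eq_or_of_mul p.hK p.hK' p.ne p.hz.symm p.hx p.ox huJ huJ' ?_
    rw [← hxu]
    calc s * y * s * (s * y * s) = s * y * (s * s) * y * s := by group
      _ = s * (y * y) * s := by rw [hss, mul_one]; group
      _ = zz J := by rw [p.sqy t.hyp, ← hc, mul_assoc, hss, mul_one]
  rcases hu4 with h2 | h2
  · rw [hyu, h2, one_mul]
  · -- `s^x = s z₀`
    exfalso
    rw [h2] at hyu
    apply (pz.mul t.hyp).not_zz t (t.hyp.conj L q.hK x)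
    rw [t.hyp.zz_cj q.hK]
    have hxi : x⁻¹ = x * zz J := by
      rw [inv_eq_iff_mul_eq_one]
      calc x * (x * zz J) = (x * x) * zz J := by group
        _ = 1 := by rw [p.sqx t.hyp, t.hyp.zz_mul p.hK]
    have hcx : x * (s * x * s) = (s * x * s) * x := t.comm p.hK p.hK' p.ne p.hz.symm p.hx hxs
    have hzx : x * zz J = zz J * x := t.hyp.comm_zz p.hK (le_normalizer p.hx)
    calc s * (x * y) = s * (x * (zz J * (s * x * s))) := by rw [hyu]
      _ = s * (zz J * (x * (s * x * s))) := by rw [← mul_assoc x, hzx]; group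
      _ = s * (zz J * ((s * x * s) * x)) := by rw [hcx]
      _ = (s * zz J) * s * x * s * x := by group
      _ = (zz J * s) * s * x * s * x := by rw [hc]
      _ = zz J * (s * s) * x * s * x := by group
      _ = zz J * x * s * x := by rw [hss, mul_one]
      _ = x * (zz J * s) * x := by rw [← hzx]; group
      _ = x * (s * zz J) * x := by rw [hc]
      _ = x * s * (x * zz J) := by rw [hzx]; group
      _ = x * s * x⁻¹ := by rw [hxi]

/-- **(X3)** -/
theorem TX.pairX' (t : TX F) {J J' L L' : Subgroup X} {x y x₂ y₂ : X} (p : TTp F J J' x y) (q : TTp F L L' x₂ y₂)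
    (he : x * y = x₂ * y₂) (hc : zz J * zz L = zz L * zz J) (hne : zz J ≠ zz L) :
    ∃ M, Mv F M (x * y) ∧ ∃ k ∈ M, ∃ l ∈ M, orderOf k = 4 ∧ orderOf l = 4 ∧
      zz J = (x * y) * ee (x * y) k ∧ zz L = (x * y) * ee (x * y) l := by
  obtain ⟨m1, hJJ', hy⟩ := t.mate p q he hc hne
  obtain ⟨m2, hLL', hy₂⟩ := t.mate q p he.symm hc.symm hne.symm
  have p1 : ZP F (zz J) (x * y) := ⟨J, J', x, y, p, rfl, rfl⟩
  have p2 : ZP F (zz L) (x * y) := ⟨L, L', x₂, y₂, q, rfl, he.symm⟩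
  obtain ⟨z, hz⟩ : ∃ z, z = x * y := ⟨_, rfl⟩
  obtain ⟨s, hs⟩ : ∃ s, s = zz J := ⟨_, rfl⟩
  obtain ⟨r, hr⟩ : ∃ r, r = zz L := ⟨_, rfl⟩
  rw [← hs] at m2 hLL' hy₂ p1 hc hne ⊢
  rw [← hr] at m1 hJJ' hy p2 hc hne ⊢
  rw [← hz] at p1 p2 ⊢
  have hzz : z * z = 1 := p1.sq t.hyp
  have hss : s * s = 1 := p1.zsq t.hyp
  have hrr : r * r = 1 := p2.zsq t.hyp
  have hsz : s * z = z * s := p1.comm t.hyp
  have hrz : r * z = z * r := p2.comm t.hyp
  have hzi : z⁻¹ = z := inv_eq_of_mul_eq_one_right hzz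
  have hsi : s⁻¹ = s := inv_eq_of_mul_eq_one_right hss
  have hri : r⁻¹ = r := inv_eq_of_mul_eq_one_right hrr
  have hz1 : z = ee r x := by rw [hz, ee, ← hy]
  have hz2 : z = ee s x₂ := by rw [hz, he, ee, ← hy₂]
  have hsJ : ∀ a ∈ J, a * s = s * a := fun a ha => by
    rw [hs]; exact t.hyp.comm_zz p.hK (le_normalizer ha)
  have hrL : ∀ a ∈ L, a * r = r * a := fun a ha => by
    rw [hr]; exact t.hyp.comm_zz q.hK (le_normalizer ha)
  -- `i ∈ J` of order four inverting `x`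
  obtain ⟨Q, hQ, hxQ⟩ := exists_syl_ge (isPGroup_four p.ox) (zpowers_le.2 p.hx : zpowers x ≤ J)
  obtain ⟨c, v, n, gq⟩ := t.hyp.exists_gq p.hK hQ
  obtain ⟨i, hiQ, oi, hix⟩ := gq.exists_inverting (hxQ (mem_zpowers x)) p.ox
  have hiJ : i ∈ J := hQ.1 hiQ
  have hii : i * i = s := by rw [hs]; exact t.hyp.sq_eq_zz p.hK hiJ oi
  have hxi : x⁻¹ = s * x := by
    rw [inv_eq_iff_mul_eq_one]
    calc x * (s * x) = (x * s) * x := by group
      _ = s * (x * x) := by rw [hsJ x p.hx]; group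
      _ = 1 := by rw [p.sqx t.hyp, ← hs, hss]
  -- `i z i⁻¹ = z s`
  have hiz : i * z * i⁻¹ = z * s := by
    have h1 : (r * x * r) * i = i * (r * x * r) := (m1.comm_conj t hiJ p.hx).symm
    calc i * z * i⁻¹ = i * x * ((r * x * r) * i⁻¹) := by rw [hz1, ee]; group
      _ = i * x * (i⁻¹ * (r * x * r)) := by
        rw [((show Commute (r * x * r) i from h1).inv_right).eq]
      _ = (i * x * i⁻¹) * (r * x * r) := by group
      _ = s * (x * (r * x * r)) := by rw [hix, hxi]; group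
      _ = s * z := by rw [hz1, ee]
      _ = z * s := hsz
  have hiz' : i⁻¹ * z * i = z * s := by
    have h1 : i⁻¹ * (z * s) * i = z := by rw [← hiz]; group
    have h2 : s * i = i * s := (hsJ i hiJ).symm
    calc i⁻¹ * z * i = i⁻¹ * z * i * (s * s) := by rw [hss, mul_one]
      _ = i⁻¹ * z * (i * s) * s := by group
      _ = i⁻¹ * z * (s * i) * s := by rw [h2]
      _ = i⁻¹ * (z * s) * i * s := by group
      _ = z * s := by rw [h1]
  -- the member `M = i⁻¹ L i`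
  have hMmem : cj i⁻¹ L ∈ F := t.hyp.conj L q.hK i⁻¹
  have hzM : zz (cj i⁻¹ L) = i⁻¹ * r * i := by rw [t.hyp.zz_cj q.hK, inv_inv, hr]
  have hzL : cj z L = L := by
    have h1 : z ∈ normalizer (L : Set X) := by
      rw [hz, he]
      exact mul_mem (le_normalizer q.hx) (t.hyp.le_normalizer_of_zz q.hK q.hK' q.hz q.hy)
    exact mem_normalizer_iff_cj.1 h1
  have hmv : Mv F (cj i⁻¹ L) z := by
    refine ⟨hMmem, hzz, ?_, ?_⟩
    · rw [hzM]
      calc z * (i⁻¹ * r * i) = i⁻¹ * (i * z * i⁻¹) * r * i := by group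
        _ = i⁻¹ * (z * (s * r)) * i := by rw [hiz]; group
        _ = i⁻¹ * (z * r * s) * i := by rw [hc]; group
        _ = i⁻¹ * (r * (z * s)) * i := by rw [← hrz]; group
        _ = i⁻¹ * (r * (i * z * i⁻¹)) * i := by rw [hiz]
        _ = i⁻¹ * r * i * z := by group
    · rw [← cj_mul]
      have h1 : z * i⁻¹ = i⁻¹ * (s * z) := by
        rw [hsz, ← hiz]; group
      rw [h1, cj_mul, cj_mul, hzL]
      intro h2
      rw [cj_inj] at h2
      exact m2.ne h2
  -- `(z s) x₂ (s z) = s x₂ s`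
  have hzx : z * x₂ * z = x₂ := by
    have h1 : Commute x₂ z := by
      rw [hz, he]; exact (Commute.refl x₂).mul_right (q.comm t.hyp)
    rw [← h1.eq, mul_assoc, hzz, mul_one]
  -- conjugation of the elements of `M`
  have hconj : ∀ a ∈ L, z * (i⁻¹ * a * i) * z = i⁻¹ * (s * (z * a * z) * s) * i := by
    intro a _
    calc z * (i⁻¹ * a * i) * z = i⁻¹ * (i * z * i⁻¹) * a * (i * z * i⁻¹) * i := by group
      _ = i⁻¹ * (z * s) * a * (z * s) * i := by rw [hiz]
      _ = i⁻¹ * (s * z) * a * (z * s) * i := by rw [hsz]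
      _ = i⁻¹ * (s * (z * a * z) * s) * i := by group
  have hee : ∀ a ∈ L, ee z (i⁻¹ * a * i) = i⁻¹ * (a * (s * (z * a * z) * s)) * i := by
    intro a ha
    rw [ee, hconj a ha]; group
  have hmem : ∀ a ∈ L, i⁻¹ * a * i ∈ cj i⁻¹ L := by
    intro a ha
    have := conj_mem_cj (g := i⁻¹) ha
    rwa [inv_inv] at this
  -- `κ`
  have hkap : ee z (i⁻¹ * x₂ * i) = z * s := by
    rw [hee x₂ q.hx, hzx]
    have h1 : x₂ * (s * x₂ * s) = z := by rw [hz2, ee]
    rw [h1, hiz']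
  -- `δ`
  obtain ⟨j, hj, hji⟩ := t.hyp.conj_four p.hK (t.ty2 J p.hK) p.hx hiJ p.ox oi
  obtain ⟨d, hd⟩ : ∃ d, d = ee r j := ⟨_, rfl⟩
  have hdr : d * r = r * d := by rw [hd]; exact m1.ee_comm t hj
  have hds : d * s = s * d := by rw [hd, hs]; exact m1.ee_comm_zz t hj
  have hdL : d ∈ normalizer (L : Set X) := by
    rw [hd]
    exact m1.ee_norm t q.hK (fun k hk => by rw [← hr]; exact m1.ee_comm t hk) hj
  obtain ⟨w, hw⟩ : ∃ w, w = d * x₂ * d⁻¹ := ⟨_, rfl⟩
  have hwL : w ∈ L := by rw [hw]; exact (mem_normalizer_iff.1 hdL x₂).1 q.hx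
  have ow : orderOf w = 4 := by
    rw [hw, ← q.ox]; exact (MulAut.conj d).orderOf_eq x₂
  -- `f = ee r i = ee s w`
  have hf1 : ee r i = d * z * d⁻¹ := by
    rw [← hji, hd, m1.ee_mul t (J.mul_mem hj p.hx) (J.inv_mem hj), m1.ee_mul t hj p.hx, m1.ee_inv t hj, ← hz1]
  have hf2 : ee s w = d * z * d⁻¹ := by
    rw [hz2, hw]
    have h1 := ee_cj d s x₂
    rwa [hds, mul_inv_cancel_right] at h1
  have hf : ee s w = ee r i := hf2.trans hf1.symm
  -- `z f = ee r (x i) = ee s (x₂ w)`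
  have hxw : ee s (x₂ * w) = ee r (x * i) := by
    rw [m2.ee_mul t q.hx hwL, m1.ee_mul t p.hx hiJ, ← hz1, ← hz2, hf]
  have hxi2 : (x * i) * (x * i) = s := by
    have h1 : i * x = x⁻¹ * i := by rw [← hix]; group
    calc (x * i) * (x * i) = x * (i * x) * i := by group
      _ = i * i := by rw [h1]; group
      _ = s := hii
  have oxi : orderOf (x * i) = 4 := GQ.orderOf_of_sq hxi2 hss (by rw [hs]; exact t.hyp.zz_ne p.hK)
  have hxw2 : (x₂ * w) * (x₂ * w) = r := by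
    have hmw : x₂ * w ∈ L := L.mul_mem q.hx hwL
    have h1 : ee s ((x₂ * w) * (x₂ * w)) = 1 := by
      rw [m2.ee_mul t hmw hmw, hxw, ← m1.ee_mul t (J.mul_mem p.hx hiJ) (J.mul_mem p.hx hiJ), hxi2, hs, m1.ee_zz t]
    rcases m2.eq_of_ee t (L.mul_mem hmw hmw) h1 with h2 | h2
    · exfalso
      by_cases h3 : x₂ * w = 1
      · rw [h3, ee_one hss] at hxw
        exact m1.ee_ne t (J.mul_mem p.hx hiJ) oxi hxw.symm
      · have h4 := t.hyp.eq_zz q.hK hmw h2 h3
        rw [h4, m2.ee_zz t] at hxw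
        exact m1.ee_ne t (J.mul_mem p.hx hiJ) oxi hxw.symm
    · rw [h2, ← hr]
  have oxw : orderOf (x₂ * w) = 4 := GQ.orderOf_of_sq hxw2 hrr (by rw [hr]; exact t.hyp.zz_ne q.hK)
  -- `z w z = w⁻¹`
  have hww : w * w = r := by rw [hr]; exact t.hyp.sq_eq_zz q.hK hwL ow
  have hx2 : x₂ * x₂ = r := by rw [hr]; exact q.sqx t.hyp
  have hwi : w⁻¹ = w * r := by
    rw [inv_eq_iff_mul_eq_one]
    calc w * (w * r) = (w * w) * r := by group
      _ = 1 := by rw [hww, hrr]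
  have hwx : x₂ * w * x₂⁻¹ = w⁻¹ := by
    have h1 : x₂⁻¹ = r * x₂ := by
      rw [inv_eq_iff_mul_eq_one]
      calc x₂ * (r * x₂) = (x₂ * r) * x₂ := by group
        _ = r * (x₂ * x₂) := by rw [hrL x₂ q.hx]; group
        _ = 1 := by rw [hx2, hrr]
    have h2 : w⁻¹ = r * w := by rw [hwi, hrL w hwL]
    have h3 : x₂ * w * x₂ * w = r := by rw [← hxw2]; group
    calc x₂ * w * x₂⁻¹ = x₂ * w * (x₂ * r) := by rw [h1, hrL x₂ q.hx]
      _ = (x₂ * w * x₂ * w) * w⁻¹ * r := by group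
      _ = r * w⁻¹ * r := by rw [h3]
      _ = r * (r * w) * r := by rw [h2]
      _ = (r * r) * w * r := by group
      _ = w⁻¹ := by rw [hrr, one_mul, hwi]
  have hzw : z * w * z = w⁻¹ := by
    have h1 : w * y₂ = y₂ * w := t.comm q.hK q.hK' q.ne q.hz.symm hwL q.hy
    have h2 : z * w * z⁻¹ = x₂ * w * x₂⁻¹ := by
      calc z * w * z⁻¹ = x₂ * (y₂ * w) * (x₂ * y₂)⁻¹ := by rw [hz, he]; group
        _ = x₂ * (w * y₂) * (x₂ * y₂)⁻¹ := by rw [h1]
        _ = x₂ * w * x₂⁻¹ := by group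
    rw [hzi, hwx] at h2
    exact h2
  have hlam : ee z (i⁻¹ * (x₂ * w) * i) = z * r := by
    rw [hee _ (L.mul_mem q.hx hwL)]
    have h1 : z * (x₂ * w) * z = (x₂ * w) * r := by
      calc z * (x₂ * w) * z = (z * x₂ * z) * (z * w * z) := by
            have : z * (x₂ * w) * z = (z * x₂) * (z * z) * (w * z) := by rw [hzz]; group
            rw [this]; group
        _ = (x₂ * w) * r := by rw [hzx, hzw, hwi]; group
    rw [h1]
    have h2 : (x₂ * w) * (s * ((x₂ * w) * r) * s) = ee r (x * i) * r := by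
      rw [← hxw, ee]
      calc (x₂ * w) * (s * ((x₂ * w) * r) * s) = (x₂ * w) * (s * (x₂ * w) * (r * s)) := by group
        _ = (x₂ * w) * (s * (x₂ * w) * (s * r)) := by rw [hc]
        _ = _ := by group
    rw [h2, m1.ee_mul t p.hx hiJ, ← hz1]
    -- `i⁻¹ (z f r) i`
    have h3 : i⁻¹ * ee r i * i = ee r i := by
      have h4 : i * (r * i * r) = (r * i * r) * i := m1.comm_conj t hiJ hiJ
      rw [ee]
      calc i⁻¹ * (i * (r * i * r)) * i = (r * i * r) * i := by group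
        _ = i * (r * i * r) := h4.symm
    have h5 : i⁻¹ * r * i = r * s * ee r i := by
      have h6 : i⁻¹ = i * s := by
        rw [inv_eq_iff_mul_eq_one]
        calc i * (i * s) = (i * i) * s := by group
          _ = 1 := by rw [hii, hss]
      calc i⁻¹ * r * i = (i * s) * r * i := by rw [h6]
        _ = (s * i) * r * i := by rw [hsJ i hiJ]
        _ = s * (r * r) * i * r * i := by rw [hrr]; group
        _ = s * r * ((r * i * r) * i) := by group
        _ = s * r * (i * (r * i * r)) := by rw [m1.comm_conj t hiJ hiJ]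
        _ = r * s * ee r i := by rw [hc, ee]
    have h6 : ee r i * ee r i = 1 := m1.ee_sq t hiJ oi
    have h7 : ee r i * r = r * ee r i := m1.ee_comm t hiJ
    have h8 : ee r i * s = s * ee r i := by rw [hs]; exact m1.ee_comm_zz t hiJ
    calc i⁻¹ * (z * ee r i * r) * i = (i⁻¹ * z * i) * (i⁻¹ * ee r i * i) * (i⁻¹ * r * i) := by group
      _ = (z * s) * ee r i * (r * s * ee r i) := by rw [hiz', h3, h5]
      _ = z * s * (ee r i * r) * s * ee r i := by group
      _ = z * s * r * (ee r i * s) * ee r i := by rw [h7]; group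
      _ = z * s * r * s * (ee r i * ee r i) := by rw [h8]; group
      _ = z * (s * r) * s := by rw [h6]; group
      _ = z * (r * s) * s := by rw [hc]
      _ = z * r * (s * s) := by group
      _ = z * r := by rw [hss, mul_one]
  refine ⟨cj i⁻¹ L, hmv, i⁻¹ * x₂ * i, hmem _ q.hx, i⁻¹ * (x₂ * w) * i, hmem _ (L.mul_mem q.hx hwL), ?_, ?_, ?_, ?_⟩
  · rw [← q.ox]
    have := (MulAut.conj i⁻¹).orderOf_eq x₂
    rwa [MulAut.conj_apply, inv_inv] at this
  · rw [← oxw]
    have := (MulAut.conj i⁻¹).orderOf_eq (x₂ * w)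
    rwa [MulAut.conj_apply, inv_inv] at this
  · rw [hkap, ← mul_assoc, hzz, one_mul]
  · rw [hlam, ← mul_assoc, hzz, one_mul]

/-- **(X3)** -/
theorem TX.pairX (t : TX F) {s₁ s₂ z₀ : X} (p1 : ZP F s₁ z₀) (p2 : ZP F s₂ z₀) (hc : s₁ * s₂ = s₂ * s₁)
    (hne : s₁ ≠ s₂) : ∃ M, Mv F M z₀ ∧ ∃ k ∈ M, ∃ l ∈ M, orderOf k = 4 ∧ orderOf l = 4 ∧
      s₁ = z₀ * ee z₀ k ∧ s₂ = z₀ * ee z₀ l := by
  obtain ⟨J₁, J₁', x, y, p, rfl, rfl⟩ := p1
  obtain ⟨L, L', x₂, y₂, q, rfl, he⟩ := p2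
  exact t.pairX' p q he.symm hc hne

end Cfsg.Agent.Cit.TwoX
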