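import Cfsg.Agent.Cit.TwoXConj
import Cfsg.Agent.Cit.GenB
import Cfsg.Agent.Cit.CoreTools
import Cfsg.Agent.Cit.CTEnd

/-!
# The E-LEMMA (R18, Z3, branch (B), THEOREM X)

`eLem_of` : `X` with `O(X) = 1`, `TX F`, pieces, `M` a member moved by the involution `b` which centralises `zz M`: all
elements `ee b k = k k^b`, `k ∈ M`, centralise `O(C(b))`. `ExcIn F` : the pieces without chart do not contain two
commuting members (`TwoXEAll.lean`).
-/

set_option autoImplicit false
set_option linter.style.haveILetI false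
set_option linter.unusedSectionVars false

namespace Cfsg.Agent.Cit.TwoX

open Subgroup Cfsg OneBasic UseT SubCent CoresH Cfsg.Agent.Cit.Comp
open Cfsg.Agent.Cit.TypeDet (cm)

universe u

variable {X : Type u} [Group X] [Finite X] {F : Set (Subgroup X)}

/-- the pieces without chart do not contain two commuting members -/
def ExcIn (F : Set (Subgroup X)) : Prop := ∀ D K K' : Subgroup X, IsQuasisimple D → IsPGroup 2 (center D) → D ∉ F →
  K ∈ F → K' ∈ F → K ≠ K' → cm K K' → K ≤ D → K' ≤ D → zz K' = zz K →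
  (∃ p, p.Prime ∧ p ≠ 2 ∧ IsG2D4 p (↥D ⧸ center D)) ∨ Spor.IsoM11 (↥D ⧸ center D) → False

/-- **E-LEMMA** -/
theorem eLem_of (t : TX F) (ty : ∀ K ∈ F, Ty K) (hp : HasPieces F) (hO : pPrimeCore 2 X = ⊥) (hev : EvQ X)
    (hex : ExcIn F) : ELem F := by
  rintro M b mv
  have hM := mv.mem
  have hb := mv.sq
  have hne := mv.ne
  haveI : Fact (Nat.Prime 2) := ⟨Nat.prime_two⟩
  have hz : zz (cj b M) = zz M := by rw [t.hyp.zz_cj hM, mul_inv_eq_iff_eq_mul, mv.comm]
  have hM' := t.hyp.conj M hM b
  have hcm : cm M (cj b M) := fun x hx y hy => t.comm hM hM' (Ne.symm hne) hz.symm hx hy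
  have hbi : b⁻¹ = b := mv.inv
  have hmem : ∀ k ∈ M, b * k * b ∈ cj b M := fun k hk => mv.conj_mem hk
  -- `o` centralises `M`
  have red : XX b ≤ centralizer (M : Set X) → ∀ k ∈ M, ∀ o ∈ XX b, o * ee b k = ee b k * o := by
    intro hle k hk o ho
    have h1 : Commute o k := (mem_centralizer_iff.1 (hle ho) k hk).symm
    have h2 : Commute o b := CoreTools.comm_of_mem_XX ho
    exact (h1.mul_right ((h2.mul_right h1).mul_right h2)).eq
  have hsub : (pc F M).IsSubnormal := pc_isSubnormal t.hyp hM
  have hMD : M ≤ pc F M := le_pc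
  rcases hp.eq_or_quasisimple t.hyp hM with hpc | ⟨hDO, qs, two⟩
  · -- a single member
    rw [hpc] at hsub
    apply red
    by_cases hT : SolvTwo.IsT M
    · exact GenB.XX_le_centralizer_of_isT t.hyp hM hT (hp.core M hM) hsub hb
    · have hcomp : IsComponent M := ⟨hsub, CoresComm.quasisimple_of_not_isT (ty M hM) hT (hp.core M hM)⟩
      exact CoreTools.XX_le_centralizer_of_moved hev hb hcomp hne
  have hcomp : IsComponent (pc F M) := ⟨hsub, qs⟩
  by_cases hbD : cj b (pc F M) = pc F M
  swap
  · exact red ((CoreTools.XX_le_centralizer_of_moved hev hb hcomp hbD).trans (centralizer_le hMD))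
  have hM'D : cj b M ≤ pc F M := by
    rw [← hbD]; exact cj_mono b hMD
  have hexc := hex (pc F M) M (cj b M) qs two hDO hM hM' (Ne.symm hne) hcm hMD hM'D hz
  rcases hp.piece t.hyp hM with hm | ⟨nmem, _, _, p, c, _⟩ | ⟨_, _, p, prime, odd, iso, ne, zzc, three⟩ |
    ⟨_, _, iso, ne, mem⟩
  · exact absurd hm hDO
  · -- a chart
    haveI : Fact p.Prime := ⟨c.prime⟩
    have hF := CT.fixP_of_chart c qs two
    have hX := CoreTools.XX_le_normalizer hO hev hb hcomp
    have hmul : ∀ k ∈ M, ∀ l ∈ M, (k * l) * (b * (k * l) * b) = (k * (b * k * b)) * (l * (b * l * b)) := by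
      intro k hk l hl
      have h1 : l * (b * k * b) = (b * k * b) * l := hcm l hl _ (hmem k hk)
      calc (k * l) * (b * (k * l) * b) = k * l * (b * k * (1 : X) * l * b) := by group
        _ = k * l * (b * k * (b * b) * l * b) := by rw [hb]
        _ = k * (l * (b * k * b)) * (b * l * b) := by group
        _ = k * ((b * k * b) * l) * (b * l * b) := by rw [h1]
        _ = _ := by group
    have hmul1 : (1 : X) * (b * 1 * b) = 1 := by rw [mul_one, one_mul, hb]
    let H : Subgroup X :=
      { carrier := {k | k ∈ M ∧ ∀ o ∈ XX b, o * (k * (b * k * b)) = (k * (b * k * b)) * o}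
        one_mem' := ⟨M.one_mem, fun o _ => by rw [hmul1, mul_one, one_mul]⟩
        mul_mem' := by
          rintro k l ⟨hk, hk'⟩ ⟨hl, hl'⟩
          refine ⟨M.mul_mem hk hl, fun o ho => ?_⟩
          rw [hmul k hk l hl]
          exact ((show Commute o _ from hk' o ho).mul_right (hl' o ho)).eq
        inv_mem' := by
          rintro k ⟨hk, hk'⟩
          refine ⟨M.inv_mem hk, fun o ho => ?_⟩
          have h1 : k⁻¹ * (b * k⁻¹ * b) = (k * (b * k * b))⁻¹ := by
            have h2 := hmul k hk k⁻¹ (M.inv_mem hk)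
            rw [mul_inv_cancel, hmul1] at h2
            exact eq_inv_of_mul_eq_one_right h2.symm
          rw [h1]
          exact ((show Commute o _ from hk' o ho).inv_right).eq }
    have hle : M ≤ H := by
      refine CTEnd.pgen_of_chart c hM hMD fun y hy hyp => ⟨hy, fun o ho => ?_⟩
      have h1 : y * (b * y * b) = (b * y * b) * y := hcm y hy _ (hmem y hy)
      have h2 : (y * (b * y * b)) * b = b * (y * (b * y * b)) := by
        calc (y * (b * y * b)) * b = y * (b * y * (b * b)) := by group
          _ = y * (b * y) := by rw [hb, mul_one]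
          _ = (b * b) * y * b * y := by rw [hb]; group
          _ = b * ((b * y * b) * y) := by group
          _ = _ := by rw [h1]
      obtain ⟨k, hk⟩ := hyp ⟨y, mem_zpowers y⟩
      have hk' : y ^ p ^ k = 1 := congrArg Subtype.val hk
      have h3 : (y * (b * y * b)) ^ p ^ k = 1 := by
        rw [(show Commute y (b * y * b) from h1).mul_pow, hk', one_mul]
        have h4 : b * y * b = b * y * b⁻¹ := by rw [hbi]
        rw [h4, conj_pow, hk']
        group
      have h5 : IsPGroup p (zpowers (y * (b * y * b))) := by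
        rintro ⟨w, i, rfl⟩
        refine ⟨k, Subtype.ext ?_⟩
        change ((y * (b * y * b)) ^ i) ^ (p ^ k) = 1
        rw [← zpow_natCast, ← zpow_mul, mul_comm, zpow_mul, zpow_natCast, h3, one_zpow]
      exact (hF.comm hb (mem_normalizer_iff_cj.2 hbD) ho (hX ho)
        ((pc F M).mul_mem (hMD hy) (hM'D (hmem y hy))) h2 h5).symm
    exact fun k hk => (hle hk).2
  · exact (hexc (Or.inl ⟨p, prime, odd, iso⟩)).elim
  · exact (hexc (Or.inr iso)).elim

end Cfsg.Agent.Cit.TwoX
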