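import Cfsg.Agent.Cit.TwoXE
import Cfsg.Agent.Cit.TwoTy.Exc

/-!
# The E-LEMMA (R18, Z3, branch (B), THEOREM X), final form
-/

set_option autoImplicit false
set_option linter.style.haveILetI false
set_option linter.unusedSectionVars false

namespace Cfsg.Agent.Cit.TwoX

open Subgroup Cfsg OneBasic UseT SubCent CoresH TwoBlk
open Cfsg.Agent.Cit.TypeDet (cm)

universe u

variable {X : Type u} [Group X] [Finite X] {F : Set (Subgroup X)}

theorem excIn (t : TX F) (ty : ∀ K ∈ F, Ty K) : ExcIn F := by
  haveI : Fact (Nat.Prime 2) := ⟨Nat.prime_two⟩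
  intro D K K' qs two hDO hK hK' hne hcm hKD hKD' hz hiso
  have hblk : Blk F D K K' :=
    { le := leTwo_of_twoE t.two
      ty := ty
      core := t.core
      qs := qs
      cen := two
      hK := hK
      hK' := hK'
      ne := hne
      comm := hcm
      KD := hKD
      KD' := hKD'
      nz := by
        intro J hJ hJD hc
        exact zz_notMem_center t.hyp qs hJ hJD hDO ((mem_center_iff_coe _).2 hc) }
  rcases hiso with ⟨p, prime, odd, iso⟩ | iso
  · obtain ⟨Q, hQ⟩ := Hyp.exists_syl K
    obtain ⟨x, hx, hx4⟩ := AutQuat.IsQ.exists_four (h := t.hyp.isGQ hK hQ)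
    obtain ⟨Q', hQ'⟩ := Hyp.exists_syl K'
    obtain ⟨y, hy, hy4⟩ := AutQuat.IsQ.exists_four (h := t.hyp.isGQ hK' hQ')
    have hxy := hcm x (hQ.1 hx) y (hQ'.1 hy)
    have htt : TTp F K K' x y :=
      { hK := hK
        hK' := hK'
        ne := hne
        hz := hz
        hx := hQ.1 hx
        hy := hQ'.1 hy
        ox := hx4
        oy := hy4
        two := by
          refine ⟨zpowers x ⊔ zpowers y, ?_, (le_sup_left : zpowers x ≤ _) (mem_zpowers _),
            (le_sup_right : zpowers y ≤ _) (mem_zpowers _)⟩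
          have h1 : ∀ w : X, orderOf w = 4 → IsPGroup 2 (zpowers w) := fun w hw => by
            rw [IsPGroup.iff_card]
            exact ⟨2, by rw [Nat.card_zpowers, hw]; norm_num⟩
          refine isPGroup_sup_of_normalizes (h1 _ hx4) (h1 _ hy4) ?_
          rw [zpowers_le]
          refine mem_normalizer_of_cent ?_
          rintro _ ⟨i, rfl⟩
          exact ((show Commute x y from hxy).zpow_right i).eq }
    refine hblk.exc_false prime odd iso (hQ.1 hx) hx4 (hQ'.1 hy) hy4 fun N hN _ hc => ?_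
    obtain ⟨R, hR⟩ := Hyp.exists_syl N
    exact t.noperp _ _ _ _ htt N hN ⟨R, hR, fun q hq => hc q (hR.1 hq)⟩
  · exact hblk.mathieu_false iso

/-- **E-LEMMA** -/
theorem eLem (t : TX F) (ty : ∀ K ∈ F, Ty K) (hp : HasPieces F) (hO : pPrimeCore 2 X = ⊥) (hev : Comp.EvQ X) :
    ELem F := eLem_of t ty hp hO hev (excIn t ty)

end Cfsg.Agent.Cit.TwoX
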