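import Cfsg.Agent.Cit.TwoBig
import Cfsg.Agent.Cit.Types

/-!
# `|Om(S)| = 2`, equal involutions, trivial cores: THE X-PAIR LEMMA

`TwoE Om`, `OO K = ⊥`, no product `x y` (`TTp`) centralises a Sylow 2-subgroup of a member (`NoPerp`).

* `dg m J : J →* G`, `j ↦ j (m j m⁻¹)`;
* `xpair` : `J`, `M` members, `zz J`, `zz M` commute, each of them moves the other member. Then for `x ∈ J` of order four
  there is `l ∈ M` of order four with `x (m x m⁻¹) = l (s l s⁻¹)`, `s = zz J`, `m = zz M`.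
-/

set_option autoImplicit false
set_option linter.unusedSectionVars false
set_option linter.style.haveILetI false

namespace Cfsg.Agent.Cit.TwoX

open Subgroup Cfsg OneBasic

variable {G : Type*} [Group G]

/-- no product of two elements of order four is orthogonal to a member -/
def NoPerp (Om : Set (Subgroup G)) : Prop :=
  ∀ ⦃K K' : Subgroup G⦄ ⦃x y : G⦄, TTp Om K K' x y → ∀ J ∈ Om, ¬ TwoE.Perp (x * y) J

section basic

variable [Finite G] {Om : Set (Subgroup G)} {K K' J M : Subgroup G}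

/-- the members over one involution commute -/
theorem comm_mem (hyp : Hyp Om) (hO : ∀ K ∈ Om, OO K = ⊥) (hK : K ∈ Om) (hK' : K' ∈ Om)
    (hne : K ≠ K') (hz : zz K' = zz K) : ∀ a ∈ K, ∀ a' ∈ K', a * a' = a' * a := by
  intro a ha a' ha'
  rcases hyp.h2 K hK K' hK' hz.symm with h1 | h1
  · exact absurd h1 hne
  · have h2 : a * a' * a⁻¹ * a'⁻¹ ∈ OO K := (h1 (commutator_mem_commutator ha ha')).1
    rw [hO K hK] at h2
    have h3 := mem_bot.1 h2
    rw [mul_inv_eq_one, mul_inv_eq_iff_eq_mul] at h3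
    exact h3

theorem cj_zz_self (hyp : Hyp Om) (hJ : J ∈ Om) {m : G} (hc : m * zz J = zz J * m) : zz (cj m J) = zz J := by
  rw [hyp.zz_cj hJ, hc, mul_inv_cancel_right]

/-- an element of odd order which commutes with `zz K` normalises `K` -/
theorem cj_eq_of_odd (h : TwoE Om) (hK : K ∈ Om) (hK' : K' ∈ Om) (hne : K ≠ K') (hz : zz K' = zz K) {g : G}
    (hg : g * zz K = zz K * g) (ho : Odd (orderOf g)) : cj g K = K := by
  rcases h.cj_or hK hK' hne hz hg with h1 | h1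
  · exact h1.1
  · have h2 : cj (g * g) K = K := by rw [cj_mul, h1.1, h1.2]
    obtain ⟨k, hk⟩ := ho
    have h3 : (g * g) ^ (k + 1) = g := by
      rw [← pow_two, ← pow_mul, show 2 * (k + 1) = 2 * k + 1 + 1 by ring, pow_succ, ← hk, pow_orderOf_eq_one, one_mul]
    have h4 : g ∈ normalizer (K : Set G) := by
      rw [← h3]
      exact pow_mem (mem_normalizer_iff_cj.2 h2) _
    exact mem_normalizer_iff_cj.1 h4

/-- elements of odd order in `J ∩ J'` -/
theorem eq_one_of_odd (hO : OO J = ⊥) {t : G} (ht : t ∈ J) (hc : ∀ a ∈ J, a * t = t * a)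
    (ho : Odd (orderOf t)) : t = 1 := by
  have h1 : zpowers t ≤ OO J := by
    refine le_OO (zpowers_le.2 ht) ?_ ?_
    · intro a ha
      refine mem_normalizer_of_cent ?_
      rintro _ ⟨k, rfl⟩
      exact ((show Commute a t from hc a ha).zpow_right k).eq
    · rw [Nat.card_zpowers]
      rintro ⟨k, hk⟩
      rw [hk] at ho
      exact absurd ho (by rw [Nat.not_odd_iff_even]; exact ⟨k, by ring⟩)
  rw [hO] at h1
  exact mem_bot.1 (h1 (mem_zpowers t))

end basic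

/-! ### The diagonal -/

/-- `j ↦ j (m j m⁻¹)` -/
def dg (m : G) (J : Subgroup G) (hc : ∀ a ∈ J, ∀ b ∈ cj m J, a * b = b * a) : J →* G where
  toFun j := j * (m * j * m⁻¹)
  map_one' := by simp
  map_mul' i j := by
    have h1 : (j : G) * (m * (i : G) * m⁻¹) = (m * (i : G) * m⁻¹) * (j : G) := hc j j.2 _ (conj_mem_cj i.2)
    calc ((i * j : J) : G) * (m * ((i * j : J) : G) * m⁻¹) = i * (j * (m * i * m⁻¹)) * (m * j * m⁻¹) := by
          push_cast; group
      _ = i * ((m * i * m⁻¹) * j) * (m * j * m⁻¹) := by rw [h1]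
      _ = _ := by group

theorem dg_apply (m : G) (J : Subgroup G) (hc : ∀ a ∈ J, ∀ b ∈ cj m J, a * b = b * a) (j : J) :
    dg m J hc j = j * (m * j * m⁻¹) := rfl

/-- `E_J` -/
def ED (m : G) (J : Subgroup G) (hc : ∀ a ∈ J, ∀ b ∈ cj m J, a * b = b * a) : Subgroup G := (dg m J hc).range

theorem mem_ED {m : G} {J : Subgroup G} {hc : ∀ a ∈ J, ∀ b ∈ cj m J, a * b = b * a} {e : G} :
    e ∈ ED m J hc ↔ ∃ j ∈ J, j * (m * j * m⁻¹) = e := by
  constructor
  · rintro ⟨j, rfl⟩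
    exact ⟨j, j.2, rfl⟩
  · rintro ⟨j, hj, rfl⟩
    exact ⟨⟨j, hj⟩, rfl⟩

/-- the data: two members whose involutions commute and move the other member -/
structure XP (Om : Set (Subgroup G)) (J M : Subgroup G) : Prop where
  hJ : J ∈ Om
  hM : M ∈ Om
  hc : zz J * zz M = zz M * zz J
  mvJ : cj (zz M) J ≠ J
  mvM : cj (zz J) M ≠ M

namespace XP

variable {Om : Set (Subgroup G)} {J M : Subgroup G}

theorem symm (x : XP Om J M) : XP Om M J := ⟨x.hM, x.hJ, x.hc.symm, x.mvM, x.mvJ⟩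

variable [Finite G] (x : XP Om J M) (h : TwoE Om) (hO : ∀ K ∈ Om, OO K = ⊥)

include x h

theorem zJ : zz (cj (zz M) J) = zz J := cj_zz_self h.hyp x.hJ x.hc.symm

theorem hJ' : cj (zz M) J ∈ Om := h.hyp.conj J x.hJ _

theorem mm : zz M * zz M = 1 := h.hyp.zz_mul x.hM

theorem cj_cj : cj (zz M) (cj (zz M) J) = J := by rw [← cj_mul, x.mm h, cj_one]

include hO

theorem comm : ∀ a ∈ J, ∀ b ∈ cj (zz M) J, a * b = b * a :=
  comm_mem h.hyp hO x.hJ (x.hJ' h) x.mvJ.symm (x.zJ h)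

/-- `E_J` -/
noncomputable def E : Subgroup G := ED (zz M) J (x.comm h hO)

theorem mem_E {e : G} : e ∈ x.E h hO ↔ ∃ j ∈ J, j * (zz M * j * (zz M)⁻¹) = e := mem_ED

/-- `E_J` commutes with `zz M` -/
theorem E_comm {e : G} (he : e ∈ x.E h hO) : e * zz M = zz M * e := by
  obtain ⟨j, hj, rfl⟩ := (x.mem_E h hO).1 he
  have h1 : (zz M)⁻¹ = zz M := h.hyp.zz_inv x.hM
  have h2 := x.comm h hO j hj _ (conj_mem_cj hj)
  calc j * (zz M * j * (zz M)⁻¹) * zz M = (zz M * j * (zz M)⁻¹) * j * zz M := by rw [h2]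
    _ = zz M * (j * (zz M * j * zz M)) := by rw [h1]; group
    _ = _ := by rw [h1]

/-- `E_J` commutes with `zz J` -/
theorem E_comm' {e : G} (he : e ∈ x.E h hO) : e * zz J = zz J * e := by
  obtain ⟨j, hj, rfl⟩ := (x.mem_E h hO).1 he
  have h1 : j * zz J = zz J * j := mem_centralizer_singleton_iff.1 (h.hyp.le_centralizer x.hJ hj)
  have h2 : (zz M * j * (zz M)⁻¹) * zz J = zz J * (zz M * j * (zz M)⁻¹) := by
    have := mem_centralizer_singleton_iff.1 (h.hyp.le_centralizer (x.hJ' h) (conj_mem_cj (g := zz M) hj))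
    rwa [x.zJ h] at this
  exact (show Commute (zz J) (j * (zz M * j * (zz M)⁻¹)) from (show Commute (zz J) j from h1.symm).mul_right h2.symm).symm.eq

variable (ty : ∀ K ∈ Om, TyTwo K)

include ty

/-- `E_J` normalises `M` -/
theorem E_norm {e : G} (he : e ∈ x.E h hO) : cj e M = M := by
  have key : J ≤ ((normalizer (M : Set G)).comap (dg (zz M) J (x.comm h hO))).map J.subtype := by
    refine (ty J x.hJ).trans ((closure_le _).2 ?_)
    rintro c ⟨hc, ho⟩
    refine ⟨⟨c, hc⟩, ?_, rfl⟩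
    rw [SetLike.mem_coe, mem_comap, mem_normalizer_iff_cj]
    have he' : dg (zz M) J (x.comm h hO) ⟨c, hc⟩ ∈ x.E h hO := ⟨_, rfl⟩
    refine cj_eq_of_odd h x.hM (h.hyp.conj M x.hM (zz J)) x.mvM.symm (x.symm.zJ h) (x.E_comm h hO he') ?_
    refine ho.of_dvd_nat ?_
    have h1 := orderOf_map_dvd (dg (zz M) J (x.comm h hO)) ⟨c, hc⟩
    rwa [← orderOf_coe] at h1
  obtain ⟨j, hj, rfl⟩ := (x.mem_E h hO).1 he
  obtain ⟨i, hi, hij⟩ := key hj
  have h1 : (i : G) = j := hij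
  have h2 : dg (zz M) J (x.comm h hO) i ∈ normalizer (M : Set G) := hi
  rw [dg_apply, h1] at h2
  exact mem_normalizer_iff_cj.1 h2

/-- `E_J` normalises `E_M` -/
theorem E_norm' {e f : G} (he : e ∈ x.E h hO) (hf : f ∈ x.symm.E h hO) : e * f * e⁻¹ ∈ x.symm.E h hO := by
  obtain ⟨l, hl, rfl⟩ := (x.symm.mem_E h hO).1 hf
  have h1 : e * l * e⁻¹ ∈ M := by
    rw [← x.E_norm h hO ty he]; exact conj_mem_cj hl
  refine (x.symm.mem_E h hO).2 ⟨e * l * e⁻¹, h1, ?_⟩
  have h2 := x.E_comm' h hO he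
  have h3 : zz J * e = e * zz J := h2.symm
  calc e * l * e⁻¹ * (zz J * (e * l * e⁻¹) * (zz J)⁻¹) = e * l * e⁻¹ * ((zz J * e) * l * (zz J * e)⁻¹) := by group
    _ = e * l * e⁻¹ * ((e * zz J) * l * (e * zz J)⁻¹) := by rw [h3]
    _ = _ := by group

/-- an element of `E_M` which centralises `E_J` centralises `J` -/
theorem comm_of_E {f : G} (hf : f ∈ x.symm.E h hO) (hc : ∀ e ∈ x.E h hO, e * f = f * e) :
    ∀ j ∈ J, f * j = j * f := by
  have hfJ : cj f J = J := x.symm.E_norm h hO ty hf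
  have hfm : f * zz M = zz M * f := x.symm.E_comm' h hO hf
  have hfJ' : cj f (cj (zz M) J) = cj (zz M) J := by
    rw [← cj_mul, hfm, cj_mul, hfJ]
  have key : ∀ j ∈ J, ∃ t ∈ J, t ∈ cj (zz M) J ∧ f * j * f⁻¹ = j * t := by
    intro j hj
    have h1 : f * j * f⁻¹ ∈ J := by
      have := conj_mem_cj (g := f) hj
      rwa [hfJ] at this
    have h2 : f * (zz M * j * (zz M)⁻¹) * f⁻¹ ∈ cj (zz M) J := by
      have := conj_mem_cj (g := f) (conj_mem_cj (g := zz M) hj)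
      rwa [hfJ'] at this
    have h3 := hc _ ((x.mem_E h hO).2 ⟨j, hj, rfl⟩)
    have h4 : (f * j * f⁻¹) * (f * (zz M * j * (zz M)⁻¹) * f⁻¹) = j * (zz M * j * (zz M)⁻¹) := by
      calc (f * j * f⁻¹) * (f * (zz M * j * (zz M)⁻¹) * f⁻¹) = f * (j * (zz M * j * (zz M)⁻¹)) * f⁻¹ := by group
        _ = _ := by rw [← h3, mul_inv_cancel_right]
    have h5 : j⁻¹ * (f * j * f⁻¹) = (zz M * j * (zz M)⁻¹) * (f * (zz M * j * (zz M)⁻¹) * f⁻¹)⁻¹ := by
      rw [eq_mul_inv_iff_mul_eq, mul_assoc, h4, inv_mul_cancel_left]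
    refine ⟨j⁻¹ * (f * j * f⁻¹), J.mul_mem (J.inv_mem hj) h1, ?_, by group⟩
    rw [h5]
    exact mul_mem (conj_mem_cj hj) (inv_mem h2)
  have h6 : J ≤ centralizer {f} := by
    refine (ty J x.hJ).trans ((closure_le _).2 ?_)
    rintro c ⟨hc, ho⟩
    obtain ⟨t, ht, ht', h1⟩ := key c hc
    have hct : ∀ a ∈ J, a * t = t * a := fun a ha => x.comm h hO a ha t ht'
    have h2 : t ^ orderOf c = 1 := by
      have h3 : (f * c * f⁻¹) ^ orderOf c = 1 := by
        rw [conj_pow, pow_orderOf_eq_one]; group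
      rw [h1, (show Commute c t from hct c hc).mul_pow, pow_orderOf_eq_one, one_mul] at h3
      exact h3
    have h3 : t = 1 := eq_one_of_odd (hO J x.hJ) ht hct (ho.of_dvd_nat (orderOf_dvd_of_pow_eq_one h2))
    rw [h3, mul_one, mul_inv_eq_iff_eq_mul] at h1
    exact mem_centralizer_singleton_iff.2 h1.symm
  intro j hj
  exact (mem_centralizer_singleton_iff.1 (h6 hj)).symm

end XP

section pair

variable [Finite G] {Om : Set (Subgroup G)} {J M : Subgroup G}

/-- the pair `l, l^s` -/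
theorem XP.ttp (x : XP Om J M) (h : TwoE Om) (hO : ∀ K ∈ Om, OO K = ⊥) {u : G} (hu : u ∈ J) (ou : orderOf u = 4) :
    TTp Om J (cj (zz M) J) u (zz M * u * (zz M)⁻¹) := by
  have h1 := x.comm h hO u hu _ (conj_mem_cj hu)
  have p1 : IsPGroup 2 (zpowers u) := by
    rw [IsPGroup.iff_card]
    exact ⟨2, by rw [Nat.card_zpowers, ou]; norm_num⟩
  have o2 : orderOf (zz M * u * (zz M)⁻¹) = 4 := by
    rw [← ou]; exact (MulAut.conj (zz M)).orderOf_eq u
  have p2 : IsPGroup 2 (zpowers (zz M * u * (zz M)⁻¹)) := by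
    rw [IsPGroup.iff_card]
    exact ⟨2, by rw [Nat.card_zpowers, o2]; norm_num⟩
  refine ⟨x.hJ, x.hJ' h, x.mvJ.symm, x.zJ h, hu, conj_mem_cj hu, ou, o2,
    zpowers u ⊔ zpowers (zz M * u * (zz M)⁻¹), ?_, mem_sup_left (mem_zpowers _), mem_sup_right (mem_zpowers _)⟩
  refine isPGroup_sup_of_normalizes p1 p2 ?_
  rw [zpowers_le]
  refine mem_normalizer_of_cent ?_
  rintro _ ⟨k, rfl⟩
  exact ((show Commute u (zz M * u * (zz M)⁻¹) from h1).zpow_right k).eq

/-- **THE X-PAIR LEMMA** -/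
theorem XP.xpair (x : XP Om J M) (h : TwoE Om) (ty : ∀ K ∈ Om, IsType K) (hO : ∀ K ∈ Om, OO K = ⊥)
    (hno : NoPerp Om) {u : G} (hu : u ∈ J) (ou : orderOf u = 4) :
    ∃ l ∈ M, orderOf l = 4 ∧ u * (zz M * u * (zz M)⁻¹) = l * (zz J * l * (zz J)⁻¹) := by
  have ty2 : ∀ K ∈ Om, TyTwo K := fun K hK => (ty K hK).tyTwo
  -- the subgroup `N` of `J`
  let N : Subgroup G := ((x.symm.E h hO).comap (dg (zz M) J (x.comm h hO))).map J.subtype
  have hN : ∀ j : G, j ∈ N ↔ j ∈ J ∧ j * (zz M * j * (zz M)⁻¹) ∈ x.symm.E h hO := by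
    intro j
    constructor
    · rintro ⟨i, hi, rfl⟩
      exact ⟨i.2, hi⟩
    · rintro ⟨h1, h2⟩
      exact ⟨⟨j, h1⟩, h2, rfl⟩
  have hNJ : N ≤ J := fun j hj => ((hN j).1 hj).1
  have hmul : ∀ i ∈ J, ∀ j ∈ J, (i * j) * (zz M * (i * j) * (zz M)⁻¹) =
      (i * (zz M * i * (zz M)⁻¹)) * (j * (zz M * j * (zz M)⁻¹)) := fun i hi j hj =>
    map_mul (dg (zz M) J (x.comm h hO)) ⟨i, hi⟩ ⟨j, hj⟩
  have hinv : ∀ i ∈ J, i⁻¹ * (zz M * i⁻¹ * (zz M)⁻¹) = (i * (zz M * i * (zz M)⁻¹))⁻¹ := fun i hi =>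
    map_inv (dg (zz M) J (x.comm h hO)) ⟨i, hi⟩
  have hnorm : J ≤ normalizer (N : Set G) := by
    rw [le_normalizer_iff]
    intro i hi j hj
    obtain ⟨h1, h2⟩ := (hN j).1 hj
    refine (hN _).2 ⟨J.mul_mem (J.mul_mem hi h1) (J.inv_mem hi), ?_⟩
    rw [hmul _ (J.mul_mem hi h1) _ (J.inv_mem hi), hmul i hi j h1, hinv i hi]
    exact x.E_norm' h hO ty2 ((x.mem_E h hO).2 ⟨i, hi, rfl⟩) h2
  rcases (ty J x.hJ).tyOne N hNJ hnorm with h1 | h1
  · -- the good case
    have p1 : IsPGroup 2 (zpowers u) := by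
      rw [IsPGroup.iff_card]
      exact ⟨2, by rw [Nat.card_zpowers, ou]; norm_num⟩
    obtain ⟨Q, hQ, huQ⟩ := OneBasic.exists_syl_ge p1 (zpowers_le.2 hu : zpowers u ≤ J)
    obtain ⟨-, h2⟩ := (hN u).1 (h1 Q hQ (huQ (mem_zpowers u)))
    obtain ⟨l, hl, hl2⟩ := (x.symm.mem_E h hO).1 h2
    refine ⟨l, hl, ?_, hl2.symm⟩
    -- `l * l ∈ {1, zz M}`
    have tt := x.ttp h hO hu ou
    have hsq := tt.sq h.hyp
    have hcl := x.symm.comm h hO l hl _ (conj_mem_cj hl)
    have h3 : (l * l) * (zz J * (l * l) * (zz J)⁻¹) = 1 := by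
      calc (l * l) * (zz J * (l * l) * (zz J)⁻¹) = l * (l * (zz J * l * (zz J)⁻¹)) * (zz J * l * (zz J)⁻¹) := by group
        _ = l * ((zz J * l * (zz J)⁻¹) * l) * (zz J * l * (zz J)⁻¹) := by rw [hcl]
        _ = (l * (zz J * l * (zz J)⁻¹)) * (l * (zz J * l * (zz J)⁻¹)) := by group
        _ = 1 := by rw [hl2]; exact hsq
    have h4 : l * l ∈ cj (zz J) M := by
      have h5 : l * l = (zz J * (l * l) * (zz J)⁻¹)⁻¹ := mul_eq_one_iff_eq_inv.1 h3
      rw [h5]
      exact inv_mem (conj_mem_cj (M.mul_mem hl hl))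
    have h5 : ∀ a ∈ M, a * (l * l) = (l * l) * a := fun a ha => x.symm.comm h hO a ha _ h4
    have h6 : l * l ≠ 1 := by
      intro h7
      have h8 : l = 1 ∨ l = zz M := by
        by_cases hl1 : l = 1
        · exact Or.inl hl1
        · exact Or.inr (h.hyp.eq_zz x.hM hl h7 hl1)
      have h9 : l * (zz J * l * (zz J)⁻¹) = 1 := by
        rcases h8 with h8 | h8
        · rw [h8]; group
        · rw [h8, x.hc, mul_inv_cancel_right, h.hyp.zz_mul x.hM]
      rw [h9] at hl2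
      have h10 : u = (zz M * u * (zz M)⁻¹)⁻¹ := mul_eq_one_iff_eq_inv.1 hl2.symm
      refine h.hyp.not_mem_of_four x.hJ (x.hJ' h) x.mvJ.symm (x.zJ h) hu ou ?_
      rw [h10]
      exact inv_mem (conj_mem_cj hu)
    -- `l` is a 2-element: `l * l` lies in the centre of `M`
    have h7 : (l * l) * (l * l) = 1 := by
      -- `u u^m` is an involution and `E_M ≅ M`: `l ^ 4 = 1` as `l^4 = 1` on both factors
      have key : ∀ t ∈ M, t ∈ cj (zz J) M → t * t = 1 := by
        intro t ht ht'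
        by_contra hne
        have hct : ∀ a ∈ M, a * t = t * a := fun a ha => x.symm.comm h hO a ha t ht'
        -- `zpowers t` is normal in `M`
        have hn : M ≤ normalizer (zpowers t : Set G) := by
          intro a ha
          refine mem_normalizer_of_cent ?_
          rintro _ ⟨k, rfl⟩
          exact ((show Commute a t from hct a ha).zpow_right k).eq
        rcases (ty M x.hM).tyOne (zpowers t) (zpowers_le.2 ht) hn with h8 | h8
        · obtain ⟨Q, hQ⟩ := Hyp.exists_syl M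
          obtain ⟨c, v, n, gq⟩ := h.hyp.exists_gq x.hM hQ
          obtain ⟨i, hi⟩ := h8 Q hQ gq.v_mem
          apply gq.not_comm
          have hi' : t ^ i = v := hi
          rw [← hi']
          exact ((show Commute t c from (hct c (hQ.1 gq.c_mem)).symm).zpow_left i).eq
        · rw [hO M x.hM, bot_sup_eq] at h8
          obtain ⟨k, hk⟩ := h8 (mem_zpowers t)
          apply hne
          have hk' : zz M ^ k = t := hk
          rw [← hk', ← zpow_add, ← two_mul, zpow_mul, zpow_two, h.hyp.zz_mul x.hM, one_zpow]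
      exact key _ (M.mul_mem hl hl) h4
    exact GQ.orderOf_of_sq (h.hyp.eq_zz x.hM (M.mul_mem hl hl) h7 h6) (h.hyp.zz_mul x.hM) (h.hyp.zz_ne x.hM)
  · -- `E_J`, `E_M` commute
    exfalso
    rw [hO J x.hJ, bot_sup_eq] at h1
    have hcomm : ∀ e ∈ x.E h hO, ∀ f ∈ x.symm.E h hO, e * f = f * e := by
      intro e he f hf
      have h2 : e * f * e⁻¹ * f⁻¹ ∈ x.symm.E h hO := mul_mem (x.E_norm' h hO ty2 he hf) (inv_mem hf)
      have h3 : e * f * e⁻¹ * f⁻¹ ∈ x.E h hO := by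
        have h4 := mul_mem he (x.symm.E_norm' h hO ty2 hf (inv_mem he))
        have h5 : e * (f * e⁻¹ * f⁻¹) = e * f * e⁻¹ * f⁻¹ := by group
        rwa [h5] at h4
      obtain ⟨j, hj, hje⟩ := (x.mem_E h hO).1 h3
      have h4 : j ∈ N := (hN j).2 ⟨hj, by rw [hje]; exact h2⟩
      obtain ⟨k, hk⟩ := h1 h4
      have hk' : zz J ^ k = j := hk
      have hss : zz J * zz J = 1 := h.hyp.zz_mul x.hJ
      have h5 : j * (zz M * j * (zz M)⁻¹) = 1 := by
        have h6 : zz M * j = j * zz M := by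
          rw [← hk']
          exact ((show Commute (zz M) (zz J) from x.hc.symm).zpow_right k).eq
        rw [h6, mul_inv_cancel_right, ← hk', ← zpow_add, ← two_mul, zpow_mul, zpow_two, hss, one_zpow]
      rw [h5] at hje
      have h6 := hje.symm
      rwa [mul_inv_eq_one, mul_inv_eq_iff_eq_mul] at h6
    obtain ⟨Q, hQ⟩ := Hyp.exists_syl M
    obtain ⟨c, v, n, gq⟩ := h.hyp.exists_gq x.hM hQ
    have hvM : v ∈ M := hQ.1 gq.v_mem
    have tt := x.symm.ttp h hO hvM gq.orderOf_v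
    have hf : v * (zz J * v * (zz J)⁻¹) ∈ x.symm.E h hO := (x.symm.mem_E h hO).2 ⟨v, hvM, rfl⟩
    have h2 := x.comm_of_E h hO ty2 hf (fun e he => hcomm e he _ hf)
    obtain ⟨QJ, hQJ⟩ := Hyp.exists_syl J
    exact hno tt J x.hJ ⟨QJ, hQJ, fun q hq => h2 q (hQJ.1 hq)⟩

end pair

end Cfsg.Agent.Cit.TwoX
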