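import Cfsg.Agent.Cit.TwoX
import Cfsg.Agent.Cit.TwoXPair

/-!
# Existence of a commuting pair `s₁ ≠ s₂` with a common product (R18, Z3, (8c): (X4), (X5))

`exists_hex` : if the involutions of two members commute and are different then there are `s₁ ≠ s₂` commuting and `z` with
`ZP F s₁ z`, `ZP F s₂ z`.
-/

set_option autoImplicit false
set_option linter.style.haveILetI false
set_option linter.unusedSectionVars false

namespace Cfsg.Agent.Cit.TwoX

open Subgroup Cfsg OneBasic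

variable {X : Type*} [Group X] [Finite X] {F : Set (Subgroup X)} {J J' K L M N : Subgroup X}

theorem TX.noPerp (t : TX F) : NoPerp F := fun _ _ _ _ p J hJ => t.noperp _ _ _ _ p J hJ

/-- `(X5)` : the pair -/
theorem TX.hex_of_xp (t : TX F) (x : XP F J M) :
    ∃ s₁ s₂ z₁, ZP F s₁ z₁ ∧ ZP F s₂ z₁ ∧ s₁ * s₂ = s₂ * s₁ ∧ s₁ ≠ s₂ := by
  obtain ⟨Q, hQ⟩ := Hyp.exists_syl J
  obtain ⟨c, v, n, gq⟩ := t.hyp.exists_gq x.hJ hQ
  have hv : v ∈ J := hQ.1 gq.v_mem
  obtain ⟨l, hl, ol, he⟩ := x.xpair t.two t.ty t.core t.noPerp hv gq.orderOf_v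
  refine ⟨zz J, zz M, v * (zz M * v * (zz M)⁻¹), ⟨J, _, v, _, x.ttp t.two t.core hv gq.orderOf_v, rfl, rfl⟩,
    ⟨M, _, l, _, x.symm.ttp t.two t.core hl ol, rfl, he.symm⟩, x.hc, ?_⟩
  intro h1
  apply x.mvJ
  rw [← h1]
  exact mem_normalizer_iff_cj.1 (le_normalizer (t.hyp.zz_mem x.hJ))

/-- the involution of a member which normalises `M` is `M`-conjugate to its product with `zz M` -/
theorem TX.conj_mul (t : TX F) (hM : M ∈ F) (hN : N ∈ F) (hne : zz N ≠ zz M) (hn : zz N ∈ normalizer (M : Set X)) :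
    ∃ b ∈ M, b * zz N * b⁻¹ = zz M * zz N := by
  have hp : IsPGroup 2 (zpowers (zz N)) := by
    rw [IsPGroup.iff_card]
    exact ⟨1, by rw [Nat.card_zpowers, t.hyp.orderOf_zz hN, pow_one]⟩
  obtain ⟨Q, hQ, hAQ⟩ := exists_syl_normalized hp (zpowers_le.2 hn)
  obtain ⟨b, hb, h1, -⟩ := exists_conj_mul hQ.2.1 (z := zz M) (y := zz N)
    (fun u hu h2 h3 => t.hyp.eq_zz hM (hQ.1 hu) h2 h3) (t.hyp.zz_mul hN) (hAQ (mem_zpowers _)) (by
      by_contra hcon
      push Not at hcon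
      exact hne (t.two.zz_eq_of_cent hM hN hQ hcon))
  exact ⟨b, hQ.1 hb, h1⟩

/-- one swap implies the other -/
theorem TX.false_of_half (t : TX F) (hJ : J ∈ F) (hM : M ∈ F) (hc : zz J * zz M = zz M * zz J)
    (hmv : cj (zz M) J ≠ J) (hn : cj (zz J) M = M) : False := by
  obtain ⟨s, hs⟩ : ∃ s, s = zz J := ⟨_, rfl⟩
  obtain ⟨r, hr⟩ : ∃ r, r = zz M := ⟨_, rfl⟩
  have hss : s * s = 1 := by rw [hs]; exact t.hyp.zz_mul hJ
  have hrr : r * r = 1 := by rw [hr]; exact t.hyp.zz_mul hM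
  have hsr : s ≠ r := by
    intro h1
    apply hmv
    rw [← hr, ← h1, hs]
    exact mem_normalizer_iff_cj.1 (le_normalizer (t.hyp.zz_mem hJ))
  have m : Mv F J r := ⟨hJ, hrr, by rw [hr]; exact hc.symm, by rw [hr]; exact hmv⟩
  obtain ⟨b, hb, hbs⟩ := t.conj_mul hM hJ (by rw [← hs, ← hr]; exact hsr) (mem_normalizer_iff_cj.2 hn)
  rw [← hs, ← hr] at hbs hc
  obtain ⟨Q, hQ⟩ := Hyp.exists_syl J
  obtain ⟨c, x, n, gq⟩ := t.hyp.exists_gq hJ hQ
  have hx : x ∈ J := hQ.1 gq.v_mem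
  have ox : orderOf x = 4 := gq.orderOf_v
  have hxx : x * x = s := by rw [hs]; exact t.hyp.sq_eq_zz hJ hx ox
  have hxs : x * s = s * x := by rw [hs]; exact t.hyp.comm_zz hJ (le_normalizer hx)
  have hxi : x⁻¹ = s * x := by
    rw [inv_eq_iff_mul_eq_one]
    calc x * (s * x) = (x * s) * x := by group
      _ = s * (x * x) := by rw [hxs]; group
      _ = 1 := by rw [hxx, hss]
  obtain ⟨u, hu⟩ : ∃ u, u = ee r x := ⟨_, rfl⟩
  have hur : u * r = r * u := by rw [hu]; exact m.ee_comm t hx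
  -- `zz N₁ = u r`
  have h1 : x * (r * s) * x⁻¹ = u * r := by
    rw [hxi, hu, ee]
    calc x * (r * s) * (s * x) = x * r * (s * s) * x := by group
      _ = x * r * x * (r * r) := by rw [hss, hrr, mul_one, mul_one]
      _ = x * (r * x * r) * r := by group
  have hN : zz (cj x (cj b J)) = u * r := by
    rw [t.hyp.zz_cj (t.hyp.conj J hJ b), t.hyp.zz_cj hJ, ← hs, hbs, h1]
  have hNF : cj x (cj b J) ∈ F := t.hyp.conj _ (t.hyp.conj J hJ b) x
  have huM : u ∈ normalizer (M : Set X) := by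
    rw [hu]
    exact m.ee_norm t hM (fun k hk => by rw [← hr]; exact m.ee_comm t hk) hx
  have hrM : r ∈ normalizer (M : Set X) := by rw [hr]; exact le_normalizer (t.hyp.zz_mem hM)
  obtain ⟨b', hb', hbu⟩ := t.conj_mul hM hNF (by
    rw [hN, ← hr]
    intro h2
    exact m.ee_ne t hx ox (by rw [← hu]; exact mul_eq_right.1 h2)) (by rw [hN]; exact mul_mem huM hrM)
  rw [hN, ← hr] at hbu
  have h2 : r * (u * r) = u := by rw [hur, ← mul_assoc, hrr, one_mul]
  rw [h2] at hbu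
  have hzp : ZP F (zz J) u := by rw [hu]; exact m.zp t hx ox
  apply hzp.not_zz t (t.hyp.conj _ hNF b')
  rw [t.hyp.zz_cj hNF, hN, hbu]

/-- an element of order four of `J` inverted by `zz N` -/
theorem TX.exists_inv (t : TX F) (hJ : J ∈ F) (hN : N ∈ F) (hne : zz N ≠ zz J) (hNJ : zz N ∈ normalizer (J : Set X))
    (hJN : zz J ∈ normalizer (N : Set X)) : ∃ x ∈ J, orderOf x = 4 ∧ zz N * x * (zz N)⁻¹ = x⁻¹ := by
  obtain ⟨T, Q, Q', -, p⟩ := exists_nPair hJ hN hne.symm hNJ hJN (A := ⊥) IsPGroup.of_bot bot_le bot_le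
  obtain ⟨c, v, n, gq, hinv⟩ := t.hyp.exists_gq_cyclic hJ p.hQ p.hT.2.1 p.hTQ
  have hrT : zz N ∈ T := p.zL_mem t.two
  obtain ⟨r, hr⟩ : ∃ r, r = zz N := ⟨_, rfl⟩
  rw [← hr] at hrT ⊢
  have hrr : r * r = 1 := by rw [hr]; exact t.hyp.zz_mul hN
  have hrz : r * zz J = zz J * r := t.hyp.comm_zz hJ (by rw [hr]; exact hNJ)
  by_cases hk : ∃ k ∈ Q, k * k = zz J ∧ k * r = r * k
  · obtain ⟨k, hkQ, hkk, hkr⟩ := hk
    have ok : orderOf k = 4 := GQ.orderOf_of_sq hkk (t.hyp.zz_mul hJ) (t.hyp.zz_ne hJ)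
    have hact := p.act t.two hkQ hkk (by rw [← hr]; exact hkr)
    rw [← hr] at hact
    obtain ⟨q, hq, oq, hqk⟩ := gq.exists_inverting hkQ ok
    refine ⟨q, p.hQ.1 hq, oq, ?_⟩
    have hqq : q * q = zz J := t.hyp.sq_eq_zz hJ (p.hQ.1 hq) oq
    -- `k q = q k⁻¹`
    have h1 : k * q = q * k⁻¹ := by
      have h2 : q * k = k⁻¹ * q := by rw [← hqk]; group
      calc k * q = k * (q * k) * k⁻¹ := by group
        _ = k * (k⁻¹ * q) * k⁻¹ := by rw [h2]
        _ = q * k⁻¹ := by group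
    have hzz : zz J * zz J = 1 := t.hyp.zz_mul hJ
    have hqi : q⁻¹ = q * zz J := by
      rw [inv_eq_iff_mul_eq_one, ← mul_assoc, hqq, hzz]
    have hki : k⁻¹ * k⁻¹ = zz J := by rw [← mul_inv_rev, hkk, t.hyp.zz_inv hJ]
    have h3 : k⁻¹ * q * k = q⁻¹ := by
      have h4 : k⁻¹ * q = q * k := by
        calc k⁻¹ * q = k⁻¹ * (q * k⁻¹) * k := by group
          _ = k⁻¹ * (k * q) * k := by rw [h1]
          _ = q * k := by group
      rw [h4, mul_assoc, hkk, hqi]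
    have h5 : r = (r * k) * k⁻¹ := by group
    calc r * q * r⁻¹ = ((r * k) * k⁻¹) * q * ((r * k) * k⁻¹)⁻¹ := by rw [← h5]
      _ = (r * k) * (k⁻¹ * q * k) * (r * k)⁻¹ := by group
      _ = (r * k) * q⁻¹ * (r * k)⁻¹ := by rw [h3]
      _ = q⁻¹ := by rw [hact _ (Q.inv_mem hq), mul_inv_cancel_right]
  · push Not at hk
    have hwQ : c ^ 2 ^ n ∈ Q := Q.pow_mem gq.c_mem _
    obtain ⟨w, hw⟩ : ∃ w, w = c ^ 2 ^ n := ⟨_, rfl⟩
    rw [← hw] at hwQ
    have hww : w * w = zz J := by rw [hw]; exact gq.w_sq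
    have hwc : w ∈ zpowers c := by rw [hw]; exact Subgroup.pow_mem _ (mem_zpowers c) _
    have hrw : r * w * r⁻¹ ∈ zpowers c := by
      obtain ⟨k, hk⟩ := hinv r hrT
      have hk' : c ^ k = r * c * r⁻¹ := hk
      rw [hw, ← conj_pow, ← hk']
      exact Subgroup.pow_mem _ (Subgroup.zpow_mem _ (mem_zpowers c) _) _
    have hcomm : (r * w * r⁻¹) * w = w * (r * w * r⁻¹) := by
      obtain ⟨i, hi⟩ := hrw
      obtain ⟨j, hj⟩ := hwc
      have hi' : c ^ i = r * w * r⁻¹ := hi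
      have hj' : c ^ j = w := hj
      rw [← hi', ← hj']
      exact ((Commute.refl c).zpow_zpow i j).eq
    have hsq : (r * w * r⁻¹) * (r * w * r⁻¹) = zz J := by
      calc (r * w * r⁻¹) * (r * w * r⁻¹) = r * (w * w) * r⁻¹ := by group
        _ = zz J := by rw [hww, hrz, mul_inv_cancel_right]
    have h1 : ((r * w * r⁻¹) * w) * ((r * w * r⁻¹) * w) = 1 := by
      calc ((r * w * r⁻¹) * w) * ((r * w * r⁻¹) * w) = (r * w * r⁻¹) * (w * (r * w * r⁻¹)) * w := by group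
        _ = (r * w * r⁻¹) * ((r * w * r⁻¹) * w) * w := by rw [hcomm]
        _ = ((r * w * r⁻¹) * (r * w * r⁻¹)) * (w * w) := by group
        _ = 1 := by rw [hsq, hww, t.hyp.zz_mul hJ]
    have hrwQ : (r * w * r⁻¹) * w ∈ Q := Q.mul_mem ((zpowers_le.2 gq.c_mem) hrw) hwQ
    refine ⟨w, p.hQ.1 hwQ, GQ.orderOf_of_sq hww (t.hyp.zz_mul hJ) (t.hyp.zz_ne hJ), ?_⟩
    by_cases h2 : (r * w * r⁻¹) * w = 1
    · exact eq_inv_of_mul_eq_one_left h2
    · exfalso
      have h3 := gq.eq_z hrwQ h1 h2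
      apply hk w hwQ hww
      have h4 : r * w * r⁻¹ = w := by
        have h5 : r * w * r⁻¹ = zz J * w⁻¹ := by rw [← h3]; group
        rw [h5, ← hww]; group
      rw [mul_inv_eq_iff_eq_mul] at h4
      exact h4.symm

/-- the other member over the same involution -/
theorem TX.exists_other (t : TX F) (hJ : J ∈ F) : ∃ J' ∈ F, J ≠ J' ∧ zz J' = zz J := by
  obtain ⟨S, hJS, -⟩ := t.hyp.exists_sylow hJ
  obtain ⟨L, hL, hne⟩ := (t.two.eqZ ⟨J, hJ⟩ t.ty2).two S J hJS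
  exact ⟨L, hL.1, hne.symm, t.two.zz_eq S.isPGroup' hL hJS⟩

/-- **(X4), (X5)** -/
theorem TX.exists_hex (t : TX F) (hJ : J ∈ F) (hM : M ∈ F) (hne : zz J ≠ zz M) (hc : zz J * zz M = zz M * zz J) :
    ∃ s₁ s₂ z₁, ZP F s₁ z₁ ∧ ZP F s₂ z₁ ∧ s₁ * s₂ = s₂ * s₁ ∧ s₁ ≠ s₂ := by
  by_cases h1 : cj (zz M) J = J
  · by_cases h2 : cj (zz J) M = M
    · -- neither moves
      obtain ⟨J', hJ', hneJ, hzJ⟩ := t.exists_other hJ
      have hrJ : zz M ∈ normalizer (J : Set X) := mem_normalizer_iff_cj.2 h1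
      have hsM : zz J ∈ normalizer (M : Set X) := mem_normalizer_iff_cj.2 h2
      have hrJ' : zz M ∈ normalizer (J' : Set X) := t.two.normalizer_le hJ hJ' hneJ hzJ hrJ
      obtain ⟨x, hx, ox, hxi⟩ := t.exists_inv hJ hM hne.symm hrJ hsM
      obtain ⟨y, hy, oy, hyi⟩ := t.exists_inv hJ' hM (by rw [hzJ]; exact hne.symm) hrJ' (by rw [hzJ]; exact hsM)
      obtain ⟨g, hg, hgr⟩ := t.inv_conj hJ hM hne.symm hrJ hx ox hxi
      obtain ⟨g', hg', hgr'⟩ := t.inv_conj hJ' hM (by rw [hzJ]; exact hne.symm) hrJ' hy oy hyi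
      have hxy : x * y = y * x := t.comm hJ hJ' hneJ hzJ.symm hx hy
      have p : TTp F J J' x y := by
        refine ⟨hJ, hJ', hneJ, hzJ, hx, hy, ox, oy, zpowers x ⊔ zpowers y, ?_, mem_sup_left (mem_zpowers _),
          mem_sup_right (mem_zpowers _)⟩
        refine isPGroup_sup_of_normalizes (isPGroup_four ox) (isPGroup_four oy) ?_
        rw [zpowers_le]
        refine mem_normalizer_of_cent ?_
        rintro _ ⟨k, rfl⟩
        exact ((show Commute x y from hxy).zpow_right k).eq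
      have pz : ZP F (zz J) (x * y) := ⟨J, J', x, y, p, rfl, rfl⟩
      obtain ⟨r, hr⟩ : ∃ r, r = zz M := ⟨_, rfl⟩
      rw [← hr] at hgr hgr' hxi hyi
      have hrr : r * r = 1 := by rw [hr]; exact t.hyp.zz_mul hM
      have hri : r⁻¹ = r := inv_eq_of_mul_eq_one_right hrr
      -- `zz M₃ = r x y`
      have e1 : (g' * g) * r * (g' * g)⁻¹ = r * (x * y) := by
        have h3 : x * g' = g' * x := t.comm hJ hJ' hneJ hzJ.symm hx hg'
        calc (g' * g) * r * (g' * g)⁻¹ = g' * (g * r * g⁻¹) * g'⁻¹ := by group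
          _ = g' * r * (x * g'⁻¹) := by rw [hgr]; group
          _ = g' * r * (g'⁻¹ * x) := by rw [((show Commute x g' from h3).inv_right).eq]
          _ = (g' * r * g'⁻¹) * x := by group
          _ = r * (y * x) := by rw [hgr']; group
          _ = r * (x * y) := by rw [hxy]
      have hM3 : cj (g' * g) M ∈ F := t.hyp.conj M hM _
      have hz3 : zz (cj (g' * g) M) = r * (x * y) := by rw [t.hyp.zz_cj hM, ← hr, e1]
      -- `r` commutes with `x y`
      have hrxy : r * (x * y) = (x * y) * r := by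
        have h3 : r * (x * y) * r⁻¹ = (x * y)⁻¹ := by
          calc r * (x * y) * r⁻¹ = (r * x * r⁻¹) * (r * y * r⁻¹) := by group
            _ = x⁻¹ * y⁻¹ := by rw [hxi, hyi]
            _ = (x * y)⁻¹ := by rw [hxy, mul_inv_rev]
        have h4 : (x * y)⁻¹ = x * y := inv_eq_of_mul_eq_one_right (pz.sq t.hyp)
        rw [h4, mul_inv_eq_iff_eq_mul] at h3
        exact h3
      have hne3 : zz (cj (g' * g) M) ≠ zz M := by
        rw [hz3, ← hr]
        intro h3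
        have h4 : x * y = 1 := mul_eq_left.1 h3
        refine t.hyp.not_mem_of_four hJ hJ' hneJ hzJ hx ox ?_
        rw [eq_inv_of_mul_eq_one_left h4]
        exact J'.inv_mem hy
      have hc3 : zz M * zz (cj (g' * g) M) = zz (cj (g' * g) M) * zz M := by
        rw [hz3, ← hr]
        calc r * (r * (x * y)) = r * ((x * y) * r) := by rw [hrxy]
          _ = r * (x * y) * r := by group
      -- `zz M₃` moves `M`
      have hmv : cj (zz (cj (g' * g) M)) M ≠ M := by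
        intro h3
        obtain ⟨b, hb, hbs⟩ := t.conj_mul hM hM3 hne3 (mem_normalizer_iff_cj.2 h3)
        apply pz.not_zz t (t.hyp.conj _ hM3 b)
        rw [t.hyp.zz_cj hM3, hbs, hz3, ← hr, ← mul_assoc, hrr, one_mul]
      by_cases h3 : cj (zz M) (cj (g' * g) M) = cj (g' * g) M
      · exact (t.false_of_half hM hM3 hc3 hmv h3).elim
      · exact t.hex_of_xp ⟨hM, hM3, hc3, hmv, h3⟩
    · exact (t.false_of_half hM hJ hc.symm h2 h1).elim
  · by_cases h2 : cj (zz J) M = M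
    · exact (t.false_of_half hJ hM hc h1 h2).elim
    · exact t.hex_of_xp ⟨hJ, hM, hc, h1, h2⟩

end Cfsg.Agent.Cit.TwoX
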