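import Cfsg.Agent.Cit.SplitQuad
import Cfsg.Agent.Cit.SLSysOf
import Cfsg.Agent.Cit.FrameSign
import Cfsg.Agent.Cit.NodeGlue
import Cfsg.Agent.Cit.RankOneSL

/-!
# The case `D₄` (project CIT)

`In`: a frame `K 0, …, K 3` of four commuting `SL(2,F)` with the same involution, `|Q i s| = q⁹` and `K j`, `j ≠ i`,
quadratic on `Q i s / X i s`.  RESULT: the sign groups and the `X i s` are the 24 root groups of type `D₄`.
-/

set_option autoImplicit false
set_option linter.unusedSectionVars false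

namespace Cfsg.Agent.Cit.TypeD4

open Subgroup Cfsg Matrix Cfsg.Agent.Lib.SL2Mat Cfsg.Agent.Cit.LemmaATwo Cfsg.Agent.Cit.ParabSL2
  Cfsg.Agent.Cit.SLSysOf Cfsg.Agent.Cit.FrameSign Cfsg.Agent.Cit.SplitQuad
open scoped commutatorElement

variable {G : Type*} [Group G]

theorem sneg {s : SignType} (hs : s ≠ 0) : -s ≠ 0 := by
  revert s; decide

section Frame

variable {ι : Type*} {K : ι → Subgroup G} {z : ι → G} {X Q : ι → SignType → Subgroup G}

theorem zz_zz {y : G} (hy : y * y = 1) (a : G) : y * (y * a * y) * y = a := by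
  calc y * (y * a * y) * y = (y * y) * a * (y * y) := by group
    _ = a := by rw [hy, one_mul, mul_one]

theorem zz_mul {y : G} (hy : y * y = 1) (a b : G) : y * (a * b) * y = (y * a * y) * (y * b * y) := by
  calc y * (a * b) * y = y * a * 1 * b * y := by group
    _ = y * a * (y * y) * b * y := by rw [hy]
    _ = (y * a * y) * (y * b * y) := by group

/-- `z i` inverts `Q i s` modulo `X i s`. -/
theorem mul_zz_mem [Finite G] (F : Frame K z X Q) {i : ι} {s : SignType} (hs : s ≠ 0) {a : G}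
    (ha : a ∈ Q i s) : a * (z i * a * z i) ∈ X i s := by
  have hzm : ∀ a ∈ Q i s, z i * a * z i ∈ Q i s := by
    intro a ha
    have h1 := (Subgroup.mem_normalizer_iff.1 (F.z_mem_normalizer_Q i i s) a).1 ha
    rwa [F.z_inv] at h1
  set u := a * (z i * a * z i) with hu
  have huV : u ∈ Q i s := mul_mem ha (hzm a ha)
  have h1 : z i * u * z i = (z i * a * z i) * a := by rw [hu, zz_mul (F.z_sq i), zz_zz (F.z_sq i)]
  set c := u⁻¹ * (z i * u * z i) with hc
  have hcZ : c ∈ X i s := by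
    have h2 : c = (z i * a * z i)⁻¹ * ⁅a⁻¹, z i * a * z i⁆ * (z i * a * z i) := by
      rw [hc, h1, hu, commutatorElement_def]; group
    have h3 := F.Q_der i s hs a⁻¹ (inv_mem ha) _ (hzm a ha)
    have h4 := F.Q_cent i s hs _ (hzm a ha) _ h3
    rw [h2, mul_assoc, ← h4, inv_mul_cancel_left]
    exact h3
  have hcz : z i * c * z i = c := by
    rw [F.z_cent i c (F.X_le_K i hs hcZ), mul_assoc, F.z_sq, mul_one]
  have h2 : z i * u * z i = u * c := by rw [hc]; group
  have h3 := congrArg (fun x => z i * x * z i) h2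
  simp only [zz_zz (F.z_sq i)] at h3
  rw [zz_mul (F.z_sq i), h2, hcz, mul_assoc] at h3
  have h4 : c * c = 1 := by
    have : u * (c * c) = u * 1 := by rw [mul_one]; exact h3.symm
    exact mul_left_cancel this
  have h5 := F.eq_one_of_sq hs (F.X_le_Q i s hs hcZ) h4
  rw [h5, mul_one] at h2
  refine F.Q_fix i s hs u huV ?_
  calc z i * u = z i * u * (z i * z i) := by rw [F.z_sq, mul_one]
    _ = (z i * u * z i) * z i := by group
    _ = u * z i := by rw [h2]

theorem inv_two [Finite G] (F : Frame K z X Q) {i j : ι} (hij : i ≠ j) (hz : z i = z j) {s t : SignType}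
    (hs : s ≠ 0) (ht : t ≠ 0) {a : G} (ha : a ∈ Q i s) (hb : a ∈ Q j t) : z i * a * z i = a⁻¹ := by
  have h1 := mul_zz_mem F hs ha
  have h2 := mul_zz_mem F ht hb
  rw [← hz] at h2
  have h3 := F.X_disj i j hij s t hs ht _ h1 h2
  exact eq_inv_of_mul_eq_one_right h3

theorem mem_normalizer_Q (F : Frame K z X Q) {i j : ι} (hij : i ≠ j) {s : SignType} (hs : s ≠ 0) {k : G}
    (hk : k ∈ K i) : k ∈ Subgroup.normalizer (Q j s : Set G) := by
  refine F.Q_norm j s hs ?_
  refine (Subgroup.centralizer_le_normalizer (X j s : Set G) : _) ?_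
  rw [Subgroup.mem_centralizer_iff]
  intro b hb
  exact (F.comm i j hij k hk b (F.X_le_K j hs hb)).symm

theorem conj_mem_Q (F : Frame K z X Q) {i j : ι} (hij : i ≠ j) {s : SignType} (hs : s ≠ 0) {k a : G}
    (hk : k ∈ K i) (ha : a ∈ Q j s) : k * a * k⁻¹ ∈ Q j s :=
  (Subgroup.mem_normalizer_iff.1 (mem_normalizer_Q F hij hs hk) a).1 ha

end Frame

variable {Fl : Type*} [Field Fl] [Fintype Fl]

/-- The input for the case `D₄`. -/
structure In {K : Fin 4 → Subgroup G} (e : ∀ i, Matrix.SpecialLinearGroup (Fin 2) Fl ≃* K i) (z : Fin 4 → G)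
    (X Q : Fin 4 → SignType → Subgroup G) : Prop where
  fr : Frame K z X Q
  root : ∀ i, X i 1 = root (e i)
  rootOp : ∀ i, X i (-1) = rootOp (e i)
  zeq : ∀ i j, z i = z j
  h2 : (2 : Fl) ≠ 0
  ord : ∀ i, orderOf (z i) = 2
  max : ∀ i s, s ≠ 0 → ∀ a, (∀ b ∈ X i s, a * b = b * a) → z i * a * z i = a⁻¹ → Odd (orderOf a) → a ∈ Q i s
  card : ∀ i s, s ≠ 0 → Nat.card (Q i s) = Nat.card Fl ^ 9
  quad : ∀ i j, i ≠ j → ∀ s t, s ≠ 0 → t ≠ 0 → ∀ v ∈ Q i s, ∀ x ∈ X j t, ∀ y ∈ X j t, ⁅⁅v, x⁆, y⁆ ∈ X i s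
  nonab : ∀ i, ∃ a ∈ Q i 1, ∃ b ∈ Q i 1, a * b ≠ b * a

namespace In

variable {K : Fin 4 → Subgroup G} {e : ∀ i, Matrix.SpecialLinearGroup (Fin 2) Fl ≃* K i} {z : Fin 4 → G}
  {X Q : Fin 4 → SignType → Subgroup G} (H : In e z X Q)

include H

theorem S_A (i : Fin 4) : (ofEquiv (e i)).A = X i 1 := by rw [A_eq, H.root]
theorem S_A' (i : Fin 4) : (ofEquiv (e i)).A' = X i (-1) := by rw [A'_eq, H.rootOp]

theorem card_X (i : Fin 4) {s : SignType} (hs : s ≠ 0) : Nat.card (X i s) = Nat.card Fl := by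
  rcases s with _ | _ | _
  · exact absurd rfl hs
  · have := (ofEquiv (e i)).card_A'
    rw [H.S_A'] at this
    exact this
  · have := (ofEquiv (e i)).card_A
    rw [H.S_A] at this
    exact this

variable [Finite G]

/-- The splitting of a `K l`-invariant subgroup of `Q i s`. -/
theorem split {i l : Fin 4} (hil : l ≠ i) {s : SignType} (hs : s ≠ 0) {V : Subgroup G} (hV : V ≤ Q i s)
    (hn : ∀ k ∈ K l, ∀ v ∈ V, k * v * k⁻¹ ∈ V) :
    Split V (V ⊓ X i s) (X l 1) (X l (-1)) (V ⊓ Q l 1) (V ⊓ Q l (-1)) (z l) := by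
  have F := H.fr
  have hz : z i = z l := H.zeq i l
  have hK := F.K_eq l
  have hodd : Odd (Nat.card V) := Odd.of_dvd_nat (F.Q_odd i s hs) (Subgroup.card_dvd_of_le hV)
  have hmem : ∀ t : SignType, t ≠ 0 → ∀ v, v ∈ V ⊓ Q l t ↔ v ∈ V ∧ (∀ x ∈ X l t, v * x = x * v) ∧
      z l * v * z l = v⁻¹ := by
    intro t ht v
    constructor
    · rintro ⟨h1, h2⟩
      refine ⟨h1, F.Q_cent l t ht v h2, ?_⟩
      exact inv_two F hil hz.symm ht hs h2 (hV h1)
    · rintro ⟨h1, h2, h3⟩
      exact ⟨h1, H.max l t ht v h2 h3 (F.odd_order hs (hV h1))⟩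
  have hquad : ∀ t : SignType, t ≠ 0 → ∀ v ∈ V, ∀ x ∈ X l t, ∀ y ∈ X l t, ⁅⁅v, x⁆, y⁆ ∈ V ⊓ X i s := by
    intro t ht v hv x hx y hy
    refine ⟨?_, H.quad i l hil.symm s t hs ht v (hV hv) x hx y hy⟩
    have hc : ∀ v ∈ V, ∀ x ∈ X l t, ⁅v, x⁆ ∈ V := by
      intro v hv x hx
      have h1 := mul_mem hv (hn x (F.X_le_K l ht hx) v⁻¹ (inv_mem hv))
      have : v * (x * v⁻¹ * x⁻¹) = ⁅v, x⁆ := by rw [commutatorElement_def]; group
      rwa [this] at h1
    exact hc _ (hc v hv x hx) y hy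
  have h1 : (1 : SignType) ≠ 0 := by decide
  have h1' : (-1 : SignType) ≠ 0 := by decide
  have hcomm : ∀ a ∈ V, ∀ b ∈ V, ⁅a, b⁆ ∈ V := by
    intro a ha b hb
    rw [commutatorElement_def]
    exact mul_mem (mul_mem (mul_mem ha hb) (inv_mem ha)) (inv_mem hb)
  exact
    { odd := hodd
      Z_le := inf_le_left
      Z_cent := fun a ha b hb => (F.Q_cent i s hs b (hV hb) a ha.2).symm
      der := fun a ha b hb => ⟨hcomm a ha b hb, F.Q_der i s hs a (hV ha) b (hV hb)⟩
      fix := fun v hv h => ⟨hv, F.Q_fix i s hs v (hV hv) (by rw [hz]; exact h)⟩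
      z_sq := F.z_sq l
      z_mem := by rw [← hK]; exact F.z_mem l
      z_cent := by rw [← hK]; exact F.z_cent l
      norm := by rw [← hK]; exact hn
      ZK := by
        rw [← hK]
        intro a ha k hk
        exact F.comm i l hil.symm a (F.X_le_K i hs ha.2) k hk
      quadp := hquad 1 h1
      quadm := hquad (-1) h1'
      mem_Pp := hmem 1 h1
      mem_Pm := hmem (-1) h1' }

theorem card_swap {i l : Fin 4} (hil : l ≠ i) {s : SignType} (hs : s ≠ 0) {V : Subgroup G} (hV : V ≤ Q i s)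
    (hn : ∀ k ∈ K l, ∀ v ∈ V, k * v * k⁻¹ ∈ V) :
    Nat.card (V ⊓ Q l 1 : Subgroup G) = Nat.card (V ⊓ Q l (-1) : Subgroup G) := by
  have hS := H.split hil hs hV hn
  have hw : (ofEquiv (e l)).w ∈ X l 1 ⊔ X l (-1) := by rw [← H.fr.K_eq]; exact w_mem (e l)
  refine hS.card_swap hw ?_ ?_
  · intro x hx
    have h1 : x ∈ (ofEquiv (e l)).opp.A := by rw [← H.S_A' l] at hx; exact hx
    have h2 := (ofEquiv (e l)).opp.n_A one_ne_zero h1
    rw [(ofEquiv (e l)).opp.h_one, one_mul] at h2
    have h3 : ac (ofEquiv (e l)).w⁻¹ x ∈ (ofEquiv (e l)).A := by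
      have : (ofEquiv (e l)).opp.A' = (ofEquiv (e l)).A := by
        unfold SLSys.A'; rw [SLSys.opp_opp_eq]
      rw [this] at h2
      exact h2
    rw [H.S_A] at h3
    unfold ac at h3
    rwa [inv_inv] at h3
  · intro x hx
    have h1 : x ∈ (ofEquiv (e l)).A := by rw [← H.S_A l] at hx; exact hx
    have h2 := (ofEquiv (e l)).n_A one_ne_zero h1
    rw [(ofEquiv (e l)).h_one, one_mul, H.S_A'] at h2
    exact h2

theorem card_inf {i l : Fin 4} (hil : l ≠ i) {s t : SignType} (hs : s ≠ 0) (ht : t ≠ 0) {V : Subgroup G}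
    (hV : V ≤ Q i s) (hn : ∀ k ∈ K l, ∀ v ∈ V, k * v * k⁻¹ ∈ V) :
    Nat.card V = Nat.card (V ⊓ X i s : Subgroup G) *
      (Nat.card (V ⊓ Q l t : Subgroup G) * Nat.card (V ⊓ Q l t : Subgroup G)) := by
  have h1 := (H.split hil hs hV hn).card_eq
  have h2 := H.card_swap hil hs hV hn
  rcases t with _ | _ | _
  · exact absurd rfl ht
  · rw [h2] at h1; exact h1
  · rw [← h2] at h1; exact h1

theorem card_two {i l : Fin 4} (hil : l ≠ i) {s t : SignType} (hs : s ≠ 0) (ht : t ≠ 0) :
    Nat.card (Q i s ⊓ Q l t : Subgroup G) = Nat.card Fl ^ 4 := by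
  have h1 := H.card_inf hil hs ht (le_refl (Q i s)) fun k hk v hv => conj_mem_Q H.fr hil hs hk hv
  rw [inf_eq_right.2 (H.fr.X_le_Q i s hs), H.card i s hs, H.card_X i hs] at h1
  set m := Nat.card (Q i s ⊓ Q l t : Subgroup G)
  have hq : 0 < Nat.card Fl := Nat.card_pos
  have h3 : Nat.card Fl * (Nat.card Fl ^ 4 * Nat.card Fl ^ 4) = Nat.card Fl * (m * m) := by
    rw [← h1]; ring
  have h4 := Nat.eq_of_mul_eq_mul_left hq h3
  exact (Nat.mul_self_inj.1 h4).symm

omit [Finite G] in
theorem inf_X_eq_bot {i j : Fin 4} (hij : i ≠ j) {s t : SignType} (hs : s ≠ 0) (ht : t ≠ 0) {V : Subgroup G}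
    (hV : V ≤ Q j t) : V ⊓ X i s = ⊥ := by
  rw [eq_bot_iff]
  rintro a ⟨h1, h2⟩
  exact H.fr.eq_one_of_mem_X_Q hij hs ht h2 (hV h1)

theorem card_step {i j l : Fin 4} (hij : i ≠ j) (hil : l ≠ i) (_ : l ≠ j) {s t u : SignType} (hs : s ≠ 0)
    (ht : t ≠ 0) (hu : u ≠ 0) {V : Subgroup G} (hV : V ≤ Q i s ⊓ Q j t)
    (hn : ∀ k ∈ K l, ∀ v ∈ V, k * v * k⁻¹ ∈ V) {n : ℕ} (hc : Nat.card V = Nat.card Fl ^ n * Nat.card Fl ^ n) :
    Nat.card (V ⊓ Q l u : Subgroup G) = Nat.card Fl ^ n := by
  have h1 := H.card_inf hil hs hu (hV.trans inf_le_left) hn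
  rw [H.inf_X_eq_bot hij hs ht (hV.trans inf_le_right), Subgroup.card_bot, one_mul, hc] at h1
  exact (Nat.mul_self_inj.1 h1).symm

theorem card_three {i j l : Fin 4} (hij : i ≠ j) (hil : l ≠ i) (hjl : l ≠ j) {s t u : SignType} (hs : s ≠ 0)
    (ht : t ≠ 0) (hu : u ≠ 0) : Nat.card (Q i s ⊓ Q j t ⊓ Q l u : Subgroup G) = Nat.card Fl ^ 2 := by
  refine H.card_step hij hil hjl hs ht hu le_rfl (fun k hk v hv => ⟨conj_mem_Q H.fr hil hs hk hv.1,
    conj_mem_Q H.fr hjl ht hk hv.2⟩) ?_
  rw [H.card_two hij.symm hs ht, ← pow_add]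

/-- The sign groups have order `q`. -/
theorem card_XX {f : Fin 4 → SignType} (hf : ∀ i, f i ≠ 0) : Nat.card (XX Q f) = Nat.card Fl := by
  have h1 : XX Q f = Q 0 (f 0) ⊓ Q 1 (f 1) ⊓ Q 2 (f 2) ⊓ Q 3 (f 3) := by
    ext a
    rw [mem_XX]
    constructor
    · intro h
      exact ⟨⟨⟨h 0, h 1⟩, h 2⟩, h 3⟩
    · rintro ⟨⟨⟨h0, h1⟩, h2⟩, h3⟩ i
      fin_cases i
      · exact h0
      · exact h1
      · exact h2
      · exact h3
  rw [h1]
  have h2 := H.card_step (i := 0) (j := 1) (l := 3) (by decide) (by decide) (by decide) (hf 0) (hf 1) (hf 3)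
    (V := Q 0 (f 0) ⊓ Q 1 (f 1) ⊓ Q 2 (f 2)) inf_le_left (fun k hk v hv =>
      ⟨⟨conj_mem_Q H.fr (by decide) (hf 0) hk hv.1.1, conj_mem_Q H.fr (by decide) (hf 1) hk hv.1.2⟩,
        conj_mem_Q H.fr (by decide) (hf 2) hk hv.2⟩) (n := 1) (by
        rw [H.card_three (by decide) (by decide) (by decide) (hf 0) (hf 1) (hf 2), ← pow_add])
  rw [h2, pow_one]

/-- The module `M`: all conditions except the one at `i`. -/
def VV (_ : In e z X Q) (i : Fin 4) (f : Fin 4 → SignType) : Subgroup G := ⨅ j, ⨅ (_ : j ≠ i), Q j (f j)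

omit [Finite G] in
theorem mem_VV {i : Fin 4} {f : Fin 4 → SignType} {a : G} : a ∈ H.VV i f ↔ ∀ j, j ≠ i → a ∈ Q j (f j) := by
  unfold VV
  simp only [Subgroup.mem_iInf]

omit [Finite G] in
theorem VV_norm {i : Fin 4} {f : Fin 4 → SignType} (hf : ∀ j, f j ≠ 0) {k v : G} (hk : k ∈ K i)
    (hv : v ∈ H.VV i f) : k * v * k⁻¹ ∈ H.VV i f := by
  rw [H.mem_VV] at hv ⊢
  intro j hj
  exact conj_mem_Q H.fr hj.symm (hf j) hk (hv j hj)

omit [Finite G] in
theorem mem_update {i : Fin 4} {f : Fin 4 → SignType} {s : SignType} {a : G} :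
    a ∈ XX Q (Function.update f i s) ↔ a ∈ H.VV i f ∧ a ∈ Q i s := by
  rw [mem_XX, H.mem_VV]
  constructor
  · intro h
    refine ⟨fun j hj => ?_, ?_⟩
    · have := h j
      rwa [Function.update_of_ne hj] at this
    · have := h i
      rwa [Function.update_self] at this
  · rintro ⟨h1, h2⟩ j
    by_cases hj : j = i
    · subst hj; rw [Function.update_self]; exact h2
    · rw [Function.update_of_ne hj]; exact h1 j hj

omit [Finite G] H in
theorem exists_pair (i : Fin 4) : ∃ j k : Fin 4, j ≠ i ∧ k ≠ i ∧ j ≠ k := by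
  revert i; decide

theorem comm_VV {i : Fin 4} {f : Fin 4 → SignType} (hf : ∀ j, f j ≠ 0) {v : G} (hv : v ∈ H.VV i f)
    {s : SignType} (hs : s ≠ 0) {x : G} (hx : x ∈ X i s) : ⁅v, x⁆ ∈ XX Q (Function.update f i s) := by
  obtain ⟨j, k, hj, hk, hjk⟩ := exists_pair i
  have hVj : H.VV i f ≤ Q j (f j) := fun a ha => H.mem_VV.1 ha j hj
  have hVk : H.VV i f ≤ Q k (f k) := fun a ha => H.mem_VV.1 ha k hk
  have hS := H.split hj.symm (hf j) hVj (fun k hk v hv => H.VV_norm hf hk hv)
  have hb := H.inf_X_eq_bot hjk (hf j) (hf k) hVk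
  rcases s with _ | _ | _
  · exact absurd rfl hs
  · obtain ⟨a, ha, b, hb', h1⟩ := hS.symm.comm_mem hv hx
    rw [hb] at ha
    rw [Subgroup.mem_bot.1 ha, one_mul] at h1
    rw [h1]
    exact H.mem_update.2 hb'
  · obtain ⟨a, ha, b, hb', h1⟩ := hS.comm_mem hv hx
    rw [hb] at ha
    rw [Subgroup.mem_bot.1 ha, one_mul] at h1
    rw [h1]
    exact H.mem_update.2 hb'

omit [Finite G] in
theorem XX_le_VV {i : Fin 4} {f : Fin 4 → SignType} {s : SignType} {a : G}
    (ha : a ∈ XX Q (Function.update f i s)) : a ∈ H.VV i f := (H.mem_update.1 ha).1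

omit [Finite G] H in
theorem update_ne {f : Fin 4 → SignType} (hf : ∀ j, f j ≠ 0) {i : Fin 4} {s : SignType} (hs : s ≠ 0) :
    ∀ j, Function.update f i s j ≠ 0 := by
  intro j
  by_cases hj : j = i
  · subst hj; rwa [Function.update_self]
  · rw [Function.update_of_ne hj]; exact hf j

/-- `z i` inverts the sign groups. -/
theorem z_XX {f : Fin 4 → SignType} (hf : ∀ j, f j ≠ 0) (i : Fin 4) {a : G} (ha : a ∈ XX Q f) :
    z i * a * z i = a⁻¹ := by
  obtain ⟨j, k, hj, hk, hjk⟩ := exists_pair i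
  exact H.fr.inv hj.symm (hf i) (hf j) ha

theorem half {f : Fin 4 → SignType} (hf : ∀ j, f j ≠ 0) (i : Fin 4) :
    Half (ofEquiv (e i)) (XX Q (Function.update f i (-1))) (XX Q (Function.update f i 1)) := by
  have F := H.fr
  have h1 : (1 : SignType) ≠ 0 := by decide
  have h1' : (-1 : SignType) ≠ 0 := by decide
  have hp := update_ne hf (i := i) h1
  have hm := update_ne hf (i := i) h1'
  obtain ⟨j, k, hj, hk, hjk⟩ := exists_pair i
  have hz : (ofEquiv (e i)).h (-1) = z i := h_neg_one_eq (e i) H.h2 (F.z_mem i) (H.ord i)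
  have hxp : ∀ t, (ofEquiv (e i)).xp t ∈ X i 1 := fun t => by rw [← H.S_A]; exact SLSys.xp_mem _ t
  have hxm : ∀ t, (ofEquiv (e i)).xm t ∈ X i (-1) := fun t => by rw [← H.S_A']; exact SLSys.xm_mem _ t
  have conv : ∀ v x : G, v⁻¹ * ac x v = ⁅v⁻¹, x⁆ := by
    intro v x; unfold ac; rw [commutatorElement_def]; group
  have hzac : ∀ g ∈ Subgroup.zpowers (z i), True := fun _ _ => trivial
  have hac : ∀ b : G, ac (z i) b = z i * b * z i := by
    intro b; unfold ac; rw [F.z_inv]
  refine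
    { abB := fun x hx y hy => F.commute_self hj (hm j) (hm i) hx hy
      abC := fun x hx y hy => F.commute_self hj (hp j) (hp i) hx hy
      abBC := fun x hx y hy => F.commute_of_two hjk (hm j) (hm k)
        (by rw [Function.update_of_ne hj, Function.update_of_ne hj])
        (by rw [Function.update_of_ne hk, Function.update_of_ne hk]) hx hy
      killB := fun b hb t => (F.Q_cent i (-1) h1' b (H.mem_update.1 hb).2 _ (hxm t)).symm
      killC := fun c hc t => (F.Q_cent i 1 h1 c (H.mem_update.1 hc).2 _ (hxp t)).symm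
      mapB := fun b hb t => by
        rw [conv]
        exact H.comm_VV hf (H.XX_le_VV (inv_mem hb)) h1 (hxp t)
      mapC := fun c hc t => by
        rw [conv]
        exact H.comm_VV hf (H.XX_le_VV (inv_mem hc)) h1' (hxm t)
      zB := fun b hb => by rw [hz, hac]; exact H.z_XX hm i hb
      zC := fun c hc => by rw [hz, hac]; exact H.z_XX hp i hc
      oddB := fun b hb h => F.eq_one_of_sq (hm j) (mem_XX.1 hb j) h
      oddC := fun c hc h => F.eq_one_of_sq (hp j) (mem_XX.1 hc j) h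
      cardB := H.card_XX hm
      cardC := H.card_XX hp }

/-- A subgroup containing `X i s` and the sign groups contains `Q i s`. -/
theorem Q_le {i : Fin 4} {s : SignType} (hs : s ≠ 0) {N : Subgroup G} (hX : X i s ≤ N)
    (hN : ∀ f : Fin 4 → SignType, (∀ j, f j ≠ 0) → f i = s → XX Q f ≤ N) : Q i s ≤ N := by
  have F := H.fr
  have h1 : (1 : SignType) ≠ 0 := by decide
  have h1' : (-1 : SignType) ≠ 0 := by decide
  obtain ⟨j, k, l, hj, hk, hl, hjk, hjl, hkl, hall⟩ : ∃ j k l : Fin 4, j ≠ i ∧ k ≠ i ∧ l ≠ i ∧ j ≠ k ∧ j ≠ l ∧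
      k ≠ l ∧ ∀ m, m = i ∨ m = j ∨ m = k ∨ m = l := by
    clear hX hN
    revert i; decide
  -- the smallest pieces
  have h4 : ∀ t u v : SignType, t ≠ 0 → u ≠ 0 → v ≠ 0 → Q i s ⊓ Q j t ⊓ Q k u ⊓ Q l v ≤ N := by
    intro t u v ht hu hv a ha
    let f : Fin 4 → SignType := fun m => if m = i then s else if m = j then t else if m = k then u else v
    have fi : f i = s := if_pos rfl
    have fj : f j = t := by show (if j = i then s else _) = t; rw [if_neg hj, if_pos rfl]
    have fk : f k = u := by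
      show (if k = i then s else if k = j then t else _) = u
      rw [if_neg hk, if_neg hjk.symm, if_pos rfl]
    have fl : f l = v := by
      show (if l = i then s else if l = j then t else if l = k then u else v) = v
      rw [if_neg hl, if_neg hjl.symm, if_neg hkl.symm]
    refine hN f ?_ fi (mem_XX.2 ?_)
    · intro m
      rcases hall m with rfl | rfl | rfl | rfl
      · rw [fi]; exact hs
      · rw [fj]; exact ht
      · rw [fk]; exact hu
      · rw [fl]; exact hv
    · intro m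
      rcases hall m with rfl | rfl | rfl | rfl
      · rw [fi]; exact ha.1.1.1
      · rw [fj]; exact ha.1.1.2
      · rw [fk]; exact ha.1.2
      · rw [fl]; exact ha.2
  have step : ∀ {V : Subgroup G} {m : Fin 4}, m ≠ i → V ≤ Q i s → (∀ k ∈ K m, ∀ v ∈ V, k * v * k⁻¹ ∈ V) →
      V ⊓ X i s ≤ N → (∀ t : SignType, t ≠ 0 → V ⊓ Q m t ≤ N) → V ≤ N := by
    intro V m hm hV hn hX' hN' a ha
    obtain ⟨b, hb, c, hc, d, hd, rfl⟩ := (H.split hm hs hV hn).exists_mul ha
    exact mul_mem (mul_mem (hX' hb) (hN' 1 h1 hc)) (hN' (-1) h1' hd)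
  have h3 : ∀ t u : SignType, t ≠ 0 → u ≠ 0 → Q i s ⊓ Q j t ⊓ Q k u ≤ N := by
    intro t u ht hu
    refine step hl (inf_le_left.trans inf_le_left) (fun k hk v hv => ⟨⟨conj_mem_Q F hl hs hk hv.1.1,
      conj_mem_Q F hjl.symm ht hk hv.1.2⟩, conj_mem_Q F hkl.symm hu hk hv.2⟩) (inf_le_right.trans hX)
      (fun v hv => h4 t u v ht hu hv)
  have h2 : ∀ t : SignType, t ≠ 0 → Q i s ⊓ Q j t ≤ N := by
    intro t ht
    refine step hk inf_le_left (fun k hk' v hv => ⟨conj_mem_Q F hk hs hk' hv.1,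
      conj_mem_Q F hjk.symm ht hk' hv.2⟩) (inf_le_right.trans hX) (fun v hv => h3 t v ht hv)
  exact step hj le_rfl (fun k hk' v hv => conj_mem_Q F hj hs hk' hv) (inf_le_right.trans hX)
    (fun v hv => h2 v hv)

omit [Finite G] in
theorem conj_XX {f : Fin 4 → SignType} (hf : ∀ j, f j ≠ 0) {i : Fin 4} {g : G} (hg : g ∈ K i)
    (hgi : ∀ s t : SignType, s ≠ 0 → t = -s → ∀ a ∈ Q i s, g * a * g⁻¹ ∈ Q i t) {a : G} (ha : a ∈ XX Q f) :
    g * a * g⁻¹ ∈ XX Q (Function.update f i (-f i)) := by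
  rw [H.mem_update, H.mem_VV]
  refine ⟨fun j hj => conj_mem_Q H.fr hj.symm (hf j) hg (mem_XX.1 ha j), ?_⟩
  exact hgi (f i) (-f i) (hf i) rfl a (mem_XX.1 ha i)

/-- The Weyl element of `K i` swaps `Q i 1` and `Q i (-1)`. -/
theorem w_Q (i : Fin 4) : ∀ s t : SignType, s ≠ 0 → t = -s → ∀ a ∈ Q i s,
    (ofEquiv (e i)).w * a * (ofEquiv (e i)).w⁻¹ ∈ Q i t := by
  have F := H.fr
  have hw : (ofEquiv (e i)).w ∈ K i := w_mem (e i)
  have hz : ∀ a, z i * a * z i = a⁻¹ → z i * ((ofEquiv (e i)).w * a * (ofEquiv (e i)).w⁻¹) * z i =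
      ((ofEquiv (e i)).w * a * (ofEquiv (e i)).w⁻¹)⁻¹ := by
    intro a ha
    have h1 := F.z_cent i _ hw
    have h2 := F.z_cent i _ (inv_mem hw)
    calc z i * ((ofEquiv (e i)).w * a * (ofEquiv (e i)).w⁻¹) * z i
        = (z i * (ofEquiv (e i)).w) * a * ((ofEquiv (e i)).w⁻¹ * z i) := by group
      _ = (ofEquiv (e i)).w * (z i * a * z i) * (ofEquiv (e i)).w⁻¹ := by rw [h1, ← h2]; group
      _ = _ := by rw [ha]; group
  -- conjugation of the root groups
  have hX : ∀ s t : SignType, s ≠ 0 → t = -s → (∀ x ∈ X i s, (ofEquiv (e i)).w * x * (ofEquiv (e i)).w⁻¹ ∈ X i t) ∧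
      ∀ x ∈ X i t, (ofEquiv (e i)).w⁻¹ * x * (ofEquiv (e i)).w ∈ X i s := by
    have hA : ∀ x ∈ X i 1, (ofEquiv (e i)).w * x * (ofEquiv (e i)).w⁻¹ ∈ X i (-1) := by
      intro x hx
      have h1 : x ∈ (ofEquiv (e i)).A := by rw [H.S_A]; exact hx
      have h2 := (ofEquiv (e i)).n_A one_ne_zero h1
      rw [(ofEquiv (e i)).h_one, one_mul, H.S_A'] at h2
      exact h2
    have hB : ∀ x ∈ X i (-1), (ofEquiv (e i)).w * x * (ofEquiv (e i)).w⁻¹ ∈ X i 1 := by
      intro x hx
      have h1 : x ∈ (ofEquiv (e i)).A' := by rw [H.S_A']; exact hx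
      have h2 := (ofEquiv (e i)).n_A' one_ne_zero h1
      rw [(ofEquiv (e i)).h_one, one_mul, H.S_A] at h2
      exact h2
    have hw2 : ∀ x ∈ K i, (ofEquiv (e i)).w * ((ofEquiv (e i)).w * x * (ofEquiv (e i)).w⁻¹) *
        (ofEquiv (e i)).w⁻¹ = x := by
      intro x hx
      have h1 : (ofEquiv (e i)).w * (ofEquiv (e i)).w = z i := by
        rw [(ofEquiv (e i)).w_sq]; exact h_neg_one_eq (e i) H.h2 (F.z_mem i) (H.ord i)
      calc (ofEquiv (e i)).w * ((ofEquiv (e i)).w * x * (ofEquiv (e i)).w⁻¹) * (ofEquiv (e i)).w⁻¹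
          = ((ofEquiv (e i)).w * (ofEquiv (e i)).w) * x * ((ofEquiv (e i)).w * (ofEquiv (e i)).w)⁻¹ := by group
        _ = x := by rw [h1, F.z_cent i x hx]; group
    have hA' : ∀ x ∈ X i (-1), (ofEquiv (e i)).w⁻¹ * x * (ofEquiv (e i)).w ∈ X i 1 := by
      intro x hx
      have h1 := hB x hx
      have h2 := hw2 x (F.X_le_K i (by decide) hx)
      have h3 : (ofEquiv (e i)).w⁻¹ * x * (ofEquiv (e i)).w = (ofEquiv (e i)).w * x * (ofEquiv (e i)).w⁻¹ := by
        conv_lhs => rw [← h2]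
        group
      rw [h3]; exact h1
    have hB' : ∀ x ∈ X i 1, (ofEquiv (e i)).w⁻¹ * x * (ofEquiv (e i)).w ∈ X i (-1) := by
      intro x hx
      have h1 := hA x hx
      have h2 := hw2 x (F.X_le_K i (by decide) hx)
      have h3 : (ofEquiv (e i)).w⁻¹ * x * (ofEquiv (e i)).w = (ofEquiv (e i)).w * x * (ofEquiv (e i)).w⁻¹ := by
        conv_lhs => rw [← h2]
        group
      rw [h3]; exact h1
    intro s t hs ht
    subst ht
    rcases s with _ | _ | _
    · exact absurd rfl hs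
    · exact ⟨hB, hB'⟩
    · exact ⟨hA, hA'⟩
  -- every element of `Q i s` is a product of an element of `X i s` and an inverted one
  intro s t hs ht a ha
  obtain ⟨hX1, hX2⟩ := hX s t hs ht
  have ht0 : t ≠ 0 := by rw [ht]; exact sneg hs
  obtain ⟨j, k, hj, hk, hjk⟩ := exists_pair i
  have hS := H.split hj hs (le_refl (Q i s)) fun k hk v hv => conj_mem_Q H.fr hj hs hk hv
  obtain ⟨b, hb, c, hc, d, hd, e1⟩ := hS.exists_mul ha
  have hinv : ∀ c ∈ Q i s, z i * c * z i = c⁻¹ →
      (ofEquiv (e i)).w * c * (ofEquiv (e i)).w⁻¹ ∈ Q i t := by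
    intro c hc hcz
    refine H.max i t ht0 _ ?_ (hz c hcz) ?_
    · intro x hx
      have h1 := F.Q_cent i s hs c hc _ (hX2 x hx)
      calc (ofEquiv (e i)).w * c * (ofEquiv (e i)).w⁻¹ * x
          = (ofEquiv (e i)).w * (c * ((ofEquiv (e i)).w⁻¹ * x * (ofEquiv (e i)).w)) * (ofEquiv (e i)).w⁻¹ := by
            group
        _ = _ := by rw [h1]; group
    · have h1 := F.odd_order hs hc
      have h2 : orderOf ((ofEquiv (e i)).w * c * (ofEquiv (e i)).w⁻¹) = orderOf c := by
        have := orderOf_injective (MulAut.conj (ofEquiv (e i)).w).toMonoidHom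
          (MulAut.conj (ofEquiv (e i)).w).injective c
        exact this
      rw [h2]; exact h1
  have hcz : z i * c * z i = c⁻¹ := by
    have := ((hS.mem_Pp c).1 hc).2.2
    rwa [H.zeq j i] at this
  have hdz : z i * d * z i = d⁻¹ := by
    have := ((hS.mem_Pm d).1 hd).2.2
    rwa [H.zeq j i] at this
  have h1 := F.X_le_Q i t ht0 (hX1 b hb.2)
  have h2 := hinv c (hS.Pp_le hc) hcz
  have h3 := hinv d (hS.Pm_le hd) hdz
  have e2 : (ofEquiv (e i)).w * a * (ofEquiv (e i)).w⁻¹ = ((ofEquiv (e i)).w * b * (ofEquiv (e i)).w⁻¹) *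
      ((ofEquiv (e i)).w * c * (ofEquiv (e i)).w⁻¹) * ((ofEquiv (e i)).w * d * (ofEquiv (e i)).w⁻¹) := by
    rw [e1]; group
  rw [e2]
  exact mul_mem (mul_mem h1 h2) h3

/-- flipping the sign at `j` of a commuting pair -/
theorem flip {f : Fin 4 → SignType} (hf : ∀ j, f j ≠ 0) {i j : Fin 4} (hji : j ≠ i)
    (hP : ∀ a ∈ XX Q (Function.update f i 1), ∀ b ∈ XX Q (Function.update (-f) i 1), a * b = b * a) {t : SignType}
    (ht : t ≠ 0) : ∀ a ∈ XX Q (Function.update (Function.update f j t) i 1),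
      ∀ b ∈ XX Q (Function.update (-Function.update f j t) i 1), a * b = b * a := by
  have hcase : t = f j ∨ t = -f j := by
    have := hf j
    revert ht this
    generalize f j = u
    revert t u
    decide
  rcases hcase with rfl | rfl
  · rw [Function.update_eq_self]; exact hP
  · intro a ha b hb
    set w := (ofEquiv (e j)).w
    have hw : w ∈ K j := w_mem (e j)
    have hQ := H.w_Q j
    have h1 : (1 : SignType) ≠ 0 := by decide
    have hf' : ∀ m, Function.update f j (-f j) m ≠ 0 := update_ne hf (sneg (hf j))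
    have hfa : ∀ m, Function.update (Function.update f j (-f j)) i 1 m ≠ 0 := update_ne hf' h1
    have hfb : ∀ m, Function.update (-Function.update f j (-f j)) i 1 m ≠ 0 :=
      update_ne (f := -Function.update f j (-f j)) (fun m => sneg (hf' m)) h1
    have ea : Function.update (Function.update (Function.update f j (-f j)) i 1) j
        (-(Function.update (Function.update f j (-f j)) i 1) j) = Function.update f i 1 := by
      funext m
      by_cases hm : m = j
      · subst hm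
        rw [Function.update_self, Function.update_of_ne hji, Function.update_self, neg_neg,
          Function.update_of_ne hji]
      · rw [Function.update_of_ne hm]
        by_cases hmi : m = i
        · subst hmi; rw [Function.update_self, Function.update_self]
        · rw [Function.update_of_ne hmi, Function.update_of_ne hm, Function.update_of_ne hmi]
    have eb : Function.update (Function.update (-Function.update f j (-f j)) i 1) j
        (-(Function.update (-Function.update f j (-f j)) i 1) j) = Function.update (-f) i 1 := by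
      funext m
      by_cases hm : m = j
      · subst hm
        rw [Function.update_self, Function.update_of_ne hji, Pi.neg_apply, Function.update_self, neg_neg,
          Function.update_of_ne hji, Pi.neg_apply]
      · rw [Function.update_of_ne hm]
        by_cases hmi : m = i
        · subst hmi; rw [Function.update_self, Function.update_self]
        · rw [Function.update_of_ne hmi, Pi.neg_apply, Function.update_of_ne hm, Function.update_of_ne hmi,
            Pi.neg_apply]
    have ha' := H.conj_XX hfa hw hQ ha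
    have hb' := H.conj_XX hfb hw hQ hb
    rw [ea] at ha'
    rw [eb] at hb'
    have h2 := hP _ ha' _ hb'
    have h3 : w * (a * b) * w⁻¹ = w * (b * a) * w⁻¹ := by
      calc w * (a * b) * w⁻¹ = (w * a * w⁻¹) * (w * b * w⁻¹) := by group
        _ = (w * b * w⁻¹) * (w * a * w⁻¹) := h2
        _ = _ := by group
    exact mul_left_cancel (mul_right_cancel h3)

/-- No pair of sign groups with exactly one agreement commutes. -/
theorem not_comm {f : Fin 4 → SignType} (hf : ∀ j, f j ≠ 0) (i : Fin 4) :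
    ∃ a ∈ XX Q (Function.update f i 1), ∃ b ∈ XX Q (Function.update (-f) i 1), ⁅a, b⁆ ≠ 1 := by
  by_contra hcon
  push Not at hcon
  have F := H.fr
  have h1 : (1 : SignType) ≠ 0 := by decide
  have hP : ∀ a ∈ XX Q (Function.update f i 1), ∀ b ∈ XX Q (Function.update (-f) i 1), a * b = b * a :=
    fun a ha b hb => commutatorElement_eq_one_iff_mul_comm.1 (hcon a ha b hb)
  obtain ⟨j, k, l, hj, hk, hl, hjk, hjl, hkl, hall⟩ : ∃ j k l : Fin 4, j ≠ i ∧ k ≠ i ∧ l ≠ i ∧ j ≠ k ∧ j ≠ l ∧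
      k ≠ l ∧ ∀ m, m = i ∨ m = j ∨ m = k ∨ m = l := by
    clear hcon hP
    revert i; decide
  have hPall : ∀ g : Fin 4 → SignType, (∀ m, g m ≠ 0) →
      ∀ a ∈ XX Q (Function.update g i 1), ∀ b ∈ XX Q (Function.update (-g) i 1), a * b = b * a := by
    intro g hg
    have s1 := H.flip hf hj hP (hg j)
    have f1 := update_ne hf (i := j) (hg j)
    have s2 := H.flip f1 hk s1 (hg k)
    have f2 := update_ne f1 (i := k) (hg k)
    have s3 := H.flip f2 hl s2 (hg l)
    have e1 : Function.update (Function.update (Function.update (Function.update f j (g j)) k (g k)) l (g l)) i 1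
        = Function.update g i 1 := by
      funext m
      rcases hall m with rfl | rfl | rfl | rfl
      · rw [Function.update_self, Function.update_self]
      · rw [Function.update_of_ne hj, Function.update_of_ne hjl, Function.update_of_ne hjk,
          Function.update_self, Function.update_of_ne hj]
      · rw [Function.update_of_ne hk, Function.update_of_ne hkl, Function.update_self, Function.update_of_ne hk]
      · rw [Function.update_of_ne hl, Function.update_self, Function.update_of_ne hl]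
    have e2 : Function.update (-Function.update (Function.update (Function.update f j (g j)) k (g k)) l (g l)) i 1
        = Function.update (-g) i 1 := by
      funext m
      rcases hall m with rfl | rfl | rfl | rfl
      · rw [Function.update_self, Function.update_self]
      · rw [Function.update_of_ne hj, Pi.neg_apply, Function.update_of_ne hjl, Function.update_of_ne hjk,
          Function.update_self, Function.update_of_ne hj, Pi.neg_apply]
      · rw [Function.update_of_ne hk, Pi.neg_apply, Function.update_of_ne hkl, Function.update_self,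
          Function.update_of_ne hk, Pi.neg_apply]
      · rw [Function.update_of_ne hl, Pi.neg_apply, Function.update_self, Function.update_of_ne hl, Pi.neg_apply]
    rw [e1, e2] at s3
    exact s3
  -- the sign groups commute with `Q i 1`
  have hcent : ∀ g : Fin 4 → SignType, (∀ m, g m ≠ 0) → g i = 1 → ∀ a ∈ XX Q g, Q i 1 ≤ Subgroup.centralizer {a} := by
    intro g hg hgi a ha
    refine H.Q_le h1 (fun x hx => ?_) (fun g' hg' hgi' b hb => ?_)
    · rw [Subgroup.mem_centralizer_singleton_iff]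
      have := mem_XX.1 ha i
      rw [hgi] at this
      exact (F.Q_cent i 1 h1 a this x hx).symm
    · rw [Subgroup.mem_centralizer_singleton_iff]
      by_cases hag : ∃ m, m ≠ i ∧ g' m = g m
      · obtain ⟨m, hm, hm'⟩ := hag
        exact (F.commute_of_two hm (hg m) (hg i) hm' (by rw [hgi, hgi']) ha hb).symm
      · push Not at hag
        have hg2 : g' = Function.update (-g) i 1 := by
          funext m
          by_cases hm : m = i
          · subst hm; rw [Function.update_self]; exact hgi'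
          · rw [Function.update_of_ne hm, Pi.neg_apply]
            have h2 := hag m hm
            have h3 := hg m
            have h4 := hg' m
            revert h2 h3 h4
            generalize g' m = u
            generalize g m = v
            revert u v
            decide
        have hg3 : Function.update g i 1 = g := by
          conv_lhs => rw [← hgi]
          exact Function.update_eq_self i g
        rw [hg2] at hb
        exact (hPall g hg a (by rw [hg3]; exact ha) b hb).symm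
  obtain ⟨a, ha, b, hb, hab⟩ := H.nonab i
  apply hab
  have h2 : Q i 1 ≤ Subgroup.centralizer {b} := by
    refine H.Q_le h1 (fun x hx => ?_) (fun g hg hgi c hc => ?_)
    · rw [Subgroup.mem_centralizer_singleton_iff]
      exact (F.Q_cent i 1 h1 b hb x hx).symm
    · rw [Subgroup.mem_centralizer_singleton_iff]
      exact (Subgroup.mem_centralizer_singleton_iff.1 (hcent g hg hgi c hc hb)).symm
  exact Subgroup.mem_centralizer_singleton_iff.1 (h2 ha)

/-- The hypotheses of LEMMA A2. -/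
theorem aTwo {f : Fin 4 → SignType} (hf : ∀ j, f j ≠ 0) {i : Fin 4} (hi : f i = -1) :
    ATwo (ofEquiv (e i)) (XX Q f) (XX Q (Function.update f i 1)) (XX Q (-f))
      (XX Q (Function.update (-f) i (-1))) := by
  have e1 : Function.update f i (-1) = f := by rw [← hi]; exact Function.update_eq_self i f
  have e2 : Function.update (-f) i 1 = -f := by
    have : (-f) i = 1 := by rw [Pi.neg_apply, hi]; decide
    conv_lhs => rw [← this]
    exact Function.update_eq_self i (-f)
  have hf' : ∀ j, (-f) j ≠ 0 := fun j => sneg (hf j)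
  have h1 := H.half hf i
  have h2 := (H.half hf' i).opp
  rw [e1] at h1
  rw [e2] at h2
  refine ⟨h1, h2, ?_, ?_, H.h2⟩
  · intro c hc x hx
    rw [← e2] at hx
    have h3 := H.fr.Q_der i 1 (by decide) c (H.mem_update.1 hc).2 x (H.mem_update.1 hx).2
    rw [← H.S_A i] at h3
    obtain ⟨t, ht⟩ := h3
    exact ⟨t, ht.symm⟩
  · obtain ⟨a, ha, b, hb, hab⟩ := H.not_comm hf i
    rw [e2] at hb
    exact ⟨a, ha, b, hb, hab⟩

open Cfsg.Agent.RootAmalgam Cfsg.Agent.Cit.NodeGlue Cfsg.Agent.Cit.RankOneSL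

/-- PairData for the pair `X i 1`, `XX Q f` (`f i = -1`). -/
theorem pairData {f : Fin 4 → SignType} (hf : ∀ j, f j ≠ 0) {i : Fin 4} (hi : f i = -1) :
    PairData 3 (X i 1) (X i (-1)) (XX Q f) (XX Q (-f))
      (ZZ (X i 1) (XX Q f) (XX Q (Function.update f i 1)) (X i (-1)) (XX Q (-f))
        (XX Q (Function.update (-f) i (-1)))) := by
  have := (H.aTwo hf hi).pairData
  rw [H.S_A, H.S_A'] at this
  exact this

theorem rankOne_X {p : ℕ} [Fact p.Prime] [CharP Fl p] (i : Fin 4) : RankOne p (X i 1) (X i (-1)) := by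
  rw [H.root, H.rootOp]
  exact rankOne_root (e i)

theorem rankOne_XX {p : ℕ} [Fact p.Prime] [CharP Fl p] {f : Fin 4 → SignType} (hf : ∀ j, f j ≠ 0) {i : Fin 4}
    (hi : f i = -1) : RankOne p (XX Q f) (XX Q (-f)) := by
  have P := H.pairData hf hi
  have R := H.rankOne_X (p := p) i
  -- a Weyl element of `X i (-1)` and one of `XX Q (-f)`
  obtain ⟨⟨a, ha⟩, ha1⟩ := Subgroup.ne_bot_iff_exists_ne_one.1 R.ne_bot
  have hb : XX Q (-f) ≠ ⊥ := by
    intro h
    have h1 := H.card_XX (f := -f) (fun j => sneg (hf j))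
    rw [h, Subgroup.card_bot] at h1
    have := Finite.one_lt_card (α := Fl)
    omega
  obtain ⟨⟨b, hb⟩, hb1⟩ := Subgroup.ne_bot_iff_exists_ne_one.1 hb
  obtain ⟨x, _, y, _, m1⟩ := P.mu a ha (fun h => ha1 (Subtype.ext h))
  obtain ⟨x', _, y', _, m2⟩ := P.mu' b hb (fun h => hb1 (Subtype.ext h))
  have m3 := m1.mul m2
  have o1 : Onto (x * a * y * (x' * b * y')) (X i 1) (XX Q f) := by
    rw [← P.z_one, ← P.z_m]
    exact m3.onto (by norm_num)
  have o2 : Onto (x * a * y * (x' * b * y')) (X i (-1)) (XX Q (-f)) := by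
    rw [← P.z_m1, ← P.z_zero]
    have := m3.onto (k := ((3 : ℕ) : ℤ) + 1) (l := ((3 : ℕ) : ℤ) + 2 - (((3 : ℕ) : ℤ) - (((3 : ℕ) : ℤ) + 1))) rfl
    have h6 := P.per 0
    have e6 : ((3 : ℕ) : ℤ) + 2 - (((3 : ℕ) : ℤ) - (((3 : ℕ) : ℤ) + 1)) = 0 + 2 * ((3 : ℕ) : ℤ) := by norm_num
    rw [e6, h6] at this
    exact this
  exact RankOneSL.conj R o1 o2

open CoxeterSystem Cfsg.Agent.ChevalleyStructure.CoxeterGeom Cfsg.Agent.Tits.Roots Cfsg.Agent.Tits.Core
  Cfsg.Agent.Nodes.Reps Cfsg.Agent.Nodes.BNOf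

/-- the signs of the central node -/
def eps (c : Fin 4) : Fin 4 → SignType := fun i => if i = c then 1 else -1

/-- the simple root groups -/
def nodeX (X : Fin 4 → SignType → Subgroup G) (Q : Fin 4 → SignType → Subgroup G) (c i : Fin 4) : Subgroup G :=
  if i = c then XX Q (eps c) else X i 1

/-- the negatives of the simple root groups -/
def nodeXn (X : Fin 4 → SignType → Subgroup G) (Q : Fin 4 → SignType → Subgroup G) (c i : Fin 4) : Subgroup G :=
  if i = c then XX Q (-eps c) else X i (-1)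

/-- **The case `D₄`**: root group datum of type `D₄` (central node `c`). -/
theorem exists_rgd {p : ℕ} [Fact p.Prime] [CharP Fl p] {W : Type*} [Group W] [Finite W]
    {M : CoxeterMatrix (Fin 4)} (cs : CoxeterSystem M W) {A : Fin 4 → Fin 4 → ℤ} (h : IsCartan M A) (c : Fin 4)
    (hM : ∀ i j, i ≠ j → M i j = if i = c ∨ j = c then 3 else 2) :
    ∃ (T : Subgroup G) (n : Fin 4 → G) (R : (Fin 4 → ℤ) → Subgroup G), RGD cs h p T n R ∧
      (∀ i, R (sr i) = nodeX X Q c i) ∧ (∀ i, R (-sr i) = nodeXn X Q c i) ∧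
      (∀ i, n i ∈ nodeX X Q c i ⊔ nodeXn X Q c i) ∧ T ≤ ⨆ i, (nodeX X Q c i ⊔ nodeXn X Q c i) ∧
      ∀ x, IsRoot cs h x → R x ≤ ⨆ i, (nodeX X Q c i ⊔ nodeXn X Q c i) := by
  have heps : ∀ j, eps c j ≠ 0 := by
    intro j; unfold eps; split_ifs <;> decide
  have heps' : ∀ j, j ≠ c → eps c j = -1 := fun j hj => by unfold eps; rw [if_neg hj]
  obtain ⟨j0, k0, hj0, hk0, hjk0⟩ := exists_pair c
  have hr : ∀ i, RankOne p (nodeX X Q c i) (nodeXn X Q c i) := by
    intro i
    unfold nodeX nodeXn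
    by_cases hi : i = c
    · rw [if_pos hi, if_pos hi]; exact H.rankOne_XX heps (heps' j0 hj0)
    · rw [if_neg hi, if_neg hi]; exact H.rankOne_X i
  have hpair : ∀ i, i ≠ c → ∃ Z, PairData 3 (nodeX X Q c i) (nodeXn X Q c i) (nodeX X Q c c) (nodeXn X Q c c) Z := by
    intro i hi
    unfold nodeX nodeXn
    rw [if_neg hi, if_neg hi, if_pos rfl, if_pos rfl]
    exact ⟨_, H.pairData heps (heps' i hi)⟩
  refine exists_rgd_simplyLaced cs h (nodeX X Q c) (nodeXn X Q c) hr ?_ ?_
  · intro i j hij h3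
    have h4 := hM i j hij.ne
    have h5 : ¬ (i = c ∨ j = c) := fun h5 => by
      rw [if_pos h5] at h4
      exact h3 h4
    rw [if_neg h5] at h4
    push Not at h5
    refine ⟨h4, ?_⟩
    unfold nodeX nodeXn
    rw [if_neg h5.1, if_neg h5.1, if_neg h5.2, if_neg h5.2, ← H.fr.K_eq, ← H.fr.K_eq]
    exact H.fr.comm i j hij.ne
  · intro i j hij h3
    have h4 := hM i j hij.ne
    have h5 : i = c ∨ j = c := by
      by_contra h5
      rw [if_neg h5, h3] at h4
      omega
    rcases h5 with rfl | rfl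
    · right
      exact hpair j hij.ne'
    · left
      exact hpair i hij.ne

end In

end Cfsg.Agent.Cit.TypeD4
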