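import Cfsg.Agent.Cit.TypeD4Prov
import Cfsg.Agent.Cit.EqSS
import Cfsg.Agent.Nodes.TyChart
import Cfsg.Agent.Nodes.ZRel

/-!
# The case `D₄`: chart of type `D 4` (project CIT)
-/

set_option autoImplicit false
set_option linter.unusedSectionVars false

namespace Cfsg.Agent.Cit.TypeD4Chart

open Subgroup Cfsg
open Cfsg.Agent.Cit.Parab Cfsg.Agent.Cit.LemmaUQ Cfsg.Agent.Cit.ParabSL2 Cfsg.Agent.Cit.FrameSign
  Cfsg.Agent.Cit.FrameOf Cfsg.Agent.Cit.CoreFrame Cfsg.Agent.Cit.TypeD4 Cfsg.Agent.Cit.SLSysOf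
  Cfsg.Agent.Cit.LemmaATwo Cfsg.Agent.Cit.TypeD4Prov
open Cfsg.Agent.Cit.TypeD4.In (eps nodeX nodeXn)
open CoxeterSystem Cfsg.Agent.ChevalleyStructure.CoxeterGeom Cfsg.Agent.Nodes.Chart Cfsg.Agent.Nodes.ChartLoc
  Cfsg.Agent.Nodes.Comb Cfsg.Agent.Nodes.ClsNorm Cfsg.Agent.Nodes.Reps Cfsg.Agent.Tits.Roots
  Cfsg.Agent.Tits.Core Cfsg.Agent.Tits.RootComb Cfsg.Agent.Nodes.BNOf Cfsg.Agent.Nodes.ClsOfPairs
  Cfsg.Agent.Nodes.ChartOfCls Cfsg.Agent.Nodes.RGDLib Cfsg.Agent.Nodes.ZFam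
open scoped commutatorElement

/-! ### Roots -/

section Roots

variable {W : Type*} [Group W] {M : CoxeterMatrix (Fin 4)} {cs : CoxeterSystem M W} {A : Fin 4 → Fin 4 → ℤ}
  {h : IsCartan M A} {c : Fin 4} (hM : ∀ i j, i ≠ j → M i j = if i = c ∨ j = c then 3 else 2)

include hM h

theorem A_c {i : Fin 4} (hi : i ≠ c) : A i c = -1 ∧ A c i = -1 := by
  have h1 := hM i c hi
  rw [if_pos (Or.inr rfl)] at h1
  rcases h.rel i c hi with h0 | h0 | h0 | h0 <;> omega

theorem A_zero {i j : Fin 4} (hij : i ≠ j) (hi : i ≠ c) (hj : j ≠ c) : A i j = 0 := by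
  have h1 := hM i j hij
  rw [if_neg (by tauto)] at h1
  rcases h.rel i j hij with h0 | h0 | h0 | h0 <;> omega

theorem rep_c {i : Fin 4} (hi : i ≠ c) : rep cs h (cs.simple i) (sr c) = sr c + sr i := by
  rw [rep_simple_eq, pairing_sr', (A_c (h := h) hM hi).1]
  module

theorem rep_i {i : Fin 4} (hi : i ≠ c) : rep cs h (cs.simple c) (sr i) = sr i + sr c := by
  rw [rep_simple_eq, pairing_sr', (A_c (h := h) hM hi).2]
  module

theorem rep_j {i j : Fin 4} (hij : i ≠ j) (hi : i ≠ c) (hj : j ≠ c) :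
    rep cs h (cs.simple i) (sr j) = sr j := by
  rw [rep_simple_eq, pairing_sr', A_zero (h := h) hM hij hi hj]
  module

theorem rep_self (i : Fin 4) : rep cs h (cs.simple i) (sr i) = -sr i := rep_simple_sr cs h i

/-- `s_i s_c α_i = α_c` -/
theorem rep_ic {i : Fin 4} (hi : i ≠ c) : rep cs h (cs.simple i * cs.simple c) (sr i) = sr c := by
  rw [rep_mul_apply, rep_i hM hi, map_add, rep_simple_sr, rep_c hM hi]
  abel

theorem rep_ci {i : Fin 4} (hi : i ≠ c) : rep cs h (cs.simple c * cs.simple i) (sr c) = sr i := by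
  rw [rep_mul_apply, rep_c hM hi, map_add, rep_simple_sr, rep_i hM hi]
  abel

/-- every root is conjugate to `α_i` -/
theorem exists_conj {i : Fin 4} (hi : i ≠ c) {x : Fin 4 → ℤ} (hx : IsRoot cs h x) :
    ∃ w, rep cs h w x = sr i := by
  obtain ⟨w, j, rfl⟩ := hx
  by_cases hj : j = c
  · subst hj
    refine ⟨cs.simple j * cs.simple i * w⁻¹, ?_⟩
    rw [rep_mul_apply, rep_inv_apply, rep_ci hM hi]
  · refine ⟨cs.simple c * cs.simple i * (cs.simple j * cs.simple c) * w⁻¹, ?_⟩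
    rw [rep_mul_apply, rep_inv_apply, rep_mul_apply, rep_ic hM hj, rep_ci hM hi]

/-- a root of the plane `{i, c}` is conjugate to `α_i` in the Weyl group of the plane -/
theorem exists_conj_plane [Finite W] {i : Fin 4} (hi : i ≠ c) {x : Fin 4 → ℤ} (hx : IsRoot cs h x)
    (hs : Supp i c x) : ∃ v ∈ WJ cs {i, c}, rep cs h v x = sr i := by
  obtain ⟨v, hv, k, hk, rfl⟩ := exists_of_supp cs h hx hs
  have h1 : cs.simple i ∈ WJ cs {i, c} := Subgroup.subset_closure ⟨i, Or.inl rfl, rfl⟩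
  have h2 : cs.simple c ∈ WJ cs {i, c} := Subgroup.subset_closure ⟨c, Or.inr rfl, rfl⟩
  rcases hk with rfl | rfl
  · exact ⟨v⁻¹, inv_mem hv, rep_inv_apply _ _ _ _⟩
  · exact ⟨cs.simple k * cs.simple i * v⁻¹, mul_mem (mul_mem h2 h1) (inv_mem hv), by
      rw [rep_mul_apply, rep_inv_apply, rep_ci hM hi]⟩

/-- the roots of the plane `{i, c}` -/
theorem cases_plane [Finite W] {i : Fin 4} (hi : i ≠ c) {x : Fin 4 → ℤ} (hx : IsRoot cs h x)
    (hs : Supp i c x) : x = sr i ∨ x = -sr i ∨ x = sr c ∨ x = -sr c ∨ x = sr c + sr i ∨ x = -(sr c + sr i) := by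
  obtain ⟨r, hr1, hr2, rfl⟩ := Nodes.PairOf.exists_cyc_nat cs h hi hx hs
  have h3 : M i c = 3 := by rw [hM i c hi, if_pos (Or.inr rfl)]
  have hA := A_c (h := h) hM hi
  rw [h3] at hr2
  have c0 := cyc_zero cs h i c
  have c1 := cyc_one cs h i c
  have c2 : cyc cs h i c 2 = sr c + sr i := by
    rw [cyc_two, hA.1, c1, c0]; module
  have hm := fun k : ℤ => cyc_add_m cs h hi k
  rw [h3] at hm
  push_cast at hm
  have c3 : cyc cs h i c 3 = sr c := by
    have := hm 0
    rw [zero_add, c0, neg_neg] at this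
    exact this
  have c4 : cyc cs h i c 4 = -sr i := by
    have := hm 1
    rw [c1] at this
    norm_num at this
    exact this
  have c5 : cyc cs h i c 5 = -(sr c + sr i) := by
    have := hm 2
    rw [c2] at this
    norm_num at this
    rw [this]; abel
  have c6 : cyc cs h i c 6 = -sr c := by
    have := hm 3
    rw [c3] at this
    norm_num at this
    exact this
  interval_cases r
  · exact Or.inl c1
  · exact Or.inr (Or.inr (Or.inr (Or.inr (Or.inl c2))))
  · exact Or.inr (Or.inr (Or.inl c3))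
  · exact Or.inr (Or.inl c4)
  · exact Or.inr (Or.inr (Or.inr (Or.inr (Or.inr c5))))
  · exact Or.inr (Or.inr (Or.inr (Or.inl c6)))

variable [Fintype W]

theorem form_ci {i : Fin 4} (hi : i ≠ c) : 2 * form cs h (sr c) (sr i) = -form cs h (sr i) (sr i) := by
  rw [two_form, pairing_sr', (A_c (h := h) hM hi).1]; ring

end Roots

/-! ### Groups -/

variable {G : Type*} [Group G] [Finite G] {Om : Set (Subgroup G)} {F : Type*} [Field F] [Fintype F]
  {K : Fin 4 → Subgroup G} {X : Fin 4 → SignType → Subgroup G} {p : ℕ} [Fact p.Prime] [CharP F p]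

theorem eps_ne (c : Fin 4) : ∀ j, eps c j ≠ 0 := by
  intro j; unfold eps; split_ifs <;> decide

theorem eps_of_ne {c j : Fin 4} (hj : j ≠ c) : eps c j = -1 := by unfold eps; rw [if_neg hj]

theorem eps_self (c : Fin 4) : eps c c = 1 := by unfold eps; rw [if_pos rfl]

theorem neg_ne {f : Fin 4 → SignType} (hf : ∀ j, f j ≠ 0) : ∀ j, (-f) j ≠ 0 := fun j => sneg (hf j)

section Grp

variable (H : Prov Om F p K X)

include H

omit [Fact p.Prime] [CharP F p] in
theorem conj_QF {i : Fin 4} {g : G} (hg : g ∈ K i) {s t : SignType} (hs : s ≠ 0) (ht : t ≠ 0)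
    (hX : Cit.cj g (X i s) = X i t) {a : G} (ha : a ∈ QF K X i s) : g * a * g⁻¹ ∈ QF K X i t := by
  have hl := H.dat.long H.odd i hs
  have h2 : g * zz (K i) * g⁻¹ = zz (K i) := by
    rw [hl.central hg]; group
  have h3 := QQ_cj g (X i s) (zz (K i))
  rw [hX, h2] at h3
  rw [QF_of_ne K X i ht]
  rw [QF_of_ne K X i hs] at ha
  rw [h3]
  exact Cit.conj_mem_cj ha

theorem conj_XX {i : Fin 4} {g : G} (hg : g ∈ K i) {f : Fin 4 → SignType} (hf : ∀ j, f j ≠ 0) {t : SignType}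
    (ht : t ≠ 0) (hX : Cit.cj g (X i (f i)) = X i t) {a : G} (ha : a ∈ FrameSign.XX (QF K X) f) :
    g * a * g⁻¹ ∈ FrameSign.XX (QF K X) (Function.update f i t) := by
  rw [mem_XX] at ha ⊢
  intro j
  by_cases hj : j = i
  · subst hj
    rw [Function.update_self]
    exact conj_QF H hg (hf j) ht hX (ha j)
  · rw [Function.update_of_ne hj]
    exact conj_mem_Q H.fr (Ne.symm hj) (hf j) hg (ha j)

theorem inv_XX {f : Fin 4 → SignType} (hf : ∀ j, f j ≠ 0) (i : Fin 4) {a : G} (ha : a ∈ FrameSign.XX (QF K X) f) :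
    zz (K i) * a * zz (K i) = a⁻¹ := by
  obtain ⟨j, k, hj, hk, hjk⟩ := In.exists_pair i
  exact H.fr.inv (Ne.symm hj) (hf i) (hf j) ha

theorem comm_XX {f : Fin 4 → SignType} (hf : ∀ j, f j ≠ 0) {a b : G} (ha : a ∈ FrameSign.XX (QF K X) f)
    (hb : b ∈ FrameSign.XX (QF K X) f) : a * b = b * a :=
  H.fr.commute_self (i := 0) (j := 1) (by decide) (hf 0) (hf 1) ha hb

omit [Fact p.Prime] [CharP F p] in
theorem sup_eq (i : Fin 4) : X i 1 ⊔ X i (-1) = K i := (H.dat.K_eq i).symm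

end Grp

/-- the output of `exists_rgd` -/
structure Out {W : Type*} [Group W] {M : CoxeterMatrix (Fin 4)} (cs : CoxeterSystem M W)
    {A : Fin 4 → Fin 4 → ℤ} (h : IsCartan M A) (c : Fin 4) (K : Fin 4 → Subgroup G)
    (X : Fin 4 → SignType → Subgroup G) (p : ℕ) (T : Subgroup G) (n : Fin 4 → G)
    (R : (Fin 4 → ℤ) → Subgroup G) : Prop where
  hM : ∀ i j, i ≠ j → M i j = if i = c ∨ j = c then 3 else 2
  rgd : RGD cs h p T n R
  pos : ∀ i, R (sr i) = nodeX X (QF K X) c i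
  neg : ∀ i, R (-sr i) = nodeXn X (QF K X) c i
  mem : ∀ i, n i ∈ nodeX X (QF K X) c i ⊔ nodeXn X (QF K X) c i
  T_le : T ≤ ⨆ i, (nodeX X (QF K X) c i ⊔ nodeXn X (QF K X) c i)

namespace Out

variable {W : Type*} [Group W] {M : CoxeterMatrix (Fin 4)} {cs : CoxeterSystem M W}
  {A : Fin 4 → Fin 4 → ℤ} {h : IsCartan M A} {c : Fin 4} {T : Subgroup G} {n : Fin 4 → G}
  {R : (Fin 4 → ℤ) → Subgroup G}

variable (H : Prov Om F p K X) (O : Out cs h c K X p T n R)

section

include O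

omit [Finite G] [Fact p.Prime] in
theorem pos_ne {i : Fin 4} (hi : i ≠ c) : R (sr i) = X i 1 := by rw [O.pos, nodeX, if_neg hi]

omit [Finite G] [Fact p.Prime] in
theorem neg_ne {i : Fin 4} (hi : i ≠ c) : R (-sr i) = X i (-1) := by rw [O.neg, nodeXn, if_neg hi]

omit [Finite G] [Fact p.Prime] in
theorem pos_c : R (sr c) = FrameSign.XX (QF K X) (eps c) := by rw [O.pos, nodeX, if_pos rfl]

omit [Finite G] [Fact p.Prime] in
theorem neg_c : R (-sr c) = FrameSign.XX (QF K X) (-eps c) := by rw [O.neg, nodeXn, if_pos rfl]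

omit [Finite G] [Fact p.Prime] in
theorem sup_self (i : Fin 4) : R (sr i) ⊔ R (-sr i) = nodeX X (QF K X) c i ⊔ nodeXn X (QF K X) c i := by
  rw [O.pos, O.neg]

/-- the `n i` interchange the root groups -/
theorem cj_n {i : Fin 4} (hi : i ≠ c) : Cit.cj (n i) (X i 1) = X i (-1) ∧ Cit.cj (n i) (X i (-1)) = X i 1 := by
  constructor
  · have h1 := O.rgd.conj i (sr i) (isRoot_sr cs h i)
    rw [rep_simple_sr, O.pos_ne hi, O.neg_ne hi] at h1
    exact h1
  · have h1 := O.rgd.conj i (-sr i) (isRoot_sr cs h i).neg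
    rw [map_neg, rep_simple_sr, neg_neg, O.pos_ne hi, O.neg_ne hi] at h1
    exact h1

end

include H O

omit [Fact p.Prime] [CharP F p] in
theorem KK_eq {i : Fin 4} (hi : i ≠ c) : KK R (sr i) = K i := by
  unfold KK
  rw [O.pos_ne hi, O.neg_ne hi, sup_eq H]

omit [Fact p.Prime] [CharP F p] in
theorem n_mem {i : Fin 4} (hi : i ≠ c) : n i ∈ K i := by
  have h1 := O.mem i
  rw [nodeX, nodeXn, if_neg hi, if_neg hi, sup_eq H] at h1
  exact h1

/-- `X_{α_c + α_i}` -/
theorem pos_add {i : Fin 4} (hi : i ≠ c) :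
    R (sr c + sr i) ≤ FrameSign.XX (QF K X) (Function.update (eps c) i 1) ∧
      R (-(sr c + sr i)) ≤ FrameSign.XX (QF K X) (Function.update (-eps c) i (-1)) := by
  have hcj := O.cj_n hi
  have e1 : eps c i = -1 := eps_of_ne hi
  constructor
  · have h1 := O.rgd.conj i (sr c) (isRoot_sr cs h c)
    rw [rep_c O.hM hi] at h1
    rw [← h1, O.pos_c]
    intro x hx
    have hx' : (n i)⁻¹ * x * n i ∈ FrameSign.XX (QF K X) (eps c) := Cit.mem_cj.1 hx
    have h2 := conj_XX H (O.n_mem H hi) (eps_ne c) (t := 1) (by decide) (by rw [e1]; exact hcj.2) hx'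
    have e2 : n i * ((n i)⁻¹ * x * n i) * (n i)⁻¹ = x := by group
    rwa [e2] at h2
  · have h1 := O.rgd.conj i (-sr c) (isRoot_sr cs h c).neg
    rw [map_neg, rep_c O.hM hi] at h1
    rw [← h1, O.neg_c]
    intro x hx
    have hx' : (n i)⁻¹ * x * n i ∈ FrameSign.XX (QF K X) (-eps c) := Cit.mem_cj.1 hx
    have e3 : (-eps c) i = 1 := by rw [Pi.neg_apply, e1, neg_neg]
    have h2 := conj_XX H (O.n_mem H hi) (TypeD4Chart.neg_ne (eps_ne c)) (t := -1) (by decide)
      (by rw [e3]; exact hcj.1) hx'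
    have e2 : n i * ((n i)⁻¹ * x * n i) * (n i)⁻¹ = x := by group
    rwa [e2] at h2

/-- the base pair -/
theorem pair_base [Fintype W] {i : Fin 4} (hi : i ≠ c) {y : Fin 4 → ℤ} (hy : IsRoot cs h y) (hs : Supp i c y)
    (h1 : y ≠ sr i) (h2 : y ≠ -sr i) : Pair cs h R R (zf R) y (sr i) := by
  have hz : zf R (sr i) = zz (K i) := by unfold zf; rw [O.KK_eq H hi]
  have hf := form_ci (cs := cs) (h := h) O.hM hi
  have hp := form_pos cs h (isRoot_sr cs h i).ne_zero
  have hup : ∀ {f : Fin 4 → SignType}, (∀ j, f j ≠ 0) → ∀ {s : SignType}, s ≠ 0 →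
      ∀ j, Function.update f i s j ≠ 0 := fun hf _ hs => In.update_ne hf hs
  -- `R y` lies in a full sign group, in `Q i 1` if `(y, α_i) ≥ 0`
  have key : ∃ f : Fin 4 → SignType, (∀ j, f j ≠ 0) ∧ R y ≤ FrameSign.XX (QF K X) f ∧
      (0 ≤ form cs h y (sr i) → f i = 1) := by
    rcases cases_plane O.hM hi hy hs with rfl | rfl | rfl | rfl | rfl | rfl
    · exact absurd rfl h1
    · exact absurd rfl h2
    · exact ⟨eps c, eps_ne c, by rw [O.pos_c], fun h3 => by omega⟩
    · refine ⟨-eps c, TypeD4Chart.neg_ne (eps_ne c), by rw [O.neg_c], fun _ => ?_⟩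
      rw [Pi.neg_apply, eps_of_ne hi, neg_neg]
    · exact ⟨_, hup (eps_ne c) (s := 1) (by decide), (O.pos_add H hi).1, fun _ => Function.update_self _ _ _⟩
    · refine ⟨_, hup (TypeD4Chart.neg_ne (eps_ne c)) (s := -1) (by decide), (O.pos_add H hi).2, fun h3 => ?_⟩
      exfalso
      rw [form_neg_left, form_add_left] at h3
      omega
  obtain ⟨f, hf0, hle, hfi⟩ := key
  constructor
  · intro h3 a ha b hb
    rw [O.pos_ne hi] at hb
    have h4 := mem_XX.1 (hle ha) i
    rw [hfi h3] at h4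
    exact H.fr.Q_cent i 1 (by decide) a h4 b hb
  · intro _ a ha
    rw [hz]
    exact inv_XX H hf0 i (hle ha)

/-- the involutions of the nodes -/
theorem comm_node (i : Fin 4) : ∀ a ∈ R (sr i), ∀ b ∈ R (sr i), a * b = b * a := by
  by_cases hi : i = c
  · subst hi
    rw [O.pos_c]
    exact fun a ha b hb => comm_XX H (eps_ne i) ha hb
  · rw [O.pos_ne hi]
    exact fun a ha b hb => H.fr.Q_cent i 1 (by decide) a (H.fr.X_le_Q i 1 (by decide) ha) b hb

omit [Fact p.Prime] [CharP F p] in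
theorem om_node (i : Fin 4) : KK R (sr i) ∈ Om := by
  by_cases hi : i = c
  · subst hi
    obtain ⟨j, -, hj, -, -⟩ := In.exists_pair i
    have h1 : KK R (sr i) = Cit.cj (n j * n i) (KK R (sr j)) := by
      unfold KK
      rw [Cit.cj_sup]
      have e1 : Cit.cj (n j * n i) (R (sr j)) = R (sr i) := by
        rw [Cit.cj_mul]
        have h2 : Cit.cj (n i) (R (sr j)) = _ := O.rgd.conj i (sr j) (isRoot_sr cs h j)
        rw [h2]
        have h3 : Cit.cj (n j) (R (rep cs h (cs.simple i) (sr j))) = _ :=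
          O.rgd.conj j _ ((isRoot_sr cs h j).act _)
        rw [h3, ← rep_mul_apply, rep_ic O.hM hj]
      have e2 : Cit.cj (n j * n i) (R (-sr j)) = R (-sr i) := by
        rw [Cit.cj_mul]
        have h2 : Cit.cj (n i) (R (-sr j)) = _ := O.rgd.conj i (-sr j) (isRoot_sr cs h j).neg
        rw [h2]
        have h3 : Cit.cj (n j) (R (rep cs h (cs.simple i) (-sr j))) = _ :=
          O.rgd.conj j _ ((isRoot_sr cs h j).neg.act _)
        rw [h3, ← rep_mul_apply, map_neg, rep_ic O.hM hj]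
      rw [e1, e2]
    rw [h1, O.KK_eq H hj]
    exact H.dat.hyp.conj _ (H.dat.mem j) _
  · rw [O.KK_eq H hi]
    exact H.dat.mem i

theorem cls (hp2 : p ≠ 2) [Fintype W] :
    Cls cs h p T n R {x | IsRoot cs h x} R (zf R) := by
  have hroot : ∀ r ∈ {x | IsRoot cs h x}, IsRoot cs h r := fun r hr => hr
  have hact : ∀ r ∈ {x | IsRoot cs h x}, ∀ w, rep cs h w r ∈ {x | IsRoot cs h x} := fun r hr w => hr.act w
  have hyp := H.dat.hyp
  have E : ZSys cs h T n {x | IsRoot cs h x} R := zsys_X O.rgd hroot hact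
  have om' := E.om_all O.rgd.nsys hyp.conj (fun i _ => O.om_node H i)
  refine cls_long Fact.out hp2 hyp O.rgd hroot hact (fun i _ => O.comm_node H i) (fun i _ => O.om_node H i) ?_
  intro i j hij hMij r hr hrs y hy hys h1 h2
  have key : ∀ i, i ≠ c → Supp i c r → Supp i c y → Pair cs h R R (zf R) y r := by
    intro i hi hrs hys
    obtain ⟨v, hv, e⟩ := exists_conj_plane O.hM hi hr hrs
    refine Pair.transport O.rgd (E.equi hyp om') hr hy v ?_
    rw [e]
    refine O.pair_base H hi (hy.act v) (supp_rep cs h hv hys) ?_ ?_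
    · rw [← e]; exact fun h3 => h1 (rep_injective_apply cs h v h3)
    · rw [← e, ← map_neg]; exact fun h3 => h2 (rep_injective_apply cs h v h3)
  have h3 := O.hM i j hij
  by_cases hi : i = c
  · subst hi
    exact key j hij.symm hrs.swap hys.swap
  · by_cases hj : j = c
    · subst hj
      exact key i hi hrs hys
    · rw [if_neg (by tauto)] at h3
      exact absurd h3 hMij

/-! ### The highest root -/

theorem exists_leaves (c : Fin 4) : ∃ j k l : Fin 4, j ≠ c ∧ k ≠ c ∧ l ≠ c ∧ j ≠ k ∧ j ≠ l ∧ k ≠ l ∧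
    ∀ m, m = c ∨ m = j ∨ m = k ∨ m = l := by
  revert c; decide

omit H [Finite G] [Fintype F] [Fact p.Prime] [CharP F p] in
theorem form_leaf [Fintype W] {i j : Fin 4} (hij : i ≠ j) (hi : i ≠ c) (hj : j ≠ c) :
    form cs h (sr i) (sr j) = 0 := by
  have h1 := two_form cs h j (sr i)
  rw [pairing_sr', A_zero (h := h) O.hM hij.symm hj hi, zero_mul] at h1
  omega

omit H [Finite G] [Fintype F] [Fact p.Prime] [CharP F p] in
theorem form_len [Fintype W] {i : Fin 4} (hi : i ≠ c) {x : Fin 4 → ℤ} (hx : IsRoot cs h x) :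
    form cs h x x = form cs h (sr i) (sr i) := by
  obtain ⟨w, e⟩ := exists_conj O.hM hi hx
  rw [← e, form_rep]

/-- `K c = ⟨X_θ, X_{-θ}⟩` -/
theorem exists_theta (hp2 : p ≠ 2) [Fintype W] (hall : ∀ J ∈ Om, zz J = zz (K c) → ∃ i, J = K i) :
    ∃ θ, IsRoot cs h θ ∧ KK R θ = K c := by
  have C := O.cls H hp2
  obtain ⟨j, k, l, hj, hk, hl, hjk, hjl, hkl, hm⟩ := exists_leaves (h := h) H O c
  have r0 := isRoot_sr cs h c
  have r1 : IsRoot cs h (sr c + sr j) := by
    have := r0.act (cs.simple j)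
    rwa [rep_c O.hM hj] at this
  have r2 : IsRoot cs h (sr c + sr k + sr j) := by
    have := r1.act (cs.simple k)
    rwa [map_add, rep_c O.hM hk, rep_j O.hM hjk.symm hk hj] at this
  have r3 : IsRoot cs h (sr c + sr l + sr k + sr j) := by
    have := r2.act (cs.simple l)
    rwa [map_add, map_add, rep_c O.hM hl, rep_j O.hM hjl.symm hl hj, rep_j O.hM hkl.symm hl hk] at this
  set u : Fin 4 → ℤ := sr c + sr l + sr k + sr j with hu
  set θ : Fin 4 → ℤ := (2 : ℤ) • sr c + sr l + sr k + sr j with hθ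
  have r4 : IsRoot cs h θ := by
    have := r3.act (cs.simple c)
    rw [hu, map_add, map_add, map_add, rep_simple_sr, rep_i O.hM hl, rep_i O.hM hk, rep_i O.hM hj] at this
    have e : -sr c + (sr l + sr c) + (sr k + sr c) + (sr j + sr c) = θ := by rw [hθ]; module
    rwa [e] at this
  have hlen : ∀ x ∈ {x | IsRoot cs h x}, ∀ y ∈ {x | IsRoot cs h x}, form cs h x x = form cs h y y :=
    fun x hx y hy => by rw [O.form_len (p := p) hj hx, O.form_len (p := p) hj hy]
  have fcj := form_ci (cs := cs) (h := h) O.hM hj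
  have fck := form_ci (cs := cs) (h := h) O.hM hk
  have fcl := form_ci (cs := cs) (h := h) O.hM hl
  have fjk := O.form_leaf (p := p) hjk hj hk
  have fjl := O.form_leaf (p := p) hjl hj hl
  have fkl := O.form_leaf (p := p) hkl hk hl
  have fkj := O.form_leaf (p := p) hjk.symm hk hj
  have flj := O.form_leaf (p := p) hjl.symm hl hj
  have flk := O.form_leaf (p := p) hkl.symm hl hk
  have oj : form cs h θ (sr j) = 0 := by
    rw [hθ]; simp only [form_add_left, form_smul_left]; omega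
  have ok : form cs h θ (sr k) = 0 := by
    rw [hθ]; simp only [form_add_left, form_smul_left]; omega
  have ol : form cs h θ (sr l) = 0 := by
    rw [hθ]; simp only [form_add_left, form_smul_left]; omega
  have hyp := H.dat.hyp
  have hact : ∀ r ∈ {x | IsRoot cs h x}, ∀ w, rep cs h w r ∈ {x | IsRoot cs h x} := fun r hr w => hr.act w
  have om' := (zsys_X (R := {x | IsRoot cs h x}) O.rgd (fun r hr => hr) hact).om_all O.rgd.nsys hyp.conj
    (fun i _ => O.om_node H i)
  have huniq : Nodes.ZRel.Uniq {x | IsRoot cs h x} R (zf R) := fun r hr x hx hxx hx1 =>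
    hyp.eq_zz (om' r hr) hx hxx hx1
  have hprod := Nodes.ZRel.prod4 C Fact.out hp2 huniq hlen (u := u) (a := θ) (b := sr j) (c := sr k) (d := sr l)
    r3 r4 (isRoot_sr cs h j) (isRoot_sr cs h k) (isRoot_sr cs h l) oj ok ol fjk fjl fkl (by
      rw [hu, hθ]; module)
  have hzi : ∀ i, i ≠ c → zf R (sr i) = zz (K c) := fun i hi => by
    unfold zf; rw [O.KK_eq H hi]; exact H.zeq i c
  rw [hzi j hj, hzi k hk, hzi l hl, mul_assoc, hyp.zz_mul (H.dat.mem c), mul_one] at hprod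
  have hzθ : zf R θ = zz (K c) := by
    rw [mul_eq_one_iff_eq_inv] at hprod
    rw [hprod]
    exact hyp.zz_inv (H.dat.mem c)
  refine ⟨θ, r4, ?_⟩
  obtain ⟨m, hmK⟩ := hall (KK R θ) (om' θ r4) hzθ
  by_cases hmc : m = c
  · rw [hmK, hmc]
  · exfalso
    have om1 : form cs h θ (sr m) = 0 := by
      rcases hm m with h1 | h1 | h1 | h1
      · exact absurd h1 hmc
      · rw [h1]; exact oj
      · rw [h1]; exact ok
      · rw [h1]; exact ol
    have h1 := Nodes.Perp.X_cm_KK C (r := sr m) (x := θ) (isRoot_sr cs h m) r4 om1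
    have h2 := Nodes.Perp.X_cm_KK C (r := sr m) (x := -θ) (isRoot_sr cs h m) r4.neg
      (by rw [form_neg_left, om1, neg_zero])
    have hKm : Nodes.Perp.KK R (sr m) = K m := O.KK_eq H hmc
    rw [hKm] at h1 h2
    have h3 : K m ≤ centralizer (K m : Set G) := by
      nth_rewrite 1 [← hmK]
      refine sup_le (fun a ha => ?_) (fun a ha => ?_)
      · rw [mem_centralizer_iff]; exact fun b hb => (h1 a ha b hb).symm
      · rw [mem_centralizer_iff]; exact fun b hb => (h2 a ha b hb).symm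
    have h4 : X m 1 = ⊥ := by
      rw [eq_bot_iff]
      intro a ha
      rw [mem_bot]
      refine H.dat.X_center m one_ne_zero ha fun b hb => ?_
      exact (mem_centralizer_iff.1 (h3 (H.dat.X_le m one_ne_zero ha)) b hb).symm
    have h5 := H.dat.card_X m (one_ne_zero (α := SignType))
    rw [h4, card_bot] at h5
    exact (Fintype.one_lt_card (α := F)).ne h5

end Out

/-! ### The group `G₀` -/

section GZero

variable (H : Prov Om F p K X)

include H

/-- the group generated by the node groups -/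
noncomputable def N4 (c : Fin 4) (K : Fin 4 → Subgroup G) (X : Fin 4 → SignType → Subgroup G) : Subgroup G :=
  ⨆ i, (nodeX X (QF K X) c i ⊔ nodeXn X (QF K X) c i)

omit [Fact p.Prime] [CharP F p] in
theorem K_le_N4 {c i : Fin 4} (hi : i ≠ c) : K i ≤ N4 c K X := by
  have h1 : nodeX X (QF K X) c i ⊔ nodeXn X (QF K X) c i ≤ N4 c K X :=
    le_iSup (fun i => nodeX X (QF K X) c i ⊔ nodeXn X (QF K X) c i) i
  rw [nodeX, nodeXn, if_neg hi, if_neg hi, sup_eq H] at h1
  exact h1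

theorem step_N4 {N : Subgroup G} (hK : ∀ i, K i ≤ N) {f : Fin 4 → SignType} (hf : ∀ j, f j ≠ 0)
    (hN : FrameSign.XX (QF K X) f ≤ N) (i : Fin 4) {s : SignType} (hs : s ≠ 0) :
    FrameSign.XX (QF K X) (Function.update f i s) ≤ N := by
  by_cases hsf : s = f i
  · rw [hsf, Function.update_eq_self]; exact hN
  have hs' : s = -f i := by
    have := hf i
    revert hs hsf this
    generalize f i = t
    revert s t; decide
  obtain ⟨e, he1, he2⟩ := H.dat.sl i
  have hw := w_mem e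
  have hX : Cit.cj (ofEquiv e).w (X i s) = X i (f i) := by
    rw [hs']
    rcases sign_cases (hf i) with h1 | h1
    · rw [h1, he1, he2]; exact (cj_w e).2
    · rw [h1, neg_neg, he1, he2]; exact (cj_w e).1
  intro a ha
  have hfu : ∀ j, Function.update f i s j ≠ 0 := In.update_ne hf hs
  have h1 := conj_XX H hw hfu (t := f i) (hf i) (by rw [Function.update_self]; exact hX) ha
  rw [Function.update_idem, Function.update_eq_self] at h1
  have h2 := hN h1
  have h3 : a = (ofEquiv e).w⁻¹ * ((ofEquiv e).w * a * (ofEquiv e).w⁻¹) * (ofEquiv e).w := by group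
  rw [h3]
  exact mul_mem (mul_mem (inv_mem (hK i hw)) h2) (hK i hw)

theorem XX_le_N4 {N : Subgroup G} (hK : ∀ i, K i ≤ N) {g : Fin 4 → SignType} (hg : ∀ j, g j ≠ 0)
    (hN : FrameSign.XX (QF K X) g ≤ N) {f : Fin 4 → SignType} (hf : ∀ j, f j ≠ 0) :
    FrameSign.XX (QF K X) f ≤ N := by
  have h0 := step_N4 H hK hg hN 0 (hf 0)
  have g0 := In.update_ne hg (i := 0) (hf 0)
  have h1 := step_N4 H hK g0 h0 1 (hf 1)
  have g1 := In.update_ne g0 (i := 1) (hf 1)
  have h2 := step_N4 H hK g1 h1 2 (hf 2)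
  have g2 := In.update_ne g1 (i := 2) (hf 2)
  have h3 := step_N4 H hK g2 h2 3 (hf 3)
  have e : Function.update (Function.update (Function.update (Function.update g 0 (f 0)) 1 (f 1)) 2 (f 2)) 3
      (f 3) = f := by
    funext i
    fin_cases i <;> rfl
  rwa [e] at h3

/-- the sign vectors with full support or a single entry -/
def PP (e : Fin 4 → SignType) : Prop := (∀ i, e i ≠ 0) ∨ ∃ i, e i ≠ 0 ∧ ∀ j, j ≠ i → e j = 0

/-- the sign groups with a single entry -/
theorem XX_single {e : Fin 4 → SignType} {i : Fin 4} (hi : e i ≠ 0) (he : ∀ j, j ≠ i → e j = 0) :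
    FrameSign.XX (QF K X) e = X i (e i) := by
  have Fr := H.fr
  apply le_antisymm
  · intro a ha
    rw [mem_XX] at ha
    obtain ⟨j, -, hj, -, -⟩ := In.exists_pair i
    have h1 := ha j
    rw [he j hj, Fr.mem_Q_zero] at h1
    refine Fr.Q_fix i (e i) hi a (ha i) ?_
    have h2 := h1 _ (Fr.z_mem j)
    change zz (K i) * a = a * zz (K i)
    rw [H.zeq i j]
    exact h2.symm
  · intro a ha
    rw [mem_XX]
    intro j
    by_cases hj : j = i
    · rw [hj]; exact Fr.X_le_Q i _ hi ha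
    · rw [he j hj, Fr.mem_Q_zero]
      exact fun b hb => Fr.comm i j (Ne.symm hj) a (Fr.X_le_K i hi ha) b hb

theorem N4_eq {c : Fin 4} (hKc : K c ≤ N4 c K X) :
    N4 c K X = ⨆ e : {e : Fin 4 → SignType // PP e}, FrameSign.XX (QF K X) e.1 := by
  have hKN : ∀ i, K i ≤ N4 c K X := by
    intro i
    by_cases hi : i = c
    · rw [hi]; exact hKc
    · exact K_le_N4 H hi
  have hcN : FrameSign.XX (QF K X) (eps c) ≤ N4 c K X := by
    have h1 : nodeX X (QF K X) c c ⊔ nodeXn X (QF K X) c c ≤ N4 c K X :=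
      le_iSup (fun i => nodeX X (QF K X) c i ⊔ nodeXn X (QF K X) c i) c
    rw [nodeX, nodeXn, if_pos rfl, if_pos rfl] at h1
    exact le_sup_left.trans h1
  have hle : ∀ {e : Fin 4 → SignType}, PP e → FrameSign.XX (QF K X) e ≤
      ⨆ e : {e : Fin 4 → SignType // PP e}, FrameSign.XX (QF K X) e.1 := fun {e} he =>
    le_iSup (fun e : {e : Fin 4 → SignType // PP e} => FrameSign.XX (QF K X) e.1) ⟨e, he⟩
  have hXle : ∀ (i : Fin 4) (s : SignType), s ≠ 0 → X i s ≤
      ⨆ e : {e : Fin 4 → SignType // PP e}, FrameSign.XX (QF K X) e.1 := by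
    intro i s hs
    have hs1 : (Function.update (0 : Fin 4 → SignType) i s) i ≠ 0 := by rw [Function.update_self]; exact hs
    have hs2 : ∀ j, j ≠ i → (Function.update (0 : Fin 4 → SignType) i s) j = 0 := fun j hj => by
      rw [Function.update_of_ne hj]; rfl
    have h1 := hle (e := Function.update 0 i s) (Or.inr ⟨i, hs1, hs2⟩)
    rw [XX_single H hs1 hs2, Function.update_self] at h1
    exact h1
  apply le_antisymm
  · refine iSup_le fun i => ?_
    by_cases hi : i = c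
    · subst hi
      rw [nodeX, nodeXn, if_pos rfl, if_pos rfl]
      exact sup_le (hle (Or.inl (eps_ne i))) (hle (Or.inl (TypeD4Chart.neg_ne (eps_ne i))))
    · rw [nodeX, nodeXn, if_neg hi, if_neg hi]
      exact sup_le (hXle i 1 (by decide)) (hXle i (-1) (by decide))
  · refine iSup_le ?_
    rintro ⟨e, he | ⟨i, hi, he⟩⟩
    · exact XX_le_N4 H hKN (eps_ne c) hcN he
    · change FrameSign.XX (QF K X) e ≤ _
      rw [XX_single H hi he]
      exact (H.dat.X_le i hi).trans (hKN i)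

end GZero

theorem hMD : ∀ i j : Fin 4, i ≠ j → (Nodes.TypeD.M 2 : CoxeterMatrix (Fin 4)) i j =
    if i = 1 ∨ j = 1 then 3 else 2 := by
  intro i j hij
  rw [show (Nodes.TypeD.M 2 : CoxeterMatrix (Fin 4)) i j = _ from Nodes.TypeD.M_apply (n := 2) i j]
  revert hij
  revert i j
  decide

/-- **THE CASE `D₄`: the output sentence.** -/
theorem main {F : Type} [Field F] [Fintype F] [CharP F p] (H : Prov Om F p K X) (hp2 : p ≠ 2)
    (S : Sylow 2 G) (hS : Set.range K = Cit.OmS Om (S : Subgroup G)) (hinj : Function.Injective K)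
    (hall : ∀ J ∈ Om, zz J = zz (K 1) → ∃ i, J = K i)
    (hcom : ∀ i, ∀ J ∈ Om, J ≠ K i → (∀ a ∈ J, ∀ b ∈ K i, a * b = b * a) → ∃ j, J = K j) :
    ∃ (G₀ : Subgroup G) (c : Chart Om p G₀), c.IsTy (Ty.D 4) ∧ (∀ i, K i ≤ G₀) ∧
      (∀ i, FrameClose.delta Om (K i) ≤ G₀) ∧
      (∀ J ∈ Om, J ≤ G₀ → normalizer (J : Set G) ≤ normalizer (G₀ : Set G)) ∧
      (∀ r ∈ c.R, c.Z r = c.X r) ∧ ∀ i (s : SignType), s ≠ 0 → QF K X i s ≤ G₀ := by
  obtain ⟨e, hInv⟩ := H.toInv
  have hIn := hInv.toIn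
  let cs : CoxeterSystem (Nodes.TypeD.M 2 : CoxeterMatrix (Fin 4)) (Nodes.TypeD.M 2).Group :=
    (Nodes.TypeD.M 2).toCoxeterSystem
  have hfin : Finite (Nodes.TypeD.M 2).Group := Nodes.TypeD.finite_W cs
  let _ : Fintype (Nodes.TypeD.M 2).Group := Fintype.ofFinite _
  have h : IsCartan (Nodes.TypeD.M 2 : CoxeterMatrix (Fin 4)) (Nodes.TypeD.A 2) := Nodes.TypeD.isCartan 2
  obtain ⟨T, n, R, hR, h1, h2, h3, h4, -⟩ := hIn.exists_rgd (p := p) cs h 1 hMD
  have O : Out cs h 1 K X p T n R := ⟨hMD, hR, h1, h2, h3, h4⟩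
  have C := O.cls H hp2
  have hyp := H.dat.hyp
  obtain ⟨θ, hθ, hKθ⟩ := O.exists_theta H hp2 hall
  have hN : (⨆ j, (R (sr j) ⊔ R (-sr j))) = N4 1 K X := iSup_congr fun j => O.sup_self j
  have hgen : G1 cs h R = N4 1 K X := by
    rw [rgd_G1_eq hR, hN]
    intro i
    rw [hN]
    exact le_iSup (fun i => nodeX X (QF K X) 1 i ⊔ nodeXn X (QF K X) 1 i) i (h3 i)
  have hKc : K 1 ≤ N4 1 K X := by
    rw [← hKθ, ← hgen]
    exact sup_le (X_le_G1 hθ) (X_le_G1 hθ.neg)
  have hK : ∀ i, K i ≤ N4 1 K X := by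
    intro i
    by_cases hi : i = 1
    · rw [hi]; exact hKc
    · exact K_le_N4 H hi
  have hΔ : ∀ i, FrameClose.delta Om (K i) ≤ N4 1 K X := by
    intro i
    refine iSup₂_le fun J hJ => ?_
    obtain ⟨j, rfl⟩ := hcom i J hJ.1 hJ.2.1 hJ.2.2
    exact hK j
  have htrans : ∀ r ∈ {x | IsRoot cs h x}, ∀ s ∈ {x | IsRoot cs h x}, ∃ w, s = rep cs h w r := by
    intro r hr s hs
    obtain ⟨v, hv⟩ := exists_conj hMD (i := 0) (by decide) hr
    obtain ⟨w, hw⟩ := exists_conj hMD (i := 0) (by decide) hs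
    exact ⟨w⁻¹ * v, by rw [rep_mul_apply, hv, ← hw, rep_inv_apply]⟩
  let ch : Chart Om p (N4 1 K X) := chartOfCls hyp S Fact.out hp2 C (Ty.irrD 2 (by norm_num)) ⟨0⟩ h4 hgen htrans
    ⟨_, isRoot_sr cs h 0⟩ (fun i _ => O.om_node H i) (fun J hJ => by
      rw [← hS] at hJ
      obtain ⟨i, rfl⟩ := hJ
      by_cases hi : i = 1
      · refine ⟨θ, hθ, 1, one_mem _, ?_⟩
        rw [hKθ, hi]
        exact (Cit.cj_one _).symm
      · refine ⟨sr i, isRoot_sr cs h i, 1, one_mem _, ?_⟩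
        rw [O.KK_eq H hi]
        exact (Cit.cj_one _).symm)
  refine ⟨N4 1 K X, ch, ⟨Equiv.refl _, fun i j => rfl, fun i => ⟨fun _ => trivial, fun _ => isRoot_sr cs h i⟩⟩,
    hK, hΔ, ?_, fun r _ => rfl, fun i s hs => hIn.Q_le hs ((H.dat.X_le i hs).trans (hK i)) fun f hf _ =>
      (le_iSup (fun e : {e : Fin 4 → SignType // PP e} => FrameSign.XX (QF K X) e.1) ⟨f, Or.inl hf⟩).trans
        (N4_eq H hKc).ge⟩
  refine FrameClose.frame_close_of hyp S H.fr hS hinj (fun _ => rfl) (q := Fintype.card F)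
    (fun i => ⟨F, inferInstance, inferInstance, rfl, ⟨e i⟩⟩) (fun i s hs => H.dat.card_X i hs)
    (fun i s hs => QF_of_ne K X i hs) (P := PP) ?_ (N4_eq H hKc) hK hΔ
  rintro σ f (hf | ⟨i, hi, hf⟩)
  · exact Or.inl fun i => hf (σ i)
  · refine Or.inr ⟨σ.symm i, by simpa using hi, fun j hj => hf (σ j) fun h => hj ?_⟩
    rw [← h, Equiv.symm_apply_apply]

end Cfsg.Agent.Cit.TypeD4Chart
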