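import Cfsg.Agent.Cit.TypeD4Cor
import Cfsg.Agent.Cit.Exact
import Cfsg.Agent.Cit.TyPcE

/-!
# All involutions `z_K`, `K ∈ Om(S)`, equal: constant functions on the members

* `corG_z`, `corG_t` : `CorG Om (C(z))`, `CorG Om (C(x k x l))`;
* `big_of` : `Big Om M` from the centralisers of `z`, `x k x l`, `x₀x₁x₂x₃`;
* `eq_bot` : an equivariant function `b` on the members such that the lifts of the pieces of `C(x k x l)` centralise
  `b (K i)` is trivial.
-/

set_option autoImplicit false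
set_option linter.style.haveILetI false
set_option linter.unusedSectionVars false

namespace Cfsg.Agent.Cit.TypeD4Const

open Subgroup Cfsg Cfsg.Agent.Cit.EqClose Cfsg.Agent.Cit.EqHad Cfsg.Agent.Cit.UseT Cfsg.Agent.Cit.PieceG
  Cfsg.Agent.Cit.TypeD4Cor
open scoped commutatorElement

universe u

/-! ### (C) for all members -/

section

variable {G : Type*} [Group G] [Finite G] {Om : Set (Subgroup G)}

/-- a subgroup `N` normalised by `J` and centralised by a Sylow 2-subgroup of `J` is centralised by all -/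
theorem two_le_centralizer {J Q N P : Subgroup G} (hQ : Syl Q J) (hN : J ≤ normalizer (N : Set G))
    (hQN : Q ≤ centralizer (N : Set G)) (hPJ : P ≤ J) (hP : IsPGroup 2 P) : P ≤ centralizer (N : Set G) := by
  obtain ⟨R, hR, hPR⟩ := exists_syl_ge hP hPJ
  obtain ⟨a, ha, haR⟩ := hR.exists_conj hQ
  intro x hx
  rw [mem_centralizer_iff]
  intro y hy
  have h1 : a * x * a⁻¹ ∈ Q := by rw [← haR]; exact conj_mem_cj (hPR hx)
  have h2 : a * y * a⁻¹ ∈ N := (mem_normalizer_iff.1 (hN ha) y).1 hy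
  have h3 := mem_centralizer_iff.1 (hQN h1) _ h2
  have h4 : a * (y * x) * a⁻¹ = a * (x * y) * a⁻¹ := by
    calc a * (y * x) * a⁻¹ = a * y * a⁻¹ * (a * x * a⁻¹) := by group
      _ = a * x * a⁻¹ * (a * y * a⁻¹) := h3
      _ = a * (x * y) * a⁻¹ := by group
  exact mul_left_cancel (mul_right_cancel h4)

theorem exists_ne (k l : Fin 4) : ∃ i, i ≠ k ∧ i ≠ l := by
  revert k l; decide

end

section

variable {G : Type u} [Group G] [Finite G] {Om : Set (Subgroup G)} {S : Sylow 2 G} {K : Fin 4 → Subgroup G}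
  {x : Fin 4 → G}

theorem corG_z (ms : MinS Om) (e : EqFour Om) (c : EqCor Om) (hX : Xs Om (S : Subgroup G) K x) :
    CorG Om (centralizer {zz (K 0)}) := by
  refine ms.corG S (e.hyp.zz_ne (hX.mem 0).1) (fun J hJ => ?_) fun J hJ => ?_
  · rw [← e.eqz S _ hJ _ (hX.mem 0)]
    exact e.hyp.le_centralizer hJ.1
  · obtain ⟨i, rfl⟩ := all e hX hJ.1 (e.eqz S _ hJ _ (hX.mem 0))
    exact (c S K x hX).1 i

/-- a member in `C(x k x l)` in a common 2-group with `K i` -/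
theorem exists_cj_mem (e : EqFour Om) (c : EqCor Om) (hX : Xs Om (S : Subgroup G) K x) {k l : Fin 4} (hkl : k ≠ l)
    {J : Subgroup G} (hJ : J ∈ Om) (hJH : J ≤ centralizer {x k * x l}) :
    ∃ g ∈ centralizer {x k * x l}, ∃ m, m ≠ k ∧ m ≠ l ∧ cj g J = K m := by
  obtain ⟨i, hik, hil⟩ := exists_ne k l
  obtain ⟨Q, hQ⟩ := Hyp.exists_syl J
  obtain ⟨T', hT', hQT⟩ := exists_syl_ge hQ.2.1 (hQ.1.trans hJH)
  have hKi : K i ≤ centralizer {x k * x l} := le_ct c e hX hik hil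
  have hQi := syl_inf hX.two (hX.mem i)
  obtain ⟨T, hT, hQiT⟩ := exists_syl_ge hQi.2.1 (hQi.1.trans hKi)
  obtain ⟨g, hg, hgT⟩ := hT'.exists_conj hT
  have h1 : cj g J ∈ OmS Om T := mem_OmS_of_le (e.hyp.conj J hJ g) (hQ.cj g) (by rw [← hgT]; exact cj_mono g hQT)
  have h2 : K i ∈ OmS Om T := mem_OmS_of_le (hX.mem i).1 hQi hQiT
  have h3 : zz (cj g J) = zz (K 0) := (e.eq_zz hT.2.1 h1 h2).trans (zz_eq e hX i)
  have h4 : cj g J ≤ centralizer {x k * x l} := by
    have h5 := cj_mono g hJH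
    rwa [mem_normalizer_iff_cj.1 (le_normalizer hg)] at h5
  obtain ⟨m, hmk, hml, h5⟩ := mem_of_le e hX hkl h1.1 h3 h4
  exact ⟨g, hg, m, hmk, hml, h5⟩

theorem corG_t (ms : MinS Om) (e : EqFour Om) (c : EqCor Om) (hX : Xs Om (S : Subgroup G) K x) {k l : Fin 4}
    (hkl : k ≠ l) : CorG Om (centralizer {x k * x l}) where
  hyp := e.hyp
  cor J hJ hJH P hPJ hP := by
    obtain ⟨g, hg, m, hmk, hml, h1⟩ := exists_cj_mem e c hX hkl hJ hJH
    have h2 : cj g P ≤ centralizer (OO (centralizer {x k * x l}) : Set G) := by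
      refine two_le_centralizer (syl_inf hX.two (hX.mem m)) ((le_ct c e hX hmk hml).trans (le_normalizer_OO _))
        ((c S K x hX).2 k l m hkl hmk hml) ?_ (isPGroup_cj hP)
      rw [← h1]
      exact cj_mono g hPJ
    intro y hy
    rw [mem_centralizer_iff]
    intro a ha
    have h3 : g * a * g⁻¹ ∈ OO (centralizer {x k * x l}) := (mem_normalizer_iff.1 (le_normalizer_OO _ hg) a).1 ha
    have h4 := mem_centralizer_iff.1 (h2 (conj_mem_cj hy)) _ h3
    have h5 : g * (a * y) * g⁻¹ = g * (y * a) * g⁻¹ := by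
      calc g * (a * y) * g⁻¹ = g * a * g⁻¹ * (g * y * g⁻¹) := by group
        _ = g * y * g⁻¹ * (g * a * g⁻¹) := h4
        _ = g * (y * a) * g⁻¹ := by group
    exact mul_left_cancel (mul_right_cancel h5)
  pcs := ms.hasPieces_fb (ms.centralizer_ne_top (t_ne e hX hkl))

end


/-! ### The involutions of `D(S)` -/

section

variable {G : Type*} [Group G] [Finite G] {Om : Set (Subgroup G)}

/-- the centre of a generalised quaternion group -/
theorem eq_of_central {Q : Subgroup G} {c v z : G} {n : ℕ} (h : GQ Q c v z n) (hQ : IsPGroup 2 Q) {g : G}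
    (hg : g ∈ Q) (hc : ∀ q ∈ Q, q * g = g * q) : g = 1 ∨ g = z := by
  by_cases h2 : g * g = 1
  · by_cases h1 : g = 1
    · exact Or.inl h1
    · exact Or.inr (h.eq_z hg h2 h1)
  exfalso
  obtain ⟨m, h4⟩ := exists_pow_four hQ hg h2
  obtain ⟨y, hy⟩ : ∃ y, y = g ^ m := ⟨_, rfl⟩
  rw [← hy] at h4
  obtain ⟨u, hu, -, hux⟩ := h.exists_inverting (by rw [hy]; exact pow_mem hg m) h4
  have h5 : u * y = y * u := by
    rw [hy]
    exact ((show Commute u g from hc u hu).pow_right m).eq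
  rw [h5, mul_inv_cancel_right] at hux
  have h6 : y * y = 1 := by nth_rewrite 2 [hux]; exact mul_inv_cancel _
  have h7 := orderOf_dvd_of_pow_eq_one (by rw [pow_two]; exact h6 : y ^ 2 = 1)
  rw [h4] at h7
  omega

variable {S : Sylow 2 G} {K : Fin 4 → Subgroup G} {x : Fin 4 → G}

/-- elements of `D(S)` are products -/
theorem exists_prod_DD (e : EqFour Om) (hinj : Function.Injective K)
    (hK : ∀ i, K i ∈ OmS Om (S : Subgroup G)) (hall : ∀ L ∈ OmS Om (S : Subgroup G), ∃ i, K i = L) {f : G}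
    (hf : f ∈ DD Om (S : Subgroup G)) : ∃ q : Fin 4 → G, (∀ i, q i ∈ K i ⊓ (S : Subgroup G)) ∧
      f = q 0 * q 1 * q 2 * q 3 := by
  have hcomm : ∀ i j, i ≠ j → ∀ a ∈ K i ⊓ (S : Subgroup G), ∀ b ∈ K j ⊓ (S : Subgroup G), a * b = b * a :=
    fun i j hij a ha b hb => e.hyp.comm S.isPGroup' (hK i) (hK j) (fun h => hij (hinj h)) ha hb
  have h1 : DD Om (S : Subgroup G) ≤ ((K 0 ⊓ (S : Subgroup G)) ⊔ (K 1 ⊓ (S : Subgroup G))) ⊔
      (K 2 ⊓ (S : Subgroup G)) ⊔ (K 3 ⊓ (S : Subgroup G)) := by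
    rw [DD_le_iff]
    intro L hL
    obtain ⟨i, rfl⟩ := hall L hL
    clear hL
    revert i
    refine fin4 ?_ ?_ ?_ ?_
    · exact le_sup_left.trans (le_sup_left.trans le_sup_left)
    · exact le_sup_right.trans (le_sup_left.trans le_sup_left)
    · exact le_sup_right.trans le_sup_left
    · exact le_sup_right
  have c01 : ∀ a ∈ K 0 ⊓ (S : Subgroup G), ∀ b ∈ K 1 ⊓ (S : Subgroup G), a * b = b * a := hcomm 0 1 (by decide)
  have c2 : ∀ a ∈ (K 0 ⊓ (S : Subgroup G)) ⊔ (K 1 ⊓ (S : Subgroup G)), ∀ b ∈ K 2 ⊓ (S : Subgroup G),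
      a * b = b * a := by
    intro a ha b hb
    obtain ⟨a0, ha0, a1, ha1, rfl⟩ := (Exact.mem_sup_of_comm c01).1 ha
    rw [mul_assoc, hcomm 1 2 (by decide) a1 ha1 b hb, ← mul_assoc, hcomm 0 2 (by decide) a0 ha0 b hb, mul_assoc]
  have c3 : ∀ a ∈ (K 0 ⊓ (S : Subgroup G)) ⊔ (K 1 ⊓ (S : Subgroup G)) ⊔ (K 2 ⊓ (S : Subgroup G)),
      ∀ b ∈ K 3 ⊓ (S : Subgroup G), a * b = b * a := by
    intro a ha b hb
    obtain ⟨a', ha', a2, ha2, rfl⟩ := (Exact.mem_sup_of_comm c2).1 ha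
    obtain ⟨a0, ha0, a1, ha1, rfl⟩ := (Exact.mem_sup_of_comm c01).1 ha'
    have e0 := hcomm 0 3 (by decide) a0 ha0 b hb
    have e1 := hcomm 1 3 (by decide) a1 ha1 b hb
    have e2 := hcomm 2 3 (by decide) a2 ha2 b hb
    calc a0 * a1 * a2 * b = a0 * a1 * (a2 * b) := by group
      _ = a0 * (a1 * b) * a2 := by rw [e2]; group
      _ = (a0 * b) * a1 * a2 := by rw [e1]; group
      _ = b * (a0 * a1 * a2) := by rw [e0]; group
  obtain ⟨a, ha, q3, hq3, rfl⟩ := (Exact.mem_sup_of_comm c3).1 (h1 hf)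
  obtain ⟨a', ha', q2, hq2, rfl⟩ := (Exact.mem_sup_of_comm c2).1 ha
  obtain ⟨q0, hq0, q1, hq1, rfl⟩ := (Exact.mem_sup_of_comm c01).1 ha'
  exact ⟨![q0, q1, q2, q3], fin4 hq0 hq1 hq2 hq3, rfl⟩

/-- **the involutions of `D(S)`** -/
theorem cases_DD (e : EqFour Om) (S : Sylow 2 G) {f : G} (hf : f ∈ DD Om (S : Subgroup G)) (hff : f * f = 1)
    (hf1 : f ≠ 1) : ∃ K x, Xs Om (S : Subgroup G) K x ∧
      (f = zz (K 0) ∨ (∃ k l, k ≠ l ∧ f = x k * x l) ∨ f = Xs.pr x) := by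
  obtain ⟨K, hinj, hK, hall⟩ := e.exists_enum S
  have h := e.hyp
  have hS := S.isPGroup'
  obtain ⟨z, hz⟩ : ∃ z, z = zz (K 0) := ⟨_, rfl⟩
  have hzi : ∀ i, zz (K i) = z := fun i => by rw [hz]; exact e.eqz S _ (hK i) _ (hK 0)
  have hzz : z * z = 1 := by rw [hz]; exact h.zz_mul (hK 0).1
  have hz1 : z ≠ 1 := by rw [hz]; exact h.zz_ne (hK 0).1
  obtain ⟨q, hq, hfq⟩ := exists_prod_DD e hinj hK hall hf
  have hcq : ∀ i j, i ≠ j → ∀ a ∈ K i ⊓ (S : Subgroup G), ∀ b ∈ K j ⊓ (S : Subgroup G), a * b = b * a :=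
    fun i j hij a ha b hb => h.comm hS (hK i) (hK j) (fun h => hij (hinj h)) ha hb
  have hqq : ∀ i j, Commute (q i) (q j) := fun i j => by
    by_cases hij : i = j
    · rw [hij]
    · exact hcq i j hij _ (hq i) _ (hq j)
  have hprod : (1 : G) = (q 0 * q 0) * (q 1 * q 1) * (q 2 * q 2) * (q 3 * q 3) := by
    rw [← hff, hfq]
    have c1 := (hqq 1 0).eq
    have c2 := (hqq 2 0).eq
    have c3 := (hqq 3 0).eq
    have c4 := (hqq 2 1).eq
    have c5 := (hqq 3 1).eq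
    have c6 := (hqq 3 2).eq
    calc q 0 * q 1 * q 2 * q 3 * (q 0 * q 1 * q 2 * q 3) = q 0 * q 1 * q 2 * (q 3 * q 0) * q 1 * q 2 * q 3 := by group
      _ = q 0 * q 1 * (q 2 * q 0) * q 3 * q 1 * q 2 * q 3 := by rw [c3]; group
      _ = q 0 * (q 1 * q 0) * q 2 * (q 3 * q 1) * q 2 * q 3 := by rw [c2]; group
      _ = q 0 * q 0 * q 1 * (q 2 * q 1) * (q 3 * q 2) * q 3 := by rw [c1, c5]; group
      _ = _ := by rw [c4, c6]; group
  have hw : ∀ i, q i * q i = 1 ∨ q i * q i = z := by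
    intro i
    obtain ⟨r, hr, hrc⟩ := EqFour.factor (w := fun i => q i * q i) hprod
      (fun i j => by
        have := ((hqq i j).mul_right (hqq i j))
        exact (this.mul_left this).eq) i
    obtain ⟨c, v, n, hg⟩ := h.exists_gq (hK i).1 (syl_inf hS (hK i))
    rw [← hzi i]
    refine eq_of_central hg (hS.to_le inf_le_right) (mul_mem (hq i) (hq i)) fun a ha => ?_
    have h1 : r * a = a * r := hrc a fun j hj => by
      have h2 : Commute (q j) a := hcq j i hj _ (hq j) a ha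
      exact (h2.mul_left h2).eq
    have h2 : q i * q i = r⁻¹ := eq_inv_of_mul_eq_one_left hr.symm
    rw [h2]
    exact ((show Commute a r from h1.symm).inv_right).eq
  -- elements of order four
  have hx : ∀ i, ∃ y ∈ K i ⊓ (S : Subgroup G), orderOf y = 4 ∧ (q i * q i = z → y = q i) := by
    intro i
    by_cases h1 : q i * q i = z
    · exact ⟨q i, hq i, GQ.orderOf_of_sq h1 hzz hz1, fun _ => rfl⟩
    · obtain ⟨c, v, n, hg⟩ := h.exists_gq (hK i).1 (syl_inf hS (hK i))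
      exact ⟨v, hg.v_mem, hg.orderOf_v, fun h2 => absurd h2 h1⟩
  choose x hxm hx4 hxq using hx
  have hX : Xs Om (S : Subgroup G) K x := ⟨hS, hinj, hK, hxm, hx4⟩
  have hxc : ∀ i j, Commute (x i) (x j) := fun i j => hX.comm h i j
  have hxx : ∀ i, x i * x i = z := fun i => by rw [sq e hX i, hz]
  have hxz : ∀ i, Commute (x i) z := fun i => by
    rw [← hxx i]
    exact (Commute.refl _).mul_right (Commute.refl _)
  have hzI : ∀ i, q i * q i ≠ z → q i = 1 ∨ q i = z := by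
    intro i h1
    have h2 := (hw i).resolve_right h1
    obtain ⟨c, v, n, hg⟩ := h.exists_gq (hK i).1 (syl_inf hS (hK i))
    by_cases h3 : q i = 1
    · exact Or.inl h3
    · exact Or.inr ((hg.eq_z (hq i) h2 h3).trans (hzi i))
  -- `q i = x i ^ b ζ`
  have hd : ∀ i, ∃ ζ : G, (ζ = 1 ∨ ζ = z) ∧ ((q i * q i = z ∧ q i = x i ∧ ζ = 1) ∨ (q i * q i ≠ z ∧ q i = ζ)) := by
    intro i
    by_cases h1 : q i * q i = z
    · exact ⟨1, Or.inl rfl, Or.inl ⟨h1, (hxq i h1).symm, rfl⟩⟩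
    · exact ⟨q i, hzI i h1, Or.inr ⟨h1, rfl⟩⟩
  have hmulz : ∀ a b : G, (a = 1 ∨ a = z) → (b = 1 ∨ b = z) → (a * b = 1 ∨ a * b = z) := by
    rintro a b (rfl | rfl) (rfl | rfl)
    · left; rw [mul_one]
    · right; rw [one_mul]
    · right; rw [mul_one]
    · left; exact hzz
  have hcz : ∀ a : G, (a = 1 ∨ a = z) → ∀ i, Commute a (x i) := by
    rintro a (rfl | rfl) i
    · exact Commute.one_left _
    · exact (hxz i).symm
  -- two factors
  have two : ∀ k l : Fin 4, k ≠ l → ∀ ζ : G, (ζ = 1 ∨ ζ = z) → f = x k * x l * ζ →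
      ∃ K x, Xs Om (S : Subgroup G) K x ∧
        (f = zz (K 0) ∨ (∃ k l, k ≠ l ∧ f = x k * x l) ∨ f = Xs.pr x) := by
    intro k l hkl ζ hζ hfk
    refine ⟨K, Function.update x l (x l * ζ), ⟨hS, hinj, hK, fun i => ?_, fun i => ?_⟩, Or.inr (Or.inl ⟨k, l, hkl, ?_⟩)⟩
    · by_cases hi : i = l
      · subst hi
        rw [Function.update_self]
        refine mul_mem (hxm i) ?_
        rcases hζ with rfl | rfl
        · exact one_mem _
        · rw [← hzi i]; exact h.zz_mem_inf hS (hK i)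
      · rw [Function.update_of_ne hi]; exact hxm i
    · by_cases hi : i = l
      · subst hi
        rw [Function.update_self]
        refine GQ.orderOf_of_sq (z := z) ?_ hzz hz1
        have h1 : ζ * ζ = 1 := by
          rcases hζ with rfl | rfl
          · exact mul_one _
          · exact hzz
        have h2 := (hcz ζ hζ i).eq
        calc x i * ζ * (x i * ζ) = x i * (ζ * x i) * ζ := by group
          _ = (x i * x i) * (ζ * ζ) := by rw [h2]; group
          _ = z := by rw [hxx, h1, mul_one]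
      · rw [Function.update_of_ne hi]; exact hx4 i
    · rw [Function.update_self, Function.update_of_ne hkl, hfk, mul_assoc]
  -- four factors
  have h0 := hd 0
  have h1 := hd 1
  have h2 := hd 2
  have h3 := hd 3
  obtain ⟨ζ0, u0, h0⟩ := h0
  obtain ⟨ζ1, u1, h1⟩ := h1
  obtain ⟨ζ2, u2, h2⟩ := h2
  obtain ⟨ζ3, u3, h3⟩ := h3
  have m01 := hmulz _ _ u0 u1
  have m02 := hmulz _ _ u0 u2
  have m03 := hmulz _ _ u0 u3
  have m12 := hmulz _ _ u1 u2
  have m13 := hmulz _ _ u1 u3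
  have m23 := hmulz _ _ u2 u3
  have c0 : ∀ i, ζ0 * x i = x i * ζ0 := fun i => (hcz ζ0 u0 i).eq
  have c1 : ∀ i, ζ1 * x i = x i * ζ1 := fun i => (hcz ζ1 u1 i).eq
  have c2 : ∀ i, ζ2 * x i = x i * ζ2 := fun i => (hcz ζ2 u2 i).eq
  have done : ∀ i j k l : G, q 0 = i → q 1 = j → q 2 = k → q 3 = l → f = i * j * k * l := by
    rintro i j k l rfl rfl rfl rfl
    exact hfq
  have odd : ∀ {a b c d : G}, q 0 * q 0 = a → q 1 * q 1 = b → q 2 * q 2 = c → q 3 * q 3 = d →
      a * b * c * d = 1 := by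
    rintro a b c d rfl rfl rfl rfl
    exact hprod.symm
  have hr := fun i (h : q i * q i ≠ z) => (hw i).resolve_right h
  rcases h0 with ⟨s0, e0, -⟩ | ⟨s0, e0⟩ <;> rcases h1 with ⟨s1, e1, -⟩ | ⟨s1, e1⟩ <;>
    rcases h2 with ⟨s2, e2, -⟩ | ⟨s2, e2⟩ <;> rcases h3 with ⟨s3, e3, -⟩ | ⟨s3, e3⟩
  · exact ⟨K, x, hX, Or.inr (Or.inr (done _ _ _ _ e0 e1 e2 e3))⟩
  · exfalso
    have := odd s0 s1 s2 (hr _ s3)
    rw [hzz, one_mul, mul_one] at this
    exact hz1 this
  · exfalso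
    have := odd s0 s1 (hr _ s2) s3
    rw [hzz, one_mul, one_mul] at this
    exact hz1 this
  · refine two 0 1 (by decide) _ m23 ?_
    rw [done _ _ _ _ e0 e1 e2 e3]; group
  · exfalso
    have := odd s0 (hr _ s1) s2 s3
    rw [mul_one, hzz, one_mul] at this
    exact hz1 this
  · refine two 0 2 (by decide) _ m13 ?_
    rw [done _ _ _ _ e0 e1 e2 e3]
    calc x 0 * ζ1 * x 2 * ζ3 = x 0 * (ζ1 * x 2) * ζ3 := by group
      _ = x 0 * x 2 * (ζ1 * ζ3) := by rw [c1]; group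
  · refine two 0 3 (by decide) _ m12 ?_
    rw [done _ _ _ _ e0 e1 e2 e3]
    calc x 0 * ζ1 * ζ2 * x 3 = x 0 * ζ1 * (ζ2 * x 3) := by group
      _ = x 0 * (ζ1 * x 3) * ζ2 := by rw [c2]; group
      _ = x 0 * x 3 * (ζ1 * ζ2) := by rw [c1]; group
  · exfalso
    have := odd s0 (hr _ s1) (hr _ s2) (hr _ s3)
    rw [mul_one, mul_one, mul_one] at this
    exact hz1 this
  · exfalso
    have := odd (hr _ s0) s1 s2 s3
    rw [one_mul, hzz, one_mul] at this
    exact hz1 this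
  · refine two 1 2 (by decide) _ m03 ?_
    rw [done _ _ _ _ e0 e1 e2 e3]
    calc ζ0 * x 1 * x 2 * ζ3 = (ζ0 * x 1) * x 2 * ζ3 := by group
      _ = x 1 * (ζ0 * x 2) * ζ3 := by rw [c0]; group
      _ = x 1 * x 2 * (ζ0 * ζ3) := by rw [c0]; group
  · refine two 1 3 (by decide) _ m02 ?_
    rw [done _ _ _ _ e0 e1 e2 e3]
    calc ζ0 * x 1 * ζ2 * x 3 = (ζ0 * x 1) * (ζ2 * x 3) := by group
      _ = x 1 * (ζ0 * x 3) * ζ2 := by rw [c0, c2]; group
      _ = x 1 * x 3 * (ζ0 * ζ2) := by rw [c0]; group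
  · exfalso
    have := odd (hr _ s0) s1 (hr _ s2) (hr _ s3)
    rw [one_mul, mul_one, mul_one] at this
    exact hz1 this
  · refine two 2 3 (by decide) _ m01 ?_
    rw [done _ _ _ _ e0 e1 e2 e3]
    calc ζ0 * ζ1 * x 2 * x 3 = ζ0 * (ζ1 * x 2) * x 3 := by group
      _ = (ζ0 * x 2) * (ζ1 * x 3) := by rw [c1]; group
      _ = x 2 * (ζ0 * x 3) * ζ1 := by rw [c0, c1]; group
      _ = x 2 * x 3 * (ζ0 * ζ1) := by rw [c0]; group
  · exfalso
    have := odd (hr _ s0) (hr _ s1) s2 (hr _ s3)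
    rw [one_mul, one_mul, mul_one] at this
    exact hz1 this
  · exfalso
    have := odd (hr _ s0) (hr _ s1) (hr _ s2) s3
    rw [one_mul, one_mul, one_mul] at this
    exact hz1 this
  · refine ⟨K, x, hX, Or.inl ?_⟩
    have h5 := done _ _ _ _ e0 e1 e2 e3
    have h6 := hmulz _ _ m01 m23
    have h7 : f = ζ0 * ζ1 * (ζ2 * ζ3) := by rw [h5]; group
    rw [← h7] at h6
    rw [← hz]
    exact h6.resolve_left hf1

end

/-! ### `Big Om M` -/

section

variable {G : Type*} [Group G] [Finite G] {Om : Set (Subgroup G)}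

/-- frames with elements of order four -/
theorem exists_xs (e : EqFour Om) (S : Sylow 2 G) : ∃ K x, Xs Om (S : Subgroup G) K x := by
  obtain ⟨K, hinj, hK, -⟩ := e.exists_enum S
  have h1 : ∀ i, ∃ y ∈ K i ⊓ (S : Subgroup G), orderOf y = 4 := fun i => by
    obtain ⟨c, v, n, hg⟩ := e.hyp.exists_gq (hK i).1 (syl_inf S.isPGroup' (hK i))
    exact ⟨v, hg.v_mem, hg.orderOf_v⟩
  choose x hx hx4 using h1
  exact ⟨K, x, S.isPGroup', hinj, hK, hx, hx4⟩

/-- every member is in a frame -/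
theorem exists_xs_of_mem (e : EqFour Om) {J : Subgroup G} (hJ : J ∈ Om) : ∃ (S : Sylow 2 G) (K : Fin 4 → Subgroup G)
    (x : Fin 4 → G), Xs Om (S : Subgroup G) K x ∧ ∃ i, J = K i := by
  obtain ⟨S, -, -, hS⟩ := e.exists_sylow_ge hJ (R := ⊥) IsPGroup.of_bot bot_le
  obtain ⟨K, x, hX⟩ := exists_xs e S
  exact ⟨S, K, x, hX, all e hX hJ (e.eqz S _ hS _ (hX.mem 0))⟩

theorem cj_centralizer' (g a : G) : cj g (centralizer {a}) = centralizer {g * a * g⁻¹} :=
  (Exact.cj_centralizer_singleton g a).symm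

theorem big_of (e : EqFour Om) {M : Subgroup G} (hS : ∃ S : Sylow 2 G, (S : Subgroup G) ≤ M)
    (h : ∀ S : Sylow 2 G, (S : Subgroup G) ≤ M → ∀ K x, Xs Om (S : Subgroup G) K x →
      centralizer {zz (K 0)} ≤ M ∧ ∀ k l, k ≠ l → centralizer {x k * x l} ≤ M) : Big Om M where
  syl := hS
  good S hSM f hf hff hf1 := by
    obtain ⟨K, x, hX, h1⟩ := cases_DD e S hf hff hf1
    obtain ⟨h2, h3⟩ := h S hSM K x hX
    rcases h1 with rfl | ⟨k, l, hkl, rfl⟩ | rfl
    · exact h2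
    · exact h3 k l hkl
    · obtain ⟨n, -, hn, -, h4, -⟩ := exists_swap e S hX rfl (i := 0) (j := 1) (by decide)
      have hnM : n ∈ M := h3 0 1 (by decide) (mem_centralizer_singleton_iff.2 hn)
      rw [← h4, ← cj_centralizer']
      have h5 := cj_mono n h2
      rwa [mem_normalizer_iff_cj.1 (le_normalizer hnM)] at h5

/-- commuting modulo the core -/
theorem zz_eq_of_bar (e : EqZ Om) {H J K : Subgroup G} (C : CorG Om H) (hJ : J ∈ Om) (hK : K ∈ Om) (hJH : J ≤ H)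
    (hKH : K ≤ H) (hc : bar H J ≤ centralizer (bar H K : Set (HQ H))) : zz J = zz K := by
  obtain ⟨Q, hQ⟩ := Hyp.exists_syl J
  obtain ⟨Q', hQ'⟩ := Hyp.exists_syl K
  have hcomm : ∀ a ∈ J, ∀ b ∈ K, ⁅a, b⁆ ∈ OO H := by
    intro a ha b hb
    have h1 : qm H ⁅(⟨a, hJH ha⟩ : H), ⟨b, hKH hb⟩⁆ = 1 := by
      rw [map_commutatorElement, commutatorElement_eq_one_iff_mul_comm]
      exact (mem_centralizer_iff.1 (hc (mem_bar (x := ⟨a, hJH ha⟩) ha)) _
        (mem_bar (x := ⟨b, hKH hb⟩) hb)).symm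
    exact qm_eq_one_iff.1 h1
  have key : ∀ a ∈ J, ∀ y ∈ Q', a * y = y * a := by
    intro a ha y hy
    obtain ⟨n, hn⟩ := hQ'.2.1 ⟨y, hy⟩
    refine CorOf.comm_of_odd (odd_OO H) (hcomm a ha y (hQ'.1 hy)) ?_ (a := n) (by simpa using congrArg Subtype.val hn)
    intro t ht
    exact (mem_centralizer_iff.1 (C.cor K hK hKH Q' hQ'.1 hQ'.2.1 hy) t ht).symm
  have h2 : IsPGroup 2 (Q ⊔ Q' : Subgroup G) := by
    refine IsPGroup.to_sup_of_normal_right' hQ.2.1 hQ'.2.1 ?_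
    intro a ha
    refine centralizer_le_normalizer _ ?_
    rw [mem_centralizer_iff]
    exact fun y hy => (key a (hQ.1 ha) y hy).symm
  exact e.eq_zz h2 (mem_OmS_of_le hJ hQ le_sup_left) (mem_OmS_of_le hK hQ' le_sup_right)

end

/-! ### Constant functions -/

/-- the pieces of `C(x k x l)` modulo the core: chart kind -/
def PcStmt {G : Type u} [Group G] (Om : Set (Subgroup G)) : Prop :=
  ∀ (S : Sylow 2 G) (K : Fin 4 → Subgroup G) (x : Fin 4 → G), Xs Om (S : Subgroup G) K x → ∀ i j k l : Fin 4,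
    i ≠ j → i ≠ k → i ≠ l → j ≠ k → j ≠ l → k ≠ l →
    PT Om (centralizer {x k * x l}) (K i) = PT Om (centralizer {x k * x l}) (K j) ∧
      ∃ τ, ExactChart.TyPcE (fb Om (centralizer {x k * x l})) τ (PT Om (centralizer {x k * x l}) (K i))

theorem fin4_or {i j k l m : Fin 4} (hij : i ≠ j) (hik : i ≠ k) (hil : i ≠ l) (hjk : j ≠ k) (hjl : j ≠ l)
    (hkl : k ≠ l) (hmk : m ≠ k) (hml : m ≠ l) : m = i ∨ m = j := by
  omega

theorem exists_four (i j : Fin 4) (hij : i ≠ j) : ∃ k l : Fin 4, i ≠ k ∧ i ≠ l ∧ j ≠ k ∧ j ≠ l ∧ k ≠ l := by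
  revert i j; decide

theorem exists_four' (k l : Fin 4) (hkl : k ≠ l) : ∃ i j : Fin 4, i ≠ j ∧ i ≠ k ∧ i ≠ l ∧ j ≠ k ∧ j ≠ l := by
  revert k l; decide

section

variable {G : Type u} [Group G] [Finite G] {Om : Set (Subgroup G)} {S : Sylow 2 G} {K : Fin 4 → Subgroup G}
  {x : Fin 4 → G} {b : Subgroup G → Subgroup G}

/-- the condition on `b` -/
def Lnk (Om : Set (Subgroup G)) (b : Subgroup G → Subgroup G) : Prop :=
  ∀ (S : Sylow 2 G) (K : Fin 4 → Subgroup G) (x : Fin 4 → G), Xs Om (S : Subgroup G) K x → ∀ i k l : Fin 4,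
    i ≠ k → i ≠ l → k ≠ l →
    DL Om (centralizer {x k * x l}) (PT Om (centralizer {x k * x l}) (K i)) ≤ centralizer (b (K i) : Set G)

section

variable (ms : MinS Om) (e : EqFour Om) (c : EqCor Om) (pc : PcStmt Om)
  (equi : ∀ J ∈ Om, ∀ g, b (cj g J) = cj g (b J)) (lnk : Lnk Om b)

include ms e c pc equi lnk

/-- `b` is constant on the frame -/
theorem const (hX : Xs Om (S : Subgroup G) K x) (i j : Fin 4) : b (K i) = b (K j) := by
  by_cases hij : i = j
  · rw [hij]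
  obtain ⟨k, l, hik, hil, hjk, hjl, hkl⟩ := exists_four i j hij
  have C := corG_t ms e c hX hkl
  obtain ⟨h1, τ, h2⟩ := pc S K x hX i j k l hij hik hil hjk hjl hkl
  obtain ⟨p, ch, -⟩ := h2.2.2.2
  have h3 := CorOf.lnk_of_chart C (hX.mem i).1 (hX.mem j).1 (le_ct c e hX hik hil) (le_ct c e hX hjk hjl) ch
    h2.nmem h1 (lnk S K x hX i k l hik hil hkl)
  exact (h3.2.eq (equi _ (hX.mem i).1)).symm

/-- `C(z)` normalises the value -/
theorem cz_le (hX : Xs Om (S : Subgroup G) K x) : centralizer {zz (K 0)} ≤ normalizer (b (K 0) : Set G) := by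
  intro g hg
  rw [mem_normalizer_iff_cj, ← equi _ (hX.mem 0).1]
  have h1 : zz (cj g (K 0)) = zz (K 0) := by
    rw [e.hyp.zz_cj (hX.mem 0).1, mem_centralizer_singleton_iff.1 hg, mul_inv_cancel_right]
  obtain ⟨i, hi⟩ := all e hX (e.hyp.conj _ (hX.mem 0).1 g) h1
  rw [hi]
  exact const ms e c pc equi lnk hX i 0

omit equi lnk in
/-- conjugates of `K i` under `C(x k x l)` lie in the piece -/
theorem bar_cj_le (hX : Xs Om (S : Subgroup G) K x) {i j k l : Fin 4} (hij : i ≠ j) (hik : i ≠ k) (hil : i ≠ l)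
    (hjk : j ≠ k) (hjl : j ≠ l) (hkl : k ≠ l) {J : Subgroup G} (hJ : J ∈ Om) (hJH : J ≤ centralizer {x k * x l}) :
    bar (centralizer {x k * x l}) J ≤ PT Om (centralizer {x k * x l}) (K i) := by
  have C := corG_t ms e c hX hkl
  obtain ⟨h1, τ, h2⟩ := pc S K x hX i j k l hij hik hil hjk hjl hkl
  have hD := qp_PT C (hX.mem i).1 (le_ct c e hX hik hil) h2.nmem
  rcases hD.cases _ (bar_mem hJ hJH) with h3 | h3
  · exact h3
  · exfalso
    have h4 : bar (centralizer {x k * x l}) J ≤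
        centralizer (bar (centralizer {x k * x l}) (K i) : Set (HQ (centralizer {x k * x l}))) :=
      h3.trans (centralizer_le bar_le_PT)
    have h5 := zz_eq_of_bar e.toEqZ C hJ (hX.mem i).1 hJH (le_ct c e hX hik hil) h4
    obtain ⟨m, hmk, hml, rfl⟩ := mem_of_le e hX hkl hJ (h5.trans (zz_eq e hX i)) hJH
    have hf := fb_hyp e.hyp (centralizer {x k * x l})
    apply hf.not_le_centralizer_self (bar_mem hJ hJH)
    refine h3.trans (centralizer_le ?_)
    have hm := fin4_or hij hik hil hjk hjl hkl hmk hml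
    rcases hm with rfl | rfl
    · exact bar_le_PT
    · rw [h1]; exact bar_le_PT

/-- `C(x k x l)` normalises the value -/
theorem ct_le (hX : Xs Om (S : Subgroup G) K x) {k l : Fin 4} (hkl : k ≠ l) :
    centralizer {x k * x l} ≤ normalizer (b (K 0) : Set G) := by
  obtain ⟨i, j, hij, hik, hil, hjk, hjl⟩ := exists_four' k l hkl
  rw [const ms e c pc equi lnk hX 0 i]
  intro g hg
  have C := corG_t ms e c hX hkl
  obtain ⟨h1, τ, h2⟩ := pc S K x hX i j k l hij hik hil hjk hjl hkl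
  obtain ⟨p, ch, -⟩ := h2.2.2.2
  have hKi := (hX.mem i).1
  have hKH := le_ct c e hX hik hil
  have hJ : cj g (K i) ∈ Om := e.hyp.conj _ hKi g
  have hJH : cj g (K i) ≤ centralizer {x k * x l} := by
    have h5 := cj_mono g hKH
    rwa [mem_normalizer_iff_cj.1 (le_normalizer hg)] at h5
  have hle := bar_cj_le ms e c pc hX hij hik hil hjk hjl hkl hJ hJH
  have hD := qp_PT C hKi hKH h2.nmem
  obtain ⟨d, hd, h3⟩ := CorOf.chart_exists_cj ch (bar_mem hJ hJH) (bar_mem hKi hKH) hle bar_le_PT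
  obtain ⟨u, hu, h4⟩ := exists_conj_DL C hD hJ hKi hJH hKH hle hd h3
  have h5 : b (K i) = cj u (b (cj g (K i))) := by rw [← equi _ hJ, h4]
  have h6 : cj u (b (K i)) = b (K i) := ConstLemma.cj_eq_of_comm fun y hy =>
    ((mem_centralizer_iff.1 (lnk S K x hX i k l hik hil hkl hu)) y hy).symm
  rw [mem_normalizer_iff_cj, ← equi _ hKi]
  exact cj_inj.1 (h5.symm.trans h6.symm)

/-- **`Big` for the normaliser of the value** -/
theorem big_normalizer (hX : Xs Om (S : Subgroup G) K x) : Big Om (normalizer (b (K 0) : Set G)) := by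
  have hSM : ∀ (T : Sylow 2 G) (L : Fin 4 → Subgroup G) (y : Fin 4 → G), Xs Om (T : Subgroup G) L y →
      (T : Subgroup G) ≤ normalizer (b (L 0) : Set G) := fun T L y hY =>
    (le_normalizer.trans (e.normalizer_le T.isPGroup' (hY.mem 0))).trans (cz_le ms e c pc equi lnk hY)
  refine big_of e ⟨S, hSM S K x hX⟩ fun T hT L y hY => ?_
  -- the value is the same
  have hval : b (L 0) = b (K 0) := by
    obtain ⟨m, hm, hmS⟩ : ∃ m ∈ normalizer (b (K 0) : Set G), cj m (S : Subgroup G) = T := by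
      have s1 : Syl (S : Subgroup G) (normalizer (b (K 0) : Set G)) :=
        ⟨hSM S K x hX, S.isPGroup', fun h2 => S.not_dvd_index (h2.trans (relIndex_dvd_index_of_le (hSM S K x hX)))⟩
      have s2 : Syl (T : Subgroup G) (normalizer (b (K 0) : Set G)) :=
        ⟨hT, T.isPGroup', fun h2 => T.not_dvd_index (h2.trans (relIndex_dvd_index_of_le hT))⟩
      exact s1.exists_conj s2
    have h1 : cj m (K 0) ∈ OmS Om (T : Subgroup G) := by rw [← hmS]; exact cj_mem_OmS e.hyp.conj m (hX.mem 0)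
    obtain ⟨i, hi⟩ := all e hY h1.1 (e.eqz T _ h1 _ (hY.mem 0))
    rw [const ms e c pc equi lnk hY 0 i, ← hi, equi _ (hX.mem 0).1]
    exact mem_normalizer_iff_cj.1 hm
  rw [← hval]
  exact ⟨cz_le ms e c pc equi lnk hY, fun k l hkl => ct_le ms e c pc equi lnk hY hkl⟩

/-- **constant functions are trivial** -/
theorem eq_bot (close : ∀ M : Subgroup G, Big Om M → M = ⊤) (hne : ∀ J ∈ Om, b J ≠ ⊤) :
    ∀ J ∈ Om, b J = ⊥ := by
  intro J hJ
  haveI := ms.simple
  obtain ⟨S, K, x, hX, i, rfl⟩ := exists_xs_of_mem e hJ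
  rw [const ms e c pc equi lnk hX i 0]
  have h1 := close _ (big_normalizer ms e c pc equi lnk hX)
  rw [normalizer_eq_top_iff] at h1
  exact h1.eq_bot_or_eq_top.resolve_right (hne _ (hX.mem 0).1)

end

end

end Cfsg.Agent.Cit.TypeD4Const
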