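import Cfsg.Agent.Cit.TypeD4Ex
import Cfsg.Agent.Cit.TypeD4Chart

/-!
# All involutions `z_K`, `K ∈ Om(S)`, equal: `G` has a chart of type `D 4`

* `ne_C_one` : a piece with two commuting members is not of type `C 1`;
* `exists_piece` : the piece `L` of `K i`, `K j` in `C(x k x l)`;
* `exists_chart` : `G` has a chart of type `D 4`.
-/

set_option autoImplicit false
set_option linter.dupNamespace false
set_option linter.style.haveILetI false
set_option linter.unusedSectionVars false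
set_option linter.unusedVariables false

namespace Cfsg.Agent.Cit.TypeD4End

open Subgroup Cfsg Cfsg.Agent.Cit.EqClose Cfsg.Agent.Cit.EqHad Cfsg.Agent.Cit.UseT Cfsg.Agent.Cit.PieceG
  Cfsg.Agent.Cit.PieceLoc Cfsg.Agent.Cit.TypeD4Cor Cfsg.Agent.Cit.TypeD4Const Cfsg.Agent.Cit.FrameOf
  Cfsg.Agent.Cit.ParabSL2 Cfsg.Agent.Cit.TypeD4Ex Cfsg.Agent.Cit.TypeD4Prov
open Cfsg.Agent.Nodes.Chart Cfsg.Agent.Nodes.ChartLoc Cfsg.Agent.Tits.Roots Cfsg.Agent.Tits.Core
  Cfsg.Agent.Tits.RootComb Cfsg.Agent.Nodes.ClsNorm Cfsg.Agent.Nodes.RGDLib Cfsg.Agent.Nodes.BNOf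
open scoped commutatorElement

universe u

/-! ### Rank one, rank two -/

section

variable {G : Type*} [Group G] {Om : Set (Subgroup G)}

theorem not_isPGroup_cj {p : ℕ} {P Q : Subgroup G} (h : ¬ IsPGroup p ↥(P ⊔ Q)) (g : G) :
    ¬ IsPGroup p ↥(cj g P ⊔ cj g Q) := by
  intro h1
  apply h
  have h2 := isPGroup_cj (g := g⁻¹) h1
  rwa [cj_sup, cj_inv_cj, cj_inv_cj] at h2

/-- a piece with two commuting members is not of type `C 1` -/
theorem ne_C_one {p : ℕ} {D : Subgroup G} (c : Chart Om p D) {τ : Nodes.Chart.Ty} (hτ : c.IsTy τ)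
    {J J' : Subgroup G} (hJ : J ∈ Om) (hJ' : J' ∈ Om) (hJD : J ≤ D) (hJD' : J' ≤ D)
    (hc : ∀ a ∈ J, ∀ b ∈ J', a * b = b * a) : τ ≠ .C 1 := by
  rintro rfl
  obtain ⟨e, -⟩ := hτ
  have hsub : Subsingleton c.I := by
    have : Subsingleton (Fin (Nodes.Chart.Ty.C 1).rk) := inferInstanceAs (Subsingleton (Fin 1))
    exact e.injective.subsingleton
  have : Fact p.Prime := ⟨c.prime⟩
  obtain ⟨r, hr, g, hg, h1⟩ := c.om_conj _ hJ hJD
  obtain ⟨r', hr', g', hg', h2⟩ := c.om_conj _ hJ' hJD'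
  obtain ⟨g₀, -, s, hs, -, -, h3⟩ := Nodes.Frame.frame 2 c.cls ![cj g (c.Z r), cj g' (c.Z r')]
    ![cj g (c.Z (-r)), cj g' (c.Z (-r'))]
    (by
      intro i
      fin_cases i
      · exact ⟨r, hr, g, by rw [GG_eq]; exact hg, rfl⟩
      · exact ⟨r', hr', g', by rw [GG_eq]; exact hg', rfl⟩)
    (by
      intro i
      fin_cases i
      · exact ⟨-r, neg_mem c.cls hr, g, by rw [GG_eq]; exact hg, rfl⟩
      · exact ⟨-r', neg_mem c.cls hr', g', by rw [GG_eq]; exact hg', rfl⟩)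
    (by
      intro i
      fin_cases i
      · exact not_isPGroup_cj (c.cls.notp r hr) g
      · exact not_isPGroup_cj (c.cls.notp r' hr') g')
    (by
      have h1' : J = cj g (c.Z r) ⊔ cj g (c.Z (-r)) := h1.trans (cj_sup _ _ _)
      have h2' : J' = cj g' (c.Z r') ⊔ cj g' (c.Z (-r')) := h2.trans (cj_sup _ _ _)
      have key : ∀ i j : Fin 2, i ≠ j → ((i = 0 ∧ j = 1) ∨ (i = 1 ∧ j = 0)) := by decide
      intro i j hij a ha b hb
      rcases key i j hij with ⟨rfl, rfl⟩ | ⟨rfl, rfl⟩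
      · exact hc a (by rw [h1']; exact ha) b (by rw [h2']; exact hb)
      · exact (hc b (by rw [h1']; exact hb) a (by rw [h2']; exact ha)).symm)
  have h4 := h3 0 1 (by decide)
  obtain ⟨i⟩ := c.ne
  have h5 : (s 0 i) • s 1 = (s 1 i) • s 0 := by
    funext k
    rw [Subsingleton.elim k i]
    simp only [Pi.smul_apply, smul_eq_mul]
    ring
  have h6 : s 1 i ≠ 0 := by
    intro h
    apply (c.cls.root _ (hs 1)).ne_zero
    funext k
    rw [Subsingleton.elim k i, h]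
    rfl
  have h7 := congrArg (fun x => form c.cs c.h (s 0) x) h5
  simp only [form_smul_right] at h7
  rw [h4, mul_zero] at h7
  have h8 := form_pos c.cs c.h (c.cls.root _ (hs 0)).ne_zero
  rcases mul_eq_zero.1 h7.symm with h9 | h9
  · exact h6 h9
  · omega

end

/-- three orthogonal vectors in rank two -/
theorem eq_zero_of_orth {I W : Type*} [Fintype I] [DecidableEq I] [Group W] [Fintype W] {M : CoxeterMatrix I}
    (cs : CoxeterSystem M W) {A : I → I → ℤ} (h : Cfsg.Agent.ChevalleyStructure.CoxeterGeom.IsCartan M A)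
    (e : I ≃ Fin 2) {a b y : I → ℤ} (ha : a ≠ 0) (hb : b ≠ 0) (hab : form cs h a b = 0)
    (hay : form cs h a y = 0) (hby : form cs h b y = 0) : y = 0 := by
  by_contra hy
  obtain ⟨u, hu⟩ : ∃ u, u = e.symm 0 := ⟨_, rfl⟩
  obtain ⟨v, hv⟩ : ∃ v, v = e.symm 1 := ⟨_, rfl⟩
  have hcase : ∀ k : I, k = u ∨ k = v := by
    intro k
    have h1 : ∀ m : Fin 2, m = 0 ∨ m = 1 := by decide
    rcases h1 (e k) with h2 | h2
    · left; rw [hu, ← h2, Equiv.symm_apply_apply]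
    · right; rw [hv, ← h2, Equiv.symm_apply_apply]
  have e1 : (b u * y v - b v * y u) • a = (a u * y v - a v * y u) • b + (b u * a v - b v * a u) • y := by
    funext k
    simp only [Pi.smul_apply, smul_eq_mul, Pi.add_apply]
    rcases hcase k with rfl | rfl <;> ring
  have e2 := congrArg (fun x => form cs h a x) e1
  simp only [form_smul_right, form_add_right] at e2
  rw [hab, hay, mul_zero, mul_zero, add_zero] at e2
  have e3 := form_pos cs h ha
  have e4 : b u * y v - b v * y u = 0 := by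
    rcases mul_eq_zero.1 e2 with h1 | h1
    · exact h1
    · omega
  have e5 : ∀ k, (b k) • y = (y k) • b := by
    intro k
    funext m
    simp only [Pi.smul_apply, smul_eq_mul]
    rcases hcase k with rfl | rfl <;> rcases hcase m with rfl | rfl <;> linarith
  apply hb
  funext k
  have e6 := congrArg (fun x => form cs h x y) (e5 k)
  simp only [form_smul_left] at e6
  rw [hby, mul_zero] at e6
  have e7 := form_pos cs h hy
  rcases mul_eq_zero.1 e6 with h1 | h1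
  · exact h1
  · omega

/-! ### The pieces -/

section

variable {G : Type*} [Group G] [Finite G] {Om : Set (Subgroup G)}

/-- a member commuting with `K i` is in the frame -/
theorem exists_of_comm (e : EqFour Om) {S : Sylow 2 G} {K : Fin 4 → Subgroup G} {x : Fin 4 → G}
    (hX : Xs Om (S : Subgroup G) K x) {i : Fin 4} {J : Subgroup G} (hJ : J ∈ Om)
    (h : ∀ a ∈ J, ∀ b ∈ K i, a * b = b * a) : ∃ j, J = K j := by
  obtain ⟨Q, hQ⟩ := Hyp.exists_syl J
  obtain ⟨T, hQT, -, hT⟩ := e.exists_sylow_ge (hX.mem i).1 hQ.2.1 (fun a ha => by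
    rw [mem_centralizer_singleton_iff]
    exact h a (hQ.1 ha) _ (e.hyp.zz_mem (hX.mem i).1))
  refine all e hX hJ ?_
  rw [e.eqz T _ (mem_OmS_of_le hJ hQ hQT) _ hT, zz_eq e hX i]

/-- the types of the pieces of `C(y y')` -/
def TypStmt (Om : Set (Subgroup G)) (p : ℕ) (F : Type*) [Field F] [Fintype F] : Prop :=
  ∀ (K : Fin 4 → Subgroup G) (X : Fin 4 → SignType → Subgroup G), Dat Om F K X →
    (∀ i (s : SignType), s ≠ 0 → Good p (X i s) (zz (K i))) → Function.Injective K →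
    (∀ i j, zz (K i) = zz (K j)) → (∀ J ∈ Om, zz J = zz (K 0) → ∃ i, J = K i) →
    (∀ i, ∀ J ∈ Om, (∀ a ∈ J, ∀ b ∈ K i, a * b = b * a) → ∃ j, J = K j) →
    ∀ i j k l : Fin 4, i ≠ j → i ≠ k → i ≠ l → j ≠ k → j ≠ l → k ≠ l → ∀ y ∈ K k, ∀ y' ∈ K l,
    y * y = zz (K k) → y' * y' = zz (K l) → ∀ L : Subgroup G, FrameOf.Piece Om (y * y') L → K i ≤ L → K j ≤ L →
    ∀ (ch : Chart Om p L) (τ : Nodes.Chart.Ty), ch.IsTy τ → KindOk τ →
    ((∀ r ∈ ch.R, ch.Z r = ch.X r) ∨ ∃ n, τ = .C n) →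
    (τ = .A 3 ∨ τ = .C 2) ∧ ∀ r ∈ ch.R, Nat.card (VV ch.cs ch.h ch.X r) = Nat.card F ^ 5

end

/-! ### `L ≤ G₀` -/

section

variable {G : Type*} [Group G] [Finite G] {Om : Set (Subgroup G)} {F : Type*} [Field F] [Fintype F]
  {K : Fin 4 → Subgroup G} {X : Fin 4 → SignType → Subgroup G} {p : ℕ} [Fact p.Prime] [CharP F p]

theorem comm_sup4 {A B C D : Subgroup G} (h1 : ∀ a ∈ A, ∀ c ∈ C, a * c = c * a) (h2 : ∀ a ∈ A, ∀ c ∈ D, a * c = c * a)
    (h3 : ∀ a ∈ B, ∀ c ∈ C, a * c = c * a) (h4 : ∀ a ∈ B, ∀ c ∈ D, a * c = c * a) :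
    ∀ a ∈ A ⊔ B, ∀ c ∈ C ⊔ D, a * c = c * a := by
  have key : ∀ {P Q : Subgroup G}, (∀ a ∈ P, ∀ c ∈ Q, a * c = c * a) ↔ P ≤ centralizer (Q : Set G) := by
    intro P Q
    exact ⟨fun h a ha => mem_centralizer_iff.2 fun c hc => (h a ha c hc).symm,
      fun h a ha c hc => (mem_centralizer_iff.1 (h ha) c hc).symm⟩
  rw [key] at h1 h2 h3 h4 ⊢
  refine sup_le ?_ ?_
  · rw [le_centralizer_iff] at h1 h2 ⊢
    exact sup_le h1 h2
  · rw [le_centralizer_iff] at h3 h4 ⊢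
    exact sup_le h3 h4

/-- the piece is contained in `G₀` -/
theorem piece_le (H : Prov Om F p K X) {G₀ : Subgroup G} (hQ : ∀ i (s : SignType), s ≠ 0 → QF K X i s ≤ G₀)
    {i j : Fin 4} (hij : i ≠ j) {L : Subgroup G} (ch : Chart Om p L)
    (hcard : ∀ r ∈ ch.R, Nat.card (VV ch.cs ch.h ch.X r) = Nat.card F ^ 5) (hi : K i ≤ L) (hj : K j ≤ L)
    {τ : Nodes.Chart.Ty} (hch : ch.IsTy τ) (hτ : τ = .A 3 ∨ τ = .C 2)
    (hno : ∀ J ∈ Om, J ≤ L → (∀ a ∈ J, ∀ b ∈ K i, a * b = b * a) → (∀ a ∈ J, ∀ b ∈ K j, a * b = b * a) → False) :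
    L ≤ G₀ := by
  obtain ⟨c, gr, hA, hch'⟩ : ∃ (c : Chart Om p L) (gr : Fin 4 → c.I → ℤ), Adapted K X c gr ∧ c.IsTy τ := by
    obtain ⟨y₀, hy₀, gr, hA⟩ := exists_adapted ch (z_ne H.dat ch hcard hi) H.dat
    exact ⟨conjChart ch hy₀ H.dat.hyp.conj, gr, hA, hch⟩
  have hroot := fun {m : Fin 4} (hm : K m ≤ L) => c.cls.root _ (hA.mem m hm)
  -- the root groups not orthogonal to `gr m`
  have key : ∀ m, K m ≤ L → ∀ y, IsRoot c.cs c.h y → form c.cs c.h y (gr m) ≠ 0 → c.X y ≤ G₀ := by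
    intro m hm y hy h0
    have h1 : ∀ s : SignType, s ≠ 0 → ∀ r ∈ c.R, c.Z r = X m s → c.z r = zz (K m) → 0 < form c.cs c.h y r →
        c.X y ≤ G₀ := by
      intro s hs r hr hZ hz hpos
      have h2 : c.X y ≤ VV c.cs c.h c.X r := RGD.le_Sup (⟨hy, hpos⟩ : y ∈ {y | IsRoot c.cs c.h y ∧ 0 < form c.cs c.h y r})
      rw [← H.inf_L_eq hs c hr hZ hz] at h2
      exact h2.trans (inf_le_left.trans (hQ m s hs))
    have hm1 : (-1 : SignType) ≠ 0 := by decide
    rcases lt_or_gt_of_ne h0 with h2 | h2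
    · refine h1 (-1) hm1 (-gr m) (neg_mem c.cls (hA.mem m hm)) (hA.neg m hm) ?_ ?_
      · rw [c.cls.z_neg _ (hA.mem m hm), hA.zz m hm]
      · rw [form_neg_right]; omega
    · exact h1 1 one_ne_zero (gr m) (hA.mem m hm) (hA.pos m hm) (hA.zz m hm) h2
  have horth := hA.orth i hi j hj hij
  rw [← c.gen]
  refine RGD.Sup_le fun y hy => ?_
  by_cases h1 : form c.cs c.h y (gr i) = 0
  swap
  · exact key i hi y hy h1
  by_cases h2 : form c.cs c.h y (gr j) = 0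
  swap
  · exact key j hj y hy h2
  exfalso
  rcases hτ with rfl | rfl
  · -- type `A 3`
    have hyR : y ∈ c.R := by
      obtain ⟨f, -, h3⟩ := hch'
      obtain ⟨w, k, rfl⟩ := hy
      exact c.cls.act _ ((h3 k).2 trivial) w
    have hL : c.Z y ⊔ c.Z (-y) ≤ L := sup_le ((c.cls.le y hyR).trans (FrameOf.X_le c hy))
      ((c.cls.le _ (neg_mem c.cls hyR)).trans (FrameOf.X_le c hy.neg))
    have hcomm : ∀ m, K m ≤ L → form c.cs c.h y (gr m) = 0 → ∀ a ∈ c.Z y ⊔ c.Z (-y), ∀ b ∈ K m, a * b = b * a := by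
      intro m hm h0
      rw [H.dat.K_eq m, ← hA.pos m hm, ← hA.neg m hm]
      have hyn := neg_mem c.cls hyR
      have hgm := hA.mem m hm
      have hgn := neg_mem c.cls hgm
      refine comm_sup4 ?_ ?_ ?_ ?_
      · exact fun a ha b hb => c.cls.cent _ hgm _ hy h0.ge a (c.cls.le _ hyR ha) b hb
      · exact fun a ha b hb => c.cls.cent _ hgn _ hy (by rw [form_neg_right, h0, neg_zero]) a (c.cls.le _ hyR ha) b hb
      · exact fun a ha b hb => c.cls.cent _ hgm _ hy.neg (by rw [form_neg_left, h0, neg_zero]) a (c.cls.le _ hyn ha) b hb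
      · exact fun a ha b hb => c.cls.cent _ hgn _ hy.neg (by rw [form_neg_left, form_neg_right, h0, neg_zero, neg_zero])
          a (c.cls.le _ hyn ha) b hb
    exact hno _ (c.om y hyR) hL (hcomm i hi h1) (hcomm j hj h2)
  · -- type `C 2`
    obtain ⟨f, -⟩ := hch'
    refine hy.ne_zero (eq_zero_of_orth c.cs c.h f (hroot hi).ne_zero (hroot hj).ne_zero horth ?_ ?_)
    · rw [form_comm]; exact h1
    · rw [form_comm]; exact h2

end

/-! ### The pieces of `C(x k x l)` -/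

section

variable {G : Type u} [Group G] [Finite G] {Om : Set (Subgroup G)} {p : ℕ} {F : Type*} [Field F] [Fintype F]

variable (ms : MinS Om) (e : EqFour Om) (c : EqCor Om) (pc : PcStmt Om)
  (close : ∀ M : Subgroup G, Big Om M → M = ⊤) (ex : ExOut.EX Om p F)

include ms e c pc close ex

/-- the piece of `C(x k x l)` -/
theorem exists_piece {S : Sylow 2 G} {K : Fin 4 → Subgroup G} {x : Fin 4 → G} (hX : Xs Om (S : Subgroup G) K x)
    {i j k l : Fin 4} (hij : i ≠ j) (hik : i ≠ k) (hil : i ≠ l) (hjk : j ≠ k) (hjl : j ≠ l) (hkl : k ≠ l) :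
    ∃ L : Subgroup G, FrameOf.Piece Om (x k * x l) L ∧ (∀ J ∈ Om, J ≤ centralizer {x k * x l} → J ≤ L) ∧
      ∃ (ch : Chart Om p L) (τ : Nodes.Chart.Ty), ch.IsTy τ ∧ KindOk τ ∧
        ((∀ r ∈ ch.R, ch.Z r = ch.X r) ∨ ∃ n, τ = .C n) := by
  obtain ⟨h1, τ, h2⟩ := pc S K x hX i j k l hij hik hil hjk hjl hkl
  have C := corG_t ms e c hX hkl
  have hKi := le_ct c e hX hik hil
  have hKj := le_ct c e hX hjk hjl
  have hne : τ ≠ .C 1 := by
    obtain ⟨-, -, -, p', ch, hch, -⟩ := h2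
    refine ne_C_one ch hch (bar_mem (hX.mem i).1 hKi) (bar_mem (hX.mem j).1 hKj) bar_le_PT
      (by rw [h1]; exact bar_le_PT) ?_
    rintro _ ⟨a, ha, rfl⟩ _ ⟨b, hb, rfl⟩
    rw [← map_mul, ← map_mul]
    congr 1
    exact Subtype.ext (comm ms e c pc close hX hij a (mem_subgroupOf.1 ha) b (mem_subgroupOf.1 hb))
  obtain ⟨h3, -, h4, ch, hch, hzx⟩ := ex.tyPcE C (hX.mem i).1 hKi h2 (Or.inr hne)
  exact ⟨_, ex.piece C (hX.mem i).1 hKi h2 (Or.inr hne), fun J hJ hJH => h4 J hJ hJH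
    (bar_cj_le ms e c pc hX hij hik hil hjk hjl hkl hJ hJH), ch, τ, hch, h3.kindOk, hzx⟩

/-- **the input `Prov`**, and the pieces are contained in `G₀` -/
theorem exists_prov (typ : TypStmt Om p F) {S : Sylow 2 G} {K : Fin 4 → Subgroup G} {x : Fin 4 → G}
    (hX : Xs Om (S : Subgroup G) K x) : ∃ X, Prov Om F p K X ∧
      ∀ x' : Fin 4 → G, Xs Om (S : Subgroup G) K x' → ∀ i j k l : Fin 4, i ≠ j → i ≠ k → i ≠ l → j ≠ k → j ≠ l →
        k ≠ l → ∀ G₀ : Subgroup G, (∀ i (s : SignType), s ≠ 0 → QF K X i s ≤ G₀) →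
        ∃ L : Subgroup G, L ≤ G₀ ∧ (∀ J ∈ Om, J ≤ centralizer {x' k * x' l} → J ≤ L) ∧
          ∃ (_ : Chart Om p L), True := by
  haveI := ex.char
  haveI := Fact.mk ex.prime
  have h := e.hyp
  have hcm := fun (i j : Fin 4) (hij : i ≠ j) => comm ms e c pc close hX hij
  obtain ⟨X, D, hg⟩ := ex.exists_dat h (fun i => (hX.mem i).1) hcm
  have hz : ∀ i j, zz (K i) = zz (K j) := fun i j => (zz_eq e hX i).trans (zz_eq e hX j).symm
  have hall : ∀ J ∈ Om, zz J = zz (K 0) → ∃ i, J = K i := fun J hJ h1 => all e hX hJ h1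
  have hcom : ∀ i, ∀ J ∈ Om, (∀ a ∈ J, ∀ b ∈ K i, a * b = b * a) → ∃ j, J = K j := fun i J hJ h1 =>
    exists_of_comm e hX hJ h1
  have key : ∀ x' : Fin 4 → G, Xs Om (S : Subgroup G) K x' → ∀ i j k l : Fin 4, i ≠ j → i ≠ k → i ≠ l → j ≠ k →
      j ≠ l → k ≠ l → ∃ L : Subgroup G, FrameOf.Piece Om (x' k * x' l) L ∧
        (∀ J ∈ Om, J ≤ centralizer {x' k * x' l} → J ≤ L) ∧ ∃ (ch : Chart Om p L) (τ : Nodes.Chart.Ty), ch.IsTy τ ∧
        (τ = .A 3 ∨ τ = .C 2) ∧ ∀ r ∈ ch.R, Nat.card (VV ch.cs ch.h ch.X r) = Nat.card F ^ 5 := by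
    intro x' hX' i j k l hij hik hil hjk hjl hkl
    obtain ⟨L, P, hL, ch, τ, hch, hok, hzx⟩ := exists_piece ms e c pc close ex hX' hij hik hil hjk hjl hkl
    have hi : K i ≤ L := hL _ (hX.mem i).1 (le_ct c e hX' hik hil)
    have hj : K j ≤ L := hL _ (hX.mem j).1 (le_ct c e hX' hjk hjl)
    have h1 := typ K X D hg hX.inj hz hall hcom i j k l hij hik hil hjk hjl hkl (x' k) (hX'.x_mem k).1 (x' l)
      (hX'.x_mem l).1 (by rw [sq e hX' k, zz_eq e hX' k]) (by rw [sq e hX' l, zz_eq e hX' l]) L P hi hj ch τ hch hok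
      hzx
    exact ⟨L, P, hL, ch, τ, hch, h1.1, h1.2⟩
  have H : Prov Om F p K X := by
    refine ⟨D, ex.odd, hz, fun i => hg i 1 one_ne_zero, fun i j hij => ?_⟩
    obtain ⟨k, l, hik, hil, hjk, hjl, hkl⟩ := exists_four i j hij
    obtain ⟨L, P, hL, ch, τ, -, -, hcard⟩ := key x hX i j k l hij hik hil hjk hjl hkl
    exact Loc.of_four D ex.odd hik.symm hjk.symm hil.symm hkl (hz k i) (hz l i) (hX.x_mem k).1 (hX.x_mem l).1
      (by rw [sq e hX k, zz_eq e hX k]) (by rw [sq e hX l, zz_eq e hX l]) P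
      (hL _ (hX.mem i).1 (le_ct c e hX hik hil)) (hL _ (hX.mem j).1 (le_ct c e hX hjk hjl)) ch hcard
  refine ⟨X, H, fun x' hX' i j k l hij hik hil hjk hjl hkl G₀ hQ => ?_⟩
  obtain ⟨L, P, hL, ch, τ, hch, hτ, hcard⟩ := key x' hX' i j k l hij hik hil hjk hjl hkl
  refine ⟨L, ?_, hL, ch, trivial⟩
  refine piece_le H hQ hij ch hcard (hL _ (hX.mem i).1 (le_ct c e hX' hik hil))
    (hL _ (hX.mem j).1 (le_ct c e hX' hjk hjl)) hch hτ ?_
  -- no member commutes with `K i`, `K j`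
  intro J hJ hJL hJi hJj
  obtain ⟨m, rfl⟩ := hcom i J hJ hJi
  have hnab : ∀ m, ¬ ∀ a ∈ K m, ∀ b ∈ K m, a * b = b * a := by
    intro m hm
    obtain ⟨u, hu, hux⟩ := TypeD4Prov.exists_inv h (hX'.mem m).1 (hX'.x_mem m).1
      (by rw [sq e hX' m, zz_eq e hX' m])
    have h1 := hm u hu _ (hX'.x_mem m).1
    rw [h1, mul_inv_cancel_right] at hux
    have h2 : x' m * x' m = 1 := by nth_rewrite 2 [hux]; exact mul_inv_cancel _
    rw [sq e hX' m] at h2
    exact h.zz_ne (hX'.mem 0).1 h2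
  have hmi : m ≠ i := by rintro rfl; exact hnab _ hJi
  have hmj : m ≠ j := by rintro rfl; exact hnab _ hJj
  have h3 : K m ≤ centralizer {x' k * x' l} := fun a ha =>
    mem_centralizer_singleton_iff.2 (P.le a (hJL ha))
  obtain ⟨m', hk, hl, h4⟩ := mem_of_le e hX' hkl hJ (zz_eq e hX' m) h3
  rw [← hX.inj h4] at hk hl
  rcases fin4_or hij hik hil hjk hjl hkl hk hl with h5 | h5
  · exact hmi h5
  · exact hmj h5

end

/-! ### `N(G₀)` is big -/

section

variable {G : Type*} [Group G] [Finite G] {Om : Set (Subgroup G)}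

theorem syl_of_sylow {M : Subgroup G} {S : Sylow 2 G} (hS : (S : Subgroup G) ≤ M) : Syl (S : Subgroup G) M := by
  haveI : Fact (Nat.Prime 2) := ⟨Nat.prime_two⟩
  refine ⟨hS, S.isPGroup', fun h => ?_⟩
  have h1 := relIndex_mul_index hS
  exact S.not_dvd_index (h1 ▸ h.mul_right _)

/-- elements conjugating a member of `G₀` into `G₀` -/
theorem mem_normalizer {G₀ : Subgroup G} {p : ℕ} (ch : Chart Om p G₀) (hOm : ∀ J ∈ Om, ∀ g, cj g J ∈ Om)
    (hN : ∀ J ∈ Om, J ≤ G₀ → normalizer (J : Set G) ≤ normalizer (G₀ : Set G)) {J : Subgroup G} (hJ : J ∈ Om)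
    (hJG : J ≤ G₀) {g : G} (hg : cj g J ≤ G₀) : g ∈ normalizer (G₀ : Set G) := by
  obtain ⟨d, hd, h1⟩ := CorOf.chart_exists_cj ch hJ (hOm J hJ g) hJG hg
  have h2 : d⁻¹ * g ∈ normalizer (J : Set G) := by
    rw [mem_normalizer_iff_cj, cj_mul, ← h1, cj_inv_cj]
  have h3 := mul_mem (le_normalizer hd) (hN J hJ hJG h2)
  rwa [mul_inv_cancel_left] at h3

/-- `Xs` and conjugation -/
theorem xs_cj (hOm : ∀ J ∈ Om, ∀ g, cj g J ∈ Om) {S S' : Subgroup G} {K : Fin 4 → Subgroup G} {x : Fin 4 → G}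
    (hX : Xs Om S K x) {g : G} (hg : cj g S = S') : Xs Om S' (fun i => cj g (K i)) (fun i => g * x i * g⁻¹) where
  two := by rw [← hg]; exact isPGroup_cj hX.two
  inj := fun i j h => hX.inj (by
    have h1 := congrArg (cj g⁻¹) h
    simp only [cj_inv_cj] at h1
    exact h1)
  mem i := mem_OmS_of_le (hOm _ (hX.mem i).1 g) ((syl_inf hX.two (hX.mem i)).cj g) (by
    rw [← hg]; exact cj_mono g inf_le_right)
  x_mem i := by
    have h1 := hX.x_mem i
    exact ⟨conj_mem_cj h1.1, by rw [← hg]; exact conj_mem_cj h1.2⟩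
  four i := by
    rw [← hX.four i]
    exact MulEquiv.orderOf_eq (MulAut.conj g) (x i)

/-- `Xs` and permutations -/
theorem xs_perm {S : Subgroup G} {K : Fin 4 → Subgroup G} {x : Fin 4 → G} (hX : Xs Om S K x) (σ : Equiv.Perm (Fin 4)) :
    Xs Om S (fun i => K (σ i)) (fun i => x (σ i)) where
  two := hX.two
  inj := fun i j h => σ.injective (hX.inj h)
  mem i := hX.mem _
  x_mem i := hX.x_mem _
  four i := hX.four _

/-- **`N(G₀)` is big** -/
theorem big_normalizer (e : EqFour Om) {S : Sylow 2 G} {K : Fin 4 → Subgroup G} {x : Fin 4 → G}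
    (hX : Xs Om (S : Subgroup G) K x) {G₀ : Subgroup G} {p : ℕ} (ch : Chart Om p G₀) (hK : ∀ i, K i ≤ G₀)
    (hN : ∀ J ∈ Om, J ≤ G₀ → normalizer (J : Set G) ≤ normalizer (G₀ : Set G))
    (hL : ∀ x' : Fin 4 → G, Xs Om (S : Subgroup G) K x' → ∀ i j k l : Fin 4, i ≠ j → i ≠ k → i ≠ l → j ≠ k →
      j ≠ l → k ≠ l → ∃ L : Subgroup G, L ≤ G₀ ∧ (∀ J ∈ Om, J ≤ centralizer {x' k * x' l} → J ≤ L))
    (hKt : ∀ x' : Fin 4 → G, Xs Om (S : Subgroup G) K x' → ∀ i k l : Fin 4, i ≠ k → i ≠ l →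
      K i ≤ centralizer {x' k * x' l}) :
    Big Om (normalizer (G₀ : Set G)) := by
  have h := e.hyp
  have hmem := fun {J : Subgroup G} (hJ : J ∈ Om) (hJG : J ≤ G₀) {g : G} (hg : cj g J ≤ G₀) =>
    mem_normalizer ch h.conj hN hJ hJG hg
  -- `C(z) ≤ N(G₀)`
  have hz : centralizer {zz (K 0)} ≤ normalizer (G₀ : Set G) := by
    intro g hg
    have h1 : zz (cj g (K 0)) = zz (K 0) := by
      rw [h.zz_cj (hX.mem 0).1 g, mem_centralizer_singleton_iff.1 hg, mul_inv_cancel_right]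
    obtain ⟨j, h2⟩ := all e hX (h.conj _ (hX.mem 0).1 g) h1
    exact hmem (hX.mem 0).1 (hK 0) (by rw [h2]; exact hK j)
  -- `S ≤ N(G₀)`
  have hS : (S : Subgroup G) ≤ normalizer (G₀ : Set G) := by
    intro s hs
    have h0 : cj s (S : Subgroup G) = S := mem_normalizer_iff_cj.1 (le_normalizer hs)
    have h1 := (xs_cj h.conj hX h0).mem 0
    obtain ⟨j, h2⟩ := all e hX h1.1 (e.eqz S _ h1 _ (hX.mem 0))
    have h3 : cj s (K 0) ≤ G₀ := by rw [h2]; exact hK j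
    exact hmem (hX.mem 0).1 (hK 0) h3
  -- `C(x' k x' l) ≤ N(G₀)`
  have ht : ∀ x' : Fin 4 → G, Xs Om (S : Subgroup G) K x' → ∀ k l : Fin 4, k ≠ l →
      centralizer {x' k * x' l} ≤ normalizer (G₀ : Set G) := by
    intro x' hX' k l hkl g hg
    obtain ⟨i, j, hij, hik, hil, hjk, hjl⟩ := exists_four' k l hkl
    obtain ⟨L, hL1, hL2⟩ := hL x' hX' i j k l hij hik hil hjk hjl hkl
    have hi := hKt x' hX' i k l hik hil
    refine hmem (hX.mem i).1 (hK i) ((hL2 _ (h.conj _ (hX.mem i).1 g) ?_).trans hL1)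
    have h1 := cj_mono g hi
    rwa [mem_normalizer_iff_cj.1 (le_normalizer hg)] at h1
  refine big_of e ⟨S, hS⟩ ?_
  intro S' hS' K' x' hX'
  obtain ⟨m, hm, hmS⟩ := (syl_of_sylow hS).exists_conj (syl_of_sylow hS')
  have hmS' : cj m⁻¹ (S' : Subgroup G) = S := by rw [← hmS, cj_inv_cj]
  have hX'' := xs_cj h.conj hX' hmS'
  -- the permutation
  have hz'' : ∀ i, zz (cj m⁻¹ (K' i)) = zz (K 0) := fun i => e.eqz S _ (hX''.mem i) _ (hX.mem 0)
  have hσ : ∀ i, ∃ j, cj m⁻¹ (K' i) = K j := fun i => all e hX (hX''.mem i).1 (hz'' i)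
  choose σ hσ using hσ
  have hσi : Function.Injective σ := fun i j hij => hX''.inj (by
    rw [hσ i, hσ j, hij])
  let σ' : Equiv.Perm (Fin 4) := Equiv.ofBijective σ (Finite.injective_iff_bijective.1 hσi)
  have hX1 := xs_perm hX'' σ'.symm
  have hK1 : (fun i => cj m⁻¹ (K' (σ'.symm i))) = K := by
    funext i
    rw [hσ]
    exact congrArg K (σ'.apply_symm_apply i)
  have hX2 : Xs Om (S : Subgroup G) K (fun i => m⁻¹ * x' (σ'.symm i) * m⁻¹⁻¹) := by
    have h1 : Xs Om (S : Subgroup G) (fun i => cj m⁻¹ (K' (σ'.symm i))) (fun i => m⁻¹ * x' (σ'.symm i) * m⁻¹⁻¹) := hX1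
    rwa [hK1] at h1
  -- conjugation back
  have hback : ∀ a : G, centralizer {m⁻¹ * a * m⁻¹⁻¹} ≤ normalizer (G₀ : Set G) →
      centralizer {a} ≤ normalizer (G₀ : Set G) := by
    intro a ha g hg
    have h1 : m⁻¹ * g * m ∈ centralizer {m⁻¹ * a * m⁻¹⁻¹} := by
      rw [mem_centralizer_singleton_iff, inv_inv]
      calc m⁻¹ * g * m * (m⁻¹ * a * m) = m⁻¹ * (g * a) * m := by group
        _ = m⁻¹ * (a * g) * m := by rw [mem_centralizer_singleton_iff.1 hg]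
        _ = m⁻¹ * a * m * (m⁻¹ * g * m) := by group
    have h2 := mul_mem (mul_mem hm (ha h1)) (inv_mem hm)
    have h3 : m * (m⁻¹ * g * m) * m⁻¹ = g := by group
    rwa [h3] at h2
  constructor
  · apply hback
    rw [← h.zz_cj (hX'.mem 0).1 m⁻¹, hz'' 0]
    exact hz
  · intro k l hkl
    apply hback
    have h1 := ht _ hX2 (σ' k) (σ' l) (fun h => hkl (σ'.injective h))
    simp only [Equiv.symm_apply_apply] at h1
    have h2 : m⁻¹ * (x' k * x' l) * m⁻¹⁻¹ = m⁻¹ * x' k * m⁻¹⁻¹ * (m⁻¹ * x' l * m⁻¹⁻¹) := by group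
    rw [h2]
    exact h1

end

/-! ### The output -/

section

variable {G : Type u} [Group G] [Finite G] {Om : Set (Subgroup G)} {p : ℕ} {F : Type} [Field F] [Fintype F]

/-- **`G` has a chart of type `D 4`** -/
theorem exists_chart (ms : MinS Om) (e : EqFour Om) (c : EqCor Om) (pc : PcStmt Om)
    (close : ∀ M : Subgroup G, Big Om M → M = ⊤) (ex : ExOut.EX Om p F) (typ : TypStmt Om p F) :
    ∃ c : Chart Om p (⊤ : Subgroup G), c.IsTy (Nodes.Chart.Ty.D 4) ∧ ∀ r ∈ c.R, c.Z r = c.X r := by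
  haveI := ex.char
  haveI := Fact.mk ex.prime
  have h := e.hyp
  obtain ⟨J₀, hJ₀⟩ := ms.ne
  obtain ⟨S, K, x, hX, -⟩ := exists_xs_of_mem e hJ₀
  obtain ⟨X, H, hL⟩ := exists_prov ms e c pc close ex typ hX
  have hp2 : p ≠ 2 := by
    rintro rfl
    have h1 : (2 : F) = 0 := by exact_mod_cast CharP.cast_eq_zero F 2
    obtain ⟨m, hm⟩ := ex.odd
    have h3 := FiniteField.cast_card_eq_zero F
    rw [hm] at h3
    push_cast at h3
    rw [h1, zero_mul, zero_add] at h3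
    exact one_ne_zero h3
  have hz : ∀ i, zz (K i) = zz (K 0) := zz_eq e hX
  have hall : ∀ J ∈ Om, zz J = zz (K 1) → ∃ i, J = K i := fun J hJ h1 => all e hX hJ (h1.trans (hz 1))
  have hS : Set.range K = Cit.OmS Om (S : Subgroup G) := by
    ext J
    constructor
    · rintro ⟨i, rfl⟩
      exact hX.mem i
    · intro hJ
      obtain ⟨i, hi⟩ := all e hX hJ.1 (e.eqz S _ hJ _ (hX.mem 0))
      exact ⟨i, hi.symm⟩
  obtain ⟨G₀, ch, hch, hK, -, hN, hzx, hQ⟩ := TypeD4Chart.main H hp2 S hS hX.inj hall fun i J hJ _ h1 =>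
    exists_of_comm e hX hJ h1
  have hbig : Big Om (normalizer (G₀ : Set G)) := by
    refine big_normalizer e hX ch hK hN ?_ fun x' hX' i k l hik hil => le_ct c e hX' hik hil
    intro x' hX' i j k l hij hik hil hjk hjl hkl
    obtain ⟨L, h1, h2, -⟩ := hL x' hX' i j k l hij hik hil hjk hjl hkl G₀ hQ
    exact ⟨L, h1, h2⟩
  have hnorm : G₀.Normal := normalizer_eq_top_iff.1 (close _ hbig)
  have := ms.simple
  rcases hnorm.eq_bot_or_eq_top with h1 | h1
  · exfalso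
    have h2 := hK 0 (h.zz_mem (hX.mem 0).1)
    rw [h1, mem_bot] at h2
    exact h.zz_ne (hX.mem 0).1 h2
  · subst h1
    exact ⟨ch, hch, hzx⟩

end

end Cfsg.Agent.Cit.TypeD4End
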