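import Cfsg.Agent.Cit.TypeD4Const
import Cfsg.Agent.Cit.PairEx
import Cfsg.Agent.Cit.ExOut
import Cfsg.Agent.Cit.TypeD4Prov

/-!
# All involutions `z_K`, `K ∈ Om(S)`, equal: exactness

* `core_eq_bot` : `O(K) = 1` for all members;
* `exists_ex` : all members are `SL(2, F)` with good parabolics (`ExOut.EX Om p F`).
-/

set_option autoImplicit false
set_option linter.dupNamespace false
set_option linter.style.haveILetI false
set_option linter.unusedSectionVars false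

namespace Cfsg.Agent.Cit.TypeD4Ex

open Subgroup Cfsg Cfsg.Agent.Cit.EqClose Cfsg.Agent.Cit.EqHad Cfsg.Agent.Cit.UseT Cfsg.Agent.Cit.PieceG
  Cfsg.Agent.Cit.PieceLoc Cfsg.Agent.Cit.TypeD4Cor Cfsg.Agent.Cit.TypeD4Const Cfsg.Agent.Cit.FrameOf
  Cfsg.Agent.Cit.ParabSL2 Cfsg.Agent.Cit.GoodOf
open scoped commutatorElement

universe u

section

variable {G : Type*} [Group G] [Finite G] {Om : Set (Subgroup G)}

/-- `O(J) ≤ O(H)` for the members `J ≤ H` -/
theorem OO_le_of_corG {H J : Subgroup G} (C : CorG Om H) (hJ : J ∈ Om) (hJH : J ≤ H) : OO J ≤ OO H := by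
  have h1 := C.pcs.core _ (bar_mem hJ hJH)
  have h2 : ((OO J).subgroupOf H).map (qm H) ≤ OO (bar H J) := by
    refine le_OO (bar_mono (OO_le J)) ?_ ?_
    · rintro _ ⟨x, hx, rfl⟩
      rw [mem_normalizer_iff_cj]
      change cj (qm H x) (bar H (OO J)) = bar H (OO J)
      rw [← cj_bar]
      congr 1
      exact mem_normalizer_iff_cj.1 (le_normalizer_OO J hx)
    · intro h3
      apply odd_OO J
      refine h3.trans ((Subgroup.card_map_dvd _ _).trans ?_)
      rw [Nat.card_congr (subgroupOfEquivOfLe ((OO_le J).trans hJH)).toEquiv]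
  rw [h1] at h2
  intro x hx
  have h3 : qm H ⟨x, hJH (OO_le J hx)⟩ ∈ (⊥ : Subgroup (HQ H)) := h2 ⟨⟨x, hJH (OO_le J hx)⟩, hx, rfl⟩
  exact qm_eq_one_iff.1 (mem_bot.1 h3)

theorem ne_top_of_odd {Om : Set (Subgroup G)} (h : Hyp Om) {J B : Subgroup G} (hJ : J ∈ Om)
    (hB : ¬ 2 ∣ Nat.card B) : B ≠ ⊤ := by
  rintro rfl
  apply hB
  rw [Subgroup.card_top, ← h.orderOf_zz hJ]
  exact orderOf_dvd_natCard _

end

section

variable {G : Type u} [Group G] [Finite G] {Om : Set (Subgroup G)}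

variable (ms : MinS Om) (e : EqFour Om) (c : EqCor Om) (pc : PcStmt Om)
  (close : ∀ M : Subgroup G, Big Om M → M = ⊤)

include ms e c pc close

/-- **`O(K) = 1`** -/
theorem core_eq_bot : ∀ J ∈ Om, OO J = ⊥ := by
  refine eq_bot (b := fun J => OO J) ms e c pc (fun J _ g => OO_cj g J) ?_ close fun J hJ =>
    ne_top_of_odd e.hyp hJ (odd_OO J)
  intro S K x hX i k l hik hil hkl
  have C := corG_t ms e c hX hkl
  exact CorOf.DL_le_centralizer_of_le (b := fun J => OO J) (L := K i) C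
    (OO_le_of_corG C (hX.mem i).1 (le_ct c e hX hik hil))

/-- the members of a frame commute -/
theorem comm {S : Sylow 2 G} {K : Fin 4 → Subgroup G} {x : Fin 4 → G} (hX : Xs Om (S : Subgroup G) K x)
    {i j : Fin 4} (hij : i ≠ j) : ∀ a ∈ K i, ∀ b ∈ K j, a * b = b * a :=
  CoresComm.comm_of_OmS e.hyp S.isPGroup' (hX.mem i) (hX.mem j) (fun h => hij (hX.inj h)) (ms.ty _ (hX.mem i).1)
    (ms.ty _ (hX.mem j).1) (core_eq_bot ms e c pc close _ (hX.mem i).1) (core_eq_bot ms e c pc close _ (hX.mem j).1)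

/-- the field -/
theorem exists_sl {S : Sylow 2 G} {K : Fin 4 → Subgroup G} {x : Fin 4 → G} (hX : Xs Om (S : Subgroup G) K x)
    {i k l : Fin 4} (hik : i ≠ k) (hil : i ≠ l) (hkl : k ≠ l) :
    ∃ (p : ℕ) (F : Type) (_ : Field F) (_ : Fintype F), CharP F p ∧ p ≠ 2 ∧
      Nonempty (Matrix.SpecialLinearGroup (Fin 2) F ≃* K i) ∧
      PT Om (centralizer {x k * x l}) (K i) ∉ fb Om (centralizer {x k * x l}) ∧
      Nonempty (Nodes.Chart.Chart (fb Om (centralizer {x k * x l})) p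
        (PT Om (centralizer {x k * x l}) (K i))) := by
  obtain ⟨j, hj⟩ : ∃ j, i ≠ j ∧ j ≠ k ∧ j ≠ l := by
    revert i k l; decide
  have hKH := le_ct c e hX hik hil
  obtain ⟨-, τ, h1⟩ := pc S K x hX i j k l hj.1 hik hil hj.2.1 hj.2.2 hkl
  obtain ⟨nmem, -, -, p, ch, -, -, ⟨F, i1, i2, hcp, hsl⟩, -⟩ := h1
  refine ⟨p, F, i1, i2, hcp, ch.odd, ?_, nmem, ⟨ch⟩⟩
  obtain ⟨r, hr, g, hg, h2⟩ := ch.om_conj _ (bar_mem (hX.mem i).1 hKH) bar_le_PT
  obtain ⟨f⟩ := hsl r hr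
  have h3 : bar (centralizer {x k * x l}) (K i) = cj g (ch.Z r ⊔ ch.Z (-r)) := h2
  exact ⟨((f.trans (cjEquiv g _)).trans (MulEquiv.subgroupCongr h3.symm)).trans
    (barEquiv hKH (core_eq_bot ms e c pc close _ (hX.mem i).1)).symm⟩

omit pc close c e in
/-- all members are isomorphic -/
theorem sl_all {F : Type*} [Field F] [Fintype F] {J : Subgroup G} (hJ : J ∈ Om)
    (f : Matrix.SpecialLinearGroup (Fin 2) F ≃* J) :
    ∀ L ∈ Om, Nonempty (Matrix.SpecialLinearGroup (Fin 2) F ≃* L) := by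
  intro L hL
  obtain ⟨g, rfl⟩ := ms.cls J hJ L hL
  exact ⟨f.trans (cjEquiv g J)⟩

omit [Finite G] in
omit ms e c pc close in
/-- root groups for a family of commuting members -/
theorem exists_dat {F : Type*} [Field F] [Fintype F] (hyp : Hyp Om) {ι : Type*} {K : ι → Subgroup G}
    (mem : ∀ i, K i ∈ Om) (comm : ∀ i j, i ≠ j → ∀ a ∈ K i, ∀ b ∈ K j, a * b = b * a)
    (sl : ∀ i, Nonempty (Matrix.SpecialLinearGroup (Fin 2) F ≃* K i)) :
    ∃ X : ι → SignType → Subgroup G, Dat Om F K X := by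
  classical
  let e : ∀ i, Matrix.SpecialLinearGroup (Fin 2) F ≃* K i := fun i => (sl i).some
  exact ⟨fun i s => if s = 1 then root (e i) else rootOp (e i),
    ⟨hyp, mem, comm, fun i => ⟨e i, if_pos rfl, if_neg (by decide)⟩⟩⟩

/-- the pair `K i`, `t = x k x l` -/
theorem pk {p : ℕ} {F : Type*} [Field F] [Fintype F] (hF : Odd (Fintype.card F))
    (sl : ∀ L ∈ Om, Nonempty (Matrix.SpecialLinearGroup (Fin 2) F ≃* L))
    {S : Sylow 2 G} {K : Fin 4 → Subgroup G} {x : Fin 4 → G} (hX : Xs Om (S : Subgroup G) K x)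
    {i k l : Fin 4} (hik : i ≠ k) (hil : i ≠ l) (hkl : k ≠ l)
    (hn : PT Om (centralizer {x k * x l}) (K i) ∉ fb Om (centralizer {x k * x l}))
    (hc : Nonempty (Nodes.Chart.Chart (fb Om (centralizer {x k * x l})) p
      (PT Om (centralizer {x k * x l}) (K i)))) :
    ∃ u, PairEx.Pk Om p (K i) (x k * x l) u (PT Om (centralizer {x k * x l}) (K i)) := by
  have h := e.hyp
  have C := corG_t ms e c hX hkl
  have hKH := le_ct c e hX hik hil
  have hcm := fun (i j : Fin 4) (hij : i ≠ j) => comm ms e c pc close hX hij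
  obtain ⟨Y, D⟩ := exists_dat h (fun i => (hX.mem i).1) hcm (fun i => sl _ (hX.mem i).1)
  have hz : ∀ j, zz (K j) = zz (K i) := fun j => (zz_eq e hX j).trans (zz_eq e hX i).symm
  have ck := TypeD4Prov.core_comm D hF hik (hz k)
  have cl := TypeD4Prov.core_comm D hF hil (hz l)
  obtain ⟨u, hu, hux⟩ := TypeD4Prov.exists_inv h (hX.mem k).1 (hX.x_mem k).1
    (by rw [sq e hX k, zz_eq e hX k])
  refine ⟨u, (hX.mem i).1, C, qp_PT C (hX.mem i).1 hKH hn, hKH, bar_le_PT, hn, hc, t_sq e hX k l, ?_, ?_, ?_, ?_⟩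
  · intro d hd
    have h1 := ck d hd _ (hX.x_mem k).1
    have h2 := cl d hd _ (hX.x_mem l).1
    calc x k * x l * d = x k * (d * x l) := by rw [h2, mul_assoc]
      _ = d * (x k * x l) := by rw [← mul_assoc, ← h1, mul_assoc]
  · exact fun a ha => (hcm i k hik a ha u hu).symm
  · exact fun d hd => (ck d hd u hu).symm
  · have h1 : (x k)⁻¹ = zz (K i) * x k := by
      have h2 := sq e hX k
      rw [inv_eq_iff_mul_eq_one, ← zz_eq e hX i] at *
      have h3 : x k * zz (K i) = zz (K i) * x k := by rw [← h2, mul_assoc]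
      rw [← mul_assoc, h3, mul_assoc, h2, h.zz_mul (hX.mem i).1]
    have h2 : u * x l * u⁻¹ = x l := by
      rw [hcm k l hkl u hu _ (hX.x_mem l).1, mul_inv_cancel_right]
    calc u * (x k * x l) * u⁻¹ = (u * x k * u⁻¹) * (u * x l * u⁻¹) := by group
      _ = zz (K i) * (x k * x l) := by rw [hux, h1, h2, mul_assoc]

/-- **(EX)** -/
theorem exists_ex (solv : ∀ X : Subgroup G, ¬ 2 ∣ Nat.card X → Group.IsSolvable X) :
    ∃ (p : ℕ) (F : Type) (_ : Field F) (_ : Fintype F), ExOut.EX Om p F := by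
  obtain ⟨J₀, hJ₀⟩ := ms.ne
  obtain ⟨S₀, K₀, x₀, hX₀, -⟩ := exists_xs_of_mem e hJ₀
  obtain ⟨p, F, i1, i2, hcp, hp2, ⟨f⟩, -, ⟨c₀⟩⟩ := exists_sl ms e c pc close hX₀ (i := 0) (k := 1) (l := 2)
    (by decide) (by decide) (by decide)
  have hF : Odd (Fintype.card F) := ExMain.odd_card hp2
  have sl := sl_all ms (hX₀.mem 0).1 f
  -- the function `bb`
  have hres : ∀ (S : Sylow 2 G) (K : Fin 4 → Subgroup G) (x : Fin 4 → G), Xs Om (S : Subgroup G) K x →
      ∀ i k l : Fin 4, i ≠ k → i ≠ l → k ≠ l → ∀ X ≤ K i, Nat.card X = Fintype.card F →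
      PairEx.Res Om p (K i) (x k * x l) (PT Om (centralizer {x k * x l}) (K i)) X := by
    intro S K x hX i k l hik hil hkl X hXK hXc
    obtain ⟨p', F', j1, j2, hcp', hp2', ⟨f'⟩, hn, hc⟩ := exists_sl ms e c pc close hX hik hil hkl
    obtain ⟨g⟩ := sl _ (hX.mem i).1
    have hpp : p = p' := ExactChart.char_eq (g.trans f'.symm)
    subst hpp
    obtain ⟨u, hpk⟩ := pk ms e c pc close hF sl hX hik hil hkl hn hc
    exact hpk.res hF solv g hXK hXc
  have hb : ∀ J ∈ Om, bb (Fintype.card F) J = ⊥ := by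
    refine eq_bot ms e c pc (fun J hJ g => ?_) ?_ close fun J hJ => ?_
    · obtain ⟨f⟩ := sl J hJ
      exact bb_cj e.hyp hJ hF f g
    · intro S K x hX i k l hik hil hkl
      obtain ⟨g⟩ := sl _ (hX.mem i).1
      have R := hres S K x hX i k l hik hil hkl (root g) (root_le g) (card_root g)
      rw [bb_eq e.hyp (hX.mem i).1 hF g (root_le g) (card_root g)]
      intro d hd
      rw [mem_centralizer_iff]
      exact fun b hb => (R.bb_comm d hd b hb).symm
    · obtain ⟨f⟩ := sl J hJ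
      exact ne_top_of_odd e.hyp hJ (not_dvd_bb e.hyp hJ hF f)
  refine ⟨p, F, i1, i2, c₀.prime, hcp, hF, sl, ?_⟩
  intro J hJ X hXJ hXc
  obtain ⟨S, K, x, hX, i, rfl⟩ := exists_xs_of_mem e hJ
  obtain ⟨k, l, hik, hil, hkl⟩ : ∃ k l, i ≠ k ∧ i ≠ l ∧ k ≠ l := by
    clear hJ hXJ
    revert i; decide
  obtain ⟨g⟩ := sl _ hJ
  have R := hres S K x hX i k l hik hil hkl X hXJ hXc
  refine R.good c₀.prime (long_of_hyp e.hyp hJ hF g hXJ hXc) (isPGroup_of_card hXc) ?_
  rw [← bb_eq e.hyp hJ hF g hXJ hXc]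
  exact hb _ hJ

end

end Cfsg.Agent.Cit.TypeD4Ex
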