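import Cfsg.Agent.Cit.TypeD4Const
import Cfsg.Agent.Cit.Four.ExcPiece

/-!
# All involutions `z_K`, `K ∈ Om(S)`, equal: the kinds of the pieces of `C(x k x l)`

* `not_central` : `z` does not centralise the piece of `K i` in `C(x k x l) / O(C(x k x l))`;
* `pcStmt` : `K i`, `K j` are in one piece of chart kind (`TypeD4Const.PcStmt`).
-/

set_option autoImplicit false
set_option linter.style.haveILetI false
set_option linter.unusedSectionVars false

namespace Cfsg.Agent.Cit.TypeD4Pc

open Subgroup Cfsg Cfsg.Agent.Cit.EqClose Cfsg.Agent.Cit.EqHad Cfsg.Agent.Cit.UseT Cfsg.Agent.Cit.PieceG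
  Cfsg.Agent.Cit.TypeD4Cor Cfsg.Agent.Cit.TypeD4Const
open Cfsg.Agent.Cit.TypeDet (cm)
open scoped commutatorElement

universe u

section

variable {G : Type*} [Group G] [Finite G] {Om : Set (Subgroup G)} {S : Sylow 2 G} {K : Fin 4 → Subgroup G}
  {x : Fin 4 → G}

theorem zz_bar (h : Hyp Om) {H K : Subgroup G} (hK : K ∈ Om) (hKH : K ≤ H) :
    zz (bar H K) = qm H ⟨zz K, hKH (h.zz_mem hK)⟩ := by
  rw [bar, zz_map' (h.restr H) (not_dvd_ker H) (subgroupOf_mem_restr hK hKH)]
  congr 1
  apply Subtype.ext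
  have h7 := zz_map h (subgroupOf_mem_restr hK hKH)
  rw [h7, map_subgroupOf_eq_of_le hKH]

/-- an element of `K i ⊓ S` inverting `x i` -/
theorem exists_inverting (e : EqFour Om) (hX : Xs Om (S : Subgroup G) K x) (i : Fin 4) :
    ∃ u ∈ K i ⊓ (S : Subgroup G), u * u = zz (K 0) ∧ u * x i * u⁻¹ = x i * zz (K 0) := by
  obtain ⟨c, v, n, hq⟩ := e.hyp.exists_gq (hX.mem i).1 (syl_inf hX.two (hX.mem i))
  obtain ⟨u, hu, hu4, hux⟩ := hq.exists_inverting (hX.x_mem i) (hX.four i)
  refine ⟨u, hu, ?_, ?_⟩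
  · rw [e.hyp.sq_eq_zz (hX.mem i).1 hu.1 hu4, zz_eq e hX i]
  · rw [hux, inv_eq_iff_mul_eq_one, ← mul_assoc, sq e hX i, e.hyp.zz_mul (hX.mem 0).1]

theorem comm_z (e : EqFour Om) (hX : Xs Om (S : Subgroup G) K x) (i : Fin 4) {a : G} (ha : a ∈ K i) :
    a * zz (K 0) = zz (K 0) * a := by
  rw [← zz_eq e hX i]
  exact e.hyp.comm_zz (hX.mem i).1 (le_normalizer ha)

/-- `K i` does not centralise `x 0 x 1 x 2 x 3` -/
theorem exists_conj_pr (e : EqFour Om) (hX : Xs Om (S : Subgroup G) K x) (i : Fin 4) :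
    ∃ u ∈ K i ⊓ (S : Subgroup G), u * Xs.pr x * u⁻¹ = Xs.pr x * zz (K 0) := by
  obtain ⟨u, hu, -, hux⟩ := exists_inverting e hX i
  refine ⟨u, hu, ?_⟩
  have hxz : ∀ l, x l * zz (K 0) = zz (K 0) * x l := fun l => comm_z e hX l (hX.x_mem l).1
  rw [Xs.conj_pr (x' := Function.update x i (x i * zz (K 0))) u (fun m => by
    by_cases hm : m = i
    · subst hm; rw [Function.update_self, hux]
    · rw [Function.update_of_ne hm, e.hyp.comm hX.two (hX.mem i) (hX.mem m) (fun h => hm (hX.inj h).symm) hu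
        (hX.x_mem m), mul_inv_cancel_right])]
  unfold Xs.pr
  have e1 := hxz 1
  have e2 := hxz 2
  have e3 := hxz 3
  generalize zz (K 0) = z at *
  fin_cases i
  · simp [Function.update]
    calc x 0 * z * x 1 * x 2 * x 3 = x 0 * (z * x 1) * x 2 * x 3 := by group
      _ = x 0 * x 1 * (z * x 2) * x 3 := by rw [← e1]; group
      _ = x 0 * x 1 * x 2 * (z * x 3) := by rw [← e2]; group
      _ = x 0 * x 1 * x 2 * x 3 * z := by rw [← e3]; group
  · simp [Function.update]
    calc x 0 * (x 1 * z) * x 2 * x 3 = x 0 * x 1 * (z * x 2) * x 3 := by group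
      _ = x 0 * x 1 * x 2 * (z * x 3) := by rw [← e2]; group
      _ = x 0 * x 1 * x 2 * x 3 * z := by rw [← e3]; group
  · simp [Function.update]
    calc x 0 * x 1 * (x 2 * z) * x 3 = x 0 * x 1 * x 2 * (z * x 3) := by group
      _ = x 0 * x 1 * x 2 * x 3 * z := by rw [← e3]; group
  · simp [Function.update]
    group

end

section

variable {G : Type u} [Group G] [Finite G] {Om : Set (Subgroup G)} {S : Sylow 2 G} {K : Fin 4 → Subgroup G}
  {x : Fin 4 → G}

/-- `z` does not centralise the piece of `K i` -/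
theorem not_central (e : EqFour Om) (c : EqCor Om) (hX : Xs Om (S : Subgroup G) K x)
    {i k l : Fin 4} (hik : i ≠ k) (hil : i ≠ l) (hkl : k ≠ l) :
    ¬ ∀ d ∈ PT Om (centralizer {x k * x l}) (K i),
      d * zz (bar (centralizer {x k * x l}) (K i)) = zz (bar (centralizer {x k * x l}) (K i)) * d := by
  intro hc
  have h := e.hyp
  obtain ⟨H, hH⟩ : ∃ H, H = centralizer ({x k * x l} : Set G) := ⟨_, rfl⟩
  have hKH : K i ≤ H := by rw [hH]; exact le_ct c e hX hik hil
  have hxH : ∀ m, x m ∈ H := fun m => by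
    rw [hH, mem_centralizer_singleton_iff]
    have c1 : Commute (x m) (x k) := hX.comm h m k
    have c2 : Commute (x m) (x l) := hX.comm h m l
    exact (c1.mul_right c2).eq
  obtain ⟨n, -, hn, -, hnz, -⟩ := exists_swap e S hX rfl hkl
  have hnH : n ∈ H := by rw [hH]; exact mem_centralizer_singleton_iff.2 hn
  rw [← hH] at hc
  clear hn
  have hf := fb_hyp h H
  have hA := bar_mem (hX.mem i).1 hKH
  have hsH : Xs.pr x ∈ H := mul_mem (mul_mem (mul_mem (hxH 0) (hxH 1)) (hxH 2)) (hxH 3)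
  have hz : zz (bar H (K i)) = qm H ⟨zz (K 0), by rw [← zz_eq e hX i]; exact hKH (h.zz_mem (hX.mem i).1)⟩ := by
    rw [zz_bar h (hX.mem i).1 hKH]
    congr 1
    exact Subtype.ext (zz_eq e hX i)
  have hs : qm H ⟨Xs.pr x, hsH⟩ = qm H ⟨n, hnH⟩ * zz (bar H (K i)) * (qm H ⟨n, hnH⟩)⁻¹ := by
    rw [hz, ← map_mul, ← map_inv, ← map_mul]
    congr 1
    exact Subtype.ext hnz.symm
  have h5 : cj (qm H ⟨n, hnH⟩) (PT Om H (K i)) = pc (fb Om H) (cj (qm H ⟨n, hnH⟩) (bar H (K i))) :=
    cj_pc hf.conj _ _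
  have h6 : ∀ d ∈ PT Om H (K i), d * qm H ⟨Xs.pr x, hsH⟩ = qm H ⟨Xs.pr x, hsH⟩ * d := by
    intro d hd
    by_cases h7 : cj (qm H ⟨n, hnH⟩) (PT Om H (K i)) = PT Om H (K i)
    · have h8 : (qm H ⟨n, hnH⟩)⁻¹ * d * qm H ⟨n, hnH⟩ ∈ PT Om H (K i) := by
        rw [← h7] at hd
        exact mem_cj.1 hd
      have h9 := hc _ h8
      rw [hs]
      generalize qm H ⟨n, hnH⟩ = m at *
      generalize zz (bar H (K i)) = w at *
      calc d * (m * w * m⁻¹) = m * (m⁻¹ * d * m * w) * m⁻¹ := by group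
        _ = m * (w * (m⁻¹ * d * m)) * m⁻¹ := by rw [h9]
        _ = m * w * m⁻¹ * d := by group
    · rw [h5] at h7
      have h8 := pc_comm (hf.conj _ hA (qm H ⟨n, hnH⟩)) hA h7
      have h9 : qm H ⟨Xs.pr x, hsH⟩ ∈ pc (fb Om H) (cj (qm H ⟨n, hnH⟩) (bar H (K i))) := by
        rw [hs, ← hf.zz_cj hA]
        exact le_pc (hf.zz_mem (hf.conj _ hA _))
      exact mem_centralizer_iff.1 (h8 h9) d hd
  obtain ⟨v, hv, hvs⟩ := exists_conj_pr e hX i
  have hvH := hKH hv.1
  have h7 := h6 (qm H ⟨v, hvH⟩) (bar_le_PT (mem_bar (x := ⟨v, hvH⟩) hv.1))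
  have h8 : qm H ⟨v, hvH⟩ * qm H ⟨Xs.pr x, hsH⟩ * (qm H ⟨v, hvH⟩)⁻¹ = qm H ⟨Xs.pr x, hsH⟩ * zz (bar H (K i)) := by
    rw [hz, ← map_mul, ← map_inv, ← map_mul, ← map_mul]
    congr 1
    exact Subtype.ext hvs
  rw [h7, mul_inv_cancel_right] at h8
  exact hf.zz_ne hA (left_eq_mul.1 h8)

/-- **the kind of the pieces of `C(x k x l)`** -/
theorem pcStmt (ms : MinS Om) (e : EqFour Om) (c : EqCor Om) : PcStmt Om := by
  intro S K x hX i j k l hij hik hil hjk hjl hkl
  have h := e.hyp
  have C := corG_t ms e c hX hkl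
  have hKi := le_ct c e hX hik hil
  have hKj := le_ct c e hX hjk hjl
  have hni := not_central e c hX hik hil hkl
  have hxH : ∀ m, x m ∈ centralizer {x k * x l} := fun m => by
    rw [mem_centralizer_singleton_iff]
    have c1 : Commute (x m) (x k) := hX.comm h m k
    have c2 : Commute (x m) (x l) := hX.comm h m l
    exact (c1.mul_right c2).eq
  obtain ⟨u, hu, huu, hux⟩ := exists_inverting e hX k
  obtain ⟨v, hv, hvv, hvx⟩ := exists_inverting e hX l
  have huv : u * v = v * u := h.comm hX.two (hX.mem k) (hX.mem l) (fun h => hkl (hX.inj h)) hu hv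
  have hz1 := h.zz_mul (hX.mem 0).1
  have cz := fun {m : Fin 4} {a : G} (ha : a ∈ K m) => comm_z e hX m ha
  -- `a = u v`
  have haa : u * v * (u * v) = 1 := by
    calc u * v * (u * v) = u * (v * u) * v := by group
      _ = u * u * (v * v) := by rw [← huv]; group
      _ = 1 := by rw [huu, hvv, hz1]
  have hax : u * v * x k * (u * v)⁻¹ = x k * zz (K 0) := by
    have h1 : v * x k = x k * v :=
      h.comm hX.two (hX.mem l) (hX.mem k) (fun h => hkl (hX.inj h).symm) hv (hX.x_mem k)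
    calc u * v * x k * (u * v)⁻¹ = u * (v * x k) * v⁻¹ * u⁻¹ := by group
      _ = u * x k * u⁻¹ := by rw [h1]; group
      _ = x k * zz (K 0) := hux
  have haH : u * v ∈ centralizer {x k * x l} := by
    rw [mem_centralizer_singleton_iff]
    have h1 : u * x l = x l * u :=
      h.comm hX.two (hX.mem k) (hX.mem l) (fun h => hkl (hX.inj h)) hu (hX.x_mem l)
    have h2 : u * x k = x k * zz (K 0) * u := by rw [← hux]; group
    have h3 : v * x l = x l * zz (K 0) * v := by rw [← hvx]; group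
    have h4 : v * x k = x k * v :=
      h.comm hX.two (hX.mem l) (hX.mem k) (fun h => hkl (hX.inj h).symm) hv (hX.x_mem k)
    have h5 := cz (hX.x_mem l).1
    calc u * v * (x k * x l) = u * (v * x k) * x l := by group
      _ = u * x k * (v * x l) := by rw [h4]; group
      _ = x k * zz (K 0) * u * (x l * zz (K 0) * v) := by rw [h2, h3]
      _ = x k * zz (K 0) * (u * x l) * zz (K 0) * v := by group
      _ = x k * (zz (K 0) * x l) * (u * zz (K 0)) * v := by rw [h1]; group
      _ = x k * x l * (zz (K 0) * zz (K 0)) * u * v := by rw [← h5, cz hu.1]; group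
      _ = x k * x l * (u * v) := by rw [hz1]; group
  -- the elements `y = x k`, `a` centralise `K i`
  have hyK : ∀ b ∈ K i, x k * b = b * x k := fun b hb => (comm_inf c e hX hik b hb (x k) (hX.x_mem k)).symm
  have haK : ∀ b ∈ K i, u * v * b = b * (u * v) := by
    intro b hb
    have h1 := comm_inf c e hX hik b hb u hu
    have h2 := comm_inf c e hX hil b hb v hv
    rw [mul_assoc, ← h2, ← mul_assoc, ← h1, mul_assoc]
  suffices hmain : ∀ H : Subgroup G, H = centralizer ({x k * x l} : Set G) → PT Om H (K i) = PT Om H (K j) ∧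
      ∃ τ, ExactChart.TyPcE (fb Om H) τ (PT Om H (K i)) from hmain _ rfl
  intro H hH
  rw [← hH] at C hKi hKj hni haH
  have hyH : x k ∈ H := by rw [hH]; exact hxH k
  have hf := fb_hyp h H
  have hA := bar_mem (hX.mem i).1 hKi
  have hB := bar_mem (hX.mem j).1 hKj
  have hzz : zz (bar H (K i)) = zz (bar H (K j)) := by
    rw [zz_bar h (hX.mem i).1 hKi, zz_bar h (hX.mem j).1 hKj]
    congr 1
    exact Subtype.ext ((zz_eq e hX i).trans (zz_eq e hX j).symm)
  have hne : bar H (K i) ≠ bar H (K j) := fun h1 =>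
    hij (hX.inj (eq_of_bar_eq C (hX.mem i).1 (hX.mem j).1 hKi hKj h1))
  have hcm : cm (bar H (K i)) (bar H (K j)) := Four.cm_of_zz hf C.pcs.core hB hA hne fun a ha => by
    rw [← hzz]
    exact hf.comm_zz hA (le_normalizer ha)
  -- one piece
  have hPT : PT Om H (K i) = PT Om H (K j) := by
    by_contra h1
    apply hni
    intro d hd
    have h2 := pc_comm hA hB h1
    have h3 : zz (bar H (K i)) ∈ pc (fb Om H) (bar H (K j)) := by
      rw [hzz]
      exact le_pc (hf.zz_mem hB)
    exact (mem_centralizer_iff.1 (h2 hd) _ h3).symm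
  refine ⟨hPT, ?_⟩
  have hleA : bar H (K i) ≤ PT Om H (K i) := bar_le_PT
  have hleB : bar H (K j) ≤ PT Om H (K i) := by rw [hPT]; exact bar_le_PT
  have hnm : PT Om H (K i) ∉ fb Om H := by
    intro h1
    have h2 := hf.eq_of_le hA h1 hleA
    apply hni
    intro d hd
    rw [← h2] at hd
    exact hf.comm_zz hA (le_normalizer hd)
  -- the elements `y`, `a` modulo `O(H)`
  have hnorm : ∀ {a : HQ H}, (∀ b ∈ bar H (K i), a * b = b * a) →
      ∀ d ∈ PT Om H (K i), a * d * a⁻¹ ∈ PT Om H (K i) := by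
    intro a ha d hd
    have h1 : cj a (PT Om H (K i)) = PT Om H (K i) := by
      rw [PT, cj_pc hf.conj]
      congr 1
      rw [← mem_normalizer_iff_cj]
      refine centralizer_le_normalizer _ ?_
      rw [mem_centralizer_iff]
      exact fun b hb => (ha b hb).symm
    rw [← h1]
    exact conj_mem_cj hd
  have hbar : ∀ {g : G} (hg : g ∈ H), (∀ b ∈ K i, g * b = b * g) →
      ∀ b ∈ bar H (K i), qm H ⟨g, hg⟩ * b = b * qm H ⟨g, hg⟩ := by
    rintro g hg h1 _ ⟨b, hb, rfl⟩
    rw [← map_mul, ← map_mul]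
    congr 1
    exact Subtype.ext (h1 _ hb)
  have hyb := hbar hyH hyK
  have hab := hbar haH haK
  have hay : qm H ⟨u * v, haH⟩ * qm H ⟨x k, hyH⟩ * (qm H ⟨u * v, haH⟩)⁻¹ = qm H ⟨x k, hyH⟩ * zz (bar H (K i)) := by
    rw [zz_bar h (hX.mem i).1 hKi, ← map_mul, ← map_inv, ← map_mul, ← map_mul]
    congr 1
    apply Subtype.ext
    change u * v * x k * (u * v)⁻¹ = x k * zz (K i)
    rw [hax, zz_eq e hX i]
  have haa' : qm H ⟨u * v, haH⟩ * qm H ⟨u * v, haH⟩ = 1 := by
    rw [← map_mul, ← map_one (qm H)]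
    congr 1
    exact Subtype.ext haa
  have hzq : zz (bar H (K i)) * zz (bar H (K i)) = 1 := hf.zz_mul hA
  have hp := C.pcs.piece hf hA
  have key : ∀ p : ℕ, p.Prime → p ≠ 2 → IsG2D4 p (↥(PT Om H (K i)) ⧸ center (PT Om H (K i))) →
      IsQuasisimple (PT Om H (K i)) → IsPGroup 2 (center (PT Om H (K i))) →
      (∀ K' ∈ fb Om H, ∀ J ∈ fb Om H, K' ≤ PT Om H (K i) → J ≤ PT Om H (K i) → K' ≠ J →
        K' ≤ centralizer (J : Set (HQ H)) → ∀ d ∈ PT Om H (K i), zz K' * zz J * d = d * (zz K' * zz J)) →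
      (∀ K' ∈ fb Om H, ∀ J ∈ fb Om H, ∀ M ∈ fb Om H, K' ≤ PT Om H (K i) → J ≤ PT Om H (K i) → M ≤ PT Om H (K i) →
        K' ≤ centralizer (J : Set (HQ H)) → K' ≤ centralizer (M : Set (HQ H)) → J ≤ centralizer (M : Set (HQ H)) →
        K' = J ∨ K' = M ∨ J = M) → False := by
    intro p hp hp2 iso qs two zzc three
    obtain ⟨F, i1, i2, i3, i4⟩ := iso
    have tw : Four.TwG (fb Om H) (PT Om H (K i)) (bar H (K i)) (bar H (K j)) :=
      { hyp := hf
        ty := TyTrans.isType_img_odd (TyTrans.isType_restr (fun J hJ => (ms.ty J hJ).isType) H) (not_dvd_ker H)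
        core := C.pcs.core
        pc := ⟨hnm, qs, two, ⟨p, F, i1, i2, i3, hp, hp2, i4⟩, zzc, three⟩
        mem := hA
        mem' := hB
        le := hleA
        le' := hleB
        ne := hne
        comm := hcm
        zz := hzz }
    have hn : qm H ⟨u * v, haH⟩ ∈ normalizer (PT Om H (K i) : Set (HQ H)) := by
      rw [mem_normalizer_iff_cj, PT, cj_pc hf.conj]
      congr 1
      rw [← mem_normalizer_iff_cj]
      refine centralizer_le_normalizer _ ?_
      rw [mem_centralizer_iff]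
      exact fun b hb => (hab b hb).symm
    have hinn := tw.inn hn haa' hab
    have hyn := fun d hd => hnorm (a := (qm H ⟨x k, hyH⟩)⁻¹) (fun b hb => by
      rw [inv_mul_eq_iff_eq_mul, ← mul_assoc, hyb b hb, mul_inv_cancel_right]) d hd
    have hza : zz (bar H (K i)) * qm H ⟨u * v, haH⟩ = qm H ⟨u * v, haH⟩ * zz (bar H (K i)) :=
      (hab _ (hf.zz_mem hA)).symm
    have hzy : zz (bar H (K i)) * qm H ⟨x k, hyH⟩ = qm H ⟨x k, hyH⟩ * zz (bar H (K i)) :=
      (hyb _ (hf.zz_mem hA)).symm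
    apply hni
    generalize qm H ⟨u * v, haH⟩ = a at *
    generalize qm H ⟨x k, hyH⟩ = y at *
    generalize zz (bar H (K i)) = w at *
    -- `y a y⁻¹ = a w`
    have hya : y * a * y⁻¹ = a * w := by
      have h1 : a * y = y * w * a := by rw [← hay]; group
      have h2 : y * a = a * y * w := by
        calc y * a = y * (w * w) * a := by rw [hzq, mul_one]
          _ = y * w * (w * a) := by group
          _ = (y * w * a) * w := by rw [hza]; group
          _ = a * y * w := by rw [← h1]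
      calc y * a * y⁻¹ = a * (y * w) * y⁻¹ := by rw [h2]; group
        _ = a * w := by rw [← hzy]; group
    rcases hinn with h1 | h1
    · -- `a` centralises the piece
      intro d hd
      have h2 := h1 _ (hyn d hd)
      rw [inv_inv] at h2
      -- `y a y⁻¹` centralises `d`
      have h3 : a * w * d = d * (a * w) := by
        rw [← hya]
        calc y * a * y⁻¹ * d = y * (a * (y⁻¹ * d * y)) * y⁻¹ := by group
          _ = y * (y⁻¹ * d * y * a) * y⁻¹ := by rw [h2]
          _ = d * (y * a * y⁻¹) := by group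
      have h4 := h1 d hd
      have h5 : a * (w * d) = a * (d * w) := by
        calc a * (w * d) = a * w * d := by group
          _ = d * a * w := by rw [h3]; group
          _ = a * (d * w) := by rw [← h4]; group
      exact (mul_left_cancel h5).symm
    · intro d hd
      have h2 := h1 _ (hyn d hd)
      rw [inv_inv] at h2
      have h6 : y * (a * w) * y⁻¹ = a := by
        calc y * (a * w) * y⁻¹ = y * a * (w * y⁻¹) := by group
          _ = y * a * (y⁻¹ * w) := by
            congr 1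
            rw [eq_inv_mul_iff_mul_eq, ← mul_assoc, ← hzy, mul_inv_cancel_right]
          _ = a * w * w := by rw [← mul_assoc, hya]
          _ = a := by rw [mul_assoc, hzq, mul_one]
      have h3 : a * d = d * a := by
        calc a * d = y * (a * w) * y⁻¹ * d := by rw [h6]
          _ = y * (a * w * (y⁻¹ * d * y)) * y⁻¹ := by group
          _ = y * (y⁻¹ * d * y * (a * w)) * y⁻¹ := by rw [h2]
          _ = d * (y * (a * w) * y⁻¹) := by group
          _ = d * a := by rw [h6]
      have h4 := h1 d hd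
      have h5 : a * (w * d) = a * (d * w) := by
        calc a * (w * d) = a * w * d := by group
          _ = d * a * w := by rw [h4]; group
          _ = a * (d * w) := by rw [← h3]; group
      exact (mul_left_cancel h5).symm
  change Piece (fb Om H) (PT Om H (K i)) at hp
  rcases hp with mem | ⟨nmem, qs, two, p, ch, τ, kind, ok, small, sl, zx⟩ |
    ⟨qs, two, p, prime, odd, iso, ne, zzc, three⟩ | ⟨qs, two, iso, ne, mem⟩
  · exact absurd mem hnm
  · exact ⟨τ, nmem, qs, ok, p, ch, kind, small, sl, zx⟩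
  · exact (key p prime odd iso qs two zzc three).elim
  · exact (Four.false_of_mathieu_two hf iso hA hB hleA hleB hcm hzz hni).elim

end

end Cfsg.Agent.Cit.TypeD4Pc
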