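import Cfsg.Agent.Cit.TypeD4End
import Cfsg.Agent.Cit.TypeD4Typ
import Cfsg.Agent.Cit.TypeD4Pc
import Cfsg.Agent.Cit.CloseOut
import Cfsg.Agent.Cit.FourEq

/-!
# All involutions `z_K`, `K ∈ Om(S)`, equal: `HasPieces Om`

* `typStmt` : `TypeD4End.TypStmt` (helper553, `TypeD4Typ`);
* `hasPieces` : `HasPieces Om`;
* `idStmt` : `FourEq.IdStmt`.
-/

set_option autoImplicit false
set_option linter.style.haveILetI false

namespace Cfsg.Agent.Cit.TypeD4Id

open Subgroup Cfsg Cfsg.Agent.Cit.EqClose Cfsg.Agent.Cit.TypeD4Cor Cfsg.Agent.Cit.TypeD4Const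
  Cfsg.Agent.Cit.TypeD4Ex Cfsg.Agent.Cit.TypeD4End

universe u

theorem typStmt {G : Type u} [Group G] [Finite G] (Om : Set (Subgroup G)) (p : ℕ) (F : Type*) [Field F] [Fintype F]
    [CharP F p] : TypStmt Om p F :=
  fun _ _ D _ hinj hz _ hcom _ _ _ _ hij hik hil hjk hjl hkl _ hy _ hy' hy2 hy2' _ P hi hj ch _ hch ok zx =>
    TypeD4Typ.card_VV' D hinj hz hcom hij hik hil hjk hjl hkl hy hy' hy2 hy2' P hi hj ch hch ok zx

theorem hasPieces {G : Type u} [Group G] [Finite G] {Om : Set (Subgroup G)} (ms : MinS Om) (e : EqFour Om)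
    (c : EqCor Om) (pc : PcStmt Om) (close : ∀ M : Subgroup G, Big Om M → M = ⊤)
    (solv : ∀ X : Subgroup G, ¬ 2 ∣ Nat.card X → Group.IsSolvable X) : HasPieces Om := by
  obtain ⟨p, F, i1, i2, ex⟩ := exists_ex ms e c pc close solv
  haveI := ex.char
  obtain ⟨ch, hch, hzx⟩ := exists_chart ms e c pc close ex (typStmt Om p F)
  have ok : KindOk (.D 4) := le_refl 4
  exact CloseOut.hasPieces_of_top ms (core_eq_bot ms e c pc close) ch (.D 4) hch ok
    (fun h => absurd h (by decide)) ⟨F, i1, i2, ex.char, ex.sl⟩ (Or.inl hzx) rfl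

/-- **`FourEq.IdStmt`** -/
theorem idStmt (odd : CoresG.OddStmt.{u}) : FourEq.IdStmt.{u} :=
  fun _ _ _ _ ms e c close => hasPieces ms e c (TypeD4Pc.pcStmt ms e c) close fun X hX => odd X hX

end Cfsg.Agent.Cit.TypeD4Id
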